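import Mathlib
import Cfsg.Prelude.Def_ClassicalGeometry
import Cfsg.Prelude.Def_GeometricClasses
import Cfsg.Agent.Lib.Helper5.SpMax
import Cfsg.Agent.Lib.Helper24.C3lDefs
import Cfsg.Agent.Lib.Helper24.C3lEL
import Cfsg.Agent.Lib.Helper24.C3lG
import Cfsg.Agent.Lib.Helper24.C3lD2Defs
import Cfsg.Agent.Lib.Helper24.C3lC3
import Cfsg.Agent.Lib.Helper23.C3lDet
import Cfsg.Agent.Lib.Helper11.C3lD3
import Cfsg.Agent.Lib.Helper9.C3lFn

/-!
helper28: S5886 leaf (gamma) of notes/S5886_d2_leaves.lean (`d = 2`): a non-`E`-linear element `1 + X` of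
`M ∩ R_L` gives an `F`-transvection in `M`.  Paper proof: notes/S5886_d2_helper11.md, step (gamma).
-/

set_option autoImplicit false
set_option linter.unusedSectionVars false
set_option linter.unusedVariables false
set_option linter.unusedSimpArgs false
set_option maxHeartbeats 800000

namespace Cfsg.Agent.Lib.Helper28.C3lLeaf
open Cfsg Matrix Module Cfsg.Agent.Lib.Helper5 Cfsg.Agent.Lib.Helper5.SpMax
  Cfsg.Agent.Lib.Helper24.C3l

universe u
variable {F : Type u} [Field F] {n : ℕ} {E : Type u} [Field E] [Algebra F E]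

local notation "𝕍" => (Fin n → F)
local notation "𝕄" => Matrix (Fin n) (Fin n) F

/-- two different `E`-lines span everything when `n = 2 r` -/
lemma line_sup_line_eq_top [FiniteDimensional F E] (S : KL n F E) (h2 : n = 2 * finrank F E)
    {v₀ w₀ : 𝕍} (hv₀ : v₀ ≠ 0) (hw₀ : w₀ ∉ S.line v₀) : S.line v₀ ⊔ S.line w₀ = ⊤ := by
  have hw0 : w₀ ≠ 0 := by
    rintro rfl
    exact hw₀ (Submodule.zero_mem _)
  have hinf : S.line v₀ ⊓ S.line w₀ = ⊥ := by
    rw [eq_bot_iff]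
    intro x hx
    rw [Submodule.mem_bot]
    by_contra hx0
    have e1 := S.line_eq_of_mem hx.1 hx0
    have e2 := S.line_eq_of_mem hx.2 hx0
    apply hw₀
    rw [← e1, e2]
    exact S.self_mem_line w₀
  apply Submodule.eq_top_of_finrank_eq
  have h := Submodule.finrank_sup_add_finrank_inf_eq (S.line v₀) (S.line w₀)
  rw [hinf, finrank_bot, S.finrank_line hv₀, S.finrank_line hw0] at h
  rw [Module.finrank_fin_fun]
  omega

/-- (gamma): a non-`E`-linear element of `M ∩ R_L` gives an `F`-transvection -/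
theorem hasTv_of_nonLin [Fintype F] (S : KL n F E) (hr : (finrank F E).Prime)
    (h2 : n = 2 * finrank F E) (M : Subgroup (GL (Fin n) F)) (hM : S.CenLe M)
    {v₀ : 𝕍} (hv₀ : v₀ ≠ 0) {g : GL (Fin n) F} (hg : g ∈ M)
    (hadj : finrank F ↥(S.line v₀ ⊓ img g (S.line v₀)) + 1 = finrank F E)
    (hX : NonLin S M v₀) : HasTv M := by
  haveI : FiniteDimensional F E := Module.finite_of_finrank_pos hr.pos
  haveI : Finite E := Module.finite_of_finite F
  haveI : Fintype E := Fintype.ofFinite E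
  obtain ⟨X, hXX, hXL, hXk, hXM, e₀, hXe⟩ := hX
  set L := S.line v₀ with hL
  set W := img g L with hW
  have hLdim : finrank F L = finrank F E := S.finrank_line hv₀
  have hWdim : finrank F W = finrank F E := by rw [hW, finrank_img, hLdim]
  have hr2 : 2 ≤ finrank F E := hr.two_le
  -- vectors outside the intersection
  have hLW : ¬ L ≤ W := by
    intro hle
    have : L ⊓ W = L := inf_eq_left.mpr hle
    rw [this, hLdim] at hadj
    omega
  have hWL : ¬ W ≤ L := by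
    intro hle
    have : L ⊓ W = W := inf_eq_right.mpr hle
    rw [this, hWdim] at hadj
    omega
  obtain ⟨w₁, hw₁L, hw₁W⟩ := SetLike.not_le_iff_exists.mp hLW
  obtain ⟨w₀, hw₀W, hw₀L⟩ := SetLike.not_le_iff_exists.mp hWL
  have hw₁U : w₁ ∉ L ⊓ W := fun h => hw₁W h.2
  have hw₀U : w₀ ∉ L ⊓ W := fun h => hw₀L h.1
  have hWsp : W ≤ (L ⊓ W) ⊔ Submodule.span F {w₀} :=
    le_sup_span_of_finrank inf_le_right hw₀W hw₀U (by rw [hWdim]; exact hadj)
  have hLsp : L ≤ (L ⊓ W) ⊔ Submodule.span F {w₁} :=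
    le_sup_span_of_finrank inf_le_left hw₁L hw₁U (by rw [hLdim]; exact hadj)
  have hw₀0 : w₀ ≠ 0 := by
    rintro rfl
    exact hw₀L (Submodule.zero_mem _)
  have htop : L ⊔ S.line w₀ = ⊤ := line_sup_line_eq_top S h2 hv₀ hw₀L
  have hv₀w : v₀ ∉ S.line w₀ := by
    intro h
    apply hw₀L
    rw [hL, S.line_eq_of_mem h hv₀]
    exact S.self_mem_line w₀
  -- the two coordinate functionals
  obtain ⟨φ₂, hφ₂, hφ₂v, hφ₂L, hφ₂w⟩ := S.exists_isEL_line hw₀L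
  obtain ⟨φ₁, hφ₁, hφ₁w, hφ₁Lw, hφ₁v⟩ := S.exists_isEL_line hv₀w
  have hLrep : ∀ l ∈ L, S.act (φ₁ l) v₀ = l := by
    intro l hl
    obtain ⟨c, rfl⟩ := S.mem_line.mp hl
    rw [hφ₁, hφ₁v, mul_one]
  -- step 1: make `X` vanish at `w₀`
  set v := X *ᵥ w₀ with hv
  have hvL : v ∈ L := hXL w₀
  have hφ₂vv : φ₂ v = 0 := hφ₂L v hvL
  set X' : 𝕄 := X - S.tvMat φ₂ v with hX'
  have hX'_mul : ∀ y, X' *ᵥ y = X *ᵥ y - S.act (φ₂ y) v := by
    intro y
    rw [hX', Matrix.sub_mulVec, S.tvMat_mulVec]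
  have hX'L : ∀ y, X' *ᵥ y ∈ L := by
    intro y
    rw [hX'_mul]
    exact L.sub_mem (hXL y) (S.act_mem_line_of_mem hvL _)
  have hX'k : ∀ y ∈ L, X' *ᵥ y = 0 := by
    intro y hy
    rw [hX'_mul, hXk y hy, hφ₂L y hy, S.act_zero, sub_zero]
  have hX'w : X' *ᵥ w₀ = 0 := by
    rw [hX'_mul, hφ₂w, S.act_one, sub_self]
  have hX'sq : X' * X' = 0 := sq_zero_of_range_le_ker S hX'L hX'k
  have hX'0 : X' ≠ 0 := by
    intro h0
    apply hXe
    have hXA : X = S.tvMat φ₂ v := by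
      have := sub_eq_zero.mp (hX'.symm.trans h0)
      exact this
    have hc := S.tv_comm hφ₂ hφ₂vv e₀
    rw [S.tv_val, add_mul, mul_add, one_mul, mul_one] at hc
    rw [hXA]
    exact add_left_cancel hc
  have hx1M : unipGL X' hX'sq ∈ M := by
    have htM : S.tv φ₂ v hφ₂ hφ₂vv ∈ M := S.tv_mem_of hM hφ₂ hφ₂vv
    have : unipGL X' hX'sq = unipGL X hXX * (S.tv φ₂ v hφ₂ hφ₂vv)⁻¹ := by
      apply Units.ext
      apply mat_eq_of_mulVec
      intro y
      rw [Units.val_mul, ← Matrix.mulVec_mulVec, S.tv_inv_mulVec, unipGL_mulVec, unipGL_mulVec,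
        hX'_mul, Matrix.mulVec_sub, hXk _ (S.act_mem_line_of_mem hvL _)]
      abel
    rw [this]
    exact M.mul_mem hXM (M.inv_mem htM)
  -- step 3 (N2): `a ≠ 0` with `a • (range X') ≤ W`
  have hrange : ¬ L ≤ LinearMap.range (Matrix.toLin' X') := by
    intro hle
    have h1 : finrank F L ≤ finrank F (LinearMap.range (Matrix.toLin' X')) :=
      Submodule.finrank_mono hle
    have hker : L ⊔ Submodule.span F {w₀} ≤ LinearMap.ker (Matrix.toLin' X') := by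
      apply sup_le
      · intro y hy
        rw [LinearMap.mem_ker, Matrix.toLin'_apply]
        exact hX'k y hy
      · rw [Submodule.span_singleton_le_iff_mem, LinearMap.mem_ker, Matrix.toLin'_apply]
        exact hX'w
    have hlt : L < L ⊔ Submodule.span F {w₀} := by
      apply lt_of_le_of_ne le_sup_left
      intro heq
      apply hw₀L
      rw [heq]
      exact Submodule.mem_sup_right (Submodule.mem_span_singleton_self w₀)
    have h3 := Submodule.finrank_lt_finrank_of_lt hlt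
    have h4 : finrank F ↥(L ⊔ Submodule.span F {w₀}) ≤
        finrank F (LinearMap.ker (Matrix.toLin' X')) := Submodule.finrank_mono hker
    have h5 := LinearMap.finrank_range_add_finrank_ker (Matrix.toLin' X')
    rw [Module.finrank_fin_fun] at h5
    omega
  obtain ⟨l₁, hl₁L, hl₁Z⟩ := SetLike.not_le_iff_exists.mp hrange
  obtain ⟨fZ, hfZl, hfZ⟩ := Submodule.exists_le_ker_of_notMem hl₁Z
  obtain ⟨fW, hfWw, hfW⟩ := Submodule.exists_le_ker_of_notMem hw₁W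
  have hfW_mem : ∀ l ∈ L, fW l = 0 → l ∈ W := by
    intro l hl h0
    obtain ⟨u, hu, b, hb, rfl⟩ := Submodule.mem_sup.mp (hLsp hl)
    obtain ⟨c, rfl⟩ := Submodule.mem_span_singleton.mp hb
    have hu0 : fW u = 0 := LinearMap.mem_ker.mp (hfW hu.2)
    rw [map_add, hu0, zero_add, map_smul, smul_eq_mul] at h0
    have hc : c = 0 := by
      rcases mul_eq_zero.mp h0 with h | h
      · exact h
      · exact absurd h hfWw
    rw [hc, zero_smul, add_zero]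
    exact hu.2
  set τ : E →ₗ[F] F := fW.comp (S.orb v₀) with hτ
  set μ : E →ₗ[F] F := fZ.comp (S.orb v₀) with hμ
  have hτ_apply : ∀ c, τ c = fW (S.act c v₀) := fun c => rfl
  have hμ_apply : ∀ c, μ c = fZ (S.act c v₀) := fun c => rfl
  have hτ0 : τ ≠ 0 := by
    intro h0
    apply hfWw
    have := hτ_apply (φ₁ w₁)
    rw [hLrep w₁ hw₁L, h0, LinearMap.zero_apply] at this
    exact this.symm
  have hμ0 : μ ≠ 0 := by
    intro h0
    apply hfZl
    have := hμ_apply (φ₁ l₁)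
    rw [hLrep l₁ hl₁L, h0, LinearMap.zero_apply] at this
    exact this.symm
  obtain ⟨a, ha⟩ := Cfsg.Agent.Lib.Helper9.C3lLeaf.exists_mul_functional τ hτ0 μ
  have ha0 : a ≠ 0 := by
    rintro rfl
    apply hμ0
    ext b
    rw [ha b, zero_mul, map_zero, LinearMap.zero_apply]
  have haW : ∀ y, S.act a (X' *ᵥ y) ∈ L ⊓ W := by
    intro y
    have hyL := hX'L y
    have hrep := hLrep _ hyL
    have hmemZ : X' *ᵥ y ∈ LinearMap.range (Matrix.toLin' X') :=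
      ⟨y, by rw [Matrix.toLin'_apply]⟩
    have h1 : μ (φ₁ (X' *ᵥ y)) = 0 := by
      rw [hμ_apply, hrep]
      exact LinearMap.mem_ker.mp (hfZ hmemZ)
    rw [ha] at h1
    rw [hτ_apply, S.act_mul, hrep] at h1
    have haL : S.act a (X' *ᵥ y) ∈ L := S.act_mem_line_of_mem hyL a
    exact ⟨haL, hfW_mem _ haL h1⟩
  -- (N1): the second dilation factor
  let Y0 : AddSubgroup E :=
    { carrier := {c | X' *ᵥ S.act c w₀ = 0}
      add_mem' := by
        intro b c hb hc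
        simp only [Set.mem_ofPred_eq] at hb hc ⊢
        rw [S.act_add, Matrix.mulVec_add, hb, hc, add_zero]
      zero_mem' := by
        simp only [Set.mem_ofPred_eq]
        rw [S.act_zero, Matrix.mulVec_zero]
      neg_mem' := by
        intro b hb
        simp only [Set.mem_ofPred_eq] at hb ⊢
        rw [S.act_neg, Matrix.mulVec_neg, hb, neg_zero] }
  have hY0_mem : ∀ c, c ∈ Y0 ↔ X' *ᵥ S.act c w₀ = 0 := fun c => Iff.rfl
  have hY0 : Y0 ≠ ⊤ := by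
    intro htopY
    apply hX'0
    apply mat_eq_of_mulVec
    intro y
    rw [Matrix.zero_mulVec]
    have hy : y ∈ L ⊔ S.line w₀ := by rw [htop]; exact Submodule.mem_top
    obtain ⟨l, hl, z, hz, rfl⟩ := Submodule.mem_sup.mp hy
    obtain ⟨c, rfl⟩ := S.mem_line.mp hz
    have hc : c ∈ Y0 := by rw [htopY]; exact AddSubgroup.mem_top c
    rw [Matrix.mulVec_add, hX'k l hl, (hY0_mem c).mp hc, add_zero]
  obtain ⟨e, he0, heY⟩ :=
    Cfsg.Agent.Lib.Helper11.C3lLeaf.exists_mul_pow_not_mem (F := F) hr2 Y0 hY0 ha0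
  set k' : E := a * e ^ (Fintype.card F - 1) with hk'
  have hk'0 : k' ≠ 0 := mul_ne_zero ha0 (pow_ne_zero _ he0)
  have hk0 : a⁻¹ ≠ 0 := inv_ne_zero ha0
  set p := X' *ᵥ S.act k' w₀ with hp
  have hp0 : p ≠ 0 := fun h => heY ((hY0_mem k').mpr h)
  -- the dilations
  set d₁ := Cfsg.Agent.Lib.Helper23.C3lLeaf.dilGL S hφ₁ hφ₁v hk0 with hd₁
  set d₂ := Cfsg.Agent.Lib.Helper23.C3lLeaf.dilGL S hφ₂ hφ₂w hk'0 with hd₂
  have hd₁_mul : ∀ y, (d₁ : 𝕄) *ᵥ y = y + S.act ((a⁻¹ - 1) * φ₁ y) v₀ := fun y =>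
    Cfsg.Agent.Lib.Helper23.C3lLeaf.dilGL_mulVec S hφ₁ hφ₁v hk0 y
  have hd₂_mul : ∀ y, (d₂ : 𝕄) *ᵥ y = y + S.act ((k' - 1) * φ₂ y) w₀ := fun y =>
    Cfsg.Agent.Lib.Helper23.C3lLeaf.dilGL_mulVec S hφ₂ hφ₂w hk'0 y
  set h := d₁ * d₂ with hh
  have hhM : h ∈ M := by
    apply hM
    · rw [mem_specialLinear, hh, Units.val_mul, Matrix.det_mul,
        Cfsg.Agent.Lib.Helper23.C3lLeaf.det_dilGL, Cfsg.Agent.Lib.Helper23.C3lLeaf.det_dilGL,
        ← map_mul, hk', inv_mul_cancel_left₀ ha0, map_pow]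
      apply FiniteField.pow_card_sub_one_eq_one
      rw [Algebra.norm_ne_zero_iff]
      exact he0
    · intro c
      rw [hh, Units.val_mul, mul_assoc,
        Cfsg.Agent.Lib.Helper23.C3lLeaf.dilGL_comm S hφ₂ hφ₂w hk'0 c, ← mul_assoc,
        Cfsg.Agent.Lib.Helper23.C3lLeaf.dilGL_comm S hφ₁ hφ₁v hk0 c, mul_assoc]
  have hh_L : ∀ l ∈ L, (h : 𝕄) *ᵥ l = S.act a⁻¹ l := by
    intro l hl
    obtain ⟨c, rfl⟩ := S.mem_line.mp hl
    rw [hh, Units.val_mul, ← Matrix.mulVec_mulVec, hd₂_mul, hφ₂, hφ₂v, mul_zero, mul_zero,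
      S.act_zero, add_zero, hd₁_mul, hφ₁, hφ₁v, mul_one, ← S.act_add, ← S.act_mul]
    congr 1
    ring
  have hh_w : (h : 𝕄) *ᵥ w₀ = S.act k' w₀ := by
    rw [hh, Units.val_mul, ← Matrix.mulVec_mulVec, hd₂_mul, hφ₂w, mul_one, hd₁_mul]
    have e1 : w₀ + S.act (k' - 1) w₀ = S.act k' w₀ := by
      rw [S.act_sub, S.act_one]; abel
    rw [e1, hφ₁, hφ₁w, mul_zero, mul_zero, S.act_zero, add_zero]
  set g' := h * g with hg'
  have hg'M : g' ∈ M := M.mul_mem hhM hg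
  set W' := img g' L with hW'
  -- elements of W'
  have hW'_form : ∀ x ∈ W', ∃ u ∈ L ⊓ W, ∃ c : F, x = S.act a⁻¹ u + c • S.act k' w₀ := by
    intro x hx
    obtain ⟨l, hl, rfl⟩ := mem_img.mp hx
    have hgl : (g : 𝕄) *ᵥ l ∈ W := mulVec_mem_img hl
    obtain ⟨u, hu, b, hb, hub⟩ := Submodule.mem_sup.mp (hWsp hgl)
    obtain ⟨c, rfl⟩ := Submodule.mem_span_singleton.mp hb
    refine ⟨u, hu, c, ?_⟩
    rw [hg', Units.val_mul, ← Matrix.mulVec_mulVec, ← hub, Matrix.mulVec_add, hh_L u hu.1,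
      Matrix.mulVec_smul, hh_w]
  have hX'_on_W' : ∀ x ∈ W', ∃ c : F, X' *ᵥ x = c • p := by
    intro x hx
    obtain ⟨u, hu, c, rfl⟩ := hW'_form x hx
    refine ⟨c, ?_⟩
    rw [Matrix.mulVec_add, hX'k _ (S.act_mem_line_of_mem hu.1 _), zero_add, Matrix.mulVec_smul]
  have hrangeW' : ∀ y, X' *ᵥ y ∈ W' := by
    intro y
    have hu := haW y
    have hgu : ((g⁻¹ : GL (Fin n) F) : 𝕄) *ᵥ S.act a (X' *ᵥ y) ∈ L := mem_img_iff.mp hu.2
    have : X' *ᵥ y = (g' : 𝕄) *ᵥ (((g⁻¹ : GL (Fin n) F) : 𝕄) *ᵥ S.act a (X' *ᵥ y)) := by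
      rw [hg', Units.val_mul, ← Matrix.mulVec_mulVec, mul_inv_mulVec, hh_L _ hu.1,
        S.act_inv_act ha0]
    rw [this]
    exact mulVec_mem_img hgu
  have hkw_W' : S.act k' w₀ ∈ W' := by
    have hgw : ((g⁻¹ : GL (Fin n) F) : 𝕄) *ᵥ w₀ ∈ L := mem_img_iff.mp hw₀W
    have : S.act k' w₀ = (g' : 𝕄) *ᵥ (((g⁻¹ : GL (Fin n) F) : 𝕄) *ᵥ w₀) := by
      rw [hg', Units.val_mul, ← Matrix.mulVec_mulVec, mul_inv_mulVec, hh_w]
    rw [this]
    exact mulVec_mem_img hgw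
  -- step 4: the conjugated nilpotent map
  set Bf : 𝕍 →ₗ[F] 𝕍 := (Matrix.toLin' (g' : 𝕄)).comp
    ((S.tvLin φ₂ v₀).comp (Matrix.toLin' ((g'⁻¹ : GL (Fin n) F) : 𝕄))) with hBf
  have Bf_apply : ∀ x, Bf x = (g' : 𝕄) *ᵥ S.act (φ₂ (((g'⁻¹ : GL (Fin n) F) : 𝕄) *ᵥ x)) v₀ := by
    intro x
    rfl
  have hBfW : ∀ x, Bf x ∈ W' := by
    intro x
    rw [Bf_apply]
    exact mulVec_mem_img (S.act_mem_line _ _)
  have hBf0 : ∀ x ∈ W', Bf x = 0 := by
    intro x hx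
    rw [Bf_apply, hφ₂L _ (mem_img_iff.mp hx), S.act_zero, Matrix.mulVec_zero]
  set tb := S.tv φ₂ v₀ hφ₂ hφ₂v with htb
  have htbM : tb ∈ M := S.tv_mem_of hM hφ₂ hφ₂v
  set tB := g' * tb * g'⁻¹ with htB
  set tBi := g' * tb⁻¹ * g'⁻¹ with htBi
  have htBM : tB ∈ M := M.mul_mem (M.mul_mem hg'M htbM) (M.inv_mem hg'M)
  have htBiM : tBi ∈ M := M.mul_mem (M.mul_mem hg'M (M.inv_mem htbM)) (M.inv_mem hg'M)
  have htB_mul : ∀ x, (tB : 𝕄) *ᵥ x = x + Bf x := by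
    intro x
    rw [htB, Units.val_mul, Units.val_mul, ← Matrix.mulVec_mulVec, ← Matrix.mulVec_mulVec, htb,
      S.tv_mulVec, Matrix.mulVec_add, mul_inv_mulVec, Bf_apply]
  have htBi_mul : ∀ x, (tBi : 𝕄) *ᵥ x = x - Bf x := by
    intro x
    rw [htBi, Units.val_mul, Units.val_mul, ← Matrix.mulVec_mulVec, ← Matrix.mulVec_mulVec, htb,
      S.tv_inv_mulVec, Matrix.mulVec_sub, mul_inv_mulVec, Bf_apply]
  -- a functional with value one at `p`
  obtain ⟨f, hfp, -⟩ := Submodule.exists_le_ker_of_notMem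
    (p := (⊥ : Submodule F 𝕍)) (v := p) (by rw [Submodule.mem_bot]; exact hp0)
  set lam : 𝕍 →ₗ[F] F := (f p)⁻¹ • f with hlam
  have hlam1 : lam p = 1 := by
    rw [hlam, LinearMap.smul_apply, smul_eq_mul, inv_mul_cancel₀ hfp]
  set χ : 𝕍 →ₗ[F] F := -(lam.comp ((Matrix.toLin' X').comp Bf)) with hχ
  have hχ_apply : ∀ x, χ x = -lam (X' *ᵥ Bf x) := by
    intro x
    rw [hχ, LinearMap.neg_apply, LinearMap.comp_apply, LinearMap.comp_apply, Matrix.toLin'_apply]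
  have hXB : ∀ x, X' *ᵥ Bf x = lam (X' *ᵥ Bf x) • p := by
    intro x
    obtain ⟨c, hc⟩ := hX'_on_W' (Bf x) (hBfW x)
    rw [hc, map_smul, hlam1, smul_eq_mul, mul_one]
  set x1 := unipGL X' hX'sq with hx1
  have hc : tB * x1 * tBi * x1⁻¹ ∈ M :=
    M.mul_mem (M.mul_mem (M.mul_mem htBM hx1M) htBiM) (M.inv_mem hx1M)
  refine exists_ftv_of_rank_one (χ := χ) hc hp0 ?_ ?_ ?_
  · -- `χ ≠ 0`
    intro h0
    have hgw : ((g⁻¹ : GL (Fin n) F) : 𝕄) *ᵥ w₀ ∈ L := mem_img_iff.mp hw₀W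
    set l₀ := ((g⁻¹ : GL (Fin n) F) : 𝕄) *ᵥ w₀ with hl₀
    have hg'l₀ : (g' : 𝕄) *ᵥ l₀ = S.act k' w₀ := by
      rw [hg', Units.val_mul, ← Matrix.mulVec_mulVec, hl₀, mul_inv_mulVec, hh_w]
    set vv := (g' : 𝕄) *ᵥ S.act (φ₁ l₀) w₀ with hvv
    have hBvv : Bf vv = S.act k' w₀ := by
      rw [Bf_apply, hvv, inv_mul_mulVec, hφ₂, hφ₂w, mul_one, hLrep l₀ hgw, hg'l₀]
    have := hχ_apply vv
    rw [h0, LinearMap.zero_apply, hBvv, ← hp, hlam1] at this
    have h1 : (1 : F) = 0 := by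
      have h2' := congrArg (fun t : F => -t) this
      simpa using h2'.symm
    exact one_ne_zero h1
  · -- `χ p = 0`
    rw [hχ_apply, hBf0 p (hrangeW' _), Matrix.mulVec_zero, map_zero, neg_zero]
  · -- the commutator
    intro x
    rw [Units.val_mul, Units.val_mul, Units.val_mul, ← Matrix.mulVec_mulVec, ← Matrix.mulVec_mulVec,
      ← Matrix.mulVec_mulVec, hx1, unipGL_inv_mulVec, htBi_mul, unipGL_mulVec, htB_mul]
    have e1 : Bf (x - X' *ᵥ x) = Bf x := by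
      rw [map_sub, hBf0 _ (hrangeW' x), sub_zero]
    have e2 : X' *ᵥ (x - X' *ᵥ x - Bf x) = X' *ᵥ x - X' *ᵥ Bf x := by
      rw [Matrix.mulVec_sub, Matrix.mulVec_sub, hX'k _ (hX'L x), sub_zero]
    rw [e1, e2]
    have e3 : Bf (x - X' *ᵥ x - Bf x + (X' *ᵥ x - X' *ᵥ Bf x)) = Bf x := by
      rw [map_add, map_sub, map_sub, map_sub, hBf0 _ (hrangeW' x), hBf0 _ (hBfW x),
        hBf0 _ (hrangeW' (Bf x))]
      abel
    rw [e3, hχ_apply, neg_smul, ← hXB]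
    abel

end Cfsg.Agent.Lib.Helper28.C3lLeaf
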