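import Mathlib
import Cfsg.Prelude.Def_Sporadic_a
set_option autoImplicit false

/-!
Computational model of the length-24 binary code `Cfsg.golayCode` of `Def_Sporadic_a`:
points are numbered `0..23` (`enc`/`dec`), words and subsets are bitmasks (natural numbers below
`2 ^ 24`), the code has an explicit reduced basis, membership is decided by `inCode`.
-/

namespace Cfsg.Agent.Lib.Helper28.GolayCode
open Cfsg

/-! ### Points as numbers -/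

/-- encoding of the 24 points as numbers below 24: residue `x` is `x`, the extra point is `23`. -/
def enc : GolayPt → ℕ
  | none => 23
  | some x => x.val

/-- decoding of numbers to points (numbers `≥ 23` go to the extra point). -/
def dec (i : ℕ) : GolayPt := if h : i < 23 then some (Fin.mk i h : ZMod 23) else none

theorem dec_enc (p : GolayPt) : dec (enc p) = p := by
  revert p; decide +kernel

theorem enc_lt (p : GolayPt) : enc p < 24 := by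
  revert p; decide +kernel

theorem enc_dec (i : ℕ) (h : i < 24) : enc (dec i) = i := by
  interval_cases i <;> rfl

theorem enc_injective : Function.Injective enc := by
  intro p q h
  rw [← dec_enc p, ← dec_enc q, h]

theorem dec_injOn (i j : ℕ) (hi : i < 24) (hj : j < 24) (h : dec i = dec j) : i = j := by
  rw [← enc_dec i hi, ← enc_dec j hj, h]

/-! ### Words and sets from bitmasks -/

/-- the word with given bitmask -/
def wordOf (m : ℕ) : GolayPt → ZMod 2 := fun p => if m.testBit (enc p) then 1 else 0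

/-- the set with given bitmask -/
def bset (m : ℕ) : Finset GolayPt := Finset.univ.filter fun p => m.testBit (enc p) = true

/-- the bitmask of a set -/
def maskOf (s : Finset GolayPt) : ℕ := Nat.ofBits (fun i : Fin 24 => decide (dec i ∈ s))

/-- bit `i` of `m` as a number `0` or `1` (fast in the kernel) -/
def bitN (m i : ℕ) : ℕ := Nat.land (Nat.shiftRight m i) 1

theorem bitN_eq (m i : ℕ) : bitN m i = if m.testBit i = true then 1 else 0 := by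
  unfold bitN
  show (m >>> i) &&& 1 = _
  rw [Nat.and_one_is_mod, Nat.testBit_eq_decide_div_mod_eq, Nat.shiftRight_eq_div_pow]
  have : m / 2 ^ i % 2 = 0 ∨ m / 2 ^ i % 2 = 1 := by omega
  rcases this with h | h <;> simp [h]

theorem bitN_eq_one_iff (m i : ℕ) : bitN m i = 1 ↔ m.testBit i = true := by
  rw [bitN_eq]; split_ifs with h <;> simp [h]

theorem bitN_eq_zero_iff (m i : ℕ) : bitN m i = 0 ↔ m.testBit i = false := by
  rw [bitN_eq]; split_ifs with h <;> simp [h]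

theorem nat_beq_iff (a b : ℕ) : Nat.beq a b = true ↔ a = b :=
  ⟨Nat.eq_of_beq_eq_true, fun h => h ▸ Nat.beq_refl a⟩

/-- summation loop by the recursor of `ℕ` (fast in the kernel) -/
noncomputable def sumLoop (f : ℕ → ℕ) (n : ℕ) : ℕ :=
  @Nat.rec (fun _ => ℕ) 0 (fun i ih => Nat.add (f i) ih) n

theorem sumLoop_succ (f : ℕ → ℕ) (n : ℕ) : sumLoop f (n + 1) = f n + sumLoop f n := rfl

theorem sumLoop_eq (f : ℕ → ℕ) (n : ℕ) : sumLoop f n = ∑ i ∈ Finset.range n, f i := by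
  induction n with
  | zero => rfl
  | succ k ih => rw [Finset.sum_range_succ, ← ih, sumLoop_succ, add_comm]

/-- conjunction loop by the recursor of `ℕ` (fast in the kernel) -/
noncomputable def allLoop (f : ℕ → Bool) (n : ℕ) : Bool :=
  @Nat.rec (fun _ => Bool) true (fun i ih => and (f i) ih) n

theorem allLoop_succ (f : ℕ → Bool) (n : ℕ) : allLoop f (n + 1) = (f n && allLoop f n) := rfl

theorem allLoop_eq_true (f : ℕ → Bool) (n : ℕ) : allLoop f n = true ↔ ∀ i, i < n → f i = true := by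
  induction n with
  | zero => simp [allLoop]
  | succ k ih =>
    rw [allLoop_succ, Bool.and_eq_true, ih]
    constructor
    · rintro ⟨h1, h2⟩ i hi
      rcases Nat.lt_succ_iff_lt_or_eq.mp hi with h | h
      · exact h2 i h
      · rw [h]; exact h1
    · intro h
      exact ⟨h k (Nat.lt_succ_self k), fun i hi => h i (Nat.lt_succ_of_lt hi)⟩

/-- number of ones among the lowest 24 bits -/
noncomputable def popc (m : ℕ) : ℕ := sumLoop (bitN m) 24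

theorem mem_bset (m : ℕ) (p : GolayPt) : p ∈ bset m ↔ m.testBit (enc p) = true := by
  simp [bset]

theorem wordOf_apply (m : ℕ) (p : GolayPt) : wordOf m p = if m.testBit (enc p) then 1 else 0 := rfl

theorem support_wordOf (m : ℕ) : support₂ (wordOf m) = bset m := by
  ext p
  simp only [support₂, bset, wordOf, Finset.mem_filter, Finset.mem_univ, true_and]
  by_cases h : m.testBit (enc p) <;> simp [h]

theorem wordOf_xor (m n : ℕ) : wordOf (m ^^^ n) = wordOf m + wordOf n := by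
  funext p
  simp only [wordOf, Nat.testBit_xor, Pi.add_apply]
  cases m.testBit (enc p) <;> cases n.testBit (enc p) <;> decide

theorem wordOf_zero : wordOf 0 = 0 := by
  funext p; simp [wordOf]

theorem wordOf_ite (c : Prop) [Decidable c] (g : ℕ) :
    wordOf (if c then g else 0) = (if c then (1 : ZMod 2) else 0) • wordOf g := by
  by_cases h : c <;> simp [h, wordOf_zero]

theorem maskOf_lt (s : Finset GolayPt) : maskOf s < 2 ^ 24 := Nat.ofBits_lt_two_pow _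

theorem testBit_maskOf (s : Finset GolayPt) (i : ℕ) (h : i < 24) :
    (maskOf s).testBit i = decide (dec i ∈ s) := by
  unfold maskOf
  rw [Nat.testBit_ofBits_lt _ _ h]

theorem testBit_maskOf_ge (s : Finset GolayPt) (i : ℕ) (h : 24 ≤ i) :
    (maskOf s).testBit i = false :=
  Nat.testBit_lt_two_pow (lt_of_lt_of_le (maskOf_lt s) (Nat.pow_le_pow_right (by norm_num) h))

theorem bset_maskOf (s : Finset GolayPt) : bset (maskOf s) = s := by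
  ext p
  rw [mem_bset, testBit_maskOf s _ (enc_lt p), dec_enc]
  simp

theorem eq_of_testBit_lt (m n : ℕ) (hm : m < 2 ^ 24) (hn : n < 2 ^ 24)
    (h : ∀ i, i < 24 → m.testBit i = n.testBit i) : m = n := by
  apply Nat.eq_of_testBit_eq
  intro i
  by_cases hi : i < 24
  · exact h i hi
  · have h24 : 2 ^ 24 ≤ 2 ^ i := Nat.pow_le_pow_right (by norm_num) (by omega)
    rw [Nat.testBit_lt_two_pow (lt_of_lt_of_le hm h24),
      Nat.testBit_lt_two_pow (lt_of_lt_of_le hn h24)]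

theorem maskOf_bset (m : ℕ) (hm : m < 2 ^ 24) : maskOf (bset m) = m := by
  apply eq_of_testBit_lt _ _ (maskOf_lt _) hm
  intro i hi
  rw [testBit_maskOf _ _ hi]
  by_cases h : m.testBit i = true
  · rw [h]; simp only [decide_eq_true_eq, mem_bset]; rw [enc_dec i hi]; exact h
  · rw [Bool.not_eq_true] at h
    rw [h]; simp only [decide_eq_false_iff_not, mem_bset]; rw [enc_dec i hi, h]; simp

theorem bset_inj (m n : ℕ) (hm : m < 2 ^ 24) (hn : n < 2 ^ 24) (h : bset m = bset n) :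
    m = n := by
  rw [← maskOf_bset m hm, ← maskOf_bset n hn, h]

theorem wordOf_inj (m n : ℕ) (hm : m < 2 ^ 24) (hn : n < 2 ^ 24) (h : wordOf m = wordOf n) :
    m = n := by
  apply bset_inj m n hm hn
  rw [← support_wordOf, ← support_wordOf, h]

theorem bset_and (m n : ℕ) : bset (m &&& n) = bset m ∩ bset n := by
  ext p; simp [mem_bset, Nat.testBit_and]

theorem bset_or (m n : ℕ) : bset (m ||| n) = bset m ∪ bset n := by
  ext p; simp [mem_bset, Nat.testBit_or]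

theorem bset_xor (m n : ℕ) : bset (m ^^^ n) = symmDiff (bset m) (bset n) := by
  ext p
  simp only [mem_bset, Nat.testBit_xor, Finset.mem_symmDiff]
  cases m.testBit (enc p) <;> cases n.testBit (enc p) <;> simp

theorem bset_zero : bset 0 = ∅ := by
  ext p; simp [mem_bset]

theorem card_bset (m : ℕ) : (bset m).card = popc m := by
  have h1 : bset m = ((Finset.range 24).filter fun i => m.testBit i = true).image dec := by
    ext p
    simp only [mem_bset, Finset.mem_image, Finset.mem_filter, Finset.mem_range]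
    constructor
    · intro h; exact ⟨enc p, ⟨enc_lt p, h⟩, dec_enc p⟩
    · rintro ⟨i, ⟨hi, hb⟩, rfl⟩; rw [enc_dec i hi]; exact hb
  rw [h1, Finset.card_image_of_injOn]
  · unfold popc
    rw [sumLoop_eq, Finset.card_filter]
    exact Finset.sum_congr rfl fun i _ => (bitN_eq m i).symm
  · intro i hi j hj h
    simp only [Finset.coe_filter, Finset.mem_range, Set.mem_ofPred_eq] at hi hj
    exact dec_injOn i j hi.1 hj.1 h

/-- every word is the word of the mask of its support -/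
theorem wordOf_maskOf_support (w : GolayPt → ZMod 2) : wordOf (maskOf (support₂ w)) = w := by
  funext p
  rw [wordOf_apply, testBit_maskOf _ _ (enc_lt p), dec_enc]
  simp only [support₂, Finset.mem_filter, Finset.mem_univ, true_and, decide_eq_true_eq]
  have : ∀ a : ZMod 2, (if a ≠ 0 then (1 : ZMod 2) else 0) = a := by decide
  exact this (w p)

theorem support_injective : Function.Injective (support₂ : (GolayPt → ZMod 2) → Finset GolayPt) := by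
  intro v w h
  rw [← wordOf_maskOf_support v, ← wordOf_maskOf_support w, h]

/-! ### The reduced basis -/

/-- the twelve basis masks (reduced echelon form, pivots at positions 12..23). -/
def gen : Fin 12 → ℕ :=
  ![0x149f, 0x293e, 0x46e3, 0x8dc6, 0x10f13, 0x20ab9, 0x401ed, 0x803da, 0x1007b4, 0x200f68,
    0x400a4f, 0x800c75]

/-- basis words -/
def G (j : Fin 12) : GolayPt → ZMod 2 := wordOf (gen j)

/-- pivot points -/
def piv (j : Fin 12) : GolayPt := dec (12 + j)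

theorem G_piv : ∀ i j : Fin 12, G j (piv i) = if i = j then 1 else 0 := by decide +kernel

theorem gen0_eq : wordOf 0x149f = qrWord 0 + qrWord 3 + qrWord 4 + qrWord 6 + qrWord 8 := by decide +kernel
theorem gen1_eq : wordOf 0x293e = qrWord 1 + qrWord 4 + qrWord 5 + qrWord 7 + qrWord 9 := by decide +kernel
theorem gen2_eq : wordOf 0x46e3 = qrWord 0 + qrWord 2 + qrWord 3 + qrWord 4 + qrWord 5 + qrWord 10 := by decide +kernel
theorem gen3_eq : wordOf 0x8dc6 = qrWord 0 + qrWord 3 + qrWord 4 + qrWord 7 + qrWord 9 := by decide +kernel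
theorem gen4_eq : wordOf 0x10f13 = qrWord 0 + qrWord 1 + qrWord 3 + qrWord 5 + qrWord 6 + qrWord 10 := by decide +kernel
theorem gen5_eq : wordOf 0x20ab9 = qrWord 2 + qrWord 3 + qrWord 5 + qrWord 6 + qrWord 8 + qrWord 9 := by decide +kernel
theorem gen6_eq : wordOf 0x401ed = qrWord 0 + qrWord 7 + qrWord 8 + qrWord 9 + qrWord 10 := by decide +kernel
theorem gen7_eq : wordOf 0x803da = qrWord 0 + qrWord 5 + qrWord 6 + qrWord 7 + qrWord 8 + qrWord 10 := by decide +kernel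
theorem gen8_eq : wordOf 0x1007b4 = qrWord 0 + qrWord 5 + qrWord 8 := by decide +kernel
theorem gen9_eq : wordOf 0x200f68 = qrWord 1 + qrWord 6 + qrWord 9 := by decide +kernel
theorem gen10_eq : wordOf 0x400a4f = qrWord 0 + qrWord 2 + qrWord 3 + qrWord 4 + qrWord 6 + qrWord 7 + qrWord 8 + qrWord 10 := by decide +kernel
theorem gen11_eq : wordOf 0x800c75 = qrWord 1 + qrWord 2 + qrWord 4 + qrWord 7 + qrWord 9 + qrWord 10 + 1 := by decide +kernel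

theorem qrWord_mem (t : ZMod 23) : qrWord t ∈ golayCode :=
  Submodule.subset_span (Or.inl ⟨t, rfl⟩)

theorem one_mem : (1 : GolayPt → ZMod 2) ∈ golayCode :=
  Submodule.subset_span (Or.inr rfl)

theorem G_mem (j : Fin 12) : G j ∈ golayCode := by
  have hq := qrWord_mem
  have h1 := one_mem
  fin_cases j
  · show wordOf 0x149f ∈ _
    rw [gen0_eq]; exact golayCode.add_mem (golayCode.add_mem (golayCode.add_mem (golayCode.add_mem (hq _) (hq _)) (hq _)) (hq _)) (hq _)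
  · show wordOf 0x293e ∈ _
    rw [gen1_eq]; exact golayCode.add_mem (golayCode.add_mem (golayCode.add_mem (golayCode.add_mem (hq _) (hq _)) (hq _)) (hq _)) (hq _)
  · show wordOf 0x46e3 ∈ _
    rw [gen2_eq]; exact golayCode.add_mem (golayCode.add_mem (golayCode.add_mem (golayCode.add_mem (golayCode.add_mem (hq _) (hq _)) (hq _)) (hq _)) (hq _)) (hq _)
  · show wordOf 0x8dc6 ∈ _
    rw [gen3_eq]; exact golayCode.add_mem (golayCode.add_mem (golayCode.add_mem (golayCode.add_mem (hq _) (hq _)) (hq _)) (hq _)) (hq _)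
  · show wordOf 0x10f13 ∈ _
    rw [gen4_eq]; exact golayCode.add_mem (golayCode.add_mem (golayCode.add_mem (golayCode.add_mem (golayCode.add_mem (hq _) (hq _)) (hq _)) (hq _)) (hq _)) (hq _)
  · show wordOf 0x20ab9 ∈ _
    rw [gen5_eq]; exact golayCode.add_mem (golayCode.add_mem (golayCode.add_mem (golayCode.add_mem (golayCode.add_mem (hq _) (hq _)) (hq _)) (hq _)) (hq _)) (hq _)
  · show wordOf 0x401ed ∈ _
    rw [gen6_eq]; exact golayCode.add_mem (golayCode.add_mem (golayCode.add_mem (golayCode.add_mem (hq _) (hq _)) (hq _)) (hq _)) (hq _)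
  · show wordOf 0x803da ∈ _
    rw [gen7_eq]; exact golayCode.add_mem (golayCode.add_mem (golayCode.add_mem (golayCode.add_mem (golayCode.add_mem (hq _) (hq _)) (hq _)) (hq _)) (hq _)) (hq _)
  · show wordOf 0x1007b4 ∈ _
    rw [gen8_eq]; exact golayCode.add_mem (golayCode.add_mem (hq _) (hq _)) (hq _)
  · show wordOf 0x200f68 ∈ _
    rw [gen9_eq]; exact golayCode.add_mem (golayCode.add_mem (hq _) (hq _)) (hq _)
  · show wordOf 0x400a4f ∈ _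
    rw [gen10_eq]; exact golayCode.add_mem (golayCode.add_mem (golayCode.add_mem (golayCode.add_mem (golayCode.add_mem (golayCode.add_mem (golayCode.add_mem (hq _) (hq _)) (hq _)) (hq _)) (hq _)) (hq _)) (hq _)) (hq _)
  · show wordOf 0x800c75 ∈ _
    rw [gen11_eq]; exact golayCode.add_mem (golayCode.add_mem (golayCode.add_mem (golayCode.add_mem (golayCode.add_mem (golayCode.add_mem (hq _) (hq _)) (hq _)) (hq _)) (hq _)) (hq _)) h1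

/-- the systematic re-encoding of a word from its pivot coordinates -/
def reenc (w : GolayPt → ZMod 2) : GolayPt → ZMod 2 := ∑ j : Fin 12, w (piv j) • G j

theorem reenc_qr : ∀ t : ZMod 23, reenc (qrWord t) = qrWord t := by decide +kernel

theorem reenc_one : reenc (1 : GolayPt → ZMod 2) = 1 := by decide +kernel

theorem reenc_add (v w : GolayPt → ZMod 2) : reenc (v + w) = reenc v + reenc w := by
  simp only [reenc, Pi.add_apply, add_smul, Finset.sum_add_distrib]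

theorem reenc_smul (c : ZMod 2) (w : GolayPt → ZMod 2) : reenc (c • w) = c • reenc w := by
  simp only [reenc, Pi.smul_apply, smul_eq_mul, mul_smul, Finset.smul_sum]

theorem reenc_mem (w : GolayPt → ZMod 2) : reenc w ∈ golayCode :=
  golayCode.sum_mem fun j _ => golayCode.smul_mem _ (G_mem j)

/-- membership in the code: a word is a code word iff it is the re-encoding of its pivot part. -/
theorem mem_iff (w : GolayPt → ZMod 2) : w ∈ golayCode ↔ reenc w = w := by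
  constructor
  · intro hw
    induction hw using Submodule.span_induction with
    | mem x hx =>
      rcases hx with ⟨t, rfl⟩ | hx
      · exact reenc_qr t
      · rw [Set.mem_singleton_iff.mp hx]; exact reenc_one
    | zero => simp [reenc]
    | add x y _ _ hx hy => rw [reenc_add, hx, hy]
    | smul c x _ hx => rw [reenc_smul, hx]
  · intro h; rw [← h]; exact reenc_mem w


/-! ### Encoding of twelve information bits, code membership for masks -/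

/-- the code word (as a mask) with information bits `a` (bit `j` of `a` is the coordinate at pivot `12 + j`). -/
def encode (a : ℕ) : ℕ :=
  Nat.xor (Nat.mul (bitN a 0) 0x149f) (Nat.xor (Nat.mul (bitN a 1) 0x293e)
  (Nat.xor (Nat.mul (bitN a 2) 0x46e3) (Nat.xor (Nat.mul (bitN a 3) 0x8dc6)
  (Nat.xor (Nat.mul (bitN a 4) 0x10f13) (Nat.xor (Nat.mul (bitN a 5) 0x20ab9)
  (Nat.xor (Nat.mul (bitN a 6) 0x401ed) (Nat.xor (Nat.mul (bitN a 7) 0x803da)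
  (Nat.xor (Nat.mul (bitN a 8) 0x1007b4) (Nat.xor (Nat.mul (bitN a 9) 0x200f68)
  (Nat.xor (Nat.mul (bitN a 10) 0x400a4f) (Nat.mul (bitN a 11) 0x800c75)))))))))))

/-- decision procedure for code membership of a mask below `2 ^ 24` -/
def inCode (m : ℕ) : Bool := Nat.beq (encode (Nat.shiftRight m 12)) m

theorem wordOf_bitN_mul (a j g : ℕ) :
    wordOf (Nat.mul (bitN a j) g) = (if a.testBit j = true then (1 : ZMod 2) else 0) • wordOf g := by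
  rw [bitN_eq]
  by_cases h : a.testBit j = true
  · rw [if_pos h, if_pos h, one_smul]; show wordOf (1 * g) = _; rw [one_mul]
  · rw [if_neg h, if_neg h, zero_smul]; show wordOf (0 * g) = _; rw [zero_mul, wordOf_zero]

theorem wordOf_nat_xor (m n : ℕ) : wordOf (Nat.xor m n) = wordOf m + wordOf n := wordOf_xor m n

theorem sum_eq_wordOf_encode (c : Fin 12 → ZMod 2) (a : ℕ)
    (h : ∀ j : Fin 12, a.testBit j = decide (c j = 1)) : ∑ j, c j • G j = wordOf (encode a) := by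
  have hc : ∀ j : Fin 12, c j = if a.testBit j = true then 1 else 0 := by
    intro j
    rw [h j]
    have : ∀ x : ZMod 2, x = if decide (x = 1) = true then 1 else 0 := by decide
    exact this (c j)
  have h1 : ∑ j, c j • G j = ∑ j : Fin 12, (if a.testBit j = true then (1 : ZMod 2) else 0) • G j :=
    Finset.sum_congr rfl (fun j _ => by rw [← hc j])
  rw [h1]
  unfold encode
  simp only [wordOf_nat_xor, wordOf_bitN_mul, Fin.sum_univ_succ, Fin.sum_univ_zero, add_zero]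
  rfl

theorem bitN_mul_lt (a j g : ℕ) (hg : g < 2 ^ 24) : Nat.mul (bitN a j) g < 2 ^ 24 := by
  rw [bitN_eq]
  split_ifs
  · show 1 * g < _; rwa [one_mul]
  · show 0 * g < _; rw [zero_mul]; norm_num

theorem encode_lt (a : ℕ) : encode a < 2 ^ 24 := by
  unfold encode
  repeat' apply Nat.xor_lt_two_pow
  all_goals exact bitN_mul_lt _ _ _ (by norm_num)

/-- information bits of a word -/
def infoBits (w : GolayPt → ZMod 2) : ℕ := Nat.ofBits fun j : Fin 12 => decide (w (piv j) = 1)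

theorem infoBits_lt (w : GolayPt → ZMod 2) : infoBits w < 2 ^ 12 := Nat.ofBits_lt_two_pow _

theorem reenc_eq (w : GolayPt → ZMod 2) : reenc w = wordOf (encode (infoBits w)) := by
  apply sum_eq_wordOf_encode
  intro j
  unfold infoBits
  rw [Nat.testBit_ofBits_lt _ _ j.2]

/-- every code word is `wordOf (encode a)` for some `a < 4096`. -/
theorem exists_encode (w : GolayPt → ZMod 2) (hw : w ∈ golayCode) :
    ∃ a, a < 4096 ∧ w = wordOf (encode a) :=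
  ⟨infoBits w, infoBits_lt w, by rw [← reenc_eq, (mem_iff w).mp hw]⟩

theorem wordOf_encode_mem (a : ℕ) : wordOf (encode a) ∈ golayCode := by
  have := sum_eq_wordOf_encode (fun j => if a.testBit j = true then 1 else 0) a (by
    intro j; cases a.testBit j <;> decide)
  rw [← this]
  exact golayCode.sum_mem fun j _ => golayCode.smul_mem _ (G_mem j)

theorem infoBits_wordOf (m : ℕ) (hm : m < 2 ^ 24) : infoBits (wordOf m) = m >>> 12 := by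
  apply Nat.eq_of_testBit_eq
  intro i
  by_cases hi : i < 12
  · unfold infoBits
    rw [Nat.testBit_ofBits_lt _ _ hi, Nat.testBit_shiftRight]
    have hw : wordOf m (piv ⟨i, hi⟩) = if m.testBit (12 + i) = true then 1 else 0 := by
      simp only [piv, wordOf_apply]
      rw [enc_dec _ (by omega)]
    rw [hw]
    cases m.testBit (12 + i) <;> decide
  · have h1 : infoBits (wordOf m) < 2 ^ i :=
      lt_of_lt_of_le (infoBits_lt _) (Nat.pow_le_pow_right (by norm_num) (by omega))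
    rw [Nat.testBit_lt_two_pow h1, Nat.testBit_shiftRight]
    have h2 : m < 2 ^ (12 + i) :=
      lt_of_lt_of_le hm (Nat.pow_le_pow_right (by norm_num) (by omega))
    rw [Nat.testBit_lt_two_pow h2]

/-- code membership of the word of a mask is decided by `inCode`. -/
theorem wordOf_mem_iff (m : ℕ) (hm : m < 2 ^ 24) : wordOf m ∈ golayCode ↔ inCode m = true := by
  rw [mem_iff, reenc_eq, infoBits_wordOf m hm]
  unfold inCode
  rw [nat_beq_iff]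
  show _ ↔ encode (m >>> 12) = m
  constructor
  · intro h; exact wordOf_inj _ _ (encode_lt _) hm h
  · intro h; rw [h]

/-- supports of code words, via masks -/
theorem bset_mem_supports_iff (m : ℕ) (hm : m < 2 ^ 24) :
    bset m ∈ supports (golayCode : Set (GolayPt → ZMod 2)) ↔ inCode m = true := by
  rw [← wordOf_mem_iff m hm]
  constructor
  · rintro ⟨w, hw, hws⟩
    rw [← support_wordOf] at hws
    rw [← support_injective hws]; exact hw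
  · intro h; exact ⟨wordOf m, h, support_wordOf m⟩

theorem mem_supports_iff (s : Finset GolayPt) :
    s ∈ supports (golayCode : Set (GolayPt → ZMod 2)) ↔ inCode (maskOf s) = true := by
  rw [← bset_mem_supports_iff _ (maskOf_lt s), bset_maskOf]


/-! ### Dimension -/

/-- the encoding map as a linear map -/
noncomputable def encLin : (Fin 12 → ZMod 2) →ₗ[ZMod 2] (GolayPt → ZMod 2) :=
  Fintype.linearCombination (ZMod 2) G

theorem encLin_apply (c : Fin 12 → ZMod 2) : encLin c = ∑ j, c j • G j := by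
  simp [encLin, Fintype.linearCombination_apply]

theorem encLin_piv (c : Fin 12 → ZMod 2) (i : Fin 12) : encLin c (piv i) = c i := by
  rw [encLin_apply, Finset.sum_apply]
  simp only [Pi.smul_apply, G_piv, smul_eq_mul, mul_ite, mul_one, mul_zero]
  rw [Finset.sum_ite_eq Finset.univ i c]
  simp

theorem encLin_injective : Function.Injective encLin := by
  intro c d h
  funext i
  rw [← encLin_piv c i, ← encLin_piv d i, h]

theorem range_encLin : LinearMap.range encLin = golayCode := by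
  apply le_antisymm
  · rintro w ⟨c, rfl⟩
    rw [encLin_apply]
    exact golayCode.sum_mem fun j _ => golayCode.smul_mem _ (G_mem j)
  · intro w hw
    refine ⟨fun j => w (piv j), ?_⟩
    rw [encLin_apply]
    exact (mem_iff w).mp hw

/-- the code has dimension 12. -/
theorem finrank_golayCode : Module.finrank (ZMod 2) golayCode = 12 := by
  rw [← range_encLin, LinearMap.finrank_range_of_inj encLin_injective]
  simp

theorem card_golayCode : Nat.card golayCode = 4096 := by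
  have e : (Fin 12 → ZMod 2) ≃ₗ[ZMod 2] LinearMap.range encLin :=
    LinearEquiv.ofInjective encLin encLin_injective
  rw [← range_encLin, ← Nat.card_congr e.toEquiv]
  simp

/-! ### Weights -/

theorem popc_encode_aux : allLoop (fun a =>
    (Nat.beq (popc (encode a)) 0 && Nat.beq a 0) || Nat.beq (popc (encode a)) 8 ||
      Nat.beq (popc (encode a)) 12 || Nat.beq (popc (encode a)) 16 ||
      (Nat.beq (popc (encode a)) 24 && Nat.beq (encode a) 0xffffff)) 4096 = true := by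
  decide +kernel

theorem popc_encode (a : ℕ) (ha : a < 4096) :
    (popc (encode a) = 0 ∧ a = 0) ∨ popc (encode a) = 8 ∨ popc (encode a) = 12 ∨
      popc (encode a) = 16 ∨ (popc (encode a) = 24 ∧ encode a = 0xffffff) := by
  have h := (allLoop_eq_true _ _).mp popc_encode_aux a ha
  simpa [Bool.or_eq_true, Bool.and_eq_true, nat_beq_iff, or_assoc] using h

theorem encode_zero : encode 0 = 0 := by decide +kernel

/-- the weights of the code words are 0, 8, 12, 16, 24. -/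
theorem weight_cases (w : GolayPt → ZMod 2) (hw : w ∈ golayCode) :
    (support₂ w).card = 0 ∨ (support₂ w).card = 8 ∨ (support₂ w).card = 12 ∨
      (support₂ w).card = 16 ∨ (support₂ w).card = 24 := by
  obtain ⟨a, ha, rfl⟩ := exists_encode w hw
  rw [support_wordOf, card_bset]
  rcases popc_encode a ha with h | h | h | h | h
  · exact Or.inl h.1
  · exact Or.inr (Or.inl h)
  · exact Or.inr (Or.inr (Or.inl h))
  · exact Or.inr (Or.inr (Or.inr (Or.inl h)))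
  · exact Or.inr (Or.inr (Or.inr (Or.inr h.1)))

theorem support_eq_empty_iff (w : GolayPt → ZMod 2) : support₂ w = ∅ ↔ w = 0 := by
  constructor
  · intro h
    funext p
    by_contra hp
    have : p ∈ support₂ w := by
      simp only [support₂, Finset.mem_filter, Finset.mem_univ, true_and]; exact hp
    rw [h] at this
    exact absurd this (Finset.notMem_empty p)
  · rintro rfl
    simp [support₂]

/-- minimum weight 8 -/
theorem eight_le_weight (w : GolayPt → ZMod 2) (hw : w ∈ golayCode) (h0 : w ≠ 0) :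
    8 ≤ (support₂ w).card := by
  rcases weight_cases w hw with h | h | h | h | h
  · exact absurd ((support_eq_empty_iff w).mp (Finset.card_eq_zero.mp h)) h0
  all_goals omega

/-! ### Octads and dodecads as masks -/

/-- the masks of the octads, computed -/
noncomputable def octadMasks : List ℕ :=
  ((List.range 4096).map encode).filter fun m => Nat.beq (popc m) 8

/-- the masks of the dodecads, computed -/
noncomputable def dodecadMasks : List ℕ :=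
  ((List.range 4096).map encode).filter fun m => Nat.beq (popc m) 12

/-- the masks of the 759 octads, as a literal list -/
def octadList : List ℕ := [
  0x149f, 0x293e, 0x3da1, 0x46e3, 0x527c, 0x7b42, 0x8dc6, 0x9959, 0xa4f8, 0xb067, 0xcb25, 0xe21b,
  0xf684, 0x10f13, 0x11b8c, 0x1262d, 0x132b2, 0x149f0, 0x160ce, 0x17451, 0x182d5, 0x1964a, 0x1c436, 0x1d0a9,
  0x1ed08, 0x20ab9, 0x21e26, 0x22387, 0x23718, 0x24c5a, 0x258c5, 0x26564, 0x293e0, 0x2ae41, 0x2c19c, 0x2d503,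
  0x2e8a2, 0x305aa, 0x31135, 0x32c94, 0x3380b, 0x34349, 0x3886c, 0x3a152, 0x3da10, 0x401ed, 0x41572, 0x428d3,
  0x43c4c, 0x4470e, 0x45391, 0x46e30, 0x48c2b, 0x498b4, 0x4a515, 0x4b18a, 0x4cac8, 0x51a61, 0x527c0, 0x5481d,
  0x55c82, 0x56123, 0x58338, 0x5aa06, 0x5d144, 0x60b54, 0x6226a, 0x65928, 0x66489, 0x67016, 0x68692, 0x6920d,
  0x6c071, 0x70447, 0x710d8, 0x742a4, 0x78981, 0x7b420, 0x803da, 0x81745, 0x82ae4, 0x84539, 0x851a6, 0x86c07,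
  0x87898, 0x88e1c, 0x89a83, 0x8a722, 0x8dc60, 0x8e1c1, 0x90cc9, 0x91856, 0x93168, 0x94a2a, 0x96314, 0x9810f,
  0x99590, 0x9a831, 0xa0963, 0xa205d, 0xa34c2, 0xa4f80, 0xa7221, 0xa84a5, 0xa903a, 0xab904, 0xac246, 0xb0670,
  0xb4093, 0xb540c, 0xba288, 0xc0237, 0xc16a8, 0xc2b09, 0xc44d4, 0xc504b, 0xcb250, 0xcc912, 0xce02c, 0xd0d24,
  0xd241a, 0xd3085, 0xd80e2, 0xdc601, 0xe088e, 0xe1c11, 0xe21b0, 0xe8548, 0xf1302, 0xf6840, 0x1007b4, 0x10132b,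
  0x102e8a, 0x103a15, 0x104157, 0x1055c8, 0x106869, 0x108a72, 0x10a34c, 0x10cc91, 0x10d80e, 0x10f130, 0x1108a7, 0x111c38,
  0x112199, 0x113506, 0x114e44, 0x118561, 0x11b8c0, 0x11c382, 0x120d0d, 0x121992, 0x122433, 0x1230ac, 0x1262d0, 0x1280cb,
  0x129454, 0x12c628, 0x13021e, 0x131681, 0x132b20, 0x135062, 0x13e005, 0x140659, 0x1412c6, 0x1440ba, 0x145425, 0x146984,
  0x149f00, 0x14a2a1, 0x14e442, 0x15094a, 0x152074, 0x157208, 0x15848c, 0x159013, 0x160ce0, 0x163141, 0x164a03, 0x168126,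
  0x16a818, 0x174510, 0x18046e, 0x1810f1, 0x182d50, 0x18428d, 0x185612, 0x1889a8, 0x18a096, 0x18b409, 0x192243, 0x195901,
  0x1964a0, 0x199224, 0x19c058, 0x1a1a48, 0x1a4834, 0x1a610a, 0x1a8311, 0x1b01c4, 0x1b8c02, 0x1c0583, 0x1c111c, 0x1c3822,
  0x1c4360, 0x1c8845, 0x1d0a90, 0x1e2604, 0x1ed080, 0x1f0029, 0x200f68, 0x202656, 0x2032c9, 0x20498b, 0x205d14, 0x2060b5,
  0x20742a, 0x2082ae, 0x209631, 0x20ab90, 0x20c44d, 0x20d0d2, 0x21007b, 0x2114e4, 0x212945, 0x214698, 0x215207, 0x219922,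
  0x21a483, 0x21b01c, 0x21e260, 0x2205d1, 0x22114e, 0x223870, 0x224332, 0x226a0c, 0x228817, 0x229c88, 0x22a129, 0x230ac2,
  0x234c21, 0x237180, 0x238704, 0x240e85, 0x241a1a, 0x243324, 0x244866, 0x246158, 0x248343, 0x24c5a0, 0x24f801, 0x250196,
  0x251509, 0x2528a8, 0x258c50, 0x26043c, 0x2610a3, 0x262d02, 0x265640, 0x26a0c4, 0x272211, 0x27c00a, 0x280cb2, 0x28182d,
  0x28258c, 0x283113, 0x284a51, 0x288174, 0x28a84a, 0x28d308, 0x2903a1, 0x293e00, 0x294542, 0x29c884, 0x2a060b, 0x2a1294,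
  0x2a40e8, 0x2ae410, 0x2b0918, 0x2b2026, 0x2b9041, 0x2c19c0, 0x2c2461, 0x2c6282, 0x2c8099, 0x2c9406, 0x2d024c, 0x2d5030,
  0x2e4105, 0x2e8a20, 0x3008dc, 0x301c43, 0x3021e2, 0x305aa0, 0x306701, 0x30851a, 0x309185, 0x30ac24, 0x311350, 0x31412c,
  0x316812, 0x318a09, 0x320265, 0x324486, 0x325019, 0x32b202, 0x32c940, 0x332448, 0x3380b0, 0x340931, 0x34200f, 0x343490,
  0x349068, 0x34c214, 0x350622, 0x3540c1, 0x360388, 0x371804, 0x380b06, 0x382238, 0x387044, 0x3886c0, 0x38c023, 0x390415,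
  0x39108a, 0x3a1520, 0x3a2881, 0x3c4c08, 0x3da100, 0x3e0052, 0x400a4f, 0x401ed0, 0x402371, 0x404cac, 0x405833, 0x406592,
  0x40710d, 0x408789, 0x409316, 0x40ba28, 0x40c16a, 0x40e854, 0x41055c, 0x4111c3, 0x412c62, 0x415720, 0x416a81, 0x41889a,
  0x419c05, 0x41a1a4, 0x4200f6, 0x421469, 0x4229c8, 0x424615, 0x42528a, 0x428d30, 0x42a40e, 0x42b091, 0x433244, 0x434906,
  0x436038, 0x438223, 0x43c4c0, 0x440ba2, 0x44229c, 0x443603, 0x444d41, 0x4470e0, 0x448664, 0x44c087, 0x44d418, 0x4504b1,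
  0x45102e, 0x453910, 0x454252, 0x45a049, 0x46011b, 0x461584, 0x462825, 0x469842, 0x46e300, 0x470e08, 0x480995, 0x481d0a,
  0x4820ab, 0x483434, 0x486648, 0x488453, 0x4890cc, 0x48c2b0, 0x490686, 0x491219, 0x494065, 0x498b40, 0x49f002, 0x4a032c,
  0x4a2a12, 0x4a5150, 0x4ac809, 0x4b18a0, 0x4b2501, 0x4c0878, 0x4c2146, 0x4c5a04, 0x4c9121, 0x4cac80, 0x4d4188, 0x4e02c1,
  0x4e4422, 0x4f8014, 0x501964, 0x5024c5, 0x50305a, 0x504b18, 0x506226, 0x50803d, 0x5094a2, 0x50a903, 0x50d241, 0x5102e8,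
  0x51440b, 0x515094, 0x51a610, 0x520742, 0x5241a1, 0x527c00, 0x528a84, 0x530851, 0x539108, 0x540c16, 0x541889, 0x542528,
  0x5481d0, 0x550305, 0x55c820, 0x561230, 0x56404c, 0x572082, 0x580e21, 0x583380, 0x5848c2, 0x58c504, 0x590132, 0x59280c,
  0x5a0498, 0x5a1007, 0x5aa060, 0x5c6011, 0x5c820a, 0x5d1440, 0x600527, 0x6011b8, 0x602c19, 0x603886, 0x6043c4, 0x6088e1,
  0x60b540, 0x60ce02, 0x610a34, 0x61230a, 0x615848, 0x61c111, 0x621b01, 0x6226a0, 0x626043, 0x628258, 0x62d024, 0x63008d,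
  0x631412, 0x6404ca, 0x641055, 0x644229, 0x64890c, 0x64a032, 0x656404, 0x659280, 0x664890, 0x670160, 0x681262, 0x68401e,
  0x685481, 0x686920, 0x68a205, 0x6920d0, 0x698428, 0x6a0c44, 0x6a8182, 0x6c0710, 0x6d0803, 0x6e3008, 0x700293, 0x70160c,
  0x704470, 0x70e088, 0x710d80, 0x713021, 0x718046, 0x72082a, 0x722114, 0x742a40, 0x745102, 0x768401, 0x780149, 0x789810,
  0x7b4200, 0x7c00a4, 0x800c75, 0x8018ea, 0x80254b, 0x8031d4, 0x804a96, 0x805e09, 0x8063a8, 0x8081b3, 0x80952c, 0x80a88d,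
  0x80bc12, 0x80c750, 0x810366, 0x812a58, 0x814585, 0x81511a, 0x817824, 0x818ea0, 0x81b301, 0x81c843, 0x8206cc, 0x821253,
  0x82402f, 0x8254b0, 0x826911, 0x828b0a, 0x82a234, 0x82f048, 0x831d40, 0x8320e1, 0x836602, 0x838419, 0x839086, 0x840d98,
  0x841907, 0x8424a6, 0x843039, 0x846245, 0x84805e, 0x8494c1, 0x84a960, 0x84d222, 0x85028b, 0x851614, 0x854468, 0x85e090,
  0x860721, 0x863a80, 0x8641c2, 0x86cc04, 0x870832, 0x87210c, 0x881b30, 0x882691, 0x88320e, 0x88494c, 0x886072, 0x888269,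
  0x88c48a, 0x88d015, 0x8900bc, 0x891423, 0x892982, 0x8952c0, 0x89a444, 0x8a0516, 0x8a1189, 0x8a2c28, 0x8a88d0, 0x8b0a05,
  0x8bc120, 0x8c0e42, 0x8c48a1, 0x8c7500, 0x8c8384, 0x8d0151, 0x8d9808, 0x8e1064, 0x8e4218, 0x8ea003, 0x900bc1, 0x903660,
  0x904d22, 0x90641c, 0x907083, 0x908607, 0x909298, 0x90c0e4, 0x9104d2, 0x91104d, 0x914231, 0x918914, 0x91a02a, 0x920178,
  0x922846, 0x925304, 0x929821, 0x92a580, 0x934888, 0x940a2c, 0x942312, 0x945850, 0x94c109, 0x9511a0, 0x952c01, 0x960095,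
  0x96140a, 0x978240, 0x98081b, 0x981c84, 0x982125, 0x989142, 0x98ea00, 0x990708, 0x9a02a2, 0x9a4441, 0x9b3010, 0x9c20c8,
  0x9c8430, 0x9d4006, 0xa0031d, 0xa01782, 0xa02a23, 0xa05161, 0xa06cc0, 0xa09a44, 0xa0c838, 0xa0e106, 0xa10c0e, 0xa11891,
  0xa12530, 0xa181c8, 0xa209a4, 0xa2209a, 0xa23405, 0xa28462, 0xa2c281, 0xa31228, 0xa34054, 0xa402f0, 0xa44413, 0xa4508c,
  0xa4a608, 0xa53042, 0xa54b00, 0xa58025, 0xa60849, 0xa69110, 0xa800c7, 0xa81458, 0xa84624, 0xa88d01, 0xa8b0a0, 0xa96009,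
  0xa98212, 0xaa2340, 0xaa5802, 0xac012a, 0xac2814, 0xaf0480, 0xb004a9, 0xb01036, 0xb03908, 0xb0424a, 0xb0a051, 0xb12284,
  0xb1d400, 0xb20e10, 0xb30103, 0xb40544, 0xb48882, 0xb66020, 0xb84190, 0xb90860, 0xba800c, 0xbc1201, 0xc0063a, 0xc012a5,
  0xc02f04, 0xc040d9, 0xc05446, 0xc0a2c2, 0xc0d980, 0xc0e421, 0xc10929, 0xc12017, 0xc13488, 0xc19070, 0xc1c20c, 0xc20c83,
  0xc2181c, 0xc23122, 0xc24a60, 0xc28145, 0xc30390, 0xc41348, 0xc44134, 0xc4680a, 0xc48a11, 0xc508c4, 0xc58502, 0xc62450,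
  0xc680a8, 0xc75001, 0xc805e0, 0xc83841, 0xc84303, 0xc88826, 0xc8a118, 0xc94c10, 0xca6084, 0xca9600, 0xcb004a, 0xcc040d,
  0xcc1092, 0xcd2220, 0xd0018e, 0xd01511, 0xd028b0, 0xd08c48, 0xd11a02, 0xd16140, 0xd22209, 0xd2c012, 0xd30424, 0xd40063,
  0xd44680, 0xd4b004, 0xd80254, 0xd85028, 0xd98081, 0xde0900, 0xe00952, 0xe0206c, 0xe07210, 0xe08494, 0xe0900b, 0xe10641,
  0xe140a2, 0xe24508, 0xe3a800, 0xe41c20, 0xe42181, 0xe60206, 0xe80a88, 0xe91104, 0xea0031, 0xecc040, 0xf04805, 0xf08320,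
  0xf210c0, 0xf50018, 0xf82402]

set_option maxRecDepth 100000 in
/-- the masks of the 2576 dodecads, as a literal list -/
def dodecadList : List ℕ := [
  0x6fdd, 0xdfba, 0x15d6f, 0x1abeb, 0x1bf74, 0x1f997, 0x271fb, 0x2877f, 0x2bade, 0x2fc3d, 0x357d6, 0x36a77,
  0x37ee8, 0x39cf3, 0x3b5cd, 0x3ce8f, 0x3e7b1, 0x3f32e, 0x47aaf, 0x4de57, 0x4e3f6, 0x4f769, 0x50efe, 0x5335f,
  0x575bc, 0x597a7, 0x5be99, 0x5c5db, 0x5ece5, 0x5f87a, 0x61fcb, 0x636f5, 0x64db7, 0x6afac, 0x6bb33, 0x6d4ee,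
  0x6e94f, 0x6fdd0, 0x72d79, 0x739e6, 0x7563b, 0x76b9a, 0x77f05, 0x79d1e, 0x7a0bf, 0x7cf62, 0x7e65c, 0x7f2c3,
  0x83e7b, 0x8b3bd, 0x8c8ff, 0x8f55e, 0x925f7, 0x95eb5, 0x9778b, 0x9bcae, 0x9c7ec, 0x9d373, 0x9eed2, 0x9fa4d,
  0xa1dfc, 0xa5b1f, 0xa66be, 0xaad9b, 0xad6d9, 0xaeb78, 0xb12ef, 0xb2f4e, 0xb3bd1, 0xb69ad, 0xb7d32, 0xb8bb6,
  0xb9f29, 0xbb617, 0xbcd55, 0xbd9ca, 0xbe46b, 0xbf0f4, 0xc3f96, 0xc6dea, 0xc7975, 0xc8ff1, 0xc9b6e, 0xca6cf,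
  0xcdd8d, 0xcf4b3, 0xd19bb, 0xd4bc7, 0xd5f58, 0xd62f9, 0xd7666, 0xd947d, 0xda9dc, 0xdbd43, 0xdd29e, 0xdfba0,
  0xe352f, 0xe4e6d, 0xe5af2, 0xe6753, 0xe73cc, 0xe91d7, 0xeac76, 0xeb8e9, 0xec3ab, 0xed734, 0xeea95, 0xefe0a,
  0xf079d, 0xf2ea3, 0xf3a3c, 0xf417e, 0xf55e1, 0xf8a5b, 0xf9ec4, 0xfa365, 0xfccb8, 0xfd827, 0xfe586, 0xff119,
  0x107cf6, 0x109eed, 0x10b7d3, 0x10e5af, 0x115adb, 0x11677a, 0x1173e5, 0x1191fe, 0x11ac5f, 0x11d71d, 0x11eabc, 0x11fe23,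
  0x124bee, 0x125f71, 0x12764f, 0x12a9f5, 0x12bd6a, 0x12d2b7, 0x12ef16, 0x12fb89, 0x1344fd, 0x136dc3, 0x13795c, 0x138fd8,
  0x139b47, 0x13a6e6, 0x13b279, 0x13c93b, 0x13dda4, 0x13f49a, 0x142f67, 0x143bf8, 0x147d1b, 0x148b9f, 0x14b63e, 0x14cd7c,
  0x14d9e3, 0x14f0dd, 0x151dd5, 0x1534eb, 0x154fa9, 0x155b36, 0x156697, 0x15adb2, 0x15b92d, 0x15c26f, 0x15d6f0, 0x15eb51,
  0x16187f, 0x1625de, 0x165e9c, 0x16633d, 0x1677a2, 0x1695b9, 0x16bc87, 0x16c7c5, 0x16d35a, 0x16fa64, 0x1703f3, 0x17176c,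
  0x172acd, 0x173e52, 0x17518f, 0x176c2e, 0x1778b1, 0x178e35, 0x179aaa, 0x17a70b, 0x17b394, 0x17c8d6, 0x17dc49, 0x17e1e8,
  0x1839cf, 0x186bb3, 0x187f2c, 0x189d37, 0x18cf4b, 0x18dbd4, 0x18e675, 0x18f2ea, 0x190b7d, 0x191fe2, 0x1936dc, 0x194d9e,
  0x19703f, 0x1986bb, 0x19af85, 0x19bb1a, 0x19d4c7, 0x19e966, 0x1a0ed7, 0x1a27e9, 0x1a3376, 0x1a5cab, 0x1a7595, 0x1a978e,
  0x1aaa2f, 0x1abeb0, 0x1ac5f2, 0x1ad16d, 0x1aeccc, 0x1af853, 0x1b155b, 0x1b28fa, 0x1b3c65, 0x1b4727, 0x1b53b8, 0x1b6e19,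
  0x1b7a86, 0x1b989d, 0x1ba53c, 0x1bb1a3, 0x1bcae1, 0x1bf740, 0x1c2cbd, 0x1c6a5e, 0x1c7ec1, 0x1c9cda, 0x1ca17b, 0x1cb5e4,
  0x1ccea6, 0x1cda39, 0x1ce798, 0x1cf307, 0x1d1e0f, 0x1d23ae, 0x1d3731, 0x1d4c73, 0x1d58ec, 0x1d654d, 0x1d71d2, 0x1d8756,
  0x1d93c9, 0x1dae68, 0x1dc1b5, 0x1dd52a, 0x1de88b, 0x1dfc14, 0x1e0f3a, 0x1e1ba5, 0x1e329b, 0x1e49d9, 0x1e5d46, 0x1e60e7,
  0x1e7478, 0x1e82fc, 0x1e9663, 0x1eabc2, 0x1ec41f, 0x1eed21, 0x1f14b6, 0x1f2917, 0x1f3d88, 0x1f46ca, 0x1f5255, 0x1f9970,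
  0x1fa4d1, 0x1fb04e, 0x1fcb0c, 0x1fe232, 0x201bf7, 0x20bf0f, 0x20ed73, 0x20f9ec, 0x213dda, 0x216fa6, 0x217b39, 0x218dbd,
  0x21cb5e, 0x21dfc1, 0x222cef, 0x2257ad, 0x227e93, 0x22b5b6, 0x22cef4, 0x22da6b, 0x22e7ca, 0x22f355, 0x231e5d, 0x2323fc,
  0x233763, 0x2358be, 0x23651f, 0x23939b, 0x23ae3a, 0x23baa5, 0x23c1e7, 0x23d578, 0x23e8d9, 0x23fc46, 0x2427bb, 0x245cf9,
  0x2475c7, 0x2497dc, 0x24aa7d, 0x24bee2, 0x24d13f, 0x24ec9e, 0x253c37, 0x254775, 0x2553ea, 0x256e4b, 0x257ad4, 0x2598cf,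
  0x25a56e, 0x25b1f1, 0x25cab3, 0x25de2c, 0x25e38d, 0x25f712, 0x26399d, 0x2642df, 0x266be1, 0x2689fa, 0x269d65, 0x26b45b,
  0x26cf19, 0x26db86, 0x26e627, 0x26f2b8, 0x270b2f, 0x271fb0, 0x27368e, 0x274dcc, 0x275953, 0x2764f2, 0x27706d, 0x2786e9,
  0x279276, 0x27bb48, 0x27d495, 0x27e934, 0x285ece, 0x28636f, 0x2877f0, 0x2895eb, 0x28bcd5, 0x28c797, 0x28eea9, 0x28fa36,
  0x29173e, 0x292a9f, 0x2951dd, 0x296c7c, 0x2978e3, 0x298e67, 0x299af8, 0x29a759, 0x29b3c6, 0x29dc1b, 0x29e1ba, 0x29f525,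
  0x2a2f35, 0x2a3baa, 0x2a5477, 0x2a69d6, 0x2a7d49, 0x2a8bcd, 0x2a9f52, 0x2aa2f3, 0x2ab66c, 0x2acd2e, 0x2ad9b1, 0x2af08f,
  0x2b1d87, 0x2b34b9, 0x2b5b64, 0x2b66c5, 0x2b725a, 0x2b84de, 0x2bade0, 0x2bc23d, 0x2bd6a2, 0x2beb03, 0x2c0d5f, 0x2c30fe,
  0x2c4bbc, 0x2c5f23, 0x2c761d, 0x2ca9a7, 0x2cbd38, 0x2cc67a, 0x2cd2e5, 0x2cef44, 0x2d16d3, 0x2d2b72, 0x2d44af, 0x2d6d91,
  0x2d790e, 0x2d8f8a, 0x2d9b15, 0x2da6b4, 0x2db22b, 0x2dc969, 0x2de057, 0x2df4c8, 0x2e07e6, 0x2e1379, 0x2e2ed8, 0x2e3a47,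
  0x2e559a, 0x2e683b, 0x2e7ca4, 0x2ea31e, 0x2eb781, 0x2eccc3, 0x2ed85c, 0x2ef162, 0x2f08f5, 0x2f1c6a, 0x2f21cb, 0x2f3554,
  0x2f4e16, 0x2f5a89, 0x2f6728, 0x2f8533, 0x2f91ac, 0x2fac0d, 0x2fb892, 0x2fc3d0, 0x30357d, 0x304e3f, 0x30739e, 0x30b8bb,
  0x30c3f9, 0x30d766, 0x30eac7, 0x30fe58, 0x3107cf, 0x312ef1, 0x313a6e, 0x3155b3, 0x317c8d, 0x319e96, 0x31a337, 0x31b7a8,
  0x31ccea, 0x31d875, 0x31e5d4, 0x31f14b, 0x3216fa, 0x322b5b, 0x323fc4, 0x326db8, 0x327927, 0x328fa3, 0x329b3c, 0x32a69d,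
  0x32e07e, 0x32f4e1, 0x330d76, 0x3319e9, 0x3330d7, 0x334b95, 0x335f0a, 0x3362ab, 0x337634, 0x33942f, 0x33a98e, 0x33bd11,
  0x33c653, 0x33d2cc, 0x341dae, 0x344fd2, 0x345b4d, 0x3466ec, 0x347273, 0x3484f7, 0x34adc9, 0x34b956, 0x34d68b, 0x34eb2a,
  0x3512bd, 0x352f1c, 0x353b83, 0x35545e, 0x357d60, 0x358be4, 0x35a2da, 0x35b645, 0x35cd07, 0x35d998, 0x35e439, 0x35f0a6,
  0x361717, 0x362ab6, 0x363e29, 0x36456b, 0x3651f4, 0x366c55, 0x3678ca, 0x368e4e, 0x369ad1, 0x36a770, 0x36c8ad, 0x36dc32,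
  0x36e193, 0x36f50c, 0x370c9b, 0x3725a5, 0x37313a, 0x374a78, 0x376346, 0x37815d, 0x3795c2, 0x37a863, 0x37d321, 0x37ee80,
  0x381f99, 0x3836a7, 0x384de5, 0x38597a, 0x3864db, 0x38925f, 0x38bb61, 0x38d4bc, 0x38e91d, 0x38fd82, 0x392d2b, 0x3939b4,
  0x3942f6, 0x395669, 0x396bc8, 0x3989d3, 0x399d4c, 0x39a0ed, 0x39b472, 0x39cf30, 0x39e60e, 0x39f291, 0x3a01bf, 0x3a3c1e,
  0x3a475c, 0x3a53c3, 0x3a6e62, 0x3a8c79, 0x3a98e6, 0x3aa547, 0x3ab1d8, 0x3aca9a, 0x3ade05, 0x3ae3a4, 0x3b0eac, 0x3b1a33,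
  0x3b2792, 0x3b330d, 0x3b484f, 0x3b5cd0, 0x3b6171, 0x3b836a, 0x3baa54, 0x3bc589, 0x3bd116, 0x3bf828, 0x3c0aeb, 0x3c1e74,
  0x3c23d5, 0x3c374a, 0x3c5897, 0x3c6536, 0x3c71a9, 0x3c872d, 0x3c93b2, 0x3cae13, 0x3cba8c, 0x3cc1ce, 0x3cd551, 0x3ce8f0,
  0x3d05f8, 0x3d1167, 0x3d2cc6, 0x3d3859, 0x3d431b, 0x3d5784, 0x3d6a25, 0x3d883e, 0x3d9ca1, 0x3dda42, 0x3e14cd, 0x3e296c,
  0x3e46b1, 0x3e522e, 0x3e7b10, 0x3e8d94, 0x3e990b, 0x3ea4aa, 0x3eb035, 0x3ee249, 0x3f0f41, 0x3f32e0, 0x3f49a2, 0x3f609c,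
  0x3f7403, 0x3f8287, 0x3f9618, 0x3fc464, 0x4037ee, 0x40aeb7, 0x40d5f5, 0x40fccb, 0x4138fd, 0x4143bf, 0x417e1e, 0x41b53b,
  0x41ce79, 0x41dae6, 0x41e747, 0x41f3d8, 0x423d57, 0x426f2b, 0x427bb4, 0x4299af, 0x42cbd3, 0x42df4c, 0x42e2ed, 0x42f672,
  0x430fe5, 0x431b7a, 0x4326db, 0x435d99, 0x4374a7, 0x4396bc, 0x43ab1d, 0x43bf82, 0x43d05f, 0x43f961, 0x441f3d, 0x4459de,
  0x44647f, 0x4492fb, 0x44af5a, 0x44bbc5, 0x44e9b9, 0x44fd26, 0x452d8f, 0x4556cd, 0x456b6c, 0x458977, 0x459de8, 0x45b4d6,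
  0x45cf94, 0x45db0b, 0x45e6aa, 0x45f235, 0x463cba, 0x4647f8, 0x465367, 0x466ec6, 0x467a59, 0x468cdd, 0x46a5e3, 0x46b17c,
  0x46ca3e, 0x46dea1, 0x471a97, 0x472736, 0x4733a9, 0x4748eb, 0x475c74, 0x4761d5, 0x47754a, 0x4783ce, 0x479751, 0x47aaf0,
  0x47c52d, 0x47d1b2, 0x47ec13, 0x47f88c, 0x484f76, 0x485be9, 0x4872d7, 0x48ad6d, 0x48b9f2, 0x48d62f, 0x48eb8e, 0x48ff11,
  0x492fb8, 0x493b27, 0x4954fa, 0x49695b, 0x497dc4, 0x49a27e, 0x49b6e1, 0x49cda3, 0x49d93c, 0x49e49d, 0x4a17b3, 0x4a3e8d,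
  0x4a45cf, 0x4a6cf1, 0x4a786e, 0x4a8eea, 0x4a9a75, 0x4aa7d4, 0x4ab34b, 0x4adc96, 0x4ae137, 0x4af5a8, 0x4b0c3f, 0x4b319e,
  0x4b4adc, 0x4b5e43, 0x4b63e2, 0x4b81f9, 0x4b9566, 0x4ba8c7, 0x4bbc58, 0x4bc71a, 0x4bd385, 0x4bee24, 0x4c1ce7, 0x4c35d9,
  0x4c4e9b, 0x4c67a5, 0x4c733a, 0x4c85be, 0x4cb81f, 0x4cc35d, 0x4cd7c2, 0x4cea63, 0x4d076b, 0x4d13f4, 0x4d2e55, 0x4d3aca,
  0x4d5517, 0x4d68b6, 0x4d7c29, 0x4d8aad, 0x4d9e32, 0x4da393, 0x4db70c, 0x4dcc4e, 0x4dd8d1, 0x4de570, 0x4e165e, 0x4e3f60,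
  0x4e50bd, 0x4e6d1c, 0x4e7983, 0x4e8f07, 0x4e9b98, 0x4ea639, 0x4eb2a6, 0x4ec9e4, 0x4ee0da, 0x4ef445, 0x4f0dd2, 0x4f194d,
  0x4f24ec, 0x4f3073, 0x4f4b31, 0x4f620f, 0x4f7690, 0x4f948b, 0x4fa92a, 0x4fd268, 0x500dfb, 0x505f87, 0x5076b9, 0x50bd9c,
  0x50c6de, 0x50efe0, 0x511677, 0x512bd6, 0x513f49, 0x516d35, 0x5179aa, 0x518f2e, 0x519bb1, 0x51b28f, 0x51c9cd, 0x51dd52,
  0x51e0f3, 0x51f46c, 0x5213dd, 0x522e7c, 0x523ae3, 0x52553e, 0x52689f, 0x529e1b, 0x52a3ba, 0x52b725, 0x52cc67, 0x52d8f8,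
  0x52e559, 0x52f1c6, 0x531cce, 0x53216f, 0x5335f0, 0x534eb2, 0x535a2d, 0x53678c, 0x537313, 0x538597, 0x53aca9, 0x53b836,
  0x53c374, 0x53ea4a, 0x5431b7, 0x544af5, 0x545e6a, 0x5463cb, 0x547754, 0x54954f, 0x54a8ee, 0x54bc71, 0x54c733, 0x54d3ac,
  0x54ee0d, 0x54fa92, 0x55179a, 0x552a3b, 0x553ea4, 0x5545e6, 0x555179, 0x556cd8, 0x557847, 0x558ec3, 0x559a5c, 0x55b362,
  0x55e11e, 0x55f581, 0x5606af, 0x562f91, 0x563b0e, 0x5654d3, 0x566972, 0x568b69, 0x56a257, 0x56b6c8, 0x56cd8a, 0x56d915,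
  0x56e4b4, 0x56f02b, 0x5709bc, 0x571d23, 0x57341d, 0x575bc0, 0x576661, 0x57847a, 0x5790e5, 0x57ad44, 0x57c299, 0x57d606,
  0x581abe, 0x58271f, 0x585c5d, 0x5861fc, 0x587563, 0x5883e7, 0x589778, 0x58aad9, 0x58be46, 0x58d19b, 0x58ec3a, 0x58f8a5,
  0x5915ad, 0x593c93, 0x5947d1, 0x59534e, 0x597a70, 0x598cf4, 0x59986b, 0x59a5ca, 0x59b155, 0x59ca17, 0x59de88, 0x59e329,
  0x5a2da6, 0x5a3939, 0x5a427b, 0x5a56e4, 0x5a6b45, 0x5a895e, 0x5a9dc1, 0x5adb22, 0x5ae683, 0x5af21c, 0x5b0b8b, 0x5b1f14,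
  0x5b22b5, 0x5b362a, 0x5b4d68, 0x5b6456, 0x5b70c9, 0x5b864d, 0x5b92d2, 0x5bc0ae, 0x5bd431, 0x5be990, 0x5c0fcc, 0x5c1b53,
  0x5c26f2, 0x5c326d, 0x5c492f, 0x5c5db0, 0x5c748e, 0x5c9695, 0x5cab34, 0x5cc4e9, 0x5cd076, 0x5cf948, 0x5d00df, 0x5d29e1,
  0x5d463c, 0x5d52a3, 0x5d6f02, 0x5d8d19, 0x5d9986, 0x5da427, 0x5db0b8, 0x5de2c4, 0x5e0575, 0x5e11ea, 0x5e2c4b, 0x5e38d4,
  0x5e4396, 0x5e5709, 0x5e6aa8, 0x5e88b3, 0x5e9c2c, 0x5ea18d, 0x5eb512, 0x5ece50, 0x5f0a66, 0x5f2358, 0x5f4c85, 0x5f581a,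
  0x5f7124, 0x5f87a0, 0x5fba01, 0x5fc143, 0x60575b, 0x606afa, 0x607e65, 0x609c7e, 0x60a1df, 0x60da9d, 0x60e73c, 0x60f3a3,
  0x611eab, 0x613795, 0x614cd7, 0x6165e9, 0x617176, 0x6187f2, 0x61936d, 0x61aecc, 0x61ba53, 0x61d58e, 0x61e82f, 0x61fcb0,
  0x620f9e, 0x62323f, 0x62497d, 0x625de2, 0x6274dc, 0x6296c7, 0x62ab66, 0x62c4bb, 0x62ed85, 0x62f91a, 0x6329b3, 0x633d2c,
  0x63466e, 0x6352f1, 0x636f50, 0x638d4b, 0x6399d4, 0x63a475, 0x63b0ea, 0x63cba8, 0x63e296, 0x63f609, 0x642df4, 0x64396b,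
  0x6456b6, 0x646b17, 0x647f88, 0x649d93, 0x64b4ad, 0x64db70, 0x64e6d1, 0x64f24e, 0x650bd9, 0x651f46, 0x6522e7, 0x653678,
  0x654d3a, 0x6559a5, 0x65709b, 0x65861f, 0x65af21, 0x65c0fc, 0x65d463, 0x65e9c2, 0x660e73, 0x661aec, 0x66274d, 0x6633d2,
  0x665c0f, 0x6661ae, 0x667531, 0x6683b5, 0x66972a, 0x66aa8b, 0x66be14, 0x66c556, 0x66d1c9, 0x66ec68, 0x67285e, 0x673cc1,
  0x674783, 0x67531c, 0x677a22, 0x678ca6, 0x679839, 0x67a598, 0x67b107, 0x67ca45, 0x6806fd, 0x682fc3, 0x683b5c, 0x688b3b,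
  0x689fa4, 0x68b69a, 0x68cdd8, 0x68d947, 0x68e4e6, 0x68f079, 0x6909ee, 0x691d71, 0x69344f, 0x694f0d, 0x695b92, 0x696633,
  0x6972ac, 0x6990b7, 0x69ad16, 0x69b989, 0x69c2cb, 0x69d654, 0x6a18db, 0x6a257a, 0x6a31e5, 0x6a4aa7, 0x6a5e38, 0x6a6399,
  0x6a7706, 0x6a951d, 0x6aa8bc, 0x6abc23, 0x6ac761, 0x6afac0, 0x6b0357, 0x6b17c8, 0x6b2a69, 0x6b45b4, 0x6b512b, 0x6b6c8a,
  0x6b7815, 0x6b8e91, 0x6b9a0e, 0x6bb330, 0x6bc872, 0x6be14c, 0x6c138f, 0x6c2e2e, 0x6c3ab1, 0x6c41f3, 0x6c556c, 0x6c68cd,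
  0x6c7c52, 0x6c8ad6, 0x6c9e49, 0x6ca3e8, 0x6ccc35, 0x6cd8aa, 0x6ce50b, 0x6cf194, 0x6d1c9c, 0x6d213d, 0x6d35a2, 0x6d4ee0,
  0x6d7341, 0x6d85c5, 0x6d915a, 0x6db864, 0x6dc326, 0x6dea18, 0x6e0da9, 0x6e1936, 0x6e2497, 0x6e4b4a, 0x6e6274, 0x6e806f,
  0x6e94f0, 0x6ea951, 0x6ec68c, 0x6ed213, 0x6f02ba, 0x6f1625, 0x6f2b84, 0x6f4459, 0x6f50c6, 0x6fa642, 0x6fdd00, 0x6fe0a1,
  0x702bad, 0x703f32, 0x7050ef, 0x706d4e, 0x7079d1, 0x708f55, 0x709bca, 0x70a66b, 0x70b2f4, 0x70c9b6, 0x70dd29, 0x70f417,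
  0x71191f, 0x7124be, 0x714b63, 0x71625d, 0x7176c2, 0x7194d9, 0x71a978, 0x71c6a5, 0x71d23a, 0x71fb04, 0x721cb5, 0x72358b,
  0x724ec9, 0x725a56, 0x727368, 0x7285ec, 0x729173, 0x72acd2, 0x72b84d, 0x72c30f, 0x72d790, 0x72ea31, 0x730739, 0x7313a6,
  0x732e07, 0x733a98, 0x7341da, 0x735545, 0x7368e4, 0x739e60, 0x73a3c1, 0x73cc1c, 0x73d883, 0x73e522, 0x74037e, 0x7417e1,
  0x74459d, 0x746ca3, 0x74783c, 0x748eb8, 0x749a27, 0x74a786, 0x74b319, 0x74c85b, 0x74dcc4, 0x74e165, 0x750c6d, 0x7518f2,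
  0x752553, 0x7531cc, 0x754a8e, 0x755e11, 0x7563b0, 0x7581ab, 0x759534, 0x75a895, 0x75bc0a, 0x75c748, 0x7609c7, 0x761d58,
  0x7620f9, 0x763466, 0x764f24, 0x76661a, 0x767285, 0x76909e, 0x76b9a0, 0x76c2e2, 0x7706d4, 0x77124b, 0x774037, 0x7754a8,
  0x776909, 0x778b12, 0x77a22c, 0x77f050, 0x7815d6, 0x782877, 0x783ce8, 0x7847aa, 0x785335, 0x786e94, 0x787a0b, 0x788c8f,
  0x78a5b1, 0x78b12e, 0x78ca6c, 0x78e352, 0x790e5a, 0x791ac5, 0x792764, 0x7948b9, 0x795c26, 0x796187, 0x797518, 0x79839c,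
  0x799703, 0x79aaa2, 0x79d1e0, 0x79ec41, 0x7a0bf0, 0x7a22ce, 0x7a3651, 0x7a4d13, 0x7a598c, 0x7a642d, 0x7a70b2, 0x7a8636,
  0x7a92a9, 0x7aaf08, 0x7ac0d5, 0x7ad44a, 0x7b04e3, 0x7b107c, 0x7b3942, 0x7b8925, 0x7ba01b, 0x7bb484, 0x7c143b, 0x7c299a,
  0x7c3d05, 0x7c4647, 0x7c52d8, 0x7c8d62, 0x7ca45c, 0x7cb0c3, 0x7ccb81, 0x7cf620, 0x7d1b28, 0x7d2689, 0x7d3216, 0x7d4954,
  0x7d606a, 0x7d8271, 0x7dc492, 0x7dd00d, 0x7e0a1d, 0x7e1e82, 0x7e2323, 0x7e5861, 0x7e65c0, 0x7e9344, 0x7ec138, 0x7ee806,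
  0x7f050e, 0x7f1191, 0x7f2c30, 0x7f88c8, 0x807737, 0x80d3cf, 0x80ee6e, 0x80faf1, 0x8117f9, 0x813ec7, 0x816cbb, 0x819a3f,
  0x81a79e, 0x81dcdc, 0x81e17d, 0x81f5e2, 0x822ff2, 0x823b6d, 0x827d8e, 0x829f95, 0x82b6ab, 0x82cde9, 0x82d976, 0x82e4d7,
  0x8309df, 0x83347e, 0x834f3c, 0x835ba3, 0x83729d, 0x83ad27, 0x83b9b8, 0x83c2fa, 0x83d665, 0x83ebc4, 0x844b7b, 0x845fe4,
  0x8476da, 0x84c6bd, 0x84ef83, 0x84fb1c, 0x852bb5, 0x853f2a, 0x8550f7, 0x856d56, 0x8579c9, 0x858f4d, 0x859bd2, 0x85a673,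
  0x85b2ec, 0x85c9ae, 0x85dd31, 0x85f40f, 0x8613be, 0x862e1f, 0x86555d, 0x8668fc, 0x867c63, 0x868ae7, 0x869e78, 0x86a3d9,
  0x86b746, 0x86d89b, 0x86e53a, 0x86f1a5, 0x871cad, 0x873593, 0x874ed1, 0x875a4e, 0x877370, 0x8785f4, 0x87916b, 0x87acca,
  0x87b855, 0x87c317, 0x87d788, 0x87ea29, 0x880faf, 0x885dd3, 0x8874ed, 0x8896f6, 0x88ab57, 0x88bfc8, 0x88edb4, 0x88f92b,
  0x893d1d, 0x89465f, 0x896f61, 0x898d7a, 0x8999e5, 0x89b0db, 0x89cb99, 0x89df06, 0x89e2a7, 0x89f638, 0x8a38b7, 0x8a43f5,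
  0x8a576a, 0x8a6acb, 0x8a7e54, 0x8a9c4f, 0x8aa1ee, 0x8ab571, 0x8ace33, 0x8adaac, 0x8ae70d, 0x8af392, 0x8b1e9a, 0x8b233b,
  0x8b37a4, 0x8b4ce6, 0x8b5879, 0x8b65d8, 0x8b7147, 0x8b87c3, 0x8b935c, 0x8bba62, 0x8be81e, 0x8bfc81, 0x8c1add, 0x8c277c,
  0x8c33e3, 0x8c5c3e, 0x8c619f, 0x8c971b, 0x8caaba, 0x8cbe25, 0x8cc567, 0x8cd1f8, 0x8cec59, 0x8cf8c6, 0x8d15ce, 0x8d286f,
  0x8d3cf0, 0x8d47b2, 0x8d532d, 0x8d6e8c, 0x8d7a13, 0x8d8c97, 0x8da5a9, 0x8db136, 0x8dca74, 0x8de34a, 0x8e04fb, 0x8e2dc5,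
  0x8e395a, 0x8e5687, 0x8e6b26, 0x8e893d, 0x8e9da2, 0x8eb49c, 0x8edb41, 0x8ee6e0, 0x8f0be8, 0x8f22d6, 0x8f3649, 0x8f4d0b,
  0x8f5994, 0x8f6435, 0x8f70aa, 0x8f862e, 0x8f92b1, 0x8faf10, 0x8fc0cd, 0x8fd452, 0x901f5e, 0x9022ff, 0x9059bd, 0x90af39,
  0x90bba6, 0x90d47b, 0x90e9da, 0x90fd45, 0x912dec, 0x913973, 0x9156ae, 0x916b0f, 0x917f90, 0x919d8b, 0x91b4b5, 0x91db68,
  0x91e6c9, 0x91f256, 0x9215e7, 0x923cd9, 0x92479b, 0x926ea5, 0x927a3a, 0x928cbe, 0x92b11f, 0x92ca5d, 0x92dec2, 0x92e363,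
  0x930e6b, 0x931af4, 0x932755, 0x9333ca, 0x935c17, 0x9361b6, 0x937529, 0x9383ad, 0x939732, 0x93aa93, 0x93be0c, 0x93c54e,
  0x93d1d1, 0x93ec70, 0x941eb3, 0x94378d, 0x944ccf, 0x9465f1, 0x94716e, 0x9487ea, 0x949375, 0x94aed4, 0x94ba4b, 0x94d596,
  0x94e837, 0x94fca8, 0x95053f, 0x95389e, 0x9543dc, 0x955743, 0x956ae2, 0x9588f9, 0x959c66, 0x95a1c7, 0x95b558, 0x95ce1a,
  0x95da85, 0x95e724, 0x9629ab, 0x963d34, 0x964676, 0x9652e9, 0x966f48, 0x968d53, 0x9699cc, 0x96a46d, 0x96b0f2, 0x96cbb0,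
  0x96e28e, 0x96f611, 0x970f86, 0x971b19, 0x9726b8, 0x973227, 0x974965, 0x97605b, 0x9774c4, 0x97c4a3, 0x97d03c, 0x97f902,
  0x9835ba, 0x984ef8, 0x985a67, 0x9867c6, 0x987359, 0x9885dd, 0x98ace3, 0x98b87c, 0x98c33e, 0x98d7a1, 0x991397, 0x992e36,
  0x993aa9, 0x9941eb, 0x995574, 0x9968d5, 0x997c4a, 0x998ace, 0x999e51, 0x99a3f0, 0x99cc2d, 0x99d8b2, 0x99e513, 0x99f18c,
  0x9a163d, 0x9a2b9c, 0x9a3f03, 0x9a50de, 0x9a79e0, 0x9a8f64, 0x9aa65a, 0x9ab2c5, 0x9ac987, 0x9add18, 0x9ae0b9, 0x9af426,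
  0x9b0db1, 0x9b192e, 0x9b248f, 0x9b4b52, 0x9b626c, 0x9b8077, 0x9b94e8, 0x9ba949, 0x9bc694, 0x9bd20b, 0x9c09f6, 0x9c1d69,
  0x9c3457, 0x9c4f15, 0x9c5b8a, 0x9c662b, 0x9c72b4, 0x9c90af, 0x9cad0e, 0x9cb991, 0x9cc2d3, 0x9cd64c, 0x9d06e5, 0x9d127a,
  0x9d3b44, 0x9d5499, 0x9d6938, 0x9d8b23, 0x9da21d, 0x9db682, 0x9dcdc0, 0x9df061, 0x9e034f, 0x9e17d0, 0x9e2a71, 0x9e45ac,
  0x9e5133, 0x9e6c92, 0x9e780d, 0x9e8e89, 0x9e9a16, 0x9eb328, 0x9ec86a, 0x9ee154, 0x9f0c5c, 0x9f18c3, 0x9f2562, 0x9f5e20,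
  0x9f6381, 0x9f819a, 0x9f9505, 0x9fa8a4, 0xa03ebc, 0xa045fe, 0xa0785f, 0xa08edb, 0xa0a7e5, 0xa0b37a, 0xa0dca7, 0xa0f599,
  0xa131af, 0xa14aed, 0xa15e72, 0xa163d3, 0xa1774c, 0xa19557, 0xa1a8f6, 0xa1bc69, 0xa1c72b, 0xa1d3b4, 0xa1ee15, 0xa1fa8a,
  0xa21d3b, 0xa24f47, 0xa25bd8, 0xa26679, 0xa272e6, 0xa290fd, 0xa2ad5c, 0xa2b9c3, 0xa2d61e, 0xa2ff20, 0xa306b7, 0xa32f89,
  0xa33b16, 0xa354cb, 0xa3696a, 0xa38b71, 0xa3a24f, 0xa3b6d0, 0xa3cd92, 0xa3d90d, 0xa3e4ac, 0xa3f033, 0xa4166f, 0xa42bce,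
  0xa43f51, 0xa46d2d, 0xa479b2, 0xa48f36, 0xa49ba9, 0xa4b297, 0xa4c9d5, 0xa4dd4a, 0xa4e0eb, 0xa4f474, 0xa50de3, 0xa5197c,
  0xa524dd, 0xa5623e, 0xa576a1, 0xa594ba, 0xa5a91b, 0xa5bd84, 0xa5c6c6, 0xa5d259, 0xa61cd6, 0xa62177, 0xa635e8, 0xa64eaa,
  0xa65a35, 0xa66794, 0xa6730b, 0xa6858f, 0xa6acb1, 0xa6b82e, 0xa6c36c, 0xa6ea52, 0xa7075a, 0xa713c5, 0xa72e64, 0xa741b9,
  0xa75526, 0xa76887, 0xa77c18, 0xa78a9c, 0xa79e03, 0xa7a3a2, 0xa7d8e0, 0xa7e541, 0xa829f9, 0xa83d66, 0xa852bb, 0xa86f1a,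
  0xa87b85, 0xa8999e, 0xa8a43f, 0xa8cbe2, 0xa8e2dc, 0xa8f643, 0xa90fd4, 0xa91b4b, 0xa926ea, 0xa93275, 0xa94937, 0xa95da8,
  0xa97496, 0xa9968d, 0xa9ab2c, 0xa9c4f1, 0xa9d06e, 0xa9f950, 0xaa0a7e, 0xaa1ee1, 0xaa4c9d, 0xaa65a3, 0xaa713c, 0xaa87b8,
  0xaa9327, 0xaaae86, 0xaaba19, 0xaac15b, 0xaad5c4, 0xaae865, 0xab056d, 0xab11f2, 0xab2c53, 0xab38cc, 0xab438e, 0xab5711,
  0xab6ab0, 0xab88ab, 0xab9c34, 0xaba195, 0xabb50a, 0xabce48, 0xac15b5, 0xac3c8b, 0xac47c9, 0xac5356, 0xac7a68, 0xac8cec,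
  0xac9873, 0xaca5d2, 0xacb14d, 0xacca0f, 0xacde90, 0xace331, 0xad0e39, 0xad1aa6, 0xad2707, 0xad3398, 0xad48da, 0xad5c45,
  0xad61e4, 0xad9760, 0xadaac1, 0xadc51c, 0xadd183, 0xadec22, 0xae0b93, 0xae1f0c, 0xae22ad, 0xae3632, 0xae4d70, 0xae644e,
  0xae70d1, 0xae8655, 0xae92ca, 0xaec0b6, 0xaed429, 0xaee988, 0xaf101f, 0xaf3921, 0xaf4263, 0xaf8946, 0xafa078, 0xaff204,
  0xb02d97, 0xb056d5, 0xb06b74, 0xb0896f, 0xb09df0, 0xb0b4ce, 0xb0cf8c, 0xb0db13, 0xb0e6b2, 0xb0f22d, 0xb10bba, 0xb11f25,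
  0xb1361b, 0xb14d59, 0xb159c6, 0xb16467, 0xb170f8, 0xb1867c, 0xb192e3, 0xb1af42, 0xb1c09f, 0xb1e9a1, 0xb21a8f, 0xb2272e,
  0xb233b1, 0xb248f3, 0xb25c6c, 0xb261cd, 0xb27552, 0xb283d6, 0xb29749, 0xb2aae8, 0xb2c535, 0xb2d1aa, 0xb2ec0b, 0xb2f894,
  0xb3159c, 0xb3283d, 0xb33ca2, 0xb347e0, 0xb37a41, 0xb38cc5, 0xb3985a, 0xb3b164, 0xb3ca26, 0xb3e318, 0xb411db, 0xb42c7a,
  0xb438e5, 0xb443a7, 0xb45738, 0xb46a99, 0xb47e06, 0xb49c1d, 0xb4a1bc, 0xb4b523, 0xb4ce61, 0xb4f3c0, 0xb50a57, 0xb51ec8,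
  0xb52369, 0xb54cb4, 0xb5582b, 0xb5658a, 0xb57115, 0xb58791, 0xb5930e, 0xb5ba30, 0xb5c172, 0xb5e84c, 0xb61b62, 0xb626c3,
  0xb6325c, 0xb6491e, 0xb65d81, 0xb6823b, 0xb696a4, 0xb6ab05, 0xb6c4d8, 0xb6d047, 0xb700ee, 0xb71471, 0xb729d0, 0xb7460d,
  0xb75292, 0xb78d28, 0xb7a416, 0xb7b089, 0xb80773, 0xb813ec, 0xb82e4d, 0xb83ad2, 0xb8550f, 0xb868ae, 0xb87c31, 0xb88ab5,
  0xb89e2a, 0xb8a38b, 0xb8b714, 0xb8cc56, 0xb8d8c9, 0xb8e568, 0xb9215e, 0xb935c1, 0xb94e83, 0xb95a1c, 0xb97322, 0xb985a6,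
  0xb99139, 0xb9ac98, 0xb9b807, 0xb9c345, 0xba0dca, 0xba1955, 0xba24f4, 0xba306b, 0xba4b29, 0xba6217, 0xba7688, 0xba9493,
  0xbaa932, 0xbad270, 0xbb02d9, 0xbb1646, 0xbb443a, 0xbb50a5, 0xbb6d04, 0xbb9b80, 0xbba621, 0xbbe0c2, 0xbc069e, 0xbc2fa0,
  0xbc407d, 0xbc54e2, 0xbc6943, 0xbc8b58, 0xbca266, 0xbcd924, 0xbce485, 0xbcf01a, 0xbd098d, 0xbd1d12, 0xbd20b3, 0xbd342c,
  0xbd6650, 0xbd844b, 0xbd90d4, 0xbdc2a8, 0xbe0c27, 0xbe18b8, 0xbe2519, 0xbe3186, 0xbe4ac4, 0xbe81e1, 0xbebc40, 0xbec702,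
  0xbf0334, 0xbf2a0a, 0xbf5148, 0xbfc811, 0xc03b9b, 0xc069e7, 0xc07d78, 0xc08bfc, 0xc09f63, 0xc0b65d, 0xc0cd1f, 0xc0f0be,
  0xc11db6, 0xc14fca, 0xc15b55, 0xc166f4, 0xc1726b, 0xc184ef, 0xc1add1, 0xc1b94e, 0xc1d693, 0xc1eb32, 0xc225bd, 0xc2635e,
  0xc277c1, 0xc295da, 0xc2a87b, 0xc2bce4, 0xc2c7a6, 0xc2d339, 0xc2ee98, 0xc2fa07, 0xc3170f, 0xc32aae, 0xc33e31, 0xc34573,
  0xc351ec, 0xc36c4d, 0xc378d2, 0xc38e56, 0xc39ac9, 0xc3a768, 0xc3c8b5, 0xc3dc2a, 0xc3e18b, 0xc3f514, 0xc407d7, 0xc42ee9,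
  0xc43a76, 0xc455ab, 0xc47c95, 0xc49e8e, 0xc4a32f, 0xc4b7b0, 0xc4ccf2, 0xc4d86d, 0xc4e5cc, 0xc4f153, 0xc51c5b, 0xc521fa,
  0xc53565, 0xc54e27, 0xc55ab8, 0xc56719, 0xc57386, 0xc5919d, 0xc5ac3c, 0xc5b8a3, 0xc5c3e1, 0xc5fe40, 0xc60d6e, 0xc619f1,
  0xc630cf, 0xc64b8d, 0xc65f12, 0xc662b3, 0xc6762c, 0xc69437, 0xc6a996, 0xc6bd09, 0xc6c64b, 0xc6d2d4, 0xc7027d, 0xc716e2,
  0xc72b43, 0xc7449e, 0xc76da0, 0xc79b24, 0xc7a685, 0xc7b21a, 0xc7c958, 0xc7e066, 0xc8117f, 0xc82cde, 0xc8579c, 0xc86a3d,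
  0xc87ea2, 0xc89cb9, 0xc8b587, 0xc8cec5, 0xc8da5a, 0xc8f364, 0xc90af3, 0xc91e6c, 0xc923cd, 0xc93752, 0xc9588f, 0xc9652e,
  0xc971b1, 0xc98735, 0xc993aa, 0xc9ae0b, 0xc9ba94, 0xc9c1d6, 0xc9d549, 0xc9e8e8, 0xca0f59, 0xca1bc6, 0xca2667, 0xca32f8,
  0xca49ba, 0xca5d25, 0xca741b, 0xca829f, 0xcaaba1, 0xcac47c, 0xcad0e3, 0xcaed42, 0xcb14d5, 0xcb2974, 0xcb46a9, 0xcb5236,
  0xcb7b08, 0xcb8d8c, 0xcb9913, 0xcba4b2, 0xcbb02d, 0xcbe251, 0xcc2d33, 0xcc39ac, 0xcc42ee, 0xcc5671, 0xcc6bd0, 0xcc89cb,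
  0xcc9d54, 0xcca0f5, 0xccb46a, 0xcccf28, 0xcce616, 0xccf289, 0xcd0b1e, 0xcd1f81, 0xcd5962, 0xcd64c3, 0xcd705c, 0xcd86d8,
  0xcd9247, 0xcdc03b, 0xcdd4a4, 0xcde905, 0xce0eb4, 0xce1a2b, 0xce278a, 0xce3315, 0xce4857, 0xce5cc8, 0xce6169, 0xce8372,
  0xceaa4c, 0xcec591, 0xced10e, 0xcef830, 0xcf01a7, 0xcf1538, 0xcf2899, 0xcf3c06, 0xcf4744, 0xcf8c61, 0xcfb1c0, 0xcfca82,
  0xd03c2f, 0xd0476d, 0xd053f2, 0xd06e53, 0xd07acc, 0xd098d7, 0xd0a576, 0xd0b1e9, 0xd0caab, 0xd0de34, 0xd0e395, 0xd0f70a,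
  0xd10e9d, 0xd127a3, 0xd1333c, 0xd1487e, 0xd15ce1, 0xd1835b, 0xd197c4, 0xd1aa65, 0xd1c5b8, 0xd1d127, 0xd1ec86, 0xd1f819,
  0xd20b37, 0xd21fa8, 0xd23696, 0xd24dd4, 0xd2594b, 0xd264ea, 0xd27075, 0xd286f1, 0xd2926e, 0xd2bb50, 0xd2d48d, 0xd2e92c,
  0xd310bb, 0xd32d1a, 0xd33985, 0xd342c7, 0xd35658, 0xd389e2, 0xd3a0dc, 0xd3b443, 0xd3cf01, 0xd3f2a0, 0xd414fc, 0xd4295d,
  0xd43dc2, 0xd4521f, 0xd47b21, 0xd48da5, 0xd4993a, 0xd4a49b, 0xd4cb46, 0xd4e278, 0xd50f70, 0xd5264e, 0xd532d1, 0xd54993,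
  0xd55d0c, 0xd560ad, 0xd57432, 0xd582b6, 0xd59629, 0xd5ab88, 0xd5c455, 0xd5d0ca, 0xd60ada, 0xd61e45, 0xd623e4, 0xd64c39,
  0xd658a6, 0xd66507, 0xd67198, 0xd6871c, 0xd69383, 0xd6ae22, 0xd6d560, 0xd6e8c1, 0xd705c9, 0xd71156, 0xd73868, 0xd7432a,
  0xd76a14, 0xd7880f, 0xd79c90, 0xd7a131, 0xd816cb, 0xd82b6a, 0xd844b7, 0xd86d89, 0xd87916, 0xd88f92, 0xd89b0d, 0xd8a6ac,
  0xd8b233, 0xd8c971, 0xd8e04f, 0xd8f4d0, 0xd90d47, 0xd919d8, 0xd92479, 0xd930e6, 0xd94ba4, 0xd9629a, 0xd97605, 0xd9941e,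
  0xd9bd20, 0xd9c662, 0xda08ed, 0xda1c72, 0xda21d3, 0xda354c, 0xda4e0e, 0xda5a91, 0xda6730, 0xda852b, 0xda91b4, 0xdaac15,
  0xdab88a, 0xdac3c8, 0xdb1361, 0xdb2ec0, 0xdb411d, 0xdb5582, 0xdb6823, 0xdb8a38, 0xdba306, 0xdbd844, 0xdc03b9, 0xdc1726,
  0xdc2a87, 0xdc3e18, 0xdc455a, 0xdc51c5, 0xdc6c64, 0xdc9ae0, 0xdca741, 0xdcc89c, 0xdcdc03, 0xdce1a2, 0xdd0caa, 0xdd1835,
  0xdd2594, 0xdd310b, 0xdd4a49, 0xdd816c, 0xdda852, 0xddd310, 0xde203e, 0xde34a1, 0xde7242, 0xde84c6, 0xde9059, 0xdec225,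
  0xdf0613, 0xdf128c, 0xdf40f0, 0xdfe408, 0xe01dcd, 0xe034f3, 0xe04fb1, 0xe05b2e, 0xe0668f, 0xe0adaa, 0xe0b935, 0xe0c277,
  0xe0d6e8, 0xe0eb49, 0xe112de, 0xe13be0, 0xe1543d, 0xe1699c, 0xe17d03, 0xe18b87, 0xe19f18, 0xe1a2b9, 0xe1b626, 0xe1cd64,
  0xe1e45a, 0xe1f0c5, 0xe203eb, 0xe21774, 0xe22ad5, 0xe23e4a, 0xe25197, 0xe26c36, 0xe278a9, 0xe28e2d, 0xe29ab2, 0xe2a713,
  0xe2b38c, 0xe2c8ce, 0xe2dc51, 0xe2e1f0, 0xe30cf8, 0xe31867, 0xe325c6, 0xe33159, 0xe34a1b, 0xe35e84, 0xe36325, 0xe3813e,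
  0xe395a1, 0xe3d342, 0xe408bf, 0xe4351e, 0xe44e5c, 0xe45ac3, 0xe46762, 0xe48579, 0xe491e6, 0xe4ac47, 0xe4b8d8, 0xe4c39a,
  0xe4d705, 0xe4eaa4, 0xe507ac, 0xe51333, 0xe52e92, 0xe53a0d, 0xe5414f, 0xe555d0, 0xe56871, 0xe58a6a, 0xe5a354, 0xe5cc89,
  0xe5d816, 0xe5f128, 0xe61699, 0xe62b38, 0xe644e5, 0xe6507a, 0xe67944, 0xe68fc0, 0xe6b261, 0xe6c923, 0xe6e01d, 0xe6f482,
  0xe70d15, 0xe7198a, 0xe7242b, 0xe730b4, 0xe762c8, 0xe780d3, 0xe7944c, 0xe7c630, 0xe81e17, 0xe823b6, 0xe83729, 0xe84c6b,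
  0xe858f4, 0xe86555, 0xe871ca, 0xe8874e, 0xe893d1, 0xe8ae70, 0xe8c1ad, 0xe8d532, 0xe8e893, 0xe8fc0c, 0xe9059b, 0xe92ca5,
  0xe9383a, 0xe94378, 0xe96a46, 0xe9885d, 0xe99cc2, 0xe9a163, 0xe9da21, 0xe9e780, 0xea14ae, 0xea290f, 0xea3d90, 0xea46d2,
  0xea524d, 0xea9968, 0xeaa4c9, 0xeab056, 0xeacb14, 0xeae22a, 0xeb0f22, 0xeb261c, 0xeb3283, 0xeb49c1, 0xeb7460, 0xeb82e4,
  0xebc407, 0xebd098, 0xec0b65, 0xec225b, 0xec36c4, 0xec4d86, 0xec5919, 0xec64b8, 0xec7027, 0xec86a3, 0xec923c, 0xecbb02,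
  0xed0476, 0xed10e9, 0xed2d48, 0xed4295, 0xed560a, 0xed89b0, 0xeda08e, 0xedb411, 0xee01dc, 0xee1543, 0xee28e2, 0xee53a0,
  0xee6e01, 0xee8c1a, 0xee9885, 0xeea524, 0xef1a50, 0xef482c, 0xef6112, 0xef8309, 0xf00ee6, 0xf01a79, 0xf027d8, 0xf03347,
  0xf05c9a, 0xf0613b, 0xf075a4, 0xf0aa1e, 0xf0be81, 0xf0c5c3, 0xf0d15c, 0xf0f862, 0xf101f5, 0xf1156a, 0xf128cb, 0xf13c54,
  0xf14716, 0xf15389, 0xf16e28, 0xf18c33, 0xf198ac, 0xf1a50d, 0xf1b192, 0xf1cad0, 0xf2045f, 0xf22d61, 0xf242bc, 0xf25623,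
  0xf26b82, 0xf28999, 0xf29d06, 0xf2a0a7, 0xf2b438, 0xf2e644, 0xf30b4c, 0xf32272, 0xf35930, 0xf36491, 0xf3700e, 0xf3868a,
  0xf39215, 0xf3c069, 0xf40f0b, 0xf41b94, 0xf42635, 0xf432aa, 0xf449e8, 0xf460d6, 0xf47449, 0xf482cd, 0xf49652, 0xf4c42e,
  0xf4d0b1, 0xf4ed10, 0xf51487, 0xf52926, 0xf55264, 0xf59941, 0xf5a4e0, 0xf5e203, 0xf605b2, 0xf6112d, 0xf62c8c, 0xf63813,
  0xf64351, 0xf68874, 0xf6a14a, 0xf6da08, 0xf70aa1, 0xf73700, 0xf74c42, 0xf7c184, 0xf80d3c, 0xf819a3, 0xf8309d, 0xf85f40,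
  0xf862e1, 0xf880fa, 0xf89465, 0xf8a9c4, 0xf8c619, 0xf8d286, 0xf9022f, 0xf916b0, 0xf92b11, 0xf944cc, 0xf95053, 0xf9b248,
  0xf9c90a, 0xf9e034, 0xfa0785, 0xfa131a, 0xfa3a24, 0xfa4166, 0xfa6858, 0xfa8a43, 0xfacca0, 0xfaf101, 0xfb0896, 0xfb1c09,
  0xfb21a8, 0xfb8550, 0xfc0cd1, 0xfc184e, 0xfc3170, 0xfc4a32, 0xfc630c, 0xfc8117, 0xfc9588, 0xfca829, 0xfd03c2, 0xfd4521,
  0xfd7880, 0xfd8e04, 0xfe0668, 0xfe408b, 0xfe5414, 0xfea290, 0xff2045, 0xff9022]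

theorem octadMasks_eq : octadMasks = octadList := by decide +kernel

theorem dodecadMasks_eq : dodecadMasks = dodecadList := by decide +kernel

theorem mem_wordsOfWeight_iff (s : Finset GolayPt) (n : ℕ) :
    s ∈ wordsOfWeight (golayCode : Set (GolayPt → ZMod 2)) n ↔
      inCode (maskOf s) = true ∧ popc (maskOf s) = n := by
  unfold wordsOfWeight
  rw [Set.mem_ofPred_eq, mem_supports_iff, ← card_bset, bset_maskOf]

theorem mem_octads_iff (s : Finset GolayPt) :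
    s ∈ octads ↔ inCode (maskOf s) = true ∧ popc (maskOf s) = 8 :=
  mem_wordsOfWeight_iff s 8

theorem mem_dodecads_iff (s : Finset GolayPt) :
    s ∈ dodecads ↔ inCode (maskOf s) = true ∧ popc (maskOf s) = 12 :=
  mem_wordsOfWeight_iff s 12

theorem bset_mem_octads_iff (m : ℕ) (hm : m < 2 ^ 24) :
    bset m ∈ octads ↔ inCode m = true ∧ popc m = 8 := by
  rw [mem_octads_iff, maskOf_bset m hm]

theorem bset_mem_dodecads_iff (m : ℕ) (hm : m < 2 ^ 24) :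
    bset m ∈ dodecads ↔ inCode m = true ∧ popc m = 12 := by
  rw [mem_dodecads_iff, maskOf_bset m hm]

theorem inCode_iff_encode (m : ℕ) (hm : m < 2 ^ 24) :
    inCode m = true ↔ ∃ a, a < 4096 ∧ m = encode a := by
  rw [← wordOf_mem_iff m hm]
  constructor
  · intro h
    obtain ⟨a, ha, he⟩ := exists_encode _ h
    exact ⟨a, ha, wordOf_inj _ _ hm (encode_lt a) he⟩
  · rintro ⟨a, _, rfl⟩
    exact wordOf_encode_mem a

theorem mem_codeFilter_iff (n m : ℕ) :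
    m ∈ ((List.range 4096).map encode).filter (fun m => Nat.beq (popc m) n) ↔
      m < 2 ^ 24 ∧ inCode m = true ∧ popc m = n := by
  rw [List.mem_filter, List.mem_map, nat_beq_iff]
  constructor
  · rintro ⟨⟨a, ha, rfl⟩, h8⟩
    rw [List.mem_range] at ha
    exact ⟨encode_lt a, (inCode_iff_encode _ (encode_lt a)).mpr ⟨a, ha, rfl⟩, h8⟩
  · rintro ⟨hm, hc, h8⟩
    obtain ⟨a, ha, rfl⟩ := (inCode_iff_encode m hm).mp hc
    exact ⟨⟨a, List.mem_range.mpr ha, rfl⟩, h8⟩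

theorem mem_octadList_iff (m : ℕ) :
    m ∈ octadList ↔ m < 2 ^ 24 ∧ inCode m = true ∧ popc m = 8 := by
  rw [← octadMasks_eq]
  exact mem_codeFilter_iff 8 m

theorem mem_dodecadList_iff (m : ℕ) :
    m ∈ dodecadList ↔ m < 2 ^ 24 ∧ inCode m = true ∧ popc m = 12 := by
  rw [← dodecadMasks_eq]
  exact mem_codeFilter_iff 12 m

/-- octads are exactly the sets of the masks in `octadList`. -/
theorem mem_octads_iff_exists (s : Finset GolayPt) : s ∈ octads ↔ ∃ m ∈ octadList, bset m = s := by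
  constructor
  · intro h
    refine ⟨maskOf s, ?_, bset_maskOf s⟩
    rw [mem_octadList_iff]
    exact ⟨maskOf_lt s, (mem_octads_iff s).mp h⟩
  · rintro ⟨m, hm, rfl⟩
    rw [mem_octadList_iff] at hm
    exact (bset_mem_octads_iff m hm.1).mpr hm.2

theorem mem_dodecads_iff_exists (s : Finset GolayPt) :
    s ∈ dodecads ↔ ∃ m ∈ dodecadList, bset m = s := by
  constructor
  · intro h
    refine ⟨maskOf s, ?_, bset_maskOf s⟩
    rw [mem_dodecadList_iff]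
    exact ⟨maskOf_lt s, (mem_dodecads_iff s).mp h⟩
  · rintro ⟨m, hm, rfl⟩
    rw [mem_dodecadList_iff] at hm
    exact (bset_mem_dodecads_iff m hm.1).mpr hm.2

theorem octadList_length : octadList.length = 759 := by decide +kernel

theorem dodecadList_length : dodecadList.length = 2576 := by decide +kernel

theorem encode_injOn_aux : allLoop (fun a => Nat.beq (Nat.shiftRight (encode a) 12) a) 4096 = true := by
  decide +kernel

theorem encode_injOn (a : ℕ) (ha : a < 4096) : encode a >>> 12 = a := by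
  have h := (allLoop_eq_true _ _).mp encode_injOn_aux a ha
  exact (nat_beq_iff _ _).mp h

theorem octadList_nodup : octadList.Nodup := by
  rw [← octadMasks_eq]
  unfold octadMasks
  apply List.Nodup.filter
  rw [List.nodup_map_iff_inj_on List.nodup_range]
  intro a ha b hb h
  rw [List.mem_range] at ha hb
  rw [← encode_injOn a ha, ← encode_injOn b hb, h]

theorem dodecadList_nodup : dodecadList.Nodup := by
  rw [← dodecadMasks_eq]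
  unfold dodecadMasks
  apply List.Nodup.filter
  rw [List.nodup_map_iff_inj_on List.nodup_range]
  intro a ha b hb h
  rw [List.mem_range] at ha hb
  rw [← encode_injOn a ha, ← encode_injOn b hb, h]

/-! ### The Steiner system -/

theorem card_of_mem_octads (o : Finset GolayPt) (ho : o ∈ octads) : o.card = 8 := ho.2

theorem card_of_mem_dodecads (o : Finset GolayPt) (ho : o ∈ dodecads) : o.card = 12 := ho.2

theorem support_add (v w : GolayPt → ZMod 2) :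
    support₂ (v + w) = symmDiff (support₂ v) (support₂ w) := by
  ext p
  simp only [support₂, Finset.mem_filter, Finset.mem_univ, true_and, Pi.add_apply,
    Finset.mem_symmDiff]
  have : ∀ a b : ZMod 2, a + b ≠ 0 ↔ (a ≠ 0 ∧ ¬ b ≠ 0) ∨ (b ≠ 0 ∧ ¬ a ≠ 0) := by decide
  exact this (v p) (w p)

theorem card_symmDiff_add_two_mul (s t : Finset GolayPt) :
    (symmDiff s t).card + 2 * (s ∩ t).card = s.card + t.card := by
  have h1 : (symmDiff s t).card = (s \ t).card + (t \ s).card := by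
    rw [symmDiff_def, Finset.sup_eq_union, Finset.card_union_of_disjoint]
    exact disjoint_sdiff_sdiff
  have h2 := Finset.card_sdiff_add_card_inter s t
  have h3 := Finset.card_sdiff_add_card_inter t s
  rw [Finset.inter_comm t s] at h3
  omega

/-- the symmetric difference of two supports of code words is the support of a code word. -/
theorem symmDiff_mem_supports (s t : Finset GolayPt)
    (hs : s ∈ supports (golayCode : Set (GolayPt → ZMod 2)))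
    (ht : t ∈ supports (golayCode : Set (GolayPt → ZMod 2))) :
    symmDiff s t ∈ supports (golayCode : Set (GolayPt → ZMod 2)) := by
  obtain ⟨v, hv, rfl⟩ := hs
  obtain ⟨w, hw, rfl⟩ := ht
  exact ⟨v + w, golayCode.add_mem hv hw, support_add v w⟩

theorem card_of_mem_supports (s : Finset GolayPt)
    (hs : s ∈ supports (golayCode : Set (GolayPt → ZMod 2))) :
    s.card = 0 ∨ s.card = 8 ∨ s.card = 12 ∨ s.card = 16 ∨ s.card = 24 := by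
  obtain ⟨v, hv, rfl⟩ := hs
  exact weight_cases v hv

/-- two octads with at least five common points are equal. -/
theorem octad_eq_of_five (o o' : Finset GolayPt) (ho : o ∈ octads) (ho' : o' ∈ octads)
    (h : 5 ≤ (o ∩ o').card) : o = o' := by
  have h1 := card_symmDiff_add_two_mul o o'
  rw [ho.2, ho'.2] at h1
  have h2 := card_of_mem_supports _ (symmDiff_mem_supports o o' ho.1 ho'.1)
  have h3 : (symmDiff o o').card = 0 := by omega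
  rw [Finset.card_eq_zero] at h3
  exact symmDiff_eq_bot.mp h3

/-- the finset of all octads -/
noncomputable def octadFinset : Finset (Finset GolayPt) := (octadList.map bset).toFinset

theorem mem_octadFinset (o : Finset GolayPt) : o ∈ octadFinset ↔ o ∈ octads := by
  unfold octadFinset
  rw [List.mem_toFinset, List.mem_map, mem_octads_iff_exists]

theorem card_octadFinset : octadFinset.card = 759 := by
  unfold octadFinset
  rw [List.toFinset_card_of_nodup, List.length_map, octadList_length]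
  rw [List.nodup_map_iff_inj_on octadList_nodup]
  intro a ha b hb h
  exact bset_inj a b ((mem_octadList_iff a).mp ha).1 ((mem_octadList_iff b).mp hb).1 h

theorem octads_ncard : octads.ncard = 759 := by
  have : octads = (octadFinset : Set (Finset GolayPt)) := by
    ext o; rw [Finset.mem_coe, mem_octadFinset]
  rw [this, Set.ncard_coe_finset, card_octadFinset]

theorem count_octads_le_one (s : Finset GolayPt) (hs : s.card = 5) :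
    (octadFinset.filter fun o => s ⊆ o).card ≤ 1 := by
  rw [Finset.card_le_one]
  intro a ha b hb
  rw [Finset.mem_filter, mem_octadFinset] at ha hb
  apply octad_eq_of_five a b ha.1 hb.1
  rw [← hs]
  exact Finset.card_le_card (Finset.subset_inter ha.2 hb.2)

theorem sum_count_octads :
    ∑ s ∈ Finset.powersetCard 5 (Finset.univ : Finset GolayPt),
      (octadFinset.filter fun o => s ⊆ o).card = 42504 := by
  have h := Finset.sum_card_bipartiteAbove_eq_sum_card_bipartiteBelow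
    (s := Finset.powersetCard 5 (Finset.univ : Finset GolayPt)) (t := octadFinset)
    (fun (a b : Finset GolayPt) => a ⊆ b)
  unfold Finset.bipartiteAbove Finset.bipartiteBelow at h
  rw [h]
  have h2 : ∀ o ∈ octadFinset,
      ((Finset.powersetCard 5 (Finset.univ : Finset GolayPt)).filter fun a => a ⊆ o).card = 56 := by
    intro o ho
    have : ((Finset.powersetCard 5 (Finset.univ : Finset GolayPt)).filter fun a => a ⊆ o)
        = Finset.powersetCard 5 o := by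
      ext a
      simp only [Finset.mem_filter, Finset.mem_powersetCard, Finset.subset_univ, true_and]
      exact and_comm
    rw [this, Finset.card_powersetCard, card_of_mem_octads o ((mem_octadFinset o).mp ho)]
    norm_num [Nat.choose]
  rw [Finset.sum_congr rfl h2, Finset.sum_const, card_octadFinset]
  norm_num

theorem count_octads_eq_one (s : Finset GolayPt) (hs : s.card = 5) :
    (octadFinset.filter fun o => s ⊆ o).card = 1 := by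
  by_contra hne
  have hs' : s ∈ Finset.powersetCard 5 (Finset.univ : Finset GolayPt) := by
    rw [Finset.mem_powersetCard]; exact ⟨Finset.subset_univ _, hs⟩
  have hlt : ∑ s ∈ Finset.powersetCard 5 (Finset.univ : Finset GolayPt),
      (octadFinset.filter fun o => s ⊆ o).card <
      ∑ _s ∈ Finset.powersetCard 5 (Finset.univ : Finset GolayPt), 1 := by
    apply Finset.sum_lt_sum
    · intro t ht
      exact count_octads_le_one t (Finset.mem_powersetCard.mp ht).2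
    · refine ⟨s, hs', ?_⟩
      have := count_octads_le_one s hs
      omega
  rw [sum_count_octads, Finset.sum_const, Finset.card_powersetCard, Finset.card_univ] at hlt
  have : (Fintype.card GolayPt).choose 5 = 42504 := by
    have : Fintype.card GolayPt = 24 := by simp
    rw [this]; norm_num [Nat.choose]
  rw [this] at hlt
  simp at hlt

/-- the octads form a Steiner system S(5, 8, 24). -/
theorem isSteinerSystem_octads : IsSteinerSystem 5 8 octads := by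
  refine ⟨fun b hb => hb.2, fun s hs => ?_⟩
  have h1 := count_octads_eq_one s hs
  rw [Finset.card_eq_one] at h1
  obtain ⟨o, ho⟩ := h1
  have hmem : o ∈ octadFinset.filter fun o => s ⊆ o := by rw [ho]; exact Finset.mem_singleton_self o
  rw [Finset.mem_filter, mem_octadFinset] at hmem
  refine ⟨o, hmem, ?_⟩
  rintro o' ⟨ho', hso'⟩
  have : o' ∈ octadFinset.filter fun o => s ⊆ o := by
    rw [Finset.mem_filter, mem_octadFinset]; exact ⟨ho', hso'⟩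
  rw [ho] at this
  exact Finset.mem_singleton.mp this

/-- every five points lie in an octad -/
theorem exists_octad_of_five (s : Finset GolayPt) (hs : s.card = 5) : ∃ o ∈ octads, s ⊆ o := by
  obtain ⟨o, ho, _⟩ := isSteinerSystem_octads.2 s hs
  exact ⟨o, ho.1, ho.2⟩

end Cfsg.Agent.Lib.Helper28.GolayCode
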