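import Mathlib
import Cfsg.Prelude.Def_Sporadic_a
import Cfsg.Agent.Lib.Helper28.GolayCode
set_option autoImplicit false

/-!
Permutations of the 24 points given by packed numbers (five bits per image), their action on
bitmasks, and a kernel-checkable criterion for membership in `Cfsg.M24`.
-/

namespace Cfsg.Agent.Lib.Helper28.GolayCode
open Cfsg
open scoped Pointwise

/-! ### Packed permutations -/

/-- image of the number `i` under the packed map `P` (five bits per image) -/
def img (P i : ℕ) : ℕ := Nat.land (Nat.shiftRight P (Nat.mul 5 i)) 31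

/-- loop computing the image of a mask -/
noncomputable def applyMaskLoop (P m : ℕ) (n : ℕ) : ℕ :=
  @Nat.rec (fun _ => ℕ) 0 (fun i acc => Nat.lor acc (Nat.shiftLeft (bitN m i) (img P i))) n

/-- image of a mask under a packed map -/
noncomputable def applyMask (P m : ℕ) : ℕ := applyMaskLoop P m 24

theorem applyMaskLoop_succ (P m n : ℕ) :
    applyMaskLoop P m (n + 1) = applyMaskLoop P m n ||| (bitN m n <<< img P n) := rfl

theorem testBit_bitN_shiftLeft (m i s k : ℕ) :
    (bitN m i <<< s).testBit k = true ↔ m.testBit i = true ∧ s = k := by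
  rw [bitN_eq]
  by_cases h : m.testBit i = true
  · rw [if_pos h, Nat.one_shiftLeft, Nat.testBit_two_pow]
    simp [h]
  · rw [if_neg h, Nat.zero_shiftLeft, Nat.zero_testBit]
    simp [h]

theorem testBit_applyMaskLoop (P m n k : ℕ) :
    (applyMaskLoop P m n).testBit k = true ↔ ∃ i, i < n ∧ m.testBit i = true ∧ img P i = k := by
  induction n with
  | zero => simp [applyMaskLoop]
  | succ n ih =>
    rw [applyMaskLoop_succ, Nat.testBit_or, Bool.or_eq_true, ih, testBit_bitN_shiftLeft]
    constructor
    · rintro (⟨i, hi, h⟩ | h)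
      · exact ⟨i, Nat.lt_succ_of_lt hi, h⟩
      · exact ⟨n, Nat.lt_succ_self n, h⟩
    · rintro ⟨i, hi, h⟩
      rcases Nat.lt_succ_iff_lt_or_eq.mp hi with h' | h'
      · exact Or.inl ⟨i, h', h⟩
      · rw [h'] at h; exact Or.inr h

theorem testBit_applyMask (P m k : ℕ) :
    (applyMask P m).testBit k = true ↔ ∃ i, i < 24 ∧ m.testBit i = true ∧ img P i = k :=
  testBit_applyMaskLoop P m 24 k

/-- the packed map as a function on points -/
def permFun (P : ℕ) (p : GolayPt) : GolayPt := dec (img P (enc p))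

/-- check that the packed map is a permutation of `0..23` -/
noncomputable def isPerm (P : ℕ) : Bool := Nat.beq (applyMask P 0xffffff) 0xffffff

theorem testBit_ffffff (i : ℕ) : (0xffffff : ℕ).testBit i = true ↔ i < 24 := by
  have : (0xffffff : ℕ) = 2 ^ 24 - 1 := by norm_num
  rw [this, Nat.testBit_two_pow_sub_one]
  simp

theorem img_lt_of_isPerm (P : ℕ) (h : isPerm P = true) (i : ℕ) (hi : i < 24) : img P i < 24 := by
  unfold isPerm at h
  rw [nat_beq_iff] at h
  have h1 : (applyMask P 0xffffff).testBit (img P i) = true :=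
    (testBit_applyMask _ _ _).mpr ⟨i, hi, (testBit_ffffff i).mpr hi, rfl⟩
  rw [h] at h1
  exact (testBit_ffffff _).mp h1

theorem exists_img_of_isPerm (P : ℕ) (h : isPerm P = true) (k : ℕ) (hk : k < 24) :
    ∃ i, i < 24 ∧ img P i = k := by
  unfold isPerm at h
  rw [nat_beq_iff] at h
  have h1 : (applyMask P 0xffffff).testBit k = true := by rw [h]; exact (testBit_ffffff k).mpr hk
  obtain ⟨i, hi, _, hik⟩ := (testBit_applyMask _ _ _).mp h1
  exact ⟨i, hi, hik⟩

theorem permFun_bijective (P : ℕ) (h : isPerm P = true) : Function.Bijective (permFun P) := by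
  rw [← Finite.surjective_iff_bijective]
  intro q
  obtain ⟨i, hi, hik⟩ := exists_img_of_isPerm P h (enc q) (enc_lt q)
  refine ⟨dec i, ?_⟩
  unfold permFun
  rw [enc_dec i hi, hik, dec_enc]

/-- the permutation of the 24 points given by a packed map (the identity if the map is not
bijective) -/
noncomputable def permOf (P : ℕ) : Equiv.Perm GolayPt :=
  if h : Function.Bijective (permFun P) then Equiv.ofBijective (permFun P) h else 1

theorem permOf_apply (P : ℕ) (h : isPerm P = true) (p : GolayPt) : permOf P p = permFun P p := by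
  unfold permOf
  rw [dif_pos (permFun_bijective P h)]
  rfl

theorem permOf_apply_dec (P : ℕ) (h : isPerm P = true) (i : ℕ) (hi : i < 24) :
    permOf P (dec i) = dec (img P i) := by
  rw [permOf_apply P h, permFun, enc_dec i hi]

theorem mem_smul_finset_perm (σ : Equiv.Perm GolayPt) (s : Finset GolayPt) (q : GolayPt) :
    q ∈ σ • s ↔ σ.symm q ∈ s := by
  rw [Finset.mem_smul_finset]
  constructor
  · rintro ⟨p, hp, rfl⟩
    rw [Equiv.Perm.smul_def, Equiv.symm_apply_apply]; exact hp
  · intro h
    exact ⟨σ.symm q, h, by rw [Equiv.Perm.smul_def, Equiv.apply_symm_apply]⟩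

theorem mem_smul_finset_perm' (σ : Equiv.Perm GolayPt) (s : Finset GolayPt) (p : GolayPt) :
    σ p ∈ σ • s ↔ p ∈ s := by
  rw [mem_smul_finset_perm, Equiv.symm_apply_apply]

/-- the action of a packed permutation on sets is computed by `applyMask`. -/
theorem permOf_smul_bset (P : ℕ) (h : isPerm P = true) (m : ℕ) :
    permOf P • bset m = bset (applyMask P m) := by
  ext q
  rw [Finset.mem_smul_finset, mem_bset, testBit_applyMask]
  constructor
  · rintro ⟨p, hp, rfl⟩
    rw [mem_bset] at hp
    refine ⟨enc p, enc_lt p, hp, ?_⟩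
    rw [Equiv.Perm.smul_def, permOf_apply P h, permFun,
      enc_dec _ (img_lt_of_isPerm P h _ (enc_lt p))]
  · rintro ⟨i, hi, hb, hik⟩
    refine ⟨dec i, ?_, ?_⟩
    · rw [mem_bset, enc_dec i hi]; exact hb
    · rw [Equiv.Perm.smul_def, permOf_apply_dec P h i hi, hik, dec_enc]

theorem applyMask_lt (P : ℕ) (h : isPerm P = true) (m : ℕ) : applyMask P m < 2 ^ 24 := by
  apply Nat.lt_pow_two_of_testBit
  intro k hk
  by_contra hb
  rw [Bool.not_eq_false] at hb
  obtain ⟨i, hi, _, hik⟩ := (testBit_applyMask _ _ _).mp hb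
  have := img_lt_of_isPerm P h i hi
  omega

/-! ### Membership in `M24` -/

theorem mem_M24_iff (σ : Equiv.Perm GolayPt) :
    σ ∈ M24 ↔ ∀ s ∈ supports (golayCode : Set (GolayPt → ZMod 2)),
      σ • s ∈ supports (golayCode : Set (GolayPt → ZMod 2)) := by
  show σ ∈ MulAction.stabilizer _ _ ↔ _
  rw [MulAction.mem_stabilizer_iff]
  constructor
  · intro h s hs
    rw [← h]
    exact Set.smul_mem_smul_set hs
  · intro h
    have hsub : σ • supports (golayCode : Set (GolayPt → ZMod 2)) ⊆
        supports (golayCode : Set (GolayPt → ZMod 2)) := by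
      rintro _ ⟨s, hs, rfl⟩
      exact h s hs
    apply Set.eq_of_subset_of_ncard_le hsub _ (Set.toFinite _)
    rw [show σ • supports (golayCode : Set (GolayPt → ZMod 2)) =
      (fun s : Finset GolayPt => σ • s) '' supports (golayCode : Set (GolayPt → ZMod 2)) from rfl,
      Set.ncard_image_of_injective _ (MulAction.injective σ)]

theorem smul_mem_supports {σ : Equiv.Perm GolayPt} (hσ : σ ∈ M24) {s : Finset GolayPt}
    (hs : s ∈ supports (golayCode : Set (GolayPt → ZMod 2))) :
    σ • s ∈ supports (golayCode : Set (GolayPt → ZMod 2)) :=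
  (mem_M24_iff σ).mp hσ s hs

theorem smul_mem_wordsOfWeight {σ : Equiv.Perm GolayPt} (hσ : σ ∈ M24) {s : Finset GolayPt} {n : ℕ}
    (hs : s ∈ wordsOfWeight (golayCode : Set (GolayPt → ZMod 2)) n) :
    σ • s ∈ wordsOfWeight (golayCode : Set (GolayPt → ZMod 2)) n :=
  ⟨smul_mem_supports hσ hs.1, by rw [Finset.card_smul_finset]; exact hs.2⟩

theorem smul_mem_octads {σ : Equiv.Perm GolayPt} (hσ : σ ∈ M24) {o : Finset GolayPt}
    (ho : o ∈ octads) : σ • o ∈ octads := smul_mem_wordsOfWeight hσ ho

theorem smul_mem_dodecads {σ : Equiv.Perm GolayPt} (hσ : σ ∈ M24) {o : Finset GolayPt}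
    (ho : o ∈ dodecads) : σ • o ∈ dodecads := smul_mem_wordsOfWeight hσ ho

theorem smul_mem_octads_iff {σ : Equiv.Perm GolayPt} (hσ : σ ∈ M24) (o : Finset GolayPt) :
    σ • o ∈ octads ↔ o ∈ octads := by
  constructor
  · intro h
    have := smul_mem_octads (M24.inv_mem hσ) h
    rwa [inv_smul_smul] at this
  · exact smul_mem_octads hσ

theorem smul_mem_dodecads_iff {σ : Equiv.Perm GolayPt} (hσ : σ ∈ M24) (o : Finset GolayPt) :
    σ • o ∈ dodecads ↔ o ∈ dodecads := by
  constructor
  · intro h
    have := smul_mem_dodecads (M24.inv_mem hσ) h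
    rwa [inv_smul_smul] at this
  · exact smul_mem_dodecads hσ

theorem span_range_G : Submodule.span (ZMod 2) (Set.range G) = golayCode := by
  apply le_antisymm
  · rw [Submodule.span_le]
    rintro _ ⟨j, rfl⟩
    exact G_mem j
  · intro w hw
    rw [← (mem_iff w).mp hw]
    exact Submodule.sum_mem _ fun j _ =>
      Submodule.smul_mem _ _ (Submodule.subset_span ⟨j, rfl⟩)

theorem support_comp_symm (σ : Equiv.Perm GolayPt) (w : GolayPt → ZMod 2) :
    support₂ (fun p => w (σ.symm p)) = σ • support₂ w := by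
  ext q
  rw [mem_smul_finset_perm]
  simp [support₂]

/-- a permutation is in `M24` as soon as it maps the supports of the twelve basis words to supports
of code words. -/
theorem mem_M24_of_gens (σ : Equiv.Perm GolayPt)
    (h : ∀ j : Fin 12, σ • bset (gen j) ∈ supports (golayCode : Set (GolayPt → ZMod 2))) :
    σ ∈ M24 := by
  rw [mem_M24_iff]
  have key : golayCode ≤ golayCode.comap (LinearMap.funLeft (ZMod 2) (ZMod 2) σ.symm) := by
    rw [← span_range_G, Submodule.span_le]
    rintro _ ⟨j, rfl⟩
    show LinearMap.funLeft (ZMod 2) (ZMod 2) σ.symm (G j) ∈ Submodule.span (ZMod 2) (Set.range G)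
    rw [span_range_G]
    obtain ⟨w, hw, hws⟩ := h j
    have : LinearMap.funLeft (ZMod 2) (ZMod 2) (⇑σ.symm) (G j) = w := by
      apply support_injective
      rw [hws]
      show support₂ (fun p => G j (σ.symm p)) = _
      rw [support_comp_symm, G, support_wordOf]
    rw [this]; exact hw
  rintro s ⟨w, hw, rfl⟩
  refine ⟨fun p => w (σ.symm p), key hw, support_comp_symm σ w⟩

/-- kernel-checkable test for membership of a packed permutation in `M24` -/
noncomputable def inM24 (P : ℕ) : Bool :=
  isPerm P && (inCode (applyMask P 0x149f) && (inCode (applyMask P 0x293e) &&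
  (inCode (applyMask P 0x46e3) && (inCode (applyMask P 0x8dc6) && (inCode (applyMask P 0x10f13) &&
  (inCode (applyMask P 0x20ab9) && (inCode (applyMask P 0x401ed) && (inCode (applyMask P 0x803da) &&
  (inCode (applyMask P 0x1007b4) && (inCode (applyMask P 0x200f68) &&
  (inCode (applyMask P 0x400a4f) && inCode (applyMask P 0x800c75))))))))))))

theorem isPerm_of_inM24 (P : ℕ) (h : inM24 P = true) : isPerm P = true := by
  unfold inM24 at h
  exact (Bool.and_eq_true _ _ ▸ h).1

theorem permOf_mem_M24 (P : ℕ) (h : inM24 P = true) : permOf P ∈ M24 := by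
  have hp := isPerm_of_inM24 P h
  unfold inM24 at h
  simp only [Bool.and_eq_true] at h
  apply mem_M24_of_gens
  intro j
  rw [permOf_smul_bset P hp, bset_mem_supports_iff _ (applyMask_lt P hp _)]
  fin_cases j
  · exact h.2.1
  · exact h.2.2.1
  · exact h.2.2.2.1
  · exact h.2.2.2.2.1
  · exact h.2.2.2.2.2.1
  · exact h.2.2.2.2.2.2.1
  · exact h.2.2.2.2.2.2.2.1
  · exact h.2.2.2.2.2.2.2.2.1
  · exact h.2.2.2.2.2.2.2.2.2.1
  · exact h.2.2.2.2.2.2.2.2.2.2.1
  · exact h.2.2.2.2.2.2.2.2.2.2.2.1
  · exact h.2.2.2.2.2.2.2.2.2.2.2.2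

end Cfsg.Agent.Lib.Helper28.GolayCode
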