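import Mathlib
import Cfsg.Prelude.Def_Sporadic_a
import Cfsg.Agent.Lib.Helper28.M24Basic
set_option autoImplicit false

/-!
Fixed points of elements of `M24`: an element fixing five points of an octad fixes the octad;
a kernel-checkable closure procedure showing that an element fixing a set of points pointwise
fixes more points.
-/

namespace Cfsg.Agent.Lib.Helper28.GolayCode
open Cfsg
open scoped Pointwise

/-- an element of `M24` fixing (pointwise) at least five points of an octad maps the octad to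
itself. -/
theorem smul_octad_eq_of_fix {σ : Equiv.Perm GolayPt} (hσ : σ ∈ M24) {o : Finset GolayPt}
    (ho : o ∈ octads) (F : Finset GolayPt) (hF : ∀ p ∈ F, σ p = p) (h5 : 5 ≤ (o ∩ F).card) :
    σ • o = o := by
  apply octad_eq_of_five _ _ (smul_mem_octads hσ ho) ho
  refine le_trans h5 (Finset.card_le_card ?_)
  intro p hp
  rw [Finset.mem_inter] at hp ⊢
  refine ⟨?_, hp.1⟩
  rw [← hF p hp.2]
  exact (mem_smul_finset_perm' σ o p).mpr hp.1

/-- if `σ` maps `A` and `B` to themselves, fixes `F` pointwise, and `x` is the only point of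
`A ∩ B` outside `F`, then `σ` fixes `x`. -/
theorem fix_of_inter_singleton (σ : Equiv.Perm GolayPt) (A B F : Finset GolayPt)
    (hA : σ • A = A) (hB : σ • B = B) (hF : ∀ p ∈ F, σ p = p) (x : GolayPt)
    (hx : (A ∩ B) \ F = {x}) : σ x = x := by
  have hxm : x ∈ (A ∩ B) \ F := by rw [hx]; exact Finset.mem_singleton_self x
  rw [Finset.mem_sdiff, Finset.mem_inter] at hxm
  have h1 : σ x ∈ A := by rw [← hA]; exact (mem_smul_finset_perm' σ A x).mpr hxm.1.1
  have h2 : σ x ∈ B := by rw [← hB]; exact (mem_smul_finset_perm' σ B x).mpr hxm.1.2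
  have h3 : σ x ∉ F := by
    intro h
    have := hF _ h
    have hx' : σ x = x := σ.injective this
    rw [hx'] at h
    exact hxm.2 h
  have : σ x ∈ (A ∩ B) \ F := by
    rw [Finset.mem_sdiff, Finset.mem_inter]; exact ⟨⟨h1, h2⟩, h3⟩
  rw [hx] at this
  exact Finset.mem_singleton.mp this

/-- one closure step: `m1`, `m2` are octads with at least five points in `F` each and exactly one
common point outside `F`. -/
noncomputable def fixStepOK (F m1 m2 : ℕ) : Bool :=
  Nat.ble m1 0xffffff && Nat.ble m2 0xffffff && inCode m1 && Nat.beq (popc m1) 8 && inCode m2 &&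
    Nat.beq (popc m2) 8 && Nat.ble 5 (popc (Nat.land m1 F)) && Nat.ble 5 (popc (Nat.land m2 F)) &&
    Nat.beq (popc (Nat.land (Nat.land m1 m2) (Nat.xor (Nat.land F 0xffffff) 0xffffff))) 1

/-- run closure steps; the result is the mask of points known to be fixed. -/
noncomputable def fixClosure (F : ℕ) : List (ℕ × ℕ) → ℕ
  | [] => F
  | (m1, m2) :: rest =>
    if fixStepOK F m1 m2 = true then fixClosure (Nat.lor F (Nat.land m1 m2)) rest else F

theorem card_eq_one_of_popc {m : ℕ} (h : popc m = 1) : ∃ x, bset m = {x} := by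
  rw [← card_bset] at h
  exact Finset.card_eq_one.mp h

theorem bset_land (m n : ℕ) : bset (Nat.land m n) = bset m ∩ bset n := bset_and m n

theorem bset_lor (m n : ℕ) : bset (Nat.lor m n) = bset m ∪ bset n := bset_or m n

theorem bset_compl (F : ℕ) : bset (Nat.xor (Nat.land F 0xffffff) 0xffffff) = Finset.univ \ bset F := by
  ext p
  rw [mem_bset, Finset.mem_sdiff, mem_bset]
  show (F &&& 0xffffff ^^^ 0xffffff).testBit (enc p) = true ↔ _
  rw [Nat.testBit_xor, Nat.testBit_and]
  have h1 : (0xffffff : ℕ).testBit (enc p) = true := by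
    have : (0xffffff : ℕ) = 2 ^ 24 - 1 := by norm_num
    rw [this, Nat.testBit_two_pow_sub_one]
    simpa using enc_lt p
  rw [h1]
  cases F.testBit (enc p) <;> simp

theorem fixStep_sound {σ : Equiv.Perm GolayPt} (hσ : σ ∈ M24) (F m1 m2 : ℕ)
    (hF : ∀ p ∈ bset F, σ p = p) (hok : fixStepOK F m1 m2 = true) :
    ∀ p ∈ bset (Nat.lor F (Nat.land m1 m2)), σ p = p := by
  unfold fixStepOK at hok
  simp only [Bool.and_eq_true, nat_beq_iff, Nat.ble_eq] at hok
  obtain ⟨⟨⟨⟨⟨⟨⟨⟨hm1, hm2⟩, hc1⟩, hp1⟩, hc2⟩, hp2⟩, h51⟩, h52⟩, h1⟩ := hok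
  have hm1' : m1 < 2 ^ 24 := by norm_num; omega
  have hm2' : m2 < 2 ^ 24 := by norm_num; omega
  have ho1 : bset m1 ∈ octads := (bset_mem_octads_iff m1 hm1').mpr ⟨hc1, hp1⟩
  have ho2 : bset m2 ∈ octads := (bset_mem_octads_iff m2 hm2').mpr ⟨hc2, hp2⟩
  have hs1 : σ • bset m1 = bset m1 :=
    smul_octad_eq_of_fix hσ ho1 (bset F) hF (by rw [← bset_land, card_bset]; exact h51)
  have hs2 : σ • bset m2 = bset m2 :=
    smul_octad_eq_of_fix hσ ho2 (bset F) hF (by rw [← bset_land, card_bset]; exact h52)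
  obtain ⟨x, hx⟩ := card_eq_one_of_popc h1
  rw [bset_land, bset_land, bset_compl] at hx
  have hx' : (bset m1 ∩ bset m2) \ bset F = {x} := by
    rw [← hx]; ext p; simp [Finset.mem_sdiff, Finset.mem_inter, and_assoc]
  have hfx := fix_of_inter_singleton σ _ _ _ hs1 hs2 hF x hx'
  intro p hp
  rw [bset_lor, bset_land, Finset.mem_union] at hp
  rcases hp with hp | hp
  · exact hF p hp
  · by_cases hpF : p ∈ bset F
    · exact hF p hpF
    · have : p ∈ (bset m1 ∩ bset m2) \ bset F := Finset.mem_sdiff.mpr ⟨hp, hpF⟩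
      rw [hx', Finset.mem_singleton] at this
      rw [this]; exact hfx

theorem fixClosure_sound {σ : Equiv.Perm GolayPt} (hσ : σ ∈ M24) (steps : List (ℕ × ℕ)) :
    ∀ F : ℕ, (∀ p ∈ bset F, σ p = p) → ∀ p ∈ bset (fixClosure F steps), σ p = p := by
  induction steps with
  | nil => intro F hF; exact hF
  | cons s rest ih =>
    intro F hF
    obtain ⟨m1, m2⟩ := s
    unfold fixClosure
    split_ifs with hok
    · exact ih _ (fixStep_sound hσ F m1 m2 hF hok)
    · exact hF

/-- if the closure reaches all 24 points the element is the identity. -/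
theorem eq_one_of_fixClosure {σ : Equiv.Perm GolayPt} (hσ : σ ∈ M24) (F : ℕ)
    (steps : List (ℕ × ℕ)) (hF : ∀ p ∈ bset F, σ p = p)
    (hfull : Nat.land (fixClosure F steps) 0xffffff = 0xffffff) : σ = 1 := by
  apply Equiv.ext
  intro p
  rw [Equiv.Perm.one_apply]
  apply fixClosure_sound hσ steps F hF
  rw [mem_bset]
  have h1 : (Nat.land (fixClosure F steps) 0xffffff).testBit (enc p) = true := by
    rw [hfull]
    have : (0xffffff : ℕ) = 2 ^ 24 - 1 := by norm_num
    rw [this, Nat.testBit_two_pow_sub_one]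
    simpa using enc_lt p
  have h2 : (Nat.land (fixClosure F steps) 0xffffff).testBit (enc p) =
      ((fixClosure F steps).testBit (enc p) && (0xffffff : ℕ).testBit (enc p)) :=
    Nat.testBit_and _ _ _
  rw [h2, Bool.and_eq_true] at h1
  exact h1.1

end Cfsg.Agent.Lib.Helper28.GolayCode
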