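import Mathlib
import Cfsg.Prelude.Def_Sporadic_a
import Cfsg.Agent.Lib.Helper28.M24Fix
import Cfsg.Agent.Lib.Helper28.M24Pairs
set_option autoImplicit false

/-!
The pointwise stabiliser in `M24` of the octad `bset O0` as an explicit list of sixteen packed
permutations.
-/

namespace Cfsg.Agent.Lib.Helper28.M24OctadFix
open Cfsg Cfsg.Agent.Lib.Helper28.GolayCode Cfsg.Agent.Lib.Helper28.M24Pairs
open scoped Pointwise

/-- the sixteen elements fixing `bset O0` pointwise (the first one is the identity). -/
def Plist : List ℕ := [0xbdab49ca307b9ac5a928398a418820, 0xb9e086be3593a6952d94b10a618820, 0xb99b28523343aaa4b16f258a718820, 0xbc92655a2c3b9706cea47d0a818820, 0xba91094e346b9e63d8955b0a918820, 0xba64d4562f83a87312d362caa18820, 0xbb1f3a4232ab916218ed4a8ab18820, 0xbae957b6289ba44b1cd0524ac18820, 0xbc0ea332364b892451ebaccad18820, 0xbd17661a2a23933ac1a7448af18820, 0xbb4c93ae2453ac893e8c9d4b018820, 0xba1474922b3398d85676a3cb218820, 0xbd6cb22627638cfa224a834b318820, 0xbbd8459e29b39559b606920b418820, 0xbcc8cb2a265b8f47c9096c0b518820,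 0xb926faa22da3a0b6255231cb618820]

/-- the packed identity. -/
def idP : ℕ := 0xbdab49ca307b9ac5a928398a418820

/-- a point outside `bset O0`. -/
def x0 : GolayPt := dec 4

/-- the packed map fixes every point of the mask. -/
def fixesMask (t m : ℕ) : Bool :=
  (List.range 24).all fun i => !(m.testBit i) || Nat.beq (img t i) i

noncomputable def PentryOK (t : ℕ) : Bool := inM24 t && fixesMask t O0

theorem Plist_ok : Plist.all PentryOK = true := by decide +kernel

theorem Plist_cover : ∀ i < 24, O0.testBit i = false → ∃ t ∈ Plist, img t 4 = i := by decide +kernel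

theorem x0_not_mem : x0 ∉ bset O0 := by
  rw [mem_bset]; decide +kernel

theorem fixesMask_spec {t m : ℕ} (ht : isPerm t = true) (h : fixesMask t m = true) :
    ∀ p ∈ bset m, permOf t p = p := by
  intro p hp
  rw [mem_bset] at hp
  unfold fixesMask at h
  rw [List.all_eq_true] at h
  have := h (enc p) (List.mem_range.mpr (enc_lt p))
  rw [hp] at this
  simp only [Bool.not_true, Bool.false_or, nat_beq_iff] at this
  have h2 := permOf_apply_dec t ht (enc p) (enc_lt p)
  rw [dec_enc] at h2
  rw [h2, this, dec_enc]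

theorem Plist_inM24 {t : ℕ} (ht : t ∈ Plist) : inM24 t = true := by
  have := List.all_eq_true.mp Plist_ok t ht
  unfold PentryOK at this
  rw [Bool.and_eq_true] at this
  exact this.1

theorem Plist_fix {t : ℕ} (ht : t ∈ Plist) : ∀ p ∈ bset O0, permOf t p = p := by
  have := List.all_eq_true.mp Plist_ok t ht
  unfold PentryOK at this
  rw [Bool.and_eq_true] at this
  exact fixesMask_spec (isPerm_of_inM24 _ this.1) this.2

theorem Plist_mem_M24 {t : ℕ} (ht : t ∈ Plist) : permOf t ∈ M24 := permOf_mem_M24 t (Plist_inM24 ht)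

def steps0 : List (ℕ × ℕ) := [(0x149f, 0x527c), (0x149f, 0x1c436), (0x149f, 0x46e3), (0x293e, 0xa4f8), (0x293e, 0x20ab9), (0x293e, 0x3da1), (0x46e3, 0x8dc6), (0x46e3, 0x527c), (0x8dc6, 0x9959), (0x10f13, 0x11b8c), (0x401ed, 0x41572), (0x803da, 0x81745), (0x1007b4, 0x10132b), (0x200f68, 0x202656), (0x400a4f, 0x401ed0)]

theorem steps0_full : Nat.land (fixClosure (Nat.lor O0 16) steps0) 0xffffff = 0xffffff := by decide +kernel

/-- an element of `M24` fixing `bset O0` pointwise and the point `x0` is the identity. -/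
theorem eq_one_of_fix_O0_x0 {σ : Equiv.Perm GolayPt} (hσ : σ ∈ M24) (h1 : ∀ p ∈ bset O0, σ p = p)
    (h2 : σ x0 = x0) : σ = 1 := by
  apply eq_one_of_fixClosure hσ (Nat.lor O0 16) steps0 _ steps0_full
  intro p hp
  rw [bset_lor, Finset.mem_union] at hp
  rcases hp with hp | hp
  · exact h1 p hp
  · have : p = x0 := by
      rw [mem_bset] at hp
      have hlt := enc_lt p
      have : enc p = 4 := by
        generalize enc p = i at hp hlt
        interval_cases i <;> first | rfl | (exfalso; revert hp; decide)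
      rw [← dec_enc p, this]; rfl
    rw [this]; exact h2

/-- the elements of `M24` fixing `bset O0` pointwise are exactly the sixteen listed ones. -/
theorem mem_Plist_of_fix {g : Equiv.Perm GolayPt} (hg : g ∈ M24) (hfix : ∀ p ∈ bset O0, g p = p) :
    ∃ t ∈ Plist, g = permOf t := by
  have hy : g x0 ∉ bset O0 := by
    intro h
    have := hfix _ h
    have h' : g x0 = x0 := g.injective this
    rw [h'] at h
    exact x0_not_mem h
  rw [mem_bset] at hy
  obtain ⟨t, ht, himg⟩ := Plist_cover (enc (g x0)) (enc_lt _) (by simpa using hy)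
  refine ⟨t, ht, ?_⟩
  have hp := isPerm_of_inM24 _ (Plist_inM24 ht)
  have htx : permOf t x0 = g x0 := by
    have := permOf_apply_dec t hp 4 (by norm_num)
    rw [himg, dec_enc] at this
    exact this
  have h1 : (permOf t)⁻¹ * g = 1 := by
    apply eq_one_of_fix_O0_x0 (M24.mul_mem (M24.inv_mem (Plist_mem_M24 ht)) hg)
    · intro p hp'
      rw [Equiv.Perm.mul_apply, hfix p hp', Equiv.Perm.inv_eq_iff_eq, Plist_fix ht p hp']
    · rw [Equiv.Perm.mul_apply, Equiv.Perm.inv_eq_iff_eq, htx]
  have := congrArg (permOf t * ·) h1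
  simpa using this

theorem idP_mem : idP ∈ Plist := by decide

theorem permOf_idP : permOf idP = 1 := by
  apply eq_one_of_fix_O0_x0 (Plist_mem_M24 idP_mem) (Plist_fix idP_mem)
  have := permOf_apply_dec idP (isPerm_of_inM24 _ (Plist_inM24 idP_mem)) 4 (by norm_num)
  exact this

end Cfsg.Agent.Lib.Helper28.M24OctadFix
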