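import Mathlib
set_option autoImplicit false

/-! Orbit-stabiliser bookkeeping for subgroups acting through the ambient group. -/

namespace Cfsg.Agent.Lib.Helper28.StabLib
open scoped Pointwise

section
variable {G : Type*} [Group G] {X : Type*} [MulAction G X]

/-- the stabiliser of `x` in the subgroup `H`, viewed inside `H`, is `(stabilizer G x).subgroupOf H`. -/
theorem stabilizer_subgroup_eq (H : Subgroup G) (x : X) :
    MulAction.stabilizer H x = (MulAction.stabilizer G x).subgroupOf H := by
  ext g
  rw [MulAction.mem_stabilizer_iff, Subgroup.mem_subgroupOf, MulAction.mem_stabilizer_iff]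
  rfl

theorem card_stabilizer_subgroup (H : Subgroup G) (x : X) :
    Nat.card (MulAction.stabilizer H x) = Nat.card ↥(H ⊓ MulAction.stabilizer G x) := by
  rw [stabilizer_subgroup_eq, ← Subgroup.inf_subgroupOf_left]
  exact Nat.card_congr (Subgroup.subgroupOfEquivOfLe inf_le_left).toEquiv

/-- orbit-stabiliser for a subgroup `H`, with the stabiliser written as an intersection in `G`. -/
theorem card_orbit_mul_card_inf (H : Subgroup G) (x : X) :
    Nat.card (MulAction.orbit H x) * Nat.card ↥(H ⊓ MulAction.stabilizer G x) = Nat.card H := by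
  rw [← card_stabilizer_subgroup,
    Nat.card_congr (MulAction.orbitEquivQuotientStabilizer H x)]
  exact (Subgroup.card_eq_card_quotient_mul_card_subgroup (MulAction.stabilizer H x)).symm

theorem card_orbit_mul_card_stabilizer (x : X) :
    Nat.card (MulAction.orbit G x) * Nat.card ↥(MulAction.stabilizer G x) = Nat.card G := by
  rw [Nat.card_congr (MulAction.orbitEquivQuotientStabilizer G x)]
  exact (Subgroup.card_eq_card_quotient_mul_card_subgroup (MulAction.stabilizer G x)).symm

theorem mem_orbit_subgroup_iff (H : Subgroup G) (x y : X) :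
    y ∈ MulAction.orbit H x ↔ ∃ g ∈ H, g • x = y := by
  constructor
  · rintro ⟨g, rfl⟩
    exact ⟨g, g.2, rfl⟩
  · rintro ⟨g, hg, rfl⟩
    exact ⟨⟨g, hg⟩, rfl⟩

/-- conjugating stabilisers: cardinality of intersections of stabilisers is invariant under
translating all the points. -/
theorem card_inf_stabilizer_smul (g : G) (x y : X) :
    Nat.card ↥(MulAction.stabilizer G (g • x) ⊓ MulAction.stabilizer G (g • y)) =
      Nat.card ↥(MulAction.stabilizer G x ⊓ MulAction.stabilizer G y) := by
  rw [MulAction.stabilizer_smul_eq_stabilizer_map_conj, MulAction.stabilizer_smul_eq_stabilizer_map_conj,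
    ← Subgroup.map_inf_eq _ _ _ (MulAut.conj g).injective]
  exact Subgroup.card_map_of_injective (MulAut.conj g).injective

theorem card_stabilizer_smul (g : G) (x : X) :
    Nat.card ↥(MulAction.stabilizer G (g • x)) = Nat.card ↥(MulAction.stabilizer G x) := by
  rw [MulAction.stabilizer_smul_eq_stabilizer_map_conj]
  exact Subgroup.card_map_of_injective (MulAut.conj g).injective

end

end Cfsg.Agent.Lib.Helper28.StabLib
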