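import Mathlib
import Cfsg.Prelude.Def_Sporadic_a
set_option autoImplicit false

/-! Counting blocks of Steiner systems through given point sets. -/

namespace Cfsg.Agent.Lib.Helper28.Steiner
open Cfsg

section
variable {α : Type*} [Fintype α] [DecidableEq α]

/-- the blocks of `B` containing `S`, as a finset -/
noncomputable def blocksThrough (B : Set (Finset α)) (S : Finset α) : Finset (Finset α) :=
  @Finset.filter _ (fun b => b ∈ B ∧ S ⊆ b) (Classical.decPred _) Finset.univ

theorem mem_blocksThrough (B : Set (Finset α)) (S b : Finset α) :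
    b ∈ blocksThrough B S ↔ b ∈ B ∧ S ⊆ b := by
  simp [blocksThrough]

/-- the number of blocks through a set `S` of at most `t` points in a Steiner system `S(t, k, n)`. -/
theorem card_blocksThrough_mul (t k : ℕ) (B : Set (Finset α)) (hB : IsSteinerSystem t k B)
    (S : Finset α) (hS : S.card ≤ t) :
    (blocksThrough B S).card * Nat.choose (k - S.card) (t - S.card) =
      Nat.choose (Fintype.card α - S.card) (t - S.card) := by
  have h := Finset.sum_card_bipartiteAbove_eq_sum_card_bipartiteBelow
    (s := (Finset.powersetCard t (Finset.univ : Finset α)).filter (S ⊆ ·))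
    (t := blocksThrough B S) (fun (T b : Finset α) => T ⊆ b)
  unfold Finset.bipartiteAbove Finset.bipartiteBelow at h
  have h1 : ∀ T ∈ (Finset.powersetCard t (Finset.univ : Finset α)).filter (S ⊆ ·),
      ((blocksThrough B S).filter fun b => T ⊆ b).card = 1 := by
    intro T hT
    rw [Finset.mem_filter, Finset.mem_powersetCard] at hT
    obtain ⟨b, ⟨hbB, hTb⟩, huniq⟩ := hB.2 T hT.1.2
    rw [Finset.card_eq_one]
    refine ⟨b, ?_⟩
    ext c
    rw [Finset.mem_filter, mem_blocksThrough, Finset.mem_singleton]
    constructor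
    · rintro ⟨⟨hcB, _⟩, hTc⟩
      exact huniq c ⟨hcB, hTc⟩
    · rintro rfl
      exact ⟨⟨hbB, hT.2.trans hTb⟩, hTb⟩
  have h2 : ∀ b ∈ blocksThrough B S,
      (((Finset.powersetCard t (Finset.univ : Finset α)).filter (S ⊆ ·)).filter fun T => T ⊆ b).card
        = Nat.choose (k - S.card) (t - S.card) := by
    intro b hb
    rw [mem_blocksThrough] at hb
    have : (((Finset.powersetCard t (Finset.univ : Finset α)).filter (S ⊆ ·)).filter fun T => T ⊆ b)
        = (Finset.powersetCard t b).filter (S ⊆ ·) := by
      ext T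
      simp only [Finset.mem_filter, Finset.mem_powersetCard, Finset.subset_univ, true_and]
      constructor
      · rintro ⟨⟨h1, h2⟩, h3⟩; exact ⟨⟨h3, h1⟩, h2⟩
      · rintro ⟨⟨h3, h1⟩, h2⟩; exact ⟨⟨h1, h2⟩, h3⟩
    rw [this, Finset.card_filter_powersetCard_subset S b t hb.2 hS, hB.1 b hb.1]
  rw [Finset.sum_congr rfl h1, Finset.sum_congr rfl h2, Finset.sum_const, Finset.sum_const,
    smul_eq_mul, smul_eq_mul, mul_one,
    Finset.card_filter_powersetCard_subset S Finset.univ t (Finset.subset_univ S) hS,
    Finset.card_univ] at h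
  exact h.symm

/-- weighted count of blocks by their intersection with `Y`. -/
theorem sum_choose_inter (B : Set (Finset α)) (Y : Finset α) (i : ℕ) :
    ∑ b ∈ blocksThrough B ∅, Nat.choose (b ∩ Y).card i =
      ∑ Z ∈ Finset.powersetCard i Y, (blocksThrough B Z).card := by
  have h := Finset.sum_card_bipartiteAbove_eq_sum_card_bipartiteBelow
    (s := Finset.powersetCard i Y) (t := blocksThrough B ∅) (fun (Z b : Finset α) => Z ⊆ b)
  unfold Finset.bipartiteAbove Finset.bipartiteBelow at h
  have h1 : ∀ Z ∈ Finset.powersetCard i Y,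
      ((blocksThrough B ∅).filter fun b => Z ⊆ b) = blocksThrough B Z := by
    intro Z _
    ext b
    simp only [Finset.mem_filter, mem_blocksThrough, Finset.empty_subset, and_true]
  have h2 : ∀ b ∈ blocksThrough B ∅,
      ((Finset.powersetCard i Y).filter fun Z => Z ⊆ b).card = Nat.choose (b ∩ Y).card i := by
    intro b _
    have : ((Finset.powersetCard i Y).filter fun Z => Z ⊆ b) = Finset.powersetCard i (b ∩ Y) := by
      ext Z
      simp only [Finset.mem_filter, Finset.mem_powersetCard, Finset.subset_inter_iff]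
      constructor
      · rintro ⟨⟨h1, h2⟩, h3⟩; exact ⟨⟨h3, h1⟩, h2⟩
      · rintro ⟨⟨h3, h1⟩, h2⟩; exact ⟨⟨h1, h2⟩, h3⟩
    rw [this, Finset.card_powersetCard]
  rw [Finset.sum_congr rfl (fun Z hZ => by rw [h1 Z hZ]), Finset.sum_congr rfl h2] at h
  exact h.symm

end

end Cfsg.Agent.Lib.Helper28.Steiner
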