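import Mathlib
import Cfsg.Prelude.Def_SporadicCombinatorics
import Cfsg.Agent.Lib.Helper28.M24Basic
import Cfsg.Agent.Lib.Helper28.SteinerCount
set_option autoImplicit false

/-! Sextets and trios of the octad system: structure and the action of `M24`. -/

namespace Cfsg.Agent.Lib.Helper28.GolayCode
open Cfsg Cfsg.Agent.Lib.Helper28.Steiner
open scoped Pointwise

/-! ### Intersections of octads -/

theorem inter_card_le_four {o o' : Finset GolayPt} (ho : o ∈ octads) (ho' : o' ∈ octads)
    (hne : o ≠ o') : (o ∩ o').card ≤ 4 := by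
  by_contra h
  push Not at h
  exact hne (octad_eq_of_five o o' ho ho' h)

/-- two distinct octads meet in 0, 2 or 4 points. -/
theorem inter_card_cases {o o' : Finset GolayPt} (ho : o ∈ octads) (ho' : o' ∈ octads)
    (hne : o ≠ o') : (o ∩ o').card = 0 ∨ (o ∩ o').card = 2 ∨ (o ∩ o').card = 4 := by
  have h1 := card_symmDiff_add_two_mul o o'
  rw [ho.2, ho'.2] at h1
  have h2 := card_of_mem_supports _ (symmDiff_mem_supports o o' ho.1 ho'.1)
  have h3 : (symmDiff o o').card ≠ 0 := by
    intro h
    rw [Finset.card_eq_zero] at h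
    exact hne (symmDiff_eq_bot.mp h)
  omega

/-- the symmetric difference of two octads meeting in four points is an octad. -/
theorem symmDiff_mem_octads {o o' : Finset GolayPt} (ho : o ∈ octads) (ho' : o' ∈ octads)
    (h4 : (o ∩ o').card = 4) : symmDiff o o' ∈ octads := by
  refine ⟨symmDiff_mem_supports o o' ho.1 ho'.1, ?_⟩
  have h1 := card_symmDiff_add_two_mul o o'
  rw [ho.2, ho'.2] at h1
  omega

/-! ### Octads through a tetrad -/

theorem card_blocksThrough_tetrad (t : Finset GolayPt) (ht : t.card = 4) :
    (blocksThrough octads t).card = 5 := by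
  have h := card_blocksThrough_mul 5 8 octads isSteinerSystem_octads t (by omega)
  rw [ht] at h
  have h24 : Fintype.card GolayPt = 24 := by simp
  rw [h24] at h
  norm_num [Nat.choose] at h
  omega

/-- the sextet of a tetrad: the tetrad and the complements of it in the five octads through it. -/
noncomputable def sextetOf (t : Finset GolayPt) : Finset (Finset GolayPt) :=
  insert t ((blocksThrough octads t).image fun o => o \ t)

theorem sdiff_injOn (t : Finset GolayPt) :
    Set.InjOn (fun o : Finset GolayPt => o \ t) (blocksThrough octads t : Set (Finset GolayPt)) := by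
  intro o ho o' ho' h
  rw [Finset.mem_coe, mem_blocksThrough] at ho ho'
  have h1 : o = (o \ t) ∪ t := (Finset.sdiff_union_of_subset ho.2).symm
  have h2 : o' = (o' \ t) ∪ t := (Finset.sdiff_union_of_subset ho'.2).symm
  rw [h1, h2]
  show (fun o => o \ t) o ∪ t = (fun o => o \ t) o' ∪ t
  rw [h]

theorem card_sextetOf (t : Finset GolayPt) (ht : t.card = 4) : (sextetOf t).card = 6 := by
  unfold sextetOf
  rw [Finset.card_insert_of_notMem, Finset.card_image_of_injOn (sdiff_injOn t),
    card_blocksThrough_tetrad t ht]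
  intro h
  rw [Finset.mem_image] at h
  obtain ⟨o, _, ho⟩ := h
  have hne : t.Nonempty := by rw [← Finset.card_pos]; omega
  obtain ⟨x, hx⟩ := hne
  have : x ∈ o \ t := by rw [ho]; exact hx
  exact (Finset.mem_sdiff.mp this).2 hx

theorem inter_eq_of_through {t o o' : Finset GolayPt} (ht : t.card = 4)
    (ho : o ∈ blocksThrough octads t) (ho' : o' ∈ blocksThrough octads t) (hne : o ≠ o') :
    o ∩ o' = t := by
  rw [mem_blocksThrough] at ho ho'
  symm
  apply Finset.eq_of_subset_of_card_le (Finset.subset_inter ho.2 ho'.2)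
  rw [ht]
  exact inter_card_le_four ho.1 ho'.1 hne

theorem sextetOf_mem_sextets (t : Finset GolayPt) (ht : t.card = 4) : sextetOf t ∈ sextets := by
  refine ⟨card_sextetOf t ht, ?_, ?_⟩
  · intro u hu
    unfold sextetOf at hu
    rw [Finset.mem_insert, Finset.mem_image] at hu
    rcases hu with rfl | ⟨o, ho, rfl⟩
    · exact ht
    · rw [mem_blocksThrough] at ho
      rw [Finset.card_sdiff_of_subset ho.2, ho.1.2, ht]
  · intro u hu v hv huv
    unfold sextetOf at hu hv
    rw [Finset.mem_insert, Finset.mem_image] at hu hv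
    rcases hu with rfl | ⟨o, ho, rfl⟩ <;> rcases hv with rfl | ⟨o', ho', rfl⟩
    · exact absurd rfl huv
    · have ho'' := (mem_blocksThrough _ _ _).mp ho'
      rw [Finset.union_comm, Finset.sdiff_union_of_subset ho''.2]
      exact ho''.1
    · have ho'' := (mem_blocksThrough _ _ _).mp ho
      rw [Finset.sdiff_union_of_subset ho''.2]
      exact ho''.1
    · have hne : o ≠ o' := by
        intro h; rw [h] at huv; exact huv rfl
      have hint := inter_eq_of_through ht ho ho' hne
      have ho1 := (mem_blocksThrough _ _ _).mp ho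
      have ho2 := (mem_blocksThrough _ _ _).mp ho'
      have : o \ t ∪ o' \ t = symmDiff o o' := by
        rw [symmDiff_def, Finset.sup_eq_union, ← hint]
        congr 1
        · ext x; simp only [Finset.mem_sdiff, Finset.mem_inter]; tauto
        · ext x; simp only [Finset.mem_sdiff, Finset.mem_inter]; tauto
      rw [this]
      exact symmDiff_mem_octads ho1.1 ho2.1 (by rw [hint, ht])

/-- a sextet is the sextet of any of its tetrads. -/
theorem eq_sextetOf {S : Finset (Finset GolayPt)} (hS : S ∈ sextets) {t : Finset GolayPt}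
    (ht : t ∈ S) : S = sextetOf t := by
  obtain ⟨h6, h4, hun⟩ := hS
  have ht4 := h4 t ht
  have hsub : S.erase t ⊆ (blocksThrough octads t).image fun o => o \ t := by
    intro u hu
    rw [Finset.mem_erase] at hu
    have huo := hun t ht u hu.2 (Ne.symm hu.1)
    rw [Finset.mem_image]
    refine ⟨t ∪ u, (mem_blocksThrough _ _ _).mpr ⟨huo, Finset.subset_union_left⟩, ?_⟩
    have hdisj : Disjoint t u := by
      rw [Finset.disjoint_iff_inter_eq_empty, ← Finset.card_eq_zero]
      have := Finset.card_union_add_card_inter t u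
      rw [huo.2, ht4, h4 u hu.2] at this
      omega
    rw [Finset.union_sdiff_cancel_left hdisj]
  have heq : S.erase t = (blocksThrough octads t).image fun o => o \ t := by
    apply Finset.eq_of_subset_of_card_le hsub
    rw [Finset.card_image_of_injOn (sdiff_injOn t), card_blocksThrough_tetrad t ht4,
      Finset.card_erase_of_mem ht, h6]
  unfold sextetOf
  rw [← heq, Finset.insert_erase ht]

/-! ### The action of `M24` on sextets and trios -/

theorem smul_union (σ : Equiv.Perm GolayPt) (a b : Finset GolayPt) :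
    σ • (a ∪ b) = σ • a ∪ σ • b := Finset.smul_finset_union

theorem smul_mem_sextets {σ : Equiv.Perm GolayPt} (hσ : σ ∈ M24) {S : Finset (Finset GolayPt)}
    (hS : S ∈ sextets) : σ • S ∈ sextets := by
  obtain ⟨h6, h4, hun⟩ := hS
  refine ⟨by rw [Finset.card_smul_finset]; exact h6, ?_, ?_⟩
  · intro t ht
    rw [Finset.mem_smul_finset] at ht
    obtain ⟨u, hu, rfl⟩ := ht
    rw [Finset.card_smul_finset]; exact h4 u hu
  · intro t ht u hu htu
    rw [Finset.mem_smul_finset] at ht hu
    obtain ⟨t', ht', rfl⟩ := ht
    obtain ⟨u', hu', rfl⟩ := hu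
    rw [← smul_union]
    apply smul_mem_octads hσ
    apply hun t' ht' u' hu'
    intro h; rw [h] at htu; exact htu rfl

theorem smul_disjoint (σ : Equiv.Perm GolayPt) {a b : Finset GolayPt} (h : Disjoint a b) :
    Disjoint (σ • a) (σ • b) := by
  rw [Finset.disjoint_left] at h ⊢
  intro x hx hx'
  rw [mem_smul_finset_perm] at hx hx'
  exact h hx hx'

theorem smul_mem_trios {σ : Equiv.Perm GolayPt} (hσ : σ ∈ M24) {T : Finset (Finset GolayPt)}
    (hT : T ∈ trios) : σ • T ∈ trios := by
  obtain ⟨h3, ho, hd⟩ := hT
  refine ⟨by rw [Finset.card_smul_finset]; exact h3, ?_, ?_⟩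
  · intro o hoT
    rw [Finset.mem_smul_finset] at hoT
    obtain ⟨u, hu, rfl⟩ := hoT
    exact smul_mem_octads hσ (ho u hu)
  · intro o hoT o' hoT' hne
    rw [Finset.mem_smul_finset] at hoT hoT'
    obtain ⟨u, hu, rfl⟩ := hoT
    obtain ⟨u', hu', rfl⟩ := hoT'
    apply smul_disjoint
    apply hd u hu u' hu'
    intro h; rw [h] at hne; exact hne rfl

theorem smul_mem_sextets_iff {σ : Equiv.Perm GolayPt} (hσ : σ ∈ M24) (S : Finset (Finset GolayPt)) :
    σ • S ∈ sextets ↔ S ∈ sextets := by
  constructor
  · intro h
    have := smul_mem_sextets (M24.inv_mem hσ) h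
    rwa [inv_smul_smul] at this
  · exact smul_mem_sextets hσ

theorem smul_mem_trios_iff {σ : Equiv.Perm GolayPt} (hσ : σ ∈ M24) (T : Finset (Finset GolayPt)) :
    σ • T ∈ trios ↔ T ∈ trios := by
  constructor
  · intro h
    have := smul_mem_trios (M24.inv_mem hσ) h
    rwa [inv_smul_smul] at this
  · exact smul_mem_trios hσ

/-- the image of the sextet of a tetrad is the sextet of the image. -/
theorem smul_sextetOf {σ : Equiv.Perm GolayPt} (hσ : σ ∈ M24) (t : Finset GolayPt)
    (ht : t.card = 4) : σ • sextetOf t = sextetOf (σ • t) := by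
  apply eq_sextetOf (smul_mem_sextets hσ (sextetOf_mem_sextets t ht))
  apply Finset.smul_mem_smul_finset
  unfold sextetOf
  exact Finset.mem_insert_self _ _

end Cfsg.Agent.Lib.Helper28.GolayCode
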