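import Mathlib
import Cfsg.Prelude.Def_SporadicCombinatorics
import Cfsg.Agent.Lib.Helper28.M24Sextet
import Cfsg.Agent.Lib.Helper28.M24Fix
import Cfsg.Agent.Lib.Helper28.StabLib
set_option autoImplicit false

/-! Stabilisers in `M24` of octads; orders from the order of `M24` and transitivity (taken as
hypotheses here). -/

namespace Cfsg.Agent.Lib.Helper28.GolayCode
open Cfsg Cfsg.Agent.Lib.Helper28.StabLib
open scoped Pointwise

theorem M24_smul_def (g : M24) (s : Finset GolayPt) : g • s = (g : Equiv.Perm GolayPt) • s := rfl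

theorem M24_smul_def' (g : M24) (S : Finset (Finset GolayPt)) :
    g • S = (g : Equiv.Perm GolayPt) • S := rfl

theorem mem_stabilizer_M24_iff (g : M24) (s : Finset GolayPt) :
    g ∈ MulAction.stabilizer M24 s ↔ (g : Equiv.Perm GolayPt) • s = s := by
  rw [MulAction.mem_stabilizer_iff, M24_smul_def]

/-- the orbit of an octad under `M24` is the set of all octads, given transitivity. -/
theorem orbit_octad (htr : ∀ o o' : Finset GolayPt, o ∈ octads → o' ∈ octads → ∃ g : M24, g • o = o')
    (o : Finset GolayPt) (ho : o ∈ octads) : MulAction.orbit M24 o = octads := by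
  ext o'
  constructor
  · rintro ⟨g, rfl⟩
    exact smul_mem_octads g.2 ho
  · intro ho'
    obtain ⟨g, hg⟩ := htr o o' ho ho'
    exact ⟨g, hg⟩

theorem card_stabilizer_octad (hcard : Nat.card M24 = 244823040)
    (htr : ∀ o o' : Finset GolayPt, o ∈ octads → o' ∈ octads → ∃ g : M24, g • o = o')
    (o : Finset GolayPt) (ho : o ∈ octads) :
    Nat.card ↥(MulAction.stabilizer M24 o) = 322560 := by
  have h := card_orbit_mul_card_stabilizer (G := M24) o
  rw [orbit_octad htr o ho, hcard, Nat.card_coe_set_eq, octads_ncard] at h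
  omega

/-- intersection sizes are preserved by permutations. -/
theorem card_smul_inter (σ : Equiv.Perm GolayPt) (a b : Finset GolayPt) :
    (σ • a ∩ σ • b).card = (a ∩ b).card := by
  rw [← Finset.smul_finset_inter, Finset.card_smul_finset]

end Cfsg.Agent.Lib.Helper28.GolayCode
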