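import Mathlib
import Cfsg.Prelude.Def_SporadicCombinatorics
import Cfsg.Agent.Lib.Helper28.M24Stab
import Cfsg.Agent.Lib.Helper28.M24Sextet
set_option autoImplicit false

/-!
Families of subsets of the 24 points given by lists of bitmasks, a generic intersection invariant, and a generic
certificate-based determination of the orbits of a subgroup of `M24` on such families.
-/

namespace Cfsg.Agent.Lib.Helper28.M24Fam
open Cfsg Cfsg.Agent.Lib.Helper28.GolayCode Cfsg.Agent.Lib.Helper28.StabLib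
open scoped Pointwise

/-- the family of sets given by a list of masks. -/
def fam (l : List ℕ) : Finset (Finset GolayPt) := (l.map bset).toFinset

theorem mem_fam {l : List ℕ} {s : Finset GolayPt} : s ∈ fam l ↔ ∃ m ∈ l, bset m = s := by
  simp [fam]

theorem fam_singleton (m : ℕ) : fam [m] = {bset m} := by
  simp [fam]

theorem smul_fam (P : ℕ) (hP : isPerm P = true) (l : List ℕ) :
    permOf P • fam l = fam (l.map (applyMask P)) := by
  ext s
  rw [Finset.mem_smul_finset, mem_fam]
  constructor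
  · rintro ⟨u, hu, rfl⟩
    obtain ⟨m, hm, rfl⟩ := mem_fam.mp hu
    exact ⟨applyMask P m, List.mem_map_of_mem hm, (permOf_smul_bset P hP m).symm⟩
  · rintro ⟨m', hm', rfl⟩
    obtain ⟨m, hm, rfl⟩ := List.mem_map.mp hm'
    exact ⟨bset m, mem_fam.mpr ⟨m, hm, rfl⟩, permOf_smul_bset P hP m⟩

/-- every mask of the first list occurs in the second. -/
def famSub (l1 l2 : List ℕ) : Bool := l1.all fun m => l2.any fun n => Nat.beq m n

theorem fam_subset_of_famSub {l1 l2 : List ℕ} (h : famSub l1 l2 = true) : fam l1 ⊆ fam l2 := by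
  intro s hs
  obtain ⟨m, hm, rfl⟩ := mem_fam.mp hs
  unfold famSub at h
  rw [List.all_eq_true] at h
  have := h m hm
  rw [List.any_eq_true] at this
  obtain ⟨n, hn, hmn⟩ := this
  rw [nat_beq_iff] at hmn
  subst hmn
  exact mem_fam.mpr ⟨m, hn, rfl⟩

def famEq (l1 l2 : List ℕ) : Bool := famSub l1 l2 && famSub l2 l1

theorem fam_eq_of_famEq {l1 l2 : List ℕ} (h : famEq l1 l2 = true) : fam l1 = fam l2 := by
  unfold famEq at h
  rw [Bool.and_eq_true] at h
  exact Finset.Subset.antisymm (fam_subset_of_famSub h.1) (fam_subset_of_famSub h.2)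

/-! ### The intersection invariant -/

/-- sum of `φ (b ∩ x)` over the members of two families. -/
def inv (φ : Finset GolayPt → ℕ) (B X : Finset (Finset GolayPt)) : ℕ :=
  ∑ b ∈ B, ∑ x ∈ X, φ (b ∩ x)

theorem inv_smul (φ : Finset GolayPt → ℕ)
    (hφ : ∀ (σ : Equiv.Perm GolayPt) (s : Finset GolayPt), φ (σ • s) = φ s)
    (σ : Equiv.Perm GolayPt) (B X : Finset (Finset GolayPt)) :
    inv φ (σ • B) (σ • X) = inv φ B X := by
  unfold inv
  have hinj : Function.Injective (fun s : Finset GolayPt => σ • s) := MulAction.injective σ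
  have hB : σ • B = B.image (fun s : Finset GolayPt => σ • s) := rfl
  have hX : σ • X = X.image (fun s : Finset GolayPt => σ • s) := rfl
  rw [hB, hX, Finset.sum_image (fun a _ b _ h => hinj h)]
  apply Finset.sum_congr rfl
  intro b _
  rw [Finset.sum_image (fun a _ b _ h => hinj h)]
  apply Finset.sum_congr rfl
  intro x _
  rw [← Finset.smul_finset_inter, hφ]

theorem inv_smul_of_fix (φ : Finset GolayPt → ℕ)
    (hφ : ∀ (σ : Equiv.Perm GolayPt) (s : Finset GolayPt), φ (σ • s) = φ s)
    (σ : Equiv.Perm GolayPt) (B X : Finset (Finset GolayPt)) (hB : σ • B = B) :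
    inv φ B (σ • X) = inv φ B X := by
  conv_lhs => rw [← hB]
  exact inv_smul φ hφ σ B X

/-- the mask version of the invariant. -/
def invL (φm : ℕ → ℕ) (lb lx : List ℕ) : ℕ :=
  (lb.map fun b => (lx.map fun x => φm (Nat.land b x)).sum).sum

theorem inv_fam (φ : Finset GolayPt → ℕ) (φm : ℕ → ℕ) (hφ : ∀ m, φ (bset m) = φm m)
    (lb lx : List ℕ) (hb : (lb.map bset).Nodup) (hx : (lx.map bset).Nodup) :
    inv φ (fam lb) (fam lx) = invL φm lb lx := by
  unfold inv invL fam
  rw [List.sum_toFinset _ hb, List.map_map]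
  congr 1
  apply List.map_congr_left
  intro b _
  simp only [Function.comp]
  rw [List.sum_toFinset _ hx, List.map_map]
  congr 1
  apply List.map_congr_left
  intro x _
  simp only [Function.comp]
  rw [← bset_land, hφ]

/-- the emptiness weight. -/
def φE (s : Finset GolayPt) : ℕ := if s = ∅ then 1 else 0

def φEm (m : ℕ) : ℕ := if Nat.beq (Nat.land m 0xffffff) 0 = true then 1 else 0

theorem φE_smul (σ : Equiv.Perm GolayPt) (s : Finset GolayPt) : φE (σ • s) = φE s := by
  unfold φE
  by_cases h : s = ∅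
  · subst h; simp
  · rw [if_neg h, if_neg]
    intro h'
    apply h
    rw [← Finset.card_eq_zero] at h' ⊢
    rwa [Finset.card_smul_finset] at h'

theorem φE_bset (m : ℕ) : φE (bset m) = φEm m := by
  unfold φE φEm
  have h : bset m = ∅ ↔ Nat.land m 0xffffff = 0 := by
    constructor
    · intro h
      apply Nat.eq_of_testBit_eq
      intro i
      show (m &&& 0xffffff).testBit i = (0 : ℕ).testBit i
      rw [Nat.testBit_and, Nat.zero_testBit]
      by_cases hi : i < 24
      · have : dec i ∉ bset m := by rw [h]; simp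
        rw [mem_bset, enc_dec i hi] at this
        simp [this]
      · have : (0xffffff : ℕ).testBit i = false := by
          have := (testBit_ffffff i).not.mpr hi
          simpa using this
        rw [this]; simp
    · intro h
      ext p
      simp only [Finset.notMem_empty, iff_false]
      rw [mem_bset]
      intro hp
      have : (Nat.land m 0xffffff).testBit (enc p) = true := by
        show (m &&& 0xffffff).testBit (enc p) = true
        rw [Nat.testBit_and, hp, (testBit_ffffff _).mpr (enc_lt p)]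
        rfl
      rw [h] at this
      simp at this
  by_cases hm : bset m = ∅
  · rw [if_pos hm, if_pos]
    rw [nat_beq_iff]; exact h.mp hm
  · rw [if_neg hm, if_neg]
    rw [nat_beq_iff]; exact fun h' => hm (h.mpr h')

/-- the cardinality weight. -/
def φC (f : ℕ → ℕ) (s : Finset GolayPt) : ℕ := f s.card

noncomputable def φCm (f : ℕ → ℕ) (m : ℕ) : ℕ := f (popc m)

theorem φC_smul (f : ℕ → ℕ) (σ : Equiv.Perm GolayPt) (s : Finset GolayPt) : φC f (σ • s) = φC f s := by
  unfold φC
  rw [Finset.card_smul_finset]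

theorem φC_bset (f : ℕ → ℕ) (m : ℕ) : φC f (bset m) = φCm f m := by
  unfold φC φCm
  rw [card_bset]

/-! ### Lock-step checking of two lists -/

/-- check `f c p` for the entries of two lists in lock step; fails if the second list is too short. -/
def zipAll {α β : Type} (f : α → β → Bool) : List α → List β → Bool
  | [], _ => true
  | _ :: _, [] => false
  | a :: as, b :: bs => f a b && zipAll f as bs

theorem zipAll_spec {α β : Type} (f : α → β → Bool) (as : List α) (bs : List β)
    (h : zipAll f as bs = true) : ∀ a ∈ as, ∃ b ∈ bs, f a b = true := by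
  induction as generalizing bs with
  | nil => intro a ha; simp at ha
  | cons a as ih =>
    cases bs with
    | nil => simp [zipAll] at h
    | cons b bs =>
      simp only [zipAll, Bool.and_eq_true] at h
      intro a' ha'
      rw [List.mem_cons] at ha'
      rcases ha' with rfl | ha'
      · exact ⟨b, List.mem_cons_self, h.1⟩
      · obtain ⟨b', hb', hf⟩ := ih bs h.2 a' ha'
        exact ⟨b', List.mem_cons_of_mem _ hb', hf⟩

/-! ### Generic orbit determination -/

section
variable {G X C : Type*} [Group G] [MulAction G X]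

theorem orbit_eq_image (H : Subgroup G) (obj : C → X) (cls : List C) (rep : C)
    (hreach : ∀ c ∈ cls, ∃ g ∈ H, g • obj rep = obj c)
    (hinv : ∀ g ∈ H, ∃ c ∈ cls, g • obj rep = obj c) :
    MulAction.orbit H (obj rep) = obj '' {c | c ∈ cls} := by
  ext y
  rw [mem_orbit_subgroup_iff]
  constructor
  · rintro ⟨g, hg, rfl⟩
    obtain ⟨c, hc, h⟩ := hinv g hg
    exact ⟨c, hc, h.symm⟩
  · rintro ⟨c, hc, rfl⟩
    exact hreach c hc

theorem ncard_image_list [DecidableEq C] (obj : C → X) (cls : List C) (hnd : cls.Nodup)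
    (hinj : ∀ c₁ ∈ cls, ∀ c₂ ∈ cls, obj c₁ = obj c₂ → c₁ = c₂) :
    (obj '' {c | c ∈ cls}).ncard = cls.length := by
  have hI : Set.InjOn obj {c | c ∈ cls} := fun a ha b hb h => hinj a ha b hb h
  rw [Set.InjOn.ncard_image hI]
  have : {c | c ∈ cls} = ((cls.toFinset : Finset C) : Set C) := by ext; simp
  rw [this, Set.ncard_coe_finset, List.toFinset_card_of_nodup hnd]

end


/-! ### Verified enumerations and orbits on them -/

/-- a verified enumeration of a class of families by lists of masks. -/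
structure FamData (𝒳 : Set (Finset (Finset GolayPt))) (D : List (List ℕ)) : Prop where
  nodup : D.Nodup
  sound : ∀ l ∈ D, fam l ∈ 𝒳
  complete : ∀ S ∈ 𝒳, ∃ l ∈ D, S = fam l
  inj : ∀ l₁ ∈ D, ∀ l₂ ∈ D, fam l₁ = fam l₂ → l₁ = l₂
  entry_nodup : ∀ l ∈ D, (l.map bset).Nodup
  closed : ∀ σ ∈ M24, ∀ S ∈ 𝒳, σ • S ∈ 𝒳

/-- a verified enumeration of a class of sets by masks. -/
structure SetData (𝒳 : Set (Finset GolayPt)) (D : List ℕ) : Prop where
  nodup : D.Nodup
  sound : ∀ m ∈ D, bset m ∈ 𝒳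
  complete : ∀ s ∈ 𝒳, ∃ m ∈ D, s = bset m
  inj : ∀ m₁ ∈ D, ∀ m₂ ∈ D, bset m₁ = bset m₂ → m₁ = m₂
  closed : ∀ σ ∈ M24, ∀ s ∈ 𝒳, σ • s ∈ 𝒳

/-- the class of the entries with a given value of the invariant. -/
def clsF (φm : ℕ → ℕ) (lb : List ℕ) (D : List (List ℕ)) (v : ℕ) : List (List ℕ) :=
  D.filter fun l => Nat.beq (invL φm lb l) v

def clsS (φm : ℕ → ℕ) (lb : List ℕ) (D : List ℕ) (v : ℕ) : List ℕ :=
  D.filter fun m => Nat.beq (invL φm lb [m]) v

/-- certificate check for families: the packed permutation is in `M24`, fixes the base family and maps the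
representative to the target. -/
noncomputable def certF (lb rep : List ℕ) (c : List ℕ) (P : ℕ) : Bool :=
  inM24 P && famEq (lb.map (applyMask P)) lb && famEq (rep.map (applyMask P)) c

noncomputable def certS (lb : List ℕ) (rep : ℕ) (c : ℕ) (P : ℕ) : Bool :=
  inM24 P && famEq (lb.map (applyMask P)) lb && Nat.beq (applyMask P rep) c

theorem certF_sound {lb rep c : List ℕ} {P : ℕ} (h : certF lb rep c P = true) :
    ∃ σ ∈ M24, σ • fam lb = fam lb ∧ σ • fam rep = fam c := by
  unfold certF at h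
  simp only [Bool.and_eq_true] at h
  obtain ⟨⟨h1, h2⟩, h3⟩ := h
  have hp := isPerm_of_inM24 _ h1
  refine ⟨permOf P, permOf_mem_M24 _ h1, ?_, ?_⟩
  · rw [smul_fam P hp, fam_eq_of_famEq h2]
  · rw [smul_fam P hp, fam_eq_of_famEq h3]

theorem certS_sound {lb : List ℕ} {rep c : ℕ} {P : ℕ} (h : certS lb rep c P = true) :
    ∃ σ ∈ M24, σ • fam lb = fam lb ∧ σ • bset rep = bset c := by
  unfold certS at h
  simp only [Bool.and_eq_true, nat_beq_iff] at h
  obtain ⟨⟨h1, h2⟩, h3⟩ := h
  have hp := isPerm_of_inM24 _ h1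
  refine ⟨permOf P, permOf_mem_M24 _ h1, ?_, ?_⟩
  · rw [smul_fam P hp, fam_eq_of_famEq h2]
  · rw [permOf_smul_bset P hp, h3]

section
variable {φ : Finset GolayPt → ℕ} {φm : ℕ → ℕ}
  (hφs : ∀ (σ : Equiv.Perm GolayPt) (s : Finset GolayPt), φ (σ • s) = φ s)
  (hφb : ∀ m, φ (bset m) = φm m)
  (H : Subgroup ↥M24) (lb : List ℕ) (hlb : (lb.map bset).Nodup)
  (hH : ∀ g : ↥M24, g ∈ H ↔ (g : Equiv.Perm GolayPt) • fam lb = fam lb)
include hφs hφb hlb hH

theorem orbit_fam {𝒳 : Set (Finset (Finset GolayPt))} {D : List (List ℕ)} (hD : FamData 𝒳 D)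
    (v : ℕ) (rep : List ℕ) (hrep : rep ∈ clsF φm lb D v) (certs : List ℕ)
    (hc : zipAll (certF lb rep) (clsF φm lb D v) certs = true) :
    MulAction.orbit H (fam rep) = fam '' {l | l ∈ clsF φm lb D v} ∧
    (MulAction.orbit H (fam rep)).ncard = (clsF φm lb D v).length := by
  have hrep' := List.mem_filter.mp hrep
  have hrepv : invL φm lb rep = v := (nat_beq_iff _ _).mp hrep'.2
  have horb : MulAction.orbit H (fam rep) = fam '' {l | l ∈ clsF φm lb D v} := by
    apply orbit_eq_image H fam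
    · intro c hcm
      obtain ⟨P, _, hP⟩ := zipAll_spec _ _ _ hc c hcm
      obtain ⟨σ, hσ, h1, h2⟩ := certF_sound hP
      exact ⟨⟨σ, hσ⟩, (hH ⟨σ, hσ⟩).mpr h1, h2⟩
    · intro g hg
      have hfix := (hH g).mp hg
      have hx : (g : Equiv.Perm GolayPt) • fam rep ∈ 𝒳 := hD.closed _ g.2 _ (hD.sound rep hrep'.1)
      obtain ⟨l, hl, hl'⟩ := hD.complete _ hx
      refine ⟨l, ?_, hl'⟩
      unfold clsF
      rw [List.mem_filter, nat_beq_iff]
      refine ⟨hl, ?_⟩
      rw [← inv_fam φ φm hφb lb l hlb (hD.entry_nodup l hl), ← hl',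
        inv_smul_of_fix φ hφs _ _ _ hfix, inv_fam φ φm hφb lb rep hlb (hD.entry_nodup rep hrep'.1)]
      exact hrepv
  refine ⟨horb, ?_⟩
  rw [horb]
  apply ncard_image_list fam _ (hD.nodup.filter _)
  intro c₁ h₁ c₂ h₂ h
  exact hD.inj c₁ (List.mem_filter.mp h₁).1 c₂ (List.mem_filter.mp h₂).1 h

theorem orbit_set {𝒳 : Set (Finset GolayPt)} {D : List ℕ} (hD : SetData 𝒳 D)
    (v : ℕ) (rep : ℕ) (hrep : rep ∈ clsS φm lb D v) (certs : List ℕ)
    (hc : zipAll (certS lb rep) (clsS φm lb D v) certs = true) :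
    MulAction.orbit H (bset rep) = bset '' {m | m ∈ clsS φm lb D v} ∧
    (MulAction.orbit H (bset rep)).ncard = (clsS φm lb D v).length := by
  have hrep' := List.mem_filter.mp hrep
  have hrepv : invL φm lb [rep] = v := (nat_beq_iff _ _).mp hrep'.2
  have hsingle : ∀ m : ℕ, ([m].map bset).Nodup := fun m => by simp
  have horb : MulAction.orbit H (bset rep) = bset '' {m | m ∈ clsS φm lb D v} := by
    apply orbit_eq_image H bset
    · intro c hcm
      obtain ⟨P, _, hP⟩ := zipAll_spec _ _ _ hc c hcm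
      obtain ⟨σ, hσ, h1, h2⟩ := certS_sound hP
      exact ⟨⟨σ, hσ⟩, (hH ⟨σ, hσ⟩).mpr h1, h2⟩
    · intro g hg
      have hfix := (hH g).mp hg
      have hx : (g : Equiv.Perm GolayPt) • bset rep ∈ 𝒳 := hD.closed _ g.2 _ (hD.sound rep hrep'.1)
      obtain ⟨m, hm, hm'⟩ := hD.complete _ hx
      refine ⟨m, ?_, hm'⟩
      unfold clsS
      rw [List.mem_filter, nat_beq_iff]
      refine ⟨hm, ?_⟩
      have e : fam [m] = (g : Equiv.Perm GolayPt) • fam [rep] := by
        rw [fam_singleton, fam_singleton, Finset.smul_finset_singleton, ← hm']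
      rw [← inv_fam φ φm hφb lb [m] hlb (hsingle m), e,
        inv_smul_of_fix φ hφs _ _ _ hfix, inv_fam φ φm hφb lb [rep] hlb (hsingle rep)]
      exact hrepv
  refine ⟨horb, ?_⟩
  rw [horb]
  apply ncard_image_list bset _ (hD.nodup.filter _)
  intro c₁ h₁ c₂ h₂ h
  exact hD.inj c₁ (List.mem_filter.mp h₁).1 c₂ (List.mem_filter.mp h₂).1 h

end

/-- every member of an enumerated class of families lies in one of the invariant classes. -/
theorem cover_fam {𝒳 : Set (Finset (Finset GolayPt))} {D : List (List ℕ)} (hD : FamData 𝒳 D)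
    (φm : ℕ → ℕ) (lb : List ℕ) (vs : List ℕ)
    (hall : (D.all fun l => vs.any fun v => Nat.beq (invL φm lb l) v) = true)
    (S : Finset (Finset GolayPt)) (hS : S ∈ 𝒳) :
    ∃ v ∈ vs, S ∈ fam '' {l | l ∈ clsF φm lb D v} := by
  obtain ⟨l, hl, rfl⟩ := hD.complete S hS
  rw [List.all_eq_true] at hall
  have := hall l hl
  rw [List.any_eq_true] at this
  obtain ⟨v, hv, hlv⟩ := this
  exact ⟨v, hv, l, List.mem_filter.mpr ⟨hl, hlv⟩, rfl⟩

theorem cover_set {𝒳 : Set (Finset GolayPt)} {D : List ℕ} (hD : SetData 𝒳 D)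
    (φm : ℕ → ℕ) (lb : List ℕ) (vs : List ℕ)
    (hall : (D.all fun m => vs.any fun v => Nat.beq (invL φm lb [m]) v) = true)
    (s : Finset GolayPt) (hs : s ∈ 𝒳) :
    ∃ v ∈ vs, s ∈ bset '' {m | m ∈ clsS φm lb D v} := by
  obtain ⟨m, hm, rfl⟩ := hD.complete s hs
  rw [List.all_eq_true] at hall
  have := hall m hm
  rw [List.any_eq_true] at this
  obtain ⟨v, hv, hlv⟩ := this
  exact ⟨v, hv, m, List.mem_filter.mpr ⟨hm, hlv⟩, rfl⟩

theorem image_clsF_subset {𝒳 : Set (Finset (Finset GolayPt))} {D : List (List ℕ)} (hD : FamData 𝒳 D)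
    (φm : ℕ → ℕ) (lb : List ℕ) (v : ℕ) : fam '' {l | l ∈ clsF φm lb D v} ⊆ 𝒳 := by
  rintro _ ⟨l, hl, rfl⟩
  exact hD.sound l (List.mem_filter.mp hl).1

theorem image_clsS_subset {𝒳 : Set (Finset GolayPt)} {D : List ℕ} (hD : SetData 𝒳 D)
    (φm : ℕ → ℕ) (lb : List ℕ) (v : ℕ) : bset '' {m | m ∈ clsS φm lb D v} ⊆ 𝒳 := by
  rintro _ ⟨m, hm, rfl⟩
  exact hD.sound m (List.mem_filter.mp hm).1

/-- the octads as an enumerated class. -/
theorem octadData : SetData octads octadList where
  nodup := octadList_nodup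
  sound := fun m hm => (mem_octads_iff_exists _).mpr ⟨m, hm, rfl⟩
  complete := fun s hs => by
    obtain ⟨m, hm, rfl⟩ := (mem_octads_iff_exists s).mp hs
    exact ⟨m, hm, rfl⟩
  inj := fun a ha b hb h => bset_inj a b ((mem_octadList_iff a).mp ha).1 ((mem_octadList_iff b).mp hb).1 h
  closed := fun σ hσ s hs => smul_mem_octads hσ hs

end Cfsg.Agent.Lib.Helper28.M24Fam
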