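import Mathlib
import Cfsg.Prelude.Def_SporadicCombinatorics
import Cfsg.Agent.Lib.Helper28.M24Fam
import Cfsg.Agent.Lib.Helper28.SextetData
import Cfsg.Agent.Lib.Helper28.TrioData
set_option autoImplicit false

/-!
Counting the members of an enumerated class (octads, dodecads, sextets, trios) satisfying a
kernel-checkable predicate, in particular those mapped to themselves by a packed permutation.
-/

namespace Cfsg.Agent.Lib.Helper28.M24Fam
open Cfsg Cfsg.Agent.Lib.Helper28.GolayCode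
open scoped Pointwise

/-- the dodecads as an enumerated class. -/
theorem dodecadData : SetData dodecads dodecadList where
  nodup := dodecadList_nodup
  sound := fun m hm => (mem_dodecads_iff_exists _).mpr ⟨m, hm, rfl⟩
  complete := fun s hs => by
    obtain ⟨m, hm, rfl⟩ := (mem_dodecads_iff_exists s).mp hs
    exact ⟨m, hm, rfl⟩
  inj := fun a ha b hb h =>
    bset_inj a b ((mem_dodecadList_iff a).mp ha).1 ((mem_dodecadList_iff b).mp hb).1 h
  closed := fun σ hσ s hs => smul_mem_dodecads hσ hs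

theorem octadList_lt : ∀ m ∈ octadList, m < 2 ^ 24 := fun m hm => ((mem_octadList_iff m).mp hm).1

theorem dodecadList_lt : ∀ m ∈ dodecadList, m < 2 ^ 24 := fun m hm => ((mem_dodecadList_iff m).mp hm).1

theorem famSub_of_subset {l1 l2 : List ℕ} (h1 : ∀ m ∈ l1, m < 2 ^ 24) (h2 : ∀ m ∈ l2, m < 2 ^ 24)
    (h : fam l1 ⊆ fam l2) : famSub l1 l2 = true := by
  unfold famSub
  rw [List.all_eq_true]
  intro m hm
  rw [List.any_eq_true]
  have : bset m ∈ fam l2 := h (mem_fam.mpr ⟨m, hm, rfl⟩)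
  obtain ⟨n, hn, hnm⟩ := mem_fam.mp this
  refine ⟨n, hn, ?_⟩
  rw [nat_beq_iff]
  exact (bset_inj n m (h2 n hn) (h1 m hm) hnm).symm

theorem famEq_of_fam_eq {l1 l2 : List ℕ} (h1 : ∀ m ∈ l1, m < 2 ^ 24) (h2 : ∀ m ∈ l2, m < 2 ^ 24)
    (h : fam l1 = fam l2) : famEq l1 l2 = true := by
  unfold famEq
  rw [Bool.and_eq_true]
  exact ⟨famSub_of_subset h1 h2 h.subset, famSub_of_subset h2 h1 h.symm.subset⟩

theorem famEq_iff {l1 l2 : List ℕ} (h1 : ∀ m ∈ l1, m < 2 ^ 24) (h2 : ∀ m ∈ l2, m < 2 ^ 24) :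
    famEq l1 l2 = true ↔ fam l1 = fam l2 :=
  ⟨fam_eq_of_famEq, famEq_of_fam_eq h1 h2⟩

/-- counting the members of an enumerated class of families with a checkable property. -/
theorem ncard_filter_fam {𝒳 : Set (Finset (Finset GolayPt))} {D : List (List ℕ)} (hD : FamData 𝒳 D)
    (pred : Finset (Finset GolayPt) → Prop) (predL : List ℕ → Bool)
    (h : ∀ l ∈ D, (pred (fam l) ↔ predL l = true)) :
    {S | S ∈ 𝒳 ∧ pred S}.ncard = (D.filter predL).length := by
  have e : {S | S ∈ 𝒳 ∧ pred S} = fam '' {l | l ∈ D.filter predL} := by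
    ext S
    constructor
    · rintro ⟨hS, hp⟩
      obtain ⟨l, hl, rfl⟩ := hD.complete S hS
      exact ⟨l, List.mem_filter.mpr ⟨hl, (h l hl).mp hp⟩, rfl⟩
    · rintro ⟨l, hl, rfl⟩
      have hl' := List.mem_filter.mp hl
      exact ⟨hD.sound l hl'.1, (h l hl'.1).mpr hl'.2⟩
  rw [e]
  apply ncard_image_list fam _ (hD.nodup.filter _)
  intro c₁ h₁ c₂ h₂ hc
  exact hD.inj c₁ (List.mem_filter.mp h₁).1 c₂ (List.mem_filter.mp h₂).1 hc

/-- counting the members of an enumerated class of sets with a checkable property. -/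
theorem ncard_filter_set {𝒳 : Set (Finset GolayPt)} {D : List ℕ} (hD : SetData 𝒳 D)
    (pred : Finset GolayPt → Prop) (predM : ℕ → Bool)
    (h : ∀ m ∈ D, (pred (bset m) ↔ predM m = true)) :
    {s | s ∈ 𝒳 ∧ pred s}.ncard = (D.filter predM).length := by
  have e : {s | s ∈ 𝒳 ∧ pred s} = bset '' {m | m ∈ D.filter predM} := by
    ext s
    constructor
    · rintro ⟨hs, hp⟩
      obtain ⟨m, hm, rfl⟩ := hD.complete s hs
      exact ⟨m, List.mem_filter.mpr ⟨hm, (h m hm).mp hp⟩, rfl⟩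
    · rintro ⟨m, hm, rfl⟩
      have hm' := List.mem_filter.mp hm
      exact ⟨hD.sound m hm'.1, (h m hm'.1).mpr hm'.2⟩
  rw [e]
  apply ncard_image_list bset _ (hD.nodup.filter _)
  intro c₁ h₁ c₂ h₂ hc
  exact hD.inj c₁ (List.mem_filter.mp h₁).1 c₂ (List.mem_filter.mp h₂).1 hc

/-- the packed map sends the family to itself. -/
noncomputable def fixF (P : ℕ) (l : List ℕ) : Bool := famEq (l.map (applyMask P)) l

/-- the packed map sends the mask to itself. -/
noncomputable def fixS (P m : ℕ) : Bool := Nat.beq (applyMask P m) m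

theorem fixF_iff (P : ℕ) (hP : isPerm P = true) (l : List ℕ) (hl : ∀ m ∈ l, m < 2 ^ 24) :
    permOf P • fam l = fam l ↔ fixF P l = true := by
  unfold fixF
  rw [smul_fam P hP, famEq_iff _ hl]
  intro m hm
  obtain ⟨n, _, rfl⟩ := List.mem_map.mp hm
  exact applyMask_lt P hP n

theorem fixS_iff (P : ℕ) (hP : isPerm P = true) (m : ℕ) (hm : m < 2 ^ 24) :
    permOf P • bset m = bset m ↔ fixS P m = true := by
  unfold fixS
  rw [permOf_smul_bset P hP, nat_beq_iff]
  constructor
  · intro h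
    exact bset_inj _ _ (applyMask_lt P hP m) hm h
  · intro h
    rw [h]

theorem ncard_fixed_fam {𝒳 : Set (Finset (Finset GolayPt))} {D : List (List ℕ)} (hD : FamData 𝒳 D)
    (hb : ∀ l ∈ D, ∀ m ∈ l, m < 2 ^ 24) (P : ℕ) (hP : isPerm P = true) :
    {S | S ∈ 𝒳 ∧ permOf P • S = S}.ncard = (D.filter (fixF P)).length :=
  ncard_filter_fam hD (fun S => permOf P • S = S) (fixF P) (fun l hl => fixF_iff P hP l (hb l hl))

theorem ncard_fixed_set {𝒳 : Set (Finset GolayPt)} {D : List ℕ} (hD : SetData 𝒳 D)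
    (hb : ∀ m ∈ D, m < 2 ^ 24) (P : ℕ) (hP : isPerm P = true) :
    {s | s ∈ 𝒳 ∧ permOf P • s = s}.ncard = (D.filter (fixS P)).length :=
  ncard_filter_set hD (fun s => permOf P • s = s) (fixS P) (fun m hm => fixS_iff P hP m (hb m hm))

/-- all masks of all entries are below `2 ^ 24`. -/
def allLt (D : List (List ℕ)) : Bool := D.all fun l => l.all fun m => Nat.blt m 16777216

theorem lt_of_allLt {D : List (List ℕ)} (h : allLt D = true) : ∀ l ∈ D, ∀ m ∈ l, m < 2 ^ 24 := by
  intro l hl m hm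
  unfold allLt at h
  have := List.all_eq_true.mp (List.all_eq_true.mp h l hl) m hm
  rw [Nat.blt_eq] at this
  norm_num
  exact this

set_option maxRecDepth 100000 in
theorem sextetData_allLt : allLt sextetData = true := by decide +kernel

set_option maxRecDepth 100000 in
theorem trioData_allLt : allLt trioData = true := by decide +kernel

theorem sextetData_lt : ∀ l ∈ sextetData, ∀ m ∈ l, m < 2 ^ 24 := lt_of_allLt sextetData_allLt

theorem trioData_lt : ∀ l ∈ trioData, ∀ m ∈ l, m < 2 ^ 24 := lt_of_allLt trioData_allLt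

section
variable {G X : Type*} [Group G] [MulAction G X]

/-- conjugate elements fix equally many members of an invariant class. -/
theorem ncard_fixed_conj (H : Subgroup G) (𝒳 : Set X) (h𝒳 : ∀ g ∈ H, ∀ x ∈ 𝒳, g • x ∈ 𝒳)
    (g h : G) (hh : h ∈ H) :
    {x | x ∈ 𝒳 ∧ (h * g * h⁻¹) • x = x}.ncard = {x | x ∈ 𝒳 ∧ g • x = x}.ncard := by
  have e : {x | x ∈ 𝒳 ∧ (h * g * h⁻¹) • x = x} = (fun x => h • x) '' {x | x ∈ 𝒳 ∧ g • x = x} := by
    ext y
    constructor
    · rintro ⟨hy, hf⟩
      refine ⟨h⁻¹ • y, ⟨h𝒳 _ (H.inv_mem hh) y hy, ?_⟩, by simp⟩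
      have := congrArg (fun z => h⁻¹ • z) hf
      simpa [mul_smul] using this
    · rintro ⟨x, ⟨hx, hf⟩, rfl⟩
      refine ⟨h𝒳 h hh x hx, ?_⟩
      simp [mul_smul, hf]
  rw [e, Set.ncard_image_of_injective _ (MulAction.injective h)]

/-- an element and its inverse fix the same things. -/
theorem fixed_inv_iff (g : G) (x : X) : g⁻¹ • x = x ↔ g • x = x := by
  constructor
  · intro h
    have := congrArg (fun z => g • z) h
    simpa using this.symm
  · intro h
    have := congrArg (fun z => g⁻¹ • z) h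
    simpa using this.symm

end

end Cfsg.Agent.Lib.Helper28.M24Fam
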