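import Mathlib
import Cfsg.Prelude.Def_SporadicCombinatorics
import Cfsg.Agent.S0381
import Cfsg.Agent.Lib.Helper3.Golay.M24List
import Cfsg.Agent.Lib.Helper28.M24OctadFix
set_option autoImplicit false

/-!
Bridge between the two bitmask vocabularies, fixed points modulo a prime inside an invariant set, and:
an element of `M24` fixing six points of an octad is conjugate to one of the sixteen listed elements.
-/

namespace Cfsg.Agent.Lib.Helper28.M24OctadFix
open Cfsg Cfsg.Agent.Lib.Helper28.GolayCode Cfsg.Agent.Lib.Helper28.M24Pairs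
open scoped Pointwise

theorem idx_eq_enc (p : GolayPt) : Cfsg.Agent.Lib.Helper3.Golay.idx p = enc p := by
  cases p <;> rfl

theorem bitSet_eq_bset (m : ℕ) : Cfsg.Agent.Lib.Helper3.Golay.bitSet m = bset m := by
  ext p
  rw [Cfsg.Agent.Lib.Helper3.Golay.mem_bitSet, mem_bset, idx_eq_enc]

theorem pt_eq_dec (i : ℕ) (hi : i < 24) : Cfsg.Agent.Lib.Helper3.Golay.pt i = dec i := by
  interval_cases i <;> rfl

/-- the number of fixed points inside an invariant set, modulo a prime `p`, for an element of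
`p`-power order. -/
theorem card_filter_fixed_modEq (g : Equiv.Perm GolayPt) (p n : ℕ) [hp : Fact p.Prime]
    (hg : g ^ p ^ n = 1) (o : Finset GolayPt) (ho : g • o = o) :
    (o.filter fun x => g x = x).card ≡ o.card [MOD p] := by
  classical
  have hmem : ∀ x, g x ∈ o ↔ x ∈ o := by
    intro x
    conv_lhs => rw [← ho]
    exact Finset.smul_mem_smul_finset_iff g
  set σ : Equiv.Perm ↥o := g.subtypePerm hmem with hσ
  have hσp : σ ^ p ^ n = 1 := by
    rw [hσ, Equiv.Perm.subtypePerm_pow]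
    simp only [hg]
    rfl
  have h1 := Equiv.Perm.card_compl_support_modEq (p := p) (n := n) hσp
  rw [Fintype.card_coe] at h1
  have h2 : (σ.supportᶜ).card = (o.filter fun x => g x = x).card := by
    rw [← Finset.card_map (Function.Embedding.subtype _)]
    congr 1
    ext x
    simp only [Finset.mem_map, Finset.mem_compl, Equiv.Perm.mem_support, not_not,
      Function.Embedding.coe_subtype, Finset.mem_filter]
    constructor
    · rintro ⟨y, hy, rfl⟩
      refine ⟨y.2, ?_⟩
      have := congrArg Subtype.val hy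
      simpa [hσ] using this
    · rintro ⟨hx, hgx⟩
      refine ⟨⟨x, hx⟩, ?_, rfl⟩
      apply Subtype.ext
      simpa [hσ] using hgx
  rw [h2] at h1
  exact h1

/-- an element of `M24` fixing at least six points of an octad is conjugate in `M24` to one of the
sixteen elements fixing `bset O0` pointwise; the conjugating element maps the octad to `bset O0`. -/
theorem exists_conj_Plist {g : Equiv.Perm GolayPt} (hg : g ∈ M24) {o : Finset GolayPt} (ho : o ∈ octads)
    (F : Finset GolayPt) (hF : ∀ p ∈ F, g p = p) (h6 : 6 ≤ (o ∩ F).card) :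
    ∃ h ∈ M24, h • o = bset O0 ∧ ∃ t ∈ Plist, h * g * h⁻¹ = permOf t := by
  classical
  obtain ⟨s6, hs6, h6'⟩ := Finset.exists_subset_card_eq h6
  obtain ⟨s5, hs5, h5'⟩ := Finset.exists_subset_card_eq (show 5 ≤ s6.card by omega)
  have hx : ∃ x ∈ s6, x ∉ s5 := by
    by_contra hcon
    push Not at hcon
    have : s6 ⊆ s5 := hcon
    have := Finset.card_le_card this
    omega
  obtain ⟨x, hx6, hx5⟩ := hx
  have hl : (s5.toList ++ [x]).Nodup := by
    rw [List.nodup_append]
    refine ⟨s5.nodup_toList, List.nodup_singleton x, ?_⟩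
    intro a ha b hb
    rw [List.mem_singleton] at hb
    rw [Finset.mem_toList] at ha
    rintro rfl
    rw [hb] at ha
    exact hx5 ha
  have hl' : (Cfsg.Agent.Lib.Helper3.Golay.base5 ++ [Cfsg.Agent.Lib.Helper3.Golay.β 5]).Nodup := by
    decide
  have hmem6 : ∀ p ∈ s6, p ∈ o ∧ p ∈ F := fun p hp => Finset.mem_inter.mp (hs6 hp)
  have hβ5 : Cfsg.Agent.Lib.Helper3.Golay.β 5 ∈
      Cfsg.Agent.Lib.Helper3.Golay.bitSet Cfsg.Agent.Lib.Helper3.Golay.O0 :=
    Cfsg.Agent.S0381.base_mem_O0 5 (by norm_num)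
  obtain ⟨h, hh, hho, hmap, hhx⟩ := Cfsg.Agent.Lib.Helper3.Golay.exists_map_six ho
    Cfsg.Agent.Lib.Helper3.Golay.O0_mem s5.toList Cfsg.Agent.Lib.Helper3.Golay.base5 x
    (Cfsg.Agent.Lib.Helper3.Golay.β 5) hl hl' (by rw [Finset.length_toList, h5']) rfl
    (fun p hp => (hmem6 p (hs5 (Finset.mem_toList.mp hp))).1)
    Cfsg.Agent.Lib.Helper3.Golay.base5_mem_O0
    ⟨fun _ => hβ5, fun _ => (hmem6 x hx6).1⟩
  have hg' : h * g * h⁻¹ ∈ M24 := M24.mul_mem (M24.mul_mem hh hg) (M24.inv_mem hh)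
  have hfixB : h * g * h⁻¹ ∈ Cfsg.Agent.Lib.Helper3.Golay.fixB 6 := by
    rw [Cfsg.Agent.Lib.Helper3.Golay.mem_fixB]
    intro j hj
    have key : ∀ q, g q = q → (h * g * h⁻¹) (h q) = h q := by
      intro q hq
      simp [Equiv.Perm.mul_apply, hq]
    rcases Nat.lt_succ_iff_lt_or_eq.mp hj with hj5 | rfl
    · have : Cfsg.Agent.Lib.Helper3.Golay.β j ∈ Cfsg.Agent.Lib.Helper3.Golay.base5 :=
        (Cfsg.Agent.Lib.Helper3.Golay.mem_base5_iff _).mpr ⟨j, hj5, rfl⟩
      rw [← hmap, List.mem_map] at this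
      obtain ⟨q, hq, hqβ⟩ := this
      rw [← hqβ]
      exact key q (hF q (hmem6 q (hs5 (Finset.mem_toList.mp hq))).2)
    · rw [← hhx]
      exact key x (hF x (hmem6 x hx6).2)
  have hfix := (Cfsg.Agent.S0381.fix6_props (Subgroup.mem_inf.mpr ⟨hg', hfixB⟩)).1
  rw [bitSet_eq_bset] at hfix hho
  change h • o = bset O0 at hho
  exact ⟨h, hh, hho, mem_Plist_of_fix hg' hfix⟩

end Cfsg.Agent.Lib.Helper28.M24OctadFix
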