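import Mathlib
import Cfsg.Prelude.Def_SporadicCombinatorics
import Cfsg.Agent.Lib.Helper28.M24FixConj
import Cfsg.Agent.Lib.Helper28.M24Sextet
set_option autoImplicit false

/-!
Fixed-point-free involutions of `M24`: each of them leaves an octad invariant and is conjugate to one
of sixteen explicitly listed elements.
-/

namespace Cfsg.Agent.Lib.Helper28.M24OctadFix
open Cfsg Cfsg.Agent.Lib.Helper28.GolayCode Cfsg.Agent.Lib.Helper28.M24Pairs
open Cfsg.Agent.Lib.Helper28.Steiner
open scoped Pointwise

/-- fixed points inside an invariant finite set, modulo a prime `p`, for a permutation of `p`-power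
order. -/
theorem card_filter_fixed_modEq' {X : Type*} [DecidableEq X] (σ : Equiv.Perm X) (p n : ℕ)
    [hp : Fact p.Prime] (hσ : σ ^ p ^ n = 1) (s : Finset X) (hs : ∀ x, σ x ∈ s ↔ x ∈ s) :
    (s.filter fun x => σ x = x).card ≡ s.card [MOD p] := by
  classical
  set τ : Equiv.Perm ↥s := σ.subtypePerm hs with hτ
  have hτp : τ ^ p ^ n = 1 := by
    rw [hτ, Equiv.Perm.subtypePerm_pow]
    simp only [hσ]
    rfl
  have h1 := Equiv.Perm.card_compl_support_modEq (p := p) (n := n) hτp
  rw [Fintype.card_coe] at h1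
  have h2 : (τ.supportᶜ).card = (s.filter fun x => σ x = x).card := by
    rw [← Finset.card_map (Function.Embedding.subtype _)]
    congr 1
    ext x
    simp only [Finset.mem_map, Finset.mem_compl, Equiv.Perm.mem_support, not_not,
      Function.Embedding.coe_subtype, Finset.mem_filter]
    constructor
    · rintro ⟨y, hy, rfl⟩
      refine ⟨y.2, ?_⟩
      have := congrArg Subtype.val hy
      simpa [hτ] using this
    · rintro ⟨hx, hgx⟩
      refine ⟨⟨x, hx⟩, ?_, rfl⟩
      apply Subtype.ext
      simpa [hτ] using hgx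
  rw [h2] at h1
  exact h1

/-- two elements of `M24` agreeing on `bset O0` and at `x0` are equal. -/
theorem eq_of_agree_O0 {σ τ : Equiv.Perm GolayPt} (hσ : σ ∈ M24) (hτ : τ ∈ M24)
    (h1 : ∀ p ∈ bset O0, σ p = τ p) (h2 : σ x0 = τ x0) : σ = τ := by
  have : τ⁻¹ * σ = 1 := by
    apply eq_one_of_fix_O0_x0 (M24.mul_mem (M24.inv_mem hτ) hσ)
    · intro p hp
      rw [Equiv.Perm.mul_apply, h1 p hp]; simp
    · rw [Equiv.Perm.mul_apply, h2]; simp
  have := congrArg (τ * ·) this
  simpa using this

/-- a fixed-point-free involution of `M24` leaves some octad invariant. -/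
theorem exists_invariant_octad {t : Equiv.Perm GolayPt} (ht : t ∈ M24) (h2 : t ^ 2 = 1)
    (h0 : ∀ p, t p ≠ p) : ∃ o ∈ octads, t • o = o := by
  classical
  have hinv : ∀ x, t (t x) = x := by
    intro x
    have := congrArg (fun f : Equiv.Perm GolayPt => f x) h2
    simpa [pow_two] using this
  set a : GolayPt := none with ha
  set b := t a with hb
  have hab : b ≠ a := h0 a
  obtain ⟨c, hc⟩ : ∃ c, c ∉ ({a, b} : Finset GolayPt) := by
    by_contra hcon
    push Not at hcon
    have : (Finset.univ : Finset GolayPt) ⊆ {a, b} := fun x _ => hcon x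
    have h1 := Finset.card_le_card this
    have h3 : ({a, b} : Finset GolayPt).card ≤ 2 := Finset.card_le_two
    have h4 : (Finset.univ : Finset GolayPt).card = 24 := by simp
    omega
  rw [Finset.mem_insert, Finset.mem_singleton, not_or] at hc
  set d := t c with hd
  have hdc : d ≠ c := h0 c
  have hda : d ≠ a := by
    intro h
    have : t d = t a := by rw [h]
    rw [hd, hinv] at this
    exact hc.2 this
  have hdb : d ≠ b := by
    intro h
    exact hc.1 (t.injective h)
  set T0 : Finset GolayPt := {a, b, c, d} with hT0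
  have hT0card : T0.card = 4 := by
    rw [hT0, Finset.card_insert_of_notMem, Finset.card_insert_of_notMem, Finset.card_insert_of_notMem,
      Finset.card_singleton]
    · simpa using fun h => hdc h.symm
    · simp only [Finset.mem_insert, Finset.mem_singleton, not_or]
      exact ⟨fun h => hc.2 h.symm, fun h => hdb h.symm⟩
    · simp only [Finset.mem_insert, Finset.mem_singleton, not_or]
      exact ⟨fun h => hab h.symm, fun h => hc.1 h.symm, fun h => hda h.symm⟩
  have hsub : t • T0 ⊆ T0 := by
    intro x hx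
    obtain ⟨y, hy, rfl⟩ := Finset.mem_smul_finset.mp hx
    rw [hT0] at hy ⊢
    simp only [Finset.mem_insert, Finset.mem_singleton] at hy ⊢
    rcases hy with rfl | rfl | rfl | rfl
    · right; left; rfl
    · left; exact hinv a
    · right; right; right; rfl
    · right; right; left; exact hinv c
  have htT0 : t • T0 = T0 :=
    Finset.eq_of_subset_of_card_le hsub (by rw [Finset.card_smul_finset])
  set σ : Equiv.Perm (Finset GolayPt) := MulAction.toPerm t with hσ
  have hσ2 : σ ^ 2 ^ 1 = 1 := by
    rw [pow_one, hσ]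
    ext1 o
    simp only [Equiv.Perm.coe_pow, Equiv.Perm.coe_one, id_eq]
    show t • (t • o) = o
    rw [← mul_smul, ← pow_two, h2, one_smul]
  have hs : ∀ o, σ o ∈ blocksThrough octads T0 ↔ o ∈ blocksThrough octads T0 := by
    intro o
    rw [mem_blocksThrough, mem_blocksThrough]
    show t • o ∈ octads ∧ T0 ⊆ t • o ↔ _
    rw [smul_mem_octads_iff ht]
    constructor
    · rintro ⟨h1, h3⟩
      refine ⟨h1, ?_⟩
      rw [← htT0] at h3
      exact Finset.smul_finset_subset_smul_finset_iff.mp h3
    · rintro ⟨h1, h3⟩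
      refine ⟨h1, ?_⟩
      rw [← htT0]
      exact Finset.smul_finset_subset_smul_finset_iff.mpr h3
  have hmod := @card_filter_fixed_modEq' _ _ σ 2 1 ⟨Nat.prime_two⟩ hσ2 _ hs
  rw [card_blocksThrough_tetrad T0 hT0card] at hmod
  have hpos : 0 < ((blocksThrough octads T0).filter fun x => σ x = x).card := by
    have : ((blocksThrough octads T0).filter fun x => σ x = x).card % 2 = 5 % 2 := hmod
    omega
  obtain ⟨o, ho⟩ := Finset.card_pos.mp hpos
  rw [Finset.mem_filter, mem_blocksThrough] at ho
  exact ⟨o, ho.1.1, ho.2⟩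


/-- the action of the candidates on the indices of the points of `bset O0`. -/
def piO (i : ℕ) : ℕ :=
  if i = 23 then 0 else if i = 0 then 23 else if i = 1 then 2 else if i = 2 then 1 else
  if i = 3 then 5 else if i = 5 then 3 else if i = 14 then 17 else if i = 17 then 14 else i

/-- the sixteen elements of `M24` acting on `bset O0` as `piO`. -/
def Qlist : List ℕ := [0x58ea349d04c5ac5d1e8acc6428457, 0x1ecb23dd564669522548346628457, 0x188cb51d35c6aa4c90f6c06728457, 0x49f3a59ccac570698e44a86828457, 0x297664dd4245e63c1b54486928457, 0x25845d5cfb4687336139206a28457, 0x3126541d23c51624ead7d06b28457, 0x2d474b5c834644b5670a3c6c28457, 0x42b49b1d67c4924292b3986d28457, 0x5110919ca6c533ad8875b06f28457, 0x366faadc4a46c89254c31c7028457, 0x2295791cb9c58d81cd65247228457, 0x56086a5c7944cfa2d8ab107328457, 0x3e4d41dc984555992c662c7428457, 0x4db2829c6444f47b1692587528457, 0x10c93a1cd5460b63e929d47628457]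

noncomputable def QentryOK (q : ℕ) : Bool :=
  inM24 q && (List.range 24).all fun i => !(O0.testBit i) || Nat.beq (img q i) (piO i)

theorem Qlist_ok : Qlist.all QentryOK = true := by decide +kernel

theorem Qlist_cover : ∀ i < 24, O0.testBit i = false → ∃ q ∈ Qlist, img q 4 = i := by decide +kernel

theorem Qlist_inM24 {q : ℕ} (hq : q ∈ Qlist) : inM24 q = true := by
  have := List.all_eq_true.mp Qlist_ok q hq
  unfold QentryOK at this
  rw [Bool.and_eq_true] at this
  exact this.1

theorem Qlist_apply {q : ℕ} (hq : q ∈ Qlist) (i : ℕ) (hi : i < 24) (hO : O0.testBit i = true) :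
    permOf q (dec i) = dec (piO i) := by
  have := List.all_eq_true.mp Qlist_ok q hq
  unfold QentryOK at this
  rw [Bool.and_eq_true] at this
  have h2 := List.all_eq_true.mp this.2 i (List.mem_range.mpr hi)
  rw [hO] at h2
  simp only [Bool.not_true, Bool.false_or, nat_beq_iff] at h2
  rw [permOf_apply_dec q (isPerm_of_inM24 _ this.1) i hi, h2]

/-- the packed map is a fixed-point-free involution. -/
def isFpfInvol (q : ℕ) : Bool :=
  (List.range 24).all fun i => !(Nat.beq (img q i) i) && Nat.beq (img q (img q i)) i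

theorem isFpfInvol_of {q : ℕ} (hq : isPerm q = true) (h2 : permOf q ^ 2 = 1)
    (h0 : ∀ p, permOf q p ≠ p) : isFpfInvol q = true := by
  unfold isFpfInvol
  rw [List.all_eq_true]
  intro i hi
  rw [List.mem_range] at hi
  have hlt := img_lt_of_isPerm q hq i hi
  rw [Bool.and_eq_true, Bool.not_eq_true', ← Bool.not_eq_true, nat_beq_iff, nat_beq_iff]
  constructor
  · intro h
    apply h0 (dec i)
    rw [permOf_apply_dec q hq i hi, h]
  · have := congrArg (fun f : Equiv.Perm GolayPt => f (dec i)) h2
    simp only [pow_two, Equiv.Perm.mul_apply, Equiv.Perm.one_apply] at this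
    rw [permOf_apply_dec q hq i hi, permOf_apply_dec q hq _ hlt] at this
    have h3 := congrArg enc this
    rwa [enc_dec _ (img_lt_of_isPerm q hq _ hlt), enc_dec _ hi] at h3

theorem mem_bset_O0_cases (p : GolayPt) (hp : p ∈ bset O0) :
    p = dec 0 ∨ p = dec 1 ∨ p = dec 2 ∨ p = dec 3 ∨ p = dec 5 ∨ p = dec 14 ∨ p = dec 17 ∨ p = dec 23 := by
  rw [mem_bset] at hp
  have hlt := enc_lt p
  rw [← dec_enc p]
  generalize enc p = i at hp hlt
  interval_cases i <;> first | (exfalso; revert hp; decide) | simp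

/-- every fixed-point-free involution of `M24` is conjugate to one of the listed elements. -/
theorem fpf_invol_conj {t : Equiv.Perm GolayPt} (ht : t ∈ M24) (h2 : t ^ 2 = 1)
    (h0 : ∀ p, t p ≠ p) :
    ∃ h ∈ M24, ∃ q ∈ Qlist, isFpfInvol q = true ∧ h * t * h⁻¹ = permOf q := by
  classical
  have hinv : ∀ x, t (t x) = x := by
    intro x
    have := congrArg (fun f : Equiv.Perm GolayPt => f x) h2
    simpa [pow_two] using this
  obtain ⟨o, ho, hto⟩ := exists_invariant_octad ht h2 h0
  have hmemo : ∀ x, t x ∈ o ↔ x ∈ o := Cfsg.Agent.Lib.Helper3.Golay.mem_smul_iff_of_smul_eq hto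
  -- six points of the octad
  obtain ⟨a, hao⟩ : ∃ a, a ∈ o := by
    apply Finset.card_pos.mp
    rw [ho.2]; norm_num
  have hbo : t a ∈ o := (hmemo a).mpr hao
  obtain ⟨c, hco, hc⟩ : ∃ c ∈ o, c ∉ ({a, t a} : Finset GolayPt) := by
    apply Finset.exists_mem_notMem_of_card_lt_card
    have : ({a, t a} : Finset GolayPt).card ≤ 2 := Finset.card_le_two
    rw [ho.2]; omega
  rw [Finset.mem_insert, Finset.mem_singleton, not_or] at hc
  have hdo : t c ∈ o := (hmemo c).mpr hco
  obtain ⟨e, heo, he⟩ : ∃ e ∈ o, e ∉ ({a, t a, c, t c} : Finset GolayPt) := by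
    apply Finset.exists_mem_notMem_of_card_lt_card
    have : ({a, t a, c, t c} : Finset GolayPt).card ≤ 4 := Finset.card_le_four
    rw [ho.2]; omega
  simp only [Finset.mem_insert, Finset.mem_singleton, not_or] at he
  have hfo : t e ∈ o := (hmemo e).mpr heo
  have hsw : ∀ x y, t x = y → x = t y := fun x y h => by rw [← h, hinv]
  have hl : ([a, t a, c, t c, e] ++ [t e]).Nodup := by
    simp only [List.cons_append, List.nil_append, List.nodup_cons, List.mem_cons, List.not_mem_nil,
      or_false, not_or, List.nodup_nil, not_false_eq_true, and_true]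
    refine ⟨⟨fun h => h0 a h.symm, fun h => hc.1 h.symm, ?_, fun h => he.1 h.symm, ?_⟩,
      ⟨fun h => hc.2 h.symm, ?_, fun h => he.2.1 h.symm, ?_⟩,
      ⟨fun h => h0 c h.symm, fun h => he.2.2.1 h.symm, ?_⟩, ⟨fun h => he.2.2.2 h.symm, ?_⟩,
      fun h => h0 e h.symm⟩
    · intro h
      exact hc.2 (hsw c a h.symm)
    · intro h
      exact he.2.1 (hsw e a h.symm)
    · intro h
      exact hc.1 (t.injective h).symm
    · intro h
      exact he.1 (t.injective h).symm
    · intro h
      exact he.2.2.2 (hsw e c h.symm)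
    · intro h
      exact he.2.2.1 (t.injective h).symm
  have hl' : (Cfsg.Agent.Lib.Helper3.Golay.base5 ++ [Cfsg.Agent.Lib.Helper3.Golay.β 5]).Nodup := by
    decide
  have hβ5 : Cfsg.Agent.Lib.Helper3.Golay.β 5 ∈
      Cfsg.Agent.Lib.Helper3.Golay.bitSet Cfsg.Agent.Lib.Helper3.Golay.O0 :=
    Cfsg.Agent.S0381.base_mem_O0 5 (by norm_num)
  obtain ⟨h, hh, hho, hmap, hhx⟩ := Cfsg.Agent.Lib.Helper3.Golay.exists_map_six ho
    Cfsg.Agent.Lib.Helper3.Golay.O0_mem [a, t a, c, t c, e] Cfsg.Agent.Lib.Helper3.Golay.base5 (t e)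
    (Cfsg.Agent.Lib.Helper3.Golay.β 5) hl hl' rfl rfl
    (by
      intro p hp
      simp only [List.mem_cons, List.not_mem_nil, or_false] at hp
      rcases hp with rfl | rfl | rfl | rfl | rfl <;> assumption)
    Cfsg.Agent.Lib.Helper3.Golay.base5_mem_O0
    ⟨fun _ => hβ5, fun _ => hfo⟩
  rw [bitSet_eq_bset] at hho
  change h • o = bset O0 at hho
  simp only [List.map_cons, List.map_nil, Cfsg.Agent.Lib.Helper3.Golay.base5, List.cons.injEq,
    and_true] at hmap
  obtain ⟨m0, m1, m2, m3, m4⟩ := hmap
  have hβ : ∀ j < 7, Cfsg.Agent.Lib.Helper3.Golay.β j =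
      dec ([23, 0, 1, 2, 3, 5, 4].getD j 0) := by
    intro j hj
    interval_cases j <;> rfl
  rw [hβ 0 (by norm_num)] at m0
  rw [hβ 1 (by norm_num)] at m1
  rw [hβ 2 (by norm_num)] at m2
  rw [hβ 3 (by norm_num)] at m3
  rw [hβ 4 (by norm_num)] at m4
  rw [hβ 5 (by norm_num)] at hhx
  simp only [List.getD_cons_zero, List.getD_cons_succ] at m0 m1 m2 m3 m4 hhx
  set t' : Equiv.Perm GolayPt := h * t * h⁻¹ with ht'
  have ht'M : t' ∈ M24 := M24.mul_mem (M24.mul_mem hh ht) (M24.inv_mem hh)
  have hkey : ∀ x, t' (h x) = h (t x) := by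
    intro x
    simp [ht', Equiv.Perm.mul_apply]
  have ht'2 : t' ^ 2 = 1 := by
    rw [ht', pow_two]
    have : h * t * h⁻¹ * (h * t * h⁻¹) = h * (t * t) * h⁻¹ := by group
    rw [this, ← pow_two, h2]; group
  have ht'0 : ∀ p, t' p ≠ p := by
    intro p hp
    apply h0 (h⁻¹ p)
    apply h.injective
    rw [← hkey]
    simpa using hp
  have ht'O : t' • bset O0 = bset O0 := by
    rw [← hho, ht', mul_smul, mul_smul, inv_smul_smul, hto]
  have ht'inv : ∀ x, t' (t' x) = x := by
    intro x
    have := congrArg (fun f : Equiv.Perm GolayPt => f x) ht'2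
    simpa [pow_two] using this
  have e23 : t' (dec 23) = dec 0 := by rw [← m0, hkey, m1]
  have e0 : t' (dec 0) = dec 23 := by rw [← m1, hkey, hinv, m0]
  have e1 : t' (dec 1) = dec 2 := by rw [← m2, hkey, m3]
  have e2 : t' (dec 2) = dec 1 := by rw [← m3, hkey, hinv, m2]
  have e3 : t' (dec 3) = dec 5 := by rw [← m4, hkey, hhx]
  have e5 : t' (dec 5) = dec 3 := by rw [← hhx, hkey, hinv, m4]
  have hmem' : ∀ x, t' x ∈ bset O0 ↔ x ∈ bset O0 :=
    Cfsg.Agent.Lib.Helper3.Golay.mem_smul_iff_of_smul_eq ht'O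
  have hne : ∀ i j : ℕ, i < 24 → j < 24 → i ≠ j → dec i ≠ dec j := by
    intro i j hi hj hij h
    apply hij
    have := congrArg enc h
    rwa [enc_dec i hi, enc_dec j hj] at this
  have e14 : t' (dec 14) = dec 17 := by
    have hm : t' (dec 14) ∈ bset O0 := (hmem' _).mpr (by rw [mem_bset]; decide +kernel)
    have hback : ∀ i j : ℕ, t' (dec 14) = dec i → t' (dec i) = dec j → dec 14 = dec j := by
      intro i j h1 h3
      rw [← ht'inv (dec 14), h1, h3]
    rcases mem_bset_O0_cases _ hm with h | h | h | h | h | h | h | h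
    · exact absurd (hback 0 23 h e0) (hne 14 23 (by norm_num) (by norm_num) (by norm_num))
    · exact absurd (hback 1 2 h e1) (hne 14 2 (by norm_num) (by norm_num) (by norm_num))
    · exact absurd (hback 2 1 h e2) (hne 14 1 (by norm_num) (by norm_num) (by norm_num))
    · exact absurd (hback 3 5 h e3) (hne 14 5 (by norm_num) (by norm_num) (by norm_num))
    · exact absurd (hback 5 3 h e5) (hne 14 3 (by norm_num) (by norm_num) (by norm_num))
    · exact absurd h (ht'0 _)
    · exact h
    · exact absurd (hback 23 0 h e23) (hne 14 0 (by norm_num) (by norm_num) (by norm_num))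
  have e17 : t' (dec 17) = dec 14 := by rw [← e14, ht'inv]
  -- the image of `x0`
  have hy : t' x0 ∉ bset O0 := fun h => x0_not_mem ((hmem' x0).mp h)
  rw [mem_bset] at hy
  obtain ⟨q, hq, himg⟩ := Qlist_cover (enc (t' x0)) (enc_lt _) (by simpa using hy)
  have hqP := isPerm_of_inM24 _ (Qlist_inM24 hq)
  have hqx : permOf q x0 = t' x0 := by
    have := permOf_apply_dec q hqP 4 (by norm_num)
    rw [himg, dec_enc] at this
    exact this
  have heq : t' = permOf q := by
    apply eq_of_agree_O0 ht'M (permOf_mem_M24 _ (Qlist_inM24 hq)) _ hqx.symm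
    intro p hp
    rcases mem_bset_O0_cases p hp with rfl | rfl | rfl | rfl | rfl | rfl | rfl | rfl
    · rw [e0, Qlist_apply hq 0 (by norm_num) (by decide)]; rfl
    · rw [e1, Qlist_apply hq 1 (by norm_num) (by decide)]; rfl
    · rw [e2, Qlist_apply hq 2 (by norm_num) (by decide)]; rfl
    · rw [e3, Qlist_apply hq 3 (by norm_num) (by decide)]; rfl
    · rw [e5, Qlist_apply hq 5 (by norm_num) (by decide)]; rfl
    · rw [e14, Qlist_apply hq 14 (by norm_num) (by decide)]; rfl
    · rw [e17, Qlist_apply hq 17 (by norm_num) (by decide)]; rfl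
    · rw [e23, Qlist_apply hq 23 (by norm_num) (by decide)]; rfl
  refine ⟨h, hh, q, hq, ?_, heq⟩
  apply isFpfInvol_of hqP
  · rw [← heq]; exact ht'2
  · rw [← heq]; exact ht'0

end Cfsg.Agent.Lib.Helper28.M24OctadFix
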