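import Mathlib
import Cfsg.Prelude.Def_SporadicCombinatorics
import Cfsg.Agent.Lib.Helper3.Golay.Dodecad3
import Cfsg.Agent.Lib.Helper28.M24Invol
set_option autoImplicit false

/-!
Fixed-point-free elements of order three of `M24`: each of them leaves a dodecad invariant and is
conjugate to one of eight explicitly listed elements of the stabiliser of the dodecad `bset 0x5335f`.
-/

namespace Cfsg.Agent.Lib.Helper28.M24OctadFix
open Cfsg Cfsg.Agent.Lib.Helper28.GolayCode Cfsg.Agent.Lib.Helper28.M24Pairs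
open scoped Pointwise

/-- the dodecads as a finset. -/
noncomputable def dodecadFinset : Finset (Finset GolayPt) := (dodecadList.map bset).toFinset

theorem mem_dodecadFinset (d : Finset GolayPt) : d ∈ dodecadFinset ↔ d ∈ dodecads := by
  unfold dodecadFinset
  rw [List.mem_toFinset, List.mem_map, mem_dodecads_iff_exists]

theorem card_dodecadFinset : dodecadFinset.card = 2576 := by
  unfold dodecadFinset
  rw [List.toFinset_card_of_nodup, List.length_map, dodecadList_length]
  rw [List.nodup_map_iff_inj_on dodecadList_nodup]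
  intro a ha b hb h
  exact bset_inj a b ((mem_dodecadList_iff a).mp ha).1 ((mem_dodecadList_iff b).mp hb).1 h

/-- an element of `M24` of order three leaves some dodecad invariant. -/
theorem exists_invariant_dodecad {g : Equiv.Perm GolayPt} (hg : g ∈ M24) (h3 : g ^ 3 = 1) :
    ∃ d ∈ dodecads, g • d = d := by
  classical
  set σ : Equiv.Perm (Finset GolayPt) := MulAction.toPerm g with hσ
  have hσ3 : σ ^ 3 ^ 1 = 1 := by
    rw [pow_one, hσ]
    ext1 o
    simp only [Equiv.Perm.coe_pow, Equiv.Perm.coe_one, id_eq]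
    show g • (g • (g • o)) = o
    rw [← mul_smul, ← mul_smul, ← pow_two, ← pow_succ, h3, one_smul]
  have hs : ∀ o, σ o ∈ dodecadFinset ↔ o ∈ dodecadFinset := by
    intro o
    rw [mem_dodecadFinset, mem_dodecadFinset]
    exact smul_mem_dodecads_iff hg o
  have hmod := @card_filter_fixed_modEq' _ _ σ 3 1 ⟨Nat.prime_three⟩ hσ3 _ hs
  rw [card_dodecadFinset] at hmod
  have hpos : 0 < (dodecadFinset.filter fun x => σ x = x).card := by
    have : (dodecadFinset.filter fun x => σ x = x).card % 3 = 2576 % 3 := hmod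
    omega
  obtain ⟨d, hd⟩ := Finset.card_pos.mp hpos
  rw [Finset.mem_filter, mem_dodecadFinset] at hd
  exact ⟨d, hd.1, hd.2⟩

/-- the base dodecad. -/
def dd0 : ℕ := 0x5335f

/-- the eight elements of the stabiliser of the base dodecad with `0 → 1 → 2 → 0`, `3 → 4`. -/
def Rlist : List ℕ := [0xad0b3b262dbbe4c71cd05216320041, 0x8aaf62b6b29ae083d18970de620041, 0x89ed79c2a92ada653872a31e820041, 0x5d947731e6a4472b96089b6a920041, 0xaba65bca30b3d23a290d3996c20041, 0x795d43a16c554d09dd23b4a2d20041, 0x7ce8e519633d50d2da4cba63020041, 0x5dceaa0de874589b4da62c2b220041]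

noncomputable def RentryOK (r : ℕ) : Bool :=
  inM24 r && Nat.beq (applyMask r dd0) dd0 && Nat.beq (img r 0) 1 && Nat.beq (img r 1) 2 &&
    Nat.beq (img r 2) 0 && Nat.beq (img r 3) 4

theorem Rlist_ok : Rlist.all RentryOK = true := by decide +kernel

theorem Rlist_cover' : ∀ i < 24, dd0.testBit i = true →
    (i = 0 ∨ i = 1 ∨ i = 2 ∨ i = 4) ∨ ∃ r ∈ Rlist, img r 4 = i := by decide +kernel

theorem Rlist_cover (i : ℕ) (hi : i < 24) (h : dd0.testBit i = true) (h0 : i ≠ 0) (h1 : i ≠ 1)
    (h2 : i ≠ 2) (h4 : i ≠ 4) : ∃ r ∈ Rlist, img r 4 = i := by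
  rcases Rlist_cover' i hi h with h' | h'
  · rcases h' with h' | h' | h' | h'
    · exact absurd h' h0
    · exact absurd h' h1
    · exact absurd h' h2
    · exact absurd h' h4
  · exact h'

theorem Rlist_spec {r : ℕ} (hr : r ∈ Rlist) : inM24 r = true ∧ applyMask r dd0 = dd0 ∧ img r 0 = 1 ∧
    img r 1 = 2 ∧ img r 2 = 0 ∧ img r 3 = 4 := by
  have := List.all_eq_true.mp Rlist_ok r hr
  unfold RentryOK at this
  simp only [Bool.and_eq_true, nat_beq_iff] at this
  obtain ⟨⟨⟨⟨⟨h1, h2⟩, h3⟩, h4⟩, h5⟩, h6⟩ := this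
  exact ⟨h1, h2, h3, h4, h5, h6⟩

/-- the packed map is fixed-point-free with cube one. -/
def isFpf3 (q : ℕ) : Bool :=
  (List.range 24).all fun i => !(Nat.beq (img q i) i) && Nat.beq (img q (img q (img q i))) i

theorem isFpf3_of {q : ℕ} (hq : isPerm q = true) (h3 : permOf q ^ 3 = 1)
    (h0 : ∀ p, permOf q p ≠ p) : isFpf3 q = true := by
  unfold isFpf3
  rw [List.all_eq_true]
  intro i hi
  rw [List.mem_range] at hi
  have hlt := img_lt_of_isPerm q hq i hi
  have hlt2 := img_lt_of_isPerm q hq _ hlt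
  rw [Bool.and_eq_true, Bool.not_eq_true', ← Bool.not_eq_true, nat_beq_iff, nat_beq_iff]
  constructor
  · intro h
    apply h0 (dec i)
    rw [permOf_apply_dec q hq i hi, h]
  · have := congrArg (fun f : Equiv.Perm GolayPt => f (dec i)) h3
    simp only [pow_succ, pow_zero, one_mul, Equiv.Perm.mul_apply, Equiv.Perm.one_apply] at this
    rw [permOf_apply_dec q hq i hi, permOf_apply_dec q hq _ hlt, permOf_apply_dec q hq _ hlt2] at this
    have h4 := congrArg enc this
    rwa [enc_dec _ (img_lt_of_isPerm q hq _ hlt2), enc_dec _ hi] at h4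

theorem b2_eq_dec : ∀ j < 5, Cfsg.Agent.Lib.Helper3.Golay.b2 j = dec j := by
  intro j hj
  interval_cases j <;> rfl

/-- every fixed-point-free element of order three of `M24` is conjugate to one of the listed elements. -/
theorem fpf_order3_conj {g : Equiv.Perm GolayPt} (hg : g ∈ M24) (h3 : g ^ 3 = 1)
    (h0 : ∀ p, g p ≠ p) :
    ∃ h ∈ M24, ∃ r ∈ Rlist, isFpf3 r = true ∧ h * g * h⁻¹ = permOf r := by
  classical
  have hcube : ∀ x, g (g (g x)) = x := by
    intro x
    have := congrArg (fun f : Equiv.Perm GolayPt => f x) h3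
    simpa [pow_succ] using this
  obtain ⟨d, hd, hgd⟩ := exists_invariant_dodecad hg h3
  have hmemd : ∀ x, g x ∈ d ↔ x ∈ d := Cfsg.Agent.Lib.Helper3.Golay.mem_smul_iff_of_smul_eq hgd
  obtain ⟨a, had⟩ : ∃ a, a ∈ d := by
    apply Finset.card_pos.mp
    rw [hd.2]; norm_num
  obtain ⟨b, hbd, hb⟩ : ∃ b ∈ d, b ∉ ({a, g a, g (g a)} : Finset GolayPt) := by
    apply Finset.exists_mem_notMem_of_card_lt_card
    have : ({a, g a, g (g a)} : Finset GolayPt).card ≤ 3 := Finset.card_le_three
    rw [hd.2]; omega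
  simp only [Finset.mem_insert, Finset.mem_singleton, not_or] at hb
  have hnd : [a, g a, g (g a), b, g b].Nodup := by
    simp only [List.nodup_cons, List.mem_cons, List.not_mem_nil, or_false, not_or, List.nodup_nil,
      not_false_eq_true, and_true]
    refine ⟨⟨fun h => h0 a h.symm, ?_, fun h => hb.1 h.symm, ?_⟩,
      ⟨fun h => h0 (g a) h.symm, fun h => hb.2.1 h.symm, ?_⟩, ⟨fun h => hb.2.2 h.symm, ?_⟩,
      fun h => h0 b h.symm⟩
    · intro h
      have := hcube a
      rw [← h] at this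
      exact h0 a this
    · intro h
      have h1 : g (g a) = g (g (g b)) := by rw [← h]
      rw [hcube] at h1
      exact hb.2.2 h1.symm
    · intro h
      exact hb.1 (g.injective h).symm
    · intro h
      exact hb.2.1 (g.injective h).symm
  set l : List GolayPt := [a, g a, g (g a), b, g b] with hl
  set x : ℕ → GolayPt := fun i => l.getD i a with hx
  have hxl : ∀ i, i < 5 → x i ∈ d := by
    intro i hi
    have hm : ∀ p ∈ l, p ∈ d := by
      intro p hp
      simp only [hl, List.mem_cons, List.not_mem_nil, or_false] at hp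
      rcases hp with rfl | rfl | rfl | rfl | rfl
      · exact had
      · exact (hmemd _).mpr had
      · exact (hmemd _).mpr ((hmemd _).mpr had)
      · exact hbd
      · exact (hmemd _).mpr hbd
    apply hm
    rw [hx]
    simp only
    rw [List.getD_eq_getElem _ _ (by simpa [hl] using hi)]
    exact List.getElem_mem _
  have hxinj : ∀ i < 5, ∀ j < 5, x i = x j → i = j := by
    intro i hi j hj h
    simp only [hx] at h
    rw [List.getD_eq_getElem _ _ (by simpa [hl] using hi),
      List.getD_eq_getElem _ _ (by simpa [hl] using hj)] at h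
    exact (List.Nodup.getElem_inj_iff hnd).mp h
  -- transport to the base dodecad
  obtain ⟨t, ht, htd⟩ := Cfsg.Agent.Lib.Helper3.Golay.exists_transport hd
  obtain ⟨u, hu, hmap⟩ := Cfsg.Agent.Lib.Helper3.Golay.stab_dodecad_map
    Cfsg.Agent.Lib.Helper3.Golay.d0_mem (fun i => t⁻¹ (x i)) Cfsg.Agent.Lib.Helper3.Golay.b2 5 le_rfl
    (fun i hi => (Cfsg.Agent.Lib.Helper3.Golay.inv_apply_mem htd _).mpr (hxl i hi))
    Cfsg.Agent.Lib.Helper3.Golay.b2_mem
    (fun i hi j hj h => hxinj i hi j hj (t⁻¹.injective h))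
    Cfsg.Agent.Lib.Helper3.Golay.b2_injective
  have huO : u • Cfsg.Agent.Lib.Helper3.Golay.bitSet Cfsg.Agent.Lib.Helper3.Golay.d0 =
      Cfsg.Agent.Lib.Helper3.Golay.bitSet Cfsg.Agent.Lib.Helper3.Golay.d0 := hu.2
  set h : Equiv.Perm GolayPt := u * t⁻¹ with hh
  have hhM : h ∈ M24 := M24.mul_mem hu.1 (M24.inv_mem ht)
  have hhd : h • d = bset dd0 := by
    rw [hh, mul_smul, ← htd, inv_smul_smul, huO, bitSet_eq_bset]; rfl
  have hhx : ∀ i < 5, h (x i) = dec i := by
    intro i hi
    rw [← b2_eq_dec i hi, ← hmap i hi, hh, Equiv.Perm.mul_apply]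
  set g' : Equiv.Perm GolayPt := h * g * h⁻¹ with hg'
  have hg'M : g' ∈ M24 := M24.mul_mem (M24.mul_mem hhM hg) (M24.inv_mem hhM)
  have hkey : ∀ z, g' (h z) = h (g z) := by
    intro z
    simp [hg', Equiv.Perm.mul_apply]
  have hg'3 : g' ^ 3 = 1 := by
    rw [hg']
    have : (h * g * h⁻¹) ^ 3 = h * g ^ 3 * h⁻¹ := by
      simp only [pow_succ, pow_zero, one_mul]; group
    rw [this, h3]; group
  have hg'0 : ∀ p, g' p ≠ p := by
    intro p hp
    apply h0 (h⁻¹ p)
    apply h.injective
    rw [← hkey]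
    simpa using hp
  have hg'd : g' • bset dd0 = bset dd0 := by
    rw [← hhd, hg', mul_smul, mul_smul, inv_smul_smul, hgd]
  have x0e : x 0 = a := rfl
  have x1e : x 1 = g a := rfl
  have x2e : x 2 = g (g a) := rfl
  have x3e : x 3 = b := rfl
  have x4e : x 4 = g b := rfl
  have e0 : g' (dec 0) = dec 1 := by
    rw [← hhx 0 (by norm_num), hkey, x0e, ← x1e, hhx 1 (by norm_num)]
  have e1 : g' (dec 1) = dec 2 := by
    rw [← hhx 1 (by norm_num), hkey, x1e, ← x2e, hhx 2 (by norm_num)]
  have e2 : g' (dec 2) = dec 0 := by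
    rw [← hhx 2 (by norm_num), hkey, x2e, hcube, ← x0e, hhx 0 (by norm_num)]
  have e3 : g' (dec 3) = dec 4 := by
    rw [← hhx 3 (by norm_num), hkey, x3e, ← x4e, hhx 4 (by norm_num)]
  -- the image of the fifth point
  have hmem' : ∀ z, g' z ∈ bset dd0 ↔ z ∈ bset dd0 :=
    Cfsg.Agent.Lib.Helper3.Golay.mem_smul_iff_of_smul_eq hg'd
  have h4mem : g' (dec 4) ∈ bset dd0 := (hmem' _).mpr (by rw [mem_bset]; decide +kernel)
  have hne : ∀ i j : ℕ, i < 24 → j < 24 → i ≠ j → dec i ≠ dec j := by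
    intro i j hi hj hij h
    apply hij
    have := congrArg enc h
    rwa [enc_dec i hi, enc_dec j hj] at this
  have hy : ∀ i j : ℕ, i < 24 → j < 24 → i ≠ 4 → g' (dec i) = dec j → enc (g' (dec 4)) ≠ j := by
    intro i j hi hj hi4 hij h
    have h1 : g' (dec 4) = dec j := by rw [← h, dec_enc]
    rw [← hij] at h1
    exact hne 4 i (by norm_num) hi (fun h => hi4 h.symm) (g'.injective h1)
  rw [mem_bset] at h4mem
  obtain ⟨r, hr, himg⟩ := Rlist_cover (enc (g' (dec 4))) (enc_lt _) h4mem
    (hy 2 0 (by norm_num) (by norm_num) (by norm_num) e2)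
    (hy 0 1 (by norm_num) (by norm_num) (by norm_num) e0)
    (hy 1 2 (by norm_num) (by norm_num) (by norm_num) e1)
    (hy 3 4 (by norm_num) (by norm_num) (by norm_num) e3)
  obtain ⟨r1, r2, r3, r4, r5, r6⟩ := Rlist_spec hr
  have hrP := isPerm_of_inM24 _ r1
  have hrM : permOf r ∈ M24 := permOf_mem_M24 _ r1
  have hrd : permOf r • bset dd0 = bset dd0 := by rw [permOf_smul_bset r hrP, r2]
  have heq : g' = permOf r := by
    have hw : (permOf r)⁻¹ * g' ∈ M24 ⊓ MulAction.stabilizer (Equiv.Perm GolayPt)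
        (Cfsg.Agent.Lib.Helper3.Golay.bitSet Cfsg.Agent.Lib.Helper3.Golay.d0) := by
      refine Subgroup.mem_inf.mpr ⟨M24.mul_mem (M24.inv_mem hrM) hg'M, ?_⟩
      rw [MulAction.mem_stabilizer_iff, bitSet_eq_bset, mul_smul]
      show (permOf r)⁻¹ • g' • bset dd0 = bset dd0
      rw [hg'd, inv_smul_eq_iff, hrd]
    have h1 := Cfsg.Agent.Lib.Helper3.Golay.stab_dodecad_unique
      Cfsg.Agent.Lib.Helper3.Golay.d0_mem Cfsg.Agent.Lib.Helper3.Golay.b2
      Cfsg.Agent.Lib.Helper3.Golay.b2_mem Cfsg.Agent.Lib.Helper3.Golay.b2_injective hw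
      (by
        intro i hi
        rw [b2_eq_dec i hi, Equiv.Perm.mul_apply, Equiv.Perm.inv_eq_iff_eq,
          permOf_apply_dec r hrP i (by omega)]
        interval_cases i
        · rw [e0, r3]
        · rw [e1, r4]
        · rw [e2, r5]
        · rw [e3, r6]
        · rw [himg, dec_enc])
    have := congrArg (permOf r * ·) h1
    simpa using this
  refine ⟨h, hhM, r, hr, ?_, heq⟩
  apply isFpf3_of hrP
  · rw [← heq]; exact hg'3
  · rw [← heq]; exact hg'0

end Cfsg.Agent.Lib.Helper28.M24OctadFix
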