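import Mathlib
import Cfsg.Prelude.Def_SporadicCombinatorics
import Cfsg.Agent.Lib.Helper28.M24Order3
set_option autoImplicit false

/-!
Conjugacy of elements of order two and three of `M24` to explicitly listed elements, and the resulting
numbers of fixed points.
-/

namespace Cfsg.Agent.Lib.Helper28.M24OctadFix
open Cfsg Cfsg.Agent.Lib.Helper28.GolayCode Cfsg.Agent.Lib.Helper28.M24Pairs
open Cfsg.Agent.Lib.Helper28.Steiner
open scoped Pointwise

/-! ### Counting fixed points -/

/-- the number of indices fixed by a packed map. -/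
def fixCount (r : ℕ) : ℕ := ((List.range 24).filter fun i => Nat.beq (img r i) i).length

theorem card_fixed_permOf (r : ℕ) (hr : isPerm r = true) :
    (Finset.univ.filter fun p => permOf r p = p).card = fixCount r := by
  classical
  unfold fixCount
  have hnd : ((List.range 24).filter fun i => Nat.beq (img r i) i).Nodup :=
    (List.nodup_range).filter _
  rw [← List.toFinset_card_of_nodup hnd]
  apply Finset.card_bij (fun p _ => enc p)
  · intro p hp
    rw [Finset.mem_filter] at hp
    rw [List.mem_toFinset, List.mem_filter, List.mem_range, nat_beq_iff]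
    refine ⟨enc_lt p, ?_⟩
    have h1 := permOf_apply_dec r hr (enc p) (enc_lt p)
    rw [dec_enc, hp.2] at h1
    have h2 := congrArg enc h1
    rw [enc_dec _ (img_lt_of_isPerm r hr _ (enc_lt p))] at h2
    exact h2.symm
  · intro p _ q _ h
    rw [← dec_enc p, ← dec_enc q, h]
  · intro i hi
    rw [List.mem_toFinset, List.mem_filter, List.mem_range, nat_beq_iff] at hi
    refine ⟨dec i, ?_, enc_dec i hi.1⟩
    rw [Finset.mem_filter]
    refine ⟨Finset.mem_univ _, ?_⟩
    rw [permOf_apply_dec r hr i hi.1, hi.2]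

theorem card_fixed_conj (g h : Equiv.Perm GolayPt) :
    (Finset.univ.filter fun p => (h * g * h⁻¹) p = p).card =
      (Finset.univ.filter fun p => g p = p).card := by
  apply Finset.card_equiv (h⁻¹ : Equiv.Perm GolayPt)
  intro p
  rw [Finset.mem_filter, Finset.mem_filter]
  simp only [Finset.mem_univ, true_and, Equiv.Perm.mul_apply]
  constructor
  · intro hp
    have := congrArg (h⁻¹ : Equiv.Perm GolayPt) hp
    simpa using this
  · intro hp
    rw [hp]; simp

/-! ### Elements determined by the images of six points of the base octad -/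

/-- the indices of the base points. -/
def bL : List ℕ := [23, 0, 1, 2, 3, 5, 4]

/-- the base points (the first six lie in `bset O0`, the seventh is `x0`). -/
def bpt (i : ℕ) : GolayPt := dec (bL.getD i 0)

theorem bpt_eq_β : ∀ i < 7, bpt i = Cfsg.Agent.Lib.Helper3.Golay.β i := by
  intro i hi
  interval_cases i <;> rfl

theorem bpt_mem : ∀ i < 6, bpt i ∈ bset O0 := by
  intro i hi
  rw [mem_bset]
  interval_cases i <;> decide +kernel

theorem bpt_inj : ∀ i < 6, ∀ j < 6, bpt i = bpt j → i = j := by
  intro i hi j hj h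
  have := congrArg enc h
  unfold bpt at this
  interval_cases i <;> interval_cases j <;> first | rfl | (exfalso; revert this; decide +kernel)

/-- the check of one candidate: it lies in `M24` and maps the base points as prescribed. -/
noncomputable def candOK (π : List ℕ) (q : ℕ) : Bool :=
  inM24 q && (List.range 6).all fun i => Nat.beq (img q (bL.getD i 0)) (bL.getD (π.getD i 0) 0)

theorem candOK_apply {π : List ℕ} {q : ℕ} (h : candOK π q = true) (i : ℕ) (hi : i < 6) :
    permOf q (bpt i) = bpt (π.getD i 0) := by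
  unfold candOK at h
  rw [Bool.and_eq_true] at h
  have h2 := List.all_eq_true.mp h.2 i (List.mem_range.mpr hi)
  rw [nat_beq_iff] at h2
  unfold bpt
  have hlt : bL.getD i 0 < 24 := by interval_cases i <;> decide
  rw [permOf_apply_dec q (isPerm_of_inM24 _ h.1) _ hlt, h2]

/-- an element of `M24` mapping the six base points of `bset O0` like the candidates of a covering list
is one of the candidates. -/
theorem eq_permOf_of_base (π : List ℕ) (hπ : ∀ i < 6, π.getD i 0 < 6) (L : List ℕ)
    (hL : L.all (candOK π) = true)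
    (hcov : ∀ i < 24, O0.testBit i = false → ∃ q ∈ L, img q 4 = i)
    {g : Equiv.Perm GolayPt} (hg : g ∈ M24) (hmap : ∀ i < 6, g (bpt i) = bpt (π.getD i 0)) :
    ∃ q ∈ L, g = permOf q := by
  classical
  -- `g` stabilises the base octad
  have hgO : g • bset O0 = bset O0 := by
    apply octad_eq_of_five _ _ (smul_mem_octads hg O0_mem) O0_mem
    have hsub : (Finset.range 5).image (fun i => g (bpt i)) ⊆ g • bset O0 ∩ bset O0 := by
      intro p hp
      rw [Finset.mem_image] at hp
      obtain ⟨i, hi, rfl⟩ := hp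
      rw [Finset.mem_range] at hi
      rw [Finset.mem_inter]
      refine ⟨Finset.smul_mem_smul_finset (bpt_mem i (by omega)), ?_⟩
      rw [hmap i (by omega)]
      exact bpt_mem _ (hπ i (by omega))
    have hcard : ((Finset.range 5).image (fun i => g (bpt i))).card = 5 := by
      rw [Finset.card_image_of_injOn, Finset.card_range]
      intro i hi j hj h
      rw [Finset.mem_coe, Finset.mem_range] at hi hj
      exact bpt_inj i (by omega) j (by omega) (g.injective h)
    rw [← hcard]
    exact Finset.card_le_card hsub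
  have hmem : ∀ z, g z ∈ bset O0 ↔ z ∈ bset O0 :=
    Cfsg.Agent.Lib.Helper3.Golay.mem_smul_iff_of_smul_eq hgO
  have hy : g x0 ∉ bset O0 := fun h => x0_not_mem ((hmem x0).mp h)
  rw [mem_bset] at hy
  obtain ⟨q, hq, himg⟩ := hcov (enc (g x0)) (enc_lt _) (by simpa using hy)
  refine ⟨q, hq, ?_⟩
  have hqOK := List.all_eq_true.mp hL q hq
  have hqM : inM24 q = true := by
    unfold candOK at hqOK
    rw [Bool.and_eq_true] at hqOK
    exact hqOK.1
  have hqP := isPerm_of_inM24 _ hqM
  have hqx : permOf q x0 = g x0 := by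
    have := permOf_apply_dec q hqP 4 (by norm_num)
    rw [himg, dec_enc] at this
    exact this
  have hwM : (permOf q)⁻¹ * g ∈ M24 := M24.mul_mem (M24.inv_mem (permOf_mem_M24 _ hqM)) hg
  have hw6 : (permOf q)⁻¹ * g ∈ M24 ⊓ Cfsg.Agent.Lib.Helper3.Golay.fixB 6 := by
    refine Subgroup.mem_inf.mpr ⟨hwM, ?_⟩
    rw [Cfsg.Agent.Lib.Helper3.Golay.mem_fixB]
    intro j hj
    rw [← bpt_eq_β j (by omega), Equiv.Perm.mul_apply, hmap j hj, Equiv.Perm.inv_eq_iff_eq,
      candOK_apply hqOK j hj]
  have hfix := (Cfsg.Agent.S0381.fix6_props hw6).1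
  rw [bitSet_eq_bset] at hfix
  have h1 : (permOf q)⁻¹ * g = 1 := by
    apply eq_one_of_fix_O0_x0 hwM hfix
    rw [Equiv.Perm.mul_apply, Equiv.Perm.inv_eq_iff_eq, hqx]
  have := congrArg (permOf q * ·) h1
  simpa using this

/-- six points of an invariant octad can be moved to the base points, keeping track of the action. -/
theorem exists_conj_base {g : Equiv.Perm GolayPt} {o : Finset GolayPt}
    (ho : o ∈ octads) (A : ℕ → GolayPt) (hA : ∀ i < 6, A i ∈ o)
    (hinj : ∀ i < 6, ∀ j < 6, A i = A j → i = j) (π : List ℕ) (hπ : ∀ i < 6, π.getD i 0 < 6)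
    (hgA : ∀ i < 6, g (A i) = A (π.getD i 0)) :
    ∃ h ∈ M24, ∀ i < 6, (h * g * h⁻¹) (bpt i) = bpt (π.getD i 0) := by
  have hl : ([A 0, A 1, A 2, A 3, A 4] ++ [A 5]).Nodup := by
    simp only [List.cons_append, List.nil_append, List.nodup_cons, List.mem_cons, List.not_mem_nil,
      or_false, not_or, List.nodup_nil, not_false_eq_true, and_true]
    have hne : ∀ i j : ℕ, i < 6 → j < 6 → i ≠ j → ¬ A i = A j :=
      fun i j hi hj hij h => hij (hinj i hi j hj h)
    refine ⟨⟨?_, ?_, ?_, ?_, ?_⟩, ⟨?_, ?_, ?_, ?_⟩, ⟨?_, ?_, ?_⟩, ⟨?_, ?_⟩, ?_⟩ <;>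
      exact hne _ _ (by norm_num) (by norm_num) (by norm_num)
  have hl' : (Cfsg.Agent.Lib.Helper3.Golay.base5 ++ [Cfsg.Agent.Lib.Helper3.Golay.β 5]).Nodup := by
    decide
  have hβ5 : Cfsg.Agent.Lib.Helper3.Golay.β 5 ∈
      Cfsg.Agent.Lib.Helper3.Golay.bitSet Cfsg.Agent.Lib.Helper3.Golay.O0 :=
    Cfsg.Agent.S0381.base_mem_O0 5 (by norm_num)
  obtain ⟨h, hh, -, hmap, hhx⟩ := Cfsg.Agent.Lib.Helper3.Golay.exists_map_six ho
    Cfsg.Agent.Lib.Helper3.Golay.O0_mem [A 0, A 1, A 2, A 3, A 4] Cfsg.Agent.Lib.Helper3.Golay.base5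
    (A 5) (Cfsg.Agent.Lib.Helper3.Golay.β 5) hl hl' rfl rfl
    (by
      intro p hp
      simp only [List.mem_cons, List.not_mem_nil, or_false] at hp
      rcases hp with rfl | rfl | rfl | rfl | rfl <;> exact hA _ (by norm_num))
    Cfsg.Agent.Lib.Helper3.Golay.base5_mem_O0
    ⟨fun _ => hβ5, fun _ => hA 5 (by norm_num)⟩
  simp only [List.map_cons, List.map_nil, Cfsg.Agent.Lib.Helper3.Golay.base5, List.cons.injEq,
    and_true] at hmap
  obtain ⟨m0, m1, m2, m3, m4⟩ := hmap
  have hhA : ∀ i < 6, h (A i) = bpt i := by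
    intro i hi
    rw [bpt_eq_β i (by omega)]
    interval_cases i
    · exact m0
    · exact m1
    · exact m2
    · exact m3
    · exact m4
    · exact hhx
  refine ⟨h, hh, ?_⟩
  intro i hi
  rw [← hhA i hi, Equiv.Perm.mul_apply, Equiv.Perm.mul_apply]
  have : h⁻¹ (h (A i)) = A i := by simp
  rw [this, hgA i hi, hhA _ (hπ i hi)]


/-! ### Involutions -/

/-- an involution of `M24` leaves invariant some octad through two given transposed pairs. -/
theorem exists_invariant_octad_through {t : Equiv.Perm GolayPt} (ht : t ∈ M24) (h2 : t ^ 2 = 1)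
    (a c : GolayPt) (ha : t a ≠ a) (hc : t c ≠ c) (hca : c ≠ a) (hcb : c ≠ t a) :
    ∃ o ∈ octads, t • o = o ∧ a ∈ o ∧ c ∈ o := by
  classical
  have hinv : ∀ x, t (t x) = x := by
    intro x
    have := congrArg (fun f : Equiv.Perm GolayPt => f x) h2
    simpa [pow_two] using this
  set b := t a with hb
  set d := t c with hd
  have hda : d ≠ a := by
    intro h
    have : t d = t a := by rw [h]
    rw [hd, hinv] at this
    exact hcb this
  have hdb : d ≠ b := by
    intro h
    exact hca (t.injective h)
  set T0 : Finset GolayPt := {a, b, c, d} with hT0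
  have hT0card : T0.card = 4 := by
    rw [hT0, Finset.card_insert_of_notMem, Finset.card_insert_of_notMem, Finset.card_insert_of_notMem,
      Finset.card_singleton]
    · simpa using fun h => hc h.symm
    · simp only [Finset.mem_insert, Finset.mem_singleton, not_or]
      exact ⟨fun h => hcb h.symm, fun h => hdb h.symm⟩
    · simp only [Finset.mem_insert, Finset.mem_singleton, not_or]
      exact ⟨fun h => ha h.symm, fun h => hca h.symm, fun h => hda h.symm⟩
  have hsub : t • T0 ⊆ T0 := by
    intro x hx
    obtain ⟨y, hy, rfl⟩ := Finset.mem_smul_finset.mp hx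
    rw [hT0] at hy ⊢
    simp only [Finset.mem_insert, Finset.mem_singleton] at hy ⊢
    rcases hy with rfl | rfl | rfl | rfl
    · right; left; rfl
    · left; exact hinv a
    · right; right; right; rfl
    · right; right; left; exact hinv c
  have htT0 : t • T0 = T0 :=
    Finset.eq_of_subset_of_card_le hsub (by rw [Finset.card_smul_finset])
  set σ : Equiv.Perm (Finset GolayPt) := MulAction.toPerm t with hσ
  have hσ2 : σ ^ 2 ^ 1 = 1 := by
    rw [pow_one, hσ]
    ext1 o
    simp only [Equiv.Perm.coe_pow, Equiv.Perm.coe_one, id_eq]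
    show t • (t • o) = o
    rw [← mul_smul, ← pow_two, h2, one_smul]
  have hs : ∀ o, σ o ∈ blocksThrough octads T0 ↔ o ∈ blocksThrough octads T0 := by
    intro o
    rw [mem_blocksThrough, mem_blocksThrough]
    show t • o ∈ octads ∧ T0 ⊆ t • o ↔ _
    rw [smul_mem_octads_iff ht]
    constructor
    · rintro ⟨h1, h3⟩
      refine ⟨h1, ?_⟩
      rw [← htT0] at h3
      exact Finset.smul_finset_subset_smul_finset_iff.mp h3
    · rintro ⟨h1, h3⟩
      refine ⟨h1, ?_⟩
      rw [← htT0]
      exact Finset.smul_finset_subset_smul_finset_iff.mpr h3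
  have hmod := @card_filter_fixed_modEq' _ _ σ 2 1 ⟨Nat.prime_two⟩ hσ2 _ hs
  rw [card_blocksThrough_tetrad T0 hT0card] at hmod
  have hpos : 0 < ((blocksThrough octads T0).filter fun x => σ x = x).card := by
    have : ((blocksThrough octads T0).filter fun x => σ x = x).card % 2 = 5 % 2 := hmod
    omega
  obtain ⟨o, ho⟩ := Finset.card_pos.mp hpos
  rw [Finset.mem_filter, mem_blocksThrough] at ho
  refine ⟨o, ho.1.1, ho.2, ho.1.2 ?_, ho.1.2 ?_⟩
  · rw [hT0]; simp
  · rw [hT0]; simp

/-- the action of the second family of candidates on the base points. -/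
def πQ : List ℕ := [1, 0, 3, 2, 5, 4]

def πQ2 : List ℕ := [1, 0, 3, 2, 4, 5]

/-- the sixteen elements of `M24` swapping the base points `0, 1` and `2, 3` and fixing `4, 5`. -/
def Q2list : List ℕ := [0x5a69ab230539b243e8b31ca418457, 0x1dac826355ba6fa490a258a618457, 0x1a0b6aa3363ab47a249b10a718457, 0x49554c22c9b97621ccda3ca818457, 0x2a4441a34b39f3ab60762ca918457, 0x251691e2f23a959c1a65b0aa18457, 0x32877da32339106d664524ab18457, 0x2de6a12283ba4d84eb64a8ac18457, 0x40cf3ca36a388c5a5489d4ad18457, 0x518d5ce2a83926392d5920af18457, 0x34f4322247bacb62932accb018457, 0x21335362bab984b18f07d0b218457, 0x5492b3e27438c9531746c0b318457, 0x3d70656296b94735893448b418457, 0x4ec825226938ea4ad8f834b518457, 0x12aa9ae2d4ba08951ec398b618457]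

theorem Qlist_cand : Qlist.all (candOK πQ) = true := by decide +kernel

theorem Q2list_cand : Q2list.all (candOK πQ2) = true := by decide +kernel

theorem Q2list_cover : ∀ i < 24, O0.testBit i = false → ∃ q ∈ Q2list, img q 4 = i := by decide +kernel

/-- all candidates for involutions. -/
def invCands : List ℕ := Plist ++ (Qlist ++ Q2list)

theorem invCands_inM24 : invCands.all inM24 = true := by decide +kernel

/-- every involution of `M24` is conjugate to one of the listed candidates. -/
theorem invol_conj {t : Equiv.Perm GolayPt} (ht : t ∈ M24) (h2 : t ^ 2 = 1) :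
    ∃ h ∈ M24, ∃ q ∈ invCands, h * t * h⁻¹ = permOf q := by
  classical
  have hinv : ∀ x, t (t x) = x := by
    intro x
    have := congrArg (fun f : Equiv.Perm GolayPt => f x) h2
    simpa [pow_two] using this
  set F : Finset GolayPt := Finset.univ.filter fun p => t p = p with hFdef
  have hF : ∀ p ∈ F, t p = p := fun p hp => (Finset.mem_filter.mp hp).2
  by_cases h5 : 5 ≤ F.card
  · -- many fixed points: the element fixes an octad pointwise
    obtain ⟨s5, hs5, h5c⟩ := Finset.exists_subset_card_eq h5
    obtain ⟨o, ho, hso⟩ := exists_octad_of_five s5 h5c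
    have h5' : 5 ≤ (o ∩ F).card := by
      rw [← h5c]
      exact Finset.card_le_card (Finset.subset_inter hso hs5)
    have hgo : t • o = o := smul_octad_eq_of_fix ht ho F hF h5'
    have hmod := @card_filter_fixed_modEq t 2 1 ⟨Nat.prime_two⟩ (by rw [pow_one]; exact h2) o hgo
    have hoF : o ∩ F = o.filter fun x => t x = x := by
      ext x
      simp [hFdef]
    rw [← hoF, ho.2] at hmod
    have h6 : 6 ≤ (o ∩ F).card := by
      have : (o ∩ F).card % 2 = 8 % 2 := hmod
      omega
    obtain ⟨h, hh, -, q, hq, hconj⟩ := exists_conj_Plist ht ho F hF h6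
    exact ⟨h, hh, q, List.mem_append_left _ hq, hconj⟩
  · -- few fixed points
    push Not at h5
    set N : Finset GolayPt := Finset.univ.filter fun p => t p ≠ p with hNdef
    have hN : 20 ≤ N.card := by
      have h1 : F.card + N.card = 24 := by
        have := Finset.card_filter_add_card_filter_not (s := (Finset.univ : Finset GolayPt))
          (fun p => t p = p)
        simpa [hFdef, hNdef] using this
      omega
    obtain ⟨a, haN⟩ : ∃ a, a ∈ N := Finset.card_pos.mp (by omega)
    have ha : t a ≠ a := (Finset.mem_filter.mp haN).2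
    obtain ⟨c, hcN, hc'⟩ : ∃ c ∈ N, c ∉ ({a, t a} : Finset GolayPt) := by
      apply Finset.exists_mem_notMem_of_card_lt_card
      have : ({a, t a} : Finset GolayPt).card ≤ 2 := Finset.card_le_two
      omega
    have hc : t c ≠ c := (Finset.mem_filter.mp hcN).2
    rw [Finset.mem_insert, Finset.mem_singleton, not_or] at hc'
    obtain ⟨o, ho, hto, hao, hco⟩ := exists_invariant_octad_through ht h2 a c ha hc hc'.1 hc'.2
    have hmemo : ∀ x, t x ∈ o ↔ x ∈ o := Cfsg.Agent.Lib.Helper3.Golay.mem_smul_iff_of_smul_eq hto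
    have hsw : ∀ x y, t x = y → x = t y := fun x y h => by rw [← h, hinv]
    have hne1 : t c ≠ a := fun h => hc'.2 (hsw c a h)
    have hne2 : t c ≠ t a := fun h => hc'.1 (t.injective h)
    by_cases hex : ∃ e ∈ o, e ∉ ({a, t a, c, t c} : Finset GolayPt) ∧ t e ≠ e
    · obtain ⟨e, heo, he, hte⟩ := hex
      simp only [Finset.mem_insert, Finset.mem_singleton, not_or] at he
      set l : List GolayPt := [a, t a, c, t c, e, t e] with hl
      have hnd : l.Nodup := by
        simp only [hl, List.nodup_cons, List.mem_cons, List.not_mem_nil, or_false, not_or,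
          List.nodup_nil, not_false_eq_true, and_true]
        refine ⟨⟨fun h => ha h.symm, fun h => hc'.1 h.symm, fun h => hne1 h.symm,
          fun h => he.1 h.symm, ?_⟩,
          ⟨fun h => hc'.2 h.symm, fun h => hne2 h.symm, fun h => he.2.1 h.symm, ?_⟩,
          ⟨fun h => hc h.symm, fun h => he.2.2.1 h.symm, ?_⟩, ⟨fun h => he.2.2.2 h.symm, ?_⟩,
          fun h => hte h.symm⟩
        · intro h
          exact he.2.1 (hsw e a h.symm)
        · intro h
          exact he.1 (t.injective h).symm
        · intro h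
          exact he.2.2.2 (hsw e c h.symm)
        · intro h
          exact he.2.2.1 (t.injective h).symm
      set A : ℕ → GolayPt := fun i => l.getD i a with hA
      have hAo : ∀ i < 6, A i ∈ o := by
        intro i hi
        interval_cases i
        · exact hao
        · exact (hmemo _).mpr hao
        · exact hco
        · exact (hmemo _).mpr hco
        · exact heo
        · exact (hmemo _).mpr heo
      have hAinj : ∀ i < 6, ∀ j < 6, A i = A j → i = j := by
        intro i hi j hj h
        simp only [hA] at h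
        rw [List.getD_eq_getElem _ _ (by simpa [hl] using hi),
          List.getD_eq_getElem _ _ (by simpa [hl] using hj)] at h
        exact (List.Nodup.getElem_inj_iff hnd).mp h
      have hgA : ∀ i < 6, t (A i) = A (πQ.getD i 0) := by
        intro i hi
        interval_cases i
        · rfl
        · exact hinv a
        · rfl
        · exact hinv c
        · rfl
        · exact hinv e
      obtain ⟨h, hh, hmap⟩ := exists_conj_base ho A hAo hAinj πQ (by decide) hgA
      obtain ⟨q, hq, hconj⟩ := eq_permOf_of_base πQ (by decide) Qlist Qlist_cand Qlist_cover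
        (M24.mul_mem (M24.mul_mem hh ht) (M24.inv_mem hh)) hmap
      exact ⟨h, hh, q, List.mem_append_right _ (List.mem_append_left _ hq), hconj⟩
    · push Not at hex
      have hrest : 2 ≤ (o \ ({a, t a, c, t c} : Finset GolayPt)).card := by
        have h1 := Finset.le_card_sdiff ({a, t a, c, t c} : Finset GolayPt) o
        have h3 : ({a, t a, c, t c} : Finset GolayPt).card ≤ 4 := Finset.card_le_four
        rw [ho.2] at h1
        omega
      obtain ⟨e, he, e', he', hee'⟩ := Finset.one_lt_card.mp
        (show 1 < (o \ ({a, t a, c, t c} : Finset GolayPt)).card by omega)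
      rw [Finset.mem_sdiff] at he he'
      have hte : t e = e := hex e he.1 he.2
      have hte' : t e' = e' := hex e' he'.1 he'.2
      have he2 := he.2
      have he2' := he'.2
      simp only [Finset.mem_insert, Finset.mem_singleton, not_or] at he2 he2'
      set l : List GolayPt := [a, t a, c, t c, e, e'] with hl
      have hnd : l.Nodup := by
        simp only [hl, List.nodup_cons, List.mem_cons, List.not_mem_nil, or_false, not_or,
          List.nodup_nil, not_false_eq_true, and_true]
        exact ⟨⟨fun h => ha h.symm, fun h => hc'.1 h.symm, fun h => hne1 h.symm,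
          fun h => he2.1 h.symm, fun h => he2'.1 h.symm⟩,
          ⟨fun h => hc'.2 h.symm, fun h => hne2 h.symm, fun h => he2.2.1 h.symm,
            fun h => he2'.2.1 h.symm⟩,
          ⟨fun h => hc h.symm, fun h => he2.2.2.1 h.symm, fun h => he2'.2.2.1 h.symm⟩,
          ⟨fun h => he2.2.2.2 h.symm, fun h => he2'.2.2.2 h.symm⟩, hee'⟩
      set A : ℕ → GolayPt := fun i => l.getD i a with hA
      have hAo : ∀ i < 6, A i ∈ o := by
        intro i hi
        interval_cases i
        · exact hao
        · exact (hmemo _).mpr hao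
        · exact hco
        · exact (hmemo _).mpr hco
        · exact he.1
        · exact he'.1
      have hAinj : ∀ i < 6, ∀ j < 6, A i = A j → i = j := by
        intro i hi j hj h
        simp only [hA] at h
        rw [List.getD_eq_getElem _ _ (by simpa [hl] using hi),
          List.getD_eq_getElem _ _ (by simpa [hl] using hj)] at h
        exact (List.Nodup.getElem_inj_iff hnd).mp h
      have hgA : ∀ i < 6, t (A i) = A (πQ2.getD i 0) := by
        intro i hi
        interval_cases i
        · rfl
        · exact hinv a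
        · rfl
        · exact hinv c
        · exact hte
        · exact hte'
      obtain ⟨h, hh, hmap⟩ := exists_conj_base ho A hAo hAinj πQ2 (by decide) hgA
      obtain ⟨q, hq, hconj⟩ := eq_permOf_of_base πQ2 (by decide) Q2list Q2list_cand Q2list_cover
        (M24.mul_mem (M24.mul_mem hh ht) (M24.inv_mem hh)) hmap
      exact ⟨h, hh, q, List.mem_append_right _ (List.mem_append_right _ hq), hconj⟩

/-- the packed map squares to the identity. -/
def isInvolP (q : ℕ) : Bool := (List.range 24).all fun i => Nat.beq (img q (img q i)) i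

theorem isInvolP_of {q : ℕ} (hq : isPerm q = true) (h2 : permOf q ^ 2 = 1) : isInvolP q = true := by
  unfold isInvolP
  rw [List.all_eq_true]
  intro i hi
  rw [List.mem_range] at hi
  have hlt := img_lt_of_isPerm q hq i hi
  rw [nat_beq_iff]
  have := congrArg (fun f : Equiv.Perm GolayPt => f (dec i)) h2
  simp only [pow_two, Equiv.Perm.mul_apply, Equiv.Perm.one_apply] at this
  rw [permOf_apply_dec q hq i hi, permOf_apply_dec q hq _ hlt] at this
  have h3 := congrArg enc this
  rwa [enc_dec _ (img_lt_of_isPerm q hq _ hlt), enc_dec _ hi] at h3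

theorem invCands_fix : invCands.all (fun q => !(isInvolP q) || Nat.beq (fixCount q) 24 ||
    Nat.beq (fixCount q) 8 || Nat.beq (fixCount q) 0) = true := by decide +kernel

theorem eq_one_of_fixCount {q : ℕ} (hq : isPerm q = true) (h : fixCount q = 24) : permOf q = 1 := by
  classical
  have h1 := card_fixed_permOf q hq
  rw [h] at h1
  have h2 : (Finset.univ.filter fun p => permOf q p = p) = Finset.univ := by
    apply Finset.eq_univ_of_card
    rw [h1]; simp
  apply Equiv.ext
  intro p
  have : p ∈ (Finset.univ.filter fun p => permOf q p = p) := by rw [h2]; exact Finset.mem_univ p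
  exact (Finset.mem_filter.mp this).2

/-- an involution of `M24` has exactly eight fixed points or none. -/
theorem card_fixed_invol {t : Equiv.Perm GolayPt} (ht : t ∈ M24) (h2 : t ^ 2 = 1) (h1 : t ≠ 1) :
    (Finset.univ.filter fun p => t p = p).card = 8 ∨ (Finset.univ.filter fun p => t p = p).card = 0 := by
  obtain ⟨h, hh, q, hq, hconj⟩ := invol_conj ht h2
  have hqM := List.all_eq_true.mp invCands_inM24 q hq
  have hqP := isPerm_of_inM24 _ hqM
  have hq2 : permOf q ^ 2 = 1 := by
    rw [← hconj]
    have : (h * t * h⁻¹) ^ 2 = h * t ^ 2 * h⁻¹ := by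
      simp only [pow_two]; group
    rw [this, h2]; group
  have hq1 : permOf q ≠ 1 := by
    intro h'
    rw [h'] at hconj
    apply h1
    have := congrArg (fun z => h⁻¹ * z * h) hconj
    simpa [mul_assoc] using this
  have hc := List.all_eq_true.mp invCands_fix q hq
  rw [isInvolP_of hqP hq2] at hc
  simp only [Bool.not_true, Bool.false_or, Bool.or_eq_true, nat_beq_iff] at hc
  rw [← card_fixed_conj t h, hconj, card_fixed_permOf q hqP]
  rcases hc with (hc | hc) | hc
  · exact absurd (eq_one_of_fixCount hqP hc) hq1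
  · exact Or.inl hc
  · exact Or.inr hc


/-! ### Elements of order three -/

/-- the packed map cubes to the identity. -/
def isCube1 (q : ℕ) : Bool := (List.range 24).all fun i => Nat.beq (img q (img q (img q i))) i

theorem isCube1_of {q : ℕ} (hq : isPerm q = true) (h3 : permOf q ^ 3 = 1) : isCube1 q = true := by
  unfold isCube1
  rw [List.all_eq_true]
  intro i hi
  rw [List.mem_range] at hi
  have hlt := img_lt_of_isPerm q hq i hi
  have hlt2 := img_lt_of_isPerm q hq _ hlt
  rw [nat_beq_iff]
  have := congrArg (fun f : Equiv.Perm GolayPt => f (dec i)) h3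
  simp only [pow_succ, pow_zero, one_mul, Equiv.Perm.mul_apply, Equiv.Perm.one_apply] at this
  rw [permOf_apply_dec q hq i hi, permOf_apply_dec q hq _ hlt, permOf_apply_dec q hq _ hlt2] at this
  have h4 := congrArg enc this
  rwa [enc_dec _ (img_lt_of_isPerm q hq _ hlt2), enc_dec _ hi] at h4

/-- every element of order three of `M24` is conjugate to one of the listed elements. -/
theorem order3_conj {g : Equiv.Perm GolayPt} (hg : g ∈ M24) (h3 : g ^ 3 = 1) (h1 : g ≠ 1) :
    ∃ h ∈ M24, ∃ r ∈ Rlist, isCube1 r = true ∧ h * g * h⁻¹ = permOf r := by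
  classical
  have hcube : ∀ x, g (g (g x)) = x := by
    intro x
    have := congrArg (fun f : Equiv.Perm GolayPt => f x) h3
    simpa [pow_succ] using this
  obtain ⟨d, hd, hgd⟩ := exists_invariant_dodecad hg h3
  have hmemd : ∀ x, g x ∈ d ↔ x ∈ d := Cfsg.Agent.Lib.Helper3.Golay.mem_smul_iff_of_smul_eq hgd
  have hgS : g ∈ M24 ⊓ MulAction.stabilizer (Equiv.Perm GolayPt) d :=
    Subgroup.mem_inf.mpr ⟨hg, hgd⟩
  -- at least eight points of the dodecad are moved
  set N : Finset GolayPt := d.filter fun p => g p ≠ p with hNdef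
  have hN : 8 ≤ N.card := by
    by_contra hcon
    push Not at hcon
    have h5 : 5 ≤ (d.filter fun p => g p = p).card := by
      have := Finset.card_filter_add_card_filter_not (s := d) (fun p => g p = p)
      rw [hd.2] at this
      have e : (d.filter fun p => ¬ g p = p) = N := rfl
      rw [e] at this
      omega
    obtain ⟨s5, hs5, h5c⟩ := Finset.exists_subset_card_eq h5
    let e5 : Fin 5 ≃ ↥s5 := (Fintype.equivFinOfCardEq (by rw [Fintype.card_coe, h5c])).symm
    apply h1
    apply Cfsg.Agent.Lib.Helper3.Golay.stab_dodecad_unique hd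
      (fun i => if h : i < 5 then ((e5 ⟨i, h⟩ : ↥s5) : GolayPt) else none) _ _ hgS
    · intro i hi
      simp only [hi, dif_pos]
      exact (Finset.mem_filter.mp (hs5 (e5 ⟨i, hi⟩).2)).2
    · intro i hi
      simp only [hi, dif_pos]
      exact (Finset.mem_filter.mp (hs5 (e5 ⟨i, hi⟩).2)).1
    · intro i hi j hj h
      simp only [hi, hj, dif_pos] at h
      have := e5.injective (Subtype.ext h)
      simpa using this
  obtain ⟨a, haN⟩ : ∃ a, a ∈ N := Finset.card_pos.mp (by omega)
  have had : a ∈ d := (Finset.mem_filter.mp haN).1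
  have ha : g a ≠ a := (Finset.mem_filter.mp haN).2
  obtain ⟨b, hbN, hb⟩ : ∃ b ∈ N, b ∉ ({a, g a, g (g a)} : Finset GolayPt) := by
    apply Finset.exists_mem_notMem_of_card_lt_card
    have : ({a, g a, g (g a)} : Finset GolayPt).card ≤ 3 := Finset.card_le_three
    omega
  have hbd : b ∈ d := (Finset.mem_filter.mp hbN).1
  have hgb : g b ≠ b := (Finset.mem_filter.mp hbN).2
  simp only [Finset.mem_insert, Finset.mem_singleton, not_or] at hb
  have hnd : [a, g a, g (g a), b, g b].Nodup := by
    simp only [List.nodup_cons, List.mem_cons, List.not_mem_nil, or_false, not_or, List.nodup_nil,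
      not_false_eq_true, and_true]
    refine ⟨⟨fun h => ha h.symm, ?_, fun h => hb.1 h.symm, ?_⟩,
      ⟨fun h => ha (g.injective h.symm), fun h => hb.2.1 h.symm, ?_⟩, ⟨fun h => hb.2.2 h.symm, ?_⟩,
      fun h => hgb h.symm⟩
    · intro h
      have := hcube a
      rw [← h] at this
      exact ha this
    · intro h
      have h1 : g (g a) = g (g (g b)) := by rw [← h]
      rw [hcube] at h1
      exact hb.2.2 h1.symm
    · intro h
      exact hb.1 (g.injective h).symm
    · intro h
      exact hb.2.1 (g.injective h).symm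
  set l : List GolayPt := [a, g a, g (g a), b, g b] with hl
  set x : ℕ → GolayPt := fun i => l.getD i a with hx
  have hxl : ∀ i, i < 5 → x i ∈ d := by
    intro i hi
    interval_cases i
    · exact had
    · exact (hmemd _).mpr had
    · exact (hmemd _).mpr ((hmemd _).mpr had)
    · exact hbd
    · exact (hmemd _).mpr hbd
  have hxinj : ∀ i < 5, ∀ j < 5, x i = x j → i = j := by
    intro i hi j hj h
    simp only [hx] at h
    rw [List.getD_eq_getElem _ _ (by simpa [hl] using hi),
      List.getD_eq_getElem _ _ (by simpa [hl] using hj)] at h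
    exact (List.Nodup.getElem_inj_iff hnd).mp h
  -- transport to the base dodecad
  obtain ⟨t, ht, htd⟩ := Cfsg.Agent.Lib.Helper3.Golay.exists_transport hd
  obtain ⟨u, hu, hmap⟩ := Cfsg.Agent.Lib.Helper3.Golay.stab_dodecad_map
    Cfsg.Agent.Lib.Helper3.Golay.d0_mem (fun i => t⁻¹ (x i)) Cfsg.Agent.Lib.Helper3.Golay.b2 5 le_rfl
    (fun i hi => (Cfsg.Agent.Lib.Helper3.Golay.inv_apply_mem htd _).mpr (hxl i hi))
    Cfsg.Agent.Lib.Helper3.Golay.b2_mem
    (fun i hi j hj h => hxinj i hi j hj (t⁻¹.injective h))
    Cfsg.Agent.Lib.Helper3.Golay.b2_injective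
  have huO : u • Cfsg.Agent.Lib.Helper3.Golay.bitSet Cfsg.Agent.Lib.Helper3.Golay.d0 =
      Cfsg.Agent.Lib.Helper3.Golay.bitSet Cfsg.Agent.Lib.Helper3.Golay.d0 := hu.2
  set h : Equiv.Perm GolayPt := u * t⁻¹ with hh
  have hhM : h ∈ M24 := M24.mul_mem hu.1 (M24.inv_mem ht)
  have hhd : h • d = bset dd0 := by
    rw [hh, mul_smul, ← htd, inv_smul_smul, huO, bitSet_eq_bset]; rfl
  have hhx : ∀ i < 5, h (x i) = dec i := by
    intro i hi
    rw [← b2_eq_dec i hi, ← hmap i hi, hh, Equiv.Perm.mul_apply]
  set g' : Equiv.Perm GolayPt := h * g * h⁻¹ with hg'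
  have hg'M : g' ∈ M24 := M24.mul_mem (M24.mul_mem hhM hg) (M24.inv_mem hhM)
  have hkey : ∀ z, g' (h z) = h (g z) := by
    intro z
    simp [hg', Equiv.Perm.mul_apply]
  have hg'3 : g' ^ 3 = 1 := by
    rw [hg']
    have : (h * g * h⁻¹) ^ 3 = h * g ^ 3 * h⁻¹ := by
      simp only [pow_succ, pow_zero, one_mul]; group
    rw [this, h3]; group
  have hg'd : g' • bset dd0 = bset dd0 := by
    rw [← hhd, hg', mul_smul, mul_smul, inv_smul_smul, hgd]
  have x0e : x 0 = a := rfl
  have x1e : x 1 = g a := rfl
  have x2e : x 2 = g (g a) := rfl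
  have x3e : x 3 = b := rfl
  have x4e : x 4 = g b := rfl
  have e0 : g' (dec 0) = dec 1 := by
    rw [← hhx 0 (by norm_num), hkey, x0e, ← x1e, hhx 1 (by norm_num)]
  have e1 : g' (dec 1) = dec 2 := by
    rw [← hhx 1 (by norm_num), hkey, x1e, ← x2e, hhx 2 (by norm_num)]
  have e2 : g' (dec 2) = dec 0 := by
    rw [← hhx 2 (by norm_num), hkey, x2e, hcube, ← x0e, hhx 0 (by norm_num)]
  have e3 : g' (dec 3) = dec 4 := by
    rw [← hhx 3 (by norm_num), hkey, x3e, ← x4e, hhx 4 (by norm_num)]
  have hmem' : ∀ z, g' z ∈ bset dd0 ↔ z ∈ bset dd0 :=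
    Cfsg.Agent.Lib.Helper3.Golay.mem_smul_iff_of_smul_eq hg'd
  have h4mem : g' (dec 4) ∈ bset dd0 := (hmem' _).mpr (by rw [mem_bset]; decide +kernel)
  have hne : ∀ i j : ℕ, i < 24 → j < 24 → i ≠ j → dec i ≠ dec j := by
    intro i j hi hj hij h
    apply hij
    have := congrArg enc h
    rwa [enc_dec i hi, enc_dec j hj] at this
  have hy : ∀ i j : ℕ, i < 24 → j < 24 → i ≠ 4 → g' (dec i) = dec j → enc (g' (dec 4)) ≠ j := by
    intro i j hi hj hi4 hij h
    have h1 : g' (dec 4) = dec j := by rw [← h, dec_enc]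
    rw [← hij] at h1
    exact hne 4 i (by norm_num) hi (fun h => hi4 h.symm) (g'.injective h1)
  rw [mem_bset] at h4mem
  obtain ⟨r, hr, himg⟩ := Rlist_cover (enc (g' (dec 4))) (enc_lt _) h4mem
    (hy 2 0 (by norm_num) (by norm_num) (by norm_num) e2)
    (hy 0 1 (by norm_num) (by norm_num) (by norm_num) e0)
    (hy 1 2 (by norm_num) (by norm_num) (by norm_num) e1)
    (hy 3 4 (by norm_num) (by norm_num) (by norm_num) e3)
  obtain ⟨r1, r2, r3, r4, r5, r6⟩ := Rlist_spec hr
  have hrP := isPerm_of_inM24 _ r1
  have hrM : permOf r ∈ M24 := permOf_mem_M24 _ r1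
  have hrd : permOf r • bset dd0 = bset dd0 := by rw [permOf_smul_bset r hrP, r2]
  have heq : g' = permOf r := by
    have hw : (permOf r)⁻¹ * g' ∈ M24 ⊓ MulAction.stabilizer (Equiv.Perm GolayPt)
        (Cfsg.Agent.Lib.Helper3.Golay.bitSet Cfsg.Agent.Lib.Helper3.Golay.d0) := by
      refine Subgroup.mem_inf.mpr ⟨M24.mul_mem (M24.inv_mem hrM) hg'M, ?_⟩
      rw [MulAction.mem_stabilizer_iff, bitSet_eq_bset, mul_smul]
      show (permOf r)⁻¹ • g' • bset dd0 = bset dd0
      rw [hg'd, inv_smul_eq_iff, hrd]
    have h1 := Cfsg.Agent.Lib.Helper3.Golay.stab_dodecad_unique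
      Cfsg.Agent.Lib.Helper3.Golay.d0_mem Cfsg.Agent.Lib.Helper3.Golay.b2
      Cfsg.Agent.Lib.Helper3.Golay.b2_mem Cfsg.Agent.Lib.Helper3.Golay.b2_injective hw
      (by
        intro i hi
        rw [b2_eq_dec i hi, Equiv.Perm.mul_apply, Equiv.Perm.inv_eq_iff_eq,
          permOf_apply_dec r hrP i (by omega)]
        interval_cases i
        · rw [e0, r3]
        · rw [e1, r4]
        · rw [e2, r5]
        · rw [e3, r6]
        · rw [himg, dec_enc])
    have := congrArg (permOf r * ·) h1
    simpa using this
  refine ⟨h, hhM, r, hr, ?_, heq⟩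
  apply isCube1_of hrP
  rw [← heq]; exact hg'3

theorem Rlist_fix : Rlist.all (fun q => !(isCube1 q) || Nat.beq (fixCount q) 6 ||
    Nat.beq (fixCount q) 0) = true := by decide +kernel

/-- an element of order three of `M24` has exactly six fixed points or none. -/
theorem card_fixed_order3 {g : Equiv.Perm GolayPt} (hg : g ∈ M24) (h3 : g ^ 3 = 1) (h1 : g ≠ 1) :
    (Finset.univ.filter fun p => g p = p).card = 6 ∨ (Finset.univ.filter fun p => g p = p).card = 0 := by
  obtain ⟨h, hh, r, hr, hc3, hconj⟩ := order3_conj hg h3 h1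
  have hrP := isPerm_of_inM24 _ (Rlist_spec hr).1
  have hc := List.all_eq_true.mp Rlist_fix r hr
  rw [hc3] at hc
  simp only [Bool.not_true, Bool.false_or, Bool.or_eq_true, nat_beq_iff] at hc
  rw [← card_fixed_conj g h, hconj, card_fixed_permOf r hrP]
  exact hc

end Cfsg.Agent.Lib.Helper28.M24OctadFix
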