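import Mathlib
import Cfsg.Prelude.Def_GeometricClasses
import Cfsg.Agent.Lib.Helper20.OmMDefs

/-!
OmOddMax market (helper20; rows S5814 S5835 S5859): leaf OM-E3 `nd_even`, exact signature of `notes/OmOddMax_leaves.lean`.
-/

set_option autoImplicit false
set_option linter.unusedSectionVars false
set_option linter.unusedVariables false

namespace Cfsg.Agent.Lib.Helper28.OmMLeaf

open Cfsg Cfsg.Geo Matrix Module QuadraticMap Cfsg.Agent.Lib.Helper20.OmM

section generic
variable {ι : Type} [Fintype ι] [DecidableEq ι] {F : Type*} [Field F] [Fintype F]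
  (Q : QuadraticForm F (ι → F))

/-- the perp of `W` for the polar form -/
noncomputable abbrev perp28 (W : Submodule F (ι → F)) : Submodule F (ι → F) :=
  LinearMap.BilinForm.orthogonal (polarBilin Q) W

lemma polar_isom28 (g : GL ι F) (hg : g ∈ isometryGroup F ⇑Q) (x y : ι → F) :
    polar ⇑Q ((g : Matrix ι ι F) *ᵥ x) ((g : Matrix ι ι F) *ᵥ y) = polar ⇑Q x y := by
  have h : ∀ u : ι → F, Q ((g : Matrix ι ι F) *ᵥ u) = Q u := fun u => hg u u
  unfold polar
  rw [← Matrix.mulVec_add, h, h, h]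

lemma polarBilin_isRefl28 : (polarBilin Q).IsRefl := by
  intro x y h
  rw [polarBilin_apply_apply] at h ⊢
  rw [polar_comm]
  exact h

lemma mem_orth28 (W : Submodule F (ι → F)) (v : ι → F) :
    v ∈ perp28 Q W ↔ ∀ w ∈ W, polar ⇑Q w v = 0 := by
  rw [LinearMap.BilinForm.mem_orthogonal_iff]
  constructor
  · intro h w hw
    have := h w hw
    rwa [polarBilin_apply_apply] at this
  · intro h w hw
    rw [polarBilin_apply_apply]
    exact h w hw

/-- the perp of a non-degenerate subspace: disjoint, complementary, non-degenerate -/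
lemma orth_props28 (hQ : (polarBilin Q).Nondegenerate) {W : Submodule F (ι → F)}
    (hW : IsNondegenerateOn (polar ⇑Q) W) :
    IsCompl W (perp28 Q W) ∧ IsNondegenerateOn (polar ⇑Q) (perp28 Q W) := by
  have hdisj : Disjoint W (perp28 Q W) := by
    rw [Submodule.disjoint_def]
    intro w hw hwU
    by_contra hne
    obtain ⟨⟨x, hx, hxw⟩, _⟩ := hW w hw hne
    exact hxw ((mem_orth28 Q W w).1 hwU x hx)
  have hcompl : IsCompl W (perp28 Q W) :=
    (LinearMap.BilinForm.isCompl_orthogonal_iff_disjoint (polarBilin_isRefl28 Q)).2 hdisj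
  refine ⟨hcompl, ?_⟩
  intro u hu hne
  have hex : ∃ v, polarBilin Q u v ≠ 0 := by
    by_contra hcon
    push Not at hcon
    exact hne (hQ.1 u hcon)
  obtain ⟨v, hv⟩ := hex
  have htop : v ∈ W ⊔ perp28 Q W := by
    rw [hcompl.sup_eq_top]
    exact Submodule.mem_top
  obtain ⟨w, hw, u', hu', rfl⟩ := Submodule.mem_sup.1 htop
  have h1 : polar ⇑Q u w = 0 := by
    rw [polar_comm]
    exact (mem_orth28 Q W u).1 hu w hw
  have h2 : polar ⇑Q u u' ≠ 0 := by
    rw [polarBilin_apply_apply, polar_add_right, h1, zero_add] at hv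
    exact hv
  refine ⟨⟨u', hu', ?_⟩, ⟨u', hu', h2⟩⟩
  rw [polar_comm]
  exact h2

lemma stab_orth28 {W : Submodule F (ι → F)} :
    subspaceStabilizer W ⊓ isometryGroup F ⇑Q ≤ subspaceStabilizer (perp28 Q W) := by
  intro g hg
  obtain ⟨hgW, hgI⟩ := Subgroup.mem_inf.1 hg
  have hW : ∀ v : ι → F, v ∈ W ↔ (g : Matrix ι ι F) *ᵥ v ∈ W := fun v => hgW v
  show ∀ v : ι → F, v ∈ (perp28 Q W : Set (ι → F)) ↔
    (g : Matrix ι ι F) *ᵥ v ∈ (perp28 Q W : Set (ι → F))
  intro v
  rw [SetLike.mem_coe, SetLike.mem_coe, mem_orth28, mem_orth28]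
  constructor
  · intro h w hw
    have hw' : ((g⁻¹ : GL ι F) : Matrix ι ι F) *ᵥ w ∈ W := by
      rw [hW, Matrix.mulVec_mulVec, ← Units.val_mul, mul_inv_cancel, Units.val_one, Matrix.one_mulVec]
      exact hw
    have := h _ hw'
    rw [← polar_isom28 Q g hgI, Matrix.mulVec_mulVec, ← Units.val_mul, mul_inv_cancel, Units.val_one,
      Matrix.one_mulVec] at this
    exact this
  · intro h w hw
    rw [← polar_isom28 Q g hgI]
    exact h _ ((hW w).1 hw)

/-- E3 -/
theorem nd_even (hQ : (polarBilin Q).Nondegenerate) (hodd : Odd (Fintype.card ι))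
    {W : Submodule F (ι → F)} (h0 : W ≠ ⊥) (h1 : W ≠ ⊤) (hW : IsNondegenerateOn (polar ⇑Q) W) :
    ∃ U : Submodule F (ι → F), U ≠ ⊥ ∧ Even (finrank F U) ∧ IsNondegenerateOn (polar ⇑Q) U ∧
      subspaceStabilizer W ⊓ isometryGroup F ⇑Q ≤ subspaceStabilizer U := by
  by_cases hev : Even (finrank F W)
  · exact ⟨W, h0, hev, hW, inf_le_left⟩
  · obtain ⟨hcompl, hnd⟩ := orth_props28 Q hQ hW
    have hfr : finrank F (perp28 Q W) = finrank F (ι → F) - finrank F W :=
      LinearMap.BilinForm.finrank_orthogonal hQ W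
    rw [Module.finrank_fintype_fun_eq_card] at hfr
    have hlt : finrank F W < Fintype.card ι := by
      have := Submodule.finrank_lt h1
      rwa [Module.finrank_fintype_fun_eq_card] at this
    rw [Nat.not_even_iff_odd] at hev
    refine ⟨perp28 Q W, ?_, ?_, hnd, stab_orth28 Q⟩
    · intro hbot
      rw [hbot, finrank_bot] at hfr
      omega
    · rw [hfr]
      obtain ⟨a, ha⟩ := hodd
      obtain ⟨b, hb⟩ := hev
      exact ⟨a - b, by omega⟩

end generic

end Cfsg.Agent.Lib.Helper28.OmMLeaf
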