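import Mathlib
import Cfsg.Agent.Lib.Helper5.TWU.Defs
import Cfsg.Agent.Lib.Helper14.TWIIDefs
import Cfsg.Agent.Lib.Helper19.TWU3Defs

/-!
# S5672 (C7 unitary, owner helper5) — STAGE II, CASE A (sub-planner helper28): definitions

`WForm l w Ψ`: at position `l` every `k × k` block of `Ψ` is a multiple of the weight matrix `w`
(`w = 1`: "`Ψ` is trivial at `l`", `Ψ = 1_l ⊗ r`; `w = vv q z z = z z†`: "`Ψ = (z z†)_l ⊗ ρ`").
`IsSUA q g`: `g ∈ SU(A)`.  `StableAt q l 𝒯`: `𝒯` is an `F_0`-subspace of matrices stable under conjugation by `slot l SU(A)`.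
`TD q X i y D w Ψ`: `1 + Ψ ∈ X`, `Ψ = Θ ⊗ (y y†)_i`, with the prescribed weights at the positions of `D`.
Leaves: `notes/S5672_IIA_leaves.lean`.
-/

set_option autoImplicit false
set_option linter.unusedSectionVars false
set_option linter.unusedVariables false

namespace Cfsg.Agent.Lib.Helper28.TWU2A
open Matrix Cfsg.Geo Cfsg.Agent.Lib.Helper18.AschA89 Cfsg.Agent.Lib.Helper8.TW
open Cfsg.Agent.Lib.Helper5.TWU Cfsg.Agent.Lib.Helper19.TWU3
open Cfsg.Agent.Lib.Helper20.UT (hv)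

variable {F : Type*} [Field F] {t k : ℕ}

/-- every `(p_l, p'_l)`-block of `Ψ` is a multiple of `w` (cross-multiplied form, no existential) -/
def WForm (l : Fin t) (w : Matrix (Fin k) (Fin k) F) (Ψ : Matrix (Idx t k) (Idx t k) F) : Prop :=
  ∀ (p p' : Idx t k) (a b : Fin k),
    Ψ (Function.update p l a) (Function.update p' l b) * w (p l) (p' l) = Ψ p p' * w a b

/-- `Ψ` is trivial at position `l` (`Ψ = 1_l ⊗ r`) -/
abbrev Triv (l : Fin t) (Ψ : Matrix (Idx t k) (Idx t k) F) : Prop :=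
  WForm l (1 : Matrix (Fin k) (Fin k) F) Ψ

/-- `g ∈ SU(A)`: isometry of `hv q` of determinant one -/
def IsSUA (q : ℕ) (g : GL (Fin k) F) : Prop :=
  (∀ u v : Fin k → F, hv q ((g : Matrix (Fin k) (Fin k) F) *ᵥ u) ((g : Matrix (Fin k) (Fin k) F) *ᵥ v) = hv q u v) ∧
    (g : Matrix (Fin k) (Fin k) F).det = 1

/-- `𝒯` is an `F_0`-subspace of matrices, stable under conjugation by `slot l g`, `g ∈ SU(A)` -/
structure StableAt (q : ℕ) (l : Fin t) (𝒯 : Matrix (Idx t k) (Idx t k) F → Prop) : Prop where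
  add : ∀ Ψ Ψ', 𝒯 Ψ → 𝒯 Ψ' → 𝒯 (Ψ + Ψ')
  neg : ∀ Ψ, 𝒯 Ψ → 𝒯 (-Ψ)
  smul : ∀ (s : F) Ψ, s ^ q = s → 𝒯 Ψ → 𝒯 (s • Ψ)
  conj : ∀ (g : GL (Fin k) F), IsSUA q g → ∀ Ψ, 𝒯 Ψ →
    𝒯 (slot k t l (g : Matrix (Fin k) (Fin k) F) * Ψ *
      slot k t l ((g⁻¹ : GL (Fin k) F) : Matrix (Fin k) (Fin k) F))

/-- the family of the recursion: `1 + Ψ ∈ X`, weight `y y†` at `i`, weights `w l` at the positions `l ∈ D` -/
def TD (q : ℕ) (X : Subgroup (GL (Idx t k) F)) (i : Fin t) (y : Fin k → F) (D : Finset (Fin t))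
    (w : Fin t → Matrix (Fin k) (Fin k) F) (Ψ : Matrix (Idx t k) (Idx t k) F) : Prop :=
  InM X (1 + Ψ) ∧ WForm i (vv q y y) Ψ ∧ ∀ l ∈ D, WForm l (w l) Ψ

/-- an admissible weight: `1` or `z z†` with `z ≠ 0` isotropic -/
def AdmW (q : ℕ) (w : Matrix (Fin k) (Fin k) F) : Prop :=
  w = 1 ∨ ∃ z : Fin k → F, z ≠ 0 ∧ hv q z z = 0 ∧ w = vv q z z


/-- `Φ(a,b) = (a y†)_l Ψ (y b†)_l` (`= (a b†)_l ⊗ (y†Ψy)`): sesquilinear in `(a,b)`, `Φ(y,y)` is the compression of `Ψ` -/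
def PhiU (q : ℕ) (l : Fin t) (y : Fin k → F) (Ψ : Matrix (Idx t k) (Idx t k) F) (a b : Fin k → F) :
    Matrix (Idx t k) (Idx t k) F :=
  slot k t l (vv q a y) * Ψ * slot k t l (vv q y b)

/-- conjugation by `slot l g` -/
def conjS (l : Fin t) (g : GL (Fin k) F) (m : Matrix (Idx t k) (Idx t k) F) : Matrix (Idx t k) (Idx t k) F :=
  slot k t l (g : Matrix (Fin k) (Fin k) F) * m * slot k t l ((g⁻¹ : GL (Fin k) F) : Matrix (Fin k) (Fin k) F)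

end Cfsg.Agent.Lib.Helper28.TWU2A
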