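import Cfsg.Agent.Lib.Helper17.SLMDefs

/-!
# SLnMax (helper17's market), blocks P4 / P7 (helper28): the "decomposable vectors" argument — core forms against T1
(`exists_sl_map_vec`) as a hypothesis.
-/

set_option autoImplicit false
set_option linter.unusedSectionVars false
set_option linter.unusedVariables false

namespace Cfsg.Agent.Lib.Helper28.SLMLeaf

open Cfsg.Geo Matrix Module Cfsg.Agent.Lib.Helper17.SLM

variable {n : ℕ} {F : Type*} [Field F] [Fintype F]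

/-- the statement of T1 -/
def T1Stmt (n : ℕ) (F : Type*) [Field F] [Fintype F] : Prop :=
  ∀ {u v : Fin n → F}, u ≠ 0 → v ≠ 0 →
    ∃ g ∈ specialLinear (Fin n) F, (g : Matrix (Fin n) (Fin n) F) *ᵥ u = v

section transport
variable {κ : Type} [Fintype κ] [DecidableEq κ]

/-- transport of vectors along `e` and `P` -/
def tau (e : Fin n ≃ κ) (P : GL (Fin n) F) (w : κ → F) : Fin n → F :=
  (P : Matrix (Fin n) (Fin n) F) *ᵥ (fun i => w (e i))

lemma tau_injective (e : Fin n ≃ κ) (P : GL (Fin n) F) : Function.Injective (tau (F := F) e P) := by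
  intro w w' h
  unfold tau at h
  have h2 : ((P⁻¹ : GL (Fin n) F) : Matrix (Fin n) (Fin n) F) * (P : Matrix (Fin n) (Fin n) F) = 1 := by
    rw [← Units.val_mul, inv_mul_cancel, Units.val_one]
  have h3 := congrArg (fun x => ((P⁻¹ : GL (Fin n) F) : Matrix (Fin n) (Fin n) F) *ᵥ x) h
  simp only [Matrix.mulVec_mulVec, h2, Matrix.one_mulVec] at h3
  funext k
  have := congrFun h3 (e.symm k)
  simpa using this

lemma tau_ne_zero (e : Fin n ≃ κ) (P : GL (Fin n) F) {w : κ → F} (hw : w ≠ 0) : tau e P w ≠ 0 := by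
  intro h
  apply hw
  apply tau_injective e P
  rw [h]
  unfold tau
  have : (fun i => (0 : κ → F) (e i)) = (0 : Fin n → F) := rfl
  rw [this, Matrix.mulVec_zero]

lemma conj_mulVec_tau (e : Fin n ≃ κ) (P : GL (Fin n) F) (g₀ : GL κ F) (w : κ → F) :
    ((P * glReindex e.symm g₀ * P⁻¹ : GL (Fin n) F) : Matrix (Fin n) (Fin n) F) *ᵥ tau e P w =
      tau e P ((g₀ : Matrix κ κ F) *ᵥ w) := by
  have h2 : ((P⁻¹ : GL (Fin n) F) : Matrix (Fin n) (Fin n) F) * (P : Matrix (Fin n) (Fin n) F) = 1 := by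
    rw [← Units.val_mul, inv_mul_cancel, Units.val_one]
  have hR : ((glReindex e.symm g₀ : GL (Fin n) F) : Matrix (Fin n) (Fin n) F) =
      (g₀ : Matrix κ κ F).submatrix e e := rfl
  unfold tau
  rw [Units.val_mul, Units.val_mul, Matrix.mulVec_mulVec, mul_assoc, mul_assoc, h2, mul_one,
    ← Matrix.mulVec_mulVec, hR]
  congr 1
  funext i
  simp only [Matrix.mulVec, dotProduct, Matrix.submatrix_apply]
  exact (Equiv.sum_comp e (fun k => (g₀ : Matrix κ κ F) (e i) k * w k))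

/-- the generic "invariant set of vectors" argument -/
theorem not_sl_le_of_invariant_set (hT1 : T1Stmt n F) (e : Fin n ≃ κ) (P : GL (Fin n) F)
    (S₀ : Subgroup (GL κ F)) (Dec : Set (κ → F))
    (hinv : ∀ g ∈ S₀, ∀ w ∈ Dec, (g : Matrix κ κ F) *ᵥ w ∈ Dec)
    {d₀ w₀ : κ → F} (hd : d₀ ∈ Dec) (hd0 : d₀ ≠ 0) (hw : w₀ ∉ Dec) (hw0 : w₀ ≠ 0) :
    ¬ specialLinear (Fin n) F ≤
      ((S₀.map (glReindex e.symm).toMonoidHom).map (MulAut.conj P).toMonoidHom) := by
  intro hle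
  obtain ⟨g, hg, hgu⟩ := hT1 (tau_ne_zero e P hd0) (tau_ne_zero e P hw0)
  obtain ⟨g₁, ⟨g₀, hg₀, rfl⟩, rfl⟩ := hle hg
  have hconj : ((MulAut.conj P).toMonoidHom ((glReindex e.symm).toMonoidHom g₀)) =
      P * glReindex e.symm g₀ * P⁻¹ := rfl
  rw [hconj, conj_mulVec_tau] at hgu
  have := tau_injective e P hgu
  apply hw
  rw [← this]
  exact hinv g₀ hg₀ d₀ hd

end transport

/-! ### P4 : two tensor factors -/

/-- decomposable vectors `x ⊗ y` -/
def Dec2 (n₁ n₂ : ℕ) (F : Type*) [Field F] : Set (Fin n₁ × Fin n₂ → F) :=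
  {w | ∃ (x : Fin n₁ → F) (y : Fin n₂ → F), w = fun p => x p.1 * y p.2}

lemma kron_mulVec_dec {n₁ n₂ : ℕ} (a : Matrix (Fin n₁) (Fin n₁) F) (b : Matrix (Fin n₂) (Fin n₂) F)
    (x : Fin n₁ → F) (y : Fin n₂ → F) :
    (Matrix.kroneckerMap (· * ·) a b) *ᵥ (fun p : Fin n₁ × Fin n₂ => x p.1 * y p.2) =
      fun p => (a *ᵥ x) p.1 * (b *ᵥ y) p.2 := by
  funext p
  simp only [Matrix.mulVec, dotProduct, Matrix.kroneckerMap_apply]
  rw [Fintype.sum_prod_type, Finset.sum_mul_sum]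
  refine Finset.sum_congr rfl fun i _ => Finset.sum_congr rfl fun j _ => ?_
  ring

/-- P4, core form -/
theorem not_sl_le_tensor_core (hT1 : T1Stmt n F) {n₁ n₂ : ℕ} (e : Fin n ≃ Fin n₁ × Fin n₂)
    (P : GL (Fin n) F) (h1 : 2 ≤ n₁) (h2 : 2 ≤ n₂) :
    ¬ specialLinear (Fin n) F ≤ tensorProductSubgroup n₁ n₂ e P := by
  let i0 : Fin n₁ := ⟨0, by omega⟩
  let i1 : Fin n₁ := ⟨1, by omega⟩
  let j0 : Fin n₂ := ⟨0, by omega⟩
  let j1 : Fin n₂ := ⟨1, by omega⟩
  have hi : i0 ≠ i1 := by intro h; have := congrArg Fin.val h; simp [i0, i1] at this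
  have hj : j0 ≠ j1 := by intro h; have := congrArg Fin.val h; simp [j0, j1] at this
  let d₀ : Fin n₁ × Fin n₂ → F := fun p => (Pi.single i0 1 : Fin n₁ → F) p.1 * (Pi.single j0 1 : Fin n₂ → F) p.2
  let w₀ : Fin n₁ × Fin n₂ → F := fun p =>
    (Pi.single i0 1 : Fin n₁ → F) p.1 * (Pi.single j0 1 : Fin n₂ → F) p.2 +
      (Pi.single i1 1 : Fin n₁ → F) p.1 * (Pi.single j1 1 : Fin n₂ → F) p.2
  refine not_sl_le_of_invariant_set hT1 e P (kroneckerSubgroup n₁ n₂ F) (Dec2 n₁ n₂ F) ?_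
    (d₀ := d₀) (w₀ := w₀) ⟨_, _, rfl⟩ ?_ ?_ ?_
  · rintro g ⟨a, b, hab⟩ w ⟨x, y, rfl⟩
    rw [hab]
    exact ⟨_, _, kron_mulVec_dec _ _ x y⟩
  · intro h
    have := congrFun h (i0, j0)
    simp [d₀] at this
  · rintro ⟨x, y, hxy⟩
    have h00 := congrFun hxy (i0, j0)
    have h01 := congrFun hxy (i0, j1)
    have h11 := congrFun hxy (i1, j1)
    simp only [w₀, Pi.single_eq_same, Pi.single_eq_of_ne hi, Pi.single_eq_of_ne hi.symm,
      Pi.single_eq_of_ne hj, Pi.single_eq_of_ne hj.symm, mul_one, mul_zero, add_zero, zero_add] at h00 h01 h11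
    have hx0 : x i0 ≠ 0 := by
      intro h; rw [h, zero_mul] at h00; exact one_ne_zero h00
    have hy1 : y j1 ≠ 0 := by
      intro h; rw [h, mul_zero] at h11; exact one_ne_zero h11
    exact mul_ne_zero hx0 hy1 h01.symm
  · intro h
    have := congrFun h (i0, j0)
    simp [w₀, Pi.single_eq_of_ne hi] at this

end Cfsg.Agent.Lib.Helper28.SLMLeaf
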