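import Cfsg.Agent.Lib.Helper17.SLMDefs
import Cfsg.Agent.Lib.Helper28.SLMDec

/-!
# SLnMax (helper17's market), P7 `not_sl_le_tensorWreath` (helper28): core form against T1 as a hypothesis.
-/

set_option autoImplicit false
set_option linter.unusedSectionVars false
set_option linter.unusedVariables false

namespace Cfsg.Agent.Lib.Helper28.SLMLeaf

open Cfsg.Geo Matrix Module Cfsg.Agent.Lib.Helper17.SLM

variable {n : ℕ} {F : Type*} [Field F] [Fintype F]

/-- decomposable vectors `x₀ ⊗ ⋯ ⊗ x_{t-1}` -/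
def DecT (m t : ℕ) (F : Type*) [Field F] : Set ((Fin t → Fin m) → F) :=
  {w | ∃ xs : Fin t → Fin m → F, w = fun z => ∏ i, xs i (z i)}

/-- the subgroup of `GL` preserving a set of vectors in both directions -/
def stabSet {κ : Type} [Fintype κ] [DecidableEq κ] (D : Set (κ → F)) : Subgroup (GL κ F) where
  carrier := {g | ∀ w, (g : Matrix κ κ F) *ᵥ w ∈ D ↔ w ∈ D}
  one_mem' := fun w => by simp
  mul_mem' := fun {a b} ha hb w => by
    rw [Units.val_mul, ← Matrix.mulVec_mulVec, ha, hb]
  inv_mem' := fun {a} ha w => by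
    have := ha (((a⁻¹ : GL κ F) : Matrix κ κ F) *ᵥ w)
    rw [Matrix.mulVec_mulVec, ← Units.val_mul, mul_inv_cancel, Units.val_one, Matrix.one_mulVec] at this
    exact this.symm

lemma mulVec_injective_of_GL {κ : Type} [Fintype κ] [DecidableEq κ] (g : GL κ F) :
    Function.Injective (fun w : κ → F => (g : Matrix κ κ F) *ᵥ w) := by
  intro w w' h
  have h3 := congrArg (fun x => ((g⁻¹ : GL κ F) : Matrix κ κ F) *ᵥ x) h
  simp only [Matrix.mulVec_mulVec] at h3
  rwa [← Units.val_mul, inv_mul_cancel, Units.val_one, Matrix.one_mulVec, Matrix.one_mulVec] at h3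

/-- by finiteness, mapping `D` into itself is enough -/
lemma mem_stabSet_of_mapsTo {κ : Type} [Fintype κ] [DecidableEq κ] (D : Set (κ → F)) (g : GL κ F)
    (h : ∀ w ∈ D, (g : Matrix κ κ F) *ᵥ w ∈ D) : g ∈ stabSet D := by
  intro w
  refine ⟨fun hw => ?_, h w⟩
  let f : D → D := fun x => ⟨(g : Matrix κ κ F) *ᵥ x.1, h x.1 x.2⟩
  have hinj : Function.Injective f := by
    intro x y hxy
    apply Subtype.ext
    exact mulVec_injective_of_GL g (congrArg Subtype.val hxy)
  have hsurj : Function.Surjective f := Finite.injective_iff_surjective.1 hinj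
  obtain ⟨⟨w', hw'⟩, hfw⟩ := hsurj ⟨_, hw⟩
  have := mulVec_injective_of_GL g (congrArg Subtype.val hfw)
  simp only at this
  rw [← this]
  exact hw'

lemma pure_mulVec_dec {m t : ℕ} (g : Matrix (Fin t → Fin m) (Fin t → Fin m) F)
    (gs : Fin t → Matrix (Fin m) (Fin m) F)
    (hg : ∀ x y : Fin t → Fin m, g x y = ∏ i, gs i (x i) (y i)) (xs : Fin t → Fin m → F) :
    g *ᵥ (fun z => ∏ i, xs i (z i)) = fun z => ∏ i, (gs i *ᵥ xs i) (z i) := by
  funext z
  simp only [Matrix.mulVec, dotProduct]
  rw [Fintype.prod_sum]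
  refine Finset.sum_congr rfl fun y _ => ?_
  rw [hg, ← Finset.prod_mul_distrib]

lemma perm_mulVec_dec {m t : ℕ} (g : Matrix (Fin t → Fin m) (Fin t → Fin m) F)
    (σ : Equiv.Perm (Fin t))
    (hg : ∀ x y : Fin t → Fin m, g x y = if y = x ∘ σ then 1 else 0) (xs : Fin t → Fin m → F) :
    g *ᵥ (fun z => ∏ i, xs i (z i)) = fun z => ∏ j, xs (σ.symm j) (z j) := by
  funext z
  simp only [Matrix.mulVec, dotProduct]
  rw [Finset.sum_eq_single (z ∘ σ)]
  · rw [hg, if_pos rfl, one_mul]
    simp only [Function.comp_apply]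
    rw [← Equiv.prod_comp σ (fun j => xs (σ.symm j) (z j))]
    refine Finset.prod_congr rfl fun i _ => ?_
    rw [Equiv.symm_apply_apply]
  · intro y _ hy
    rw [hg, if_neg hy, zero_mul]
  · intro h
    exact absurd (Finset.mem_univ _) h

/-- the standard tensor-wreath group preserves the decomposable vectors -/
theorem tensorWreathStandard_le_stab (m t : ℕ) :
    tensorWreathStandard m t F ≤ stabSet (DecT m t F) := by
  unfold tensorWreathStandard
  rw [Subgroup.closure_le]
  rintro g (⟨gs, hgs⟩ | ⟨σ, hσ⟩)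
  · apply mem_stabSet_of_mapsTo
    rintro w ⟨xs, rfl⟩
    exact ⟨_, pure_mulVec_dec _ (fun i => (gs i : Matrix (Fin m) (Fin m) F)) hgs xs⟩
  · apply mem_stabSet_of_mapsTo
    rintro w ⟨xs, rfl⟩
    exact ⟨_, perm_mulVec_dec _ σ hσ xs⟩

/-- P7, core form -/
theorem not_sl_le_tensorWreath_core (hT1 : T1Stmt n F) {m t : ℕ} (e : Fin n ≃ (Fin t → Fin m))
    (P : GL (Fin n) F) (hm : 2 ≤ m) (ht : 2 ≤ t) :
    ¬ specialLinear (Fin n) F ≤ tensorWreathSubgroup m t e P := by
  let c0 : Fin m := ⟨0, by omega⟩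
  let c1 : Fin m := ⟨1, by omega⟩
  let i0 : Fin t := ⟨0, by omega⟩
  let i1 : Fin t := ⟨1, by omega⟩
  have hc : c0 ≠ c1 := by intro h; have := congrArg Fin.val h; simp [c0, c1] at this
  have hi : i0 ≠ i1 := by intro h; have := congrArg Fin.val h; simp [i0, i1] at this
  -- the four test points
  let z00 : Fin t → Fin m := fun _ => c0
  let z11 : Fin t → Fin m := fun i => if i = i0 ∨ i = i1 then c1 else c0
  let z01 : Fin t → Fin m := fun i => if i = i1 then c1 else c0
  let z10 : Fin t → Fin m := fun i => if i = i0 then c1 else c0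
  have h0011 : z00 ≠ z11 := by
    intro h; have := congrFun h i0; simp [z00, z11] at this; exact hc this
  let d₀ : (Fin t → Fin m) → F := fun z => ∏ i, (Pi.single c0 1 : Fin m → F) (z i)
  let w₀ : (Fin t → Fin m) → F := fun z => (if z = z00 then 1 else 0) + (if z = z11 then 1 else 0)
  refine not_sl_le_of_invariant_set hT1 e P (tensorWreathStandard m t F) (DecT m t F) ?_
    (d₀ := d₀) (w₀ := w₀) ⟨_, rfl⟩ ?_ ?_ ?_
  · intro g hg w hw
    exact (tensorWreathStandard_le_stab m t hg w).2 hw
  · intro h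
    have := congrFun h z00
    simp [d₀, z00] at this
  · rintro ⟨xs, hxs⟩
    have e00 := congrFun hxs z00
    have e11 := congrFun hxs z11
    have e01 := congrFun hxs z01
    have h0001 : z01 ≠ z00 := by
      intro h; have := congrFun h i1; simp [z00, z01] at this; exact hc this.symm
    have h1101 : z01 ≠ z11 := by
      intro h; have := congrFun h i0; simp [z11, z01, hi] at this; exact hc this
    simp only [w₀, if_neg h0011, if_neg h0011.symm, if_neg h0001, if_neg h1101, add_zero,
      zero_add] at e00 e11 e01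
    -- split the products at `i1`
    have hsplit : ∀ z : Fin t → Fin m, ∏ i, xs i (z i) = xs i1 (z i1) * ∏ i ∈ Finset.univ.erase i1, xs i (z i) :=
      fun z => (Finset.mul_prod_erase Finset.univ (fun i => xs i (z i)) (Finset.mem_univ i1)).symm
    rw [hsplit] at e00 e11 e01
    -- `z01` agrees with `z00` off `i1` and with `z11` at `i1`
    have hA : ∏ i ∈ Finset.univ.erase i1, xs i (z01 i) = ∏ i ∈ Finset.univ.erase i1, xs i (z00 i) := by
      refine Finset.prod_congr rfl fun i hi' => ?_
      have : i ≠ i1 := Finset.ne_of_mem_erase hi'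
      simp [z01, z00, this]
    have hB : xs i1 (z01 i1) = xs i1 (z11 i1) := by simp [z01, z11]
    rw [hA, hB] at e01
    have h1 : xs i1 (z11 i1) ≠ 0 := by
      intro h; rw [h, zero_mul] at e11; exact one_ne_zero e11
    have h2 : ∏ i ∈ Finset.univ.erase i1, xs i (z00 i) ≠ 0 := by
      intro h; rw [h, mul_zero] at e00; exact one_ne_zero e00
    exact mul_ne_zero h1 h2 e01.symm
  · intro h
    have := congrFun h z00
    simp [w₀, h0011] at this

end Cfsg.Agent.Lib.Helper28.SLMLeaf
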