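import Mathlib
import Cfsg.Agent.Lib.Helper8.TW.Defs
import Cfsg.Agent.Lib.Helper20.AschA89WR
import Cfsg.Agent.Lib.Helper20.AschA89F2J
import Cfsg.Agent.Lib.Helper22.TWExtBasic
import Cfsg.Agent.Lib.Helper22.TWExtMore
import Cfsg.Agent.Lib.Helper23.TWG1
import Cfsg.Agent.Lib.Helper19.TWGrow
import Cfsg.Agent.Lib.Helper14.TWIIDefs
import Cfsg.Agent.Lib.Helper12.TWTS

/-!
S5641 (C7 maximal in SL_n), Stage II / Case B (sub-planner helper14): packet IIB-E (the two ends), leaves E1-E6 of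
`notes/S5641_IIB_leaves.lean` with their exact signatures.
-/

set_option autoImplicit false
set_option linter.unusedSectionVars false
set_option linter.unusedVariables false

namespace Cfsg.Agent.Lib.Helper28.TWIIBLeaf
open Matrix Cfsg.Geo Cfsg.Agent.Lib.Helper18.AschA89 Cfsg.Agent.Lib.Helper20.AschLeaf Cfsg.Agent.Lib.Helper8.TW
  Cfsg.Agent.Lib.Helper14.TWII

variable {F : Type*} [Field F] {t m : ℕ}

/-! ### small tools -/

lemma mem_SLV_iff28 (g : GL (Idx t m) F) :
    g ∈ SLV t m F ↔ (g : Matrix (Idx t m) (Idx t m) F).det = 1 := by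
  show g ∈ (Matrix.GeneralLinearGroup.det : GL (Idx t m) F →* Fˣ).ker ↔ _
  rw [MonoidHom.mem_ker]
  constructor
  · intro h
    have := congrArg Units.val h
    simpa using this
  · intro h
    apply Units.ext
    simpa using h

lemma slotGL_mem_H28 (i : Fin t) (α : GL (Fin m) F) (hdet : (α : Matrix (Fin m) (Fin m) F).det = 1) :
    slotGL i α ∈ Hstd t m F := by
  refine Subgroup.mem_inf.2 ⟨Cfsg.Agent.Lib.Helper23.TWLeaf.slotGL_mem_G i α, ?_⟩
  rw [mem_SLV_iff28, slotGL_val, Cfsg.Agent.Lib.Helper12.TWLeaf.det_slot, hdet, one_pow]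

lemma ext_add28 (i : Fin (t + 1)) (γ γ' : Matrix (Idx t m) (Idx t m) F) :
    Cfsg.Agent.Lib.Helper8.TW.ext i (γ + γ') =
      Cfsg.Agent.Lib.Helper8.TW.ext i γ + Cfsg.Agent.Lib.Helper8.TW.ext i γ' := by
  funext x x'
  simp only [Cfsg.Agent.Lib.Helper22.TWLeaf.ext_apply, Matrix.add_apply]
  split_ifs <;> simp

lemma ext_smul28 (i : Fin (t + 1)) (c : F) (γ : Matrix (Idx t m) (Idx t m) F) :
    Cfsg.Agent.Lib.Helper8.TW.ext i (c • γ) = c • Cfsg.Agent.Lib.Helper8.TW.ext i γ := by
  funext x x'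
  simp only [Cfsg.Agent.Lib.Helper22.TWLeaf.ext_apply, Matrix.smul_apply]
  split_ifs <;> simp

lemma comm_cancel28 {G : Type*} [Group G] (s e b : G) (h1 : s * e = e * s) (h2 : s * b = b * s) :
    (s * e) * b * (s * e)⁻¹ * b⁻¹ = e * b * e⁻¹ * b⁻¹ := by
  have h3 : (s * e) * b = (e * b) * s := by
    rw [h1, mul_assoc, h2, ← mul_assoc]
  rw [h3, h1, _root_.mul_inv_rev, mul_assoc (e * b) s, ← mul_assoc s, mul_inv_cancel, one_mul]

/-! ### the leaves -/

/-- E1 (M) with one position `G = GL(V)` -/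
theorem mem_Gstd_one (γ : GL (Idx 1 m) F) : γ ∈ Gstd 1 m F := by
  classical
  let e : Idx 1 m ≃ Fin m := Equiv.funUnique (Fin 1) (Fin m)
  let γ' : GL (Fin m) F :=
    ⟨(γ : Matrix (Idx 1 m) (Idx 1 m) F).submatrix e.symm e.symm,
      ((γ⁻¹ : GL (Idx 1 m) F) : Matrix (Idx 1 m) (Idx 1 m) F).submatrix e.symm e.symm,
      by rw [Matrix.submatrix_mul_equiv, ← Units.val_mul, mul_inv_cancel, Units.val_one, Matrix.submatrix_one_equiv],
      by rw [Matrix.submatrix_mul_equiv, ← Units.val_mul, inv_mul_cancel, Units.val_one, Matrix.submatrix_one_equiv]⟩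
  apply Cfsg.Agent.Lib.Helper23.TWLeaf.ptens_mem_G (fun _ => γ') γ
  funext x y
  rw [ptens_apply, Fin.prod_univ_one]
  show _ = (γ : Matrix (Idx 1 m) (Idx 1 m) F) (e.symm (x 0)) (e.symm (y 0))
  have hx : e.symm (x 0) = x := by
    funext j
    rw [Subsingleton.elim j 0]
    rfl
  have hy : e.symm (y 0) = y := by
    funext j
    rw [Subsingleton.elim j 0]
    rfl
  rw [hx, hy]

/-- E2 (S) -/
theorem Hstd_le_XB (X : Subgroup (GL (Idx (t + 1) m) F)) (hHX : Hstd (t + 1) m F ≤ X) (i : Fin (t + 1)) :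
    Hstd t m F ≤ XB X i := by
  intro γ hγ
  refine ⟨1, ?_⟩
  rw [slotGL_one, one_mul]
  apply hHX
  have hγ' := Subgroup.mem_inf.1 hγ
  refine Subgroup.mem_inf.2 ⟨Cfsg.Agent.Lib.Helper22.TWLeaf.extGL_mem_G i γ hγ'.1, ?_⟩
  have h3 := (mem_SLV_iff28 γ).1 hγ'.2
  rw [mem_SLV_iff28, extGL_val, Cfsg.Agent.Lib.Helper22.TWLeaf.det_ext, h3, one_pow]

/-- E3 (S) -/
theorem nilJ_erase (i : Fin (t + 1)) (a b : Idx (t + 1) m) :
    nilJ (F := F) (Finset.univ.erase i) a b =
      ext i (Matrix.single (fun j => a (i.succAbove j)) (fun j => b (i.succAbove j)) (1 : F)) := by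
  funext x x'
  rw [Cfsg.Agent.Lib.Helper22.TWLeaf.ext_apply, Matrix.single_apply]
  unfold nilJ
  by_cases hi : x i = x' i
  · rw [if_pos hi]
    have key : ((∀ j ∈ Finset.univ.erase i, x j = a j ∧ x' j = b j) ∧
        (∀ j, j ∉ Finset.univ.erase i → x j = x' j)) ↔
        ((fun j => a (i.succAbove j)) = (fun j => x (i.succAbove j)) ∧
          (fun j => b (i.succAbove j)) = fun j => x' (i.succAbove j)) := by
      constructor
      · rintro ⟨h1, _⟩
        have hmem : ∀ j : Fin t, i.succAbove j ∈ Finset.univ.erase i := fun j =>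
          Finset.mem_erase.2 ⟨Fin.succAbove_ne i j, Finset.mem_univ _⟩
        exact ⟨funext fun j => ((h1 _ (hmem j)).1).symm, funext fun j => ((h1 _ (hmem j)).2).symm⟩
      · rintro ⟨h1, h2⟩
        refine ⟨?_, ?_⟩
        · intro j hj
          rw [Finset.mem_erase] at hj
          obtain ⟨k, rfl⟩ := Fin.exists_succAbove_eq hj.1
          exact ⟨(congrFun h1 k).symm, (congrFun h2 k).symm⟩
        · intro j hj
          have hji : j = i := by
            by_contra h
            exact hj (Finset.mem_erase.2 ⟨h, Finset.mem_univ _⟩)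
          rw [hji]
          exact hi
    by_cases hc : ((fun j => a (i.succAbove j)) = (fun j => x (i.succAbove j)) ∧
          (fun j => b (i.succAbove j)) = fun j => x' (i.succAbove j))
    · rw [if_pos hc, if_pos (key.2 hc)]
    · rw [if_neg hc, if_neg (fun h => hc (key.1 h))]
  · rw [if_neg hi, if_neg]
    rintro ⟨_, h2⟩
    exact hi (h2 i (by simp))

/-- E4 (S) transvections lie in `SL` -/
theorem exists_transvection_SLV (p q : Idx t m) (hpq : p ≠ q) :
    ∃ τ : GL (Idx t m) F, τ ∈ SLV t m F ∧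
      (τ : Matrix (Idx t m) (Idx t m) F) = 1 + Matrix.single p q (1 : F) ∧
      ((τ⁻¹ : GL (Idx t m) F) : Matrix (Idx t m) (Idx t m) F) = 1 - Matrix.single p q (1 : F) := by
  have hsq : Matrix.single p q (1 : F) * Matrix.single p q (1 : F) = 0 :=
    Matrix.single_mul_single_of_ne _ _ _ _ (Ne.symm hpq) _
  refine ⟨unip _ hsq, ?_, rfl, rfl⟩
  rw [mem_SLV_iff28, unip_val]
  exact Matrix.det_transvection_of_ne p q hpq 1

/-- E5 (M) the commutator computation in `GL(B)` -/
theorem comm_single_slot (p r : Idx t m) (j₀ : Fin t) (a : Fin m) (ha1 : a ≠ p j₀) (ha2 : a ≠ r j₀)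
    (hpr : p j₀ ≠ r j₀) (c : F) :
    (1 + Matrix.single p (Function.update r j₀ a) (1 : F)) *
        (1 + c • slot m t j₀ (Matrix.single a (r j₀) (1 : F))) *
        (1 - Matrix.single p (Function.update r j₀ a) (1 : F)) *
        (1 - c • slot m t j₀ (Matrix.single a (r j₀) (1 : F))) =
      1 + c • Matrix.single p r (1 : F) := by
  have hqp : Function.update r j₀ a ≠ p := by
    intro h
    have := congrFun h j₀
    rw [Function.update_self] at this
    exact ha1 this
  have hAA : Matrix.single p (Function.update r j₀ a) (1 : F) * Matrix.single p (Function.update r j₀ a) (1 : F) = 0 :=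
    Matrix.single_mul_single_of_ne _ _ _ _ hqp _
  have hBB : slot m t j₀ (Matrix.single a (r j₀) (1 : F)) * slot m t j₀ (Matrix.single a (r j₀) (1 : F)) = 0 := by
    rw [slot_mul, Matrix.single_mul_single_of_ne _ _ _ _ (Ne.symm ha2) _, slot_zero]
  have hBA : slot m t j₀ (Matrix.single a (r j₀) (1 : F)) * Matrix.single p (Function.update r j₀ a) (1 : F) = 0 := by
    funext x z
    rw [Matrix.zero_apply]
    by_cases hz : z = Function.update r j₀ a
    · rw [hz, Matrix.mul_single_apply_same, mul_one, slot_apply]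
      split_ifs with h
      · rw [Matrix.single_apply, if_neg]
        rintro ⟨_, h2⟩
        exact hpr h2.symm
      · rfl
    · rw [Matrix.mul_single_apply_of_ne _ _ _ _ _ hz]
  have hAB : Matrix.single p (Function.update r j₀ a) (1 : F) * slot m t j₀ (Matrix.single a (r j₀) (1 : F)) =
      Matrix.single p r (1 : F) := by
    funext x z
    by_cases hx : x = p
    · rw [hx, Matrix.single_mul_apply_same, one_mul, slot_apply, Matrix.single_apply, Matrix.single_apply,
        Function.update_self]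
      by_cases hz : r = z
      · subst hz
        have c1 : ∀ j, j ≠ j₀ → Function.update r j₀ a j = r j := fun j hj => Function.update_of_ne hj _ _
        rw [if_pos c1, if_pos (⟨rfl, rfl⟩ : a = a ∧ r j₀ = r j₀), if_pos (⟨rfl, rfl⟩ : p = p ∧ r = r)]
      · have c3 : ¬ (p = p ∧ r = z) := fun h => hz h.2
        rw [if_neg c3]
        by_cases h1 : ∀ j, j ≠ j₀ → Function.update r j₀ a j = z j
        · rw [if_pos h1, if_neg]
          rintro ⟨_, h2⟩
          apply hz
          funext j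
          by_cases hj : j = j₀
          · rw [hj]; exact h2
          · have := h1 j hj
            rwa [Function.update_of_ne hj] at this
        · rw [if_neg h1]
    · rw [Matrix.single_mul_apply_of_ne _ _ _ _ _ hx, Matrix.single_apply, if_neg]
      rintro ⟨h, _⟩
      exact hx h.symm
  have key := Cfsg.Agent.Lib.Helper19.TWGrow.comm_identity _ _ hAA hBB hBA c
  rw [hAB] at key
  rw [← key]
  simp only [one_smul, neg_smul, sub_eq_add_neg]

/-- E6 (M) (B4) -/
theorem B4_XT (hm : 3 ≤ m) (ht : 1 ≤ t) (X : Subgroup (GL (Idx (t + 1) m) F)) (hHX : Hstd (t + 1) m F ≤ X)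
    (i : Fin (t + 1)) (hSL : SLV t m F ≤ XB X i) : XT X (Finset.univ.erase i) := by
  intro a b c hab
  set p : Idx t m := fun j => a (i.succAbove j) with hp
  set r : Idx t m := fun j => b (i.succAbove j) with hr
  have hpr : ∀ j, p j ≠ r j := fun j =>
    hab _ (Finset.mem_erase.2 ⟨Fin.succAbove_ne i j, Finset.mem_univ _⟩)
  let j₀ : Fin t := ⟨0, ht⟩
  obtain ⟨a₀, ha1, ha2⟩ := Cfsg.Agent.Lib.Helper19.TWGrow.exists_avoid hm (p j₀) (r j₀)
  have hpq : p ≠ Function.update r j₀ a₀ := by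
    intro h
    have := congrFun h j₀
    rw [Function.update_self] at this
    exact ha1 this.symm
  obtain ⟨τ, hτSL, hτ1, hτ2⟩ := exists_transvection_SLV (F := F) p (Function.update r j₀ a₀) hpq
  obtain ⟨α, hx⟩ := hSL hτSL
  have hβsq : (c • Matrix.single a₀ (r j₀) (1 : F)) * (c • Matrix.single a₀ (r j₀) (1 : F)) = 0 := by
    rw [Matrix.smul_mul, Matrix.mul_smul, Matrix.single_mul_single_of_ne _ _ _ _ (Ne.symm ha2) _, smul_zero,
      smul_zero]
  set β : GL (Fin m) F := unip (c • Matrix.single a₀ (r j₀) (1 : F)) hβsq with hβ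
  have hβdet : (β : Matrix (Fin m) (Fin m) F).det = 1 := by
    show (1 + c • Matrix.single a₀ (r j₀) (1 : F)).det = 1
    rw [Matrix.smul_single, smul_eq_mul, mul_one]
    exact Matrix.det_transvection_of_ne a₀ (r j₀) ha2 c
  have hbbX : slotGL (i.succAbove j₀) β ∈ X := hHX (slotGL_mem_H28 _ β hβdet)
  have hbb : slotGL (i.succAbove j₀) β = extGL i (slotGL j₀ β) := by
    apply Units.ext
    rw [slotGL_val, extGL_val, slotGL_val, Cfsg.Agent.Lib.Helper22.TWLeaf.ext_slot]
  have hcomm1 : slotGL i α * extGL i τ = extGL i τ * slotGL i α := (extGL_comm_slotGL i τ α).symm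
  have hcomm2 : slotGL i α * extGL i (slotGL j₀ β) = extGL i (slotGL j₀ β) * slotGL i α :=
    (extGL_comm_slotGL i (slotGL j₀ β) α).symm
  have hmem : (slotGL i α * extGL i τ) * extGL i (slotGL j₀ β) * (slotGL i α * extGL i τ)⁻¹ *
      (extGL i (slotGL j₀ β))⁻¹ ∈ X := by
    rw [← hbb]
    exact X.mul_mem (X.mul_mem (X.mul_mem hx hbbX) (X.inv_mem hx)) (X.inv_mem hbbX)
  rw [comm_cancel28 _ _ _ hcomm1 hcomm2] at hmem
  refine ⟨_, hmem, ?_⟩
  rw [← extGL_inv, ← extGL_inv, ← extGL_mul, ← extGL_mul, ← extGL_mul, extGL_val]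
  rw [Units.val_mul, Units.val_mul, Units.val_mul, hτ1, hτ2]
  have h1 : ((slotGL j₀ β : GL (Idx t m) F) : Matrix (Idx t m) (Idx t m) F) =
      1 + c • slot m t j₀ (Matrix.single a₀ (r j₀) (1 : F)) := by
    show slot m t j₀ (1 + c • Matrix.single a₀ (r j₀) (1 : F)) = _
    rw [slot_add, slot_one, slot_smul]
  have h2 : (((slotGL j₀ β)⁻¹ : GL (Idx t m) F) : Matrix (Idx t m) (Idx t m) F) =
      1 - c • slot m t j₀ (Matrix.single a₀ (r j₀) (1 : F)) := by
    show slot m t j₀ (1 - c • Matrix.single a₀ (r j₀) (1 : F)) = _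
    rw [sub_eq_add_neg, slot_add, slot_one, ← neg_smul, slot_smul, neg_smul, ← sub_eq_add_neg]
  rw [h1, h2, comm_single_slot p r j₀ a₀ ha1 ha2 (hpr j₀) c, nilJ_erase, ext_add28, ext_smul28, ext_one]

end Cfsg.Agent.Lib.Helper28.TWIIBLeaf
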