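import Mathlib
import Cfsg.Agent.Lib.Helper8.TW.Defs
import Cfsg.Agent.Lib.Helper22.TWExtBasic
import Cfsg.Agent.Lib.Helper22.TWExtMore

/-!
S5641 (helper8's market), Stage I, leaves I6f, I6g (helper28): in the final configuration `γ` is scalar.
Common core: a functional `ξ ≠ 0` killing `y`, a vector `y' ∉ F y` with `ξ y' = 0 = ξ (α y')`.
-/

set_option autoImplicit false
set_option linter.unusedSectionVars false
set_option linter.unusedVariables false

namespace Cfsg.Agent.Lib.Helper28.TWLeaf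
open Matrix Cfsg.Geo Cfsg.Agent.Lib.Helper18.AschA89 Cfsg.Agent.Lib.Helper8.TW
open Cfsg.Agent.Lib.Helper22.TWLeaf

variable {F : Type*} [Field F] [Fintype F] {t m : ℕ}

/-- a functional `ψ` with `ψ y = 0`, `ψ y' = 1` for `y' ∉ F y` -/
lemma exists_dual_pair (y y' : Fin m → F) (hy : y ≠ 0) (hy' : ¬ ∃ a : F, y' = a • y) :
    ∃ ψ : Fin m → F, ψ ⬝ᵥ y = 0 ∧ ψ ⬝ᵥ y' = 1 := by
  obtain ⟨k, hk⟩ : ∃ k, y k ≠ 0 := by
    by_contra hcon
    push Not at hcon
    exact hy (funext hcon)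
  obtain ⟨l, hl⟩ : ∃ l, y' l - (y' k / y k) * y l ≠ 0 := by
    by_contra hcon
    push Not at hcon
    apply hy'
    refine ⟨y' k / y k, ?_⟩
    funext j
    have := hcon j
    rw [Pi.smul_apply, smul_eq_mul]
    linear_combination this
  set c : F := (y' l - (y' k / y k) * y l)⁻¹ with hc
  refine ⟨c • (Pi.single l 1 - (y l / y k) • Pi.single k 1), ?_, ?_⟩
  · rw [smul_dotProduct, sub_dotProduct, smul_dotProduct, single_dotProduct, single_dotProduct, one_mul,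
      one_mul, smul_eq_mul, smul_eq_mul]
    field_simp
    ring
  · rw [smul_dotProduct, sub_dotProduct, smul_dotProduct, single_dotProduct, single_dotProduct, one_mul,
      one_mul, smul_eq_mul, smul_eq_mul]
    have e : y' l - y l / y k * y' k = y' l - (y' k / y k) * y l := by field_simp
    rw [e, hc, inv_mul_cancel₀ hl]

/-- `γ` is scalar when `c • γ b = b` for all `b` -/
lemma scalar_of_forall (hm : 0 < m) (γ : Matrix (Idx t m) (Idx t m) F) (c : F)
    (h : ∀ b : Idx t m → F, c • (γ *ᵥ b) = b) :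
    ∃ d : F, d ≠ 0 ∧ γ = d • (1 : Matrix (Idx t m) (Idx t m) F) := by
  have hc : c ≠ 0 := by
    rintro rfl
    have x₀ : Idx t m := fun _ => ⟨0, hm⟩
    have := congrFun (h (Pi.single x₀ 1)) x₀
    rw [zero_smul] at this
    simp at this
  refine ⟨c⁻¹, inv_ne_zero hc, ?_⟩
  ext u u'
  have h1 := congrFun (h (Pi.single u' 1)) u
  rw [Pi.smul_apply, Matrix.mulVec_single_one, smul_eq_mul, Matrix.col_apply] at h1
  rw [Matrix.smul_apply, Matrix.one_apply, smul_eq_mul]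
  have h2 : γ u u' = c⁻¹ * (Pi.single u' (1 : F) : Idx t m → F) u := by
    rw [← h1, ← mul_assoc, inv_mul_cancel₀ hc, one_mul]
  rw [h2, Pi.single_apply]

/-- `ctr` of a difference -/
lemma ctr_sub' (i : Fin (t + 1)) (ξ : Fin m → F) (v w : Idx (t + 1) m → F) :
    ctr i ξ (v - w) = ctr i ξ v - ctr i ξ w := by
  have h : v - w = v + (-1 : F) • w := by rw [neg_one_smul, sub_eq_add_neg]
  rw [h, ctr_add, ctr_smul, neg_one_smul, sub_eq_add_neg]

/-- common core of I6f, I6g -/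
theorem gamma_scalar_core (hm : 0 < m) (i : Fin (t + 1)) (y : Fin m → F) (hy : y ≠ 0)
    (U : Submodule F (Idx (t + 1) m → F))
    (hU1 : ∀ ξ : Fin m → F, ξ ≠ 0 → ξ ⬝ᵥ y = 0 → U ⊓ Cf i ξ = Wf i y)
    (γ : Matrix (Idx t m) (Idx t m) F) (α : Matrix (Fin m) (Fin m) F)
    (hU : ∀ v, (ext i γ * slot m (t + 1) i α) *ᵥ v - v ∈ U)
    (ξ : Fin m → F) (hξ : ξ ≠ 0) (hξy : ξ ⬝ᵥ y = 0)
    (y' : Fin m → F) (hy' : ¬ ∃ a : F, y' = a • y) (hξy' : ξ ⬝ᵥ y' = 0) (hξα : ξ ⬝ᵥ (α *ᵥ y') = 0) :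
    ∃ d : F, d ≠ 0 ∧ γ = d • (1 : Matrix (Idx t m) (Idx t m) F) := by
  obtain ⟨ψ, hψy, hψy'⟩ := exists_dual_pair y y' hy hy'
  apply scalar_of_forall hm γ (ψ ⬝ᵥ (α *ᵥ y'))
  intro b
  have hv : (ext i γ * slot m (t + 1) i α) *ᵥ tens i b y' = tens i (γ *ᵥ b) (α *ᵥ y') := by
    rw [← Matrix.mulVec_mulVec, slot_mulVec_tens, ext_mulVec_tens]
  have hmem : (ext i γ * slot m (t + 1) i α) *ᵥ tens i b y' - tens i b y' ∈ U ⊓ Cf i ξ := by
    refine ⟨hU _, ?_⟩
    rw [SetLike.mem_coe, mem_Cf_iff_ctr, ctr_sub', hv, ctr_tens, ctr_tens, hξα, hξy', zero_smul, zero_smul,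
      sub_zero]
  rw [hU1 ξ hξ hξy, mem_Wf_iff_tens i y hy] at hmem
  obtain ⟨b', hb'⟩ := hmem
  have h2 := congrArg (ctr i ψ) hb'
  rw [ctr_sub', hv, ctr_tens, ctr_tens, ctr_tens, hψy, hψy', zero_smul, one_smul, sub_eq_zero] at h2
  exact h2

/-- I6f (exact signature of `notes/S5641_I_leaves.lean`) -/
theorem I6f (hm : 3 ≤ m) (i : Fin (t + 1)) (y : Fin m → F) (hy : y ≠ 0) (U : Submodule F (Idx (t + 1) m → F))
    (hU1 : ∀ ξ : Fin m → F, ξ ≠ 0 → ξ ⬝ᵥ y = 0 → U ⊓ Cf i ξ = Wf i y)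
    (γ : Matrix (Idx t m) (Idx t m) F) (α : Matrix (Fin m) (Fin m) F)
    (hU : ∀ v, (ext i γ * slot m (t + 1) i α) *ᵥ v - v ∈ U)
    (y' : Fin m → F) (hy' : ¬ ∃ a : F, y' = a • y) (hα : ∃ a b : F, α *ᵥ y' = a • y + b • y') :
    ∃ d : F, d ≠ 0 ∧ γ = d • (1 : Matrix (Idx t m) (Idx t m) F) := by
  -- a functional killing `y` and `y'`
  let f : (Fin m → F) →ₗ[F] (Fin 2 → F) :=
    { toFun := fun ξ => ![ξ ⬝ᵥ y, ξ ⬝ᵥ y']
      map_add' := by
        intro a b
        ext j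
        fin_cases j <;> simp [add_dotProduct]
      map_smul' := by
        intro c a
        ext j
        fin_cases j <;> simp [smul_dotProduct] }
  have hker : LinearMap.ker f ≠ ⊥ := by
    apply LinearMap.ker_ne_bot_of_finrank_lt
    rw [Module.finrank_fintype_fun_eq_card, Module.finrank_fintype_fun_eq_card, Fintype.card_fin,
      Fintype.card_fin]
    omega
  obtain ⟨ξ, hξker, hξ0⟩ := (Submodule.ne_bot_iff _).mp hker
  have hfξ : f ξ = 0 := hξker
  have hξy : ξ ⬝ᵥ y = 0 := by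
    have := congrFun hfξ 0
    simpa [f] using this
  have hξy' : ξ ⬝ᵥ y' = 0 := by
    have := congrFun hfξ 1
    simpa [f] using this
  obtain ⟨a, b, hab⟩ := hα
  refine gamma_scalar_core (by omega) i y hy U hU1 γ α hU ξ hξ0 hξy y' hy' hξy' ?_
  rw [hab, dotProduct_add, dotProduct_smul, dotProduct_smul, hξy, hξy', smul_zero, smul_zero, add_zero]

/-- I6g (exact signature of `notes/S5641_I_leaves.lean`) -/
theorem I6g (hm : 4 ≤ m) (i : Fin (t + 1)) (y : Fin m → F) (hy : y ≠ 0) (U : Submodule F (Idx (t + 1) m → F))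
    (hU1 : ∀ ξ : Fin m → F, ξ ≠ 0 → ξ ⬝ᵥ y = 0 → U ⊓ Cf i ξ = Wf i y)
    (γ : Matrix (Idx t m) (Idx t m) F) (α : Matrix (Fin m) (Fin m) F) (hαdet : IsUnit α.det)
    (hαy : ∃ c : F, α *ᵥ y = c • y)
    (hU : ∀ v, (ext i γ * slot m (t + 1) i α) *ᵥ v - v ∈ U) :
    ∃ d : F, d ≠ 0 ∧ γ = d • (1 : Matrix (Idx t m) (Idx t m) F) := by
  obtain ⟨c, hc⟩ := hαy
  -- `ξ ≠ 0` killing `y`
  let f₁ : (Fin m → F) →ₗ[F] (Fin 1 → F) :=
    { toFun := fun ξ => ![ξ ⬝ᵥ y]
      map_add' := by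
        intro a b
        ext j
        fin_cases j; simp [add_dotProduct]
      map_smul' := by
        intro c a
        ext j
        fin_cases j; simp [smul_dotProduct] }
  have hker₁ : LinearMap.ker f₁ ≠ ⊥ := by
    apply LinearMap.ker_ne_bot_of_finrank_lt
    rw [Module.finrank_fintype_fun_eq_card, Module.finrank_fintype_fun_eq_card, Fintype.card_fin,
      Fintype.card_fin]
    omega
  obtain ⟨ξ, hξker, hξ0⟩ := (Submodule.ne_bot_iff _).mp hker₁
  have hξy : ξ ⬝ᵥ y = 0 := by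
    have := congrFun (show f₁ ξ = 0 from hξker) 0
    simpa [f₁] using this
  -- `y'` outside `F y` killed by `ξ`, `ξ α` : the kernel of `a ↦ (ξ a, ξ (α a), φ a)`, `φ` a functional with `φ y = 1`
  obtain ⟨k, hk⟩ : ∃ k, y k ≠ 0 := by
    by_contra hcon
    push Not at hcon
    exact hy (funext hcon)
  let f₂ : (Fin m → F) →ₗ[F] (Fin 3 → F) :=
    { toFun := fun a => ![ξ ⬝ᵥ a, ξ ⬝ᵥ (α *ᵥ a), a k]
      map_add' := by
        intro a b
        ext j
        fin_cases j <;> simp [dotProduct_add, Matrix.mulVec_add]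
      map_smul' := by
        intro c a
        ext j
        fin_cases j <;> simp [dotProduct_smul, Matrix.mulVec_smul] }
  have hker₂ : LinearMap.ker f₂ ≠ ⊥ := by
    apply LinearMap.ker_ne_bot_of_finrank_lt
    rw [Module.finrank_fintype_fun_eq_card, Module.finrank_fintype_fun_eq_card, Fintype.card_fin,
      Fintype.card_fin]
    omega
  obtain ⟨y', hy'ker, hy'0⟩ := (Submodule.ne_bot_iff _).mp hker₂
  have hf₂ : f₂ y' = 0 := hy'ker
  have h0 : ξ ⬝ᵥ y' = 0 := by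
    have := congrFun hf₂ 0
    simpa [f₂] using this
  have h1 : ξ ⬝ᵥ (α *ᵥ y') = 0 := by
    have := congrFun hf₂ 1
    simpa [f₂] using this
  have h2 : y' k = 0 := by
    have := congrFun hf₂ 2
    simpa [f₂] using this
  refine gamma_scalar_core (by omega) i y hy U hU1 γ α hU ξ hξ0 hξy y' ?_ h0 h1
  rintro ⟨a, ha⟩
  have h3 := congrFun ha k
  rw [h2, Pi.smul_apply, smul_eq_mul] at h3
  have ha0 : a = 0 := by
    rcases mul_eq_zero.mp h3.symm with h | h
    · exact h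
    · exact absurd h hk
  apply hy'0
  rw [ha, ha0, zero_smul]

end Cfsg.Agent.Lib.Helper28.TWLeaf
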