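import Mathlib
import Cfsg.Agent.Lib.Helper8.TW.Defs
import Cfsg.Agent.Lib.Helper22.TWExtBasic
import Cfsg.Agent.Lib.Helper22.TWExtMore
import Cfsg.Agent.Lib.Helper28.TWI6fg

/-!
S5641 (helper8's market), Stage I, leaf I6h (helper28): `m = 3`, no eigen case ⟹ a quadratic relation for `γ`.
-/

set_option autoImplicit false
set_option linter.unusedSectionVars false
set_option linter.unusedVariables false

namespace Cfsg.Agent.Lib.Helper28.TWLeaf
open Matrix Module Cfsg.Geo Cfsg.Agent.Lib.Helper18.AschA89 Cfsg.Agent.Lib.Helper8.TW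
open Cfsg.Agent.Lib.Helper22.TWLeaf

variable {F : Type*} [Field F] [Fintype F] {t m : ℕ}

/-- a functional vanishing on `S` with value `1` at `a ∉ S` -/
lemma exists_dual_of_not_mem (S : Submodule F (Fin m → F)) (a : Fin m → F) (ha : a ∉ S) :
    ∃ ξ : Fin m → F, (∀ s ∈ S, ξ ⬝ᵥ s = 0) ∧ ξ ⬝ᵥ a = 1 := by
  by_contra hcon
  push Not at hcon
  apply ha
  apply mem_of_forall_dotProduct S a
  intro ξ hξ
  by_contra h0
  apply hcon ((ξ ⬝ᵥ a)⁻¹ • ξ)
  · intro s hs
    rw [smul_dotProduct, hξ s hs, smul_zero]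
  · rw [smul_dotProduct, smul_eq_mul, inv_mul_cancel₀ h0]

/-- three vectors `y, e, w` of `F³` with `e ∉ F y`, `w ∉ span {y, e}` span everything -/
lemma span_three (y e w : Fin 3 → F) (hy : y ≠ 0) (he : ¬ ∃ a : F, e = a • y)
    (hw : ¬ ∃ a b : F, w = a • y + b • e) (v : Fin 3 → F) :
    ∃ a b c : F, v = a • y + b • e + c • w := by
  set S1 : Submodule F (Fin 3 → F) := Submodule.span F {y} with hS1
  set S2 : Submodule F (Fin 3 → F) := Submodule.span F {y, e} with hS2
  set S3 : Submodule F (Fin 3 → F) := S2 ⊔ Submodule.span F {w} with hS3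
  have hyS1 : y ∈ S1 := Submodule.mem_span_singleton_self y
  have h01 : (⊥ : Submodule F (Fin 3 → F)) < S1 := by
    rw [bot_lt_iff_ne_bot]
    intro h
    rw [h, Submodule.mem_bot] at hyS1
    exact hy hyS1
  have h12 : S1 < S2 := by
    refine lt_of_le_of_ne (Submodule.span_mono (by simp)) ?_
    intro h
    have : e ∈ S1 := by
      rw [h]
      exact Submodule.subset_span (by simp)
    obtain ⟨a, ha⟩ := Submodule.mem_span_singleton.mp this
    exact he ⟨a, ha.symm⟩
  have h23 : S2 < S3 := by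
    refine lt_of_le_of_ne le_sup_left ?_
    intro h
    have : w ∈ S2 := by
      rw [h]
      exact Submodule.mem_sup_right (Submodule.mem_span_singleton_self w)
    obtain ⟨a, b, hab⟩ := Submodule.mem_span_pair.mp this
    exact hw ⟨a, b, hab.symm⟩
  have f01 := Submodule.finrank_lt_finrank_of_lt h01
  have f12 := Submodule.finrank_lt_finrank_of_lt h12
  have f23 := Submodule.finrank_lt_finrank_of_lt h23
  rw [finrank_bot] at f01
  have f3 := Submodule.finrank_le S3
  rw [Module.finrank_fintype_fun_eq_card, Fintype.card_fin] at f3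
  have htop : S3 = ⊤ := by
    apply Submodule.eq_top_of_finrank_eq
    rw [Module.finrank_fintype_fun_eq_card, Fintype.card_fin]
    omega
  have hv : v ∈ S3 := by rw [htop]; trivial
  obtain ⟨s, hs, u, hu, rfl⟩ := Submodule.mem_sup.mp hv
  obtain ⟨a, b, rfl⟩ := Submodule.mem_span_pair.mp hs
  obtain ⟨c, rfl⟩ := Submodule.mem_span_singleton.mp hu
  exact ⟨a, b, c, rfl⟩

/-- matrices agreeing on all vectors are equal -/
lemma mat_eq_zero_of_mulVec {κ : Type*} [Fintype κ] [DecidableEq κ] (M : Matrix κ κ F)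
    (h : ∀ v : κ → F, M *ᵥ v = 0) : M = 0 := by
  ext u u'
  have := congrFun (h (Pi.single u' 1)) u
  rw [Matrix.mulVec_single_one] at this
  exact this

/-- I6h (exact signature of `notes/S5641_I_leaves.lean`) -/
theorem I6h (i : Fin (t + 1)) (y : Fin 3 → F) (hy : y ≠ 0) (U : Submodule F (Idx (t + 1) 3 → F))
    (hU1 : ∀ ξ : Fin 3 → F, ξ ≠ 0 → ξ ⬝ᵥ y = 0 → U ⊓ Cf i ξ = Wf i y)
    (γ : Matrix (Idx t 3) (Idx t 3) F) (hγ : IsUnit γ.det) (α : Matrix (Fin 3) (Fin 3) F) (hαdet : IsUnit α.det)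
    (hαy : ∃ c : F, α *ᵥ y = c • y)
    (hU : ∀ v, (ext i γ * slot 3 (t + 1) i α) *ᵥ v - v ∈ U)
    (hno : ∀ y' : Fin 3 → F, (¬ ∃ a : F, y' = a • y) → ¬ ∃ a b : F, α *ᵥ y' = a • y + b • y') :
    ∃ ν τ : F, ν ≠ 0 ∧ (∀ l : F, ν * l ^ 2 - τ * l + 1 ≠ 0) ∧ ν • (γ * γ) - τ • γ + 1 = 0 := by
  -- `e ∉ F y`
  obtain ⟨k, hk⟩ : ∃ k, y k ≠ 0 := by
    by_contra hcon
    push Not at hcon
    exact hy (funext hcon)
  obtain ⟨l, hlk⟩ : ∃ l : Fin 3, l ≠ k := by
    by_cases h0 : k = 0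
    · exact ⟨1, by rw [h0]; decide⟩
    · exact ⟨0, fun h => h0 h.symm⟩
  set e : Fin 3 → F := Pi.single l 1 with he_def
  have he : ¬ ∃ a : F, e = a • y := by
    rintro ⟨a, ha⟩
    have h1 := congrFun ha k
    rw [he_def, Pi.single_eq_of_ne (Ne.symm hlk), Pi.smul_apply, smul_eq_mul] at h1
    have ha0 : a = 0 := by
      rcases mul_eq_zero.mp h1.symm with h | h
      · exact h
      · exact absurd h hk
    have h2 := congrFun ha l
    rw [he_def, Pi.single_eq_same, ha0, zero_smul] at h2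
    exact one_ne_zero h2
  set w : Fin 3 → F := α *ᵥ e with hw_def
  have hw : ¬ ∃ a b : F, w = a • y + b • e := hno e he
  -- `w ∉ F y`
  have hwy : ¬ ∃ a : F, w = a • y := by
    rintro ⟨a, ha⟩
    exact hw ⟨a, 0, by rw [ha, zero_smul, add_zero]⟩
  -- coordinates of `α w`
  obtain ⟨μ, n', τ, hαw⟩ := span_three y e w hy he hw (α *ᵥ w)
  -- the functionals
  obtain ⟨ξ, hξS, hξw⟩ := exists_dual_of_not_mem (Submodule.span F {y, e}) w (by
    intro h
    obtain ⟨a, b, hab⟩ := Submodule.mem_span_pair.mp h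
    exact hw ⟨a, b, hab.symm⟩)
  have hξy : ξ ⬝ᵥ y = 0 := hξS y (Submodule.subset_span (by simp))
  have hξe : ξ ⬝ᵥ e = 0 := hξS e (Submodule.subset_span (by simp))
  have hξ0 : ξ ≠ 0 := by
    rintro rfl
    rw [zero_dotProduct] at hξw
    exact zero_ne_one hξw
  obtain ⟨ψ, hψS, hψe⟩ := exists_dual_of_not_mem (Submodule.span F {y, w}) e (by
    intro h
    obtain ⟨a, b, hab⟩ := Submodule.mem_span_pair.mp h
    by_cases hb : b = 0
    · apply he
      refine ⟨a, ?_⟩
      rw [← hab, hb, zero_smul, add_zero]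
    · apply hw
      refine ⟨-(b⁻¹ * a), b⁻¹, ?_⟩
      rw [← hab, smul_add, smul_smul, smul_smul, inv_mul_cancel₀ hb, one_smul, neg_smul]
      abel)
  have hψy : ψ ⬝ᵥ y = 0 := hψS y (Submodule.subset_span (by simp))
  have hψw : ψ ⬝ᵥ w = 0 := hψS w (Submodule.subset_span (by simp))
  have hξαw : ξ ⬝ᵥ (α *ᵥ w) = τ := by
    rw [hαw, dotProduct_add, dotProduct_add, dotProduct_smul, dotProduct_smul, dotProduct_smul, hξy, hξe,
      hξw, smul_zero, smul_zero, zero_add, zero_add, smul_eq_mul, mul_one]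
  have hψαw : ψ ⬝ᵥ (α *ᵥ w) = n' := by
    rw [hαw, dotProduct_add, dotProduct_add, dotProduct_smul, dotProduct_smul, dotProduct_smul, hψy, hψe,
      hψw, smul_zero, smul_zero, zero_add, add_zero, smul_eq_mul, mul_one]
  -- the relation, vectorwise
  have hinv : γ⁻¹ * γ = 1 := Matrix.nonsing_inv_mul γ hγ
  have hinv' : γ * γ⁻¹ = 1 := Matrix.mul_nonsing_inv γ hγ
  have hrel : ∀ b' : Idx t 3 → F, γ⁻¹ *ᵥ b' - τ • b' = n' • (γ *ᵥ b') := by
    intro b'
    set b : Idx t 3 → F := γ⁻¹ *ᵥ b' - τ • b' with hb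
    set v : Idx (t + 1) 3 → F := tens i b e + tens i b' w with hv
    have hhv : (ext i γ * slot 3 (t + 1) i α) *ᵥ v =
        tens i (γ *ᵥ b) w + tens i (γ *ᵥ b') (α *ᵥ w) := by
      rw [hv, Matrix.mulVec_add, ← Matrix.mulVec_mulVec, ← Matrix.mulVec_mulVec, slot_mulVec_tens,
        slot_mulVec_tens, ext_mulVec_tens, ext_mulVec_tens]
    have hγb : γ *ᵥ b = b' - τ • (γ *ᵥ b') := by
      rw [hb, Matrix.mulVec_sub, Matrix.mulVec_mulVec, hinv', Matrix.one_mulVec, Matrix.mulVec_smul]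
    have hmem : (ext i γ * slot 3 (t + 1) i α) *ᵥ v - v ∈ U ⊓ Cf i ξ := by
      refine ⟨hU _, ?_⟩
      rw [SetLike.mem_coe, mem_Cf_iff_ctr, ctr_sub', hhv, hv, ctr_add, ctr_add, ctr_tens, ctr_tens, ctr_tens,
        ctr_tens, hξw, hξαw, hξe, one_smul, one_smul, zero_smul, zero_add, hγb]
      abel
    rw [hU1 ξ hξ0 hξy, mem_Wf_iff_tens i y hy] at hmem
    obtain ⟨b'', hb''⟩ := hmem
    have h2 := congrArg (ctr i ψ) hb''
    rw [ctr_sub', hhv, hv, ctr_add, ctr_add, ctr_tens, ctr_tens, ctr_tens, ctr_tens, ctr_tens, hψw, hψαw, hψe,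
      hψy, zero_smul, zero_smul, zero_smul, one_smul, zero_add, add_zero, sub_eq_zero] at h2
    exact h2.symm
  set ν : F := -n' with hν_def
  have hmat : ν • (γ * γ) - τ • γ + 1 = 0 := by
    apply mat_eq_zero_of_mulVec
    intro b'
    have h1 := hrel b'
    have h2 := congrArg (fun x => γ *ᵥ x) h1
    simp only [Matrix.mulVec_sub, Matrix.mulVec_mulVec, hinv', Matrix.one_mulVec, Matrix.mulVec_smul] at h2
    rw [Matrix.add_mulVec, Matrix.sub_mulVec, Matrix.smul_mulVec, Matrix.smul_mulVec, Matrix.one_mulVec,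
      hν_def, neg_smul, ← h2]
    abel
  refine ⟨ν, τ, ?_, ?_, hmat⟩
  · -- `ν ≠ 0`
    intro hν0
    have hn0 : n' = 0 := by rw [hν_def] at hν0; exact neg_eq_zero.mp hν0
    apply hno w hwy
    refine ⟨μ, τ, ?_⟩
    rw [hαw, hn0, zero_smul, add_zero]
  · -- no roots
    intro r hr
    have hr0 : r ≠ 0 := by
      rintro rfl
      have : (1 : F) = 0 := by linear_combination hr
      exact one_ne_zero this
    set lam : F := r⁻¹ with hlam
    have hlam2 : lam ^ 2 - τ * lam + ν = 0 := by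
      rw [hlam]
      field_simp
      linear_combination hr
    set y'' : Fin 3 → F := w + (lam - τ) • e with hy''
    have hy''y : ¬ ∃ a : F, y'' = a • y := by
      rintro ⟨a, ha⟩
      apply hw
      refine ⟨a, -(lam - τ), ?_⟩
      rw [← ha, hy'', neg_smul]
      abel
    apply hno y'' hy''y
    refine ⟨μ, lam, ?_⟩
    have hne : n' = lam * (lam - τ) := by
      have : ν = -(lam ^ 2 - τ * lam) := by linear_combination hlam2
      rw [hν_def] at this
      linear_combination -this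
    rw [hy'', Matrix.mulVec_add, Matrix.mulVec_smul, ← hw_def, hαw, hne]
    module

end Cfsg.Agent.Lib.Helper28.TWLeaf
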