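import Mathlib
import Cfsg.Agent.Lib.Helper20.AschDefs
import Cfsg.Agent.Lib.Helper18.AschA89Defs

/-!
S5630 (Aschbacher), block (A89), leaf L1 `homog_of_cfam` (helper28), EXACT signature of
`notes/S5630_A89_leaves.lean`.
-/

set_option autoImplicit false
set_option linter.unusedSectionVars false
set_option linter.unusedVariables false

namespace Cfsg.Agent.Lib.Helper28.AschLeaf
open Matrix Cfsg.Geo Cfsg.Agent.Lib.Helper20.Asch Cfsg.Agent.Lib.Helper18.AschA89
open scoped Kronecker

variable {F : Type*} [Field F] [Fintype F] {n : ℕ} {H N : Subgroup (GL (Fin n) F)}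

/-- L1: `V|_{Nf i}` is homogeneous. -/
theorem homog_of_cfam {r : ℕ} {Nf : Fin r → Subgroup (GL (Fin n) F)} (hn : 0 < n)
    (hfam : CFam H N r Nf) (hirrN : Irr N) (i : Fin r)
    (hCL : Homog (Nf i) ∨ ∃ (t m : ℕ) (D : Fin t → Submodule F (Fin n → F)), IsMDecomposition m D ∧
      N ≤ decompositionStabilizer D ∧
      (∀ T : Matrix (Fin n) (Fin n) F, T ∈ Cen (Nf i) → ∀ j, (D j).map (Matrix.toLin' T) ≤ D j) ∧
      (∀ x ∈ Nf i, ∀ j, (D j).map (Matrix.toLin' (x : Matrix (Fin n) (Fin n) F)) ≤ D j) ∧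
      (∀ j j', ∃ y ∈ N, (D j).map (Matrix.toLin' (y : Matrix (Fin n) (Fin n) F)) = D j')) :
    Homog (Nf i) := by
  rcases hCL with h | ⟨t, m, D, hD, _, hcen, hself, htrans⟩
  · exact h
  exfalso
  -- every factor preserves every block
  have hNf : ∀ k, ∀ x ∈ Nf k, ∀ j, (D j).map (Matrix.toLin' (x : Matrix (Fin n) (Fin n) F)) ≤ D j := by
    intro k x hx j
    by_cases hki : k = i
    · subst hki
      exact hself x hx j
    · apply hcen
      rw [mem_Cen]
      intro y hy
      have := congrArg (fun g : GL (Fin n) F => (g : Matrix (Fin n) (Fin n) F))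
        (hfam.comm k i hki x hx y hy)
      simp only [Units.val_mul] at this
      exact this.symm
  -- hence so does `N`
  have hN : ∀ x ∈ N, ∀ j, (D j).map (Matrix.toLin' (x : Matrix (Fin n) (Fin n) F)) ≤ D j := by
    intro x hx
    rw [← hfam.sup] at hx
    refine Subgroup.iSup_induction Nf
      (C := fun x => ∀ j, (D j).map (Matrix.toLin' (x : Matrix (Fin n) (Fin n) F)) ≤ D j) hx ?_ ?_ ?_
    · intro k x hx
      exact hNf k x hx
    · intro j
      rintro _ ⟨w, hw, rfl⟩
      simpa using hw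
    · intro x y hx hy j
      rintro _ ⟨w, hw, rfl⟩
      rw [Units.val_mul, Matrix.toLin'_mul, LinearMap.comp_apply]
      exact hx j ⟨_, hy j ⟨w, hw, rfl⟩, rfl⟩
  have h2 := hD.two_le
  let j0 : Fin t := ⟨0, by omega⟩
  let j1 : Fin t := ⟨1, by omega⟩
  have hne : j0 ≠ j1 := by
    intro h
    have := congrArg Fin.val h
    simp [j0, j1] at this
  obtain ⟨y, hy, hyD⟩ := htrans j0 j1
  have hle : D j1 ≤ D j0 := by
    rw [← hyD]
    exact hN y hy j0
  have hdis : Disjoint (D j0) (D j1) := hD.indep.pairwiseDisjoint hne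
  have hbot : D j1 = ⊥ := by
    have h1 := disjoint_iff.1 hdis
    rw [inf_eq_right.2 hle] at h1
    exact h1
  have hfr := hD.finrank_eq j1
  rw [hbot, finrank_bot] at hfr
  have := hD.pos
  omega

end Cfsg.Agent.Lib.Helper28.AschLeaf
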