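import Mathlib
import Cfsg.Agent.Lib.Helper20.AschDefs
import Cfsg.Agent.Lib.Helper18.AschA89Defs

/-!
S5630 (Aschbacher), block (A89), the small LINEAR leaves (helper28): L3a `isUnits_conjR`, L3b `conjR_kron_eq_sum`,
L4a `isUnits_conj`, L4b `env_cj`, L4c `env_cj_inv`, L5 `env_commute`, SL `slot_eq_sum`, IRR `irr_units_of_cfam`.
EXACT signatures of `notes/S5630_A89_leaves.lean`.
-/

set_option autoImplicit false
set_option linter.unusedSectionVars false
set_option linter.unusedVariables false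

namespace Cfsg.Agent.Lib.Helper28.AschLeaf
open Matrix Cfsg.Geo Cfsg.Agent.Lib.Helper20.Asch Cfsg.Agent.Lib.Helper18.AschA89
open scoped Kronecker

variable {F : Type*} [Field F] [Fintype F] {n : ℕ} {H N : Subgroup (GL (Fin n) F)}

/-! ### `conjR` as a linear map -/

/-- `A ↦ conjR e P (A ⊗ 1)` as a linear map -/
noncomputable def conjRK {s k : ℕ} (e : Fin n ≃ Fin s × Fin k) (P : GL (Fin n) F) :
    Matrix (Fin s) (Fin s) F →ₗ[F] Matrix (Fin n) (Fin n) F where
  toFun A := conjR e P (A ⊗ₖ (1 : Matrix (Fin k) (Fin k) F))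
  map_add' A B := by rw [Matrix.add_kronecker, conjR_add]
  map_smul' c A := by rw [Matrix.smul_kronecker, conjR_smul]; rfl

lemma conjRK_apply {s k : ℕ} (e : Fin n ≃ Fin s × Fin k) (P : GL (Fin n) F)
    (A : Matrix (Fin s) (Fin s) F) :
    conjRK e P A = conjR e P (A ⊗ₖ (1 : Matrix (Fin k) (Fin k) F)) := rfl

lemma sum_single_diag (s : ℕ) : ∑ a : Fin s, Matrix.single a a (1 : F) = 1 := by
  ext i j
  rw [Matrix.sum_apply]
  simp only [Matrix.single_apply, Matrix.one_apply]
  by_cases hij : i = j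
  · subst hij
    simp
  · simp only [hij, if_false]
    apply Finset.sum_eq_zero
    intro a _
    by_cases h1 : a = i
    · subst h1; simp [hij]
    · simp [h1]

/-- L3a: the standard matrix units of `M_s(F) ⊗ 1`, transported. -/
theorem isUnits_conjR {s k : ℕ} (e : Fin n ≃ Fin s × Fin k) (P : GL (Fin n) F) :
    IsUnits (fun a b : Fin s =>
      conjR e P (Matrix.single a b (1 : F) ⊗ₖ (1 : Matrix (Fin k) (Fin k) F))) := by
  constructor
  · intro a b c d
    show conjR e P _ * conjR e P _ = _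
    rw [← conjR_mul, ← Matrix.mul_kronecker_mul, one_mul]
    by_cases hbc : b = c
    · subst hbc
      rw [if_pos rfl, Matrix.single_mul_single_same, one_mul]
    · rw [if_neg hbc, Matrix.single_mul_single_of_ne _ _ _ _ hbc, Matrix.zero_kronecker]
      have := conjR_smul e P (0 : F) (0 : Matrix (Fin s × Fin k) (Fin s × Fin k) F)
      rw [zero_smul, zero_smul] at this
      exact this
  · show ∑ a, conjRK e P (Matrix.single a a (1 : F)) = 1
    rw [← map_sum, sum_single_diag, conjRK_apply, Matrix.one_kronecker_one, conjR_one]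

/-- L3b: `A ⊗ 1` is the corresponding combination of the units. -/
theorem conjR_kron_eq_sum {s k : ℕ} (e : Fin n ≃ Fin s × Fin k) (P : GL (Fin n) F)
    (A : Matrix (Fin s) (Fin s) F) :
    conjR e P (A ⊗ₖ (1 : Matrix (Fin k) (Fin k) F)) =
      ∑ a, ∑ b, A a b • conjR e P (Matrix.single a b (1 : F) ⊗ₖ (1 : Matrix (Fin k) (Fin k) F)) := by
  have hA : A = ∑ a, ∑ b, A a b • Matrix.single a b (1 : F) := by
    conv_lhs => rw [Matrix.matrix_eq_sum_single A]
    refine Finset.sum_congr rfl fun a _ => Finset.sum_congr rfl fun b _ => ?_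
    rw [Matrix.smul_single, smul_eq_mul, mul_one]
  show conjRK e P A = ∑ a, ∑ b, A a b • conjRK e P (Matrix.single a b (1 : F))
  conv_lhs => rw [hA]
  rw [map_sum]
  refine Finset.sum_congr rfl fun a _ => ?_
  rw [map_sum]
  refine Finset.sum_congr rfl fun b _ => ?_
  rw [map_smul]

/-- L4a: conjugating a system of units. -/
theorem isUnits_conj {ι : Type} [Fintype ι] [DecidableEq ι] (E : ι → ι → Matrix (Fin n) (Fin n) F)
    (hE : IsUnits E) (h : GL (Fin n) F) :
    IsUnits (fun a b => (h : Matrix (Fin n) (Fin n) F) * E a b *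
      ((h⁻¹ : GL (Fin n) F) : Matrix (Fin n) (Fin n) F)) := by
  have h2 : ((h⁻¹ : GL (Fin n) F) : Matrix (Fin n) (Fin n) F) * (h : Matrix (Fin n) (Fin n) F) = 1 := by
    rw [← Units.val_mul, inv_mul_cancel, Units.val_one]
  have h3 : (h : Matrix (Fin n) (Fin n) F) * ((h⁻¹ : GL (Fin n) F) : Matrix (Fin n) (Fin n) F) = 1 := by
    rw [← Units.val_mul, mul_inv_cancel, Units.val_one]
  constructor
  · intro a b c d
    show (h : Matrix (Fin n) (Fin n) F) * E a b * ((h⁻¹ : GL (Fin n) F) : Matrix (Fin n) (Fin n) F) *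
      ((h : Matrix (Fin n) (Fin n) F) * E c d * ((h⁻¹ : GL (Fin n) F) : Matrix (Fin n) (Fin n) F)) = _
    have : (h : Matrix (Fin n) (Fin n) F) * E a b * ((h⁻¹ : GL (Fin n) F) : Matrix (Fin n) (Fin n) F) *
        ((h : Matrix (Fin n) (Fin n) F) * E c d * ((h⁻¹ : GL (Fin n) F) : Matrix (Fin n) (Fin n) F)) =
        (h : Matrix (Fin n) (Fin n) F) * (E a b * E c d) *
          ((h⁻¹ : GL (Fin n) F) : Matrix (Fin n) (Fin n) F) := by
      calc _ = (h : Matrix (Fin n) (Fin n) F) * E a b *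
            (((h⁻¹ : GL (Fin n) F) : Matrix (Fin n) (Fin n) F) * (h : Matrix (Fin n) (Fin n) F)) * E c d *
            ((h⁻¹ : GL (Fin n) F) : Matrix (Fin n) (Fin n) F) := by simp only [mul_assoc]
        _ = _ := by rw [h2, mul_one]; simp only [mul_assoc]
    rw [this, hE.mul]
    by_cases hbc : b = c
    · rw [if_pos hbc, if_pos hbc]
    · rw [if_neg hbc, if_neg hbc, mul_zero, zero_mul]
  · show ∑ a, (h : Matrix (Fin n) (Fin n) F) * E a a *
      ((h⁻¹ : GL (Fin n) F) : Matrix (Fin n) (Fin n) F) = 1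
    rw [← Finset.sum_mul, ← Finset.mul_sum, hE.sum, mul_one, h3]

/-- L4b: the enveloping algebra of a conjugate subgroup. -/
theorem env_cj (h : GL (Fin n) F) (X : Subgroup (GL (Fin n) F)) (T : Matrix (Fin n) (Fin n) F)
    (hT : T ∈ Env X) :
    (h : Matrix (Fin n) (Fin n) F) * T * ((h⁻¹ : GL (Fin n) F) : Matrix (Fin n) (Fin n) F) ∈ Env (cj h X) := by
  have h2 : ((h⁻¹ : GL (Fin n) F) : Matrix (Fin n) (Fin n) F) * (h : Matrix (Fin n) (Fin n) F) = 1 := by
    rw [← Units.val_mul, inv_mul_cancel, Units.val_one]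
  have h3 : (h : Matrix (Fin n) (Fin n) F) * ((h⁻¹ : GL (Fin n) F) : Matrix (Fin n) (Fin n) F) = 1 := by
    rw [← Units.val_mul, mul_inv_cancel, Units.val_one]
  unfold Env at hT ⊢
  induction hT using Algebra.adjoin_induction with
  | mem x hx =>
    obtain ⟨g, hg, rfl⟩ := hx
    apply Algebra.subset_adjoin
    refine ⟨h * g * h⁻¹, mem_cj.2 ⟨g, hg, rfl⟩, ?_⟩
    simp only [Units.val_mul]
  | algebraMap r =>
    rw [Algebra.algebraMap_eq_smul_one, Matrix.mul_smul, Matrix.smul_mul, mul_one, h3]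
    exact Subalgebra.smul_mem _ (Subalgebra.one_mem _) r
  | add S T' _ _ hS hT' =>
    rw [mul_add, add_mul]
    exact Subalgebra.add_mem _ hS hT'
  | mul S T' _ _ hS hT' =>
    have : (h : Matrix (Fin n) (Fin n) F) * (S * T') * ((h⁻¹ : GL (Fin n) F) : Matrix (Fin n) (Fin n) F) =
        ((h : Matrix (Fin n) (Fin n) F) * S * ((h⁻¹ : GL (Fin n) F) : Matrix (Fin n) (Fin n) F)) *
        ((h : Matrix (Fin n) (Fin n) F) * T' * ((h⁻¹ : GL (Fin n) F) : Matrix (Fin n) (Fin n) F)) := by
      calc _ = (h : Matrix (Fin n) (Fin n) F) * S * 1 * T' *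
            ((h⁻¹ : GL (Fin n) F) : Matrix (Fin n) (Fin n) F) := by rw [mul_one]; simp only [mul_assoc]
        _ = _ := by rw [← h2]; simp only [mul_assoc]
    rw [this]
    exact Subalgebra.mul_mem _ hS hT'

/-- L4c: and back. -/
theorem env_cj_inv (h : GL (Fin n) F) (X : Subgroup (GL (Fin n) F)) (T : Matrix (Fin n) (Fin n) F)
    (hT : T ∈ Env (cj h X)) :
    ((h⁻¹ : GL (Fin n) F) : Matrix (Fin n) (Fin n) F) * T * (h : Matrix (Fin n) (Fin n) F) ∈ Env X := by
  have h2 : ((h⁻¹ : GL (Fin n) F) : Matrix (Fin n) (Fin n) F) * (h : Matrix (Fin n) (Fin n) F) = 1 := by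
    rw [← Units.val_mul, inv_mul_cancel, Units.val_one]
  have h3 : (h : Matrix (Fin n) (Fin n) F) * ((h⁻¹ : GL (Fin n) F) : Matrix (Fin n) (Fin n) F) = 1 := by
    rw [← Units.val_mul, mul_inv_cancel, Units.val_one]
  unfold Env at hT ⊢
  induction hT using Algebra.adjoin_induction with
  | mem x hx =>
    obtain ⟨g, hg, rfl⟩ := hx
    obtain ⟨g₀, hg₀, rfl⟩ := mem_cj.1 hg
    apply Algebra.subset_adjoin
    refine ⟨g₀, hg₀, ?_⟩
    simp only [Units.val_mul]
    calc (g₀ : Matrix (Fin n) (Fin n) F) = 1 * (g₀ : Matrix (Fin n) (Fin n) F) * 1 := by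
          rw [one_mul, mul_one]
      _ = _ := by rw [← h2]; simp only [mul_assoc]
  | algebraMap r =>
    rw [Algebra.algebraMap_eq_smul_one, Matrix.mul_smul, Matrix.smul_mul, mul_one, h2]
    exact Subalgebra.smul_mem _ (Subalgebra.one_mem _) r
  | add S T' _ _ hS hT' =>
    rw [mul_add, add_mul]
    exact Subalgebra.add_mem _ hS hT'
  | mul S T' _ _ hS hT' =>
    have : ((h⁻¹ : GL (Fin n) F) : Matrix (Fin n) (Fin n) F) * (S * T') * (h : Matrix (Fin n) (Fin n) F) =
        (((h⁻¹ : GL (Fin n) F) : Matrix (Fin n) (Fin n) F) * S * (h : Matrix (Fin n) (Fin n) F)) *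
        (((h⁻¹ : GL (Fin n) F) : Matrix (Fin n) (Fin n) F) * T' * (h : Matrix (Fin n) (Fin n) F)) := by
      calc _ = ((h⁻¹ : GL (Fin n) F) : Matrix (Fin n) (Fin n) F) * S * 1 * T' *
            (h : Matrix (Fin n) (Fin n) F) := by rw [mul_one]; simp only [mul_assoc]
        _ = _ := by rw [← h3]; simp only [mul_assoc]
    rw [this]
    exact Subalgebra.mul_mem _ hS hT'

/-- L5: enveloping algebras of elementwise commuting subgroups commute. -/
theorem env_commute {X Y : Subgroup (GL (Fin n) F)} (hXY : ∀ x ∈ X, ∀ y ∈ Y, x * y = y * x) :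
    ∀ S ∈ Env X, ∀ T ∈ Env Y, S * T = T * S := by
  -- every `x ∈ X` commutes with `Env Y`
  have h1 : ∀ x ∈ X, ∀ T ∈ Env Y, (x : Matrix (Fin n) (Fin n) F) * T = T * (x : Matrix (Fin n) (Fin n) F) := by
    intro x hx T hT
    have hle : Env Y ≤ Subalgebra.centralizer F ({(x : Matrix (Fin n) (Fin n) F)} : Set _) := by
      unfold Env
      apply Algebra.adjoin_le
      rintro _ ⟨y, hy, rfl⟩
      rw [SetLike.mem_coe, Subalgebra.mem_centralizer_iff]
      intro g hg
      rw [Set.mem_singleton_iff] at hg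
      subst hg
      have := congrArg (fun g : GL (Fin n) F => (g : Matrix (Fin n) (Fin n) F)) (hXY x hx y hy)
      simpa only [Units.val_mul] using this
    have := (Subalgebra.mem_centralizer_iff F).1 (hle hT) _ (Set.mem_singleton _)
    exact this
  intro S hS T hT
  have hle : Env X ≤ Subalgebra.centralizer F ({T} : Set (Matrix (Fin n) (Fin n) F)) := by
    unfold Env
    apply Algebra.adjoin_le
    rintro _ ⟨x, hx, rfl⟩
    rw [SetLike.mem_coe, Subalgebra.mem_centralizer_iff]
    intro g hg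
    rw [Set.mem_singleton_iff] at hg
    subst hg
    exact (h1 x hx g hT).symm
  have := (Subalgebra.mem_centralizer_iff F).1 (hle hS) _ (Set.mem_singleton _)
  exact this.symm

/-- SL: `slot` is linear in the matrix. -/
theorem slot_eq_sum (m t : ℕ) (i : Fin t) (A : Matrix (Fin m) (Fin m) F) :
    slot m t i A = ∑ a, ∑ b, A a b • slot m t i (Matrix.single a b (1 : F)) := by
  ext x y
  rw [Matrix.sum_apply]
  simp only [Matrix.sum_apply, Matrix.smul_apply, slot_apply, smul_eq_mul]
  by_cases hc : ∀ j, j ≠ i → x j = y j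
  · simp only [if_pos hc, Matrix.single_apply]
    rw [Finset.sum_eq_single (x i)]
    · rw [Finset.sum_eq_single (y i)]
      · simp
      · intro b _ hb
        simp [hb]
      · intro h; exact absurd (Finset.mem_univ _) h
    · intro a _ ha
      apply Finset.sum_eq_zero
      intro b _
      simp [ha]
    · intro h; exact absurd (Finset.mem_univ _) h
  · simp only [if_neg hc, mul_zero, Finset.sum_const_zero]

end Cfsg.Agent.Lib.Helper28.AschLeaf
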