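import Mathlib
import Cfsg.Agent.Lib.Helper20.AschDefs
import Cfsg.Agent.Lib.Helper18.AschA89Defs

/-!
S5630 (Aschbacher), block (A89), leaf WRT `mem_tensorWreath_of_perm` (helper28), EXACT signature of
`notes/S5630_A89_leaves.lean`.
-/

set_option autoImplicit false
set_option linter.unusedSectionVars false
set_option linter.unusedVariables false

namespace Cfsg.Agent.Lib.Helper28.AschLeaf
open Matrix Cfsg.Geo Cfsg.Agent.Lib.Helper20.Asch Cfsg.Agent.Lib.Helper18.AschA89
open scoped Kronecker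

variable {F : Type*} [Field F] [Fintype F] {n : ℕ} {H N : Subgroup (GL (Fin n) F)}

lemma glReindex_val {κ ι : Type} [Fintype κ] [DecidableEq κ] [Fintype ι] [DecidableEq ι] (e : κ ≃ ι)
    (x : GL κ F) : ((glReindex e x : GL ι F) : Matrix ι ι F) = Matrix.reindex e e (x : Matrix κ κ F) := rfl

lemma reindex_symm_reindex {κ ι : Type} [Fintype κ] [DecidableEq κ] [Fintype ι] [DecidableEq ι] (e : κ ≃ ι)
    (X : Matrix κ κ F) : Matrix.reindex e.symm e.symm (Matrix.reindex e e X) = X := by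
  ext i j
  simp [Matrix.reindex_apply, Matrix.submatrix_apply]

lemma conjR_glReindex {κ : Type} [Fintype κ] [DecidableEq κ] (e : Fin n ≃ κ) (P x : GL (Fin n) F) :
    conjR e P ((glReindex e x : GL κ F) : Matrix κ κ F) =
      (P : Matrix (Fin n) (Fin n) F) * (x : Matrix (Fin n) (Fin n) F) *
        ((P⁻¹ : GL (Fin n) F) : Matrix (Fin n) (Fin n) F) := by
  unfold conjR
  rw [glReindex_val, reindex_symm_reindex]

/-- WRT: transport of WR along `e`, `P`. -/
theorem mem_tensorWreath_of_perm {m t : ℕ} (e : Fin n ≃ (Fin t → Fin m))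
    (P g : GL (Fin n) F) (σ : Equiv.Perm (Fin t))
    (hWR : ∀ g₀ : GL (Fin t → Fin m) F,
      (∀ i, ∀ A : Matrix (Fin m) (Fin m) F, ∃ A' : Matrix (Fin m) (Fin m) F,
        (g₀ : Matrix (Fin t → Fin m) (Fin t → Fin m) F) * slot m t i A *
          ((g₀⁻¹ : GL (Fin t → Fin m) F) : Matrix (Fin t → Fin m) (Fin t → Fin m) F) = slot m t (σ i) A') →
      g₀ ∈ tensorWreathStandard m t F)
    (hg : ∀ i, ∀ A : Matrix (Fin m) (Fin m) F, ∃ A' : Matrix (Fin m) (Fin m) F,
      (g : Matrix (Fin n) (Fin n) F) * conjR e P (slot m t i A) *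
        ((g⁻¹ : GL (Fin n) F) : Matrix (Fin n) (Fin n) F) = conjR e P (slot m t (σ i) A')) :
    g ∈ tensorWreathSubgroup m t e P := by
  set g₀ : GL (Fin t → Fin m) F := glReindex e (P⁻¹ * g * P) with hg₀
  have hc : conjR e P ((g₀ : GL (Fin t → Fin m) F) : Matrix _ _ F) = (g : Matrix (Fin n) (Fin n) F) := by
    rw [hg₀, conjR_glReindex, ← Units.val_mul, ← Units.val_mul]
    congr 1
    group
  have hci : conjR e P ((g₀⁻¹ : GL (Fin t → Fin m) F) : Matrix _ _ F) =
      ((g⁻¹ : GL (Fin n) F) : Matrix (Fin n) (Fin n) F) := by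
    rw [hg₀, ← map_inv, conjR_glReindex, ← Units.val_mul, ← Units.val_mul]
    congr 1
    group
  have hmem : g₀ ∈ tensorWreathStandard m t F := by
    apply hWR
    intro i A
    obtain ⟨A', hA'⟩ := hg i A
    refine ⟨A', ?_⟩
    apply conjR_injective e P
    rw [conjR_mul, conjR_mul, hc, hci, hA']
  unfold tensorWreathSubgroup
  rw [Subgroup.mem_map]
  refine ⟨glReindex e.symm g₀, Subgroup.mem_map.2 ⟨g₀, hmem, rfl⟩, ?_⟩
  have hback : glReindex e.symm g₀ = P⁻¹ * g * P := by
    apply Units.ext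
    rw [glReindex_val, hg₀, glReindex_val]
    have := reindex_symm_reindex (F := F) e (((P⁻¹ * g * P : GL (Fin n) F)) : Matrix (Fin n) (Fin n) F)
    exact this
  rw [hback]
  show P * (P⁻¹ * g * P) * P⁻¹ = g
  group

end Cfsg.Agent.Lib.Helper28.AschLeaf
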