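import Cfsg.Agent.Lib.Helper28.TC2Glue
set_option autoImplicit false

/-!
# Verified coset enumeration: the whole-table checks, split into ranges
-/

namespace Cfsg.Agent.Lib.Helper28.TC2Range
open Cfsg.Agent.Lib.Helper28.TC2Upper Cfsg.Agent.Lib.Helper28.TC2Lower

theorem allLoop_add_iff (f : ℕ → Bool) (lo n : ℕ) :
    allLoop (fun i => f (Nat.add lo i)) n = true ↔ ∀ v, lo ≤ v → v < lo + n → f v = true := by
  rw [allLoop_eq_true]
  constructor
  · intro h v h1 h2
    have := h (v - lo) (by omega)
    rwa [show Nat.add lo (v - lo) = v by simp only [Nat.add_eq]; omega] at this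
  · intro h i hi
    exact h _ (by simp only [Nat.add_eq]; omega) (by simp only [Nat.add_eq]; omega)

namespace Data
variable (D : TC2Upper.Data)

/-- the row of a live node is complete and leads to live nodes -/
noncomputable def rowOK (v : ℕ) : Bool :=
  cond (D.isLive v)
    (allLoop (fun l => and (Nat.ble 1 (D.rnk (D.ent l v)))
      (and (D.isLive (D.nrmr D.MW D.fuel (D.tgt (D.ent l v))))
           (Nat.ble (Nat.succ (D.nrmr D.MW D.fuel (D.tgt (D.ent l v)))) D.N))) D.k) true

/-- the rows of the nodes `lo, …, lo + n - 1` -/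
noncomputable def finalRange (lo n : ℕ) : Bool := allLoop (fun i => rowOK D (Nat.add lo i)) n

theorem finalRange_iff (lo n : ℕ) :
    finalRange D lo n = true ↔ ∀ v, lo ≤ v → v < lo + n → rowOK D v = true :=
  allLoop_add_iff _ lo n

theorem finalOK_of_rows (h0 : D.isLive 0 = true) (hN : 1 ≤ D.N)
    (hrows : ∀ v, v < D.N → rowOK D v = true) : D.finalOK = true := by
  unfold TC2Upper.Data.finalOK
  rw [Bool.and_eq_true, Bool.and_eq_true, Nat.ble_eq, allLoop_eq_true]
  exact ⟨h0, hN, hrows⟩

/-- number of live nodes among `lo, …, lo + n - 1` -/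
noncomputable def countFrom (lo n : ℕ) : ℕ := sumLoop (fun i => cond (D.isLive (Nat.add lo i)) 1 0) n

theorem countFrom_succ (lo n : ℕ) :
    countFrom D lo (n + 1) = cond (D.isLive (Nat.add lo n)) 1 0 + countFrom D lo n := rfl

theorem countFrom_add (lo a b : ℕ) : countFrom D lo (a + b) = countFrom D lo a + countFrom D (lo + a) b := by
  induction b with
  | zero => rfl
  | succ b ih =>
    rw [← Nat.add_assoc, countFrom_succ, countFrom_succ, ih]
    have : Nat.add lo (a + b) = Nat.add (lo + a) b := by simp only [Nat.add_eq]; omega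
    rw [this]
    omega

theorem countLive_eq : D.countLive = countFrom D 0 D.N := by
  unfold TC2Upper.Data.countLive countFrom
  congr 1
  funext i
  simp

theorem countFrom_step {a b c s t u : ℕ} (h1 : countFrom D 0 a = s) (h2 : countFrom D a b = t)
    (hab : a + b = c) (hst : s + t = u) : countFrom D 0 c = u := by
  rw [← hab, countFrom_add, h1, Nat.zero_add, h2, hst]

end Data

namespace Table
variable (T : TC2Lower.Table)

/-- the letters act as mutually inverse maps at the point `p` -/
noncomputable def permRow (p : ℕ) : Bool :=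
  allLoop (fun l => and (Nat.ble (Nat.succ (T.tau l p)) T.n)
    (Nat.beq (T.tau (T.invl l) (T.tau l p)) p)) T.k

/-- `permRow` for the points `lo, …, lo + n - 1` -/
noncomputable def permRange (lo n : ℕ) : Bool := allLoop (fun i => permRow T (Nat.add lo i)) n

theorem permRange_iff (lo n : ℕ) :
    permRange T lo n = true ↔ ∀ p, lo ≤ p → p < lo + n → permRow T p = true :=
  allLoop_add_iff _ lo n

theorem ok_of_rows (hinv : T.invOK = true) (hperm : ∀ p, p < T.n → permRow T p = true) : T.OK := by
  unfold TC2Lower.Table.invOK at hinv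
  rw [allLoop_eq_true] at hinv
  constructor
  · intro p hp l hl
    have := hperm p hp
    unfold permRow at this
    rw [allLoop_eq_true] at this
    have := this l hl
    rw [Bool.and_eq_true, Nat.ble_eq, TC2Upper.Data.nbeq_iff] at this
    exact ⟨this.1, this.2⟩
  · intro l hl
    have := hinv l hl
    rw [Bool.and_eq_true, Nat.ble_eq, TC2Upper.Data.nbeq_iff] at this
    exact ⟨this.1, this.2⟩

/-- the point `i + 1` is the image of a smaller point under a letter -/
noncomputable def treeRow (i : ℕ) : Bool :=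
  and (and (Nat.ble (Nat.mod (T.tslot (Nat.succ i)) T.M) i)
    (Nat.ble (Nat.succ (Nat.div (T.tslot (Nat.succ i)) T.M)) T.k))
    (Nat.beq (T.tau (Nat.div (T.tslot (Nat.succ i)) T.M)
      (Nat.mod (T.tslot (Nat.succ i)) T.M)) (Nat.succ i))

/-- `treeRow` for `lo, …, lo + n - 1` -/
noncomputable def treeRange (lo n : ℕ) : Bool := allLoop (fun i => treeRow T (Nat.add lo i)) n

theorem treeRange_iff (lo n : ℕ) :
    treeRange T lo n = true ↔ ∀ p, lo ≤ p → p < lo + n → treeRow T p = true :=
  allLoop_add_iff _ lo n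

theorem treeOK_of_rows (h : ∀ i, i < Nat.pred T.n → treeRow T i = true) : T.treeOK = true := by
  unfold TC2Lower.Table.treeOK
  rw [allLoop_eq_true]
  exact h


/-! ### Paths covered by the checked paths -/

theorem walkT_append (w1 w2 : List ℕ) (p : ℕ) : T.walkT (w1 ++ w2) p = T.walkT w2 (T.walkT w1 p) := by
  induction w1 generalizing p with
  | nil => rfl
  | cons l ls ih =>
    show T.walkT (l :: (ls ++ w2)) p = T.walkT w2 (T.walkT (l :: ls) p)
    rw [TC2Lower.Table.walkT_cons, TC2Lower.Table.walkT_cons, ih]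

variable {T}

theorem walkT_lt (hT : T.OK) : ∀ (w : List ℕ), (∀ l ∈ w, l < T.k) → ∀ p, p < T.n → T.walkT w p < T.n := by
  intro w
  induction w with
  | nil => intro _ p hp; exact hp
  | cons l ls ih =>
    intro hw p hp
    rw [TC2Lower.Table.walkT_cons]
    exact ih (fun x hx => hw x (List.mem_cons_of_mem _ hx)) _ (hT.perm p hp l (hw l List.mem_cons_self)).1

theorem tau_inj (hT : T.OK) {l : ℕ} (hl : l < T.k) {p q : ℕ} (hp : p < T.n) (hq : q < T.n)
    (h : T.tau l p = T.tau l q) : p = q := by
  have h1 := (hT.perm p hp l hl).2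
  have h2 := (hT.perm q hq l hl).2
  rw [h] at h1
  rw [← h1, h2]

theorem walk_rot (hT : T.OK) (l : ℕ) (w : List ℕ) (hl : l < T.k) (hw : ∀ x ∈ w, x < T.k)
    (h : ∀ q, q < T.n → T.walkT (w ++ [l]) q = q) : ∀ p, p < T.n → T.walkT (l :: w) p = p := by
  intro p hp
  rw [TC2Lower.Table.walkT_cons]
  have hq := (hT.perm p hp l hl).1
  have h1 := h _ hq
  rw [walkT_append] at h1
  have h2 : T.walkT [l] (T.walkT w (T.tau l p)) = T.tau l (T.walkT w (T.tau l p)) := by
    rw [TC2Lower.Table.walkT_cons, TC2Lower.Table.walkT_nil]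
  rw [h2] at h1
  exact tau_inj hT hl (walkT_lt hT w hw _ hq) hp h1

theorem walk_invol (hT : T.OK) (l : ℕ) (hl : l < T.k) : ∀ p, p < T.n → T.walkT [l, T.invl l] p = p := by
  intro p hp
  rw [TC2Lower.Table.walkT_cons, TC2Lower.Table.walkT_cons, TC2Lower.Table.walkT_nil]
  exact (hT.perm p hp l hl).2

/-- the path is a checked path, a rotation of one, or a letter followed by its inverse -/
def covered (T : TC2Lower.Table) (chk : List (List ℕ)) (P : List ℕ) : Prop :=
  P ∈ chk ∨ P.rotate 1 ∈ chk ∨ ∃ l, l < T.k ∧ P = [l, T.invl l]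

noncomputable instance coveredDec (T : TC2Lower.Table) (chk : List (List ℕ)) (P : List ℕ) :
    Decidable (covered T chk P) := by
  unfold covered; infer_instance

theorem fix_of_covered (hT : T.OK) (chk : List (List ℕ))
    (hchk : ∀ P ∈ chk, ∀ p, p < T.n → T.walkT P p = p) (P : List ℕ) (hP : ∀ l ∈ P, l < T.k)
    (hc : covered T chk P) : ∀ p, p < T.n → T.walkT P p = p := by
  rcases hc with h | h | ⟨l, hl, rfl⟩
  · exact hchk P h
  · cases P with
    | nil => intro p _; rfl
    | cons l w =>
      have e : (l :: w).rotate 1 = w ++ [l] := by simp [List.rotate_cons_succ]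
      rw [e] at h
      exact walk_rot hT l w (hP l List.mem_cons_self) (fun x hx => hP x (List.mem_cons_of_mem _ hx))
        (hchk _ h)
  · exact walk_invol hT l hl

end Table

end Cfsg.Agent.Lib.Helper28.TC2Range
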