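import Cfsg.Agent.Lib.Helper28.TC2Upper
import Cfsg.Agent.Lib.Helper28.TCFi22AW0DataC0
set_option autoImplicit false
set_option maxRecDepth 100000

namespace Cfsg.Agent.Lib.Helper28.TCFi22AW0Data
open Cfsg.Agent.Lib.Helper28.TC2Upper

/-- relators -/
def relT : BT (ℕ × List ℕ × List ℕ) := (BT.node 41 (BT.node 20 (BT.node 10 (BT.node 5 (BT.node 2 (BT.node 1 (BT.node 0 (BT.leaf (2, [0, 0], [0, 0])) (BT.leaf (6, [1, 0, 1, 0, 1, 0], [0, 1, 0, 1, 0, 1]))) (BT.leaf (4, [2, 0, 2, 0], [0, 2, 0, 2]))) (BT.node 4 (BT.node 3 (BT.leaf (4, [3, 0, 3, 0], [0, 3, 0, 3])) (BT.leaf (4, [4, 0, 4, 0], [0, 4, 0, 4]))) (BT.leaf (4, [5, 0, 5, 0], [0, 5, 0, 5])))) (BT.node 8 (BT.node 7 (BT.node 6 (BT.leaf (4, [7, 0, 7, 0], [0, 7, 0, 7])) (BT.leaf (4, [6, 0, 6, 0], [0, 6, 0, 6]))) (BT.leaf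 (4, [8, 0, 8, 0], [0, 8, 0, 8]))) (BT.node 9 (BT.leaf (6, [0, 1, 0, 1, 0, 1], [1, 0, 1, 0, 1, 0])) (BT.leaf (2, [1, 1], [1, 1]))))) (BT.node 15 (BT.node 13 (BT.node 12 (BT.node 11 (BT.leaf (6, [2, 1, 2, 1, 2, 1], [1, 2, 1, 2, 1, 2])) (BT.leaf (4, [3, 1, 3, 1], [1, 3, 1, 3]))) (BT.leaf (4, [4, 1, 4, 1], [1, 4, 1, 4]))) (BT.node 14 (BT.leaf (4, [5, 1, 5, 1], [1, 5, 1, 5])) (BT.leaf (4, [7, 1, 7, 1], [1, 7, 1, 7])))) (BT.node 18 (BT.node 17 (BT.node 16 (BT.leaf (4, [6, 1, 6, 1], [1, 6, 1, 6])) (BT.leaf (4, [8, 1, 8, 1], [1, 8, 1, 8]))) (BT.leaf (4, [0, 2, 0, 2], [2, 0, 2, 0]))) (BT.node 19 (BT.leaf (6, [1, 2, 1, 2, 1, 2], [2, 1, 2, 1, 2, 1])) (BT.leaf (2, [2, 2], [2, 2])))))) (BT.node 31 (BT.node 26 (BT.node 23 (BT.node 22 (BT.node 21 (BT.leaf (6, [3, 2, 3, 2, 3,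 2], [2, 3, 2, 3, 2, 3])) (BT.leaf (4, [4, 2, 4, 2], [2, 4, 2, 4]))) (BT.leaf (4, [5, 2, 5, 2], [2, 5, 2, 5]))) (BT.node 25 (BT.node 24 (BT.leaf (4, [7, 2, 7, 2], [2, 7, 2, 7])) (BT.leaf (4, [6, 2, 6, 2], [2, 6, 2, 6]))) (BT.leaf (4, [8, 2, 8, 2], [2, 8, 2, 8])))) (BT.node 29 (BT.node 28 (BT.node 27 (BT.leaf (4, [0, 3, 0, 3], [3, 0, 3, 0])) (BT.leaf (4, [1, 3, 1, 3], [3, 1, 3, 1]))) (BT.leaf (6, [2, 3, 2, 3, 2, 3], [3, 2, 3, 2, 3, 2]))) (BT.node 30 (BT.leaf (2, [3, 3], [3, 3])) (BT.leaf (6, [4, 3, 4, 3, 4, 3], [3, 4, 3, 4, 3, 4]))))) (BT.node 36 (BT.node 34 (BT.node 33 (BT.node 32 (BT.leaf (4, [5, 3, 5, 3], [3, 5, 3, 5])) (BT.leaf (6, [7, 3, 7, 3, 7, 3], [3, 7, 3, 7, 3, 7]))) (BT.leaf (4, [6, 3, 6, 3], [3, 6, 3, 6]))) (BT.node 35 (BT.leaf (4, [8, 3, 8, 3], [3,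 8, 3, 8])) (BT.leaf (4, [0, 4, 0, 4], [4, 0, 4, 0])))) (BT.node 39 (BT.node 38 (BT.node 37 (BT.leaf (4, [1, 4, 1, 4], [4, 1, 4, 1])) (BT.leaf (4, [2, 4, 2, 4], [4, 2, 4, 2]))) (BT.leaf (6, [3, 4, 3, 4, 3, 4], [4, 3, 4, 3, 4, 3]))) (BT.node 40 (BT.leaf (2, [4, 4], [4, 4])) (BT.leaf (6, [5, 4, 5, 4, 5, 4], [4, 5, 4, 5, 4, 5]))))))) (BT.node 62 (BT.node 52 (BT.node 47 (BT.node 44 (BT.node 43 (BT.node 42 (BT.leaf (4, [7, 4, 7, 4], [4, 7, 4, 7])) (BT.leaf (4, [6, 4, 6, 4], [4, 6, 4, 6]))) (BT.leaf (4, [8, 4, 8, 4], [4, 8, 4, 8]))) (BT.node 46 (BT.node 45 (BT.leaf (4, [0, 5, 0, 5], [5, 0, 5, 0])) (BT.leaf (4, [1, 5, 1, 5], [5, 1, 5, 1]))) (BT.leaf (4, [2, 5, 2, 5], [5, 2, 5, 2])))) (BT.node 50 (BT.node 49 (BT.node 48 (BT.leaf (4, [3, 5, 3, 5], [5, 3, 5, 3])) (BT.leaf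 (6, [4, 5, 4, 5, 4, 5], [5, 4, 5, 4, 5, 4]))) (BT.leaf (2, [5, 5], [5, 5]))) (BT.node 51 (BT.leaf (4, [7, 5, 7, 5], [5, 7, 5, 7])) (BT.leaf (6, [6, 5, 6, 5, 6, 5], [5, 6, 5, 6, 5, 6]))))) (BT.node 57 (BT.node 55 (BT.node 54 (BT.node 53 (BT.leaf (4, [8, 5, 8, 5], [5, 8, 5, 8])) (BT.leaf (4, [0, 7, 0, 7], [7, 0, 7, 0]))) (BT.leaf (4, [1, 7, 1, 7], [7, 1, 7, 1]))) (BT.node 56 (BT.leaf (4, [2, 7, 2, 7], [7, 2, 7, 2])) (BT.leaf (6, [3, 7, 3, 7, 3, 7], [7, 3, 7, 3, 7, 3])))) (BT.node 60 (BT.node 59 (BT.node 58 (BT.leaf (4, [4, 7, 4, 7], [7, 4, 7, 4])) (BT.leaf (4, [5, 7, 5, 7], [7, 5, 7, 5]))) (BT.leaf (2, [7, 7], [7, 7]))) (BT.node 61 (BT.leaf (4, [6, 7, 6, 7], [7, 6, 7, 6])) (BT.leaf (6, [8, 7, 8, 7, 8, 7], [7, 8, 7, 8, 7, 8])))))) (BT.node 73 (BT.node 68 (BT.node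 65 (BT.node 64 (BT.node 63 (BT.leaf (4, [0, 6, 0, 6], [6, 0, 6, 0])) (BT.leaf (4, [1, 6, 1, 6], [6, 1, 6, 1]))) (BT.leaf (4, [2, 6, 2, 6], [6, 2, 6, 2]))) (BT.node 67 (BT.node 66 (BT.leaf (4, [3, 6, 3, 6], [6, 3, 6, 3])) (BT.leaf (4, [4, 6, 4, 6], [6, 4, 6, 4]))) (BT.leaf (6, [5, 6, 5, 6, 5, 6], [6, 5, 6, 5, 6, 5])))) (BT.node 71 (BT.node 70 (BT.node 69 (BT.leaf (4, [7, 6, 7, 6], [6, 7, 6, 7])) (BT.leaf (2, [6, 6], [6, 6]))) (BT.leaf (4, [8, 6, 8, 6], [6, 8, 6, 8]))) (BT.node 72 (BT.leaf (4, [0, 8, 0, 8], [8, 0, 8, 0])) (BT.leaf (4, [1, 8, 1, 8], [8, 1, 8, 1]))))) (BT.node 78 (BT.node 76 (BT.node 75 (BT.node 74 (BT.leaf (4, [2, 8, 2, 8], [8, 2, 8, 2])) (BT.leaf (4, [3, 8, 3, 8], [8, 3, 8, 3]))) (BT.leaf (4, [4, 8, 4, 8], [8, 4, 8, 4]))) (BT.node 77 (BT.leaf (4,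 [5, 8, 5, 8], [8, 5, 8, 5])) (BT.leaf (6, [7, 8, 7, 8, 7, 8], [8, 7, 8, 7, 8, 7])))) (BT.node 81 (BT.node 80 (BT.node 79 (BT.leaf (4, [6, 8, 6, 8], [8, 6, 8, 6])) (BT.leaf (2, [8, 8], [8, 8]))) (BT.leaf (90, [8, 7, 3, 5, 4, 3, 1, 2, 3, 8, 7, 3, 5, 4, 3, 1, 2, 3, 8, 7, 3, 5, 4, 3, 1, 2, 3, 8, 7, 3, 5, 4, 3, 1, 2, 3, 8, 7, 3, 5, 4, 3, 1, 2, 3, 8, 7, 3, 5, 4, 3, 1, 2, 3, 8, 7, 3, 5, 4, 3, 1, 2, 3, 8, 7, 3, 5, 4, 3, 1, 2, 3, 8, 7, 3, 5, 4, 3, 1, 2, 3, 8, 7, 3, 5, 4, 3, 1, 2, 3], [3, 2, 1, 3, 4, 5, 3, 7, 8, 3, 2, 1, 3, 4, 5, 3, 7, 8, 3, 2, 1, 3, 4, 5, 3, 7, 8, 3, 2, 1, 3, 4, 5, 3, 7, 8, 3, 2, 1, 3, 4, 5, 3, 7, 8, 3, 2, 1, 3, 4, 5, 3, 7, 8, 3, 2, 1, 3, 4, 5, 3, 7, 8, 3, 2, 1, 3, 4, 5, 3, 7, 8, 3, 2, 1, 3, 4, 5, 3, 7, 8, 3, 2, 1, 3, 4, 5, 3, 7, 8]))) (BT.node 82 (BT.leaf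 (63, [7, 5, 4, 3, 2, 1, 0, 7, 5, 4, 3, 2, 1, 0, 7, 5, 4, 3, 2, 1, 0, 7, 5, 4, 3, 2, 1, 0, 7, 5, 4, 3, 2, 1, 0, 7, 5, 4, 3, 2, 1, 0, 7, 5, 4, 3, 2, 1, 0, 7, 5, 4, 3, 2, 1, 0, 7, 5, 4, 3, 2, 1, 0], [0, 1, 2, 3, 4, 5, 7, 0, 1, 2, 3, 4, 5, 7, 0, 1, 2, 3, 4, 5, 7, 0, 1, 2, 3, 4, 5, 7, 0, 1, 2, 3, 4, 5, 7, 0, 1, 2, 3, 4, 5, 7, 0, 1, 2, 3, 4, 5, 7, 0, 1, 2, 3, 4, 5, 7, 0, 1, 2, 3, 4, 5, 7])) (BT.leaf (63, [7, 6, 5, 4, 3, 2, 1, 7, 6, 5, 4, 3, 2, 1, 7, 6, 5, 4, 3, 2, 1, 7, 6, 5, 4, 3, 2, 1, 7, 6, 5, 4, 3, 2, 1, 7, 6, 5, 4, 3, 2, 1, 7, 6, 5, 4, 3, 2, 1, 7, 6, 5, 4, 3, 2, 1, 7, 6, 5, 4, 3, 2, 1], [1, 2, 3, 4, 5, 6, 7, 1, 2, 3, 4, 5, 6, 7, 1, 2, 3, 4, 5, 6, 7, 1, 2, 3, 4, 5, 6, 7, 1, 2, 3, 4, 5, 6, 7, 1, 2, 3, 4, 5, 6, 7, 1, 2, 3, 4, 5, 6, 7, 1, 2, 3, 4, 5, 6, 7, 1, 2, 3,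 4, 5, 6, 7]))))))))
/-- subgroup generators -/
def subT : BT (ℕ × List ℕ × List ℕ) := (BT.node 4 (BT.node 2 (BT.node 1 (BT.node 0 (BT.leaf (1, [0], [0])) (BT.leaf (1, [2], [2]))) (BT.leaf (1, [3], [3]))) (BT.node 3 (BT.leaf (1, [4], [4])) (BT.leaf (1, [5], [5])))) (BT.node 6 (BT.node 5 (BT.leaf (1, [6], [6])) (BT.leaf (1, [7], [7]))) (BT.node 7 (BT.leaf (1, [8], [8])) (BT.leaf (30, [7, 4, 3, 2, 1, 0, 7, 4, 3, 2, 1, 0, 7, 4, 3, 2, 1, 0, 7, 4, 3, 2, 1, 0, 7, 4, 3, 2, 1, 0], [0, 1, 2, 3, 4, 7, 0, 1, 2, 3, 4, 7, 0, 1, 2, 3, 4, 7, 0, 1, 2, 3, 4, 7, 0, 1, 2, 3, 4, 7])))))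
/-- fact chunks -/
def colET : BT ℕ := (BT.node 34 (BT.node 17 (BT.node 8 (BT.node 4 (BT.node 2 (BT.node 1 (BT.node 0 (BT.leaf cE0) (BT.leaf cE1)) (BT.leaf cE2)) (BT.node 3 (BT.leaf cE3) (BT.leaf cE4))) (BT.node 6 (BT.node 5 (BT.leaf cE5) (BT.leaf cE6)) (BT.node 7 (BT.leaf cE7) (BT.leaf cE8)))) (BT.node 13 (BT.node 11 (BT.node 10 (BT.node 9 (BT.leaf cE9) (BT.leaf cE10)) (BT.leaf cE11)) (BT.node 12 (BT.leaf cE12) (BT.leaf cE13))) (BT.node 15 (BT.node 14 (BT.leaf cE14) (BT.leaf cE15)) (BT.node 16 (BT.leaf cE16) (BT.leaf cE17))))) (BT.node 26 (BT.node 22 (BT.node 20 (BT.node 19 (BT.node 18 (BT.leaf cE18) (BT.leaf cE19)) (BT.leaf cE20)) (BT.node 21 (BT.leaf cE21) (BT.leaf cE22))) (BT.node 24 (BT.node 23 (BT.leaf cE23) (BT.leaf cE24)) (BT.node 25 (BT.leaf cE25) (BT.leaf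 cE26)))) (BT.node 30 (BT.node 28 (BT.node 27 (BT.leaf cE27) (BT.leaf cE28)) (BT.node 29 (BT.leaf cE29) (BT.leaf cE30))) (BT.node 32 (BT.node 31 (BT.leaf cE31) (BT.leaf cE32)) (BT.node 33 (BT.leaf cE33) (BT.leaf cE34)))))) (BT.node 52 (BT.node 43 (BT.node 39 (BT.node 37 (BT.node 36 (BT.node 35 (BT.leaf cE35) (BT.leaf cE36)) (BT.leaf cE37)) (BT.node 38 (BT.leaf cE38) (BT.leaf cE39))) (BT.node 41 (BT.node 40 (BT.leaf cE40) (BT.leaf cE41)) (BT.node 42 (BT.leaf cE42) (BT.leaf cE43)))) (BT.node 48 (BT.node 46 (BT.node 45 (BT.node 44 (BT.leaf cE44) (BT.leaf cE45)) (BT.leaf cE46)) (BT.node 47 (BT.leaf cE47) (BT.leaf cE48))) (BT.node 50 (BT.node 49 (BT.leaf cE49) (BT.leaf cE50)) (BT.node 51 (BT.leaf cE51) (BT.leaf cE52))))) (BT.node 61 (BT.node 57 (BT.node 55 (BT.node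 54 (BT.node 53 (BT.leaf cE53) (BT.leaf cE54)) (BT.leaf cE55)) (BT.node 56 (BT.leaf cE56) (BT.leaf cE57))) (BT.node 59 (BT.node 58 (BT.leaf cE58) (BT.leaf cE59)) (BT.node 60 (BT.leaf cE60) (BT.leaf cE61)))) (BT.node 65 (BT.node 63 (BT.node 62 (BT.leaf cE62) (BT.leaf cE63)) (BT.node 64 (BT.leaf cE64) (BT.leaf cE65))) (BT.node 67 (BT.node 66 (BT.leaf cE66) (BT.leaf cE67)) (BT.node 68 (BT.leaf cE68) (BT.leaf cE69)))))))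
/-- justification chunks -/
def colJT : BT ℕ := (BT.node 34 (BT.node 17 (BT.node 8 (BT.node 4 (BT.node 2 (BT.node 1 (BT.node 0 (BT.leaf cJ0) (BT.leaf cJ1)) (BT.leaf cJ2)) (BT.node 3 (BT.leaf cJ3) (BT.leaf cJ4))) (BT.node 6 (BT.node 5 (BT.leaf cJ5) (BT.leaf cJ6)) (BT.node 7 (BT.leaf cJ7) (BT.leaf cJ8)))) (BT.node 13 (BT.node 11 (BT.node 10 (BT.node 9 (BT.leaf cJ9) (BT.leaf cJ10)) (BT.leaf cJ11)) (BT.node 12 (BT.leaf cJ12) (BT.leaf cJ13))) (BT.node 15 (BT.node 14 (BT.leaf cJ14) (BT.leaf cJ15)) (BT.node 16 (BT.leaf cJ16) (BT.leaf cJ17))))) (BT.node 26 (BT.node 22 (BT.node 20 (BT.node 19 (BT.node 18 (BT.leaf cJ18) (BT.leaf cJ19)) (BT.leaf cJ20)) (BT.node 21 (BT.leaf cJ21) (BT.leaf cJ22))) (BT.node 24 (BT.node 23 (BT.leaf cJ23) (BT.leaf cJ24)) (BT.node 25 (BT.leaf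 cJ25) (BT.leaf cJ26)))) (BT.node 30 (BT.node 28 (BT.node 27 (BT.leaf cJ27) (BT.leaf cJ28)) (BT.node 29 (BT.leaf cJ29) (BT.leaf cJ30))) (BT.node 32 (BT.node 31 (BT.leaf cJ31) (BT.leaf cJ32)) (BT.node 33 (BT.leaf cJ33) (BT.leaf cJ34)))))) (BT.node 52 (BT.node 43 (BT.node 39 (BT.node 37 (BT.node 36 (BT.node 35 (BT.leaf cJ35) (BT.leaf cJ36)) (BT.leaf cJ37)) (BT.node 38 (BT.leaf cJ38) (BT.leaf cJ39))) (BT.node 41 (BT.node 40 (BT.leaf cJ40) (BT.leaf cJ41)) (BT.node 42 (BT.leaf cJ42) (BT.leaf cJ43)))) (BT.node 48 (BT.node 46 (BT.node 45 (BT.node 44 (BT.leaf cJ44) (BT.leaf cJ45)) (BT.leaf cJ46)) (BT.node 47 (BT.leaf cJ47) (BT.leaf cJ48))) (BT.node 50 (BT.node 49 (BT.leaf cJ49) (BT.leaf cJ50)) (BT.node 51 (BT.leaf cJ51) (BT.leaf cJ52))))) (BT.node 61 (BT.node 57 (BT.node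 55 (BT.node 54 (BT.node 53 (BT.leaf cJ53) (BT.leaf cJ54)) (BT.leaf cJ55)) (BT.node 56 (BT.leaf cJ56) (BT.leaf cJ57))) (BT.node 59 (BT.node 58 (BT.leaf cJ58) (BT.leaf cJ59)) (BT.node 60 (BT.leaf cJ60) (BT.leaf cJ61)))) (BT.node 65 (BT.node 63 (BT.node 62 (BT.leaf cJ62) (BT.leaf cJ63)) (BT.node 64 (BT.leaf cJ64) (BT.leaf cJ65))) (BT.node 67 (BT.node 66 (BT.leaf cJ66) (BT.leaf cJ67)) (BT.node 68 (BT.leaf cJ68) (BT.leaf cJ69)))))))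
/-- parent chunks -/
def parCT : BT ℕ := (BT.node 3 (BT.node 1 (BT.node 0 (BT.leaf cP0) (BT.leaf cP1)) (BT.node 2 (BT.leaf cP2) (BT.leaf cP3))) (BT.node 5 (BT.node 4 (BT.leaf cP4) (BT.leaf cP5)) (BT.leaf cP6)))
/-- the certificate -/
def data : Data where
  k := 9
  N := 3542
  W := 27
  MW := 134217728
  B := 4096
  CH := 512
  NCH := 7
  colE := colET
  JW := 64
  MJ := 18446744073709551616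
  A := 1048576
  colJ := colJT
  PW := 21
  MP := 2097152
  parC := parCT
  inv := (BT.node 4 (BT.node 2 (BT.node 1 (BT.node 0 (BT.leaf 0) (BT.leaf 1)) (BT.leaf 2)) (BT.node 3 (BT.leaf 3) (BT.leaf 4))) (BT.node 7 (BT.node 6 (BT.node 5 (BT.leaf 5) (BT.leaf 6)) (BT.leaf 7)) (BT.node 8 (BT.leaf 8) (BT.leaf 9))))
  rel := relT
  sub := subT
  fuel := 64

end Cfsg.Agent.Lib.Helper28.TCFi22AW0Data
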