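import Cfsg.Agent.Lib.Helper28.TC2Glue
import Cfsg.Agent.Lib.Helper28.TCFi22AW0Data
import Cfsg.Agent.Lib.Helper28.TCFi22AW0Table
import Cfsg.Prelude.Def_Spor_Fi22
set_option autoImplicit false
set_option maxRecDepth 100000

namespace Cfsg.Agent.Lib.Helper28.TCFi22AW0Link
open Cfsg.Agent.Lib.Helper28.TC2Upper Cfsg.Agent.Lib.Helper28.TC2Lower Cfsg.Agent.Lib.Helper28.TC2Glue Cfsg.Agent.Lib.Helper28.TCFi22AW0Data Cfsg.Agent.Lib.Helper28.TCFi22AW0Table

/-- the further relators in list form -/
def extraWords : List (List (Cfsg.Spor.Fi22.Gen × Bool)) := [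
  [(.d, true), (.c, true), (.b, true), (.d, true), (.e, true), (.f, true), (.d, true), (.h, true), (.i, true), (.d, true), (.c, true), (.b, true), (.d, true), (.e, true), (.f, true), (.d, true), (.h, true), (.i, true), (.d, true), (.c, true), (.b, true), (.d, true), (.e, true), (.f, true), (.d, true), (.h, true), (.i, true), (.d, true), (.c, true), (.b, true), (.d, true), (.e, true), (.f, true), (.d, true), (.h, true), (.i, true), (.d, true), (.c, true), (.b, true), (.d, true), (.e, true), (.f, true), (.d, true), (.h, true), (.i, true), (.d, true), (.c, true), (.b, true), (.d, true), (.e, true), (.f, true), (.d, true), (.h, true), (.i, true), (.d, true), (.c, true), (.b, true), (.d, true), (.e, true), (.f, true), (.d, true), (.h, true), (.i, true), (.d, true), (.c, true), (.b, true), (.d, true), (.e, true), (.f, true), (.d, true), (.h, true), (.i, true), (.d, true), (.c, true), (.b, true), (.d, true), (.e, true), (.f, true), (.d, true), (.h, true), (.i, true), (.d, true), (.c, true), (.b, true), (.d, true), (.e, true),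 (.f, true), (.d, true), (.h, true), (.i, true)],
  [(.a, true), (.b, true), (.c, true), (.d, true), (.e, true), (.f, true), (.h, true), (.a, true), (.b, true), (.c, true), (.d, true), (.e, true), (.f, true), (.h, true), (.a, true), (.b, true), (.c, true), (.d, true), (.e, true), (.f, true), (.h, true), (.a, true), (.b, true), (.c, true), (.d, true), (.e, true), (.f, true), (.h, true), (.a, true), (.b, true), (.c, true), (.d, true), (.e, true), (.f, true), (.h, true), (.a, true), (.b, true), (.c, true), (.d, true), (.e, true), (.f, true), (.h, true), (.a, true), (.b, true), (.c, true), (.d, true), (.e, true), (.f, true), (.h, true), (.a, true), (.b, true), (.c, true), (.d, true), (.e, true), (.f, true), (.h, true), (.a, true), (.b, true), (.c, true), (.d, true), (.e, true), (.f, true), (.h, true)],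
  [(.b, true), (.c, true), (.d, true), (.e, true), (.f, true), (.g, true), (.h, true), (.b, true), (.c, true), (.d, true), (.e, true), (.f, true), (.g, true), (.h, true), (.b, true), (.c, true), (.d, true), (.e, true), (.f, true), (.g, true), (.h, true), (.b, true), (.c, true), (.d, true), (.e, true), (.f, true), (.g, true), (.h, true), (.b, true), (.c, true), (.d, true), (.e, true), (.f, true), (.g, true), (.h, true), (.b, true), (.c, true), (.d, true), (.e, true), (.f, true), (.g, true), (.h, true), (.b, true), (.c, true), (.d, true), (.e, true), (.f, true), (.g, true), (.h, true), (.b, true), (.c, true), (.d, true), (.e, true), (.f, true), (.g, true), (.h, true), (.b, true), (.c, true), (.d, true), (.e, true), (.f, true), (.g, true), (.h, true)] ]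

theorem hextra : Cfsg.Spor.Fi22.extra = extraWords.map FreeGroup.mk := by
  rfl

/-- all relators in list form -/
def relWords : List (List (Cfsg.Spor.Fi22.Gen × Bool)) := coxWords Cfsg.Spor.Fi22.edges ++ extraWords

/-- the subgroup generators in list form -/
def subWords : List (List (Cfsg.Spor.Fi22.Gen × Bool)) := [
  [(.a, true)],
  [(.c, true)],
  [(.d, true)],
  [(.e, true)],
  [(.f, true)],
  [(.g, true)],
  [(.h, true)],
  [(.i, true)],
  [(.a, true), (.b, true), (.c, true), (.d, true), (.e, true), (.h, true), (.a, true), (.b, true), (.c, true), (.d, true), (.e, true), (.h, true), (.a, true), (.b, true), (.c, true), (.d, true), (.e, true), (.h, true), (.a, true), (.b, true), (.c, true), (.d, true), (.e, true), (.h, true), (.a, true), (.b, true), (.c, true), (.d, true), (.e, true), (.h, true)] ]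

/-- coding of the letters -/
def lw : Cfsg.Spor.Fi22.Gen × Bool → ℕ
  | (.a, _) => 0
  | (.b, _) => 1
  | (.c, _) => 2
  | (.d, _) => 3
  | (.e, _) => 4
  | (.f, _) => 5
  | (.g, _) => 6
  | (.h, _) => 7
  | (.i, _) => 8

/-- decoding of the letters -/
def dec : ℕ → Cfsg.Spor.Fi22.Gen × Bool
  | 0 => (.a, true)
  | 1 => (.b, true)
  | 2 => (.c, true)
  | 3 => (.d, true)
  | 4 => (.e, true)
  | 5 => (.f, true)
  | 6 => (.g, true)
  | 7 => (.h, true)
  | _ => (.i, true)

/-- the relators -/
abbrev rels : Set (FreeGroup Cfsg.Spor.Fi22.Gen) := Cfsg.Spor.coxRelators Cfsg.Spor.Fi22.edges ∪ {r | r ∈ Cfsg.Spor.Fi22.extra}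

/-- the subgroup generators -/
abbrev S : Set (FreeGroup Cfsg.Spor.Fi22.Gen) := {FreeGroup.of Cfsg.Spor.Fi22.Gen.a, FreeGroup.of Cfsg.Spor.Fi22.Gen.c, FreeGroup.of Cfsg.Spor.Fi22.Gen.d, FreeGroup.of Cfsg.Spor.Fi22.Gen.e, FreeGroup.of Cfsg.Spor.Fi22.Gen.f, FreeGroup.of Cfsg.Spor.Fi22.Gen.g, FreeGroup.of Cfsg.Spor.Fi22.Gen.h, FreeGroup.of Cfsg.Spor.Fi22.Gen.i, (FreeGroup.of Cfsg.Spor.Fi22.Gen.a * FreeGroup.of Cfsg.Spor.Fi22.Gen.b * FreeGroup.of Cfsg.Spor.Fi22.Gen.c * FreeGroup.of Cfsg.Spor.Fi22.Gen.d * FreeGroup.of Cfsg.Spor.Fi22.Gen.e * FreeGroup.of Cfsg.Spor.Fi22.Gen.h) ^ 5}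

theorem hS : ∀ s, s ∈ S ↔ ∃ L ∈ subWords, s = FreeGroup.mk L := by
  intro s
  simp only [S, subWords, Set.mem_insert_iff, Set.mem_singleton_iff, List.mem_cons, List.not_mem_nil,
    or_false, exists_eq_or_imp, exists_eq_left]
  rfl

theorem relD_ok : BT.all (fun t => decide (wfWord data t ∧ ∃ L ∈ relWords, t.2.1 = pathOf lw L)) data.rel = true := by
  decide +kernel

theorem subD_ok : BT.all (fun t => decide (wfWord data t ∧ ∃ L ∈ subWords, t.2.1 = pathOf lw L)) data.sub = true := by
  decide +kernel

theorem link : Link rels S relWords subWords lw dec data table where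
  hrels := mem_rels_iff _ _ _ hextra
  hS := hS
  lwk := by rintro ⟨x, b⟩; cases x <;> cases b <;> decide
  lwinv := by intro x; cases x <;> decide +kernel
  d1 := by intro l hl; have : l < 9 := hl; interval_cases l <;> rfl
  d2 := by intro x; cases x <;> rfl
  d3 := by
    intro x
    cases x
    · exact Or.inr ⟨rfl, invol_of_mem_coxNodes _ _ (by decide)⟩
    · exact Or.inr ⟨rfl, invol_of_mem_coxNodes _ _ (by decide)⟩
    · exact Or.inr ⟨rfl, invol_of_mem_coxNodes _ _ (by decide)⟩
    · exact Or.inr ⟨rfl, invol_of_mem_coxNodes _ _ (by decide)⟩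
    · exact Or.inr ⟨rfl, invol_of_mem_coxNodes _ _ (by decide)⟩
    · exact Or.inr ⟨rfl, invol_of_mem_coxNodes _ _ (by decide)⟩
    · exact Or.inr ⟨rfl, invol_of_mem_coxNodes _ _ (by decide)⟩
    · exact Or.inr ⟨rfl, invol_of_mem_coxNodes _ _ (by decide)⟩
    · exact Or.inr ⟨rfl, invol_of_mem_coxNodes _ _ (by decide)⟩
  invk := by intro l hl; have : l < 9 := hl; interval_cases l <;> decide +kernel
  relD := BT.All_of_all (fun _ h => of_decide_eq_true h) _ relD_ok
  subD := BT.All_of_all (fun _ h => of_decide_eq_true h) _ subD_ok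
  Tk := rfl
  Tinv := fun _ => rfl

theorem hrelmem : ∀ L ∈ relWords, pathOf lw L ∈ relPaths := by decide +kernel
theorem hsubmem : ∀ L ∈ subWords, pathOf lw L ∈ subPaths := by decide +kernel
theorem hsubmem' : ∀ s ∈ subPaths, ∃ L ∈ subWords, s = pathOf lw L := by decide +kernel

end Cfsg.Agent.Lib.Helper28.TCFi22AW0Link
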