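import Cfsg.Agent.Lib.Helper28.TCFi22BTable
import Cfsg.Agent.Lib.Helper28.TCFi22W0Table
set_option autoImplicit false
set_option maxRecDepth 100000
set_option maxHeartbeats 0

namespace Cfsg.Agent.Lib.Helper28.TCFi22BChk1
open Cfsg.Agent.Lib.Helper28.TC2Upper Cfsg.Agent.Lib.Helper28.TC2Lower Cfsg.Agent.Lib.Helper28.TC2Orbit Cfsg.Agent.Lib.Helper28.TC2Range Cfsg.Agent.Lib.Helper28.TC2Bsgs Cfsg.Agent.Lib.Helper28.TCFi22BTable

theorem agr1 : agreeRange Cfsg.Agent.Lib.Helper28.TCFi22W0Table.table btable 9 13888 192 = true := by decide +kernel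
theorem def9_0 : defRange btable defs 9 0 14080 = true := by decide +kernel
theorem def10_0 : defRange btable defs 10 0 14080 = true := by decide +kernel
theorem def11_0 : defRange btable defs 11 0 12500 = true := by decide +kernel
theorem def11_1 : defRange btable defs 11 12500 1580 = true := by decide +kernel

end Cfsg.Agent.Lib.Helper28.TCFi22BChk1
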