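import Cfsg.Agent.Lib.Helper28.TCFi22BTable
import Cfsg.Agent.Lib.Helper28.TCFi22W0Table
import Cfsg.Agent.Lib.Helper28.TCFi22BChk4
set_option autoImplicit false
set_option maxRecDepth 100000
set_option maxHeartbeats 0

namespace Cfsg.Agent.Lib.Helper28.TCFi22BChk7
open Cfsg.Agent.Lib.Helper28.TC2Upper Cfsg.Agent.Lib.Helper28.TC2Lower Cfsg.Agent.Lib.Helper28.TC2Orbit Cfsg.Agent.Lib.Helper28.TC2Range Cfsg.Agent.Lib.Helper28.TC2Bsgs Cfsg.Agent.Lib.Helper28.TCFi22BTable

theorem def23_1 : defRange btable defs 23 4901 4901 = true := by decide +kernel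
theorem def23_2 : defRange btable defs 23 9802 4278 = true := by decide +kernel
theorem def24_0 : defRange btable defs 24 0 4901 = true := by decide +kernel
theorem def24_1 : defRange btable defs 24 4901 4901 = true := by decide +kernel
theorem def24_2 : defRange btable defs 24 9802 4278 = true := by decide +kernel

end Cfsg.Agent.Lib.Helper28.TCFi22BChk7
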