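import Cfsg.Agent.Lib.Helper28.TCFi22BTable
import Cfsg.Agent.Lib.Helper28.TCFi22W0Table
import Cfsg.Agent.Lib.Helper28.TCFi22BChk6
set_option autoImplicit false
set_option maxRecDepth 100000
set_option maxHeartbeats 0

namespace Cfsg.Agent.Lib.Helper28.TCFi22BChk9
open Cfsg.Agent.Lib.Helper28.TC2Upper Cfsg.Agent.Lib.Helper28.TC2Lower Cfsg.Agent.Lib.Helper28.TC2Orbit Cfsg.Agent.Lib.Helper28.TC2Range Cfsg.Agent.Lib.Helper28.TC2Bsgs Cfsg.Agent.Lib.Helper28.TCFi22BTable

theorem def27_1 : defRange btable defs 27 11904 2176 = true := by decide +kernel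
theorem def28_0 : defRange btable defs 28 0 11904 = true := by decide +kernel
theorem def28_1 : defRange btable defs 28 11904 2176 = true := by decide +kernel
theorem def29_0 : defRange btable defs 29 0 10869 = true := by decide +kernel
theorem def29_1 : defRange btable defs 29 10869 3211 = true := by decide +kernel

end Cfsg.Agent.Lib.Helper28.TCFi22BChk9
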