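import Cfsg.Agent.Lib.Helper28.TCFi22BTable
import Cfsg.Agent.Lib.Helper28.TCFi22W0Table
import Cfsg.Agent.Lib.Helper28.TCFi22BChk10
set_option autoImplicit false
set_option maxRecDepth 100000
set_option maxHeartbeats 0

namespace Cfsg.Agent.Lib.Helper28.TCFi22BChk13
open Cfsg.Agent.Lib.Helper28.TC2Upper Cfsg.Agent.Lib.Helper28.TC2Lower Cfsg.Agent.Lib.Helper28.TC2Orbit Cfsg.Agent.Lib.Helper28.TC2Range Cfsg.Agent.Lib.Helper28.TC2Bsgs Cfsg.Agent.Lib.Helper28.TCFi22BTable

theorem cnt2 : orb2.count 14080 1 = 288 := by decide +kernel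
theorem hgens2 : BT.all (fun s => decide (s ∈ A2.map fun l => [l])) orb2.gens = true := by decide +kernel
theorem hA2 : ∀ l ∈ A2, l < btable.k ∧ ∀ q ∈ ([1, 0] : List ℕ), btable.tau l q = q := by decide +kernel
theorem conn3_0 : OrbData.connOKc orb3 btable 1 0 14080 = true := by decide +kernel
theorem cnt3 : orb3.count 14080 1 = 35 := by decide +kernel

end Cfsg.Agent.Lib.Helper28.TCFi22BChk13
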