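import Cfsg.Agent.Lib.Helper28.TCFi22BTable
import Cfsg.Agent.Lib.Helper28.TCFi22W0Table
import Cfsg.Agent.Lib.Helper28.TCFi22BChk5
set_option autoImplicit false
set_option maxRecDepth 100000
set_option maxHeartbeats 0

namespace Cfsg.Agent.Lib.Helper28.TCFi22BChk8
open Cfsg.Agent.Lib.Helper28.TC2Upper Cfsg.Agent.Lib.Helper28.TC2Lower Cfsg.Agent.Lib.Helper28.TC2Orbit Cfsg.Agent.Lib.Helper28.TC2Range Cfsg.Agent.Lib.Helper28.TC2Bsgs Cfsg.Agent.Lib.Helper28.TCFi22BTable

theorem def25_0 : defRange btable defs 25 0 10416 = true := by decide +kernel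
theorem def25_1 : defRange btable defs 25 10416 3664 = true := by decide +kernel
theorem def26_0 : defRange btable defs 26 0 10416 = true := by decide +kernel
theorem def26_1 : defRange btable defs 26 10416 3664 = true := by decide +kernel
theorem def27_0 : defRange btable defs 27 0 11904 = true := by decide +kernel

end Cfsg.Agent.Lib.Helper28.TCFi22BChk8
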