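import Cfsg.Agent.Lib.Helper28.TCFi22BTable
import Cfsg.Agent.Lib.Helper28.TCFi22W0Table
import Cfsg.Agent.Lib.Helper28.TCFi22BChk11
set_option autoImplicit false
set_option maxRecDepth 100000
set_option maxHeartbeats 0

namespace Cfsg.Agent.Lib.Helper28.TCFi22BChk14
open Cfsg.Agent.Lib.Helper28.TC2Upper Cfsg.Agent.Lib.Helper28.TC2Lower Cfsg.Agent.Lib.Helper28.TC2Orbit Cfsg.Agent.Lib.Helper28.TC2Range Cfsg.Agent.Lib.Helper28.TC2Bsgs Cfsg.Agent.Lib.Helper28.TCFi22BTable

theorem hgens3 : BT.all (fun s => decide (s ∈ A3.map fun l => [l])) orb3.gens = true := by decide +kernel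
theorem hA3 : ∀ l ∈ A3, l < btable.k ∧ ∀ q ∈ ([3, 1, 0] : List ℕ), btable.tau l q = q := by decide +kernel
theorem conn4_0 : OrbData.connOKc orb4 btable 1 0 14080 = true := by decide +kernel
theorem cnt4 : orb4.count 14080 1 = 12 := by decide +kernel
theorem hgens4 : BT.all (fun s => decide (s ∈ A4.map fun l => [l])) orb4.gens = true := by decide +kernel

end Cfsg.Agent.Lib.Helper28.TCFi22BChk14
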