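import Cfsg.Agent.Lib.Helper28.TCFi22W0Table
set_option autoImplicit false
set_option maxRecDepth 100000
set_option maxHeartbeats 0

namespace Cfsg.Agent.Lib.Helper28.TCFi22W0L0
open Cfsg.Agent.Lib.Helper28.TC2Upper Cfsg.Agent.Lib.Helper28.TC2Lower Cfsg.Agent.Lib.Helper28.TCFi22W0Table

theorem rel0 : table.relOK chkPaths 0 664 = true := by decide +kernel
theorem rel1 : table.relOK chkPaths 664 664 = true := by decide +kernel
theorem rel2 : table.relOK chkPaths 1328 664 = true := by decide +kernel
theorem rel3 : table.relOK chkPaths 1992 664 = true := by decide +kernel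
theorem rel4 : table.relOK chkPaths 2656 664 = true := by decide +kernel
theorem rel5 : table.relOK chkPaths 3320 664 = true := by decide +kernel

end Cfsg.Agent.Lib.Helper28.TCFi22W0L0
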