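import Cfsg.Agent.Lib.Helper28.TCFi22W0Table
set_option autoImplicit false
set_option maxRecDepth 100000
set_option maxHeartbeats 0

namespace Cfsg.Agent.Lib.Helper28.TCFi22W0L2
open Cfsg.Agent.Lib.Helper28.TC2Upper Cfsg.Agent.Lib.Helper28.TC2Lower Cfsg.Agent.Lib.Helper28.TCFi22W0Table

theorem rel12 : table.relOK chkPaths 7968 664 = true := by decide +kernel
theorem rel13 : table.relOK chkPaths 8632 664 = true := by decide +kernel
theorem rel14 : table.relOK chkPaths 9296 664 = true := by decide +kernel
theorem rel15 : table.relOK chkPaths 9960 664 = true := by decide +kernel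
theorem rel16 : table.relOK chkPaths 10624 664 = true := by decide +kernel
theorem rel17 : table.relOK chkPaths 11288 664 = true := by decide +kernel

end Cfsg.Agent.Lib.Helper28.TCFi22W0L2
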