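import Cfsg.Agent.Lib.Helper28.TC2Upper
import Cfsg.Agent.Lib.Helper28.TCFi22W0DataC0
set_option autoImplicit false
set_option maxRecDepth 100000

namespace Cfsg.Agent.Lib.Helper28.TCFi22W0Data
open Cfsg.Agent.Lib.Helper28.TC2Upper

/-- relators -/
def relT : BT (ℕ × List ℕ × List ℕ) := (BT.node 41 (BT.node 20 (BT.node 10 (BT.node 5 (BT.node 2 (BT.node 1 (BT.node 0 (BT.leaf (2, [0, 0], [0, 0])) (BT.leaf (6, [1, 0, 1, 0, 1, 0], [0, 1, 0, 1, 0, 1]))) (BT.leaf (4, [2, 0, 2, 0], [0, 2, 0, 2]))) (BT.node 4 (BT.node 3 (BT.leaf (4, [3, 0, 3, 0], [0, 3, 0, 3])) (BT.leaf (4, [4, 0, 4, 0], [0, 4, 0, 4]))) (BT.leaf (4, [5, 0, 5, 0], [0, 5, 0, 5])))) (BT.node 8 (BT.node 7 (BT.node 6 (BT.leaf (4, [7, 0, 7, 0], [0, 7, 0, 7])) (BT.leaf (4, [6, 0, 6, 0], [0, 6, 0, 6]))) (BT.leaf (4, [8, 0, 8, 0], [0, 8, 0, 8]))) (BT.node 9 (BT.leaf (6, [0, 1, 0,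 1, 0, 1], [1, 0, 1, 0, 1, 0])) (BT.leaf (2, [1, 1], [1, 1]))))) (BT.node 15 (BT.node 13 (BT.node 12 (BT.node 11 (BT.leaf (6, [2, 1, 2, 1, 2, 1], [1, 2, 1, 2, 1, 2])) (BT.leaf (4, [3, 1, 3, 1], [1, 3, 1, 3]))) (BT.leaf (4, [4, 1, 4, 1], [1, 4, 1, 4]))) (BT.node 14 (BT.leaf (4, [5, 1, 5, 1], [1, 5, 1, 5])) (BT.leaf (4, [7, 1, 7, 1], [1, 7, 1, 7])))) (BT.node 18 (BT.node 17 (BT.node 16 (BT.leaf (4, [6, 1, 6, 1], [1, 6, 1, 6])) (BT.leaf (4, [8, 1, 8, 1], [1, 8, 1, 8]))) (BT.leaf (4, [0, 2, 0, 2], [2, 0, 2, 0]))) (BT.node 19 (BT.leaf (6, [1, 2, 1, 2, 1, 2], [2, 1, 2, 1, 2, 1])) (BT.leaf (2, [2, 2], [2, 2])))))) (BT.node 31 (BT.node 26 (BT.node 23 (BT.node 22 (BT.node 21 (BT.leaf (6, [3, 2, 3, 2, 3, 2], [2, 3, 2, 3, 2, 3])) (BT.leaf (4, [4, 2, 4, 2], [2, 4, 2, 4]))) (BT.leaf (4, [5, 2, 5, 2], [2, 5, 2, 5]))) (BT.node 25 (BT.node 24 (BT.leaf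 (4, [7, 2, 7, 2], [2, 7, 2, 7])) (BT.leaf (4, [6, 2, 6, 2], [2, 6, 2, 6]))) (BT.leaf (4, [8, 2, 8, 2], [2, 8, 2, 8])))) (BT.node 29 (BT.node 28 (BT.node 27 (BT.leaf (4, [0, 3, 0, 3], [3, 0, 3, 0])) (BT.leaf (4, [1, 3, 1, 3], [3, 1, 3, 1]))) (BT.leaf (6, [2, 3, 2, 3, 2, 3], [3, 2, 3, 2, 3, 2]))) (BT.node 30 (BT.leaf (2, [3, 3], [3, 3])) (BT.leaf (6, [4, 3, 4, 3, 4, 3], [3, 4, 3, 4, 3, 4]))))) (BT.node 36 (BT.node 34 (BT.node 33 (BT.node 32 (BT.leaf (4, [5, 3, 5, 3], [3, 5, 3, 5])) (BT.leaf (6, [7, 3, 7, 3, 7, 3], [3, 7, 3, 7, 3, 7]))) (BT.leaf (4, [6, 3, 6, 3], [3, 6, 3, 6]))) (BT.node 35 (BT.leaf (4, [8, 3, 8, 3], [3, 8, 3, 8])) (BT.leaf (4, [0, 4, 0, 4], [4, 0, 4, 0])))) (BT.node 39 (BT.node 38 (BT.node 37 (BT.leaf (4, [1, 4, 1, 4], [4, 1, 4, 1])) (BT.leaf (4, [2, 4, 2, 4], [4, 2, 4, 2]))) (BT.leaf (6, [3, 4, 3, 4, 3, 4], [4, 3,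 4, 3, 4, 3]))) (BT.node 40 (BT.leaf (2, [4, 4], [4, 4])) (BT.leaf (6, [5, 4, 5, 4, 5, 4], [4, 5, 4, 5, 4, 5]))))))) (BT.node 62 (BT.node 52 (BT.node 47 (BT.node 44 (BT.node 43 (BT.node 42 (BT.leaf (4, [7, 4, 7, 4], [4, 7, 4, 7])) (BT.leaf (4, [6, 4, 6, 4], [4, 6, 4, 6]))) (BT.leaf (4, [8, 4, 8, 4], [4, 8, 4, 8]))) (BT.node 46 (BT.node 45 (BT.leaf (4, [0, 5, 0, 5], [5, 0, 5, 0])) (BT.leaf (4, [1, 5, 1, 5], [5, 1, 5, 1]))) (BT.leaf (4, [2, 5, 2, 5], [5, 2, 5, 2])))) (BT.node 50 (BT.node 49 (BT.node 48 (BT.leaf (4, [3, 5, 3, 5], [5, 3, 5, 3])) (BT.leaf (6, [4, 5, 4, 5, 4, 5], [5, 4, 5, 4, 5, 4]))) (BT.leaf (2, [5, 5], [5, 5]))) (BT.node 51 (BT.leaf (4, [7, 5, 7, 5], [5, 7, 5, 7])) (BT.leaf (6, [6, 5, 6, 5, 6, 5], [5, 6, 5, 6, 5, 6]))))) (BT.node 57 (BT.node 55 (BT.node 54 (BT.node 53 (BT.leaf (4, [8, 5, 8, 5], [5, 8, 5, 8])) (BT.leaf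 (4, [0, 7, 0, 7], [7, 0, 7, 0]))) (BT.leaf (4, [1, 7, 1, 7], [7, 1, 7, 1]))) (BT.node 56 (BT.leaf (4, [2, 7, 2, 7], [7, 2, 7, 2])) (BT.leaf (6, [3, 7, 3, 7, 3, 7], [7, 3, 7, 3, 7, 3])))) (BT.node 60 (BT.node 59 (BT.node 58 (BT.leaf (4, [4, 7, 4, 7], [7, 4, 7, 4])) (BT.leaf (4, [5, 7, 5, 7], [7, 5, 7, 5]))) (BT.leaf (2, [7, 7], [7, 7]))) (BT.node 61 (BT.leaf (4, [6, 7, 6, 7], [7, 6, 7, 6])) (BT.leaf (6, [8, 7, 8, 7, 8, 7], [7, 8, 7, 8, 7, 8])))))) (BT.node 73 (BT.node 68 (BT.node 65 (BT.node 64 (BT.node 63 (BT.leaf (4, [0, 6, 0, 6], [6, 0, 6, 0])) (BT.leaf (4, [1, 6, 1, 6], [6, 1, 6, 1]))) (BT.leaf (4, [2, 6, 2, 6], [6, 2, 6, 2]))) (BT.node 67 (BT.node 66 (BT.leaf (4, [3, 6, 3, 6], [6, 3, 6, 3])) (BT.leaf (4, [4, 6, 4, 6], [6, 4, 6, 4]))) (BT.leaf (6, [5, 6, 5, 6, 5, 6], [6, 5, 6, 5, 6, 5])))) (BT.node 71 (BT.node 70 (BT.node 69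 (BT.leaf (4, [7, 6, 7, 6], [6, 7, 6, 7])) (BT.leaf (2, [6, 6], [6, 6]))) (BT.leaf (4, [8, 6, 8, 6], [6, 8, 6, 8]))) (BT.node 72 (BT.leaf (4, [0, 8, 0, 8], [8, 0, 8, 0])) (BT.leaf (4, [1, 8, 1, 8], [8, 1, 8, 1]))))) (BT.node 78 (BT.node 76 (BT.node 75 (BT.node 74 (BT.leaf (4, [2, 8, 2, 8], [8, 2, 8, 2])) (BT.leaf (4, [3, 8, 3, 8], [8, 3, 8, 3]))) (BT.leaf (4, [4, 8, 4, 8], [8, 4, 8, 4]))) (BT.node 77 (BT.leaf (4, [5, 8, 5, 8], [8, 5, 8, 5])) (BT.leaf (6, [7, 8, 7, 8, 7, 8], [8, 7, 8, 7, 8, 7])))) (BT.node 81 (BT.node 80 (BT.node 79 (BT.leaf (4, [6, 8, 6, 8], [8, 6, 8, 6])) (BT.leaf (2, [8, 8], [8, 8]))) (BT.leaf (90, [8, 7, 3, 5, 4, 3, 1, 2, 3, 8, 7, 3, 5, 4, 3, 1, 2, 3, 8, 7, 3, 5, 4, 3, 1, 2, 3, 8, 7, 3, 5, 4, 3, 1, 2, 3, 8, 7, 3, 5, 4, 3, 1, 2, 3, 8, 7, 3, 5, 4, 3, 1, 2, 3, 8, 7, 3, 5, 4, 3, 1, 2, 3, 8, 7, 3, 5, 4, 3, 1, 2, 3,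 8, 7, 3, 5, 4, 3, 1, 2, 3, 8, 7, 3, 5, 4, 3, 1, 2, 3], [3, 2, 1, 3, 4, 5, 3, 7, 8, 3, 2, 1, 3, 4, 5, 3, 7, 8, 3, 2, 1, 3, 4, 5, 3, 7, 8, 3, 2, 1, 3, 4, 5, 3, 7, 8, 3, 2, 1, 3, 4, 5, 3, 7, 8, 3, 2, 1, 3, 4, 5, 3, 7, 8, 3, 2, 1, 3, 4, 5, 3, 7, 8, 3, 2, 1, 3, 4, 5, 3, 7, 8, 3, 2, 1, 3, 4, 5, 3, 7, 8, 3, 2, 1, 3, 4, 5, 3, 7, 8]))) (BT.node 82 (BT.leaf (63, [7, 5, 4, 3, 2, 1, 0, 7, 5, 4, 3, 2, 1, 0, 7, 5, 4, 3, 2, 1, 0, 7, 5, 4, 3, 2, 1, 0, 7, 5, 4, 3, 2, 1, 0, 7, 5, 4, 3, 2, 1, 0, 7, 5, 4, 3, 2, 1, 0, 7, 5, 4, 3, 2, 1, 0, 7, 5, 4, 3, 2, 1, 0], [0, 1, 2, 3, 4, 5, 7, 0, 1, 2, 3, 4, 5, 7, 0, 1, 2, 3, 4, 5, 7, 0, 1, 2, 3, 4, 5, 7, 0, 1, 2, 3, 4, 5, 7, 0, 1, 2, 3, 4, 5, 7, 0, 1, 2, 3, 4, 5, 7, 0, 1, 2, 3, 4, 5, 7, 0, 1, 2, 3, 4, 5, 7])) (BT.leaf (63, [7, 6, 5, 4, 3, 2, 1, 7, 6, 5, 4, 3, 2, 1, 7, 6, 5, 4, 3, 2, 1, 7, 6, 5, 4, 3, 2, 1, 7,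 6, 5, 4, 3, 2, 1, 7, 6, 5, 4, 3, 2, 1, 7, 6, 5, 4, 3, 2, 1, 7, 6, 5, 4, 3, 2, 1, 7, 6, 5, 4, 3, 2, 1], [1, 2, 3, 4, 5, 6, 7, 1, 2, 3, 4, 5, 6, 7, 1, 2, 3, 4, 5, 6, 7, 1, 2, 3, 4, 5, 6, 7, 1, 2, 3, 4, 5, 6, 7, 1, 2, 3, 4, 5, 6, 7, 1, 2, 3, 4, 5, 6, 7, 1, 2, 3, 4, 5, 6, 7, 1, 2, 3, 4, 5, 6, 7]))))))))
/-- subgroup generators -/
def subT : BT (ℕ × List ℕ × List ℕ) := (BT.node 3 (BT.node 1 (BT.node 0 (BT.leaf (1, [1], [1])) (BT.leaf (1, [2], [2]))) (BT.node 2 (BT.leaf (1, [3], [3])) (BT.leaf (1, [4], [4])))) (BT.node 5 (BT.node 4 (BT.leaf (1, [5], [5])) (BT.leaf (1, [6], [6]))) (BT.node 6 (BT.leaf (1, [7], [7])) (BT.leaf (1, [8], [8])))))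
/-- fact chunks -/
def colET : BT ℕ := (BT.node 199 (BT.node 99 (BT.node 49 (BT.node 24 (BT.node 12 (BT.node 6 (BT.node 3 (BT.node 1 (BT.node 0 (BT.leaf cE0) (BT.leaf cE1)) (BT.node 2 (BT.leaf cE2) (BT.leaf cE3))) (BT.node 5 (BT.node 4 (BT.leaf cE4) (BT.leaf cE5)) (BT.leaf cE6))) (BT.node 9 (BT.node 8 (BT.node 7 (BT.leaf cE7) (BT.leaf cE8)) (BT.leaf cE9)) (BT.node 11 (BT.node 10 (BT.leaf cE10) (BT.leaf cE11)) (BT.leaf cE12)))) (BT.node 18 (BT.node 15 (BT.node 14 (BT.node 13 (BT.leaf cE13) (BT.leaf cE14)) (BT.leaf cE15)) (BT.node 17 (BT.node 16 (BT.leaf cE16) (BT.leaf cE17)) (BT.leaf cE18))) (BT.node 21 (BT.node 20 (BT.node 19 (BT.leaf cE19) (BT.leaf cE20)) (BT.leaf cE21)) (BT.node 23 (BT.node 22 (BT.leaf cE22) (BT.leaf cE23)) (BT.leaf cE24))))) (BT.node 37 (BT.node 31 (BT.node 28 (BT.node 26 (BT.node 25 (BT.leaf cE25) (BT.leaf cE26))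 (BT.node 27 (BT.leaf cE27) (BT.leaf cE28))) (BT.node 30 (BT.node 29 (BT.leaf cE29) (BT.leaf cE30)) (BT.leaf cE31))) (BT.node 34 (BT.node 33 (BT.node 32 (BT.leaf cE32) (BT.leaf cE33)) (BT.leaf cE34)) (BT.node 36 (BT.node 35 (BT.leaf cE35) (BT.leaf cE36)) (BT.leaf cE37)))) (BT.node 43 (BT.node 40 (BT.node 39 (BT.node 38 (BT.leaf cE38) (BT.leaf cE39)) (BT.leaf cE40)) (BT.node 42 (BT.node 41 (BT.leaf cE41) (BT.leaf cE42)) (BT.leaf cE43))) (BT.node 46 (BT.node 45 (BT.node 44 (BT.leaf cE44) (BT.leaf cE45)) (BT.leaf cE46)) (BT.node 48 (BT.node 47 (BT.leaf cE47) (BT.leaf cE48)) (BT.leaf cE49)))))) (BT.node 74 (BT.node 62 (BT.node 56 (BT.node 53 (BT.node 51 (BT.node 50 (BT.leaf cE50) (BT.leaf cE51)) (BT.node 52 (BT.leaf cE52) (BT.leaf cE53))) (BT.node 55 (BT.node 54 (BT.leaf cE54) (BT.leaf cE55)) (BT.leaf cE56))) (BT.node 59 (BT.node 58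 (BT.node 57 (BT.leaf cE57) (BT.leaf cE58)) (BT.leaf cE59)) (BT.node 61 (BT.node 60 (BT.leaf cE60) (BT.leaf cE61)) (BT.leaf cE62)))) (BT.node 68 (BT.node 65 (BT.node 64 (BT.node 63 (BT.leaf cE63) (BT.leaf cE64)) (BT.leaf cE65)) (BT.node 67 (BT.node 66 (BT.leaf cE66) (BT.leaf cE67)) (BT.leaf cE68))) (BT.node 71 (BT.node 70 (BT.node 69 (BT.leaf cE69) (BT.leaf cE70)) (BT.leaf cE71)) (BT.node 73 (BT.node 72 (BT.leaf cE72) (BT.leaf cE73)) (BT.leaf cE74))))) (BT.node 87 (BT.node 81 (BT.node 78 (BT.node 76 (BT.node 75 (BT.leaf cE75) (BT.leaf cE76)) (BT.node 77 (BT.leaf cE77) (BT.leaf cE78))) (BT.node 80 (BT.node 79 (BT.leaf cE79) (BT.leaf cE80)) (BT.leaf cE81))) (BT.node 84 (BT.node 83 (BT.node 82 (BT.leaf cE82) (BT.leaf cE83)) (BT.leaf cE84)) (BT.node 86 (BT.node 85 (BT.leaf cE85) (BT.leaf cE86)) (BT.leaf cE87)))) (BT.node 93 (BT.node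 90 (BT.node 89 (BT.node 88 (BT.leaf cE88) (BT.leaf cE89)) (BT.leaf cE90)) (BT.node 92 (BT.node 91 (BT.leaf cE91) (BT.leaf cE92)) (BT.leaf cE93))) (BT.node 96 (BT.node 95 (BT.node 94 (BT.leaf cE94) (BT.leaf cE95)) (BT.leaf cE96)) (BT.node 98 (BT.node 97 (BT.leaf cE97) (BT.leaf cE98)) (BT.leaf cE99))))))) (BT.node 149 (BT.node 124 (BT.node 112 (BT.node 106 (BT.node 103 (BT.node 101 (BT.node 100 (BT.leaf cE100) (BT.leaf cE101)) (BT.node 102 (BT.leaf cE102) (BT.leaf cE103))) (BT.node 105 (BT.node 104 (BT.leaf cE104) (BT.leaf cE105)) (BT.leaf cE106))) (BT.node 109 (BT.node 108 (BT.node 107 (BT.leaf cE107) (BT.leaf cE108)) (BT.leaf cE109)) (BT.node 111 (BT.node 110 (BT.leaf cE110) (BT.leaf cE111)) (BT.leaf cE112)))) (BT.node 118 (BT.node 115 (BT.node 114 (BT.node 113 (BT.leaf cE113) (BT.leaf cE114)) (BT.leaf cE115)) (BT.node 117 (BT.node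 116 (BT.leaf cE116) (BT.leaf cE117)) (BT.leaf cE118))) (BT.node 121 (BT.node 120 (BT.node 119 (BT.leaf cE119) (BT.leaf cE120)) (BT.leaf cE121)) (BT.node 123 (BT.node 122 (BT.leaf cE122) (BT.leaf cE123)) (BT.leaf cE124))))) (BT.node 137 (BT.node 131 (BT.node 128 (BT.node 126 (BT.node 125 (BT.leaf cE125) (BT.leaf cE126)) (BT.node 127 (BT.leaf cE127) (BT.leaf cE128))) (BT.node 130 (BT.node 129 (BT.leaf cE129) (BT.leaf cE130)) (BT.leaf cE131))) (BT.node 134 (BT.node 133 (BT.node 132 (BT.leaf cE132) (BT.leaf cE133)) (BT.leaf cE134)) (BT.node 136 (BT.node 135 (BT.leaf cE135) (BT.leaf cE136)) (BT.leaf cE137)))) (BT.node 143 (BT.node 140 (BT.node 139 (BT.node 138 (BT.leaf cE138) (BT.leaf cE139)) (BT.leaf cE140)) (BT.node 142 (BT.node 141 (BT.leaf cE141) (BT.leaf cE142)) (BT.leaf cE143))) (BT.node 146 (BT.node 145 (BT.node 144 (BT.leaf cE144)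 (BT.leaf cE145)) (BT.leaf cE146)) (BT.node 148 (BT.node 147 (BT.leaf cE147) (BT.leaf cE148)) (BT.leaf cE149)))))) (BT.node 174 (BT.node 162 (BT.node 156 (BT.node 153 (BT.node 151 (BT.node 150 (BT.leaf cE150) (BT.leaf cE151)) (BT.node 152 (BT.leaf cE152) (BT.leaf cE153))) (BT.node 155 (BT.node 154 (BT.leaf cE154) (BT.leaf cE155)) (BT.leaf cE156))) (BT.node 159 (BT.node 158 (BT.node 157 (BT.leaf cE157) (BT.leaf cE158)) (BT.leaf cE159)) (BT.node 161 (BT.node 160 (BT.leaf cE160) (BT.leaf cE161)) (BT.leaf cE162)))) (BT.node 168 (BT.node 165 (BT.node 164 (BT.node 163 (BT.leaf cE163) (BT.leaf cE164)) (BT.leaf cE165)) (BT.node 167 (BT.node 166 (BT.leaf cE166) (BT.leaf cE167)) (BT.leaf cE168))) (BT.node 171 (BT.node 170 (BT.node 169 (BT.leaf cE169) (BT.leaf cE170)) (BT.leaf cE171)) (BT.node 173 (BT.node 172 (BT.leaf cE172) (BT.leaf cE173))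 (BT.leaf cE174))))) (BT.node 187 (BT.node 181 (BT.node 178 (BT.node 176 (BT.node 175 (BT.leaf cE175) (BT.leaf cE176)) (BT.node 177 (BT.leaf cE177) (BT.leaf cE178))) (BT.node 180 (BT.node 179 (BT.leaf cE179) (BT.leaf cE180)) (BT.leaf cE181))) (BT.node 184 (BT.node 183 (BT.node 182 (BT.leaf cE182) (BT.leaf cE183)) (BT.leaf cE184)) (BT.node 186 (BT.node 185 (BT.leaf cE185) (BT.leaf cE186)) (BT.leaf cE187)))) (BT.node 193 (BT.node 190 (BT.node 189 (BT.node 188 (BT.leaf cE188) (BT.leaf cE189)) (BT.leaf cE190)) (BT.node 192 (BT.node 191 (BT.leaf cE191) (BT.leaf cE192)) (BT.leaf cE193))) (BT.node 196 (BT.node 195 (BT.node 194 (BT.leaf cE194) (BT.leaf cE195)) (BT.leaf cE196)) (BT.node 198 (BT.node 197 (BT.leaf cE197) (BT.leaf cE198)) (BT.leaf cE199)))))))) (BT.node 299 (BT.node 249 (BT.node 224 (BT.node 212 (BT.node 206 (BT.node 203 (BT.node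 201 (BT.node 200 (BT.leaf cE200) (BT.leaf cE201)) (BT.node 202 (BT.leaf cE202) (BT.leaf cE203))) (BT.node 205 (BT.node 204 (BT.leaf cE204) (BT.leaf cE205)) (BT.leaf cE206))) (BT.node 209 (BT.node 208 (BT.node 207 (BT.leaf cE207) (BT.leaf cE208)) (BT.leaf cE209)) (BT.node 211 (BT.node 210 (BT.leaf cE210) (BT.leaf cE211)) (BT.leaf cE212)))) (BT.node 218 (BT.node 215 (BT.node 214 (BT.node 213 (BT.leaf cE213) (BT.leaf cE214)) (BT.leaf cE215)) (BT.node 217 (BT.node 216 (BT.leaf cE216) (BT.leaf cE217)) (BT.leaf cE218))) (BT.node 221 (BT.node 220 (BT.node 219 (BT.leaf cE219) (BT.leaf cE220)) (BT.leaf cE221)) (BT.node 223 (BT.node 222 (BT.leaf cE222) (BT.leaf cE223)) (BT.leaf cE224))))) (BT.node 237 (BT.node 231 (BT.node 228 (BT.node 226 (BT.node 225 (BT.leaf cE225) (BT.leaf cE226)) (BT.node 227 (BT.leaf cE227) (BT.leaf cE228))) (BT.node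 230 (BT.node 229 (BT.leaf cE229) (BT.leaf cE230)) (BT.leaf cE231))) (BT.node 234 (BT.node 233 (BT.node 232 (BT.leaf cE232) (BT.leaf cE233)) (BT.leaf cE234)) (BT.node 236 (BT.node 235 (BT.leaf cE235) (BT.leaf cE236)) (BT.leaf cE237)))) (BT.node 243 (BT.node 240 (BT.node 239 (BT.node 238 (BT.leaf cE238) (BT.leaf cE239)) (BT.leaf cE240)) (BT.node 242 (BT.node 241 (BT.leaf cE241) (BT.leaf cE242)) (BT.leaf cE243))) (BT.node 246 (BT.node 245 (BT.node 244 (BT.leaf cE244) (BT.leaf cE245)) (BT.leaf cE246)) (BT.node 248 (BT.node 247 (BT.leaf cE247) (BT.leaf cE248)) (BT.leaf cE249)))))) (BT.node 274 (BT.node 262 (BT.node 256 (BT.node 253 (BT.node 251 (BT.node 250 (BT.leaf cE250) (BT.leaf cE251)) (BT.node 252 (BT.leaf cE252) (BT.leaf cE253))) (BT.node 255 (BT.node 254 (BT.leaf cE254) (BT.leaf cE255)) (BT.leaf cE256))) (BT.node 259 (BT.node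 258 (BT.node 257 (BT.leaf cE257) (BT.leaf cE258)) (BT.leaf cE259)) (BT.node 261 (BT.node 260 (BT.leaf cE260) (BT.leaf cE261)) (BT.leaf cE262)))) (BT.node 268 (BT.node 265 (BT.node 264 (BT.node 263 (BT.leaf cE263) (BT.leaf cE264)) (BT.leaf cE265)) (BT.node 267 (BT.node 266 (BT.leaf cE266) (BT.leaf cE267)) (BT.leaf cE268))) (BT.node 271 (BT.node 270 (BT.node 269 (BT.leaf cE269) (BT.leaf cE270)) (BT.leaf cE271)) (BT.node 273 (BT.node 272 (BT.leaf cE272) (BT.leaf cE273)) (BT.leaf cE274))))) (BT.node 287 (BT.node 281 (BT.node 278 (BT.node 276 (BT.node 275 (BT.leaf cE275) (BT.leaf cE276)) (BT.node 277 (BT.leaf cE277) (BT.leaf cE278))) (BT.node 280 (BT.node 279 (BT.leaf cE279) (BT.leaf cE280)) (BT.leaf cE281))) (BT.node 284 (BT.node 283 (BT.node 282 (BT.leaf cE282) (BT.leaf cE283)) (BT.leaf cE284)) (BT.node 286 (BT.node 285 (BT.leaf cE285)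 (BT.leaf cE286)) (BT.leaf cE287)))) (BT.node 293 (BT.node 290 (BT.node 289 (BT.node 288 (BT.leaf cE288) (BT.leaf cE289)) (BT.leaf cE290)) (BT.node 292 (BT.node 291 (BT.leaf cE291) (BT.leaf cE292)) (BT.leaf cE293))) (BT.node 296 (BT.node 295 (BT.node 294 (BT.leaf cE294) (BT.leaf cE295)) (BT.leaf cE296)) (BT.node 298 (BT.node 297 (BT.leaf cE297) (BT.leaf cE298)) (BT.leaf cE299))))))) (BT.node 349 (BT.node 324 (BT.node 312 (BT.node 306 (BT.node 303 (BT.node 301 (BT.node 300 (BT.leaf cE300) (BT.leaf cE301)) (BT.node 302 (BT.leaf cE302) (BT.leaf cE303))) (BT.node 305 (BT.node 304 (BT.leaf cE304) (BT.leaf cE305)) (BT.leaf cE306))) (BT.node 309 (BT.node 308 (BT.node 307 (BT.leaf cE307) (BT.leaf cE308)) (BT.leaf cE309)) (BT.node 311 (BT.node 310 (BT.leaf cE310) (BT.leaf cE311)) (BT.leaf cE312)))) (BT.node 318 (BT.node 315 (BT.node 314 (BT.node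 313 (BT.leaf cE313) (BT.leaf cE314)) (BT.leaf cE315)) (BT.node 317 (BT.node 316 (BT.leaf cE316) (BT.leaf cE317)) (BT.leaf cE318))) (BT.node 321 (BT.node 320 (BT.node 319 (BT.leaf cE319) (BT.leaf cE320)) (BT.leaf cE321)) (BT.node 323 (BT.node 322 (BT.leaf cE322) (BT.leaf cE323)) (BT.leaf cE324))))) (BT.node 337 (BT.node 331 (BT.node 328 (BT.node 326 (BT.node 325 (BT.leaf cE325) (BT.leaf cE326)) (BT.node 327 (BT.leaf cE327) (BT.leaf cE328))) (BT.node 330 (BT.node 329 (BT.leaf cE329) (BT.leaf cE330)) (BT.leaf cE331))) (BT.node 334 (BT.node 333 (BT.node 332 (BT.leaf cE332) (BT.leaf cE333)) (BT.leaf cE334)) (BT.node 336 (BT.node 335 (BT.leaf cE335) (BT.leaf cE336)) (BT.leaf cE337)))) (BT.node 343 (BT.node 340 (BT.node 339 (BT.node 338 (BT.leaf cE338) (BT.leaf cE339)) (BT.leaf cE340)) (BT.node 342 (BT.node 341 (BT.leaf cE341) (BT.leaf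 cE342)) (BT.leaf cE343))) (BT.node 346 (BT.node 345 (BT.node 344 (BT.leaf cE344) (BT.leaf cE345)) (BT.leaf cE346)) (BT.node 348 (BT.node 347 (BT.leaf cE347) (BT.leaf cE348)) (BT.leaf cE349)))))) (BT.node 374 (BT.node 362 (BT.node 356 (BT.node 353 (BT.node 351 (BT.node 350 (BT.leaf cE350) (BT.leaf cE351)) (BT.node 352 (BT.leaf cE352) (BT.leaf cE353))) (BT.node 355 (BT.node 354 (BT.leaf cE354) (BT.leaf cE355)) (BT.leaf cE356))) (BT.node 359 (BT.node 358 (BT.node 357 (BT.leaf cE357) (BT.leaf cE358)) (BT.leaf cE359)) (BT.node 361 (BT.node 360 (BT.leaf cE360) (BT.leaf cE361)) (BT.leaf cE362)))) (BT.node 368 (BT.node 365 (BT.node 364 (BT.node 363 (BT.leaf cE363) (BT.leaf cE364)) (BT.leaf cE365)) (BT.node 367 (BT.node 366 (BT.leaf cE366) (BT.leaf cE367)) (BT.leaf cE368))) (BT.node 371 (BT.node 370 (BT.node 369 (BT.leaf cE369) (BT.leaf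 cE370)) (BT.leaf cE371)) (BT.node 373 (BT.node 372 (BT.leaf cE372) (BT.leaf cE373)) (BT.leaf cE374))))) (BT.node 387 (BT.node 381 (BT.node 378 (BT.node 376 (BT.node 375 (BT.leaf cE375) (BT.leaf cE376)) (BT.node 377 (BT.leaf cE377) (BT.leaf cE378))) (BT.node 380 (BT.node 379 (BT.leaf cE379) (BT.leaf cE380)) (BT.leaf cE381))) (BT.node 384 (BT.node 383 (BT.node 382 (BT.leaf cE382) (BT.leaf cE383)) (BT.leaf cE384)) (BT.node 386 (BT.node 385 (BT.leaf cE385) (BT.leaf cE386)) (BT.leaf cE387)))) (BT.node 393 (BT.node 390 (BT.node 389 (BT.node 388 (BT.leaf cE388) (BT.leaf cE389)) (BT.leaf cE390)) (BT.node 392 (BT.node 391 (BT.leaf cE391) (BT.leaf cE392)) (BT.leaf cE393))) (BT.node 396 (BT.node 395 (BT.node 394 (BT.leaf cE394) (BT.leaf cE395)) (BT.leaf cE396)) (BT.node 398 (BT.node 397 (BT.leaf cE397) (BT.leaf cE398)) (BT.leaf cE399)))))))))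
/-- justification chunks -/
def colJT : BT ℕ := (BT.node 199 (BT.node 99 (BT.node 49 (BT.node 24 (BT.node 12 (BT.node 6 (BT.node 3 (BT.node 1 (BT.node 0 (BT.leaf cJ0) (BT.leaf cJ1)) (BT.node 2 (BT.leaf cJ2) (BT.leaf cJ3))) (BT.node 5 (BT.node 4 (BT.leaf cJ4) (BT.leaf cJ5)) (BT.leaf cJ6))) (BT.node 9 (BT.node 8 (BT.node 7 (BT.leaf cJ7) (BT.leaf cJ8)) (BT.leaf cJ9)) (BT.node 11 (BT.node 10 (BT.leaf cJ10) (BT.leaf cJ11)) (BT.leaf cJ12)))) (BT.node 18 (BT.node 15 (BT.node 14 (BT.node 13 (BT.leaf cJ13) (BT.leaf cJ14)) (BT.leaf cJ15)) (BT.node 17 (BT.node 16 (BT.leaf cJ16) (BT.leaf cJ17)) (BT.leaf cJ18))) (BT.node 21 (BT.node 20 (BT.node 19 (BT.leaf cJ19) (BT.leaf cJ20)) (BT.leaf cJ21)) (BT.node 23 (BT.node 22 (BT.leaf cJ22) (BT.leaf cJ23)) (BT.leaf cJ24))))) (BT.node 37 (BT.node 31 (BT.node 28 (BT.node 26 (BT.node 25 (BT.leaf cJ25) (BT.leaf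 cJ26)) (BT.node 27 (BT.leaf cJ27) (BT.leaf cJ28))) (BT.node 30 (BT.node 29 (BT.leaf cJ29) (BT.leaf cJ30)) (BT.leaf cJ31))) (BT.node 34 (BT.node 33 (BT.node 32 (BT.leaf cJ32) (BT.leaf cJ33)) (BT.leaf cJ34)) (BT.node 36 (BT.node 35 (BT.leaf cJ35) (BT.leaf cJ36)) (BT.leaf cJ37)))) (BT.node 43 (BT.node 40 (BT.node 39 (BT.node 38 (BT.leaf cJ38) (BT.leaf cJ39)) (BT.leaf cJ40)) (BT.node 42 (BT.node 41 (BT.leaf cJ41) (BT.leaf cJ42)) (BT.leaf cJ43))) (BT.node 46 (BT.node 45 (BT.node 44 (BT.leaf cJ44) (BT.leaf cJ45)) (BT.leaf cJ46)) (BT.node 48 (BT.node 47 (BT.leaf cJ47) (BT.leaf cJ48)) (BT.leaf cJ49)))))) (BT.node 74 (BT.node 62 (BT.node 56 (BT.node 53 (BT.node 51 (BT.node 50 (BT.leaf cJ50) (BT.leaf cJ51)) (BT.node 52 (BT.leaf cJ52) (BT.leaf cJ53))) (BT.node 55 (BT.node 54 (BT.leaf cJ54) (BT.leaf cJ55)) (BT.leaf cJ56))) (BT.node 59 (BT.node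 58 (BT.node 57 (BT.leaf cJ57) (BT.leaf cJ58)) (BT.leaf cJ59)) (BT.node 61 (BT.node 60 (BT.leaf cJ60) (BT.leaf cJ61)) (BT.leaf cJ62)))) (BT.node 68 (BT.node 65 (BT.node 64 (BT.node 63 (BT.leaf cJ63) (BT.leaf cJ64)) (BT.leaf cJ65)) (BT.node 67 (BT.node 66 (BT.leaf cJ66) (BT.leaf cJ67)) (BT.leaf cJ68))) (BT.node 71 (BT.node 70 (BT.node 69 (BT.leaf cJ69) (BT.leaf cJ70)) (BT.leaf cJ71)) (BT.node 73 (BT.node 72 (BT.leaf cJ72) (BT.leaf cJ73)) (BT.leaf cJ74))))) (BT.node 87 (BT.node 81 (BT.node 78 (BT.node 76 (BT.node 75 (BT.leaf cJ75) (BT.leaf cJ76)) (BT.node 77 (BT.leaf cJ77) (BT.leaf cJ78))) (BT.node 80 (BT.node 79 (BT.leaf cJ79) (BT.leaf cJ80)) (BT.leaf cJ81))) (BT.node 84 (BT.node 83 (BT.node 82 (BT.leaf cJ82) (BT.leaf cJ83)) (BT.leaf cJ84)) (BT.node 86 (BT.node 85 (BT.leaf cJ85) (BT.leaf cJ86)) (BT.leaf cJ87)))) (BT.node 93 (BT.node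 90 (BT.node 89 (BT.node 88 (BT.leaf cJ88) (BT.leaf cJ89)) (BT.leaf cJ90)) (BT.node 92 (BT.node 91 (BT.leaf cJ91) (BT.leaf cJ92)) (BT.leaf cJ93))) (BT.node 96 (BT.node 95 (BT.node 94 (BT.leaf cJ94) (BT.leaf cJ95)) (BT.leaf cJ96)) (BT.node 98 (BT.node 97 (BT.leaf cJ97) (BT.leaf cJ98)) (BT.leaf cJ99))))))) (BT.node 149 (BT.node 124 (BT.node 112 (BT.node 106 (BT.node 103 (BT.node 101 (BT.node 100 (BT.leaf cJ100) (BT.leaf cJ101)) (BT.node 102 (BT.leaf cJ102) (BT.leaf cJ103))) (BT.node 105 (BT.node 104 (BT.leaf cJ104) (BT.leaf cJ105)) (BT.leaf cJ106))) (BT.node 109 (BT.node 108 (BT.node 107 (BT.leaf cJ107) (BT.leaf cJ108)) (BT.leaf cJ109)) (BT.node 111 (BT.node 110 (BT.leaf cJ110) (BT.leaf cJ111)) (BT.leaf cJ112)))) (BT.node 118 (BT.node 115 (BT.node 114 (BT.node 113 (BT.leaf cJ113) (BT.leaf cJ114)) (BT.leaf cJ115)) (BT.node 117 (BT.node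 116 (BT.leaf cJ116) (BT.leaf cJ117)) (BT.leaf cJ118))) (BT.node 121 (BT.node 120 (BT.node 119 (BT.leaf cJ119) (BT.leaf cJ120)) (BT.leaf cJ121)) (BT.node 123 (BT.node 122 (BT.leaf cJ122) (BT.leaf cJ123)) (BT.leaf cJ124))))) (BT.node 137 (BT.node 131 (BT.node 128 (BT.node 126 (BT.node 125 (BT.leaf cJ125) (BT.leaf cJ126)) (BT.node 127 (BT.leaf cJ127) (BT.leaf cJ128))) (BT.node 130 (BT.node 129 (BT.leaf cJ129) (BT.leaf cJ130)) (BT.leaf cJ131))) (BT.node 134 (BT.node 133 (BT.node 132 (BT.leaf cJ132) (BT.leaf cJ133)) (BT.leaf cJ134)) (BT.node 136 (BT.node 135 (BT.leaf cJ135) (BT.leaf cJ136)) (BT.leaf cJ137)))) (BT.node 143 (BT.node 140 (BT.node 139 (BT.node 138 (BT.leaf cJ138) (BT.leaf cJ139)) (BT.leaf cJ140)) (BT.node 142 (BT.node 141 (BT.leaf cJ141) (BT.leaf cJ142)) (BT.leaf cJ143))) (BT.node 146 (BT.node 145 (BT.node 144 (BT.leaf cJ144)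 (BT.leaf cJ145)) (BT.leaf cJ146)) (BT.node 148 (BT.node 147 (BT.leaf cJ147) (BT.leaf cJ148)) (BT.leaf cJ149)))))) (BT.node 174 (BT.node 162 (BT.node 156 (BT.node 153 (BT.node 151 (BT.node 150 (BT.leaf cJ150) (BT.leaf cJ151)) (BT.node 152 (BT.leaf cJ152) (BT.leaf cJ153))) (BT.node 155 (BT.node 154 (BT.leaf cJ154) (BT.leaf cJ155)) (BT.leaf cJ156))) (BT.node 159 (BT.node 158 (BT.node 157 (BT.leaf cJ157) (BT.leaf cJ158)) (BT.leaf cJ159)) (BT.node 161 (BT.node 160 (BT.leaf cJ160) (BT.leaf cJ161)) (BT.leaf cJ162)))) (BT.node 168 (BT.node 165 (BT.node 164 (BT.node 163 (BT.leaf cJ163) (BT.leaf cJ164)) (BT.leaf cJ165)) (BT.node 167 (BT.node 166 (BT.leaf cJ166) (BT.leaf cJ167)) (BT.leaf cJ168))) (BT.node 171 (BT.node 170 (BT.node 169 (BT.leaf cJ169) (BT.leaf cJ170)) (BT.leaf cJ171)) (BT.node 173 (BT.node 172 (BT.leaf cJ172) (BT.leaf cJ173))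 (BT.leaf cJ174))))) (BT.node 187 (BT.node 181 (BT.node 178 (BT.node 176 (BT.node 175 (BT.leaf cJ175) (BT.leaf cJ176)) (BT.node 177 (BT.leaf cJ177) (BT.leaf cJ178))) (BT.node 180 (BT.node 179 (BT.leaf cJ179) (BT.leaf cJ180)) (BT.leaf cJ181))) (BT.node 184 (BT.node 183 (BT.node 182 (BT.leaf cJ182) (BT.leaf cJ183)) (BT.leaf cJ184)) (BT.node 186 (BT.node 185 (BT.leaf cJ185) (BT.leaf cJ186)) (BT.leaf cJ187)))) (BT.node 193 (BT.node 190 (BT.node 189 (BT.node 188 (BT.leaf cJ188) (BT.leaf cJ189)) (BT.leaf cJ190)) (BT.node 192 (BT.node 191 (BT.leaf cJ191) (BT.leaf cJ192)) (BT.leaf cJ193))) (BT.node 196 (BT.node 195 (BT.node 194 (BT.leaf cJ194) (BT.leaf cJ195)) (BT.leaf cJ196)) (BT.node 198 (BT.node 197 (BT.leaf cJ197) (BT.leaf cJ198)) (BT.leaf cJ199)))))))) (BT.node 299 (BT.node 249 (BT.node 224 (BT.node 212 (BT.node 206 (BT.node 203 (BT.node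 201 (BT.node 200 (BT.leaf cJ200) (BT.leaf cJ201)) (BT.node 202 (BT.leaf cJ202) (BT.leaf cJ203))) (BT.node 205 (BT.node 204 (BT.leaf cJ204) (BT.leaf cJ205)) (BT.leaf cJ206))) (BT.node 209 (BT.node 208 (BT.node 207 (BT.leaf cJ207) (BT.leaf cJ208)) (BT.leaf cJ209)) (BT.node 211 (BT.node 210 (BT.leaf cJ210) (BT.leaf cJ211)) (BT.leaf cJ212)))) (BT.node 218 (BT.node 215 (BT.node 214 (BT.node 213 (BT.leaf cJ213) (BT.leaf cJ214)) (BT.leaf cJ215)) (BT.node 217 (BT.node 216 (BT.leaf cJ216) (BT.leaf cJ217)) (BT.leaf cJ218))) (BT.node 221 (BT.node 220 (BT.node 219 (BT.leaf cJ219) (BT.leaf cJ220)) (BT.leaf cJ221)) (BT.node 223 (BT.node 222 (BT.leaf cJ222) (BT.leaf cJ223)) (BT.leaf cJ224))))) (BT.node 237 (BT.node 231 (BT.node 228 (BT.node 226 (BT.node 225 (BT.leaf cJ225) (BT.leaf cJ226)) (BT.node 227 (BT.leaf cJ227) (BT.leaf cJ228))) (BT.node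 230 (BT.node 229 (BT.leaf cJ229) (BT.leaf cJ230)) (BT.leaf cJ231))) (BT.node 234 (BT.node 233 (BT.node 232 (BT.leaf cJ232) (BT.leaf cJ233)) (BT.leaf cJ234)) (BT.node 236 (BT.node 235 (BT.leaf cJ235) (BT.leaf cJ236)) (BT.leaf cJ237)))) (BT.node 243 (BT.node 240 (BT.node 239 (BT.node 238 (BT.leaf cJ238) (BT.leaf cJ239)) (BT.leaf cJ240)) (BT.node 242 (BT.node 241 (BT.leaf cJ241) (BT.leaf cJ242)) (BT.leaf cJ243))) (BT.node 246 (BT.node 245 (BT.node 244 (BT.leaf cJ244) (BT.leaf cJ245)) (BT.leaf cJ246)) (BT.node 248 (BT.node 247 (BT.leaf cJ247) (BT.leaf cJ248)) (BT.leaf cJ249)))))) (BT.node 274 (BT.node 262 (BT.node 256 (BT.node 253 (BT.node 251 (BT.node 250 (BT.leaf cJ250) (BT.leaf cJ251)) (BT.node 252 (BT.leaf cJ252) (BT.leaf cJ253))) (BT.node 255 (BT.node 254 (BT.leaf cJ254) (BT.leaf cJ255)) (BT.leaf cJ256))) (BT.node 259 (BT.node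 258 (BT.node 257 (BT.leaf cJ257) (BT.leaf cJ258)) (BT.leaf cJ259)) (BT.node 261 (BT.node 260 (BT.leaf cJ260) (BT.leaf cJ261)) (BT.leaf cJ262)))) (BT.node 268 (BT.node 265 (BT.node 264 (BT.node 263 (BT.leaf cJ263) (BT.leaf cJ264)) (BT.leaf cJ265)) (BT.node 267 (BT.node 266 (BT.leaf cJ266) (BT.leaf cJ267)) (BT.leaf cJ268))) (BT.node 271 (BT.node 270 (BT.node 269 (BT.leaf cJ269) (BT.leaf cJ270)) (BT.leaf cJ271)) (BT.node 273 (BT.node 272 (BT.leaf cJ272) (BT.leaf cJ273)) (BT.leaf cJ274))))) (BT.node 287 (BT.node 281 (BT.node 278 (BT.node 276 (BT.node 275 (BT.leaf cJ275) (BT.leaf cJ276)) (BT.node 277 (BT.leaf cJ277) (BT.leaf cJ278))) (BT.node 280 (BT.node 279 (BT.leaf cJ279) (BT.leaf cJ280)) (BT.leaf cJ281))) (BT.node 284 (BT.node 283 (BT.node 282 (BT.leaf cJ282) (BT.leaf cJ283)) (BT.leaf cJ284)) (BT.node 286 (BT.node 285 (BT.leaf cJ285)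 (BT.leaf cJ286)) (BT.leaf cJ287)))) (BT.node 293 (BT.node 290 (BT.node 289 (BT.node 288 (BT.leaf cJ288) (BT.leaf cJ289)) (BT.leaf cJ290)) (BT.node 292 (BT.node 291 (BT.leaf cJ291) (BT.leaf cJ292)) (BT.leaf cJ293))) (BT.node 296 (BT.node 295 (BT.node 294 (BT.leaf cJ294) (BT.leaf cJ295)) (BT.leaf cJ296)) (BT.node 298 (BT.node 297 (BT.leaf cJ297) (BT.leaf cJ298)) (BT.leaf cJ299))))))) (BT.node 349 (BT.node 324 (BT.node 312 (BT.node 306 (BT.node 303 (BT.node 301 (BT.node 300 (BT.leaf cJ300) (BT.leaf cJ301)) (BT.node 302 (BT.leaf cJ302) (BT.leaf cJ303))) (BT.node 305 (BT.node 304 (BT.leaf cJ304) (BT.leaf cJ305)) (BT.leaf cJ306))) (BT.node 309 (BT.node 308 (BT.node 307 (BT.leaf cJ307) (BT.leaf cJ308)) (BT.leaf cJ309)) (BT.node 311 (BT.node 310 (BT.leaf cJ310) (BT.leaf cJ311)) (BT.leaf cJ312)))) (BT.node 318 (BT.node 315 (BT.node 314 (BT.node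 313 (BT.leaf cJ313) (BT.leaf cJ314)) (BT.leaf cJ315)) (BT.node 317 (BT.node 316 (BT.leaf cJ316) (BT.leaf cJ317)) (BT.leaf cJ318))) (BT.node 321 (BT.node 320 (BT.node 319 (BT.leaf cJ319) (BT.leaf cJ320)) (BT.leaf cJ321)) (BT.node 323 (BT.node 322 (BT.leaf cJ322) (BT.leaf cJ323)) (BT.leaf cJ324))))) (BT.node 337 (BT.node 331 (BT.node 328 (BT.node 326 (BT.node 325 (BT.leaf cJ325) (BT.leaf cJ326)) (BT.node 327 (BT.leaf cJ327) (BT.leaf cJ328))) (BT.node 330 (BT.node 329 (BT.leaf cJ329) (BT.leaf cJ330)) (BT.leaf cJ331))) (BT.node 334 (BT.node 333 (BT.node 332 (BT.leaf cJ332) (BT.leaf cJ333)) (BT.leaf cJ334)) (BT.node 336 (BT.node 335 (BT.leaf cJ335) (BT.leaf cJ336)) (BT.leaf cJ337)))) (BT.node 343 (BT.node 340 (BT.node 339 (BT.node 338 (BT.leaf cJ338) (BT.leaf cJ339)) (BT.leaf cJ340)) (BT.node 342 (BT.node 341 (BT.leaf cJ341) (BT.leaf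 cJ342)) (BT.leaf cJ343))) (BT.node 346 (BT.node 345 (BT.node 344 (BT.leaf cJ344) (BT.leaf cJ345)) (BT.leaf cJ346)) (BT.node 348 (BT.node 347 (BT.leaf cJ347) (BT.leaf cJ348)) (BT.leaf cJ349)))))) (BT.node 374 (BT.node 362 (BT.node 356 (BT.node 353 (BT.node 351 (BT.node 350 (BT.leaf cJ350) (BT.leaf cJ351)) (BT.node 352 (BT.leaf cJ352) (BT.leaf cJ353))) (BT.node 355 (BT.node 354 (BT.leaf cJ354) (BT.leaf cJ355)) (BT.leaf cJ356))) (BT.node 359 (BT.node 358 (BT.node 357 (BT.leaf cJ357) (BT.leaf cJ358)) (BT.leaf cJ359)) (BT.node 361 (BT.node 360 (BT.leaf cJ360) (BT.leaf cJ361)) (BT.leaf cJ362)))) (BT.node 368 (BT.node 365 (BT.node 364 (BT.node 363 (BT.leaf cJ363) (BT.leaf cJ364)) (BT.leaf cJ365)) (BT.node 367 (BT.node 366 (BT.leaf cJ366) (BT.leaf cJ367)) (BT.leaf cJ368))) (BT.node 371 (BT.node 370 (BT.node 369 (BT.leaf cJ369) (BT.leaf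 cJ370)) (BT.leaf cJ371)) (BT.node 373 (BT.node 372 (BT.leaf cJ372) (BT.leaf cJ373)) (BT.leaf cJ374))))) (BT.node 387 (BT.node 381 (BT.node 378 (BT.node 376 (BT.node 375 (BT.leaf cJ375) (BT.leaf cJ376)) (BT.node 377 (BT.leaf cJ377) (BT.leaf cJ378))) (BT.node 380 (BT.node 379 (BT.leaf cJ379) (BT.leaf cJ380)) (BT.leaf cJ381))) (BT.node 384 (BT.node 383 (BT.node 382 (BT.leaf cJ382) (BT.leaf cJ383)) (BT.leaf cJ384)) (BT.node 386 (BT.node 385 (BT.leaf cJ385) (BT.leaf cJ386)) (BT.leaf cJ387)))) (BT.node 393 (BT.node 390 (BT.node 389 (BT.node 388 (BT.leaf cJ388) (BT.leaf cJ389)) (BT.leaf cJ390)) (BT.node 392 (BT.node 391 (BT.leaf cJ391) (BT.leaf cJ392)) (BT.leaf cJ393))) (BT.node 396 (BT.node 395 (BT.node 394 (BT.leaf cJ394) (BT.leaf cJ395)) (BT.leaf cJ396)) (BT.node 398 (BT.node 397 (BT.leaf cJ397) (BT.leaf cJ398)) (BT.leaf cJ399)))))))))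
/-- parent chunks -/
def parCT : BT ℕ := (BT.node 19 (BT.node 9 (BT.node 4 (BT.node 2 (BT.node 1 (BT.node 0 (BT.leaf cP0) (BT.leaf cP1)) (BT.leaf cP2)) (BT.node 3 (BT.leaf cP3) (BT.leaf cP4))) (BT.node 7 (BT.node 6 (BT.node 5 (BT.leaf cP5) (BT.leaf cP6)) (BT.leaf cP7)) (BT.node 8 (BT.leaf cP8) (BT.leaf cP9)))) (BT.node 14 (BT.node 12 (BT.node 11 (BT.node 10 (BT.leaf cP10) (BT.leaf cP11)) (BT.leaf cP12)) (BT.node 13 (BT.leaf cP13) (BT.leaf cP14))) (BT.node 17 (BT.node 16 (BT.node 15 (BT.leaf cP15) (BT.leaf cP16)) (BT.leaf cP17)) (BT.node 18 (BT.leaf cP18) (BT.leaf cP19))))) (BT.node 29 (BT.node 24 (BT.node 22 (BT.node 21 (BT.node 20 (BT.leaf cP20) (BT.leaf cP21)) (BT.leaf cP22)) (BT.node 23 (BT.leaf cP23) (BT.leaf cP24))) (BT.node 27 (BT.node 26 (BT.node 25 (BT.leaf cP25) (BT.leaf cP26)) (BT.leaf cP27)) (BT.node 28 (BT.leaf cP28)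 (BT.leaf cP29)))) (BT.node 34 (BT.node 32 (BT.node 31 (BT.node 30 (BT.leaf cP30) (BT.leaf cP31)) (BT.leaf cP32)) (BT.node 33 (BT.leaf cP33) (BT.leaf cP34))) (BT.node 37 (BT.node 36 (BT.node 35 (BT.leaf cP35) (BT.leaf cP36)) (BT.leaf cP37)) (BT.node 38 (BT.leaf cP38) (BT.leaf cP39))))))
/-- the certificate -/
def data : Data where
  k := 9
  N := 20013
  W := 33
  MW := 8589934592
  B := 32768
  CH := 512
  NCH := 40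
  colE := colET
  JW := 64
  MJ := 18446744073709551616
  A := 1048576
  colJ := colJT
  PW := 24
  MP := 16777216
  parC := parCT
  inv := (BT.node 4 (BT.node 2 (BT.node 1 (BT.node 0 (BT.leaf 0) (BT.leaf 1)) (BT.leaf 2)) (BT.node 3 (BT.leaf 3) (BT.leaf 4))) (BT.node 7 (BT.node 6 (BT.node 5 (BT.leaf 5) (BT.leaf 6)) (BT.leaf 7)) (BT.node 8 (BT.leaf 8) (BT.leaf 9))))
  rel := relT
  sub := subT
  fuel := 64

end Cfsg.Agent.Lib.Helper28.TCFi22W0Data
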