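import Cfsg.Agent.Lib.Helper28.TC2Range
import Cfsg.Agent.Lib.Helper28.TCFi22W0Data
import Cfsg.Agent.Lib.Helper28.TCFi22W0Table
set_option autoImplicit false
set_option maxRecDepth 100000
set_option maxHeartbeats 0

namespace Cfsg.Agent.Lib.Helper28.TCFi22W0M
open Cfsg.Agent.Lib.Helper28.TC2Upper Cfsg.Agent.Lib.Helper28.TC2Lower Cfsg.Agent.Lib.Helper28.TC2Orbit Cfsg.Agent.Lib.Helper28.TC2Range Cfsg.Agent.Lib.Helper28.TCFi22W0Data Cfsg.Agent.Lib.Helper28.TCFi22W0Table

theorem hlive0 : data.isLive 0 = true := by decide +kernel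
theorem hinvOK : table.invOK = true := by decide +kernel
theorem hsub0 : table.subOK subPaths = true := by decide +kernel
theorem hcov : ∀ P ∈ relPaths, (∀ l ∈ P, l < table.k) ∧ Table.covered table chkPaths P := by decide +kernel
theorem clo0 : orbData.closedOK table subPaths 0 14080 = true := by decide +kernel
theorem conn0 : orbData.connOK table 0 14080 = true := by decide +kernel
theorem hgens : BT.all (fun s => decide (s ∈ subPaths)) orbData.gens = true := by decide +kernel

end Cfsg.Agent.Lib.Helper28.TCFi22W0M
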