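import Cfsg.Agent.Lib.Helper28.TC2GlueOrb
import Cfsg.Agent.Lib.Helper28.TC2Range
import Cfsg.Agent.Lib.Helper28.TCFi22W0Link
import Cfsg.Agent.Lib.Helper28.TCFi22W0M
import Cfsg.Agent.Lib.Helper28.TCFi22W0M0
import Cfsg.Agent.Lib.Helper28.TCFi22W0M1
import Cfsg.Agent.Lib.Helper28.TCFi22W0U0
import Cfsg.Agent.Lib.Helper28.TCFi22W0U1
import Cfsg.Agent.Lib.Helper28.TCFi22W0U2
import Cfsg.Agent.Lib.Helper28.TCFi22W0U3
import Cfsg.Agent.Lib.Helper28.TCFi22W0U4
import Cfsg.Agent.Lib.Helper28.TCFi22W0U5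
import Cfsg.Agent.Lib.Helper28.TCFi22W0L0
import Cfsg.Agent.Lib.Helper28.TCFi22W0L1
import Cfsg.Agent.Lib.Helper28.TCFi22W0L2
import Cfsg.Agent.Lib.Helper28.TCFi22W0L3

set_option autoImplicit false
set_option maxRecDepth 100000
open Cfsg

namespace Cfsg.Agent.Lib.Helper28.TCFi22W0Main
open Cfsg.Agent.Lib.Helper28.TC2Upper Cfsg.Agent.Lib.Helper28.TC2Lower Cfsg.Agent.Lib.Helper28.TC2Glue Cfsg.Agent.Lib.Helper28.TC2GlueOrb Cfsg.Agent.Lib.Helper28.TC2Orbit Cfsg.Agent.Lib.Helper28.TC2Range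
open Cfsg.Agent.Lib.Helper28.TCFi22W0Data Cfsg.Agent.Lib.Helper28.TCFi22W0Table Cfsg.Agent.Lib.Helper28.TCFi22W0Link Cfsg.Agent.Lib.Helper28.TCFi22W0M

theorem hchk : ∀ v, v < data.N → data.checkNode v = true := by
  intro v hv
  have hv' : v < 20013 := hv
  rcases Nat.lt_or_ge v 682 with h0 | h0
  · exact (data.checkRange_iff 0 682).mp Cfsg.Agent.Lib.Helper28.TCFi22W0U0.chk0 v (by omega) (by omega)
  rcases Nat.lt_or_ge v 1477 with h1 | h1
  · exact (data.checkRange_iff 682 795).mp Cfsg.Agent.Lib.Helper28.TCFi22W0U0.chk1 v (by omega) (by omega)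
  rcases Nat.lt_or_ge v 2474 with h2 | h2
  · exact (data.checkRange_iff 1477 997).mp Cfsg.Agent.Lib.Helper28.TCFi22W0U0.chk2 v (by omega) (by omega)
  rcases Nat.lt_or_ge v 3491 with h3 | h3
  · exact (data.checkRange_iff 2474 1017).mp Cfsg.Agent.Lib.Helper28.TCFi22W0U0.chk3 v (by omega) (by omega)
  rcases Nat.lt_or_ge v 4655 with h4 | h4
  · exact (data.checkRange_iff 3491 1164).mp Cfsg.Agent.Lib.Helper28.TCFi22W0U0.chk4 v (by omega) (by omega)
  rcases Nat.lt_or_ge v 6103 with h5 | h5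
  · exact (data.checkRange_iff 4655 1448).mp Cfsg.Agent.Lib.Helper28.TCFi22W0U1.chk5 v (by omega) (by omega)
  rcases Nat.lt_or_ge v 7311 with h6 | h6
  · exact (data.checkRange_iff 6103 1208).mp Cfsg.Agent.Lib.Helper28.TCFi22W0U1.chk6 v (by omega) (by omega)
  rcases Nat.lt_or_ge v 8691 with h7 | h7
  · exact (data.checkRange_iff 7311 1380).mp Cfsg.Agent.Lib.Helper28.TCFi22W0U1.chk7 v (by omega) (by omega)
  rcases Nat.lt_or_ge v 10091 with h8 | h8
  · exact (data.checkRange_iff 8691 1400).mp Cfsg.Agent.Lib.Helper28.TCFi22W0U1.chk8 v (by omega) (by omega)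
  rcases Nat.lt_or_ge v 10691 with h9 | h9
  · exact (data.checkRange_iff 10091 600).mp Cfsg.Agent.Lib.Helper28.TCFi22W0U1.chk9 v (by omega) (by omega)
  rcases Nat.lt_or_ge v 11291 with h10 | h10
  · exact (data.checkRange_iff 10691 600).mp Cfsg.Agent.Lib.Helper28.TCFi22W0U2.chk10 v (by omega) (by omega)
  rcases Nat.lt_or_ge v 11891 with h11 | h11
  · exact (data.checkRange_iff 11291 600).mp Cfsg.Agent.Lib.Helper28.TCFi22W0U2.chk11 v (by omega) (by omega)
  rcases Nat.lt_or_ge v 12491 with h12 | h12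
  · exact (data.checkRange_iff 11891 600).mp Cfsg.Agent.Lib.Helper28.TCFi22W0U2.chk12 v (by omega) (by omega)
  rcases Nat.lt_or_ge v 13091 with h13 | h13
  · exact (data.checkRange_iff 12491 600).mp Cfsg.Agent.Lib.Helper28.TCFi22W0U2.chk13 v (by omega) (by omega)
  rcases Nat.lt_or_ge v 13691 with h14 | h14
  · exact (data.checkRange_iff 13091 600).mp Cfsg.Agent.Lib.Helper28.TCFi22W0U2.chk14 v (by omega) (by omega)
  rcases Nat.lt_or_ge v 14291 with h15 | h15
  · exact (data.checkRange_iff 13691 600).mp Cfsg.Agent.Lib.Helper28.TCFi22W0U3.chk15 v (by omega) (by omega)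
  rcases Nat.lt_or_ge v 14891 with h16 | h16
  · exact (data.checkRange_iff 14291 600).mp Cfsg.Agent.Lib.Helper28.TCFi22W0U3.chk16 v (by omega) (by omega)
  rcases Nat.lt_or_ge v 15491 with h17 | h17
  · exact (data.checkRange_iff 14891 600).mp Cfsg.Agent.Lib.Helper28.TCFi22W0U3.chk17 v (by omega) (by omega)
  rcases Nat.lt_or_ge v 16091 with h18 | h18
  · exact (data.checkRange_iff 15491 600).mp Cfsg.Agent.Lib.Helper28.TCFi22W0U3.chk18 v (by omega) (by omega)
  rcases Nat.lt_or_ge v 16691 with h19 | h19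
  · exact (data.checkRange_iff 16091 600).mp Cfsg.Agent.Lib.Helper28.TCFi22W0U3.chk19 v (by omega) (by omega)
  rcases Nat.lt_or_ge v 17291 with h20 | h20
  · exact (data.checkRange_iff 16691 600).mp Cfsg.Agent.Lib.Helper28.TCFi22W0U4.chk20 v (by omega) (by omega)
  rcases Nat.lt_or_ge v 17891 with h21 | h21
  · exact (data.checkRange_iff 17291 600).mp Cfsg.Agent.Lib.Helper28.TCFi22W0U4.chk21 v (by omega) (by omega)
  rcases Nat.lt_or_ge v 18491 with h22 | h22
  · exact (data.checkRange_iff 17891 600).mp Cfsg.Agent.Lib.Helper28.TCFi22W0U4.chk22 v (by omega) (by omega)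
  rcases Nat.lt_or_ge v 19091 with h23 | h23
  · exact (data.checkRange_iff 18491 600).mp Cfsg.Agent.Lib.Helper28.TCFi22W0U4.chk23 v (by omega) (by omega)
  rcases Nat.lt_or_ge v 19691 with h24 | h24
  · exact (data.checkRange_iff 19091 600).mp Cfsg.Agent.Lib.Helper28.TCFi22W0U4.chk24 v (by omega) (by omega)
  exact (data.checkRange_iff 19691 322).mp Cfsg.Agent.Lib.Helper28.TCFi22W0U5.chk25 v (by omega) (by omega)

theorem hrows : ∀ v, v < data.N → Data.rowOK data v = true := by
  intro v hv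
  have hv' : v < 20013 := hv
  rcases Nat.lt_or_ge v 9259 with h0 | h0
  · exact (Data.finalRange_iff data 0 9259).mp Cfsg.Agent.Lib.Helper28.TCFi22W0M0.fin0 v (by omega) (by omega)
  rcases Nat.lt_or_ge v 18518 with h1 | h1
  · exact (Data.finalRange_iff data 9259 9259).mp Cfsg.Agent.Lib.Helper28.TCFi22W0M0.fin1 v (by omega) (by omega)
  exact (Data.finalRange_iff data 18518 1495).mp Cfsg.Agent.Lib.Helper28.TCFi22W0M0.fin2 v (by omega) (by omega)

theorem hfin : data.finalOK = true := Data.finalOK_of_rows data hlive0 (by decide) hrows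

theorem pc0 : Data.countFrom data 0 20013 = 14080 := Cfsg.Agent.Lib.Helper28.TCFi22W0M0.cnt0

theorem hcount : data.countLive = table.n := by
  rw [Data.countLive_eq]
  exact pc0

theorem hpermAll : ∀ p, p < table.n → Table.permRow table p = true := by
  intro p hp
  have hp' : p < 14080 := hp
  rcases Nat.lt_or_ge p 13888 with h0 | h0
  · exact (Table.permRange_iff table 0 13888).mp Cfsg.Agent.Lib.Helper28.TCFi22W0M0.prm0 p (by omega) (by omega)
  exact (Table.permRange_iff table 13888 192).mp Cfsg.Agent.Lib.Helper28.TCFi22W0M1.prm1 p (by omega) (by omega)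

theorem hT : table.OK := Table.ok_of_rows table hinvOK hpermAll

theorem htreeAll : ∀ i, i < Nat.pred table.n → Table.treeRow table i = true := by
  intro p hp
  have hp' : p < 14079 := hp
  exact (Table.treeRange_iff table 0 14079).mp Cfsg.Agent.Lib.Helper28.TCFi22W0M1.tre0 p (by omega) (by omega)

theorem htree : table.treeOK = true := Table.treeOK_of_rows table htreeAll

theorem hchkT : ∀ P ∈ chkPaths, ∀ p, p < table.n → table.walkT P p = p := by
  intro P hm p hp
  have hp' : p < 14080 := hp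
  rcases Nat.lt_or_ge p 664 with h0 | h0
  · exact (Table.relOK_iff chkPaths 0 664).mp Cfsg.Agent.Lib.Helper28.TCFi22W0L0.rel0 p (by omega) (by omega) _ hm
  rcases Nat.lt_or_ge p 1328 with h1 | h1
  · exact (Table.relOK_iff chkPaths 664 664).mp Cfsg.Agent.Lib.Helper28.TCFi22W0L0.rel1 p (by omega) (by omega) _ hm
  rcases Nat.lt_or_ge p 1992 with h2 | h2
  · exact (Table.relOK_iff chkPaths 1328 664).mp Cfsg.Agent.Lib.Helper28.TCFi22W0L0.rel2 p (by omega) (by omega) _ hm
  rcases Nat.lt_or_ge p 2656 with h3 | h3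
  · exact (Table.relOK_iff chkPaths 1992 664).mp Cfsg.Agent.Lib.Helper28.TCFi22W0L0.rel3 p (by omega) (by omega) _ hm
  rcases Nat.lt_or_ge p 3320 with h4 | h4
  · exact (Table.relOK_iff chkPaths 2656 664).mp Cfsg.Agent.Lib.Helper28.TCFi22W0L0.rel4 p (by omega) (by omega) _ hm
  rcases Nat.lt_or_ge p 3984 with h5 | h5
  · exact (Table.relOK_iff chkPaths 3320 664).mp Cfsg.Agent.Lib.Helper28.TCFi22W0L0.rel5 p (by omega) (by omega) _ hm
  rcases Nat.lt_or_ge p 4648 with h6 | h6
  · exact (Table.relOK_iff chkPaths 3984 664).mp Cfsg.Agent.Lib.Helper28.TCFi22W0L1.rel6 p (by omega) (by omega) _ hm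
  rcases Nat.lt_or_ge p 5312 with h7 | h7
  · exact (Table.relOK_iff chkPaths 4648 664).mp Cfsg.Agent.Lib.Helper28.TCFi22W0L1.rel7 p (by omega) (by omega) _ hm
  rcases Nat.lt_or_ge p 5976 with h8 | h8
  · exact (Table.relOK_iff chkPaths 5312 664).mp Cfsg.Agent.Lib.Helper28.TCFi22W0L1.rel8 p (by omega) (by omega) _ hm
  rcases Nat.lt_or_ge p 6640 with h9 | h9
  · exact (Table.relOK_iff chkPaths 5976 664).mp Cfsg.Agent.Lib.Helper28.TCFi22W0L1.rel9 p (by omega) (by omega) _ hm
  rcases Nat.lt_or_ge p 7304 with h10 | h10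
  · exact (Table.relOK_iff chkPaths 6640 664).mp Cfsg.Agent.Lib.Helper28.TCFi22W0L1.rel10 p (by omega) (by omega) _ hm
  rcases Nat.lt_or_ge p 7968 with h11 | h11
  · exact (Table.relOK_iff chkPaths 7304 664).mp Cfsg.Agent.Lib.Helper28.TCFi22W0L1.rel11 p (by omega) (by omega) _ hm
  rcases Nat.lt_or_ge p 8632 with h12 | h12
  · exact (Table.relOK_iff chkPaths 7968 664).mp Cfsg.Agent.Lib.Helper28.TCFi22W0L2.rel12 p (by omega) (by omega) _ hm
  rcases Nat.lt_or_ge p 9296 with h13 | h13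
  · exact (Table.relOK_iff chkPaths 8632 664).mp Cfsg.Agent.Lib.Helper28.TCFi22W0L2.rel13 p (by omega) (by omega) _ hm
  rcases Nat.lt_or_ge p 9960 with h14 | h14
  · exact (Table.relOK_iff chkPaths 9296 664).mp Cfsg.Agent.Lib.Helper28.TCFi22W0L2.rel14 p (by omega) (by omega) _ hm
  rcases Nat.lt_or_ge p 10624 with h15 | h15
  · exact (Table.relOK_iff chkPaths 9960 664).mp Cfsg.Agent.Lib.Helper28.TCFi22W0L2.rel15 p (by omega) (by omega) _ hm
  rcases Nat.lt_or_ge p 11288 with h16 | h16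
  · exact (Table.relOK_iff chkPaths 10624 664).mp Cfsg.Agent.Lib.Helper28.TCFi22W0L2.rel16 p (by omega) (by omega) _ hm
  rcases Nat.lt_or_ge p 11952 with h17 | h17
  · exact (Table.relOK_iff chkPaths 11288 664).mp Cfsg.Agent.Lib.Helper28.TCFi22W0L2.rel17 p (by omega) (by omega) _ hm
  rcases Nat.lt_or_ge p 12616 with h18 | h18
  · exact (Table.relOK_iff chkPaths 11952 664).mp Cfsg.Agent.Lib.Helper28.TCFi22W0L3.rel18 p (by omega) (by omega) _ hm
  rcases Nat.lt_or_ge p 13280 with h19 | h19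
  · exact (Table.relOK_iff chkPaths 12616 664).mp Cfsg.Agent.Lib.Helper28.TCFi22W0L3.rel19 p (by omega) (by omega) _ hm
  rcases Nat.lt_or_ge p 13944 with h20 | h20
  · exact (Table.relOK_iff chkPaths 13280 664).mp Cfsg.Agent.Lib.Helper28.TCFi22W0L3.rel20 p (by omega) (by omega) _ hm
  exact (Table.relOK_iff chkPaths 13944 136).mp Cfsg.Agent.Lib.Helper28.TCFi22W0L3.rel21 p (by omega) (by omega) _ hm

theorem hrelT : ∀ L ∈ relWords, ∀ p, p < table.n → table.walkT (pathOf lw L) p = p :=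
  fun L hL => Table.fix_of_covered hT chkPaths hchkT _ (hcov _ (hrelmem L hL)).1 (hcov _ (hrelmem L hL)).2

theorem hsubT : ∀ L ∈ subWords, table.walkT (pathOf lw L) 0 = 0 :=
  fun L hL => (Table.subOK_iff subPaths).mp hsub0 _ (hsubmem L hL)

theorem hclosed : ∀ p, p < table.n → ∀ s ∈ subPaths, orbData.oid (table.walkT s p) = orbData.oid p := by
  intro p hp
  have hp' : p < 14080 := hp
  exact (orbData.closedOK_iff table subPaths 0 14080).mp clo0 p (by omega) (by omega)

theorem hconn : ∀ p, p < table.n →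
    (orbData.depth p = 0 ∧ orbData.roots.look (orbData.oid p) = p) ∨
    (orbData.depth p ≠ 0 ∧ orbData.parent p < table.n ∧ orbData.oid (orbData.parent p) = orbData.oid p ∧
      orbData.depth (orbData.parent p) + 1 = orbData.depth p ∧
      table.walkT (orbData.gens.look (orbData.gen p)) (orbData.parent p) = p) :=
  fun p hp => (orbData.connOK_iff table 0 14080).mp conn0 p (Nat.zero_le _) (by have : p < 14080 := hp; omega)

theorem cntc0 : orbData.count table.n 0 = 1 := by decide +kernel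
theorem cntc1 : orbData.count table.n 1 = 3159 := by decide +kernel
theorem cntc2 : orbData.count table.n 2 = 10920 := by decide +kernel

theorem hn : 0 < table.n := by decide

theorem main : ((Subgroup.closure S).map (PresentedGroup.mk rels)).index = table.n ∧
    ∃ φ : PresentedGroup rels →* Equiv.Perm (Fin table.n),
      (∀ x, φ (PresentedGroup.of x) = Table.sigma hT (lw (x, true))) ∧
      ∃ f : PresentedGroup rels ⧸ (Subgroup.closure S).map (PresentedGroup.mk rels) → Fin table.n,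
        Function.Bijective f ∧ (∀ g q, f (g • q) = φ g (f q)) ∧ f (QuotientGroup.mk 1) = ⟨0, hn⟩ :=
  index_eq link hchk hfin hcount hT hn hrelT hsubT htree

end Cfsg.Agent.Lib.Helper28.TCFi22W0Main
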