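import Cfsg.Agent.Lib.Helper28.TC2Simple
import Cfsg.Agent.Lib.Helper28.TCFi22W0Main
set_option autoImplicit false
set_option maxRecDepth 100000
set_option maxHeartbeats 0

namespace Cfsg.Agent.Lib.Helper28.TCFi22FinalChk
open Cfsg.Agent.Lib.Helper28.TC2Upper Cfsg.Agent.Lib.Helper28.TC2Lower Cfsg.Agent.Lib.Helper28.TC2Orbit Cfsg.Agent.Lib.Helper28.TC2Glue Cfsg.Agent.Lib.Helper28.TC2Simple Cfsg.Agent.Lib.Helper28.TCFi22W0Table Cfsg.Agent.Lib.Helper28.TCFi22W0Link

/-- the element of order 11 -/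
def tWord : List (Cfsg.Spor.Fi22.Gen × Bool) := [(.f, true), (.h, true), (.i, true), (.c, true), (.d, true), (.a, true), (.b, true), (.h, true), (.g, true), (.e, true), (.d, true), (.f, true), (.h, true), (.i, true), (.c, true), (.d, true), (.a, true), (.b, true), (.h, true), (.g, true), (.e, true), (.d, true)]
/-- the path of its power -/
def tPath : List ℕ := [3, 4, 6, 7, 1, 0, 3, 2, 8, 7, 5, 3, 4, 6, 7, 1, 0, 3, 2, 8, 7, 5, 3, 4, 6, 7, 1, 0, 3, 2, 8, 7, 5, 3, 4, 6, 7, 1, 0, 3, 2, 8, 7, 5, 3, 4, 6, 7, 1, 0, 3, 2, 8, 7, 5, 3, 4, 6, 7, 1, 0, 3, 2, 8, 7, 5, 3, 4, 6, 7, 1, 0, 3, 2, 8, 7, 5, 3, 4, 6, 7, 1, 0, 3, 2, 8, 7, 5, 3, 4, 6, 7, 1, 0, 3, 2, 8, 7, 5, 3, 4, 6, 7, 1, 0, 3, 2, 8, 7, 5, 3, 4, 6, 7, 1, 0, 3, 2, 8, 7, 5, 3, 4, 6, 7, 1, 0, 3, 2, 8, 7, 5, 3, 4, 6, 7, 1, 0, 3, 2, 8, 7, 5, 3, 4, 6, 7, 1, 0, 3, 2, 8, 7, 5, 3, 4, 6, 7, 1, 0, 3, 2, 8, 7, 5, 3, 4, 6, 7, 1, 0, 3, 2, 8, 7, 5, 3, 4, 6, 7, 1, 0, 3, 2, 8, 7, 5, 3, 4, 6, 7, 1, 0, 3, 2, 8, 7, 5, 3, 4, 6,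 7, 1, 0, 3, 2, 8, 7, 5, 3, 4, 6, 7, 1, 0, 3, 2, 8, 7, 5, 3, 4, 6, 7, 1, 0, 3, 2, 8, 7, 5, 3, 4, 6, 7, 1, 0, 3, 2, 8, 7, 5]
theorem tPath_eq : pathOf lw (List.replicate 11 tWord).flatten = tPath := by decide +kernel
/-- a coset of the second class -/
def yWord : List (Cfsg.Spor.Fi22.Gen × Bool) := [(.a, true), (.b, true), (.c, true), (.d, true), (.h, true), (.i, true), (.e, true), (.d, true), (.h, true), (.f, true), (.e, true), (.d, true), (.c, true), (.b, true), (.a, true)]
/-- an element of the subgroup -/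
def hWord : List (Cfsg.Spor.Fi22.Gen × Bool) := [(.d, true)]
theorem hg0 : orbData.oid (table.walkT (pathOf lw [(.a, true)]) 0) = 1 := by decide +kernel
theorem hy : orbData.oid (table.walkT (pathOf lw yWord) 0) = 2 := by decide +kernel
theorem hz : orbData.oid (table.walkT (pathOf lw (yWord ++ hWord ++ yWord)) 0) = 1 := by decide +kernel
theorem h00 : orbData.oid 0 = 0 := by decide +kernel
theorem tp0 : table.relOK [tPath] 0 1033 = true := by decide +kernel
theorem tp1 : table.relOK [tPath] 1033 1033 = true := by decide +kernel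
theorem tp2 : table.relOK [tPath] 2066 1033 = true := by decide +kernel
theorem tp3 : table.relOK [tPath] 3099 1033 = true := by decide +kernel
theorem tp4 : table.relOK [tPath] 4132 1033 = true := by decide +kernel
theorem tp5 : table.relOK [tPath] 5165 1033 = true := by decide +kernel
theorem tp6 : table.relOK [tPath] 6198 1033 = true := by decide +kernel
theorem tp7 : table.relOK [tPath] 7231 1033 = true := by decide +kernel
theorem tp8 : table.relOK [tPath] 8264 1033 = true := by decide +kernel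
theorem tp9 : table.relOK [tPath] 9297 1033 = true := by decide +kernel
theorem tp10 : table.relOK [tPath] 10330 1033 = true := by decide +kernel
theorem tp11 : table.relOK [tPath] 11363 1033 = true := by decide +kernel
theorem tp12 : table.relOK [tPath] 12396 1033 = true := by decide +kernel
theorem tp13 : table.relOK [tPath] 13429 651 = true := by decide +kernel
theorem cl0 : clsOK orbData 3 0 14080 = true := by decide +kernel

theorem htfix : ∀ p, p < table.n → table.walkT tPath p = p := by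
  intro p hp
  have hp' : p < 14080 := hp
  rcases Nat.lt_or_ge p 1033 with h0 | h0
  · exact (Table.relOK_iff [tPath] 0 1033).mp tp0 p (by omega) (by omega) _ (List.mem_singleton.mpr rfl)
  rcases Nat.lt_or_ge p 2066 with h1 | h1
  · exact (Table.relOK_iff [tPath] 1033 1033).mp tp1 p (by omega) (by omega) _ (List.mem_singleton.mpr rfl)
  rcases Nat.lt_or_ge p 3099 with h2 | h2
  · exact (Table.relOK_iff [tPath] 2066 1033).mp tp2 p (by omega) (by omega) _ (List.mem_singleton.mpr rfl)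
  rcases Nat.lt_or_ge p 4132 with h3 | h3
  · exact (Table.relOK_iff [tPath] 3099 1033).mp tp3 p (by omega) (by omega) _ (List.mem_singleton.mpr rfl)
  rcases Nat.lt_or_ge p 5165 with h4 | h4
  · exact (Table.relOK_iff [tPath] 4132 1033).mp tp4 p (by omega) (by omega) _ (List.mem_singleton.mpr rfl)
  rcases Nat.lt_or_ge p 6198 with h5 | h5
  · exact (Table.relOK_iff [tPath] 5165 1033).mp tp5 p (by omega) (by omega) _ (List.mem_singleton.mpr rfl)
  rcases Nat.lt_or_ge p 7231 with h6 | h6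
  · exact (Table.relOK_iff [tPath] 6198 1033).mp tp6 p (by omega) (by omega) _ (List.mem_singleton.mpr rfl)
  rcases Nat.lt_or_ge p 8264 with h7 | h7
  · exact (Table.relOK_iff [tPath] 7231 1033).mp tp7 p (by omega) (by omega) _ (List.mem_singleton.mpr rfl)
  rcases Nat.lt_or_ge p 9297 with h8 | h8
  · exact (Table.relOK_iff [tPath] 8264 1033).mp tp8 p (by omega) (by omega) _ (List.mem_singleton.mpr rfl)
  rcases Nat.lt_or_ge p 10330 with h9 | h9
  · exact (Table.relOK_iff [tPath] 9297 1033).mp tp9 p (by omega) (by omega) _ (List.mem_singleton.mpr rfl)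
  rcases Nat.lt_or_ge p 11363 with h10 | h10
  · exact (Table.relOK_iff [tPath] 10330 1033).mp tp10 p (by omega) (by omega) _ (List.mem_singleton.mpr rfl)
  rcases Nat.lt_or_ge p 12396 with h11 | h11
  · exact (Table.relOK_iff [tPath] 11363 1033).mp tp11 p (by omega) (by omega) _ (List.mem_singleton.mpr rfl)
  rcases Nat.lt_or_ge p 13429 with h12 | h12
  · exact (Table.relOK_iff [tPath] 12396 1033).mp tp12 p (by omega) (by omega) _ (List.mem_singleton.mpr rfl)
  exact (Table.relOK_iff [tPath] 13429 651).mp tp13 p (by omega) (by omega) _ (List.mem_singleton.mpr rfl)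

theorem hclsAll : ∀ p, p < table.n → orbData.oid p < 3 := by
  intro p hp
  have hp' : p < 14080 := hp
  exact (clsOK_iff orbData 3 0 14080).mp cl0 p (by omega) (by omega)

end Cfsg.Agent.Lib.Helper28.TCFi22FinalChk
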