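import Cfsg.Agent.Lib.Helper28.TC2Upper
import Cfsg.Agent.Lib.Helper28.TCFi22W1DataC0
set_option autoImplicit false
set_option maxRecDepth 100000

namespace Cfsg.Agent.Lib.Helper28.TCFi22W1Data
open Cfsg.Agent.Lib.Helper28.TC2Upper

/-- relators -/
def relT : BT (ℕ × List ℕ × List ℕ) := (BT.node 32 (BT.node 16 (BT.node 8 (BT.node 4 (BT.node 2 (BT.node 1 (BT.node 0 (BT.leaf (2, [0, 0], [0, 0])) (BT.leaf (6, [1, 0, 1, 0, 1, 0], [0, 1, 0, 1, 0, 1]))) (BT.leaf (4, [2, 0, 2, 0], [0, 2, 0, 2]))) (BT.node 3 (BT.leaf (4, [3, 0, 3, 0], [0, 3, 0, 3])) (BT.leaf (4, [4, 0, 4, 0], [0, 4, 0, 4])))) (BT.node 6 (BT.node 5 (BT.leaf (4, [6, 0, 6, 0], [0, 6, 0, 6])) (BT.leaf (4, [5, 0, 5, 0], [0, 5, 0, 5]))) (BT.node 7 (BT.leaf (4, [7, 0, 7, 0], [0, 7, 0, 7])) (BT.leaf (6, [0, 1,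 0, 1, 0, 1], [1, 0, 1, 0, 1, 0]))))) (BT.node 12 (BT.node 10 (BT.node 9 (BT.leaf (2, [1, 1], [1, 1])) (BT.leaf (6, [2, 1, 2, 1, 2, 1], [1, 2, 1, 2, 1, 2]))) (BT.node 11 (BT.leaf (4, [3, 1, 3, 1], [1, 3, 1, 3])) (BT.leaf (4, [4, 1, 4, 1], [1, 4, 1, 4])))) (BT.node 14 (BT.node 13 (BT.leaf (4, [6, 1, 6, 1], [1, 6, 1, 6])) (BT.leaf (4, [5, 1, 5, 1], [1, 5, 1, 5]))) (BT.node 15 (BT.leaf (4, [7, 1, 7, 1], [1, 7, 1, 7])) (BT.leaf (4, [0, 2, 0, 2], [2, 0, 2, 0])))))) (BT.node 24 (BT.node 20 (BT.node 18 (BT.node 17 (BT.leaf (6, [1, 2, 1, 2, 1, 2], [2, 1, 2, 1, 2, 1])) (BT.leaf (2, [2, 2], [2, 2]))) (BT.node 19 (BT.leaf (6, [3, 2, 3, 2, 3, 2], [2, 3, 2, 3, 2, 3])) (BT.leaf (4, [4, 2, 4, 2], [2, 4, 2, 4])))) (BT.node 22 (BT.node 21 (BT.leaf (6, [6, 2, 6, 2, 6, 2], [2, 6,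 2, 6, 2, 6])) (BT.leaf (4, [5, 2, 5, 2], [2, 5, 2, 5]))) (BT.node 23 (BT.leaf (4, [7, 2, 7, 2], [2, 7, 2, 7])) (BT.leaf (4, [0, 3, 0, 3], [3, 0, 3, 0]))))) (BT.node 28 (BT.node 26 (BT.node 25 (BT.leaf (4, [1, 3, 1, 3], [3, 1, 3, 1])) (BT.leaf (6, [2, 3, 2, 3, 2, 3], [3, 2, 3, 2, 3, 2]))) (BT.node 27 (BT.leaf (2, [3, 3], [3, 3])) (BT.leaf (6, [4, 3, 4, 3, 4, 3], [3, 4, 3, 4, 3, 4])))) (BT.node 30 (BT.node 29 (BT.leaf (4, [6, 3, 6, 3], [3, 6, 3, 6])) (BT.leaf (4, [5, 3, 5, 3], [3, 5, 3, 5]))) (BT.node 31 (BT.leaf (4, [7, 3, 7, 3], [3, 7, 3, 7])) (BT.leaf (4, [0, 4, 0, 4], [4, 0, 4, 0]))))))) (BT.node 49 (BT.node 41 (BT.node 37 (BT.node 35 (BT.node 34 (BT.node 33 (BT.leaf (4, [1, 4, 1, 4], [4, 1, 4, 1])) (BT.leaf (4, [2, 4, 2, 4], [4, 2, 4, 2]))) (BT.leaf (6, [3,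 4, 3, 4, 3, 4], [4, 3, 4, 3, 4, 3]))) (BT.node 36 (BT.leaf (2, [4, 4], [4, 4])) (BT.leaf (4, [6, 4, 6, 4], [4, 6, 4, 6])))) (BT.node 39 (BT.node 38 (BT.leaf (6, [5, 4, 5, 4, 5, 4], [4, 5, 4, 5, 4, 5])) (BT.leaf (4, [7, 4, 7, 4], [4, 7, 4, 7]))) (BT.node 40 (BT.leaf (4, [0, 6, 0, 6], [6, 0, 6, 0])) (BT.leaf (4, [1, 6, 1, 6], [6, 1, 6, 1]))))) (BT.node 45 (BT.node 43 (BT.node 42 (BT.leaf (6, [2, 6, 2, 6, 2, 6], [6, 2, 6, 2, 6, 2])) (BT.leaf (4, [3, 6, 3, 6], [6, 3, 6, 3]))) (BT.node 44 (BT.leaf (4, [4, 6, 4, 6], [6, 4, 6, 4])) (BT.leaf (2, [6, 6], [6, 6])))) (BT.node 47 (BT.node 46 (BT.leaf (4, [5, 6, 5, 6], [6, 5, 6, 5])) (BT.leaf (6, [7, 6, 7, 6, 7, 6], [6, 7, 6, 7, 6, 7]))) (BT.node 48 (BT.leaf (4, [0, 5, 0, 5], [5, 0, 5, 0])) (BT.leaf (4, [1, 5, 1, 5], [5, 1,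 5, 1])))))) (BT.node 57 (BT.node 53 (BT.node 51 (BT.node 50 (BT.leaf (4, [2, 5, 2, 5], [5, 2, 5, 2])) (BT.leaf (4, [3, 5, 3, 5], [5, 3, 5, 3]))) (BT.node 52 (BT.leaf (6, [4, 5, 4, 5, 4, 5], [5, 4, 5, 4, 5, 4])) (BT.leaf (4, [6, 5, 6, 5], [5, 6, 5, 6])))) (BT.node 55 (BT.node 54 (BT.leaf (2, [5, 5], [5, 5])) (BT.leaf (4, [7, 5, 7, 5], [5, 7, 5, 7]))) (BT.node 56 (BT.leaf (4, [0, 7, 0, 7], [7, 0, 7, 0])) (BT.leaf (4, [1, 7, 1, 7], [7, 1, 7, 1]))))) (BT.node 61 (BT.node 59 (BT.node 58 (BT.leaf (4, [2, 7, 2, 7], [7, 2, 7, 2])) (BT.leaf (4, [3, 7, 3, 7], [7, 3, 7, 3]))) (BT.node 60 (BT.leaf (4, [4, 7, 4, 7], [7, 4, 7, 4])) (BT.leaf (6, [6, 7, 6, 7, 6, 7], [7, 6, 7, 6, 7, 6])))) (BT.node 63 (BT.node 62 (BT.leaf (4, [5, 7, 5, 7], [7, 5, 7, 5])) (BT.leaf (2, [7, 7], [7,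 7]))) (BT.node 64 (BT.leaf (90, [7, 6, 2, 4, 3, 2, 0, 1, 2, 7, 6, 2, 4, 3, 2, 0, 1, 2, 7, 6, 2, 4, 3, 2, 0, 1, 2, 7, 6, 2, 4, 3, 2, 0, 1, 2, 7, 6, 2, 4, 3, 2, 0, 1, 2, 7, 6, 2, 4, 3, 2, 0, 1, 2, 7, 6, 2, 4, 3, 2, 0, 1, 2, 7, 6, 2, 4, 3, 2, 0, 1, 2, 7, 6, 2, 4, 3, 2, 0, 1, 2, 7, 6, 2, 4, 3, 2, 0, 1, 2], [2, 1, 0, 2, 3, 4, 2, 6, 7, 2, 1, 0, 2, 3, 4, 2, 6, 7, 2, 1, 0, 2, 3, 4, 2, 6, 7, 2, 1, 0, 2, 3, 4, 2, 6, 7, 2, 1, 0, 2, 3, 4, 2, 6, 7, 2, 1, 0, 2, 3, 4, 2, 6, 7, 2, 1, 0, 2, 3, 4, 2, 6, 7, 2, 1, 0, 2, 3, 4, 2, 6, 7, 2, 1, 0, 2, 3, 4, 2, 6, 7, 2, 1, 0, 2, 3, 4, 2, 6, 7])) (BT.leaf (63, [6, 5, 4, 3, 2, 1, 0, 6, 5, 4, 3, 2, 1, 0, 6, 5, 4, 3, 2, 1, 0, 6, 5, 4, 3, 2, 1, 0, 6, 5, 4, 3, 2, 1, 0, 6, 5, 4, 3, 2, 1, 0, 6, 5, 4, 3, 2, 1, 0, 6, 5, 4, 3, 2, 1, 0, 6, 5, 4, 3,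 2, 1, 0], [0, 1, 2, 3, 4, 5, 6, 0, 1, 2, 3, 4, 5, 6, 0, 1, 2, 3, 4, 5, 6, 0, 1, 2, 3, 4, 5, 6, 0, 1, 2, 3, 4, 5, 6, 0, 1, 2, 3, 4, 5, 6, 0, 1, 2, 3, 4, 5, 6, 0, 1, 2, 3, 4, 5, 6, 0, 1, 2, 3, 4, 5, 6]))))))))
/-- subgroup generators -/
def subT : BT (ℕ × List ℕ × List ℕ) := (BT.node 3 (BT.node 1 (BT.node 0 (BT.leaf (1, [0], [0])) (BT.leaf (1, [1], [1]))) (BT.node 2 (BT.leaf (1, [2], [2])) (BT.leaf (1, [3], [3])))) (BT.node 5 (BT.node 4 (BT.leaf (1, [4], [4])) (BT.leaf (1, [6], [6]))) (BT.leaf (1, [7], [7]))))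
/-- fact chunks -/
def colET : BT ℕ := (BT.node 17 (BT.node 8 (BT.node 4 (BT.node 2 (BT.node 1 (BT.node 0 (BT.leaf cE0) (BT.leaf cE1)) (BT.leaf cE2)) (BT.node 3 (BT.leaf cE3) (BT.leaf cE4))) (BT.node 6 (BT.node 5 (BT.leaf cE5) (BT.leaf cE6)) (BT.node 7 (BT.leaf cE7) (BT.leaf cE8)))) (BT.node 13 (BT.node 11 (BT.node 10 (BT.node 9 (BT.leaf cE9) (BT.leaf cE10)) (BT.leaf cE11)) (BT.node 12 (BT.leaf cE12) (BT.leaf cE13))) (BT.node 15 (BT.node 14 (BT.leaf cE14) (BT.leaf cE15)) (BT.node 16 (BT.leaf cE16) (BT.leaf cE17))))) (BT.node 26 (BT.node 22 (BT.node 20 (BT.node 19 (BT.node 18 (BT.leaf cE18) (BT.leaf cE19)) (BT.leaf cE20)) (BT.node 21 (BT.leaf cE21) (BT.leaf cE22))) (BT.node 24 (BT.node 23 (BT.leaf cE23) (BT.leaf cE24)) (BT.node 25 (BT.leaf cE25) (BT.leaf cE26))))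 (BT.node 31 (BT.node 29 (BT.node 28 (BT.node 27 (BT.leaf cE27) (BT.leaf cE28)) (BT.leaf cE29)) (BT.node 30 (BT.leaf cE30) (BT.leaf cE31))) (BT.node 33 (BT.node 32 (BT.leaf cE32) (BT.leaf cE33)) (BT.node 34 (BT.leaf cE34) (BT.leaf cE35))))))
/-- justification chunks -/
def colJT : BT ℕ := (BT.node 17 (BT.node 8 (BT.node 4 (BT.node 2 (BT.node 1 (BT.node 0 (BT.leaf cJ0) (BT.leaf cJ1)) (BT.leaf cJ2)) (BT.node 3 (BT.leaf cJ3) (BT.leaf cJ4))) (BT.node 6 (BT.node 5 (BT.leaf cJ5) (BT.leaf cJ6)) (BT.node 7 (BT.leaf cJ7) (BT.leaf cJ8)))) (BT.node 13 (BT.node 11 (BT.node 10 (BT.node 9 (BT.leaf cJ9) (BT.leaf cJ10)) (BT.leaf cJ11)) (BT.node 12 (BT.leaf cJ12) (BT.leaf cJ13))) (BT.node 15 (BT.node 14 (BT.leaf cJ14) (BT.leaf cJ15)) (BT.node 16 (BT.leaf cJ16) (BT.leaf cJ17)))))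 (BT.node 26 (BT.node 22 (BT.node 20 (BT.node 19 (BT.node 18 (BT.leaf cJ18) (BT.leaf cJ19)) (BT.leaf cJ20)) (BT.node 21 (BT.leaf cJ21) (BT.leaf cJ22))) (BT.node 24 (BT.node 23 (BT.leaf cJ23) (BT.leaf cJ24)) (BT.node 25 (BT.leaf cJ25) (BT.leaf cJ26)))) (BT.node 31 (BT.node 29 (BT.node 28 (BT.node 27 (BT.leaf cJ27) (BT.leaf cJ28)) (BT.leaf cJ29)) (BT.node 30 (BT.leaf cJ30) (BT.leaf cJ31))) (BT.node 33 (BT.node 32 (BT.leaf cJ32) (BT.leaf cJ33)) (BT.node 34 (BT.leaf cJ34) (BT.leaf cJ35))))))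
/-- parent chunks -/
def parCT : BT ℕ := (BT.node 1 (BT.node 0 (BT.leaf cP0) (BT.leaf cP1)) (BT.node 2 (BT.leaf cP2) (BT.leaf cP3)))
/-- the certificate -/
def data : Data where
  k := 8
  N := 1544
  W := 23
  MW := 8388608
  B := 2048
  CH := 512
  NCH := 4
  colE := colET
  JW := 64
  MJ := 18446744073709551616
  A := 1048576
  colJ := colJT
  PW := 20
  MP := 1048576
  parC := parCT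
  inv := (BT.node 4 (BT.node 2 (BT.node 1 (BT.node 0 (BT.leaf 0) (BT.leaf 1)) (BT.leaf 2)) (BT.node 3 (BT.leaf 3) (BT.leaf 4))) (BT.node 6 (BT.node 5 (BT.leaf 5) (BT.leaf 6)) (BT.node 7 (BT.leaf 7) (BT.leaf 8))))
  rel := relT
  sub := subT
  fuel := 64

end Cfsg.Agent.Lib.Helper28.TCFi22W1Data
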