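import Cfsg.Agent.Lib.Helper28.TC2Upper
import Cfsg.Agent.Lib.Helper28.TCFi22W2DataC0
set_option autoImplicit false
set_option maxRecDepth 100000

namespace Cfsg.Agent.Lib.Helper28.TCFi22W2Data
open Cfsg.Agent.Lib.Helper28.TC2Upper

/-- relators -/
def relT : BT (ℕ × List ℕ × List ℕ) := (BT.node 24 (BT.node 12 (BT.node 6 (BT.node 3 (BT.node 1 (BT.node 0 (BT.leaf (2, [0, 0], [0, 0])) (BT.leaf (6, [1, 0, 1, 0, 1, 0], [0, 1, 0, 1, 0, 1]))) (BT.node 2 (BT.leaf (4, [2, 0, 2, 0], [0, 2, 0, 2])) (BT.leaf (4, [3, 0, 3, 0], [0, 3, 0, 3])))) (BT.node 5 (BT.node 4 (BT.leaf (4, [5, 0, 5, 0], [0, 5, 0, 5])) (BT.leaf (4, [4, 0, 4, 0], [0, 4, 0, 4]))) (BT.leaf (4, [6, 0, 6, 0], [0, 6, 0, 6])))) (BT.node 9 (BT.node 8 (BT.node 7 (BT.leaf (6, [0, 1, 0, 1, 0, 1], [1, 0, 1, 0, 1, 0])) (BT.leaf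 (2, [1, 1], [1, 1]))) (BT.leaf (6, [2, 1, 2, 1, 2, 1], [1, 2, 1, 2, 1, 2]))) (BT.node 11 (BT.node 10 (BT.leaf (4, [3, 1, 3, 1], [1, 3, 1, 3])) (BT.leaf (4, [5, 1, 5, 1], [1, 5, 1, 5]))) (BT.leaf (4, [4, 1, 4, 1], [1, 4, 1, 4]))))) (BT.node 18 (BT.node 15 (BT.node 14 (BT.node 13 (BT.leaf (4, [6, 1, 6, 1], [1, 6, 1, 6])) (BT.leaf (4, [0, 2, 0, 2], [2, 0, 2, 0]))) (BT.leaf (6, [1, 2, 1, 2, 1, 2], [2, 1, 2, 1, 2, 1]))) (BT.node 17 (BT.node 16 (BT.leaf (2, [2, 2], [2, 2])) (BT.leaf (6, [3, 2, 3, 2, 3, 2], [2, 3, 2, 3, 2, 3]))) (BT.leaf (6, [5, 2, 5, 2, 5, 2], [2, 5, 2, 5, 2, 5])))) (BT.node 21 (BT.node 20 (BT.node 19 (BT.leaf (4, [4, 2, 4, 2], [2, 4, 2, 4])) (BT.leaf (4, [6, 2, 6, 2], [2, 6, 2, 6]))) (BT.leaf (4, [0, 3, 0, 3], [3, 0, 3, 0]))) (BT.node 23 (BT.node 22 (BT.leaf (4,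 [1, 3, 1, 3], [3, 1, 3, 1])) (BT.leaf (6, [2, 3, 2, 3, 2, 3], [3, 2, 3, 2, 3, 2]))) (BT.leaf (2, [3, 3], [3, 3])))))) (BT.node 37 (BT.node 31 (BT.node 28 (BT.node 26 (BT.node 25 (BT.leaf (4, [5, 3, 5, 3], [3, 5, 3, 5])) (BT.leaf (6, [4, 3, 4, 3, 4, 3], [3, 4, 3, 4, 3, 4]))) (BT.node 27 (BT.leaf (4, [6, 3, 6, 3], [3, 6, 3, 6])) (BT.leaf (4, [0, 5, 0, 5], [5, 0, 5, 0])))) (BT.node 30 (BT.node 29 (BT.leaf (4, [1, 5, 1, 5], [5, 1, 5, 1])) (BT.leaf (6, [2, 5, 2, 5, 2, 5], [5, 2, 5, 2, 5, 2]))) (BT.leaf (4, [3, 5, 3, 5], [5, 3, 5, 3])))) (BT.node 34 (BT.node 33 (BT.node 32 (BT.leaf (2, [5, 5], [5, 5])) (BT.leaf (4, [4, 5, 4, 5], [5, 4, 5, 4]))) (BT.leaf (6, [6, 5, 6, 5, 6, 5], [5, 6, 5, 6, 5, 6]))) (BT.node 36 (BT.node 35 (BT.leaf (4, [0, 4, 0, 4], [4, 0, 4, 0])) (BT.leaf (4, [1,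 4, 1, 4], [4, 1, 4, 1]))) (BT.leaf (4, [2, 4, 2, 4], [4, 2, 4, 2]))))) (BT.node 43 (BT.node 40 (BT.node 39 (BT.node 38 (BT.leaf (6, [3, 4, 3, 4, 3, 4], [4, 3, 4, 3, 4, 3])) (BT.leaf (4, [5, 4, 5, 4], [4, 5, 4, 5]))) (BT.leaf (2, [4, 4], [4, 4]))) (BT.node 42 (BT.node 41 (BT.leaf (4, [6, 4, 6, 4], [4, 6, 4, 6])) (BT.leaf (4, [0, 6, 0, 6], [6, 0, 6, 0]))) (BT.leaf (4, [1, 6, 1, 6], [6, 1, 6, 1])))) (BT.node 46 (BT.node 45 (BT.node 44 (BT.leaf (4, [2, 6, 2, 6], [6, 2, 6, 2])) (BT.leaf (4, [3, 6, 3, 6], [6, 3, 6, 3]))) (BT.leaf (6, [5, 6, 5, 6, 5, 6], [6, 5, 6, 5, 6, 5]))) (BT.node 48 (BT.node 47 (BT.leaf (4, [4, 6, 4, 6], [6, 4, 6, 4])) (BT.leaf (2, [6, 6], [6, 6]))) (BT.leaf (90, [6, 5, 2, 4, 3, 2, 0, 1, 2, 6, 5, 2, 4, 3, 2, 0, 1, 2, 6, 5, 2, 4, 3, 2, 0, 1, 2, 6, 5, 2, 4, 3,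 2, 0, 1, 2, 6, 5, 2, 4, 3, 2, 0, 1, 2, 6, 5, 2, 4, 3, 2, 0, 1, 2, 6, 5, 2, 4, 3, 2, 0, 1, 2, 6, 5, 2, 4, 3, 2, 0, 1, 2, 6, 5, 2, 4, 3, 2, 0, 1, 2, 6, 5, 2, 4, 3, 2, 0, 1, 2], [2, 1, 0, 2, 3, 4, 2, 5, 6, 2, 1, 0, 2, 3, 4, 2, 5, 6, 2, 1, 0, 2, 3, 4, 2, 5, 6, 2, 1, 0, 2, 3, 4, 2, 5, 6, 2, 1, 0, 2, 3, 4, 2, 5, 6, 2, 1, 0, 2, 3, 4, 2, 5, 6, 2, 1, 0, 2, 3, 4, 2, 5, 6, 2, 1, 0, 2, 3, 4, 2, 5, 6, 2, 1, 0, 2, 3, 4, 2, 5, 6, 2, 1, 0, 2, 3, 4, 2, 5, 6])))))))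
/-- subgroup generators -/
def subT : BT (ℕ × List ℕ × List ℕ) := (BT.node 2 (BT.node 1 (BT.node 0 (BT.leaf (1, [0], [0])) (BT.leaf (1, [1], [1]))) (BT.leaf (1, [2], [2]))) (BT.node 4 (BT.node 3 (BT.leaf (1, [3], [3])) (BT.leaf (1, [4], [4]))) (BT.leaf (1, [5], [5]))))
/-- fact chunks -/
def colET : BT ℕ := (BT.node 15 (BT.node 7 (BT.node 3 (BT.node 1 (BT.node 0 (BT.leaf cE0) (BT.leaf cE1)) (BT.node 2 (BT.leaf cE2) (BT.leaf cE3))) (BT.node 5 (BT.node 4 (BT.leaf cE4) (BT.leaf cE5)) (BT.node 6 (BT.leaf cE6) (BT.leaf cE7)))) (BT.node 11 (BT.node 9 (BT.node 8 (BT.leaf cE8) (BT.leaf cE9)) (BT.node 10 (BT.leaf cE10) (BT.leaf cE11))) (BT.node 13 (BT.node 12 (BT.leaf cE12) (BT.leaf cE13)) (BT.node 14 (BT.leaf cE14) (BT.leaf cE15))))) (BT.node 23 (BT.node 19 (BT.node 17 (BT.node 16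 (BT.leaf cE16) (BT.leaf cE17)) (BT.node 18 (BT.leaf cE18) (BT.leaf cE19))) (BT.node 21 (BT.node 20 (BT.leaf cE20) (BT.leaf cE21)) (BT.node 22 (BT.leaf cE22) (BT.leaf cE23)))) (BT.node 27 (BT.node 25 (BT.node 24 (BT.leaf cE24) (BT.leaf cE25)) (BT.node 26 (BT.leaf cE26) (BT.leaf cE27))) (BT.node 29 (BT.node 28 (BT.leaf cE28) (BT.leaf cE29)) (BT.node 30 (BT.leaf cE30) (BT.leaf cE31))))))
/-- justification chunks -/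
def colJT : BT ℕ := (BT.node 15 (BT.node 7 (BT.node 3 (BT.node 1 (BT.node 0 (BT.leaf cJ0) (BT.leaf cJ1)) (BT.node 2 (BT.leaf cJ2) (BT.leaf cJ3))) (BT.node 5 (BT.node 4 (BT.leaf cJ4) (BT.leaf cJ5)) (BT.node 6 (BT.leaf cJ6) (BT.leaf cJ7)))) (BT.node 11 (BT.node 9 (BT.node 8 (BT.leaf cJ8) (BT.leaf cJ9)) (BT.node 10 (BT.leaf cJ10) (BT.leaf cJ11))) (BT.node 13 (BT.node 12 (BT.leaf cJ12) (BT.leaf cJ13)) (BT.node 14 (BT.leaf cJ14) (BT.leaf cJ15))))) (BT.node 23 (BT.node 19 (BT.node 17 (BT.node 16 (BT.leaf cJ16) (BT.leaf cJ17)) (BT.node 18 (BT.leaf cJ18) (BT.leaf cJ19))) (BT.node 21 (BT.node 20 (BT.leaf cJ20) (BT.leaf cJ21)) (BT.node 22 (BT.leaf cJ22) (BT.leaf cJ23)))) (BT.node 27 (BT.node 25 (BT.node 24 (BT.leaf cJ24) (BT.leaf cJ25)) (BT.node 26 (BT.leaf cJ26) (BT.leaf cJ27))) (BT.node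 29 (BT.node 28 (BT.leaf cJ28) (BT.leaf cJ29)) (BT.node 30 (BT.leaf cJ30) (BT.leaf cJ31))))))
/-- parent chunks -/
def parCT : BT ℕ := (BT.node 1 (BT.node 0 (BT.leaf cP0) (BT.leaf cP1)) (BT.node 2 (BT.leaf cP2) (BT.leaf cP3)))
/-- the certificate -/
def data : Data where
  k := 7
  N := 1562
  W := 23
  MW := 8388608
  B := 2048
  CH := 512
  NCH := 4
  colE := colET
  JW := 64
  MJ := 18446744073709551616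
  A := 1048576
  colJ := colJT
  PW := 20
  MP := 1048576
  parC := parCT
  inv := (BT.node 3 (BT.node 1 (BT.node 0 (BT.leaf 0) (BT.leaf 1)) (BT.node 2 (BT.leaf 2) (BT.leaf 3))) (BT.node 5 (BT.node 4 (BT.leaf 4) (BT.leaf 5)) (BT.node 6 (BT.leaf 6) (BT.leaf 7))))
  rel := relT
  sub := subT
  fuel := 64

end Cfsg.Agent.Lib.Helper28.TCFi22W2Data
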