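import Cfsg.Agent.Lib.Helper28.TCFi22W3Table
set_option autoImplicit false
set_option maxRecDepth 100000
set_option maxHeartbeats 0

namespace Cfsg.Agent.Lib.Helper28.TCFi22W3L0
open Cfsg.Agent.Lib.Helper28.TC2Upper Cfsg.Agent.Lib.Helper28.TC2Lower Cfsg.Agent.Lib.Helper28.TCFi22W3Table

theorem rel0 : table.relOK chkPaths 0 3571 = true := by decide +kernel
theorem rel1 : table.relOK chkPaths 3571 3571 = true := by decide +kernel
theorem rel2 : table.relOK chkPaths 7142 3571 = true := by decide +kernel
theorem rel3 : table.relOK chkPaths 10713 3571 = true := by decide +kernel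
theorem rel4 : table.relOK chkPaths 14284 3571 = true := by decide +kernel
theorem rel5 : table.relOK chkPaths 17855 3571 = true := by decide +kernel

end Cfsg.Agent.Lib.Helper28.TCFi22W3L0
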