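import Cfsg.Agent.Lib.Helper28.TC2Range
import Cfsg.Agent.Lib.Helper28.TCFi22W3Data
import Cfsg.Agent.Lib.Helper28.TCFi22W3Table
set_option autoImplicit false
set_option maxRecDepth 100000
set_option maxHeartbeats 0

namespace Cfsg.Agent.Lib.Helper28.TCFi22W3M1
open Cfsg.Agent.Lib.Helper28.TC2Upper Cfsg.Agent.Lib.Helper28.TC2Lower Cfsg.Agent.Lib.Helper28.TC2Range Cfsg.Agent.Lib.Helper28.TCFi22W3Data Cfsg.Agent.Lib.Helper28.TCFi22W3Table

theorem cnt1 : Data.countFrom data 40000 11840 = 11840 := by decide +kernel
theorem prm0 : Table.permRange table 0 20833 = true := by decide +kernel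
theorem prm1 : Table.permRange table 20833 20833 = true := by decide +kernel
theorem prm2 : Table.permRange table 41666 10174 = true := by decide +kernel
theorem tre0 : Table.treeRange table 0 51839 = true := by decide +kernel

end Cfsg.Agent.Lib.Helper28.TCFi22W3M1
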