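import Cfsg.Agent.Lib.Helper28.TC2GlueOrb
import Cfsg.Agent.Lib.Helper28.TC2Range
import Cfsg.Agent.Lib.Helper28.TCFi22W3Link
import Cfsg.Agent.Lib.Helper28.TCFi22W3M
import Cfsg.Agent.Lib.Helper28.TCFi22W3M0
import Cfsg.Agent.Lib.Helper28.TCFi22W3M1
import Cfsg.Agent.Lib.Helper28.TCFi22W3U0
import Cfsg.Agent.Lib.Helper28.TCFi22W3U1
import Cfsg.Agent.Lib.Helper28.TCFi22W3U2
import Cfsg.Agent.Lib.Helper28.TCFi22W3U3
import Cfsg.Agent.Lib.Helper28.TCFi22W3U4
import Cfsg.Agent.Lib.Helper28.TCFi22W3U5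
import Cfsg.Agent.Lib.Helper28.TCFi22W3U6
import Cfsg.Agent.Lib.Helper28.TCFi22W3U7
import Cfsg.Agent.Lib.Helper28.TCFi22W3U8
import Cfsg.Agent.Lib.Helper28.TCFi22W3U9
import Cfsg.Agent.Lib.Helper28.TCFi22W3U10
import Cfsg.Agent.Lib.Helper28.TCFi22W3U11
import Cfsg.Agent.Lib.Helper28.TCFi22W3U12
import Cfsg.Agent.Lib.Helper28.TCFi22W3L0
import Cfsg.Agent.Lib.Helper28.TCFi22W3L1
import Cfsg.Agent.Lib.Helper28.TCFi22W3L2

set_option autoImplicit false
set_option maxRecDepth 100000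
open Cfsg

namespace Cfsg.Agent.Lib.Helper28.TCFi22W3Main
open Cfsg.Agent.Lib.Helper28.TC2Upper Cfsg.Agent.Lib.Helper28.TC2Lower Cfsg.Agent.Lib.Helper28.TC2Glue Cfsg.Agent.Lib.Helper28.TC2GlueOrb Cfsg.Agent.Lib.Helper28.TC2Orbit Cfsg.Agent.Lib.Helper28.TC2Range
open Cfsg.Agent.Lib.Helper28.TCFi22W3Data Cfsg.Agent.Lib.Helper28.TCFi22W3Table Cfsg.Agent.Lib.Helper28.TCFi22W3Link Cfsg.Agent.Lib.Helper28.TCFi22W3M

theorem hchk : ∀ v, v < data.N → data.checkNode v = true := by
  intro v hv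
  have hv' : v < 51840 := hv
  rcases Nat.lt_or_ge v 858 with h0 | h0
  · exact (data.checkRange_iff 0 858).mp Cfsg.Agent.Lib.Helper28.TCFi22W3U0.chk0 v (by omega) (by omega)
  rcases Nat.lt_or_ge v 1716 with h1 | h1
  · exact (data.checkRange_iff 858 858).mp Cfsg.Agent.Lib.Helper28.TCFi22W3U0.chk1 v (by omega) (by omega)
  rcases Nat.lt_or_ge v 2574 with h2 | h2
  · exact (data.checkRange_iff 1716 858).mp Cfsg.Agent.Lib.Helper28.TCFi22W3U0.chk2 v (by omega) (by omega)
  rcases Nat.lt_or_ge v 3432 with h3 | h3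
  · exact (data.checkRange_iff 2574 858).mp Cfsg.Agent.Lib.Helper28.TCFi22W3U0.chk3 v (by omega) (by omega)
  rcases Nat.lt_or_ge v 4290 with h4 | h4
  · exact (data.checkRange_iff 3432 858).mp Cfsg.Agent.Lib.Helper28.TCFi22W3U0.chk4 v (by omega) (by omega)
  rcases Nat.lt_or_ge v 5148 with h5 | h5
  · exact (data.checkRange_iff 4290 858).mp Cfsg.Agent.Lib.Helper28.TCFi22W3U1.chk5 v (by omega) (by omega)
  rcases Nat.lt_or_ge v 6006 with h6 | h6
  · exact (data.checkRange_iff 5148 858).mp Cfsg.Agent.Lib.Helper28.TCFi22W3U1.chk6 v (by omega) (by omega)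
  rcases Nat.lt_or_ge v 6864 with h7 | h7
  · exact (data.checkRange_iff 6006 858).mp Cfsg.Agent.Lib.Helper28.TCFi22W3U1.chk7 v (by omega) (by omega)
  rcases Nat.lt_or_ge v 7722 with h8 | h8
  · exact (data.checkRange_iff 6864 858).mp Cfsg.Agent.Lib.Helper28.TCFi22W3U1.chk8 v (by omega) (by omega)
  rcases Nat.lt_or_ge v 8580 with h9 | h9
  · exact (data.checkRange_iff 7722 858).mp Cfsg.Agent.Lib.Helper28.TCFi22W3U1.chk9 v (by omega) (by omega)
  rcases Nat.lt_or_ge v 9438 with h10 | h10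
  · exact (data.checkRange_iff 8580 858).mp Cfsg.Agent.Lib.Helper28.TCFi22W3U2.chk10 v (by omega) (by omega)
  rcases Nat.lt_or_ge v 10296 with h11 | h11
  · exact (data.checkRange_iff 9438 858).mp Cfsg.Agent.Lib.Helper28.TCFi22W3U2.chk11 v (by omega) (by omega)
  rcases Nat.lt_or_ge v 11154 with h12 | h12
  · exact (data.checkRange_iff 10296 858).mp Cfsg.Agent.Lib.Helper28.TCFi22W3U2.chk12 v (by omega) (by omega)
  rcases Nat.lt_or_ge v 12012 with h13 | h13
  · exact (data.checkRange_iff 11154 858).mp Cfsg.Agent.Lib.Helper28.TCFi22W3U2.chk13 v (by omega) (by omega)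
  rcases Nat.lt_or_ge v 12870 with h14 | h14
  · exact (data.checkRange_iff 12012 858).mp Cfsg.Agent.Lib.Helper28.TCFi22W3U2.chk14 v (by omega) (by omega)
  rcases Nat.lt_or_ge v 13728 with h15 | h15
  · exact (data.checkRange_iff 12870 858).mp Cfsg.Agent.Lib.Helper28.TCFi22W3U3.chk15 v (by omega) (by omega)
  rcases Nat.lt_or_ge v 14586 with h16 | h16
  · exact (data.checkRange_iff 13728 858).mp Cfsg.Agent.Lib.Helper28.TCFi22W3U3.chk16 v (by omega) (by omega)
  rcases Nat.lt_or_ge v 15444 with h17 | h17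
  · exact (data.checkRange_iff 14586 858).mp Cfsg.Agent.Lib.Helper28.TCFi22W3U3.chk17 v (by omega) (by omega)
  rcases Nat.lt_or_ge v 16302 with h18 | h18
  · exact (data.checkRange_iff 15444 858).mp Cfsg.Agent.Lib.Helper28.TCFi22W3U3.chk18 v (by omega) (by omega)
  rcases Nat.lt_or_ge v 17160 with h19 | h19
  · exact (data.checkRange_iff 16302 858).mp Cfsg.Agent.Lib.Helper28.TCFi22W3U3.chk19 v (by omega) (by omega)
  rcases Nat.lt_or_ge v 18018 with h20 | h20
  · exact (data.checkRange_iff 17160 858).mp Cfsg.Agent.Lib.Helper28.TCFi22W3U4.chk20 v (by omega) (by omega)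
  rcases Nat.lt_or_ge v 18876 with h21 | h21
  · exact (data.checkRange_iff 18018 858).mp Cfsg.Agent.Lib.Helper28.TCFi22W3U4.chk21 v (by omega) (by omega)
  rcases Nat.lt_or_ge v 19734 with h22 | h22
  · exact (data.checkRange_iff 18876 858).mp Cfsg.Agent.Lib.Helper28.TCFi22W3U4.chk22 v (by omega) (by omega)
  rcases Nat.lt_or_ge v 20592 with h23 | h23
  · exact (data.checkRange_iff 19734 858).mp Cfsg.Agent.Lib.Helper28.TCFi22W3U4.chk23 v (by omega) (by omega)
  rcases Nat.lt_or_ge v 21450 with h24 | h24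
  · exact (data.checkRange_iff 20592 858).mp Cfsg.Agent.Lib.Helper28.TCFi22W3U4.chk24 v (by omega) (by omega)
  rcases Nat.lt_or_ge v 22308 with h25 | h25
  · exact (data.checkRange_iff 21450 858).mp Cfsg.Agent.Lib.Helper28.TCFi22W3U5.chk25 v (by omega) (by omega)
  rcases Nat.lt_or_ge v 23166 with h26 | h26
  · exact (data.checkRange_iff 22308 858).mp Cfsg.Agent.Lib.Helper28.TCFi22W3U5.chk26 v (by omega) (by omega)
  rcases Nat.lt_or_ge v 24024 with h27 | h27
  · exact (data.checkRange_iff 23166 858).mp Cfsg.Agent.Lib.Helper28.TCFi22W3U5.chk27 v (by omega) (by omega)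
  rcases Nat.lt_or_ge v 24882 with h28 | h28
  · exact (data.checkRange_iff 24024 858).mp Cfsg.Agent.Lib.Helper28.TCFi22W3U5.chk28 v (by omega) (by omega)
  rcases Nat.lt_or_ge v 25740 with h29 | h29
  · exact (data.checkRange_iff 24882 858).mp Cfsg.Agent.Lib.Helper28.TCFi22W3U5.chk29 v (by omega) (by omega)
  rcases Nat.lt_or_ge v 26598 with h30 | h30
  · exact (data.checkRange_iff 25740 858).mp Cfsg.Agent.Lib.Helper28.TCFi22W3U6.chk30 v (by omega) (by omega)
  rcases Nat.lt_or_ge v 27456 with h31 | h31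
  · exact (data.checkRange_iff 26598 858).mp Cfsg.Agent.Lib.Helper28.TCFi22W3U6.chk31 v (by omega) (by omega)
  rcases Nat.lt_or_ge v 28314 with h32 | h32
  · exact (data.checkRange_iff 27456 858).mp Cfsg.Agent.Lib.Helper28.TCFi22W3U6.chk32 v (by omega) (by omega)
  rcases Nat.lt_or_ge v 29172 with h33 | h33
  · exact (data.checkRange_iff 28314 858).mp Cfsg.Agent.Lib.Helper28.TCFi22W3U6.chk33 v (by omega) (by omega)
  rcases Nat.lt_or_ge v 30030 with h34 | h34
  · exact (data.checkRange_iff 29172 858).mp Cfsg.Agent.Lib.Helper28.TCFi22W3U6.chk34 v (by omega) (by omega)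
  rcases Nat.lt_or_ge v 30888 with h35 | h35
  · exact (data.checkRange_iff 30030 858).mp Cfsg.Agent.Lib.Helper28.TCFi22W3U7.chk35 v (by omega) (by omega)
  rcases Nat.lt_or_ge v 31746 with h36 | h36
  · exact (data.checkRange_iff 30888 858).mp Cfsg.Agent.Lib.Helper28.TCFi22W3U7.chk36 v (by omega) (by omega)
  rcases Nat.lt_or_ge v 32604 with h37 | h37
  · exact (data.checkRange_iff 31746 858).mp Cfsg.Agent.Lib.Helper28.TCFi22W3U7.chk37 v (by omega) (by omega)
  rcases Nat.lt_or_ge v 33462 with h38 | h38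
  · exact (data.checkRange_iff 32604 858).mp Cfsg.Agent.Lib.Helper28.TCFi22W3U7.chk38 v (by omega) (by omega)
  rcases Nat.lt_or_ge v 34320 with h39 | h39
  · exact (data.checkRange_iff 33462 858).mp Cfsg.Agent.Lib.Helper28.TCFi22W3U7.chk39 v (by omega) (by omega)
  rcases Nat.lt_or_ge v 35178 with h40 | h40
  · exact (data.checkRange_iff 34320 858).mp Cfsg.Agent.Lib.Helper28.TCFi22W3U8.chk40 v (by omega) (by omega)
  rcases Nat.lt_or_ge v 36036 with h41 | h41
  · exact (data.checkRange_iff 35178 858).mp Cfsg.Agent.Lib.Helper28.TCFi22W3U8.chk41 v (by omega) (by omega)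
  rcases Nat.lt_or_ge v 36894 with h42 | h42
  · exact (data.checkRange_iff 36036 858).mp Cfsg.Agent.Lib.Helper28.TCFi22W3U8.chk42 v (by omega) (by omega)
  rcases Nat.lt_or_ge v 37752 with h43 | h43
  · exact (data.checkRange_iff 36894 858).mp Cfsg.Agent.Lib.Helper28.TCFi22W3U8.chk43 v (by omega) (by omega)
  rcases Nat.lt_or_ge v 38610 with h44 | h44
  · exact (data.checkRange_iff 37752 858).mp Cfsg.Agent.Lib.Helper28.TCFi22W3U8.chk44 v (by omega) (by omega)
  rcases Nat.lt_or_ge v 39468 with h45 | h45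
  · exact (data.checkRange_iff 38610 858).mp Cfsg.Agent.Lib.Helper28.TCFi22W3U9.chk45 v (by omega) (by omega)
  rcases Nat.lt_or_ge v 40326 with h46 | h46
  · exact (data.checkRange_iff 39468 858).mp Cfsg.Agent.Lib.Helper28.TCFi22W3U9.chk46 v (by omega) (by omega)
  rcases Nat.lt_or_ge v 41184 with h47 | h47
  · exact (data.checkRange_iff 40326 858).mp Cfsg.Agent.Lib.Helper28.TCFi22W3U9.chk47 v (by omega) (by omega)
  rcases Nat.lt_or_ge v 42042 with h48 | h48
  · exact (data.checkRange_iff 41184 858).mp Cfsg.Agent.Lib.Helper28.TCFi22W3U9.chk48 v (by omega) (by omega)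
  rcases Nat.lt_or_ge v 42900 with h49 | h49
  · exact (data.checkRange_iff 42042 858).mp Cfsg.Agent.Lib.Helper28.TCFi22W3U9.chk49 v (by omega) (by omega)
  rcases Nat.lt_or_ge v 43758 with h50 | h50
  · exact (data.checkRange_iff 42900 858).mp Cfsg.Agent.Lib.Helper28.TCFi22W3U10.chk50 v (by omega) (by omega)
  rcases Nat.lt_or_ge v 44616 with h51 | h51
  · exact (data.checkRange_iff 43758 858).mp Cfsg.Agent.Lib.Helper28.TCFi22W3U10.chk51 v (by omega) (by omega)
  rcases Nat.lt_or_ge v 45474 with h52 | h52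
  · exact (data.checkRange_iff 44616 858).mp Cfsg.Agent.Lib.Helper28.TCFi22W3U10.chk52 v (by omega) (by omega)
  rcases Nat.lt_or_ge v 46332 with h53 | h53
  · exact (data.checkRange_iff 45474 858).mp Cfsg.Agent.Lib.Helper28.TCFi22W3U10.chk53 v (by omega) (by omega)
  rcases Nat.lt_or_ge v 47190 with h54 | h54
  · exact (data.checkRange_iff 46332 858).mp Cfsg.Agent.Lib.Helper28.TCFi22W3U10.chk54 v (by omega) (by omega)
  rcases Nat.lt_or_ge v 48048 with h55 | h55
  · exact (data.checkRange_iff 47190 858).mp Cfsg.Agent.Lib.Helper28.TCFi22W3U11.chk55 v (by omega) (by omega)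
  rcases Nat.lt_or_ge v 48906 with h56 | h56
  · exact (data.checkRange_iff 48048 858).mp Cfsg.Agent.Lib.Helper28.TCFi22W3U11.chk56 v (by omega) (by omega)
  rcases Nat.lt_or_ge v 49764 with h57 | h57
  · exact (data.checkRange_iff 48906 858).mp Cfsg.Agent.Lib.Helper28.TCFi22W3U11.chk57 v (by omega) (by omega)
  rcases Nat.lt_or_ge v 50622 with h58 | h58
  · exact (data.checkRange_iff 49764 858).mp Cfsg.Agent.Lib.Helper28.TCFi22W3U11.chk58 v (by omega) (by omega)
  rcases Nat.lt_or_ge v 51480 with h59 | h59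
  · exact (data.checkRange_iff 50622 858).mp Cfsg.Agent.Lib.Helper28.TCFi22W3U11.chk59 v (by omega) (by omega)
  exact (data.checkRange_iff 51480 360).mp Cfsg.Agent.Lib.Helper28.TCFi22W3U12.chk60 v (by omega) (by omega)

theorem hrows : ∀ v, v < data.N → Data.rowOK data v = true := by
  intro v hv
  have hv' : v < 51840 := hv
  rcases Nat.lt_or_ge v 13888 with h0 | h0
  · exact (Data.finalRange_iff data 0 13888).mp Cfsg.Agent.Lib.Helper28.TCFi22W3M0.fin0 v (by omega) (by omega)
  rcases Nat.lt_or_ge v 27776 with h1 | h1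
  · exact (Data.finalRange_iff data 13888 13888).mp Cfsg.Agent.Lib.Helper28.TCFi22W3M0.fin1 v (by omega) (by omega)
  rcases Nat.lt_or_ge v 41664 with h2 | h2
  · exact (Data.finalRange_iff data 27776 13888).mp Cfsg.Agent.Lib.Helper28.TCFi22W3M0.fin2 v (by omega) (by omega)
  exact (Data.finalRange_iff data 41664 10176).mp Cfsg.Agent.Lib.Helper28.TCFi22W3M0.fin3 v (by omega) (by omega)

theorem hfin : data.finalOK = true := Data.finalOK_of_rows data hlive0 (by decide) hrows

theorem pc0 : Data.countFrom data 0 40000 = 40000 := Cfsg.Agent.Lib.Helper28.TCFi22W3M0.cnt0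
theorem pc1 : Data.countFrom data 0 51840 = 51840 := Data.countFrom_step data pc0 Cfsg.Agent.Lib.Helper28.TCFi22W3M1.cnt1 (by norm_num) (by norm_num)

theorem hcount : data.countLive = table.n := by
  rw [Data.countLive_eq]
  exact pc1

theorem hpermAll : ∀ p, p < table.n → Table.permRow table p = true := by
  intro p hp
  have hp' : p < 51840 := hp
  rcases Nat.lt_or_ge p 20833 with h0 | h0
  · exact (Table.permRange_iff table 0 20833).mp Cfsg.Agent.Lib.Helper28.TCFi22W3M1.prm0 p (by omega) (by omega)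
  rcases Nat.lt_or_ge p 41666 with h1 | h1
  · exact (Table.permRange_iff table 20833 20833).mp Cfsg.Agent.Lib.Helper28.TCFi22W3M1.prm1 p (by omega) (by omega)
  exact (Table.permRange_iff table 41666 10174).mp Cfsg.Agent.Lib.Helper28.TCFi22W3M1.prm2 p (by omega) (by omega)

theorem hT : table.OK := Table.ok_of_rows table hinvOK hpermAll

theorem htreeAll : ∀ i, i < Nat.pred table.n → Table.treeRow table i = true := by
  intro p hp
  have hp' : p < 51839 := hp
  exact (Table.treeRange_iff table 0 51839).mp Cfsg.Agent.Lib.Helper28.TCFi22W3M1.tre0 p (by omega) (by omega)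

theorem htree : table.treeOK = true := Table.treeOK_of_rows table htreeAll

theorem hchkT : ∀ P ∈ chkPaths, ∀ p, p < table.n → table.walkT P p = p := by
  intro P hm p hp
  have hp' : p < 51840 := hp
  rcases Nat.lt_or_ge p 3571 with h0 | h0
  · exact (Table.relOK_iff chkPaths 0 3571).mp Cfsg.Agent.Lib.Helper28.TCFi22W3L0.rel0 p (by omega) (by omega) _ hm
  rcases Nat.lt_or_ge p 7142 with h1 | h1
  · exact (Table.relOK_iff chkPaths 3571 3571).mp Cfsg.Agent.Lib.Helper28.TCFi22W3L0.rel1 p (by omega) (by omega) _ hm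
  rcases Nat.lt_or_ge p 10713 with h2 | h2
  · exact (Table.relOK_iff chkPaths 7142 3571).mp Cfsg.Agent.Lib.Helper28.TCFi22W3L0.rel2 p (by omega) (by omega) _ hm
  rcases Nat.lt_or_ge p 14284 with h3 | h3
  · exact (Table.relOK_iff chkPaths 10713 3571).mp Cfsg.Agent.Lib.Helper28.TCFi22W3L0.rel3 p (by omega) (by omega) _ hm
  rcases Nat.lt_or_ge p 17855 with h4 | h4
  · exact (Table.relOK_iff chkPaths 14284 3571).mp Cfsg.Agent.Lib.Helper28.TCFi22W3L0.rel4 p (by omega) (by omega) _ hm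
  rcases Nat.lt_or_ge p 21426 with h5 | h5
  · exact (Table.relOK_iff chkPaths 17855 3571).mp Cfsg.Agent.Lib.Helper28.TCFi22W3L0.rel5 p (by omega) (by omega) _ hm
  rcases Nat.lt_or_ge p 24997 with h6 | h6
  · exact (Table.relOK_iff chkPaths 21426 3571).mp Cfsg.Agent.Lib.Helper28.TCFi22W3L1.rel6 p (by omega) (by omega) _ hm
  rcases Nat.lt_or_ge p 28568 with h7 | h7
  · exact (Table.relOK_iff chkPaths 24997 3571).mp Cfsg.Agent.Lib.Helper28.TCFi22W3L1.rel7 p (by omega) (by omega) _ hm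
  rcases Nat.lt_or_ge p 32139 with h8 | h8
  · exact (Table.relOK_iff chkPaths 28568 3571).mp Cfsg.Agent.Lib.Helper28.TCFi22W3L1.rel8 p (by omega) (by omega) _ hm
  rcases Nat.lt_or_ge p 35710 with h9 | h9
  · exact (Table.relOK_iff chkPaths 32139 3571).mp Cfsg.Agent.Lib.Helper28.TCFi22W3L1.rel9 p (by omega) (by omega) _ hm
  rcases Nat.lt_or_ge p 39281 with h10 | h10
  · exact (Table.relOK_iff chkPaths 35710 3571).mp Cfsg.Agent.Lib.Helper28.TCFi22W3L1.rel10 p (by omega) (by omega) _ hm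
  rcases Nat.lt_or_ge p 42852 with h11 | h11
  · exact (Table.relOK_iff chkPaths 39281 3571).mp Cfsg.Agent.Lib.Helper28.TCFi22W3L1.rel11 p (by omega) (by omega) _ hm
  rcases Nat.lt_or_ge p 46423 with h12 | h12
  · exact (Table.relOK_iff chkPaths 42852 3571).mp Cfsg.Agent.Lib.Helper28.TCFi22W3L2.rel12 p (by omega) (by omega) _ hm
  rcases Nat.lt_or_ge p 49994 with h13 | h13
  · exact (Table.relOK_iff chkPaths 46423 3571).mp Cfsg.Agent.Lib.Helper28.TCFi22W3L2.rel13 p (by omega) (by omega) _ hm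
  exact (Table.relOK_iff chkPaths 49994 1846).mp Cfsg.Agent.Lib.Helper28.TCFi22W3L2.rel14 p (by omega) (by omega) _ hm

theorem hrelT : ∀ L ∈ relWords, ∀ p, p < table.n → table.walkT (pathOf lw L) p = p :=
  fun L hL => Table.fix_of_covered hT chkPaths hchkT _ (hcov _ (hrelmem L hL)).1 (hcov _ (hrelmem L hL)).2

theorem hsubT : ∀ L ∈ subWords, table.walkT (pathOf lw L) 0 = 0 :=
  fun L hL => (Table.subOK_iff subPaths).mp hsub0 _ (hsubmem L hL)

theorem hn : 0 < table.n := by decide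

theorem main : ((Subgroup.closure S).map (PresentedGroup.mk rels)).index = table.n ∧
    ∃ φ : PresentedGroup rels →* Equiv.Perm (Fin table.n),
      (∀ x, φ (PresentedGroup.of x) = Table.sigma hT (lw (x, true))) ∧
      ∃ f : PresentedGroup rels ⧸ (Subgroup.closure S).map (PresentedGroup.mk rels) → Fin table.n,
        Function.Bijective f ∧ (∀ g q, f (g • q) = φ g (f q)) ∧ f (QuotientGroup.mk 1) = ⟨0, hn⟩ :=
  index_eq link hchk hfin hcount hT hn hrelT hsubT htree

end Cfsg.Agent.Lib.Helper28.TCFi22W3Main
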