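import Cfsg.Agent.Lib.Helper28.TC2Upper
import Cfsg.Agent.Lib.Helper28.TCFi22WCDataC0
import Cfsg.Agent.Lib.Helper28.TCFi22WCDataC1
set_option autoImplicit false
set_option maxRecDepth 100000

namespace Cfsg.Agent.Lib.Helper28.TCFi22WCData
open Cfsg.Agent.Lib.Helper28.TC2Upper

/-- relators -/
def relT : BT (ℕ × List ℕ × List ℕ) := (BT.node 42 (BT.node 21 (BT.node 10 (BT.node 5 (BT.node 2 (BT.node 1 (BT.node 0 (BT.leaf (2, [0, 0], [0, 0])) (BT.leaf (6, [1, 0, 1, 0, 1, 0], [0, 1, 0, 1, 0, 1]))) (BT.leaf (4, [2, 0, 2, 0], [0, 2, 0, 2]))) (BT.node 4 (BT.node 3 (BT.leaf (4, [3, 0, 3, 0], [0, 3, 0, 3])) (BT.leaf (4, [4, 0, 4, 0], [0, 4, 0, 4]))) (BT.leaf (4, [5, 0, 5, 0], [0, 5, 0, 5])))) (BT.node 8 (BT.node 7 (BT.node 6 (BT.leaf (4, [7, 0, 7, 0], [0, 7, 0, 7])) (BT.leaf (4, [6, 0, 6, 0], [0, 6, 0, 6]))) (BT.leaf (4, [8, 0, 8, 0], [0, 8, 0, 8]))) (BT.node 9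 (BT.leaf (6, [0, 1, 0, 1, 0, 1], [1, 0, 1, 0, 1, 0])) (BT.leaf (2, [1, 1], [1, 1]))))) (BT.node 16 (BT.node 13 (BT.node 12 (BT.node 11 (BT.leaf (6, [2, 1, 2, 1, 2, 1], [1, 2, 1, 2, 1, 2])) (BT.leaf (4, [3, 1, 3, 1], [1, 3, 1, 3]))) (BT.leaf (4, [4, 1, 4, 1], [1, 4, 1, 4]))) (BT.node 15 (BT.node 14 (BT.leaf (4, [5, 1, 5, 1], [1, 5, 1, 5])) (BT.leaf (4, [7, 1, 7, 1], [1, 7, 1, 7]))) (BT.leaf (4, [6, 1, 6, 1], [1, 6, 1, 6])))) (BT.node 19 (BT.node 18 (BT.node 17 (BT.leaf (4, [8, 1, 8, 1], [1, 8, 1, 8])) (BT.leaf (4, [0, 2, 0, 2], [2, 0, 2, 0]))) (BT.leaf (6, [1, 2, 1, 2, 1, 2], [2, 1, 2, 1, 2, 1]))) (BT.node 20 (BT.leaf (2, [2, 2], [2, 2])) (BT.leaf (6, [3, 2, 3, 2, 3, 2], [2, 3, 2, 3, 2, 3])))))) (BT.node 32 (BT.node 27 (BT.node 24 (BT.node 23 (BT.node 22 (BT.leaf (4, [4, 2, 4, 2], [2, 4, 2, 4])) (BT.leaf (4, [5, 2, 5, 2], [2, 5, 2, 5]))) (BT.leaf (4, [7,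 2, 7, 2], [2, 7, 2, 7]))) (BT.node 26 (BT.node 25 (BT.leaf (4, [6, 2, 6, 2], [2, 6, 2, 6])) (BT.leaf (4, [8, 2, 8, 2], [2, 8, 2, 8]))) (BT.leaf (4, [0, 3, 0, 3], [3, 0, 3, 0])))) (BT.node 30 (BT.node 29 (BT.node 28 (BT.leaf (4, [1, 3, 1, 3], [3, 1, 3, 1])) (BT.leaf (6, [2, 3, 2, 3, 2, 3], [3, 2, 3, 2, 3, 2]))) (BT.leaf (2, [3, 3], [3, 3]))) (BT.node 31 (BT.leaf (6, [4, 3, 4, 3, 4, 3], [3, 4, 3, 4, 3, 4])) (BT.leaf (4, [5, 3, 5, 3], [3, 5, 3, 5]))))) (BT.node 37 (BT.node 35 (BT.node 34 (BT.node 33 (BT.leaf (6, [7, 3, 7, 3, 7, 3], [3, 7, 3, 7, 3, 7])) (BT.leaf (4, [6, 3, 6, 3], [3, 6, 3, 6]))) (BT.leaf (4, [8, 3, 8, 3], [3, 8, 3, 8]))) (BT.node 36 (BT.leaf (4, [0, 4, 0, 4], [4, 0, 4, 0])) (BT.leaf (4, [1, 4, 1, 4], [4, 1, 4, 1])))) (BT.node 40 (BT.node 39 (BT.node 38 (BT.leaf (4, [2, 4, 2, 4], [4, 2, 4, 2])) (BT.leaf (6, [3, 4, 3, 4, 3, 4], [4, 3, 4, 3,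 4, 3]))) (BT.leaf (2, [4, 4], [4, 4]))) (BT.node 41 (BT.leaf (6, [5, 4, 5, 4, 5, 4], [4, 5, 4, 5, 4, 5])) (BT.leaf (4, [7, 4, 7, 4], [4, 7, 4, 7]))))))) (BT.node 63 (BT.node 53 (BT.node 48 (BT.node 45 (BT.node 44 (BT.node 43 (BT.leaf (4, [6, 4, 6, 4], [4, 6, 4, 6])) (BT.leaf (4, [8, 4, 8, 4], [4, 8, 4, 8]))) (BT.leaf (4, [0, 5, 0, 5], [5, 0, 5, 0]))) (BT.node 47 (BT.node 46 (BT.leaf (4, [1, 5, 1, 5], [5, 1, 5, 1])) (BT.leaf (4, [2, 5, 2, 5], [5, 2, 5, 2]))) (BT.leaf (4, [3, 5, 3, 5], [5, 3, 5, 3])))) (BT.node 51 (BT.node 50 (BT.node 49 (BT.leaf (6, [4, 5, 4, 5, 4, 5], [5, 4, 5, 4, 5, 4])) (BT.leaf (2, [5, 5], [5, 5]))) (BT.leaf (4, [7, 5, 7, 5], [5, 7, 5, 7]))) (BT.node 52 (BT.leaf (6, [6, 5, 6, 5, 6, 5], [5, 6, 5, 6, 5, 6])) (BT.leaf (4, [8, 5, 8, 5], [5, 8, 5, 8]))))) (BT.node 58 (BT.node 56 (BT.node 55 (BT.node 54 (BT.leaf (4, [0, 7, 0, 7], [7, 0, 7,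 0])) (BT.leaf (4, [1, 7, 1, 7], [7, 1, 7, 1]))) (BT.leaf (4, [2, 7, 2, 7], [7, 2, 7, 2]))) (BT.node 57 (BT.leaf (6, [3, 7, 3, 7, 3, 7], [7, 3, 7, 3, 7, 3])) (BT.leaf (4, [4, 7, 4, 7], [7, 4, 7, 4])))) (BT.node 61 (BT.node 60 (BT.node 59 (BT.leaf (4, [5, 7, 5, 7], [7, 5, 7, 5])) (BT.leaf (2, [7, 7], [7, 7]))) (BT.leaf (4, [6, 7, 6, 7], [7, 6, 7, 6]))) (BT.node 62 (BT.leaf (6, [8, 7, 8, 7, 8, 7], [7, 8, 7, 8, 7, 8])) (BT.leaf (4, [0, 6, 0, 6], [6, 0, 6, 0])))))) (BT.node 74 (BT.node 69 (BT.node 66 (BT.node 65 (BT.node 64 (BT.leaf (4, [1, 6, 1, 6], [6, 1, 6, 1])) (BT.leaf (4, [2, 6, 2, 6], [6, 2, 6, 2]))) (BT.leaf (4, [3, 6, 3, 6], [6, 3, 6, 3]))) (BT.node 68 (BT.node 67 (BT.leaf (4, [4, 6, 4, 6], [6, 4, 6, 4])) (BT.leaf (6, [5, 6, 5, 6, 5, 6], [6, 5, 6, 5, 6, 5]))) (BT.leaf (4, [7, 6, 7, 6], [6, 7, 6, 7])))) (BT.node 72 (BT.node 71 (BT.node 70 (BT.leaf (2,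 [6, 6], [6, 6])) (BT.leaf (4, [8, 6, 8, 6], [6, 8, 6, 8]))) (BT.leaf (4, [0, 8, 0, 8], [8, 0, 8, 0]))) (BT.node 73 (BT.leaf (4, [1, 8, 1, 8], [8, 1, 8, 1])) (BT.leaf (4, [2, 8, 2, 8], [8, 2, 8, 2]))))) (BT.node 79 (BT.node 77 (BT.node 76 (BT.node 75 (BT.leaf (4, [3, 8, 3, 8], [8, 3, 8, 3])) (BT.leaf (4, [4, 8, 4, 8], [8, 4, 8, 4]))) (BT.leaf (4, [5, 8, 5, 8], [8, 5, 8, 5]))) (BT.node 78 (BT.leaf (6, [7, 8, 7, 8, 7, 8], [8, 7, 8, 7, 8, 7])) (BT.leaf (4, [6, 8, 6, 8], [8, 6, 8, 6])))) (BT.node 82 (BT.node 81 (BT.node 80 (BT.leaf (2, [8, 8], [8, 8])) (BT.leaf (90, [8, 7, 3, 5, 4, 3, 1, 2, 3, 8, 7, 3, 5, 4, 3, 1, 2, 3, 8, 7, 3, 5, 4, 3, 1, 2, 3, 8, 7, 3, 5, 4, 3, 1, 2, 3, 8, 7, 3, 5, 4, 3, 1, 2, 3, 8, 7, 3, 5, 4, 3, 1, 2, 3, 8, 7, 3, 5, 4, 3, 1, 2, 3, 8, 7, 3, 5, 4, 3, 1, 2, 3, 8, 7, 3, 5, 4, 3, 1, 2, 3, 8, 7, 3, 5, 4, 3, 1, 2, 3], [3, 2, 1, 3, 4, 5, 3, 7,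 8, 3, 2, 1, 3, 4, 5, 3, 7, 8, 3, 2, 1, 3, 4, 5, 3, 7, 8, 3, 2, 1, 3, 4, 5, 3, 7, 8, 3, 2, 1, 3, 4, 5, 3, 7, 8, 3, 2, 1, 3, 4, 5, 3, 7, 8, 3, 2, 1, 3, 4, 5, 3, 7, 8, 3, 2, 1, 3, 4, 5, 3, 7, 8, 3, 2, 1, 3, 4, 5, 3, 7, 8, 3, 2, 1, 3, 4, 5, 3, 7, 8]))) (BT.leaf (63, [7, 5, 4, 3, 2, 1, 0, 7, 5, 4, 3, 2, 1, 0, 7, 5, 4, 3, 2, 1, 0, 7, 5, 4, 3, 2, 1, 0, 7, 5, 4, 3, 2, 1, 0, 7, 5, 4, 3, 2, 1, 0, 7, 5, 4, 3, 2, 1, 0, 7, 5, 4, 3, 2, 1, 0, 7, 5, 4, 3, 2, 1, 0], [0, 1, 2, 3, 4, 5, 7, 0, 1, 2, 3, 4, 5, 7, 0, 1, 2, 3, 4, 5, 7, 0, 1, 2, 3, 4, 5, 7, 0, 1, 2, 3, 4, 5, 7, 0, 1, 2, 3, 4, 5, 7, 0, 1, 2, 3, 4, 5, 7, 0, 1, 2, 3, 4, 5, 7, 0, 1, 2, 3, 4, 5, 7]))) (BT.node 83 (BT.leaf (63, [7, 6, 5, 4, 3, 2, 1, 7, 6, 5, 4, 3, 2, 1, 7, 6, 5, 4, 3, 2, 1, 7, 6, 5, 4, 3, 2, 1, 7, 6, 5, 4, 3, 2, 1, 7, 6, 5, 4, 3, 2, 1, 7, 6, 5, 4, 3, 2, 1, 7, 6, 5, 4, 3, 2, 1, 7, 6, 5, 4, 3, 2, 1],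 [1, 2, 3, 4, 5, 6, 7, 1, 2, 3, 4, 5, 6, 7, 1, 2, 3, 4, 5, 6, 7, 1, 2, 3, 4, 5, 6, 7, 1, 2, 3, 4, 5, 6, 7, 1, 2, 3, 4, 5, 6, 7, 1, 2, 3, 4, 5, 6, 7, 1, 2, 3, 4, 5, 6, 7, 1, 2, 3, 4, 5, 6, 7])) (BT.leaf (22, [3, 4, 6, 7, 1, 0, 3, 2, 8, 7, 5, 3, 4, 6, 7, 1, 0, 3, 2, 8, 7, 5], [5, 7, 8, 2, 3, 0, 1, 7, 6, 4, 3, 5, 7, 8, 2, 3, 0, 1, 7, 6, 4, 3]))))))))
/-- subgroup generators -/
def subT : BT (ℕ × List ℕ × List ℕ) := (BT.leaf (0, [], []))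
/-- fact chunks -/
def colET : BT ℕ := (BT.node 759 (BT.node 379 (BT.node 189 (BT.node 94 (BT.node 47 (BT.node 23 (BT.node 11 (BT.node 5 (BT.node 2 (BT.node 1 (BT.node 0 (BT.leaf cE0) (BT.leaf cE1)) (BT.leaf cE2)) (BT.node 4 (BT.node 3 (BT.leaf cE3) (BT.leaf cE4)) (BT.leaf cE5))) (BT.node 8 (BT.node 7 (BT.node 6 (BT.leaf cE6) (BT.leaf cE7)) (BT.leaf cE8)) (BT.node 10 (BT.node 9 (BT.leaf cE9) (BT.leaf cE10)) (BT.leaf cE11)))) (BT.node 17 (BT.node 14 (BT.node 13 (BT.node 12 (BT.leaf cE12) (BT.leaf cE13)) (BT.leaf cE14)) (BT.node 16 (BT.node 15 (BT.leaf cE15) (BT.leaf cE16)) (BT.leaf cE17))) (BT.node 20 (BT.node 19 (BT.node 18 (BT.leaf cE18) (BT.leaf cE19)) (BT.leaf cE20)) (BT.node 22 (BT.node 21 (BT.leaf cE21) (BT.leaf cE22)) (BT.leaf cE23))))) (BT.node 35 (BT.node 29 (BT.node 26 (BT.node 25 (BT.node 24 (BT.leaf cE24) (BT.leaf cE25)) (BT.leaf cE26)) (BT.node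 28 (BT.node 27 (BT.leaf cE27) (BT.leaf cE28)) (BT.leaf cE29))) (BT.node 32 (BT.node 31 (BT.node 30 (BT.leaf cE30) (BT.leaf cE31)) (BT.leaf cE32)) (BT.node 34 (BT.node 33 (BT.leaf cE33) (BT.leaf cE34)) (BT.leaf cE35)))) (BT.node 41 (BT.node 38 (BT.node 37 (BT.node 36 (BT.leaf cE36) (BT.leaf cE37)) (BT.leaf cE38)) (BT.node 40 (BT.node 39 (BT.leaf cE39) (BT.leaf cE40)) (BT.leaf cE41))) (BT.node 44 (BT.node 43 (BT.node 42 (BT.leaf cE42) (BT.leaf cE43)) (BT.leaf cE44)) (BT.node 46 (BT.node 45 (BT.leaf cE45) (BT.leaf cE46)) (BT.leaf cE47)))))) (BT.node 71 (BT.node 59 (BT.node 53 (BT.node 50 (BT.node 49 (BT.node 48 (BT.leaf cE48) (BT.leaf cE49)) (BT.leaf cE50)) (BT.node 52 (BT.node 51 (BT.leaf cE51) (BT.leaf cE52)) (BT.leaf cE53))) (BT.node 56 (BT.node 55 (BT.node 54 (BT.leaf cE54) (BT.leaf cE55)) (BT.leaf cE56)) (BT.node 58 (BT.node 57 (BT.leaf cE57) (BT.leaf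 cE58)) (BT.leaf cE59)))) (BT.node 65 (BT.node 62 (BT.node 61 (BT.node 60 (BT.leaf cE60) (BT.leaf cE61)) (BT.leaf cE62)) (BT.node 64 (BT.node 63 (BT.leaf cE63) (BT.leaf cE64)) (BT.leaf cE65))) (BT.node 68 (BT.node 67 (BT.node 66 (BT.leaf cE66) (BT.leaf cE67)) (BT.leaf cE68)) (BT.node 70 (BT.node 69 (BT.leaf cE69) (BT.leaf cE70)) (BT.leaf cE71))))) (BT.node 83 (BT.node 77 (BT.node 74 (BT.node 73 (BT.node 72 (BT.leaf cE72) (BT.leaf cE73)) (BT.leaf cE74)) (BT.node 76 (BT.node 75 (BT.leaf cE75) (BT.leaf cE76)) (BT.leaf cE77))) (BT.node 80 (BT.node 79 (BT.node 78 (BT.leaf cE78) (BT.leaf cE79)) (BT.leaf cE80)) (BT.node 82 (BT.node 81 (BT.leaf cE81) (BT.leaf cE82)) (BT.leaf cE83)))) (BT.node 89 (BT.node 86 (BT.node 85 (BT.node 84 (BT.leaf cE84) (BT.leaf cE85)) (BT.leaf cE86)) (BT.node 88 (BT.node 87 (BT.leaf cE87) (BT.leaf cE88)) (BT.leaf cE89))) (BT.node 92 (BT.node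 91 (BT.node 90 (BT.leaf cE90) (BT.leaf cE91)) (BT.leaf cE92)) (BT.node 93 (BT.leaf cE93) (BT.leaf cE94))))))) (BT.node 142 (BT.node 118 (BT.node 106 (BT.node 100 (BT.node 97 (BT.node 96 (BT.node 95 (BT.leaf cE95) (BT.leaf cE96)) (BT.leaf cE97)) (BT.node 99 (BT.node 98 (BT.leaf cE98) (BT.leaf cE99)) (BT.leaf cE100))) (BT.node 103 (BT.node 102 (BT.node 101 (BT.leaf cE101) (BT.leaf cE102)) (BT.leaf cE103)) (BT.node 105 (BT.node 104 (BT.leaf cE104) (BT.leaf cE105)) (BT.leaf cE106)))) (BT.node 112 (BT.node 109 (BT.node 108 (BT.node 107 (BT.leaf cE107) (BT.leaf cE108)) (BT.leaf cE109)) (BT.node 111 (BT.node 110 (BT.leaf cE110) (BT.leaf cE111)) (BT.leaf cE112))) (BT.node 115 (BT.node 114 (BT.node 113 (BT.leaf cE113) (BT.leaf cE114)) (BT.leaf cE115)) (BT.node 117 (BT.node 116 (BT.leaf cE116) (BT.leaf cE117)) (BT.leaf cE118))))) (BT.node 130 (BT.node 124 (BT.node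 121 (BT.node 120 (BT.node 119 (BT.leaf cE119) (BT.leaf cE120)) (BT.leaf cE121)) (BT.node 123 (BT.node 122 (BT.leaf cE122) (BT.leaf cE123)) (BT.leaf cE124))) (BT.node 127 (BT.node 126 (BT.node 125 (BT.leaf cE125) (BT.leaf cE126)) (BT.leaf cE127)) (BT.node 129 (BT.node 128 (BT.leaf cE128) (BT.leaf cE129)) (BT.leaf cE130)))) (BT.node 136 (BT.node 133 (BT.node 132 (BT.node 131 (BT.leaf cE131) (BT.leaf cE132)) (BT.leaf cE133)) (BT.node 135 (BT.node 134 (BT.leaf cE134) (BT.leaf cE135)) (BT.leaf cE136))) (BT.node 139 (BT.node 138 (BT.node 137 (BT.leaf cE137) (BT.leaf cE138)) (BT.leaf cE139)) (BT.node 141 (BT.node 140 (BT.leaf cE140) (BT.leaf cE141)) (BT.leaf cE142)))))) (BT.node 166 (BT.node 154 (BT.node 148 (BT.node 145 (BT.node 144 (BT.node 143 (BT.leaf cE143) (BT.leaf cE144)) (BT.leaf cE145)) (BT.node 147 (BT.node 146 (BT.leaf cE146) (BT.leaf cE147)) (BT.leaf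 cE148))) (BT.node 151 (BT.node 150 (BT.node 149 (BT.leaf cE149) (BT.leaf cE150)) (BT.leaf cE151)) (BT.node 153 (BT.node 152 (BT.leaf cE152) (BT.leaf cE153)) (BT.leaf cE154)))) (BT.node 160 (BT.node 157 (BT.node 156 (BT.node 155 (BT.leaf cE155) (BT.leaf cE156)) (BT.leaf cE157)) (BT.node 159 (BT.node 158 (BT.leaf cE158) (BT.leaf cE159)) (BT.leaf cE160))) (BT.node 163 (BT.node 162 (BT.node 161 (BT.leaf cE161) (BT.leaf cE162)) (BT.leaf cE163)) (BT.node 165 (BT.node 164 (BT.leaf cE164) (BT.leaf cE165)) (BT.leaf cE166))))) (BT.node 178 (BT.node 172 (BT.node 169 (BT.node 168 (BT.node 167 (BT.leaf cE167) (BT.leaf cE168)) (BT.leaf cE169)) (BT.node 171 (BT.node 170 (BT.leaf cE170) (BT.leaf cE171)) (BT.leaf cE172))) (BT.node 175 (BT.node 174 (BT.node 173 (BT.leaf cE173) (BT.leaf cE174)) (BT.leaf cE175)) (BT.node 177 (BT.node 176 (BT.leaf cE176) (BT.leaf cE177)) (BT.leaf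 cE178)))) (BT.node 184 (BT.node 181 (BT.node 180 (BT.node 179 (BT.leaf cE179) (BT.leaf cE180)) (BT.leaf cE181)) (BT.node 183 (BT.node 182 (BT.leaf cE182) (BT.leaf cE183)) (BT.leaf cE184))) (BT.node 187 (BT.node 186 (BT.node 185 (BT.leaf cE185) (BT.leaf cE186)) (BT.leaf cE187)) (BT.node 188 (BT.leaf cE188) (BT.leaf cE189)))))))) (BT.node 284 (BT.node 237 (BT.node 213 (BT.node 201 (BT.node 195 (BT.node 192 (BT.node 191 (BT.node 190 (BT.leaf cE190) (BT.leaf cE191)) (BT.leaf cE192)) (BT.node 194 (BT.node 193 (BT.leaf cE193) (BT.leaf cE194)) (BT.leaf cE195))) (BT.node 198 (BT.node 197 (BT.node 196 (BT.leaf cE196) (BT.leaf cE197)) (BT.leaf cE198)) (BT.node 200 (BT.node 199 (BT.leaf cE199) (BT.leaf cE200)) (BT.leaf cE201)))) (BT.node 207 (BT.node 204 (BT.node 203 (BT.node 202 (BT.leaf cE202) (BT.leaf cE203)) (BT.leaf cE204)) (BT.node 206 (BT.node 205 (BT.leaf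 cE205) (BT.leaf cE206)) (BT.leaf cE207))) (BT.node 210 (BT.node 209 (BT.node 208 (BT.leaf cE208) (BT.leaf cE209)) (BT.leaf cE210)) (BT.node 212 (BT.node 211 (BT.leaf cE211) (BT.leaf cE212)) (BT.leaf cE213))))) (BT.node 225 (BT.node 219 (BT.node 216 (BT.node 215 (BT.node 214 (BT.leaf cE214) (BT.leaf cE215)) (BT.leaf cE216)) (BT.node 218 (BT.node 217 (BT.leaf cE217) (BT.leaf cE218)) (BT.leaf cE219))) (BT.node 222 (BT.node 221 (BT.node 220 (BT.leaf cE220) (BT.leaf cE221)) (BT.leaf cE222)) (BT.node 224 (BT.node 223 (BT.leaf cE223) (BT.leaf cE224)) (BT.leaf cE225)))) (BT.node 231 (BT.node 228 (BT.node 227 (BT.node 226 (BT.leaf cE226) (BT.leaf cE227)) (BT.leaf cE228)) (BT.node 230 (BT.node 229 (BT.leaf cE229) (BT.leaf cE230)) (BT.leaf cE231))) (BT.node 234 (BT.node 233 (BT.node 232 (BT.leaf cE232) (BT.leaf cE233)) (BT.leaf cE234)) (BT.node 236 (BT.node 235 (BT.leaf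 cE235) (BT.leaf cE236)) (BT.leaf cE237)))))) (BT.node 261 (BT.node 249 (BT.node 243 (BT.node 240 (BT.node 239 (BT.node 238 (BT.leaf cE238) (BT.leaf cE239)) (BT.leaf cE240)) (BT.node 242 (BT.node 241 (BT.leaf cE241) (BT.leaf cE242)) (BT.leaf cE243))) (BT.node 246 (BT.node 245 (BT.node 244 (BT.leaf cE244) (BT.leaf cE245)) (BT.leaf cE246)) (BT.node 248 (BT.node 247 (BT.leaf cE247) (BT.leaf cE248)) (BT.leaf cE249)))) (BT.node 255 (BT.node 252 (BT.node 251 (BT.node 250 (BT.leaf cE250) (BT.leaf cE251)) (BT.leaf cE252)) (BT.node 254 (BT.node 253 (BT.leaf cE253) (BT.leaf cE254)) (BT.leaf cE255))) (BT.node 258 (BT.node 257 (BT.node 256 (BT.leaf cE256) (BT.leaf cE257)) (BT.leaf cE258)) (BT.node 260 (BT.node 259 (BT.leaf cE259) (BT.leaf cE260)) (BT.leaf cE261))))) (BT.node 273 (BT.node 267 (BT.node 264 (BT.node 263 (BT.node 262 (BT.leaf cE262) (BT.leaf cE263)) (BT.leaf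 cE264)) (BT.node 266 (BT.node 265 (BT.leaf cE265) (BT.leaf cE266)) (BT.leaf cE267))) (BT.node 270 (BT.node 269 (BT.node 268 (BT.leaf cE268) (BT.leaf cE269)) (BT.leaf cE270)) (BT.node 272 (BT.node 271 (BT.leaf cE271) (BT.leaf cE272)) (BT.leaf cE273)))) (BT.node 279 (BT.node 276 (BT.node 275 (BT.node 274 (BT.leaf cE274) (BT.leaf cE275)) (BT.leaf cE276)) (BT.node 278 (BT.node 277 (BT.leaf cE277) (BT.leaf cE278)) (BT.leaf cE279))) (BT.node 282 (BT.node 281 (BT.node 280 (BT.leaf cE280) (BT.leaf cE281)) (BT.leaf cE282)) (BT.node 283 (BT.leaf cE283) (BT.leaf cE284))))))) (BT.node 332 (BT.node 308 (BT.node 296 (BT.node 290 (BT.node 287 (BT.node 286 (BT.node 285 (BT.leaf cE285) (BT.leaf cE286)) (BT.leaf cE287)) (BT.node 289 (BT.node 288 (BT.leaf cE288) (BT.leaf cE289)) (BT.leaf cE290))) (BT.node 293 (BT.node 292 (BT.node 291 (BT.leaf cE291) (BT.leaf cE292)) (BT.leaf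 cE293)) (BT.node 295 (BT.node 294 (BT.leaf cE294) (BT.leaf cE295)) (BT.leaf cE296)))) (BT.node 302 (BT.node 299 (BT.node 298 (BT.node 297 (BT.leaf cE297) (BT.leaf cE298)) (BT.leaf cE299)) (BT.node 301 (BT.node 300 (BT.leaf cE300) (BT.leaf cE301)) (BT.leaf cE302))) (BT.node 305 (BT.node 304 (BT.node 303 (BT.leaf cE303) (BT.leaf cE304)) (BT.leaf cE305)) (BT.node 307 (BT.node 306 (BT.leaf cE306) (BT.leaf cE307)) (BT.leaf cE308))))) (BT.node 320 (BT.node 314 (BT.node 311 (BT.node 310 (BT.node 309 (BT.leaf cE309) (BT.leaf cE310)) (BT.leaf cE311)) (BT.node 313 (BT.node 312 (BT.leaf cE312) (BT.leaf cE313)) (BT.leaf cE314))) (BT.node 317 (BT.node 316 (BT.node 315 (BT.leaf cE315) (BT.leaf cE316)) (BT.leaf cE317)) (BT.node 319 (BT.node 318 (BT.leaf cE318) (BT.leaf cE319)) (BT.leaf cE320)))) (BT.node 326 (BT.node 323 (BT.node 322 (BT.node 321 (BT.leaf cE321) (BT.leaf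 cE322)) (BT.leaf cE323)) (BT.node 325 (BT.node 324 (BT.leaf cE324) (BT.leaf cE325)) (BT.leaf cE326))) (BT.node 329 (BT.node 328 (BT.node 327 (BT.leaf cE327) (BT.leaf cE328)) (BT.leaf cE329)) (BT.node 331 (BT.node 330 (BT.leaf cE330) (BT.leaf cE331)) (BT.leaf cE332)))))) (BT.node 356 (BT.node 344 (BT.node 338 (BT.node 335 (BT.node 334 (BT.node 333 (BT.leaf cE333) (BT.leaf cE334)) (BT.leaf cE335)) (BT.node 337 (BT.node 336 (BT.leaf cE336) (BT.leaf cE337)) (BT.leaf cE338))) (BT.node 341 (BT.node 340 (BT.node 339 (BT.leaf cE339) (BT.leaf cE340)) (BT.leaf cE341)) (BT.node 343 (BT.node 342 (BT.leaf cE342) (BT.leaf cE343)) (BT.leaf cE344)))) (BT.node 350 (BT.node 347 (BT.node 346 (BT.node 345 (BT.leaf cE345) (BT.leaf cE346)) (BT.leaf cE347)) (BT.node 349 (BT.node 348 (BT.leaf cE348) (BT.leaf cE349)) (BT.leaf cE350))) (BT.node 353 (BT.node 352 (BT.node 351 (BT.leaf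 cE351) (BT.leaf cE352)) (BT.leaf cE353)) (BT.node 355 (BT.node 354 (BT.leaf cE354) (BT.leaf cE355)) (BT.leaf cE356))))) (BT.node 368 (BT.node 362 (BT.node 359 (BT.node 358 (BT.node 357 (BT.leaf cE357) (BT.leaf cE358)) (BT.leaf cE359)) (BT.node 361 (BT.node 360 (BT.leaf cE360) (BT.leaf cE361)) (BT.leaf cE362))) (BT.node 365 (BT.node 364 (BT.node 363 (BT.leaf cE363) (BT.leaf cE364)) (BT.leaf cE365)) (BT.node 367 (BT.node 366 (BT.leaf cE366) (BT.leaf cE367)) (BT.leaf cE368)))) (BT.node 374 (BT.node 371 (BT.node 370 (BT.node 369 (BT.leaf cE369) (BT.leaf cE370)) (BT.leaf cE371)) (BT.node 373 (BT.node 372 (BT.leaf cE372) (BT.leaf cE373)) (BT.leaf cE374))) (BT.node 377 (BT.node 376 (BT.node 375 (BT.leaf cE375) (BT.leaf cE376)) (BT.leaf cE377)) (BT.node 378 (BT.leaf cE378) (BT.leaf cE379))))))))) (BT.node 569 (BT.node 474 (BT.node 427 (BT.node 403 (BT.node 391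 (BT.node 385 (BT.node 382 (BT.node 381 (BT.node 380 (BT.leaf cE380) (BT.leaf cE381)) (BT.leaf cE382)) (BT.node 384 (BT.node 383 (BT.leaf cE383) (BT.leaf cE384)) (BT.leaf cE385))) (BT.node 388 (BT.node 387 (BT.node 386 (BT.leaf cE386) (BT.leaf cE387)) (BT.leaf cE388)) (BT.node 390 (BT.node 389 (BT.leaf cE389) (BT.leaf cE390)) (BT.leaf cE391)))) (BT.node 397 (BT.node 394 (BT.node 393 (BT.node 392 (BT.leaf cE392) (BT.leaf cE393)) (BT.leaf cE394)) (BT.node 396 (BT.node 395 (BT.leaf cE395) (BT.leaf cE396)) (BT.leaf cE397))) (BT.node 400 (BT.node 399 (BT.node 398 (BT.leaf cE398) (BT.leaf cE399)) (BT.leaf cE400)) (BT.node 402 (BT.node 401 (BT.leaf cE401) (BT.leaf cE402)) (BT.leaf cE403))))) (BT.node 415 (BT.node 409 (BT.node 406 (BT.node 405 (BT.node 404 (BT.leaf cE404) (BT.leaf cE405)) (BT.leaf cE406)) (BT.node 408 (BT.node 407 (BT.leaf cE407) (BT.leaf cE408))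 (BT.leaf cE409))) (BT.node 412 (BT.node 411 (BT.node 410 (BT.leaf cE410) (BT.leaf cE411)) (BT.leaf cE412)) (BT.node 414 (BT.node 413 (BT.leaf cE413) (BT.leaf cE414)) (BT.leaf cE415)))) (BT.node 421 (BT.node 418 (BT.node 417 (BT.node 416 (BT.leaf cE416) (BT.leaf cE417)) (BT.leaf cE418)) (BT.node 420 (BT.node 419 (BT.leaf cE419) (BT.leaf cE420)) (BT.leaf cE421))) (BT.node 424 (BT.node 423 (BT.node 422 (BT.leaf cE422) (BT.leaf cE423)) (BT.leaf cE424)) (BT.node 426 (BT.node 425 (BT.leaf cE425) (BT.leaf cE426)) (BT.leaf cE427)))))) (BT.node 451 (BT.node 439 (BT.node 433 (BT.node 430 (BT.node 429 (BT.node 428 (BT.leaf cE428) (BT.leaf cE429)) (BT.leaf cE430)) (BT.node 432 (BT.node 431 (BT.leaf cE431) (BT.leaf cE432)) (BT.leaf cE433))) (BT.node 436 (BT.node 435 (BT.node 434 (BT.leaf cE434) (BT.leaf cE435)) (BT.leaf cE436)) (BT.node 438 (BT.node 437 (BT.leaf cE437)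 (BT.leaf cE438)) (BT.leaf cE439)))) (BT.node 445 (BT.node 442 (BT.node 441 (BT.node 440 (BT.leaf cE440) (BT.leaf cE441)) (BT.leaf cE442)) (BT.node 444 (BT.node 443 (BT.leaf cE443) (BT.leaf cE444)) (BT.leaf cE445))) (BT.node 448 (BT.node 447 (BT.node 446 (BT.leaf cE446) (BT.leaf cE447)) (BT.leaf cE448)) (BT.node 450 (BT.node 449 (BT.leaf cE449) (BT.leaf cE450)) (BT.leaf cE451))))) (BT.node 463 (BT.node 457 (BT.node 454 (BT.node 453 (BT.node 452 (BT.leaf cE452) (BT.leaf cE453)) (BT.leaf cE454)) (BT.node 456 (BT.node 455 (BT.leaf cE455) (BT.leaf cE456)) (BT.leaf cE457))) (BT.node 460 (BT.node 459 (BT.node 458 (BT.leaf cE458) (BT.leaf cE459)) (BT.leaf cE460)) (BT.node 462 (BT.node 461 (BT.leaf cE461) (BT.leaf cE462)) (BT.leaf cE463)))) (BT.node 469 (BT.node 466 (BT.node 465 (BT.node 464 (BT.leaf cE464) (BT.leaf cE465)) (BT.leaf cE466)) (BT.node 468 (BT.node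 467 (BT.leaf cE467) (BT.leaf cE468)) (BT.leaf cE469))) (BT.node 472 (BT.node 471 (BT.node 470 (BT.leaf cE470) (BT.leaf cE471)) (BT.leaf cE472)) (BT.node 473 (BT.leaf cE473) (BT.leaf cE474))))))) (BT.node 522 (BT.node 498 (BT.node 486 (BT.node 480 (BT.node 477 (BT.node 476 (BT.node 475 (BT.leaf cE475) (BT.leaf cE476)) (BT.leaf cE477)) (BT.node 479 (BT.node 478 (BT.leaf cE478) (BT.leaf cE479)) (BT.leaf cE480))) (BT.node 483 (BT.node 482 (BT.node 481 (BT.leaf cE481) (BT.leaf cE482)) (BT.leaf cE483)) (BT.node 485 (BT.node 484 (BT.leaf cE484) (BT.leaf cE485)) (BT.leaf cE486)))) (BT.node 492 (BT.node 489 (BT.node 488 (BT.node 487 (BT.leaf cE487) (BT.leaf cE488)) (BT.leaf cE489)) (BT.node 491 (BT.node 490 (BT.leaf cE490) (BT.leaf cE491)) (BT.leaf cE492))) (BT.node 495 (BT.node 494 (BT.node 493 (BT.leaf cE493) (BT.leaf cE494)) (BT.leaf cE495)) (BT.node 497 (BT.node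 496 (BT.leaf cE496) (BT.leaf cE497)) (BT.leaf cE498))))) (BT.node 510 (BT.node 504 (BT.node 501 (BT.node 500 (BT.node 499 (BT.leaf cE499) (BT.leaf cE500)) (BT.leaf cE501)) (BT.node 503 (BT.node 502 (BT.leaf cE502) (BT.leaf cE503)) (BT.leaf cE504))) (BT.node 507 (BT.node 506 (BT.node 505 (BT.leaf cE505) (BT.leaf cE506)) (BT.leaf cE507)) (BT.node 509 (BT.node 508 (BT.leaf cE508) (BT.leaf cE509)) (BT.leaf cE510)))) (BT.node 516 (BT.node 513 (BT.node 512 (BT.node 511 (BT.leaf cE511) (BT.leaf cE512)) (BT.leaf cE513)) (BT.node 515 (BT.node 514 (BT.leaf cE514) (BT.leaf cE515)) (BT.leaf cE516))) (BT.node 519 (BT.node 518 (BT.node 517 (BT.leaf cE517) (BT.leaf cE518)) (BT.leaf cE519)) (BT.node 521 (BT.node 520 (BT.leaf cE520) (BT.leaf cE521)) (BT.leaf cE522)))))) (BT.node 546 (BT.node 534 (BT.node 528 (BT.node 525 (BT.node 524 (BT.node 523 (BT.leaf cE523) (BT.leaf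 cE524)) (BT.leaf cE525)) (BT.node 527 (BT.node 526 (BT.leaf cE526) (BT.leaf cE527)) (BT.leaf cE528))) (BT.node 531 (BT.node 530 (BT.node 529 (BT.leaf cE529) (BT.leaf cE530)) (BT.leaf cE531)) (BT.node 533 (BT.node 532 (BT.leaf cE532) (BT.leaf cE533)) (BT.leaf cE534)))) (BT.node 540 (BT.node 537 (BT.node 536 (BT.node 535 (BT.leaf cE535) (BT.leaf cE536)) (BT.leaf cE537)) (BT.node 539 (BT.node 538 (BT.leaf cE538) (BT.leaf cE539)) (BT.leaf cE540))) (BT.node 543 (BT.node 542 (BT.node 541 (BT.leaf cE541) (BT.leaf cE542)) (BT.leaf cE543)) (BT.node 545 (BT.node 544 (BT.leaf cE544) (BT.leaf cE545)) (BT.leaf cE546))))) (BT.node 558 (BT.node 552 (BT.node 549 (BT.node 548 (BT.node 547 (BT.leaf cE547) (BT.leaf cE548)) (BT.leaf cE549)) (BT.node 551 (BT.node 550 (BT.leaf cE550) (BT.leaf cE551)) (BT.leaf cE552))) (BT.node 555 (BT.node 554 (BT.node 553 (BT.leaf cE553) (BT.leaf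 cE554)) (BT.leaf cE555)) (BT.node 557 (BT.node 556 (BT.leaf cE556) (BT.leaf cE557)) (BT.leaf cE558)))) (BT.node 564 (BT.node 561 (BT.node 560 (BT.node 559 (BT.leaf cE559) (BT.leaf cE560)) (BT.leaf cE561)) (BT.node 563 (BT.node 562 (BT.leaf cE562) (BT.leaf cE563)) (BT.leaf cE564))) (BT.node 567 (BT.node 566 (BT.node 565 (BT.leaf cE565) (BT.leaf cE566)) (BT.leaf cE567)) (BT.node 568 (BT.leaf cE568) (BT.leaf cE569)))))))) (BT.node 664 (BT.node 617 (BT.node 593 (BT.node 581 (BT.node 575 (BT.node 572 (BT.node 571 (BT.node 570 (BT.leaf cE570) (BT.leaf cE571)) (BT.leaf cE572)) (BT.node 574 (BT.node 573 (BT.leaf cE573) (BT.leaf cE574)) (BT.leaf cE575))) (BT.node 578 (BT.node 577 (BT.node 576 (BT.leaf cE576) (BT.leaf cE577)) (BT.leaf cE578)) (BT.node 580 (BT.node 579 (BT.leaf cE579) (BT.leaf cE580)) (BT.leaf cE581)))) (BT.node 587 (BT.node 584 (BT.node 583 (BT.node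 582 (BT.leaf cE582) (BT.leaf cE583)) (BT.leaf cE584)) (BT.node 586 (BT.node 585 (BT.leaf cE585) (BT.leaf cE586)) (BT.leaf cE587))) (BT.node 590 (BT.node 589 (BT.node 588 (BT.leaf cE588) (BT.leaf cE589)) (BT.leaf cE590)) (BT.node 592 (BT.node 591 (BT.leaf cE591) (BT.leaf cE592)) (BT.leaf cE593))))) (BT.node 605 (BT.node 599 (BT.node 596 (BT.node 595 (BT.node 594 (BT.leaf cE594) (BT.leaf cE595)) (BT.leaf cE596)) (BT.node 598 (BT.node 597 (BT.leaf cE597) (BT.leaf cE598)) (BT.leaf cE599))) (BT.node 602 (BT.node 601 (BT.node 600 (BT.leaf cE600) (BT.leaf cE601)) (BT.leaf cE602)) (BT.node 604 (BT.node 603 (BT.leaf cE603) (BT.leaf cE604)) (BT.leaf cE605)))) (BT.node 611 (BT.node 608 (BT.node 607 (BT.node 606 (BT.leaf cE606) (BT.leaf cE607)) (BT.leaf cE608)) (BT.node 610 (BT.node 609 (BT.leaf cE609) (BT.leaf cE610)) (BT.leaf cE611))) (BT.node 614 (BT.node 613 (BT.node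 612 (BT.leaf cE612) (BT.leaf cE613)) (BT.leaf cE614)) (BT.node 616 (BT.node 615 (BT.leaf cE615) (BT.leaf cE616)) (BT.leaf cE617)))))) (BT.node 641 (BT.node 629 (BT.node 623 (BT.node 620 (BT.node 619 (BT.node 618 (BT.leaf cE618) (BT.leaf cE619)) (BT.leaf cE620)) (BT.node 622 (BT.node 621 (BT.leaf cE621) (BT.leaf cE622)) (BT.leaf cE623))) (BT.node 626 (BT.node 625 (BT.node 624 (BT.leaf cE624) (BT.leaf cE625)) (BT.leaf cE626)) (BT.node 628 (BT.node 627 (BT.leaf cE627) (BT.leaf cE628)) (BT.leaf cE629)))) (BT.node 635 (BT.node 632 (BT.node 631 (BT.node 630 (BT.leaf cE630) (BT.leaf cE631)) (BT.leaf cE632)) (BT.node 634 (BT.node 633 (BT.leaf cE633) (BT.leaf cE634)) (BT.leaf cE635))) (BT.node 638 (BT.node 637 (BT.node 636 (BT.leaf cE636) (BT.leaf cE637)) (BT.leaf cE638)) (BT.node 640 (BT.node 639 (BT.leaf cE639) (BT.leaf cE640)) (BT.leaf cE641))))) (BT.node 653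 (BT.node 647 (BT.node 644 (BT.node 643 (BT.node 642 (BT.leaf cE642) (BT.leaf cE643)) (BT.leaf cE644)) (BT.node 646 (BT.node 645 (BT.leaf cE645) (BT.leaf cE646)) (BT.leaf cE647))) (BT.node 650 (BT.node 649 (BT.node 648 (BT.leaf cE648) (BT.leaf cE649)) (BT.leaf cE650)) (BT.node 652 (BT.node 651 (BT.leaf cE651) (BT.leaf cE652)) (BT.leaf cE653)))) (BT.node 659 (BT.node 656 (BT.node 655 (BT.node 654 (BT.leaf cE654) (BT.leaf cE655)) (BT.leaf cE656)) (BT.node 658 (BT.node 657 (BT.leaf cE657) (BT.leaf cE658)) (BT.leaf cE659))) (BT.node 662 (BT.node 661 (BT.node 660 (BT.leaf cE660) (BT.leaf cE661)) (BT.leaf cE662)) (BT.node 663 (BT.leaf cE663) (BT.leaf cE664))))))) (BT.node 712 (BT.node 688 (BT.node 676 (BT.node 670 (BT.node 667 (BT.node 666 (BT.node 665 (BT.leaf cE665) (BT.leaf cE666)) (BT.leaf cE667)) (BT.node 669 (BT.node 668 (BT.leaf cE668) (BT.leaf cE669))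 (BT.leaf cE670))) (BT.node 673 (BT.node 672 (BT.node 671 (BT.leaf cE671) (BT.leaf cE672)) (BT.leaf cE673)) (BT.node 675 (BT.node 674 (BT.leaf cE674) (BT.leaf cE675)) (BT.leaf cE676)))) (BT.node 682 (BT.node 679 (BT.node 678 (BT.node 677 (BT.leaf cE677) (BT.leaf cE678)) (BT.leaf cE679)) (BT.node 681 (BT.node 680 (BT.leaf cE680) (BT.leaf cE681)) (BT.leaf cE682))) (BT.node 685 (BT.node 684 (BT.node 683 (BT.leaf cE683) (BT.leaf cE684)) (BT.leaf cE685)) (BT.node 687 (BT.node 686 (BT.leaf cE686) (BT.leaf cE687)) (BT.leaf cE688))))) (BT.node 700 (BT.node 694 (BT.node 691 (BT.node 690 (BT.node 689 (BT.leaf cE689) (BT.leaf cE690)) (BT.leaf cE691)) (BT.node 693 (BT.node 692 (BT.leaf cE692) (BT.leaf cE693)) (BT.leaf cE694))) (BT.node 697 (BT.node 696 (BT.node 695 (BT.leaf cE695) (BT.leaf cE696)) (BT.leaf cE697)) (BT.node 699 (BT.node 698 (BT.leaf cE698) (BT.leaf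 cE699)) (BT.leaf cE700)))) (BT.node 706 (BT.node 703 (BT.node 702 (BT.node 701 (BT.leaf cE701) (BT.leaf cE702)) (BT.leaf cE703)) (BT.node 705 (BT.node 704 (BT.leaf cE704) (BT.leaf cE705)) (BT.leaf cE706))) (BT.node 709 (BT.node 708 (BT.node 707 (BT.leaf cE707) (BT.leaf cE708)) (BT.leaf cE709)) (BT.node 711 (BT.node 710 (BT.leaf cE710) (BT.leaf cE711)) (BT.leaf cE712)))))) (BT.node 736 (BT.node 724 (BT.node 718 (BT.node 715 (BT.node 714 (BT.node 713 (BT.leaf cE713) (BT.leaf cE714)) (BT.leaf cE715)) (BT.node 717 (BT.node 716 (BT.leaf cE716) (BT.leaf cE717)) (BT.leaf cE718))) (BT.node 721 (BT.node 720 (BT.node 719 (BT.leaf cE719) (BT.leaf cE720)) (BT.leaf cE721)) (BT.node 723 (BT.node 722 (BT.leaf cE722) (BT.leaf cE723)) (BT.leaf cE724)))) (BT.node 730 (BT.node 727 (BT.node 726 (BT.node 725 (BT.leaf cE725) (BT.leaf cE726)) (BT.leaf cE727)) (BT.node 729 (BT.node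 728 (BT.leaf cE728) (BT.leaf cE729)) (BT.leaf cE730))) (BT.node 733 (BT.node 732 (BT.node 731 (BT.leaf cE731) (BT.leaf cE732)) (BT.leaf cE733)) (BT.node 735 (BT.node 734 (BT.leaf cE734) (BT.leaf cE735)) (BT.leaf cE736))))) (BT.node 748 (BT.node 742 (BT.node 739 (BT.node 738 (BT.node 737 (BT.leaf cE737) (BT.leaf cE738)) (BT.leaf cE739)) (BT.node 741 (BT.node 740 (BT.leaf cE740) (BT.leaf cE741)) (BT.leaf cE742))) (BT.node 745 (BT.node 744 (BT.node 743 (BT.leaf cE743) (BT.leaf cE744)) (BT.leaf cE745)) (BT.node 747 (BT.node 746 (BT.leaf cE746) (BT.leaf cE747)) (BT.leaf cE748)))) (BT.node 754 (BT.node 751 (BT.node 750 (BT.node 749 (BT.leaf cE749) (BT.leaf cE750)) (BT.leaf cE751)) (BT.node 753 (BT.node 752 (BT.leaf cE752) (BT.leaf cE753)) (BT.leaf cE754))) (BT.node 757 (BT.node 756 (BT.node 755 (BT.leaf cE755) (BT.leaf cE756)) (BT.leaf cE757)) (BT.node 758 (BT.leaf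 cE758) (BT.leaf cE759)))))))))) (BT.node 1139 (BT.node 949 (BT.node 854 (BT.node 807 (BT.node 783 (BT.node 771 (BT.node 765 (BT.node 762 (BT.node 761 (BT.node 760 (BT.leaf cE760) (BT.leaf cE761)) (BT.leaf cE762)) (BT.node 764 (BT.node 763 (BT.leaf cE763) (BT.leaf cE764)) (BT.leaf cE765))) (BT.node 768 (BT.node 767 (BT.node 766 (BT.leaf cE766) (BT.leaf cE767)) (BT.leaf cE768)) (BT.node 770 (BT.node 769 (BT.leaf cE769) (BT.leaf cE770)) (BT.leaf cE771)))) (BT.node 777 (BT.node 774 (BT.node 773 (BT.node 772 (BT.leaf cE772) (BT.leaf cE773)) (BT.leaf cE774)) (BT.node 776 (BT.node 775 (BT.leaf cE775) (BT.leaf cE776)) (BT.leaf cE777))) (BT.node 780 (BT.node 779 (BT.node 778 (BT.leaf cE778) (BT.leaf cE779)) (BT.leaf cE780)) (BT.node 782 (BT.node 781 (BT.leaf cE781) (BT.leaf cE782)) (BT.leaf cE783))))) (BT.node 795 (BT.node 789 (BT.node 786 (BT.node 785 (BT.node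 784 (BT.leaf cE784) (BT.leaf cE785)) (BT.leaf cE786)) (BT.node 788 (BT.node 787 (BT.leaf cE787) (BT.leaf cE788)) (BT.leaf cE789))) (BT.node 792 (BT.node 791 (BT.node 790 (BT.leaf cE790) (BT.leaf cE791)) (BT.leaf cE792)) (BT.node 794 (BT.node 793 (BT.leaf cE793) (BT.leaf cE794)) (BT.leaf cE795)))) (BT.node 801 (BT.node 798 (BT.node 797 (BT.node 796 (BT.leaf cE796) (BT.leaf cE797)) (BT.leaf cE798)) (BT.node 800 (BT.node 799 (BT.leaf cE799) (BT.leaf cE800)) (BT.leaf cE801))) (BT.node 804 (BT.node 803 (BT.node 802 (BT.leaf cE802) (BT.leaf cE803)) (BT.leaf cE804)) (BT.node 806 (BT.node 805 (BT.leaf cE805) (BT.leaf cE806)) (BT.leaf cE807)))))) (BT.node 831 (BT.node 819 (BT.node 813 (BT.node 810 (BT.node 809 (BT.node 808 (BT.leaf cE808) (BT.leaf cE809)) (BT.leaf cE810)) (BT.node 812 (BT.node 811 (BT.leaf cE811) (BT.leaf cE812)) (BT.leaf cE813))) (BT.node 816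 (BT.node 815 (BT.node 814 (BT.leaf cE814) (BT.leaf cE815)) (BT.leaf cE816)) (BT.node 818 (BT.node 817 (BT.leaf cE817) (BT.leaf cE818)) (BT.leaf cE819)))) (BT.node 825 (BT.node 822 (BT.node 821 (BT.node 820 (BT.leaf cE820) (BT.leaf cE821)) (BT.leaf cE822)) (BT.node 824 (BT.node 823 (BT.leaf cE823) (BT.leaf cE824)) (BT.leaf cE825))) (BT.node 828 (BT.node 827 (BT.node 826 (BT.leaf cE826) (BT.leaf cE827)) (BT.leaf cE828)) (BT.node 830 (BT.node 829 (BT.leaf cE829) (BT.leaf cE830)) (BT.leaf cE831))))) (BT.node 843 (BT.node 837 (BT.node 834 (BT.node 833 (BT.node 832 (BT.leaf cE832) (BT.leaf cE833)) (BT.leaf cE834)) (BT.node 836 (BT.node 835 (BT.leaf cE835) (BT.leaf cE836)) (BT.leaf cE837))) (BT.node 840 (BT.node 839 (BT.node 838 (BT.leaf cE838) (BT.leaf cE839)) (BT.leaf cE840)) (BT.node 842 (BT.node 841 (BT.leaf cE841) (BT.leaf cE842)) (BT.leaf cE843)))) (BT.node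 849 (BT.node 846 (BT.node 845 (BT.node 844 (BT.leaf cE844) (BT.leaf cE845)) (BT.leaf cE846)) (BT.node 848 (BT.node 847 (BT.leaf cE847) (BT.leaf cE848)) (BT.leaf cE849))) (BT.node 852 (BT.node 851 (BT.node 850 (BT.leaf cE850) (BT.leaf cE851)) (BT.leaf cE852)) (BT.node 853 (BT.leaf cE853) (BT.leaf cE854))))))) (BT.node 902 (BT.node 878 (BT.node 866 (BT.node 860 (BT.node 857 (BT.node 856 (BT.node 855 (BT.leaf cE855) (BT.leaf cE856)) (BT.leaf cE857)) (BT.node 859 (BT.node 858 (BT.leaf cE858) (BT.leaf cE859)) (BT.leaf cE860))) (BT.node 863 (BT.node 862 (BT.node 861 (BT.leaf cE861) (BT.leaf cE862)) (BT.leaf cE863)) (BT.node 865 (BT.node 864 (BT.leaf cE864) (BT.leaf cE865)) (BT.leaf cE866)))) (BT.node 872 (BT.node 869 (BT.node 868 (BT.node 867 (BT.leaf cE867) (BT.leaf cE868)) (BT.leaf cE869)) (BT.node 871 (BT.node 870 (BT.leaf cE870) (BT.leaf cE871)) (BT.leaf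 cE872))) (BT.node 875 (BT.node 874 (BT.node 873 (BT.leaf cE873) (BT.leaf cE874)) (BT.leaf cE875)) (BT.node 877 (BT.node 876 (BT.leaf cE876) (BT.leaf cE877)) (BT.leaf cE878))))) (BT.node 890 (BT.node 884 (BT.node 881 (BT.node 880 (BT.node 879 (BT.leaf cE879) (BT.leaf cE880)) (BT.leaf cE881)) (BT.node 883 (BT.node 882 (BT.leaf cE882) (BT.leaf cE883)) (BT.leaf cE884))) (BT.node 887 (BT.node 886 (BT.node 885 (BT.leaf cE885) (BT.leaf cE886)) (BT.leaf cE887)) (BT.node 889 (BT.node 888 (BT.leaf cE888) (BT.leaf cE889)) (BT.leaf cE890)))) (BT.node 896 (BT.node 893 (BT.node 892 (BT.node 891 (BT.leaf cE891) (BT.leaf cE892)) (BT.leaf cE893)) (BT.node 895 (BT.node 894 (BT.leaf cE894) (BT.leaf cE895)) (BT.leaf cE896))) (BT.node 899 (BT.node 898 (BT.node 897 (BT.leaf cE897) (BT.leaf cE898)) (BT.leaf cE899)) (BT.node 901 (BT.node 900 (BT.leaf cE900) (BT.leaf cE901)) (BT.leaf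 cE902)))))) (BT.node 926 (BT.node 914 (BT.node 908 (BT.node 905 (BT.node 904 (BT.node 903 (BT.leaf cE903) (BT.leaf cE904)) (BT.leaf cE905)) (BT.node 907 (BT.node 906 (BT.leaf cE906) (BT.leaf cE907)) (BT.leaf cE908))) (BT.node 911 (BT.node 910 (BT.node 909 (BT.leaf cE909) (BT.leaf cE910)) (BT.leaf cE911)) (BT.node 913 (BT.node 912 (BT.leaf cE912) (BT.leaf cE913)) (BT.leaf cE914)))) (BT.node 920 (BT.node 917 (BT.node 916 (BT.node 915 (BT.leaf cE915) (BT.leaf cE916)) (BT.leaf cE917)) (BT.node 919 (BT.node 918 (BT.leaf cE918) (BT.leaf cE919)) (BT.leaf cE920))) (BT.node 923 (BT.node 922 (BT.node 921 (BT.leaf cE921) (BT.leaf cE922)) (BT.leaf cE923)) (BT.node 925 (BT.node 924 (BT.leaf cE924) (BT.leaf cE925)) (BT.leaf cE926))))) (BT.node 938 (BT.node 932 (BT.node 929 (BT.node 928 (BT.node 927 (BT.leaf cE927) (BT.leaf cE928)) (BT.leaf cE929)) (BT.node 931 (BT.node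 930 (BT.leaf cE930) (BT.leaf cE931)) (BT.leaf cE932))) (BT.node 935 (BT.node 934 (BT.node 933 (BT.leaf cE933) (BT.leaf cE934)) (BT.leaf cE935)) (BT.node 937 (BT.node 936 (BT.leaf cE936) (BT.leaf cE937)) (BT.leaf cE938)))) (BT.node 944 (BT.node 941 (BT.node 940 (BT.node 939 (BT.leaf cE939) (BT.leaf cE940)) (BT.leaf cE941)) (BT.node 943 (BT.node 942 (BT.leaf cE942) (BT.leaf cE943)) (BT.leaf cE944))) (BT.node 947 (BT.node 946 (BT.node 945 (BT.leaf cE945) (BT.leaf cE946)) (BT.leaf cE947)) (BT.node 948 (BT.leaf cE948) (BT.leaf cE949)))))))) (BT.node 1044 (BT.node 997 (BT.node 973 (BT.node 961 (BT.node 955 (BT.node 952 (BT.node 951 (BT.node 950 (BT.leaf cE950) (BT.leaf cE951)) (BT.leaf cE952)) (BT.node 954 (BT.node 953 (BT.leaf cE953) (BT.leaf cE954)) (BT.leaf cE955))) (BT.node 958 (BT.node 957 (BT.node 956 (BT.leaf cE956) (BT.leaf cE957)) (BT.leaf cE958)) (BT.node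 960 (BT.node 959 (BT.leaf cE959) (BT.leaf cE960)) (BT.leaf cE961)))) (BT.node 967 (BT.node 964 (BT.node 963 (BT.node 962 (BT.leaf cE962) (BT.leaf cE963)) (BT.leaf cE964)) (BT.node 966 (BT.node 965 (BT.leaf cE965) (BT.leaf cE966)) (BT.leaf cE967))) (BT.node 970 (BT.node 969 (BT.node 968 (BT.leaf cE968) (BT.leaf cE969)) (BT.leaf cE970)) (BT.node 972 (BT.node 971 (BT.leaf cE971) (BT.leaf cE972)) (BT.leaf cE973))))) (BT.node 985 (BT.node 979 (BT.node 976 (BT.node 975 (BT.node 974 (BT.leaf cE974) (BT.leaf cE975)) (BT.leaf cE976)) (BT.node 978 (BT.node 977 (BT.leaf cE977) (BT.leaf cE978)) (BT.leaf cE979))) (BT.node 982 (BT.node 981 (BT.node 980 (BT.leaf cE980) (BT.leaf cE981)) (BT.leaf cE982)) (BT.node 984 (BT.node 983 (BT.leaf cE983) (BT.leaf cE984)) (BT.leaf cE985)))) (BT.node 991 (BT.node 988 (BT.node 987 (BT.node 986 (BT.leaf cE986) (BT.leaf cE987)) (BT.leaf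 cE988)) (BT.node 990 (BT.node 989 (BT.leaf cE989) (BT.leaf cE990)) (BT.leaf cE991))) (BT.node 994 (BT.node 993 (BT.node 992 (BT.leaf cE992) (BT.leaf cE993)) (BT.leaf cE994)) (BT.node 996 (BT.node 995 (BT.leaf cE995) (BT.leaf cE996)) (BT.leaf cE997)))))) (BT.node 1021 (BT.node 1009 (BT.node 1003 (BT.node 1000 (BT.node 999 (BT.node 998 (BT.leaf cE998) (BT.leaf cE999)) (BT.leaf cE1000)) (BT.node 1002 (BT.node 1001 (BT.leaf cE1001) (BT.leaf cE1002)) (BT.leaf cE1003))) (BT.node 1006 (BT.node 1005 (BT.node 1004 (BT.leaf cE1004) (BT.leaf cE1005)) (BT.leaf cE1006)) (BT.node 1008 (BT.node 1007 (BT.leaf cE1007) (BT.leaf cE1008)) (BT.leaf cE1009)))) (BT.node 1015 (BT.node 1012 (BT.node 1011 (BT.node 1010 (BT.leaf cE1010) (BT.leaf cE1011)) (BT.leaf cE1012)) (BT.node 1014 (BT.node 1013 (BT.leaf cE1013) (BT.leaf cE1014)) (BT.leaf cE1015))) (BT.node 1018 (BT.node 1017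 (BT.node 1016 (BT.leaf cE1016) (BT.leaf cE1017)) (BT.leaf cE1018)) (BT.node 1020 (BT.node 1019 (BT.leaf cE1019) (BT.leaf cE1020)) (BT.leaf cE1021))))) (BT.node 1033 (BT.node 1027 (BT.node 1024 (BT.node 1023 (BT.node 1022 (BT.leaf cE1022) (BT.leaf cE1023)) (BT.leaf cE1024)) (BT.node 1026 (BT.node 1025 (BT.leaf cE1025) (BT.leaf cE1026)) (BT.leaf cE1027))) (BT.node 1030 (BT.node 1029 (BT.node 1028 (BT.leaf cE1028) (BT.leaf cE1029)) (BT.leaf cE1030)) (BT.node 1032 (BT.node 1031 (BT.leaf cE1031) (BT.leaf cE1032)) (BT.leaf cE1033)))) (BT.node 1039 (BT.node 1036 (BT.node 1035 (BT.node 1034 (BT.leaf cE1034) (BT.leaf cE1035)) (BT.leaf cE1036)) (BT.node 1038 (BT.node 1037 (BT.leaf cE1037) (BT.leaf cE1038)) (BT.leaf cE1039))) (BT.node 1042 (BT.node 1041 (BT.node 1040 (BT.leaf cE1040) (BT.leaf cE1041)) (BT.leaf cE1042)) (BT.node 1043 (BT.leaf cE1043) (BT.leaf cE1044)))))))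 (BT.node 1092 (BT.node 1068 (BT.node 1056 (BT.node 1050 (BT.node 1047 (BT.node 1046 (BT.node 1045 (BT.leaf cE1045) (BT.leaf cE1046)) (BT.leaf cE1047)) (BT.node 1049 (BT.node 1048 (BT.leaf cE1048) (BT.leaf cE1049)) (BT.leaf cE1050))) (BT.node 1053 (BT.node 1052 (BT.node 1051 (BT.leaf cE1051) (BT.leaf cE1052)) (BT.leaf cE1053)) (BT.node 1055 (BT.node 1054 (BT.leaf cE1054) (BT.leaf cE1055)) (BT.leaf cE1056)))) (BT.node 1062 (BT.node 1059 (BT.node 1058 (BT.node 1057 (BT.leaf cE1057) (BT.leaf cE1058)) (BT.leaf cE1059)) (BT.node 1061 (BT.node 1060 (BT.leaf cE1060) (BT.leaf cE1061)) (BT.leaf cE1062))) (BT.node 1065 (BT.node 1064 (BT.node 1063 (BT.leaf cE1063) (BT.leaf cE1064)) (BT.leaf cE1065)) (BT.node 1067 (BT.node 1066 (BT.leaf cE1066) (BT.leaf cE1067)) (BT.leaf cE1068))))) (BT.node 1080 (BT.node 1074 (BT.node 1071 (BT.node 1070 (BT.node 1069 (BT.leaf cE1069)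 (BT.leaf cE1070)) (BT.leaf cE1071)) (BT.node 1073 (BT.node 1072 (BT.leaf cE1072) (BT.leaf cE1073)) (BT.leaf cE1074))) (BT.node 1077 (BT.node 1076 (BT.node 1075 (BT.leaf cE1075) (BT.leaf cE1076)) (BT.leaf cE1077)) (BT.node 1079 (BT.node 1078 (BT.leaf cE1078) (BT.leaf cE1079)) (BT.leaf cE1080)))) (BT.node 1086 (BT.node 1083 (BT.node 1082 (BT.node 1081 (BT.leaf cE1081) (BT.leaf cE1082)) (BT.leaf cE1083)) (BT.node 1085 (BT.node 1084 (BT.leaf cE1084) (BT.leaf cE1085)) (BT.leaf cE1086))) (BT.node 1089 (BT.node 1088 (BT.node 1087 (BT.leaf cE1087) (BT.leaf cE1088)) (BT.leaf cE1089)) (BT.node 1091 (BT.node 1090 (BT.leaf cE1090) (BT.leaf cE1091)) (BT.leaf cE1092)))))) (BT.node 1116 (BT.node 1104 (BT.node 1098 (BT.node 1095 (BT.node 1094 (BT.node 1093 (BT.leaf cE1093) (BT.leaf cE1094)) (BT.leaf cE1095)) (BT.node 1097 (BT.node 1096 (BT.leaf cE1096) (BT.leaf cE1097))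 (BT.leaf cE1098))) (BT.node 1101 (BT.node 1100 (BT.node 1099 (BT.leaf cE1099) (BT.leaf cE1100)) (BT.leaf cE1101)) (BT.node 1103 (BT.node 1102 (BT.leaf cE1102) (BT.leaf cE1103)) (BT.leaf cE1104)))) (BT.node 1110 (BT.node 1107 (BT.node 1106 (BT.node 1105 (BT.leaf cE1105) (BT.leaf cE1106)) (BT.leaf cE1107)) (BT.node 1109 (BT.node 1108 (BT.leaf cE1108) (BT.leaf cE1109)) (BT.leaf cE1110))) (BT.node 1113 (BT.node 1112 (BT.node 1111 (BT.leaf cE1111) (BT.leaf cE1112)) (BT.leaf cE1113)) (BT.node 1115 (BT.node 1114 (BT.leaf cE1114) (BT.leaf cE1115)) (BT.leaf cE1116))))) (BT.node 1128 (BT.node 1122 (BT.node 1119 (BT.node 1118 (BT.node 1117 (BT.leaf cE1117) (BT.leaf cE1118)) (BT.leaf cE1119)) (BT.node 1121 (BT.node 1120 (BT.leaf cE1120) (BT.leaf cE1121)) (BT.leaf cE1122))) (BT.node 1125 (BT.node 1124 (BT.node 1123 (BT.leaf cE1123) (BT.leaf cE1124)) (BT.leaf cE1125))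 (BT.node 1127 (BT.node 1126 (BT.leaf cE1126) (BT.leaf cE1127)) (BT.leaf cE1128)))) (BT.node 1134 (BT.node 1131 (BT.node 1130 (BT.node 1129 (BT.leaf cE1129) (BT.leaf cE1130)) (BT.leaf cE1131)) (BT.node 1133 (BT.node 1132 (BT.leaf cE1132) (BT.leaf cE1133)) (BT.leaf cE1134))) (BT.node 1137 (BT.node 1136 (BT.node 1135 (BT.leaf cE1135) (BT.leaf cE1136)) (BT.leaf cE1137)) (BT.node 1138 (BT.leaf cE1138) (BT.leaf cE1139))))))))) (BT.node 1329 (BT.node 1234 (BT.node 1187 (BT.node 1163 (BT.node 1151 (BT.node 1145 (BT.node 1142 (BT.node 1141 (BT.node 1140 (BT.leaf cE1140) (BT.leaf cE1141)) (BT.leaf cE1142)) (BT.node 1144 (BT.node 1143 (BT.leaf cE1143) (BT.leaf cE1144)) (BT.leaf cE1145))) (BT.node 1148 (BT.node 1147 (BT.node 1146 (BT.leaf cE1146) (BT.leaf cE1147)) (BT.leaf cE1148)) (BT.node 1150 (BT.node 1149 (BT.leaf cE1149) (BT.leaf cE1150)) (BT.leaf cE1151))))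 (BT.node 1157 (BT.node 1154 (BT.node 1153 (BT.node 1152 (BT.leaf cE1152) (BT.leaf cE1153)) (BT.leaf cE1154)) (BT.node 1156 (BT.node 1155 (BT.leaf cE1155) (BT.leaf cE1156)) (BT.leaf cE1157))) (BT.node 1160 (BT.node 1159 (BT.node 1158 (BT.leaf cE1158) (BT.leaf cE1159)) (BT.leaf cE1160)) (BT.node 1162 (BT.node 1161 (BT.leaf cE1161) (BT.leaf cE1162)) (BT.leaf cE1163))))) (BT.node 1175 (BT.node 1169 (BT.node 1166 (BT.node 1165 (BT.node 1164 (BT.leaf cE1164) (BT.leaf cE1165)) (BT.leaf cE1166)) (BT.node 1168 (BT.node 1167 (BT.leaf cE1167) (BT.leaf cE1168)) (BT.leaf cE1169))) (BT.node 1172 (BT.node 1171 (BT.node 1170 (BT.leaf cE1170) (BT.leaf cE1171)) (BT.leaf cE1172)) (BT.node 1174 (BT.node 1173 (BT.leaf cE1173) (BT.leaf cE1174)) (BT.leaf cE1175)))) (BT.node 1181 (BT.node 1178 (BT.node 1177 (BT.node 1176 (BT.leaf cE1176) (BT.leaf cE1177)) (BT.leaf cE1178)) (BT.node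 1180 (BT.node 1179 (BT.leaf cE1179) (BT.leaf cE1180)) (BT.leaf cE1181))) (BT.node 1184 (BT.node 1183 (BT.node 1182 (BT.leaf cE1182) (BT.leaf cE1183)) (BT.leaf cE1184)) (BT.node 1186 (BT.node 1185 (BT.leaf cE1185) (BT.leaf cE1186)) (BT.leaf cE1187)))))) (BT.node 1211 (BT.node 1199 (BT.node 1193 (BT.node 1190 (BT.node 1189 (BT.node 1188 (BT.leaf cE1188) (BT.leaf cE1189)) (BT.leaf cE1190)) (BT.node 1192 (BT.node 1191 (BT.leaf cE1191) (BT.leaf cE1192)) (BT.leaf cE1193))) (BT.node 1196 (BT.node 1195 (BT.node 1194 (BT.leaf cE1194) (BT.leaf cE1195)) (BT.leaf cE1196)) (BT.node 1198 (BT.node 1197 (BT.leaf cE1197) (BT.leaf cE1198)) (BT.leaf cE1199)))) (BT.node 1205 (BT.node 1202 (BT.node 1201 (BT.node 1200 (BT.leaf cE1200) (BT.leaf cE1201)) (BT.leaf cE1202)) (BT.node 1204 (BT.node 1203 (BT.leaf cE1203) (BT.leaf cE1204)) (BT.leaf cE1205))) (BT.node 1208 (BT.node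 1207 (BT.node 1206 (BT.leaf cE1206) (BT.leaf cE1207)) (BT.leaf cE1208)) (BT.node 1210 (BT.node 1209 (BT.leaf cE1209) (BT.leaf cE1210)) (BT.leaf cE1211))))) (BT.node 1223 (BT.node 1217 (BT.node 1214 (BT.node 1213 (BT.node 1212 (BT.leaf cE1212) (BT.leaf cE1213)) (BT.leaf cE1214)) (BT.node 1216 (BT.node 1215 (BT.leaf cE1215) (BT.leaf cE1216)) (BT.leaf cE1217))) (BT.node 1220 (BT.node 1219 (BT.node 1218 (BT.leaf cE1218) (BT.leaf cE1219)) (BT.leaf cE1220)) (BT.node 1222 (BT.node 1221 (BT.leaf cE1221) (BT.leaf cE1222)) (BT.leaf cE1223)))) (BT.node 1229 (BT.node 1226 (BT.node 1225 (BT.node 1224 (BT.leaf cE1224) (BT.leaf cE1225)) (BT.leaf cE1226)) (BT.node 1228 (BT.node 1227 (BT.leaf cE1227) (BT.leaf cE1228)) (BT.leaf cE1229))) (BT.node 1232 (BT.node 1231 (BT.node 1230 (BT.leaf cE1230) (BT.leaf cE1231)) (BT.leaf cE1232)) (BT.node 1233 (BT.leaf cE1233) (BT.leaf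 cE1234))))))) (BT.node 1282 (BT.node 1258 (BT.node 1246 (BT.node 1240 (BT.node 1237 (BT.node 1236 (BT.node 1235 (BT.leaf cE1235) (BT.leaf cE1236)) (BT.leaf cE1237)) (BT.node 1239 (BT.node 1238 (BT.leaf cE1238) (BT.leaf cE1239)) (BT.leaf cE1240))) (BT.node 1243 (BT.node 1242 (BT.node 1241 (BT.leaf cE1241) (BT.leaf cE1242)) (BT.leaf cE1243)) (BT.node 1245 (BT.node 1244 (BT.leaf cE1244) (BT.leaf cE1245)) (BT.leaf cE1246)))) (BT.node 1252 (BT.node 1249 (BT.node 1248 (BT.node 1247 (BT.leaf cE1247) (BT.leaf cE1248)) (BT.leaf cE1249)) (BT.node 1251 (BT.node 1250 (BT.leaf cE1250) (BT.leaf cE1251)) (BT.leaf cE1252))) (BT.node 1255 (BT.node 1254 (BT.node 1253 (BT.leaf cE1253) (BT.leaf cE1254)) (BT.leaf cE1255)) (BT.node 1257 (BT.node 1256 (BT.leaf cE1256) (BT.leaf cE1257)) (BT.leaf cE1258))))) (BT.node 1270 (BT.node 1264 (BT.node 1261 (BT.node 1260 (BT.node 1259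 (BT.leaf cE1259) (BT.leaf cE1260)) (BT.leaf cE1261)) (BT.node 1263 (BT.node 1262 (BT.leaf cE1262) (BT.leaf cE1263)) (BT.leaf cE1264))) (BT.node 1267 (BT.node 1266 (BT.node 1265 (BT.leaf cE1265) (BT.leaf cE1266)) (BT.leaf cE1267)) (BT.node 1269 (BT.node 1268 (BT.leaf cE1268) (BT.leaf cE1269)) (BT.leaf cE1270)))) (BT.node 1276 (BT.node 1273 (BT.node 1272 (BT.node 1271 (BT.leaf cE1271) (BT.leaf cE1272)) (BT.leaf cE1273)) (BT.node 1275 (BT.node 1274 (BT.leaf cE1274) (BT.leaf cE1275)) (BT.leaf cE1276))) (BT.node 1279 (BT.node 1278 (BT.node 1277 (BT.leaf cE1277) (BT.leaf cE1278)) (BT.leaf cE1279)) (BT.node 1281 (BT.node 1280 (BT.leaf cE1280) (BT.leaf cE1281)) (BT.leaf cE1282)))))) (BT.node 1306 (BT.node 1294 (BT.node 1288 (BT.node 1285 (BT.node 1284 (BT.node 1283 (BT.leaf cE1283) (BT.leaf cE1284)) (BT.leaf cE1285)) (BT.node 1287 (BT.node 1286 (BT.leaf cE1286)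 (BT.leaf cE1287)) (BT.leaf cE1288))) (BT.node 1291 (BT.node 1290 (BT.node 1289 (BT.leaf cE1289) (BT.leaf cE1290)) (BT.leaf cE1291)) (BT.node 1293 (BT.node 1292 (BT.leaf cE1292) (BT.leaf cE1293)) (BT.leaf cE1294)))) (BT.node 1300 (BT.node 1297 (BT.node 1296 (BT.node 1295 (BT.leaf cE1295) (BT.leaf cE1296)) (BT.leaf cE1297)) (BT.node 1299 (BT.node 1298 (BT.leaf cE1298) (BT.leaf cE1299)) (BT.leaf cE1300))) (BT.node 1303 (BT.node 1302 (BT.node 1301 (BT.leaf cE1301) (BT.leaf cE1302)) (BT.leaf cE1303)) (BT.node 1305 (BT.node 1304 (BT.leaf cE1304) (BT.leaf cE1305)) (BT.leaf cE1306))))) (BT.node 1318 (BT.node 1312 (BT.node 1309 (BT.node 1308 (BT.node 1307 (BT.leaf cE1307) (BT.leaf cE1308)) (BT.leaf cE1309)) (BT.node 1311 (BT.node 1310 (BT.leaf cE1310) (BT.leaf cE1311)) (BT.leaf cE1312))) (BT.node 1315 (BT.node 1314 (BT.node 1313 (BT.leaf cE1313) (BT.leaf cE1314))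 (BT.leaf cE1315)) (BT.node 1317 (BT.node 1316 (BT.leaf cE1316) (BT.leaf cE1317)) (BT.leaf cE1318)))) (BT.node 1324 (BT.node 1321 (BT.node 1320 (BT.node 1319 (BT.leaf cE1319) (BT.leaf cE1320)) (BT.leaf cE1321)) (BT.node 1323 (BT.node 1322 (BT.leaf cE1322) (BT.leaf cE1323)) (BT.leaf cE1324))) (BT.node 1327 (BT.node 1326 (BT.node 1325 (BT.leaf cE1325) (BT.leaf cE1326)) (BT.leaf cE1327)) (BT.node 1328 (BT.leaf cE1328) (BT.leaf cE1329)))))))) (BT.node 1424 (BT.node 1377 (BT.node 1353 (BT.node 1341 (BT.node 1335 (BT.node 1332 (BT.node 1331 (BT.node 1330 (BT.leaf cE1330) (BT.leaf cE1331)) (BT.leaf cE1332)) (BT.node 1334 (BT.node 1333 (BT.leaf cE1333) (BT.leaf cE1334)) (BT.leaf cE1335))) (BT.node 1338 (BT.node 1337 (BT.node 1336 (BT.leaf cE1336) (BT.leaf cE1337)) (BT.leaf cE1338)) (BT.node 1340 (BT.node 1339 (BT.leaf cE1339) (BT.leaf cE1340)) (BT.leaf cE1341))))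 (BT.node 1347 (BT.node 1344 (BT.node 1343 (BT.node 1342 (BT.leaf cE1342) (BT.leaf cE1343)) (BT.leaf cE1344)) (BT.node 1346 (BT.node 1345 (BT.leaf cE1345) (BT.leaf cE1346)) (BT.leaf cE1347))) (BT.node 1350 (BT.node 1349 (BT.node 1348 (BT.leaf cE1348) (BT.leaf cE1349)) (BT.leaf cE1350)) (BT.node 1352 (BT.node 1351 (BT.leaf cE1351) (BT.leaf cE1352)) (BT.leaf cE1353))))) (BT.node 1365 (BT.node 1359 (BT.node 1356 (BT.node 1355 (BT.node 1354 (BT.leaf cE1354) (BT.leaf cE1355)) (BT.leaf cE1356)) (BT.node 1358 (BT.node 1357 (BT.leaf cE1357) (BT.leaf cE1358)) (BT.leaf cE1359))) (BT.node 1362 (BT.node 1361 (BT.node 1360 (BT.leaf cE1360) (BT.leaf cE1361)) (BT.leaf cE1362)) (BT.node 1364 (BT.node 1363 (BT.leaf cE1363) (BT.leaf cE1364)) (BT.leaf cE1365)))) (BT.node 1371 (BT.node 1368 (BT.node 1367 (BT.node 1366 (BT.leaf cE1366) (BT.leaf cE1367)) (BT.leaf cE1368)) (BT.node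 1370 (BT.node 1369 (BT.leaf cE1369) (BT.leaf cE1370)) (BT.leaf cE1371))) (BT.node 1374 (BT.node 1373 (BT.node 1372 (BT.leaf cE1372) (BT.leaf cE1373)) (BT.leaf cE1374)) (BT.node 1376 (BT.node 1375 (BT.leaf cE1375) (BT.leaf cE1376)) (BT.leaf cE1377)))))) (BT.node 1401 (BT.node 1389 (BT.node 1383 (BT.node 1380 (BT.node 1379 (BT.node 1378 (BT.leaf cE1378) (BT.leaf cE1379)) (BT.leaf cE1380)) (BT.node 1382 (BT.node 1381 (BT.leaf cE1381) (BT.leaf cE1382)) (BT.leaf cE1383))) (BT.node 1386 (BT.node 1385 (BT.node 1384 (BT.leaf cE1384) (BT.leaf cE1385)) (BT.leaf cE1386)) (BT.node 1388 (BT.node 1387 (BT.leaf cE1387) (BT.leaf cE1388)) (BT.leaf cE1389)))) (BT.node 1395 (BT.node 1392 (BT.node 1391 (BT.node 1390 (BT.leaf cE1390) (BT.leaf cE1391)) (BT.leaf cE1392)) (BT.node 1394 (BT.node 1393 (BT.leaf cE1393) (BT.leaf cE1394)) (BT.leaf cE1395))) (BT.node 1398 (BT.node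 1397 (BT.node 1396 (BT.leaf cE1396) (BT.leaf cE1397)) (BT.leaf cE1398)) (BT.node 1400 (BT.node 1399 (BT.leaf cE1399) (BT.leaf cE1400)) (BT.leaf cE1401))))) (BT.node 1413 (BT.node 1407 (BT.node 1404 (BT.node 1403 (BT.node 1402 (BT.leaf cE1402) (BT.leaf cE1403)) (BT.leaf cE1404)) (BT.node 1406 (BT.node 1405 (BT.leaf cE1405) (BT.leaf cE1406)) (BT.leaf cE1407))) (BT.node 1410 (BT.node 1409 (BT.node 1408 (BT.leaf cE1408) (BT.leaf cE1409)) (BT.leaf cE1410)) (BT.node 1412 (BT.node 1411 (BT.leaf cE1411) (BT.leaf cE1412)) (BT.leaf cE1413)))) (BT.node 1419 (BT.node 1416 (BT.node 1415 (BT.node 1414 (BT.leaf cE1414) (BT.leaf cE1415)) (BT.leaf cE1416)) (BT.node 1418 (BT.node 1417 (BT.leaf cE1417) (BT.leaf cE1418)) (BT.leaf cE1419))) (BT.node 1422 (BT.node 1421 (BT.node 1420 (BT.leaf cE1420) (BT.leaf cE1421)) (BT.leaf cE1422)) (BT.node 1423 (BT.leaf cE1423) (BT.leaf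 cE1424))))))) (BT.node 1472 (BT.node 1448 (BT.node 1436 (BT.node 1430 (BT.node 1427 (BT.node 1426 (BT.node 1425 (BT.leaf cE1425) (BT.leaf cE1426)) (BT.leaf cE1427)) (BT.node 1429 (BT.node 1428 (BT.leaf cE1428) (BT.leaf cE1429)) (BT.leaf cE1430))) (BT.node 1433 (BT.node 1432 (BT.node 1431 (BT.leaf cE1431) (BT.leaf cE1432)) (BT.leaf cE1433)) (BT.node 1435 (BT.node 1434 (BT.leaf cE1434) (BT.leaf cE1435)) (BT.leaf cE1436)))) (BT.node 1442 (BT.node 1439 (BT.node 1438 (BT.node 1437 (BT.leaf cE1437) (BT.leaf cE1438)) (BT.leaf cE1439)) (BT.node 1441 (BT.node 1440 (BT.leaf cE1440) (BT.leaf cE1441)) (BT.leaf cE1442))) (BT.node 1445 (BT.node 1444 (BT.node 1443 (BT.leaf cE1443) (BT.leaf cE1444)) (BT.leaf cE1445)) (BT.node 1447 (BT.node 1446 (BT.leaf cE1446) (BT.leaf cE1447)) (BT.leaf cE1448))))) (BT.node 1460 (BT.node 1454 (BT.node 1451 (BT.node 1450 (BT.node 1449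 (BT.leaf cE1449) (BT.leaf cE1450)) (BT.leaf cE1451)) (BT.node 1453 (BT.node 1452 (BT.leaf cE1452) (BT.leaf cE1453)) (BT.leaf cE1454))) (BT.node 1457 (BT.node 1456 (BT.node 1455 (BT.leaf cE1455) (BT.leaf cE1456)) (BT.leaf cE1457)) (BT.node 1459 (BT.node 1458 (BT.leaf cE1458) (BT.leaf cE1459)) (BT.leaf cE1460)))) (BT.node 1466 (BT.node 1463 (BT.node 1462 (BT.node 1461 (BT.leaf cE1461) (BT.leaf cE1462)) (BT.leaf cE1463)) (BT.node 1465 (BT.node 1464 (BT.leaf cE1464) (BT.leaf cE1465)) (BT.leaf cE1466))) (BT.node 1469 (BT.node 1468 (BT.node 1467 (BT.leaf cE1467) (BT.leaf cE1468)) (BT.leaf cE1469)) (BT.node 1471 (BT.node 1470 (BT.leaf cE1470) (BT.leaf cE1471)) (BT.leaf cE1472)))))) (BT.node 1496 (BT.node 1484 (BT.node 1478 (BT.node 1475 (BT.node 1474 (BT.node 1473 (BT.leaf cE1473) (BT.leaf cE1474)) (BT.leaf cE1475)) (BT.node 1477 (BT.node 1476 (BT.leaf cE1476)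 (BT.leaf cE1477)) (BT.leaf cE1478))) (BT.node 1481 (BT.node 1480 (BT.node 1479 (BT.leaf cE1479) (BT.leaf cE1480)) (BT.leaf cE1481)) (BT.node 1483 (BT.node 1482 (BT.leaf cE1482) (BT.leaf cE1483)) (BT.leaf cE1484)))) (BT.node 1490 (BT.node 1487 (BT.node 1486 (BT.node 1485 (BT.leaf cE1485) (BT.leaf cE1486)) (BT.leaf cE1487)) (BT.node 1489 (BT.node 1488 (BT.leaf cE1488) (BT.leaf cE1489)) (BT.leaf cE1490))) (BT.node 1493 (BT.node 1492 (BT.node 1491 (BT.leaf cE1491) (BT.leaf cE1492)) (BT.leaf cE1493)) (BT.node 1495 (BT.node 1494 (BT.leaf cE1494) (BT.leaf cE1495)) (BT.leaf cE1496))))) (BT.node 1508 (BT.node 1502 (BT.node 1499 (BT.node 1498 (BT.node 1497 (BT.leaf cE1497) (BT.leaf cE1498)) (BT.leaf cE1499)) (BT.node 1501 (BT.node 1500 (BT.leaf cE1500) (BT.leaf cE1501)) (BT.leaf cE1502))) (BT.node 1505 (BT.node 1504 (BT.node 1503 (BT.leaf cE1503) (BT.leaf cE1504))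 (BT.leaf cE1505)) (BT.node 1507 (BT.node 1506 (BT.leaf cE1506) (BT.leaf cE1507)) (BT.leaf cE1508)))) (BT.node 1514 (BT.node 1511 (BT.node 1510 (BT.node 1509 (BT.leaf cE1509) (BT.leaf cE1510)) (BT.leaf cE1511)) (BT.node 1513 (BT.node 1512 (BT.leaf cE1512) (BT.leaf cE1513)) (BT.leaf cE1514))) (BT.node 1517 (BT.node 1516 (BT.node 1515 (BT.leaf cE1515) (BT.leaf cE1516)) (BT.leaf cE1517)) (BT.node 1518 (BT.leaf cE1518) (BT.leaf cE1519)))))))))))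
/-- justification chunks -/
def colJT : BT ℕ := (BT.node 759 (BT.node 379 (BT.node 189 (BT.node 94 (BT.node 47 (BT.node 23 (BT.node 11 (BT.node 5 (BT.node 2 (BT.node 1 (BT.node 0 (BT.leaf cJ0) (BT.leaf cJ1)) (BT.leaf cJ2)) (BT.node 4 (BT.node 3 (BT.leaf cJ3) (BT.leaf cJ4)) (BT.leaf cJ5))) (BT.node 8 (BT.node 7 (BT.node 6 (BT.leaf cJ6) (BT.leaf cJ7)) (BT.leaf cJ8)) (BT.node 10 (BT.node 9 (BT.leaf cJ9) (BT.leaf cJ10)) (BT.leaf cJ11)))) (BT.node 17 (BT.node 14 (BT.node 13 (BT.node 12 (BT.leaf cJ12) (BT.leaf cJ13)) (BT.leaf cJ14)) (BT.node 16 (BT.node 15 (BT.leaf cJ15) (BT.leaf cJ16)) (BT.leaf cJ17))) (BT.node 20 (BT.node 19 (BT.node 18 (BT.leaf cJ18) (BT.leaf cJ19)) (BT.leaf cJ20)) (BT.node 22 (BT.node 21 (BT.leaf cJ21) (BT.leaf cJ22)) (BT.leaf cJ23))))) (BT.node 35 (BT.node 29 (BT.node 26 (BT.node 25 (BT.node 24 (BT.leaf cJ24) (BT.leaf cJ25)) (BT.leaf cJ26))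 (BT.node 28 (BT.node 27 (BT.leaf cJ27) (BT.leaf cJ28)) (BT.leaf cJ29))) (BT.node 32 (BT.node 31 (BT.node 30 (BT.leaf cJ30) (BT.leaf cJ31)) (BT.leaf cJ32)) (BT.node 34 (BT.node 33 (BT.leaf cJ33) (BT.leaf cJ34)) (BT.leaf cJ35)))) (BT.node 41 (BT.node 38 (BT.node 37 (BT.node 36 (BT.leaf cJ36) (BT.leaf cJ37)) (BT.leaf cJ38)) (BT.node 40 (BT.node 39 (BT.leaf cJ39) (BT.leaf cJ40)) (BT.leaf cJ41))) (BT.node 44 (BT.node 43 (BT.node 42 (BT.leaf cJ42) (BT.leaf cJ43)) (BT.leaf cJ44)) (BT.node 46 (BT.node 45 (BT.leaf cJ45) (BT.leaf cJ46)) (BT.leaf cJ47)))))) (BT.node 71 (BT.node 59 (BT.node 53 (BT.node 50 (BT.node 49 (BT.node 48 (BT.leaf cJ48) (BT.leaf cJ49)) (BT.leaf cJ50)) (BT.node 52 (BT.node 51 (BT.leaf cJ51) (BT.leaf cJ52)) (BT.leaf cJ53))) (BT.node 56 (BT.node 55 (BT.node 54 (BT.leaf cJ54) (BT.leaf cJ55)) (BT.leaf cJ56)) (BT.node 58 (BT.node 57 (BT.leaf cJ57)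 (BT.leaf cJ58)) (BT.leaf cJ59)))) (BT.node 65 (BT.node 62 (BT.node 61 (BT.node 60 (BT.leaf cJ60) (BT.leaf cJ61)) (BT.leaf cJ62)) (BT.node 64 (BT.node 63 (BT.leaf cJ63) (BT.leaf cJ64)) (BT.leaf cJ65))) (BT.node 68 (BT.node 67 (BT.node 66 (BT.leaf cJ66) (BT.leaf cJ67)) (BT.leaf cJ68)) (BT.node 70 (BT.node 69 (BT.leaf cJ69) (BT.leaf cJ70)) (BT.leaf cJ71))))) (BT.node 83 (BT.node 77 (BT.node 74 (BT.node 73 (BT.node 72 (BT.leaf cJ72) (BT.leaf cJ73)) (BT.leaf cJ74)) (BT.node 76 (BT.node 75 (BT.leaf cJ75) (BT.leaf cJ76)) (BT.leaf cJ77))) (BT.node 80 (BT.node 79 (BT.node 78 (BT.leaf cJ78) (BT.leaf cJ79)) (BT.leaf cJ80)) (BT.node 82 (BT.node 81 (BT.leaf cJ81) (BT.leaf cJ82)) (BT.leaf cJ83)))) (BT.node 89 (BT.node 86 (BT.node 85 (BT.node 84 (BT.leaf cJ84) (BT.leaf cJ85)) (BT.leaf cJ86)) (BT.node 88 (BT.node 87 (BT.leaf cJ87) (BT.leaf cJ88)) (BT.leaf cJ89))) (BT.node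 92 (BT.node 91 (BT.node 90 (BT.leaf cJ90) (BT.leaf cJ91)) (BT.leaf cJ92)) (BT.node 93 (BT.leaf cJ93) (BT.leaf cJ94))))))) (BT.node 142 (BT.node 118 (BT.node 106 (BT.node 100 (BT.node 97 (BT.node 96 (BT.node 95 (BT.leaf cJ95) (BT.leaf cJ96)) (BT.leaf cJ97)) (BT.node 99 (BT.node 98 (BT.leaf cJ98) (BT.leaf cJ99)) (BT.leaf cJ100))) (BT.node 103 (BT.node 102 (BT.node 101 (BT.leaf cJ101) (BT.leaf cJ102)) (BT.leaf cJ103)) (BT.node 105 (BT.node 104 (BT.leaf cJ104) (BT.leaf cJ105)) (BT.leaf cJ106)))) (BT.node 112 (BT.node 109 (BT.node 108 (BT.node 107 (BT.leaf cJ107) (BT.leaf cJ108)) (BT.leaf cJ109)) (BT.node 111 (BT.node 110 (BT.leaf cJ110) (BT.leaf cJ111)) (BT.leaf cJ112))) (BT.node 115 (BT.node 114 (BT.node 113 (BT.leaf cJ113) (BT.leaf cJ114)) (BT.leaf cJ115)) (BT.node 117 (BT.node 116 (BT.leaf cJ116) (BT.leaf cJ117)) (BT.leaf cJ118))))) (BT.node 130 (BT.node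 124 (BT.node 121 (BT.node 120 (BT.node 119 (BT.leaf cJ119) (BT.leaf cJ120)) (BT.leaf cJ121)) (BT.node 123 (BT.node 122 (BT.leaf cJ122) (BT.leaf cJ123)) (BT.leaf cJ124))) (BT.node 127 (BT.node 126 (BT.node 125 (BT.leaf cJ125) (BT.leaf cJ126)) (BT.leaf cJ127)) (BT.node 129 (BT.node 128 (BT.leaf cJ128) (BT.leaf cJ129)) (BT.leaf cJ130)))) (BT.node 136 (BT.node 133 (BT.node 132 (BT.node 131 (BT.leaf cJ131) (BT.leaf cJ132)) (BT.leaf cJ133)) (BT.node 135 (BT.node 134 (BT.leaf cJ134) (BT.leaf cJ135)) (BT.leaf cJ136))) (BT.node 139 (BT.node 138 (BT.node 137 (BT.leaf cJ137) (BT.leaf cJ138)) (BT.leaf cJ139)) (BT.node 141 (BT.node 140 (BT.leaf cJ140) (BT.leaf cJ141)) (BT.leaf cJ142)))))) (BT.node 166 (BT.node 154 (BT.node 148 (BT.node 145 (BT.node 144 (BT.node 143 (BT.leaf cJ143) (BT.leaf cJ144)) (BT.leaf cJ145)) (BT.node 147 (BT.node 146 (BT.leaf cJ146) (BT.leaf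 cJ147)) (BT.leaf cJ148))) (BT.node 151 (BT.node 150 (BT.node 149 (BT.leaf cJ149) (BT.leaf cJ150)) (BT.leaf cJ151)) (BT.node 153 (BT.node 152 (BT.leaf cJ152) (BT.leaf cJ153)) (BT.leaf cJ154)))) (BT.node 160 (BT.node 157 (BT.node 156 (BT.node 155 (BT.leaf cJ155) (BT.leaf cJ156)) (BT.leaf cJ157)) (BT.node 159 (BT.node 158 (BT.leaf cJ158) (BT.leaf cJ159)) (BT.leaf cJ160))) (BT.node 163 (BT.node 162 (BT.node 161 (BT.leaf cJ161) (BT.leaf cJ162)) (BT.leaf cJ163)) (BT.node 165 (BT.node 164 (BT.leaf cJ164) (BT.leaf cJ165)) (BT.leaf cJ166))))) (BT.node 178 (BT.node 172 (BT.node 169 (BT.node 168 (BT.node 167 (BT.leaf cJ167) (BT.leaf cJ168)) (BT.leaf cJ169)) (BT.node 171 (BT.node 170 (BT.leaf cJ170) (BT.leaf cJ171)) (BT.leaf cJ172))) (BT.node 175 (BT.node 174 (BT.node 173 (BT.leaf cJ173) (BT.leaf cJ174)) (BT.leaf cJ175)) (BT.node 177 (BT.node 176 (BT.leaf cJ176) (BT.leaf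 cJ177)) (BT.leaf cJ178)))) (BT.node 184 (BT.node 181 (BT.node 180 (BT.node 179 (BT.leaf cJ179) (BT.leaf cJ180)) (BT.leaf cJ181)) (BT.node 183 (BT.node 182 (BT.leaf cJ182) (BT.leaf cJ183)) (BT.leaf cJ184))) (BT.node 187 (BT.node 186 (BT.node 185 (BT.leaf cJ185) (BT.leaf cJ186)) (BT.leaf cJ187)) (BT.node 188 (BT.leaf cJ188) (BT.leaf cJ189)))))))) (BT.node 284 (BT.node 237 (BT.node 213 (BT.node 201 (BT.node 195 (BT.node 192 (BT.node 191 (BT.node 190 (BT.leaf cJ190) (BT.leaf cJ191)) (BT.leaf cJ192)) (BT.node 194 (BT.node 193 (BT.leaf cJ193) (BT.leaf cJ194)) (BT.leaf cJ195))) (BT.node 198 (BT.node 197 (BT.node 196 (BT.leaf cJ196) (BT.leaf cJ197)) (BT.leaf cJ198)) (BT.node 200 (BT.node 199 (BT.leaf cJ199) (BT.leaf cJ200)) (BT.leaf cJ201)))) (BT.node 207 (BT.node 204 (BT.node 203 (BT.node 202 (BT.leaf cJ202) (BT.leaf cJ203)) (BT.leaf cJ204)) (BT.node 206 (BT.node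 205 (BT.leaf cJ205) (BT.leaf cJ206)) (BT.leaf cJ207))) (BT.node 210 (BT.node 209 (BT.node 208 (BT.leaf cJ208) (BT.leaf cJ209)) (BT.leaf cJ210)) (BT.node 212 (BT.node 211 (BT.leaf cJ211) (BT.leaf cJ212)) (BT.leaf cJ213))))) (BT.node 225 (BT.node 219 (BT.node 216 (BT.node 215 (BT.node 214 (BT.leaf cJ214) (BT.leaf cJ215)) (BT.leaf cJ216)) (BT.node 218 (BT.node 217 (BT.leaf cJ217) (BT.leaf cJ218)) (BT.leaf cJ219))) (BT.node 222 (BT.node 221 (BT.node 220 (BT.leaf cJ220) (BT.leaf cJ221)) (BT.leaf cJ222)) (BT.node 224 (BT.node 223 (BT.leaf cJ223) (BT.leaf cJ224)) (BT.leaf cJ225)))) (BT.node 231 (BT.node 228 (BT.node 227 (BT.node 226 (BT.leaf cJ226) (BT.leaf cJ227)) (BT.leaf cJ228)) (BT.node 230 (BT.node 229 (BT.leaf cJ229) (BT.leaf cJ230)) (BT.leaf cJ231))) (BT.node 234 (BT.node 233 (BT.node 232 (BT.leaf cJ232) (BT.leaf cJ233)) (BT.leaf cJ234)) (BT.node 236 (BT.node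 235 (BT.leaf cJ235) (BT.leaf cJ236)) (BT.leaf cJ237)))))) (BT.node 261 (BT.node 249 (BT.node 243 (BT.node 240 (BT.node 239 (BT.node 238 (BT.leaf cJ238) (BT.leaf cJ239)) (BT.leaf cJ240)) (BT.node 242 (BT.node 241 (BT.leaf cJ241) (BT.leaf cJ242)) (BT.leaf cJ243))) (BT.node 246 (BT.node 245 (BT.node 244 (BT.leaf cJ244) (BT.leaf cJ245)) (BT.leaf cJ246)) (BT.node 248 (BT.node 247 (BT.leaf cJ247) (BT.leaf cJ248)) (BT.leaf cJ249)))) (BT.node 255 (BT.node 252 (BT.node 251 (BT.node 250 (BT.leaf cJ250) (BT.leaf cJ251)) (BT.leaf cJ252)) (BT.node 254 (BT.node 253 (BT.leaf cJ253) (BT.leaf cJ254)) (BT.leaf cJ255))) (BT.node 258 (BT.node 257 (BT.node 256 (BT.leaf cJ256) (BT.leaf cJ257)) (BT.leaf cJ258)) (BT.node 260 (BT.node 259 (BT.leaf cJ259) (BT.leaf cJ260)) (BT.leaf cJ261))))) (BT.node 273 (BT.node 267 (BT.node 264 (BT.node 263 (BT.node 262 (BT.leaf cJ262) (BT.leaf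 cJ263)) (BT.leaf cJ264)) (BT.node 266 (BT.node 265 (BT.leaf cJ265) (BT.leaf cJ266)) (BT.leaf cJ267))) (BT.node 270 (BT.node 269 (BT.node 268 (BT.leaf cJ268) (BT.leaf cJ269)) (BT.leaf cJ270)) (BT.node 272 (BT.node 271 (BT.leaf cJ271) (BT.leaf cJ272)) (BT.leaf cJ273)))) (BT.node 279 (BT.node 276 (BT.node 275 (BT.node 274 (BT.leaf cJ274) (BT.leaf cJ275)) (BT.leaf cJ276)) (BT.node 278 (BT.node 277 (BT.leaf cJ277) (BT.leaf cJ278)) (BT.leaf cJ279))) (BT.node 282 (BT.node 281 (BT.node 280 (BT.leaf cJ280) (BT.leaf cJ281)) (BT.leaf cJ282)) (BT.node 283 (BT.leaf cJ283) (BT.leaf cJ284))))))) (BT.node 332 (BT.node 308 (BT.node 296 (BT.node 290 (BT.node 287 (BT.node 286 (BT.node 285 (BT.leaf cJ285) (BT.leaf cJ286)) (BT.leaf cJ287)) (BT.node 289 (BT.node 288 (BT.leaf cJ288) (BT.leaf cJ289)) (BT.leaf cJ290))) (BT.node 293 (BT.node 292 (BT.node 291 (BT.leaf cJ291) (BT.leaf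 cJ292)) (BT.leaf cJ293)) (BT.node 295 (BT.node 294 (BT.leaf cJ294) (BT.leaf cJ295)) (BT.leaf cJ296)))) (BT.node 302 (BT.node 299 (BT.node 298 (BT.node 297 (BT.leaf cJ297) (BT.leaf cJ298)) (BT.leaf cJ299)) (BT.node 301 (BT.node 300 (BT.leaf cJ300) (BT.leaf cJ301)) (BT.leaf cJ302))) (BT.node 305 (BT.node 304 (BT.node 303 (BT.leaf cJ303) (BT.leaf cJ304)) (BT.leaf cJ305)) (BT.node 307 (BT.node 306 (BT.leaf cJ306) (BT.leaf cJ307)) (BT.leaf cJ308))))) (BT.node 320 (BT.node 314 (BT.node 311 (BT.node 310 (BT.node 309 (BT.leaf cJ309) (BT.leaf cJ310)) (BT.leaf cJ311)) (BT.node 313 (BT.node 312 (BT.leaf cJ312) (BT.leaf cJ313)) (BT.leaf cJ314))) (BT.node 317 (BT.node 316 (BT.node 315 (BT.leaf cJ315) (BT.leaf cJ316)) (BT.leaf cJ317)) (BT.node 319 (BT.node 318 (BT.leaf cJ318) (BT.leaf cJ319)) (BT.leaf cJ320)))) (BT.node 326 (BT.node 323 (BT.node 322 (BT.node 321 (BT.leaf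 cJ321) (BT.leaf cJ322)) (BT.leaf cJ323)) (BT.node 325 (BT.node 324 (BT.leaf cJ324) (BT.leaf cJ325)) (BT.leaf cJ326))) (BT.node 329 (BT.node 328 (BT.node 327 (BT.leaf cJ327) (BT.leaf cJ328)) (BT.leaf cJ329)) (BT.node 331 (BT.node 330 (BT.leaf cJ330) (BT.leaf cJ331)) (BT.leaf cJ332)))))) (BT.node 356 (BT.node 344 (BT.node 338 (BT.node 335 (BT.node 334 (BT.node 333 (BT.leaf cJ333) (BT.leaf cJ334)) (BT.leaf cJ335)) (BT.node 337 (BT.node 336 (BT.leaf cJ336) (BT.leaf cJ337)) (BT.leaf cJ338))) (BT.node 341 (BT.node 340 (BT.node 339 (BT.leaf cJ339) (BT.leaf cJ340)) (BT.leaf cJ341)) (BT.node 343 (BT.node 342 (BT.leaf cJ342) (BT.leaf cJ343)) (BT.leaf cJ344)))) (BT.node 350 (BT.node 347 (BT.node 346 (BT.node 345 (BT.leaf cJ345) (BT.leaf cJ346)) (BT.leaf cJ347)) (BT.node 349 (BT.node 348 (BT.leaf cJ348) (BT.leaf cJ349)) (BT.leaf cJ350))) (BT.node 353 (BT.node 352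 (BT.node 351 (BT.leaf cJ351) (BT.leaf cJ352)) (BT.leaf cJ353)) (BT.node 355 (BT.node 354 (BT.leaf cJ354) (BT.leaf cJ355)) (BT.leaf cJ356))))) (BT.node 368 (BT.node 362 (BT.node 359 (BT.node 358 (BT.node 357 (BT.leaf cJ357) (BT.leaf cJ358)) (BT.leaf cJ359)) (BT.node 361 (BT.node 360 (BT.leaf cJ360) (BT.leaf cJ361)) (BT.leaf cJ362))) (BT.node 365 (BT.node 364 (BT.node 363 (BT.leaf cJ363) (BT.leaf cJ364)) (BT.leaf cJ365)) (BT.node 367 (BT.node 366 (BT.leaf cJ366) (BT.leaf cJ367)) (BT.leaf cJ368)))) (BT.node 374 (BT.node 371 (BT.node 370 (BT.node 369 (BT.leaf cJ369) (BT.leaf cJ370)) (BT.leaf cJ371)) (BT.node 373 (BT.node 372 (BT.leaf cJ372) (BT.leaf cJ373)) (BT.leaf cJ374))) (BT.node 377 (BT.node 376 (BT.node 375 (BT.leaf cJ375) (BT.leaf cJ376)) (BT.leaf cJ377)) (BT.node 378 (BT.leaf cJ378) (BT.leaf cJ379))))))))) (BT.node 569 (BT.node 474 (BT.node 427 (BT.node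 403 (BT.node 391 (BT.node 385 (BT.node 382 (BT.node 381 (BT.node 380 (BT.leaf cJ380) (BT.leaf cJ381)) (BT.leaf cJ382)) (BT.node 384 (BT.node 383 (BT.leaf cJ383) (BT.leaf cJ384)) (BT.leaf cJ385))) (BT.node 388 (BT.node 387 (BT.node 386 (BT.leaf cJ386) (BT.leaf cJ387)) (BT.leaf cJ388)) (BT.node 390 (BT.node 389 (BT.leaf cJ389) (BT.leaf cJ390)) (BT.leaf cJ391)))) (BT.node 397 (BT.node 394 (BT.node 393 (BT.node 392 (BT.leaf cJ392) (BT.leaf cJ393)) (BT.leaf cJ394)) (BT.node 396 (BT.node 395 (BT.leaf cJ395) (BT.leaf cJ396)) (BT.leaf cJ397))) (BT.node 400 (BT.node 399 (BT.node 398 (BT.leaf cJ398) (BT.leaf cJ399)) (BT.leaf cJ400)) (BT.node 402 (BT.node 401 (BT.leaf cJ401) (BT.leaf cJ402)) (BT.leaf cJ403))))) (BT.node 415 (BT.node 409 (BT.node 406 (BT.node 405 (BT.node 404 (BT.leaf cJ404) (BT.leaf cJ405)) (BT.leaf cJ406)) (BT.node 408 (BT.node 407 (BT.leaf cJ407)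 (BT.leaf cJ408)) (BT.leaf cJ409))) (BT.node 412 (BT.node 411 (BT.node 410 (BT.leaf cJ410) (BT.leaf cJ411)) (BT.leaf cJ412)) (BT.node 414 (BT.node 413 (BT.leaf cJ413) (BT.leaf cJ414)) (BT.leaf cJ415)))) (BT.node 421 (BT.node 418 (BT.node 417 (BT.node 416 (BT.leaf cJ416) (BT.leaf cJ417)) (BT.leaf cJ418)) (BT.node 420 (BT.node 419 (BT.leaf cJ419) (BT.leaf cJ420)) (BT.leaf cJ421))) (BT.node 424 (BT.node 423 (BT.node 422 (BT.leaf cJ422) (BT.leaf cJ423)) (BT.leaf cJ424)) (BT.node 426 (BT.node 425 (BT.leaf cJ425) (BT.leaf cJ426)) (BT.leaf cJ427)))))) (BT.node 451 (BT.node 439 (BT.node 433 (BT.node 430 (BT.node 429 (BT.node 428 (BT.leaf cJ428) (BT.leaf cJ429)) (BT.leaf cJ430)) (BT.node 432 (BT.node 431 (BT.leaf cJ431) (BT.leaf cJ432)) (BT.leaf cJ433))) (BT.node 436 (BT.node 435 (BT.node 434 (BT.leaf cJ434) (BT.leaf cJ435)) (BT.leaf cJ436)) (BT.node 438 (BT.node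 437 (BT.leaf cJ437) (BT.leaf cJ438)) (BT.leaf cJ439)))) (BT.node 445 (BT.node 442 (BT.node 441 (BT.node 440 (BT.leaf cJ440) (BT.leaf cJ441)) (BT.leaf cJ442)) (BT.node 444 (BT.node 443 (BT.leaf cJ443) (BT.leaf cJ444)) (BT.leaf cJ445))) (BT.node 448 (BT.node 447 (BT.node 446 (BT.leaf cJ446) (BT.leaf cJ447)) (BT.leaf cJ448)) (BT.node 450 (BT.node 449 (BT.leaf cJ449) (BT.leaf cJ450)) (BT.leaf cJ451))))) (BT.node 463 (BT.node 457 (BT.node 454 (BT.node 453 (BT.node 452 (BT.leaf cJ452) (BT.leaf cJ453)) (BT.leaf cJ454)) (BT.node 456 (BT.node 455 (BT.leaf cJ455) (BT.leaf cJ456)) (BT.leaf cJ457))) (BT.node 460 (BT.node 459 (BT.node 458 (BT.leaf cJ458) (BT.leaf cJ459)) (BT.leaf cJ460)) (BT.node 462 (BT.node 461 (BT.leaf cJ461) (BT.leaf cJ462)) (BT.leaf cJ463)))) (BT.node 469 (BT.node 466 (BT.node 465 (BT.node 464 (BT.leaf cJ464) (BT.leaf cJ465)) (BT.leaf cJ466))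 (BT.node 468 (BT.node 467 (BT.leaf cJ467) (BT.leaf cJ468)) (BT.leaf cJ469))) (BT.node 472 (BT.node 471 (BT.node 470 (BT.leaf cJ470) (BT.leaf cJ471)) (BT.leaf cJ472)) (BT.node 473 (BT.leaf cJ473) (BT.leaf cJ474))))))) (BT.node 522 (BT.node 498 (BT.node 486 (BT.node 480 (BT.node 477 (BT.node 476 (BT.node 475 (BT.leaf cJ475) (BT.leaf cJ476)) (BT.leaf cJ477)) (BT.node 479 (BT.node 478 (BT.leaf cJ478) (BT.leaf cJ479)) (BT.leaf cJ480))) (BT.node 483 (BT.node 482 (BT.node 481 (BT.leaf cJ481) (BT.leaf cJ482)) (BT.leaf cJ483)) (BT.node 485 (BT.node 484 (BT.leaf cJ484) (BT.leaf cJ485)) (BT.leaf cJ486)))) (BT.node 492 (BT.node 489 (BT.node 488 (BT.node 487 (BT.leaf cJ487) (BT.leaf cJ488)) (BT.leaf cJ489)) (BT.node 491 (BT.node 490 (BT.leaf cJ490) (BT.leaf cJ491)) (BT.leaf cJ492))) (BT.node 495 (BT.node 494 (BT.node 493 (BT.leaf cJ493) (BT.leaf cJ494)) (BT.leaf cJ495))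 (BT.node 497 (BT.node 496 (BT.leaf cJ496) (BT.leaf cJ497)) (BT.leaf cJ498))))) (BT.node 510 (BT.node 504 (BT.node 501 (BT.node 500 (BT.node 499 (BT.leaf cJ499) (BT.leaf cJ500)) (BT.leaf cJ501)) (BT.node 503 (BT.node 502 (BT.leaf cJ502) (BT.leaf cJ503)) (BT.leaf cJ504))) (BT.node 507 (BT.node 506 (BT.node 505 (BT.leaf cJ505) (BT.leaf cJ506)) (BT.leaf cJ507)) (BT.node 509 (BT.node 508 (BT.leaf cJ508) (BT.leaf cJ509)) (BT.leaf cJ510)))) (BT.node 516 (BT.node 513 (BT.node 512 (BT.node 511 (BT.leaf cJ511) (BT.leaf cJ512)) (BT.leaf cJ513)) (BT.node 515 (BT.node 514 (BT.leaf cJ514) (BT.leaf cJ515)) (BT.leaf cJ516))) (BT.node 519 (BT.node 518 (BT.node 517 (BT.leaf cJ517) (BT.leaf cJ518)) (BT.leaf cJ519)) (BT.node 521 (BT.node 520 (BT.leaf cJ520) (BT.leaf cJ521)) (BT.leaf cJ522)))))) (BT.node 546 (BT.node 534 (BT.node 528 (BT.node 525 (BT.node 524 (BT.node 523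 (BT.leaf cJ523) (BT.leaf cJ524)) (BT.leaf cJ525)) (BT.node 527 (BT.node 526 (BT.leaf cJ526) (BT.leaf cJ527)) (BT.leaf cJ528))) (BT.node 531 (BT.node 530 (BT.node 529 (BT.leaf cJ529) (BT.leaf cJ530)) (BT.leaf cJ531)) (BT.node 533 (BT.node 532 (BT.leaf cJ532) (BT.leaf cJ533)) (BT.leaf cJ534)))) (BT.node 540 (BT.node 537 (BT.node 536 (BT.node 535 (BT.leaf cJ535) (BT.leaf cJ536)) (BT.leaf cJ537)) (BT.node 539 (BT.node 538 (BT.leaf cJ538) (BT.leaf cJ539)) (BT.leaf cJ540))) (BT.node 543 (BT.node 542 (BT.node 541 (BT.leaf cJ541) (BT.leaf cJ542)) (BT.leaf cJ543)) (BT.node 545 (BT.node 544 (BT.leaf cJ544) (BT.leaf cJ545)) (BT.leaf cJ546))))) (BT.node 558 (BT.node 552 (BT.node 549 (BT.node 548 (BT.node 547 (BT.leaf cJ547) (BT.leaf cJ548)) (BT.leaf cJ549)) (BT.node 551 (BT.node 550 (BT.leaf cJ550) (BT.leaf cJ551)) (BT.leaf cJ552))) (BT.node 555 (BT.node 554 (BT.node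 553 (BT.leaf cJ553) (BT.leaf cJ554)) (BT.leaf cJ555)) (BT.node 557 (BT.node 556 (BT.leaf cJ556) (BT.leaf cJ557)) (BT.leaf cJ558)))) (BT.node 564 (BT.node 561 (BT.node 560 (BT.node 559 (BT.leaf cJ559) (BT.leaf cJ560)) (BT.leaf cJ561)) (BT.node 563 (BT.node 562 (BT.leaf cJ562) (BT.leaf cJ563)) (BT.leaf cJ564))) (BT.node 567 (BT.node 566 (BT.node 565 (BT.leaf cJ565) (BT.leaf cJ566)) (BT.leaf cJ567)) (BT.node 568 (BT.leaf cJ568) (BT.leaf cJ569)))))))) (BT.node 664 (BT.node 617 (BT.node 593 (BT.node 581 (BT.node 575 (BT.node 572 (BT.node 571 (BT.node 570 (BT.leaf cJ570) (BT.leaf cJ571)) (BT.leaf cJ572)) (BT.node 574 (BT.node 573 (BT.leaf cJ573) (BT.leaf cJ574)) (BT.leaf cJ575))) (BT.node 578 (BT.node 577 (BT.node 576 (BT.leaf cJ576) (BT.leaf cJ577)) (BT.leaf cJ578)) (BT.node 580 (BT.node 579 (BT.leaf cJ579) (BT.leaf cJ580)) (BT.leaf cJ581)))) (BT.node 587 (BT.node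 584 (BT.node 583 (BT.node 582 (BT.leaf cJ582) (BT.leaf cJ583)) (BT.leaf cJ584)) (BT.node 586 (BT.node 585 (BT.leaf cJ585) (BT.leaf cJ586)) (BT.leaf cJ587))) (BT.node 590 (BT.node 589 (BT.node 588 (BT.leaf cJ588) (BT.leaf cJ589)) (BT.leaf cJ590)) (BT.node 592 (BT.node 591 (BT.leaf cJ591) (BT.leaf cJ592)) (BT.leaf cJ593))))) (BT.node 605 (BT.node 599 (BT.node 596 (BT.node 595 (BT.node 594 (BT.leaf cJ594) (BT.leaf cJ595)) (BT.leaf cJ596)) (BT.node 598 (BT.node 597 (BT.leaf cJ597) (BT.leaf cJ598)) (BT.leaf cJ599))) (BT.node 602 (BT.node 601 (BT.node 600 (BT.leaf cJ600) (BT.leaf cJ601)) (BT.leaf cJ602)) (BT.node 604 (BT.node 603 (BT.leaf cJ603) (BT.leaf cJ604)) (BT.leaf cJ605)))) (BT.node 611 (BT.node 608 (BT.node 607 (BT.node 606 (BT.leaf cJ606) (BT.leaf cJ607)) (BT.leaf cJ608)) (BT.node 610 (BT.node 609 (BT.leaf cJ609) (BT.leaf cJ610)) (BT.leaf cJ611))) (BT.node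 614 (BT.node 613 (BT.node 612 (BT.leaf cJ612) (BT.leaf cJ613)) (BT.leaf cJ614)) (BT.node 616 (BT.node 615 (BT.leaf cJ615) (BT.leaf cJ616)) (BT.leaf cJ617)))))) (BT.node 641 (BT.node 629 (BT.node 623 (BT.node 620 (BT.node 619 (BT.node 618 (BT.leaf cJ618) (BT.leaf cJ619)) (BT.leaf cJ620)) (BT.node 622 (BT.node 621 (BT.leaf cJ621) (BT.leaf cJ622)) (BT.leaf cJ623))) (BT.node 626 (BT.node 625 (BT.node 624 (BT.leaf cJ624) (BT.leaf cJ625)) (BT.leaf cJ626)) (BT.node 628 (BT.node 627 (BT.leaf cJ627) (BT.leaf cJ628)) (BT.leaf cJ629)))) (BT.node 635 (BT.node 632 (BT.node 631 (BT.node 630 (BT.leaf cJ630) (BT.leaf cJ631)) (BT.leaf cJ632)) (BT.node 634 (BT.node 633 (BT.leaf cJ633) (BT.leaf cJ634)) (BT.leaf cJ635))) (BT.node 638 (BT.node 637 (BT.node 636 (BT.leaf cJ636) (BT.leaf cJ637)) (BT.leaf cJ638)) (BT.node 640 (BT.node 639 (BT.leaf cJ639) (BT.leaf cJ640)) (BT.leaf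 cJ641))))) (BT.node 653 (BT.node 647 (BT.node 644 (BT.node 643 (BT.node 642 (BT.leaf cJ642) (BT.leaf cJ643)) (BT.leaf cJ644)) (BT.node 646 (BT.node 645 (BT.leaf cJ645) (BT.leaf cJ646)) (BT.leaf cJ647))) (BT.node 650 (BT.node 649 (BT.node 648 (BT.leaf cJ648) (BT.leaf cJ649)) (BT.leaf cJ650)) (BT.node 652 (BT.node 651 (BT.leaf cJ651) (BT.leaf cJ652)) (BT.leaf cJ653)))) (BT.node 659 (BT.node 656 (BT.node 655 (BT.node 654 (BT.leaf cJ654) (BT.leaf cJ655)) (BT.leaf cJ656)) (BT.node 658 (BT.node 657 (BT.leaf cJ657) (BT.leaf cJ658)) (BT.leaf cJ659))) (BT.node 662 (BT.node 661 (BT.node 660 (BT.leaf cJ660) (BT.leaf cJ661)) (BT.leaf cJ662)) (BT.node 663 (BT.leaf cJ663) (BT.leaf cJ664))))))) (BT.node 712 (BT.node 688 (BT.node 676 (BT.node 670 (BT.node 667 (BT.node 666 (BT.node 665 (BT.leaf cJ665) (BT.leaf cJ666)) (BT.leaf cJ667)) (BT.node 669 (BT.node 668 (BT.leaf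 cJ668) (BT.leaf cJ669)) (BT.leaf cJ670))) (BT.node 673 (BT.node 672 (BT.node 671 (BT.leaf cJ671) (BT.leaf cJ672)) (BT.leaf cJ673)) (BT.node 675 (BT.node 674 (BT.leaf cJ674) (BT.leaf cJ675)) (BT.leaf cJ676)))) (BT.node 682 (BT.node 679 (BT.node 678 (BT.node 677 (BT.leaf cJ677) (BT.leaf cJ678)) (BT.leaf cJ679)) (BT.node 681 (BT.node 680 (BT.leaf cJ680) (BT.leaf cJ681)) (BT.leaf cJ682))) (BT.node 685 (BT.node 684 (BT.node 683 (BT.leaf cJ683) (BT.leaf cJ684)) (BT.leaf cJ685)) (BT.node 687 (BT.node 686 (BT.leaf cJ686) (BT.leaf cJ687)) (BT.leaf cJ688))))) (BT.node 700 (BT.node 694 (BT.node 691 (BT.node 690 (BT.node 689 (BT.leaf cJ689) (BT.leaf cJ690)) (BT.leaf cJ691)) (BT.node 693 (BT.node 692 (BT.leaf cJ692) (BT.leaf cJ693)) (BT.leaf cJ694))) (BT.node 697 (BT.node 696 (BT.node 695 (BT.leaf cJ695) (BT.leaf cJ696)) (BT.leaf cJ697)) (BT.node 699 (BT.node 698 (BT.leaf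 cJ698) (BT.leaf cJ699)) (BT.leaf cJ700)))) (BT.node 706 (BT.node 703 (BT.node 702 (BT.node 701 (BT.leaf cJ701) (BT.leaf cJ702)) (BT.leaf cJ703)) (BT.node 705 (BT.node 704 (BT.leaf cJ704) (BT.leaf cJ705)) (BT.leaf cJ706))) (BT.node 709 (BT.node 708 (BT.node 707 (BT.leaf cJ707) (BT.leaf cJ708)) (BT.leaf cJ709)) (BT.node 711 (BT.node 710 (BT.leaf cJ710) (BT.leaf cJ711)) (BT.leaf cJ712)))))) (BT.node 736 (BT.node 724 (BT.node 718 (BT.node 715 (BT.node 714 (BT.node 713 (BT.leaf cJ713) (BT.leaf cJ714)) (BT.leaf cJ715)) (BT.node 717 (BT.node 716 (BT.leaf cJ716) (BT.leaf cJ717)) (BT.leaf cJ718))) (BT.node 721 (BT.node 720 (BT.node 719 (BT.leaf cJ719) (BT.leaf cJ720)) (BT.leaf cJ721)) (BT.node 723 (BT.node 722 (BT.leaf cJ722) (BT.leaf cJ723)) (BT.leaf cJ724)))) (BT.node 730 (BT.node 727 (BT.node 726 (BT.node 725 (BT.leaf cJ725) (BT.leaf cJ726)) (BT.leaf cJ727))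 (BT.node 729 (BT.node 728 (BT.leaf cJ728) (BT.leaf cJ729)) (BT.leaf cJ730))) (BT.node 733 (BT.node 732 (BT.node 731 (BT.leaf cJ731) (BT.leaf cJ732)) (BT.leaf cJ733)) (BT.node 735 (BT.node 734 (BT.leaf cJ734) (BT.leaf cJ735)) (BT.leaf cJ736))))) (BT.node 748 (BT.node 742 (BT.node 739 (BT.node 738 (BT.node 737 (BT.leaf cJ737) (BT.leaf cJ738)) (BT.leaf cJ739)) (BT.node 741 (BT.node 740 (BT.leaf cJ740) (BT.leaf cJ741)) (BT.leaf cJ742))) (BT.node 745 (BT.node 744 (BT.node 743 (BT.leaf cJ743) (BT.leaf cJ744)) (BT.leaf cJ745)) (BT.node 747 (BT.node 746 (BT.leaf cJ746) (BT.leaf cJ747)) (BT.leaf cJ748)))) (BT.node 754 (BT.node 751 (BT.node 750 (BT.node 749 (BT.leaf cJ749) (BT.leaf cJ750)) (BT.leaf cJ751)) (BT.node 753 (BT.node 752 (BT.leaf cJ752) (BT.leaf cJ753)) (BT.leaf cJ754))) (BT.node 757 (BT.node 756 (BT.node 755 (BT.leaf cJ755) (BT.leaf cJ756)) (BT.leaf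 cJ757)) (BT.node 758 (BT.leaf cJ758) (BT.leaf cJ759)))))))))) (BT.node 1139 (BT.node 949 (BT.node 854 (BT.node 807 (BT.node 783 (BT.node 771 (BT.node 765 (BT.node 762 (BT.node 761 (BT.node 760 (BT.leaf cJ760) (BT.leaf cJ761)) (BT.leaf cJ762)) (BT.node 764 (BT.node 763 (BT.leaf cJ763) (BT.leaf cJ764)) (BT.leaf cJ765))) (BT.node 768 (BT.node 767 (BT.node 766 (BT.leaf cJ766) (BT.leaf cJ767)) (BT.leaf cJ768)) (BT.node 770 (BT.node 769 (BT.leaf cJ769) (BT.leaf cJ770)) (BT.leaf cJ771)))) (BT.node 777 (BT.node 774 (BT.node 773 (BT.node 772 (BT.leaf cJ772) (BT.leaf cJ773)) (BT.leaf cJ774)) (BT.node 776 (BT.node 775 (BT.leaf cJ775) (BT.leaf cJ776)) (BT.leaf cJ777))) (BT.node 780 (BT.node 779 (BT.node 778 (BT.leaf cJ778) (BT.leaf cJ779)) (BT.leaf cJ780)) (BT.node 782 (BT.node 781 (BT.leaf cJ781) (BT.leaf cJ782)) (BT.leaf cJ783))))) (BT.node 795 (BT.node 789 (BT.node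 786 (BT.node 785 (BT.node 784 (BT.leaf cJ784) (BT.leaf cJ785)) (BT.leaf cJ786)) (BT.node 788 (BT.node 787 (BT.leaf cJ787) (BT.leaf cJ788)) (BT.leaf cJ789))) (BT.node 792 (BT.node 791 (BT.node 790 (BT.leaf cJ790) (BT.leaf cJ791)) (BT.leaf cJ792)) (BT.node 794 (BT.node 793 (BT.leaf cJ793) (BT.leaf cJ794)) (BT.leaf cJ795)))) (BT.node 801 (BT.node 798 (BT.node 797 (BT.node 796 (BT.leaf cJ796) (BT.leaf cJ797)) (BT.leaf cJ798)) (BT.node 800 (BT.node 799 (BT.leaf cJ799) (BT.leaf cJ800)) (BT.leaf cJ801))) (BT.node 804 (BT.node 803 (BT.node 802 (BT.leaf cJ802) (BT.leaf cJ803)) (BT.leaf cJ804)) (BT.node 806 (BT.node 805 (BT.leaf cJ805) (BT.leaf cJ806)) (BT.leaf cJ807)))))) (BT.node 831 (BT.node 819 (BT.node 813 (BT.node 810 (BT.node 809 (BT.node 808 (BT.leaf cJ808) (BT.leaf cJ809)) (BT.leaf cJ810)) (BT.node 812 (BT.node 811 (BT.leaf cJ811) (BT.leaf cJ812)) (BT.leaf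 cJ813))) (BT.node 816 (BT.node 815 (BT.node 814 (BT.leaf cJ814) (BT.leaf cJ815)) (BT.leaf cJ816)) (BT.node 818 (BT.node 817 (BT.leaf cJ817) (BT.leaf cJ818)) (BT.leaf cJ819)))) (BT.node 825 (BT.node 822 (BT.node 821 (BT.node 820 (BT.leaf cJ820) (BT.leaf cJ821)) (BT.leaf cJ822)) (BT.node 824 (BT.node 823 (BT.leaf cJ823) (BT.leaf cJ824)) (BT.leaf cJ825))) (BT.node 828 (BT.node 827 (BT.node 826 (BT.leaf cJ826) (BT.leaf cJ827)) (BT.leaf cJ828)) (BT.node 830 (BT.node 829 (BT.leaf cJ829) (BT.leaf cJ830)) (BT.leaf cJ831))))) (BT.node 843 (BT.node 837 (BT.node 834 (BT.node 833 (BT.node 832 (BT.leaf cJ832) (BT.leaf cJ833)) (BT.leaf cJ834)) (BT.node 836 (BT.node 835 (BT.leaf cJ835) (BT.leaf cJ836)) (BT.leaf cJ837))) (BT.node 840 (BT.node 839 (BT.node 838 (BT.leaf cJ838) (BT.leaf cJ839)) (BT.leaf cJ840)) (BT.node 842 (BT.node 841 (BT.leaf cJ841) (BT.leaf cJ842)) (BT.leaf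 cJ843)))) (BT.node 849 (BT.node 846 (BT.node 845 (BT.node 844 (BT.leaf cJ844) (BT.leaf cJ845)) (BT.leaf cJ846)) (BT.node 848 (BT.node 847 (BT.leaf cJ847) (BT.leaf cJ848)) (BT.leaf cJ849))) (BT.node 852 (BT.node 851 (BT.node 850 (BT.leaf cJ850) (BT.leaf cJ851)) (BT.leaf cJ852)) (BT.node 853 (BT.leaf cJ853) (BT.leaf cJ854))))))) (BT.node 902 (BT.node 878 (BT.node 866 (BT.node 860 (BT.node 857 (BT.node 856 (BT.node 855 (BT.leaf cJ855) (BT.leaf cJ856)) (BT.leaf cJ857)) (BT.node 859 (BT.node 858 (BT.leaf cJ858) (BT.leaf cJ859)) (BT.leaf cJ860))) (BT.node 863 (BT.node 862 (BT.node 861 (BT.leaf cJ861) (BT.leaf cJ862)) (BT.leaf cJ863)) (BT.node 865 (BT.node 864 (BT.leaf cJ864) (BT.leaf cJ865)) (BT.leaf cJ866)))) (BT.node 872 (BT.node 869 (BT.node 868 (BT.node 867 (BT.leaf cJ867) (BT.leaf cJ868)) (BT.leaf cJ869)) (BT.node 871 (BT.node 870 (BT.leaf cJ870) (BT.leaf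 cJ871)) (BT.leaf cJ872))) (BT.node 875 (BT.node 874 (BT.node 873 (BT.leaf cJ873) (BT.leaf cJ874)) (BT.leaf cJ875)) (BT.node 877 (BT.node 876 (BT.leaf cJ876) (BT.leaf cJ877)) (BT.leaf cJ878))))) (BT.node 890 (BT.node 884 (BT.node 881 (BT.node 880 (BT.node 879 (BT.leaf cJ879) (BT.leaf cJ880)) (BT.leaf cJ881)) (BT.node 883 (BT.node 882 (BT.leaf cJ882) (BT.leaf cJ883)) (BT.leaf cJ884))) (BT.node 887 (BT.node 886 (BT.node 885 (BT.leaf cJ885) (BT.leaf cJ886)) (BT.leaf cJ887)) (BT.node 889 (BT.node 888 (BT.leaf cJ888) (BT.leaf cJ889)) (BT.leaf cJ890)))) (BT.node 896 (BT.node 893 (BT.node 892 (BT.node 891 (BT.leaf cJ891) (BT.leaf cJ892)) (BT.leaf cJ893)) (BT.node 895 (BT.node 894 (BT.leaf cJ894) (BT.leaf cJ895)) (BT.leaf cJ896))) (BT.node 899 (BT.node 898 (BT.node 897 (BT.leaf cJ897) (BT.leaf cJ898)) (BT.leaf cJ899)) (BT.node 901 (BT.node 900 (BT.leaf cJ900) (BT.leaf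 cJ901)) (BT.leaf cJ902)))))) (BT.node 926 (BT.node 914 (BT.node 908 (BT.node 905 (BT.node 904 (BT.node 903 (BT.leaf cJ903) (BT.leaf cJ904)) (BT.leaf cJ905)) (BT.node 907 (BT.node 906 (BT.leaf cJ906) (BT.leaf cJ907)) (BT.leaf cJ908))) (BT.node 911 (BT.node 910 (BT.node 909 (BT.leaf cJ909) (BT.leaf cJ910)) (BT.leaf cJ911)) (BT.node 913 (BT.node 912 (BT.leaf cJ912) (BT.leaf cJ913)) (BT.leaf cJ914)))) (BT.node 920 (BT.node 917 (BT.node 916 (BT.node 915 (BT.leaf cJ915) (BT.leaf cJ916)) (BT.leaf cJ917)) (BT.node 919 (BT.node 918 (BT.leaf cJ918) (BT.leaf cJ919)) (BT.leaf cJ920))) (BT.node 923 (BT.node 922 (BT.node 921 (BT.leaf cJ921) (BT.leaf cJ922)) (BT.leaf cJ923)) (BT.node 925 (BT.node 924 (BT.leaf cJ924) (BT.leaf cJ925)) (BT.leaf cJ926))))) (BT.node 938 (BT.node 932 (BT.node 929 (BT.node 928 (BT.node 927 (BT.leaf cJ927) (BT.leaf cJ928)) (BT.leaf cJ929)) (BT.node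 931 (BT.node 930 (BT.leaf cJ930) (BT.leaf cJ931)) (BT.leaf cJ932))) (BT.node 935 (BT.node 934 (BT.node 933 (BT.leaf cJ933) (BT.leaf cJ934)) (BT.leaf cJ935)) (BT.node 937 (BT.node 936 (BT.leaf cJ936) (BT.leaf cJ937)) (BT.leaf cJ938)))) (BT.node 944 (BT.node 941 (BT.node 940 (BT.node 939 (BT.leaf cJ939) (BT.leaf cJ940)) (BT.leaf cJ941)) (BT.node 943 (BT.node 942 (BT.leaf cJ942) (BT.leaf cJ943)) (BT.leaf cJ944))) (BT.node 947 (BT.node 946 (BT.node 945 (BT.leaf cJ945) (BT.leaf cJ946)) (BT.leaf cJ947)) (BT.node 948 (BT.leaf cJ948) (BT.leaf cJ949)))))))) (BT.node 1044 (BT.node 997 (BT.node 973 (BT.node 961 (BT.node 955 (BT.node 952 (BT.node 951 (BT.node 950 (BT.leaf cJ950) (BT.leaf cJ951)) (BT.leaf cJ952)) (BT.node 954 (BT.node 953 (BT.leaf cJ953) (BT.leaf cJ954)) (BT.leaf cJ955))) (BT.node 958 (BT.node 957 (BT.node 956 (BT.leaf cJ956) (BT.leaf cJ957)) (BT.leaf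 cJ958)) (BT.node 960 (BT.node 959 (BT.leaf cJ959) (BT.leaf cJ960)) (BT.leaf cJ961)))) (BT.node 967 (BT.node 964 (BT.node 963 (BT.node 962 (BT.leaf cJ962) (BT.leaf cJ963)) (BT.leaf cJ964)) (BT.node 966 (BT.node 965 (BT.leaf cJ965) (BT.leaf cJ966)) (BT.leaf cJ967))) (BT.node 970 (BT.node 969 (BT.node 968 (BT.leaf cJ968) (BT.leaf cJ969)) (BT.leaf cJ970)) (BT.node 972 (BT.node 971 (BT.leaf cJ971) (BT.leaf cJ972)) (BT.leaf cJ973))))) (BT.node 985 (BT.node 979 (BT.node 976 (BT.node 975 (BT.node 974 (BT.leaf cJ974) (BT.leaf cJ975)) (BT.leaf cJ976)) (BT.node 978 (BT.node 977 (BT.leaf cJ977) (BT.leaf cJ978)) (BT.leaf cJ979))) (BT.node 982 (BT.node 981 (BT.node 980 (BT.leaf cJ980) (BT.leaf cJ981)) (BT.leaf cJ982)) (BT.node 984 (BT.node 983 (BT.leaf cJ983) (BT.leaf cJ984)) (BT.leaf cJ985)))) (BT.node 991 (BT.node 988 (BT.node 987 (BT.node 986 (BT.leaf cJ986) (BT.leaf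 cJ987)) (BT.leaf cJ988)) (BT.node 990 (BT.node 989 (BT.leaf cJ989) (BT.leaf cJ990)) (BT.leaf cJ991))) (BT.node 994 (BT.node 993 (BT.node 992 (BT.leaf cJ992) (BT.leaf cJ993)) (BT.leaf cJ994)) (BT.node 996 (BT.node 995 (BT.leaf cJ995) (BT.leaf cJ996)) (BT.leaf cJ997)))))) (BT.node 1021 (BT.node 1009 (BT.node 1003 (BT.node 1000 (BT.node 999 (BT.node 998 (BT.leaf cJ998) (BT.leaf cJ999)) (BT.leaf cJ1000)) (BT.node 1002 (BT.node 1001 (BT.leaf cJ1001) (BT.leaf cJ1002)) (BT.leaf cJ1003))) (BT.node 1006 (BT.node 1005 (BT.node 1004 (BT.leaf cJ1004) (BT.leaf cJ1005)) (BT.leaf cJ1006)) (BT.node 1008 (BT.node 1007 (BT.leaf cJ1007) (BT.leaf cJ1008)) (BT.leaf cJ1009)))) (BT.node 1015 (BT.node 1012 (BT.node 1011 (BT.node 1010 (BT.leaf cJ1010) (BT.leaf cJ1011)) (BT.leaf cJ1012)) (BT.node 1014 (BT.node 1013 (BT.leaf cJ1013) (BT.leaf cJ1014)) (BT.leaf cJ1015))) (BT.node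 1018 (BT.node 1017 (BT.node 1016 (BT.leaf cJ1016) (BT.leaf cJ1017)) (BT.leaf cJ1018)) (BT.node 1020 (BT.node 1019 (BT.leaf cJ1019) (BT.leaf cJ1020)) (BT.leaf cJ1021))))) (BT.node 1033 (BT.node 1027 (BT.node 1024 (BT.node 1023 (BT.node 1022 (BT.leaf cJ1022) (BT.leaf cJ1023)) (BT.leaf cJ1024)) (BT.node 1026 (BT.node 1025 (BT.leaf cJ1025) (BT.leaf cJ1026)) (BT.leaf cJ1027))) (BT.node 1030 (BT.node 1029 (BT.node 1028 (BT.leaf cJ1028) (BT.leaf cJ1029)) (BT.leaf cJ1030)) (BT.node 1032 (BT.node 1031 (BT.leaf cJ1031) (BT.leaf cJ1032)) (BT.leaf cJ1033)))) (BT.node 1039 (BT.node 1036 (BT.node 1035 (BT.node 1034 (BT.leaf cJ1034) (BT.leaf cJ1035)) (BT.leaf cJ1036)) (BT.node 1038 (BT.node 1037 (BT.leaf cJ1037) (BT.leaf cJ1038)) (BT.leaf cJ1039))) (BT.node 1042 (BT.node 1041 (BT.node 1040 (BT.leaf cJ1040) (BT.leaf cJ1041)) (BT.leaf cJ1042)) (BT.node 1043 (BT.leaf cJ1043)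 (BT.leaf cJ1044))))))) (BT.node 1092 (BT.node 1068 (BT.node 1056 (BT.node 1050 (BT.node 1047 (BT.node 1046 (BT.node 1045 (BT.leaf cJ1045) (BT.leaf cJ1046)) (BT.leaf cJ1047)) (BT.node 1049 (BT.node 1048 (BT.leaf cJ1048) (BT.leaf cJ1049)) (BT.leaf cJ1050))) (BT.node 1053 (BT.node 1052 (BT.node 1051 (BT.leaf cJ1051) (BT.leaf cJ1052)) (BT.leaf cJ1053)) (BT.node 1055 (BT.node 1054 (BT.leaf cJ1054) (BT.leaf cJ1055)) (BT.leaf cJ1056)))) (BT.node 1062 (BT.node 1059 (BT.node 1058 (BT.node 1057 (BT.leaf cJ1057) (BT.leaf cJ1058)) (BT.leaf cJ1059)) (BT.node 1061 (BT.node 1060 (BT.leaf cJ1060) (BT.leaf cJ1061)) (BT.leaf cJ1062))) (BT.node 1065 (BT.node 1064 (BT.node 1063 (BT.leaf cJ1063) (BT.leaf cJ1064)) (BT.leaf cJ1065)) (BT.node 1067 (BT.node 1066 (BT.leaf cJ1066) (BT.leaf cJ1067)) (BT.leaf cJ1068))))) (BT.node 1080 (BT.node 1074 (BT.node 1071 (BT.node 1070 (BT.node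 1069 (BT.leaf cJ1069) (BT.leaf cJ1070)) (BT.leaf cJ1071)) (BT.node 1073 (BT.node 1072 (BT.leaf cJ1072) (BT.leaf cJ1073)) (BT.leaf cJ1074))) (BT.node 1077 (BT.node 1076 (BT.node 1075 (BT.leaf cJ1075) (BT.leaf cJ1076)) (BT.leaf cJ1077)) (BT.node 1079 (BT.node 1078 (BT.leaf cJ1078) (BT.leaf cJ1079)) (BT.leaf cJ1080)))) (BT.node 1086 (BT.node 1083 (BT.node 1082 (BT.node 1081 (BT.leaf cJ1081) (BT.leaf cJ1082)) (BT.leaf cJ1083)) (BT.node 1085 (BT.node 1084 (BT.leaf cJ1084) (BT.leaf cJ1085)) (BT.leaf cJ1086))) (BT.node 1089 (BT.node 1088 (BT.node 1087 (BT.leaf cJ1087) (BT.leaf cJ1088)) (BT.leaf cJ1089)) (BT.node 1091 (BT.node 1090 (BT.leaf cJ1090) (BT.leaf cJ1091)) (BT.leaf cJ1092)))))) (BT.node 1116 (BT.node 1104 (BT.node 1098 (BT.node 1095 (BT.node 1094 (BT.node 1093 (BT.leaf cJ1093) (BT.leaf cJ1094)) (BT.leaf cJ1095)) (BT.node 1097 (BT.node 1096 (BT.leaf cJ1096)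 (BT.leaf cJ1097)) (BT.leaf cJ1098))) (BT.node 1101 (BT.node 1100 (BT.node 1099 (BT.leaf cJ1099) (BT.leaf cJ1100)) (BT.leaf cJ1101)) (BT.node 1103 (BT.node 1102 (BT.leaf cJ1102) (BT.leaf cJ1103)) (BT.leaf cJ1104)))) (BT.node 1110 (BT.node 1107 (BT.node 1106 (BT.node 1105 (BT.leaf cJ1105) (BT.leaf cJ1106)) (BT.leaf cJ1107)) (BT.node 1109 (BT.node 1108 (BT.leaf cJ1108) (BT.leaf cJ1109)) (BT.leaf cJ1110))) (BT.node 1113 (BT.node 1112 (BT.node 1111 (BT.leaf cJ1111) (BT.leaf cJ1112)) (BT.leaf cJ1113)) (BT.node 1115 (BT.node 1114 (BT.leaf cJ1114) (BT.leaf cJ1115)) (BT.leaf cJ1116))))) (BT.node 1128 (BT.node 1122 (BT.node 1119 (BT.node 1118 (BT.node 1117 (BT.leaf cJ1117) (BT.leaf cJ1118)) (BT.leaf cJ1119)) (BT.node 1121 (BT.node 1120 (BT.leaf cJ1120) (BT.leaf cJ1121)) (BT.leaf cJ1122))) (BT.node 1125 (BT.node 1124 (BT.node 1123 (BT.leaf cJ1123) (BT.leaf cJ1124))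 (BT.leaf cJ1125)) (BT.node 1127 (BT.node 1126 (BT.leaf cJ1126) (BT.leaf cJ1127)) (BT.leaf cJ1128)))) (BT.node 1134 (BT.node 1131 (BT.node 1130 (BT.node 1129 (BT.leaf cJ1129) (BT.leaf cJ1130)) (BT.leaf cJ1131)) (BT.node 1133 (BT.node 1132 (BT.leaf cJ1132) (BT.leaf cJ1133)) (BT.leaf cJ1134))) (BT.node 1137 (BT.node 1136 (BT.node 1135 (BT.leaf cJ1135) (BT.leaf cJ1136)) (BT.leaf cJ1137)) (BT.node 1138 (BT.leaf cJ1138) (BT.leaf cJ1139))))))))) (BT.node 1329 (BT.node 1234 (BT.node 1187 (BT.node 1163 (BT.node 1151 (BT.node 1145 (BT.node 1142 (BT.node 1141 (BT.node 1140 (BT.leaf cJ1140) (BT.leaf cJ1141)) (BT.leaf cJ1142)) (BT.node 1144 (BT.node 1143 (BT.leaf cJ1143) (BT.leaf cJ1144)) (BT.leaf cJ1145))) (BT.node 1148 (BT.node 1147 (BT.node 1146 (BT.leaf cJ1146) (BT.leaf cJ1147)) (BT.leaf cJ1148)) (BT.node 1150 (BT.node 1149 (BT.leaf cJ1149) (BT.leaf cJ1150)) (BT.leaf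 cJ1151)))) (BT.node 1157 (BT.node 1154 (BT.node 1153 (BT.node 1152 (BT.leaf cJ1152) (BT.leaf cJ1153)) (BT.leaf cJ1154)) (BT.node 1156 (BT.node 1155 (BT.leaf cJ1155) (BT.leaf cJ1156)) (BT.leaf cJ1157))) (BT.node 1160 (BT.node 1159 (BT.node 1158 (BT.leaf cJ1158) (BT.leaf cJ1159)) (BT.leaf cJ1160)) (BT.node 1162 (BT.node 1161 (BT.leaf cJ1161) (BT.leaf cJ1162)) (BT.leaf cJ1163))))) (BT.node 1175 (BT.node 1169 (BT.node 1166 (BT.node 1165 (BT.node 1164 (BT.leaf cJ1164) (BT.leaf cJ1165)) (BT.leaf cJ1166)) (BT.node 1168 (BT.node 1167 (BT.leaf cJ1167) (BT.leaf cJ1168)) (BT.leaf cJ1169))) (BT.node 1172 (BT.node 1171 (BT.node 1170 (BT.leaf cJ1170) (BT.leaf cJ1171)) (BT.leaf cJ1172)) (BT.node 1174 (BT.node 1173 (BT.leaf cJ1173) (BT.leaf cJ1174)) (BT.leaf cJ1175)))) (BT.node 1181 (BT.node 1178 (BT.node 1177 (BT.node 1176 (BT.leaf cJ1176) (BT.leaf cJ1177)) (BT.leaf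 cJ1178)) (BT.node 1180 (BT.node 1179 (BT.leaf cJ1179) (BT.leaf cJ1180)) (BT.leaf cJ1181))) (BT.node 1184 (BT.node 1183 (BT.node 1182 (BT.leaf cJ1182) (BT.leaf cJ1183)) (BT.leaf cJ1184)) (BT.node 1186 (BT.node 1185 (BT.leaf cJ1185) (BT.leaf cJ1186)) (BT.leaf cJ1187)))))) (BT.node 1211 (BT.node 1199 (BT.node 1193 (BT.node 1190 (BT.node 1189 (BT.node 1188 (BT.leaf cJ1188) (BT.leaf cJ1189)) (BT.leaf cJ1190)) (BT.node 1192 (BT.node 1191 (BT.leaf cJ1191) (BT.leaf cJ1192)) (BT.leaf cJ1193))) (BT.node 1196 (BT.node 1195 (BT.node 1194 (BT.leaf cJ1194) (BT.leaf cJ1195)) (BT.leaf cJ1196)) (BT.node 1198 (BT.node 1197 (BT.leaf cJ1197) (BT.leaf cJ1198)) (BT.leaf cJ1199)))) (BT.node 1205 (BT.node 1202 (BT.node 1201 (BT.node 1200 (BT.leaf cJ1200) (BT.leaf cJ1201)) (BT.leaf cJ1202)) (BT.node 1204 (BT.node 1203 (BT.leaf cJ1203) (BT.leaf cJ1204)) (BT.leaf cJ1205))) (BT.node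 1208 (BT.node 1207 (BT.node 1206 (BT.leaf cJ1206) (BT.leaf cJ1207)) (BT.leaf cJ1208)) (BT.node 1210 (BT.node 1209 (BT.leaf cJ1209) (BT.leaf cJ1210)) (BT.leaf cJ1211))))) (BT.node 1223 (BT.node 1217 (BT.node 1214 (BT.node 1213 (BT.node 1212 (BT.leaf cJ1212) (BT.leaf cJ1213)) (BT.leaf cJ1214)) (BT.node 1216 (BT.node 1215 (BT.leaf cJ1215) (BT.leaf cJ1216)) (BT.leaf cJ1217))) (BT.node 1220 (BT.node 1219 (BT.node 1218 (BT.leaf cJ1218) (BT.leaf cJ1219)) (BT.leaf cJ1220)) (BT.node 1222 (BT.node 1221 (BT.leaf cJ1221) (BT.leaf cJ1222)) (BT.leaf cJ1223)))) (BT.node 1229 (BT.node 1226 (BT.node 1225 (BT.node 1224 (BT.leaf cJ1224) (BT.leaf cJ1225)) (BT.leaf cJ1226)) (BT.node 1228 (BT.node 1227 (BT.leaf cJ1227) (BT.leaf cJ1228)) (BT.leaf cJ1229))) (BT.node 1232 (BT.node 1231 (BT.node 1230 (BT.leaf cJ1230) (BT.leaf cJ1231)) (BT.leaf cJ1232)) (BT.node 1233 (BT.leaf cJ1233)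 (BT.leaf cJ1234))))))) (BT.node 1282 (BT.node 1258 (BT.node 1246 (BT.node 1240 (BT.node 1237 (BT.node 1236 (BT.node 1235 (BT.leaf cJ1235) (BT.leaf cJ1236)) (BT.leaf cJ1237)) (BT.node 1239 (BT.node 1238 (BT.leaf cJ1238) (BT.leaf cJ1239)) (BT.leaf cJ1240))) (BT.node 1243 (BT.node 1242 (BT.node 1241 (BT.leaf cJ1241) (BT.leaf cJ1242)) (BT.leaf cJ1243)) (BT.node 1245 (BT.node 1244 (BT.leaf cJ1244) (BT.leaf cJ1245)) (BT.leaf cJ1246)))) (BT.node 1252 (BT.node 1249 (BT.node 1248 (BT.node 1247 (BT.leaf cJ1247) (BT.leaf cJ1248)) (BT.leaf cJ1249)) (BT.node 1251 (BT.node 1250 (BT.leaf cJ1250) (BT.leaf cJ1251)) (BT.leaf cJ1252))) (BT.node 1255 (BT.node 1254 (BT.node 1253 (BT.leaf cJ1253) (BT.leaf cJ1254)) (BT.leaf cJ1255)) (BT.node 1257 (BT.node 1256 (BT.leaf cJ1256) (BT.leaf cJ1257)) (BT.leaf cJ1258))))) (BT.node 1270 (BT.node 1264 (BT.node 1261 (BT.node 1260 (BT.node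 1259 (BT.leaf cJ1259) (BT.leaf cJ1260)) (BT.leaf cJ1261)) (BT.node 1263 (BT.node 1262 (BT.leaf cJ1262) (BT.leaf cJ1263)) (BT.leaf cJ1264))) (BT.node 1267 (BT.node 1266 (BT.node 1265 (BT.leaf cJ1265) (BT.leaf cJ1266)) (BT.leaf cJ1267)) (BT.node 1269 (BT.node 1268 (BT.leaf cJ1268) (BT.leaf cJ1269)) (BT.leaf cJ1270)))) (BT.node 1276 (BT.node 1273 (BT.node 1272 (BT.node 1271 (BT.leaf cJ1271) (BT.leaf cJ1272)) (BT.leaf cJ1273)) (BT.node 1275 (BT.node 1274 (BT.leaf cJ1274) (BT.leaf cJ1275)) (BT.leaf cJ1276))) (BT.node 1279 (BT.node 1278 (BT.node 1277 (BT.leaf cJ1277) (BT.leaf cJ1278)) (BT.leaf cJ1279)) (BT.node 1281 (BT.node 1280 (BT.leaf cJ1280) (BT.leaf cJ1281)) (BT.leaf cJ1282)))))) (BT.node 1306 (BT.node 1294 (BT.node 1288 (BT.node 1285 (BT.node 1284 (BT.node 1283 (BT.leaf cJ1283) (BT.leaf cJ1284)) (BT.leaf cJ1285)) (BT.node 1287 (BT.node 1286 (BT.leaf cJ1286)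 (BT.leaf cJ1287)) (BT.leaf cJ1288))) (BT.node 1291 (BT.node 1290 (BT.node 1289 (BT.leaf cJ1289) (BT.leaf cJ1290)) (BT.leaf cJ1291)) (BT.node 1293 (BT.node 1292 (BT.leaf cJ1292) (BT.leaf cJ1293)) (BT.leaf cJ1294)))) (BT.node 1300 (BT.node 1297 (BT.node 1296 (BT.node 1295 (BT.leaf cJ1295) (BT.leaf cJ1296)) (BT.leaf cJ1297)) (BT.node 1299 (BT.node 1298 (BT.leaf cJ1298) (BT.leaf cJ1299)) (BT.leaf cJ1300))) (BT.node 1303 (BT.node 1302 (BT.node 1301 (BT.leaf cJ1301) (BT.leaf cJ1302)) (BT.leaf cJ1303)) (BT.node 1305 (BT.node 1304 (BT.leaf cJ1304) (BT.leaf cJ1305)) (BT.leaf cJ1306))))) (BT.node 1318 (BT.node 1312 (BT.node 1309 (BT.node 1308 (BT.node 1307 (BT.leaf cJ1307) (BT.leaf cJ1308)) (BT.leaf cJ1309)) (BT.node 1311 (BT.node 1310 (BT.leaf cJ1310) (BT.leaf cJ1311)) (BT.leaf cJ1312))) (BT.node 1315 (BT.node 1314 (BT.node 1313 (BT.leaf cJ1313) (BT.leaf cJ1314))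 (BT.leaf cJ1315)) (BT.node 1317 (BT.node 1316 (BT.leaf cJ1316) (BT.leaf cJ1317)) (BT.leaf cJ1318)))) (BT.node 1324 (BT.node 1321 (BT.node 1320 (BT.node 1319 (BT.leaf cJ1319) (BT.leaf cJ1320)) (BT.leaf cJ1321)) (BT.node 1323 (BT.node 1322 (BT.leaf cJ1322) (BT.leaf cJ1323)) (BT.leaf cJ1324))) (BT.node 1327 (BT.node 1326 (BT.node 1325 (BT.leaf cJ1325) (BT.leaf cJ1326)) (BT.leaf cJ1327)) (BT.node 1328 (BT.leaf cJ1328) (BT.leaf cJ1329)))))))) (BT.node 1424 (BT.node 1377 (BT.node 1353 (BT.node 1341 (BT.node 1335 (BT.node 1332 (BT.node 1331 (BT.node 1330 (BT.leaf cJ1330) (BT.leaf cJ1331)) (BT.leaf cJ1332)) (BT.node 1334 (BT.node 1333 (BT.leaf cJ1333) (BT.leaf cJ1334)) (BT.leaf cJ1335))) (BT.node 1338 (BT.node 1337 (BT.node 1336 (BT.leaf cJ1336) (BT.leaf cJ1337)) (BT.leaf cJ1338)) (BT.node 1340 (BT.node 1339 (BT.leaf cJ1339) (BT.leaf cJ1340)) (BT.leaf cJ1341))))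 (BT.node 1347 (BT.node 1344 (BT.node 1343 (BT.node 1342 (BT.leaf cJ1342) (BT.leaf cJ1343)) (BT.leaf cJ1344)) (BT.node 1346 (BT.node 1345 (BT.leaf cJ1345) (BT.leaf cJ1346)) (BT.leaf cJ1347))) (BT.node 1350 (BT.node 1349 (BT.node 1348 (BT.leaf cJ1348) (BT.leaf cJ1349)) (BT.leaf cJ1350)) (BT.node 1352 (BT.node 1351 (BT.leaf cJ1351) (BT.leaf cJ1352)) (BT.leaf cJ1353))))) (BT.node 1365 (BT.node 1359 (BT.node 1356 (BT.node 1355 (BT.node 1354 (BT.leaf cJ1354) (BT.leaf cJ1355)) (BT.leaf cJ1356)) (BT.node 1358 (BT.node 1357 (BT.leaf cJ1357) (BT.leaf cJ1358)) (BT.leaf cJ1359))) (BT.node 1362 (BT.node 1361 (BT.node 1360 (BT.leaf cJ1360) (BT.leaf cJ1361)) (BT.leaf cJ1362)) (BT.node 1364 (BT.node 1363 (BT.leaf cJ1363) (BT.leaf cJ1364)) (BT.leaf cJ1365)))) (BT.node 1371 (BT.node 1368 (BT.node 1367 (BT.node 1366 (BT.leaf cJ1366) (BT.leaf cJ1367)) (BT.leaf cJ1368)) (BT.node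 1370 (BT.node 1369 (BT.leaf cJ1369) (BT.leaf cJ1370)) (BT.leaf cJ1371))) (BT.node 1374 (BT.node 1373 (BT.node 1372 (BT.leaf cJ1372) (BT.leaf cJ1373)) (BT.leaf cJ1374)) (BT.node 1376 (BT.node 1375 (BT.leaf cJ1375) (BT.leaf cJ1376)) (BT.leaf cJ1377)))))) (BT.node 1401 (BT.node 1389 (BT.node 1383 (BT.node 1380 (BT.node 1379 (BT.node 1378 (BT.leaf cJ1378) (BT.leaf cJ1379)) (BT.leaf cJ1380)) (BT.node 1382 (BT.node 1381 (BT.leaf cJ1381) (BT.leaf cJ1382)) (BT.leaf cJ1383))) (BT.node 1386 (BT.node 1385 (BT.node 1384 (BT.leaf cJ1384) (BT.leaf cJ1385)) (BT.leaf cJ1386)) (BT.node 1388 (BT.node 1387 (BT.leaf cJ1387) (BT.leaf cJ1388)) (BT.leaf cJ1389)))) (BT.node 1395 (BT.node 1392 (BT.node 1391 (BT.node 1390 (BT.leaf cJ1390) (BT.leaf cJ1391)) (BT.leaf cJ1392)) (BT.node 1394 (BT.node 1393 (BT.leaf cJ1393) (BT.leaf cJ1394)) (BT.leaf cJ1395))) (BT.node 1398 (BT.node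 1397 (BT.node 1396 (BT.leaf cJ1396) (BT.leaf cJ1397)) (BT.leaf cJ1398)) (BT.node 1400 (BT.node 1399 (BT.leaf cJ1399) (BT.leaf cJ1400)) (BT.leaf cJ1401))))) (BT.node 1413 (BT.node 1407 (BT.node 1404 (BT.node 1403 (BT.node 1402 (BT.leaf cJ1402) (BT.leaf cJ1403)) (BT.leaf cJ1404)) (BT.node 1406 (BT.node 1405 (BT.leaf cJ1405) (BT.leaf cJ1406)) (BT.leaf cJ1407))) (BT.node 1410 (BT.node 1409 (BT.node 1408 (BT.leaf cJ1408) (BT.leaf cJ1409)) (BT.leaf cJ1410)) (BT.node 1412 (BT.node 1411 (BT.leaf cJ1411) (BT.leaf cJ1412)) (BT.leaf cJ1413)))) (BT.node 1419 (BT.node 1416 (BT.node 1415 (BT.node 1414 (BT.leaf cJ1414) (BT.leaf cJ1415)) (BT.leaf cJ1416)) (BT.node 1418 (BT.node 1417 (BT.leaf cJ1417) (BT.leaf cJ1418)) (BT.leaf cJ1419))) (BT.node 1422 (BT.node 1421 (BT.node 1420 (BT.leaf cJ1420) (BT.leaf cJ1421)) (BT.leaf cJ1422)) (BT.node 1423 (BT.leaf cJ1423) (BT.leaf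 cJ1424))))))) (BT.node 1472 (BT.node 1448 (BT.node 1436 (BT.node 1430 (BT.node 1427 (BT.node 1426 (BT.node 1425 (BT.leaf cJ1425) (BT.leaf cJ1426)) (BT.leaf cJ1427)) (BT.node 1429 (BT.node 1428 (BT.leaf cJ1428) (BT.leaf cJ1429)) (BT.leaf cJ1430))) (BT.node 1433 (BT.node 1432 (BT.node 1431 (BT.leaf cJ1431) (BT.leaf cJ1432)) (BT.leaf cJ1433)) (BT.node 1435 (BT.node 1434 (BT.leaf cJ1434) (BT.leaf cJ1435)) (BT.leaf cJ1436)))) (BT.node 1442 (BT.node 1439 (BT.node 1438 (BT.node 1437 (BT.leaf cJ1437) (BT.leaf cJ1438)) (BT.leaf cJ1439)) (BT.node 1441 (BT.node 1440 (BT.leaf cJ1440) (BT.leaf cJ1441)) (BT.leaf cJ1442))) (BT.node 1445 (BT.node 1444 (BT.node 1443 (BT.leaf cJ1443) (BT.leaf cJ1444)) (BT.leaf cJ1445)) (BT.node 1447 (BT.node 1446 (BT.leaf cJ1446) (BT.leaf cJ1447)) (BT.leaf cJ1448))))) (BT.node 1460 (BT.node 1454 (BT.node 1451 (BT.node 1450 (BT.node 1449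 (BT.leaf cJ1449) (BT.leaf cJ1450)) (BT.leaf cJ1451)) (BT.node 1453 (BT.node 1452 (BT.leaf cJ1452) (BT.leaf cJ1453)) (BT.leaf cJ1454))) (BT.node 1457 (BT.node 1456 (BT.node 1455 (BT.leaf cJ1455) (BT.leaf cJ1456)) (BT.leaf cJ1457)) (BT.node 1459 (BT.node 1458 (BT.leaf cJ1458) (BT.leaf cJ1459)) (BT.leaf cJ1460)))) (BT.node 1466 (BT.node 1463 (BT.node 1462 (BT.node 1461 (BT.leaf cJ1461) (BT.leaf cJ1462)) (BT.leaf cJ1463)) (BT.node 1465 (BT.node 1464 (BT.leaf cJ1464) (BT.leaf cJ1465)) (BT.leaf cJ1466))) (BT.node 1469 (BT.node 1468 (BT.node 1467 (BT.leaf cJ1467) (BT.leaf cJ1468)) (BT.leaf cJ1469)) (BT.node 1471 (BT.node 1470 (BT.leaf cJ1470) (BT.leaf cJ1471)) (BT.leaf cJ1472)))))) (BT.node 1496 (BT.node 1484 (BT.node 1478 (BT.node 1475 (BT.node 1474 (BT.node 1473 (BT.leaf cJ1473) (BT.leaf cJ1474)) (BT.leaf cJ1475)) (BT.node 1477 (BT.node 1476 (BT.leaf cJ1476)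 (BT.leaf cJ1477)) (BT.leaf cJ1478))) (BT.node 1481 (BT.node 1480 (BT.node 1479 (BT.leaf cJ1479) (BT.leaf cJ1480)) (BT.leaf cJ1481)) (BT.node 1483 (BT.node 1482 (BT.leaf cJ1482) (BT.leaf cJ1483)) (BT.leaf cJ1484)))) (BT.node 1490 (BT.node 1487 (BT.node 1486 (BT.node 1485 (BT.leaf cJ1485) (BT.leaf cJ1486)) (BT.leaf cJ1487)) (BT.node 1489 (BT.node 1488 (BT.leaf cJ1488) (BT.leaf cJ1489)) (BT.leaf cJ1490))) (BT.node 1493 (BT.node 1492 (BT.node 1491 (BT.leaf cJ1491) (BT.leaf cJ1492)) (BT.leaf cJ1493)) (BT.node 1495 (BT.node 1494 (BT.leaf cJ1494) (BT.leaf cJ1495)) (BT.leaf cJ1496))))) (BT.node 1508 (BT.node 1502 (BT.node 1499 (BT.node 1498 (BT.node 1497 (BT.leaf cJ1497) (BT.leaf cJ1498)) (BT.leaf cJ1499)) (BT.node 1501 (BT.node 1500 (BT.leaf cJ1500) (BT.leaf cJ1501)) (BT.leaf cJ1502))) (BT.node 1505 (BT.node 1504 (BT.node 1503 (BT.leaf cJ1503) (BT.leaf cJ1504))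 (BT.leaf cJ1505)) (BT.node 1507 (BT.node 1506 (BT.leaf cJ1506) (BT.leaf cJ1507)) (BT.leaf cJ1508)))) (BT.node 1514 (BT.node 1511 (BT.node 1510 (BT.node 1509 (BT.leaf cJ1509) (BT.leaf cJ1510)) (BT.leaf cJ1511)) (BT.node 1513 (BT.node 1512 (BT.leaf cJ1512) (BT.leaf cJ1513)) (BT.leaf cJ1514))) (BT.node 1517 (BT.node 1516 (BT.node 1515 (BT.leaf cJ1515) (BT.leaf cJ1516)) (BT.leaf cJ1517)) (BT.node 1518 (BT.leaf cJ1518) (BT.leaf cJ1519)))))))))))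
/-- parent chunks -/
def parCT : BT ℕ := (BT.node 75 (BT.node 37 (BT.node 18 (BT.node 9 (BT.node 4 (BT.node 2 (BT.node 1 (BT.node 0 (BT.leaf cP0) (BT.leaf cP1)) (BT.leaf cP2)) (BT.node 3 (BT.leaf cP3) (BT.leaf cP4))) (BT.node 7 (BT.node 6 (BT.node 5 (BT.leaf cP5) (BT.leaf cP6)) (BT.leaf cP7)) (BT.node 8 (BT.leaf cP8) (BT.leaf cP9)))) (BT.node 14 (BT.node 12 (BT.node 11 (BT.node 10 (BT.leaf cP10) (BT.leaf cP11)) (BT.leaf cP12)) (BT.node 13 (BT.leaf cP13) (BT.leaf cP14))) (BT.node 16 (BT.node 15 (BT.leaf cP15) (BT.leaf cP16)) (BT.node 17 (BT.leaf cP17) (BT.leaf cP18))))) (BT.node 28 (BT.node 23 (BT.node 21 (BT.node 20 (BT.node 19 (BT.leaf cP19) (BT.leaf cP20)) (BT.leaf cP21)) (BT.node 22 (BT.leaf cP22) (BT.leaf cP23))) (BT.node 26 (BT.node 25 (BT.node 24 (BT.leaf cP24) (BT.leaf cP25)) (BT.leaf cP26)) (BT.node 27 (BT.leaf cP27) (BT.leaf cP28)))) (BT.node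 33 (BT.node 31 (BT.node 30 (BT.node 29 (BT.leaf cP29) (BT.leaf cP30)) (BT.leaf cP31)) (BT.node 32 (BT.leaf cP32) (BT.leaf cP33))) (BT.node 35 (BT.node 34 (BT.leaf cP34) (BT.leaf cP35)) (BT.node 36 (BT.leaf cP36) (BT.leaf cP37)))))) (BT.node 56 (BT.node 47 (BT.node 42 (BT.node 40 (BT.node 39 (BT.node 38 (BT.leaf cP38) (BT.leaf cP39)) (BT.leaf cP40)) (BT.node 41 (BT.leaf cP41) (BT.leaf cP42))) (BT.node 45 (BT.node 44 (BT.node 43 (BT.leaf cP43) (BT.leaf cP44)) (BT.leaf cP45)) (BT.node 46 (BT.leaf cP46) (BT.leaf cP47)))) (BT.node 52 (BT.node 50 (BT.node 49 (BT.node 48 (BT.leaf cP48) (BT.leaf cP49)) (BT.leaf cP50)) (BT.node 51 (BT.leaf cP51) (BT.leaf cP52))) (BT.node 54 (BT.node 53 (BT.leaf cP53) (BT.leaf cP54)) (BT.node 55 (BT.leaf cP55) (BT.leaf cP56))))) (BT.node 66 (BT.node 61 (BT.node 59 (BT.node 58 (BT.node 57 (BT.leaf cP57) (BT.leaf cP58)) (BT.leaf cP59))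 (BT.node 60 (BT.leaf cP60) (BT.leaf cP61))) (BT.node 64 (BT.node 63 (BT.node 62 (BT.leaf cP62) (BT.leaf cP63)) (BT.leaf cP64)) (BT.node 65 (BT.leaf cP65) (BT.leaf cP66)))) (BT.node 71 (BT.node 69 (BT.node 68 (BT.node 67 (BT.leaf cP67) (BT.leaf cP68)) (BT.leaf cP69)) (BT.node 70 (BT.leaf cP70) (BT.leaf cP71))) (BT.node 73 (BT.node 72 (BT.leaf cP72) (BT.leaf cP73)) (BT.node 74 (BT.leaf cP74) (BT.leaf cP75))))))) (BT.node 113 (BT.node 94 (BT.node 85 (BT.node 80 (BT.node 78 (BT.node 77 (BT.node 76 (BT.leaf cP76) (BT.leaf cP77)) (BT.leaf cP78)) (BT.node 79 (BT.leaf cP79) (BT.leaf cP80))) (BT.node 83 (BT.node 82 (BT.node 81 (BT.leaf cP81) (BT.leaf cP82)) (BT.leaf cP83)) (BT.node 84 (BT.leaf cP84) (BT.leaf cP85)))) (BT.node 90 (BT.node 88 (BT.node 87 (BT.node 86 (BT.leaf cP86) (BT.leaf cP87)) (BT.leaf cP88)) (BT.node 89 (BT.leaf cP89) (BT.leaf cP90))) (BT.node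 92 (BT.node 91 (BT.leaf cP91) (BT.leaf cP92)) (BT.node 93 (BT.leaf cP93) (BT.leaf cP94))))) (BT.node 104 (BT.node 99 (BT.node 97 (BT.node 96 (BT.node 95 (BT.leaf cP95) (BT.leaf cP96)) (BT.leaf cP97)) (BT.node 98 (BT.leaf cP98) (BT.leaf cP99))) (BT.node 102 (BT.node 101 (BT.node 100 (BT.leaf cP100) (BT.leaf cP101)) (BT.leaf cP102)) (BT.node 103 (BT.leaf cP103) (BT.leaf cP104)))) (BT.node 109 (BT.node 107 (BT.node 106 (BT.node 105 (BT.leaf cP105) (BT.leaf cP106)) (BT.leaf cP107)) (BT.node 108 (BT.leaf cP108) (BT.leaf cP109))) (BT.node 111 (BT.node 110 (BT.leaf cP110) (BT.leaf cP111)) (BT.node 112 (BT.leaf cP112) (BT.leaf cP113)))))) (BT.node 132 (BT.node 123 (BT.node 118 (BT.node 116 (BT.node 115 (BT.node 114 (BT.leaf cP114) (BT.leaf cP115)) (BT.leaf cP116)) (BT.node 117 (BT.leaf cP117) (BT.leaf cP118))) (BT.node 121 (BT.node 120 (BT.node 119 (BT.leaf cP119)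 (BT.leaf cP120)) (BT.leaf cP121)) (BT.node 122 (BT.leaf cP122) (BT.leaf cP123)))) (BT.node 128 (BT.node 126 (BT.node 125 (BT.node 124 (BT.leaf cP124) (BT.leaf cP125)) (BT.leaf cP126)) (BT.node 127 (BT.leaf cP127) (BT.leaf cP128))) (BT.node 130 (BT.node 129 (BT.leaf cP129) (BT.leaf cP130)) (BT.node 131 (BT.leaf cP131) (BT.leaf cP132))))) (BT.node 142 (BT.node 137 (BT.node 135 (BT.node 134 (BT.node 133 (BT.leaf cP133) (BT.leaf cP134)) (BT.leaf cP135)) (BT.node 136 (BT.leaf cP136) (BT.leaf cP137))) (BT.node 140 (BT.node 139 (BT.node 138 (BT.leaf cP138) (BT.leaf cP139)) (BT.leaf cP140)) (BT.node 141 (BT.leaf cP141) (BT.leaf cP142)))) (BT.node 147 (BT.node 145 (BT.node 144 (BT.node 143 (BT.leaf cP143) (BT.leaf cP144)) (BT.leaf cP145)) (BT.node 146 (BT.leaf cP146) (BT.leaf cP147))) (BT.node 149 (BT.node 148 (BT.leaf cP148) (BT.leaf cP149)) (BT.node 150 (BT.leaf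 cP150) (BT.leaf cP151))))))))
/-- the certificate -/
def data : Data where
  k := 9
  N := 77690
  W := 31
  MW := 2147483648
  B := 131072
  CH := 512
  NCH := 152
  colE := colET
  JW := 64
  MJ := 18446744073709551616
  A := 1048576
  colJ := colJT
  PW := 26
  MP := 67108864
  parC := parCT
  inv := (BT.node 4 (BT.node 2 (BT.node 1 (BT.node 0 (BT.leaf 0) (BT.leaf 1)) (BT.leaf 2)) (BT.node 3 (BT.leaf 3) (BT.leaf 4))) (BT.node 7 (BT.node 6 (BT.node 5 (BT.leaf 5) (BT.leaf 6)) (BT.leaf 7)) (BT.node 8 (BT.leaf 8) (BT.leaf 9))))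
  rel := relT
  sub := subT
  fuel := 64

end Cfsg.Agent.Lib.Helper28.TCFi22WCData
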