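import Cfsg.Agent.Lib.Helper28.TC2Orbit
set_option autoImplicit false
set_option maxRecDepth 100000

namespace Cfsg.Agent.Lib.Helper28.TCFi22WCTable
open Cfsg.Agent.Lib.Helper28.TC2Upper Cfsg.Agent.Lib.Helper28.TC2Lower Cfsg.Agent.Lib.Helper28.TC2Orbit

def cT0 : ℕ := 0x0
def cT1 : ℕ := 0x0
def cT2 : ℕ := 0x0
def cT3 : ℕ := 0x0
def cT4 : ℕ := 0x0
def cT5 : ℕ := 0x0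
def cT6 : ℕ := 0x0
def cT7 : ℕ := 0x0
def cT8 : ℕ := 0x0
def cR0 : ℕ := 0x0
/-- table chunks -/
def colTT : BT ℕ := (BT.node 4 (BT.node 2 (BT.node 1 (BT.node 0 (BT.leaf cT0) (BT.leaf cT1)) (BT.leaf cT2)) (BT.node 3 (BT.leaf cT3) (BT.leaf cT4))) (BT.node 6 (BT.node 5 (BT.leaf cT5) (BT.leaf cT6)) (BT.node 7 (BT.leaf cT7) (BT.leaf cT8))))
/-- spanning tree chunks -/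
def treeT : BT ℕ := (BT.leaf cR0)
/-- relator paths -/
def relPaths : List (List ℕ) := [[0, 0], [1, 0, 1, 0, 1, 0], [2, 0, 2, 0], [3, 0, 3, 0], [4, 0, 4, 0], [5, 0, 5, 0], [7, 0, 7, 0], [6, 0, 6, 0], [8, 0, 8, 0], [0, 1, 0, 1, 0, 1], [1, 1], [2, 1, 2, 1, 2, 1], [3, 1, 3, 1], [4, 1, 4, 1], [5, 1, 5, 1], [7, 1, 7, 1], [6, 1, 6, 1], [8, 1, 8, 1], [0, 2, 0, 2], [1, 2, 1, 2, 1, 2], [2, 2], [3, 2, 3, 2, 3, 2], [4, 2, 4, 2], [5, 2, 5, 2], [7, 2, 7, 2], [6, 2, 6, 2], [8, 2, 8, 2], [0, 3, 0, 3], [1, 3, 1, 3], [2, 3, 2, 3, 2, 3], [3, 3], [4, 3, 4, 3, 4, 3], [5, 3, 5, 3], [7, 3, 7, 3, 7, 3], [6, 3, 6, 3], [8, 3, 8, 3], [0, 4, 0, 4], [1, 4, 1, 4], [2, 4, 2, 4], [3, 4, 3, 4, 3, 4], [4, 4], [5, 4, 5, 4, 5, 4], [7, 4,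 7, 4], [6, 4, 6, 4], [8, 4, 8, 4], [0, 5, 0, 5], [1, 5, 1, 5], [2, 5, 2, 5], [3, 5, 3, 5], [4, 5, 4, 5, 4, 5], [5, 5], [7, 5, 7, 5], [6, 5, 6, 5, 6, 5], [8, 5, 8, 5], [0, 7, 0, 7], [1, 7, 1, 7], [2, 7, 2, 7], [3, 7, 3, 7, 3, 7], [4, 7, 4, 7], [5, 7, 5, 7], [7, 7], [6, 7, 6, 7], [8, 7, 8, 7, 8, 7], [0, 6, 0, 6], [1, 6, 1, 6], [2, 6, 2, 6], [3, 6, 3, 6], [4, 6, 4, 6], [5, 6, 5, 6, 5, 6], [7, 6, 7, 6], [6, 6], [8, 6, 8, 6], [0, 8, 0, 8], [1, 8, 1, 8], [2, 8, 2, 8], [3, 8, 3, 8], [4, 8, 4, 8], [5, 8, 5, 8], [7, 8, 7, 8, 7, 8], [6, 8, 6, 8], [8, 8], [8, 7, 3, 5, 4, 3, 1, 2, 3, 8, 7, 3, 5, 4, 3, 1, 2, 3, 8, 7, 3, 5, 4, 3, 1, 2, 3, 8, 7, 3, 5, 4, 3, 1, 2, 3, 8, 7, 3, 5, 4, 3, 1, 2, 3, 8, 7, 3, 5, 4, 3, 1, 2,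 3, 8, 7, 3, 5, 4, 3, 1, 2, 3, 8, 7, 3, 5, 4, 3, 1, 2, 3, 8, 7, 3, 5, 4, 3, 1, 2, 3, 8, 7, 3, 5, 4, 3, 1, 2, 3], [7, 5, 4, 3, 2, 1, 0, 7, 5, 4, 3, 2, 1, 0, 7, 5, 4, 3, 2, 1, 0, 7, 5, 4, 3, 2, 1, 0, 7, 5, 4, 3, 2, 1, 0, 7, 5, 4, 3, 2, 1, 0, 7, 5, 4, 3, 2, 1, 0, 7, 5, 4, 3, 2, 1, 0, 7, 5, 4, 3, 2, 1, 0], [7, 6, 5, 4, 3, 2, 1, 7, 6, 5, 4, 3, 2, 1, 7, 6, 5, 4, 3, 2, 1, 7, 6, 5, 4, 3, 2, 1, 7, 6, 5, 4, 3, 2, 1, 7, 6, 5, 4, 3, 2, 1, 7, 6, 5, 4, 3, 2, 1, 7, 6, 5, 4, 3, 2, 1, 7, 6, 5, 4, 3, 2, 1], [3, 4, 6, 7, 1, 0, 3, 2, 8, 7, 5, 3, 4, 6, 7, 1, 0, 3, 2, 8, 7, 5]]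
/-- subgroup generator paths -/
def subPaths : List (List ℕ) := [[]]
/-- the relator paths that are checked directly -/
def chkPaths : List (List ℕ) := [[1, 0, 1, 0, 1, 0], [2, 0, 2, 0], [3, 0, 3, 0], [4, 0, 4, 0], [5, 0, 5, 0], [7, 0, 7, 0], [6, 0, 6, 0], [8, 0, 8, 0], [2, 1, 2, 1, 2, 1], [3, 1, 3, 1], [4, 1, 4, 1], [5, 1, 5, 1], [7, 1, 7, 1], [6, 1, 6, 1], [8, 1, 8, 1], [3, 2, 3, 2, 3, 2], [4, 2, 4, 2], [5, 2, 5, 2], [7, 2, 7, 2], [6, 2, 6, 2], [8, 2, 8, 2], [4, 3, 4, 3, 4, 3], [5, 3, 5, 3], [7, 3, 7, 3, 7, 3], [6, 3, 6, 3], [8, 3, 8, 3], [5, 4, 5, 4, 5, 4], [7, 4, 7, 4], [6, 4, 6, 4], [8, 4, 8, 4], [7, 5, 7, 5], [6, 5, 6, 5, 6, 5], [8, 5, 8, 5], [6, 7, 6, 7], [8, 7, 8, 7, 8, 7], [8, 6, 8, 6], [8, 7,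 3, 5, 4, 3, 1, 2, 3, 8, 7, 3, 5, 4, 3, 1, 2, 3, 8, 7, 3, 5, 4, 3, 1, 2, 3, 8, 7, 3, 5, 4, 3, 1, 2, 3, 8, 7, 3, 5, 4, 3, 1, 2, 3, 8, 7, 3, 5, 4, 3, 1, 2, 3, 8, 7, 3, 5, 4, 3, 1, 2, 3, 8, 7, 3, 5, 4, 3, 1, 2, 3, 8, 7, 3, 5, 4, 3, 1, 2, 3, 8, 7, 3, 5, 4, 3, 1, 2, 3], [7, 5, 4, 3, 2, 1, 0, 7, 5, 4, 3, 2, 1, 0, 7, 5, 4, 3, 2, 1, 0, 7, 5, 4, 3, 2, 1, 0, 7, 5, 4, 3, 2, 1, 0, 7, 5, 4, 3, 2, 1, 0, 7, 5, 4, 3, 2, 1, 0, 7, 5, 4, 3, 2, 1, 0, 7, 5, 4, 3, 2, 1, 0], [7, 6, 5, 4, 3, 2, 1, 7, 6, 5, 4, 3, 2, 1, 7, 6, 5, 4, 3, 2, 1, 7, 6, 5, 4, 3, 2, 1, 7, 6, 5, 4, 3, 2, 1, 7, 6, 5, 4, 3, 2, 1, 7, 6, 5, 4, 3, 2, 1, 7, 6, 5, 4, 3, 2, 1, 7, 6, 5, 4, 3, 2, 1], [3, 4, 6, 7, 1, 0, 3, 2, 8, 7, 5, 3, 4, 6, 7, 1, 0, 3, 2, 8, 7,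 5]]
/-- the coset table -/
def table : Table where
  n := 1
  k := 9
  w := 1
  M := 2
  CH := 1024
  NCH := 1
  col := colTT
  inv := (BT.node 4 (BT.node 2 (BT.node 1 (BT.node 0 (BT.leaf 0) (BT.leaf 1)) (BT.leaf 2)) (BT.node 3 (BT.leaf 3) (BT.leaf 4))) (BT.node 7 (BT.node 6 (BT.node 5 (BT.leaf 5) (BT.leaf 6)) (BT.leaf 7)) (BT.node 8 (BT.leaf 8) (BT.leaf 9))))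
  tw := 9
  TM := 512
  tree := treeT

end Cfsg.Agent.Lib.Helper28.TCFi22WCTable
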