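import Cfsg.Agent.Lib.Helper28.TCFi22WCData
set_option autoImplicit false
set_option maxRecDepth 100000
set_option maxHeartbeats 0

namespace Cfsg.Agent.Lib.Helper28.TCFi22WCU0
open Cfsg.Agent.Lib.Helper28.TC2Upper Cfsg.Agent.Lib.Helper28.TCFi22WCData

theorem chk0 : data.checkRange 0 2561 = true := by decide +kernel
theorem chk1 : data.checkRange 2561 3896 = true := by decide +kernel
theorem chk2 : data.checkRange 6457 4361 = true := by decide +kernel
theorem chk3 : data.checkRange 10818 4927 = true := by decide +kernel
theorem chk4 : data.checkRange 15745 4749 = true := by decide +kernel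

end Cfsg.Agent.Lib.Helper28.TCFi22WCU0
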