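import Cfsg.Agent.Lib.Helper28.TC2GlueOrb
import Cfsg.Agent.Lib.Helper28.TC2Range
import Cfsg.Agent.Lib.Helper28.TCFi22WCLink
import Cfsg.Agent.Lib.Helper28.TCFi22WCM
import Cfsg.Agent.Lib.Helper28.TCFi22WCM0
import Cfsg.Agent.Lib.Helper28.TCFi22WCM1
import Cfsg.Agent.Lib.Helper28.TCFi22WCM2
import Cfsg.Agent.Lib.Helper28.TCFi22WCU0
import Cfsg.Agent.Lib.Helper28.TCFi22WCU1
import Cfsg.Agent.Lib.Helper28.TCFi22WCU2
import Cfsg.Agent.Lib.Helper28.TCFi22WCU3
import Cfsg.Agent.Lib.Helper28.TCFi22WCL0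

set_option autoImplicit false
set_option maxRecDepth 100000
open Cfsg

namespace Cfsg.Agent.Lib.Helper28.TCFi22WCMain
open Cfsg.Agent.Lib.Helper28.TC2Upper Cfsg.Agent.Lib.Helper28.TC2Lower Cfsg.Agent.Lib.Helper28.TC2Glue Cfsg.Agent.Lib.Helper28.TC2GlueOrb Cfsg.Agent.Lib.Helper28.TC2Orbit Cfsg.Agent.Lib.Helper28.TC2Range
open Cfsg.Agent.Lib.Helper28.TCFi22WCData Cfsg.Agent.Lib.Helper28.TCFi22WCTable Cfsg.Agent.Lib.Helper28.TCFi22WCLink Cfsg.Agent.Lib.Helper28.TCFi22WCM

theorem hchk : ∀ v, v < data.N → data.checkNode v = true := by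
  intro v hv
  have hv' : v < 77690 := hv
  rcases Nat.lt_or_ge v 2561 with h0 | h0
  · exact (data.checkRange_iff 0 2561).mp Cfsg.Agent.Lib.Helper28.TCFi22WCU0.chk0 v (by omega) (by omega)
  rcases Nat.lt_or_ge v 6457 with h1 | h1
  · exact (data.checkRange_iff 2561 3896).mp Cfsg.Agent.Lib.Helper28.TCFi22WCU0.chk1 v (by omega) (by omega)
  rcases Nat.lt_or_ge v 10818 with h2 | h2
  · exact (data.checkRange_iff 6457 4361).mp Cfsg.Agent.Lib.Helper28.TCFi22WCU0.chk2 v (by omega) (by omega)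
  rcases Nat.lt_or_ge v 15745 with h3 | h3
  · exact (data.checkRange_iff 10818 4927).mp Cfsg.Agent.Lib.Helper28.TCFi22WCU0.chk3 v (by omega) (by omega)
  rcases Nat.lt_or_ge v 20494 with h4 | h4
  · exact (data.checkRange_iff 15745 4749).mp Cfsg.Agent.Lib.Helper28.TCFi22WCU0.chk4 v (by omega) (by omega)
  rcases Nat.lt_or_ge v 26232 with h5 | h5
  · exact (data.checkRange_iff 20494 5738).mp Cfsg.Agent.Lib.Helper28.TCFi22WCU1.chk5 v (by omega) (by omega)
  rcases Nat.lt_or_ge v 31544 with h6 | h6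
  · exact (data.checkRange_iff 26232 5312).mp Cfsg.Agent.Lib.Helper28.TCFi22WCU1.chk6 v (by omega) (by omega)
  rcases Nat.lt_or_ge v 36641 with h7 | h7
  · exact (data.checkRange_iff 31544 5097).mp Cfsg.Agent.Lib.Helper28.TCFi22WCU1.chk7 v (by omega) (by omega)
  rcases Nat.lt_or_ge v 41804 with h8 | h8
  · exact (data.checkRange_iff 36641 5163).mp Cfsg.Agent.Lib.Helper28.TCFi22WCU1.chk8 v (by omega) (by omega)
  rcases Nat.lt_or_ge v 47761 with h9 | h9
  · exact (data.checkRange_iff 41804 5957).mp Cfsg.Agent.Lib.Helper28.TCFi22WCU1.chk9 v (by omega) (by omega)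
  rcases Nat.lt_or_ge v 53621 with h10 | h10
  · exact (data.checkRange_iff 47761 5860).mp Cfsg.Agent.Lib.Helper28.TCFi22WCU2.chk10 v (by omega) (by omega)
  rcases Nat.lt_or_ge v 59317 with h11 | h11
  · exact (data.checkRange_iff 53621 5696).mp Cfsg.Agent.Lib.Helper28.TCFi22WCU2.chk11 v (by omega) (by omega)
  rcases Nat.lt_or_ge v 64889 with h12 | h12
  · exact (data.checkRange_iff 59317 5572).mp Cfsg.Agent.Lib.Helper28.TCFi22WCU2.chk12 v (by omega) (by omega)
  rcases Nat.lt_or_ge v 70758 with h13 | h13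
  · exact (data.checkRange_iff 64889 5869).mp Cfsg.Agent.Lib.Helper28.TCFi22WCU2.chk13 v (by omega) (by omega)
  rcases Nat.lt_or_ge v 76408 with h14 | h14
  · exact (data.checkRange_iff 70758 5650).mp Cfsg.Agent.Lib.Helper28.TCFi22WCU2.chk14 v (by omega) (by omega)
  exact (data.checkRange_iff 76408 1282).mp Cfsg.Agent.Lib.Helper28.TCFi22WCU3.chk15 v (by omega) (by omega)

theorem hrows : ∀ v, v < data.N → Data.rowOK data v = true := by
  intro v hv
  have hv' : v < 77690 := hv
  rcases Nat.lt_or_ge v 9259 with h0 | h0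
  · exact (Data.finalRange_iff data 0 9259).mp Cfsg.Agent.Lib.Helper28.TCFi22WCM0.fin0 v (by omega) (by omega)
  rcases Nat.lt_or_ge v 18518 with h1 | h1
  · exact (Data.finalRange_iff data 9259 9259).mp Cfsg.Agent.Lib.Helper28.TCFi22WCM0.fin1 v (by omega) (by omega)
  rcases Nat.lt_or_ge v 27777 with h2 | h2
  · exact (Data.finalRange_iff data 18518 9259).mp Cfsg.Agent.Lib.Helper28.TCFi22WCM0.fin2 v (by omega) (by omega)
  rcases Nat.lt_or_ge v 37036 with h3 | h3
  · exact (Data.finalRange_iff data 27777 9259).mp Cfsg.Agent.Lib.Helper28.TCFi22WCM0.fin3 v (by omega) (by omega)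
  rcases Nat.lt_or_ge v 46295 with h4 | h4
  · exact (Data.finalRange_iff data 37036 9259).mp Cfsg.Agent.Lib.Helper28.TCFi22WCM0.fin4 v (by omega) (by omega)
  rcases Nat.lt_or_ge v 55554 with h5 | h5
  · exact (Data.finalRange_iff data 46295 9259).mp Cfsg.Agent.Lib.Helper28.TCFi22WCM1.fin5 v (by omega) (by omega)
  rcases Nat.lt_or_ge v 64813 with h6 | h6
  · exact (Data.finalRange_iff data 55554 9259).mp Cfsg.Agent.Lib.Helper28.TCFi22WCM1.fin6 v (by omega) (by omega)
  rcases Nat.lt_or_ge v 74072 with h7 | h7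
  · exact (Data.finalRange_iff data 64813 9259).mp Cfsg.Agent.Lib.Helper28.TCFi22WCM1.fin7 v (by omega) (by omega)
  exact (Data.finalRange_iff data 74072 3618).mp Cfsg.Agent.Lib.Helper28.TCFi22WCM1.fin8 v (by omega) (by omega)

theorem hfin : data.finalOK = true := Data.finalOK_of_rows data hlive0 (by decide) hrows

theorem pc0 : Data.countFrom data 0 40000 = 1 := Cfsg.Agent.Lib.Helper28.TCFi22WCM1.cnt0
theorem pc1 : Data.countFrom data 0 77690 = 1 := Data.countFrom_step data pc0 Cfsg.Agent.Lib.Helper28.TCFi22WCM2.cnt1 (by norm_num) (by norm_num)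

theorem hcount : data.countLive = table.n := by
  rw [Data.countLive_eq]
  exact pc1

theorem hpermAll : ∀ p, p < table.n → Table.permRow table p = true := by
  intro p hp
  have hp' : p < 1 := hp
  exact (Table.permRange_iff table 0 1).mp Cfsg.Agent.Lib.Helper28.TCFi22WCM2.prm0 p (by omega) (by omega)

theorem hT : table.OK := Table.ok_of_rows table hinvOK hpermAll

theorem htreeAll : ∀ i, i < Nat.pred table.n → Table.treeRow table i = true := by
  intro p hp
  have hp' : p < 0 := hp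
  exact absurd hp' (Nat.not_lt_zero _)

theorem htree : table.treeOK = true := Table.treeOK_of_rows table htreeAll

theorem hchkT : ∀ P ∈ chkPaths, ∀ p, p < table.n → table.walkT P p = p := by
  intro P hm p hp
  have hp' : p < 1 := hp
  exact (Table.relOK_iff chkPaths 0 1).mp Cfsg.Agent.Lib.Helper28.TCFi22WCL0.rel0 p (by omega) (by omega) _ hm

theorem hrelT : ∀ L ∈ relWords, ∀ p, p < table.n → table.walkT (pathOf lw L) p = p :=
  fun L hL => Table.fix_of_covered hT chkPaths hchkT _ (hcov _ (hrelmem L hL)).1 (hcov _ (hrelmem L hL)).2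

theorem hsubT : ∀ L ∈ subWords, table.walkT (pathOf lw L) 0 = 0 :=
  fun L hL => (Table.subOK_iff subPaths).mp hsub0 _ (hsubmem L hL)

theorem hn : 0 < table.n := by decide

theorem main : ((Subgroup.closure S).map (PresentedGroup.mk rels)).index = table.n ∧
    ∃ φ : PresentedGroup rels →* Equiv.Perm (Fin table.n),
      (∀ x, φ (PresentedGroup.of x) = Table.sigma hT (lw (x, true))) ∧
      ∃ f : PresentedGroup rels ⧸ (Subgroup.closure S).map (PresentedGroup.mk rels) → Fin table.n,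
        Function.Bijective f ∧ (∀ g q, f (g • q) = φ g (f q)) ∧ f (QuotientGroup.mk 1) = ⟨0, hn⟩ :=
  index_eq link hchk hfin hcount hT hn hrelT hsubT htree

end Cfsg.Agent.Lib.Helper28.TCFi22WCMain
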