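import Cfsg.Agent.Lib.Helper28.TCFi23W0Table
import Cfsg.Agent.Lib.Helper28.TCFi23W0L1
set_option autoImplicit false
set_option maxRecDepth 100000
set_option maxHeartbeats 0

namespace Cfsg.Agent.Lib.Helper28.TCFi23W0L4
open Cfsg.Agent.Lib.Helper28.TC2Upper Cfsg.Agent.Lib.Helper28.TC2Lower Cfsg.Agent.Lib.Helper28.TCFi23W0Table

theorem rel24 : table.relOK chkPaths 17088 712 = true := by decide +kernel
theorem rel25 : table.relOK chkPaths 17800 712 = true := by decide +kernel
theorem rel26 : table.relOK chkPaths 18512 712 = true := by decide +kernel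
theorem rel27 : table.relOK chkPaths 19224 712 = true := by decide +kernel
theorem rel28 : table.relOK chkPaths 19936 712 = true := by decide +kernel
theorem rel29 : table.relOK chkPaths 20648 712 = true := by decide +kernel

end Cfsg.Agent.Lib.Helper28.TCFi23W0L4
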