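import Cfsg.Agent.Lib.Helper28.TCFi23W0Table
import Cfsg.Agent.Lib.Helper28.TCFi23W0L4
set_option autoImplicit false
set_option maxRecDepth 100000
set_option maxHeartbeats 0

namespace Cfsg.Agent.Lib.Helper28.TCFi23W0L7
open Cfsg.Agent.Lib.Helper28.TC2Upper Cfsg.Agent.Lib.Helper28.TC2Lower Cfsg.Agent.Lib.Helper28.TCFi23W0Table

theorem rel42 : table.relOK chkPaths 29904 712 = true := by decide +kernel
theorem rel43 : table.relOK chkPaths 30616 712 = true := by decide +kernel
theorem rel44 : table.relOK chkPaths 31328 343 = true := by decide +kernel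

end Cfsg.Agent.Lib.Helper28.TCFi23W0L7
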