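import Cfsg.Agent.Lib.Helper28.TC2Upper
import Cfsg.Agent.Lib.Helper28.TCFi23W0DataC0
import Cfsg.Agent.Lib.Helper28.TCFi23W0DataC1
import Cfsg.Agent.Lib.Helper28.TCFi23W0DataC2
set_option autoImplicit false
set_option maxRecDepth 100000

namespace Cfsg.Agent.Lib.Helper28.TCFi23W0Data
open Cfsg.Agent.Lib.Helper28.TC2Upper

/-- relators -/
def relT : BT (ℕ × List ℕ × List ℕ) := (BT.node 50 (BT.node 25 (BT.node 12 (BT.node 6 (BT.node 3 (BT.node 1 (BT.node 0 (BT.leaf (2, [0, 0], [0, 0])) (BT.leaf (6, [1, 0, 1, 0, 1, 0], [0, 1, 0, 1, 0, 1]))) (BT.node 2 (BT.leaf (4, [2, 0, 2, 0], [0, 2, 0, 2])) (BT.leaf (4, [3, 0, 3, 0], [0, 3, 0, 3])))) (BT.node 5 (BT.node 4 (BT.leaf (4, [4, 0, 4, 0], [0, 4, 0, 4])) (BT.leaf (4, [5, 0, 5, 0], [0, 5, 0, 5]))) (BT.leaf (4, [6, 0, 6, 0], [0, 6, 0, 6])))) (BT.node 9 (BT.node 8 (BT.node 7 (BT.leaf (4, [8, 0, 8, 0], [0, 8, 0, 8]))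 (BT.leaf (4, [7, 0, 7, 0], [0, 7, 0, 7]))) (BT.leaf (4, [9, 0, 9, 0], [0, 9, 0, 9]))) (BT.node 11 (BT.node 10 (BT.leaf (6, [0, 1, 0, 1, 0, 1], [1, 0, 1, 0, 1, 0])) (BT.leaf (2, [1, 1], [1, 1]))) (BT.leaf (6, [2, 1, 2, 1, 2, 1], [1, 2, 1, 2, 1, 2]))))) (BT.node 19 (BT.node 16 (BT.node 14 (BT.node 13 (BT.leaf (4, [3, 1, 3, 1], [1, 3, 1, 3])) (BT.leaf (4, [4, 1, 4, 1], [1, 4, 1, 4]))) (BT.node 15 (BT.leaf (4, [5, 1, 5, 1], [1, 5, 1, 5])) (BT.leaf (4, [6, 1, 6, 1], [1, 6, 1, 6])))) (BT.node 18 (BT.node 17 (BT.leaf (4, [8, 1, 8, 1], [1, 8, 1, 8])) (BT.leaf (4, [7, 1, 7, 1], [1, 7, 1, 7]))) (BT.leaf (4, [9, 1, 9, 1], [1, 9, 1, 9])))) (BT.node 22 (BT.node 21 (BT.node 20 (BT.leaf (4, [0, 2, 0, 2], [2, 0, 2, 0])) (BT.leaf (6, [1, 2, 1, 2, 1, 2], [2, 1, 2, 1, 2, 1]))) (BT.leaf (2, [2, 2], [2, 2]))) (BT.node 24 (BT.node 23 (BT.leaf (6, [3, 2, 3, 2, 3, 2], [2, 3, 2,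 3, 2, 3])) (BT.leaf (4, [4, 2, 4, 2], [2, 4, 2, 4]))) (BT.leaf (4, [5, 2, 5, 2], [2, 5, 2, 5])))))) (BT.node 38 (BT.node 32 (BT.node 29 (BT.node 27 (BT.node 26 (BT.leaf (4, [6, 2, 6, 2], [2, 6, 2, 6])) (BT.leaf (4, [8, 2, 8, 2], [2, 8, 2, 8]))) (BT.node 28 (BT.leaf (4, [7, 2, 7, 2], [2, 7, 2, 7])) (BT.leaf (4, [9, 2, 9, 2], [2, 9, 2, 9])))) (BT.node 31 (BT.node 30 (BT.leaf (4, [0, 3, 0, 3], [3, 0, 3, 0])) (BT.leaf (4, [1, 3, 1, 3], [3, 1, 3, 1]))) (BT.leaf (6, [2, 3, 2, 3, 2, 3], [3, 2, 3, 2, 3, 2])))) (BT.node 35 (BT.node 34 (BT.node 33 (BT.leaf (2, [3, 3], [3, 3])) (BT.leaf (6, [4, 3, 4, 3, 4, 3], [3, 4, 3, 4, 3, 4]))) (BT.leaf (4, [5, 3, 5, 3], [3, 5, 3, 5]))) (BT.node 37 (BT.node 36 (BT.leaf (4, [6, 3, 6, 3], [3, 6, 3, 6])) (BT.leaf (6, [8, 3, 8, 3, 8, 3], [3, 8, 3, 8, 3, 8]))) (BT.leaf (4, [7, 3, 7, 3], [3, 7, 3, 7]))))) (BT.node 44 (BT.node 41 (BT.node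 40 (BT.node 39 (BT.leaf (4, [9, 3, 9, 3], [3, 9, 3, 9])) (BT.leaf (4, [0, 4, 0, 4], [4, 0, 4, 0]))) (BT.leaf (4, [1, 4, 1, 4], [4, 1, 4, 1]))) (BT.node 43 (BT.node 42 (BT.leaf (4, [2, 4, 2, 4], [4, 2, 4, 2])) (BT.leaf (6, [3, 4, 3, 4, 3, 4], [4, 3, 4, 3, 4, 3]))) (BT.leaf (2, [4, 4], [4, 4])))) (BT.node 47 (BT.node 46 (BT.node 45 (BT.leaf (6, [5, 4, 5, 4, 5, 4], [4, 5, 4, 5, 4, 5])) (BT.leaf (4, [6, 4, 6, 4], [4, 6, 4, 6]))) (BT.leaf (4, [8, 4, 8, 4], [4, 8, 4, 8]))) (BT.node 49 (BT.node 48 (BT.leaf (4, [7, 4, 7, 4], [4, 7, 4, 7])) (BT.leaf (4, [9, 4, 9, 4], [4, 9, 4, 9]))) (BT.leaf (4, [0, 5, 0, 5], [5, 0, 5, 0]))))))) (BT.node 76 (BT.node 63 (BT.node 57 (BT.node 54 (BT.node 52 (BT.node 51 (BT.leaf (4, [1, 5, 1, 5], [5, 1, 5, 1])) (BT.leaf (4, [2, 5, 2, 5], [5, 2, 5, 2]))) (BT.node 53 (BT.leaf (4, [3, 5, 3, 5], [5, 3, 5, 3])) (BT.leaf (6, [4, 5, 4, 5,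 4, 5], [5, 4, 5, 4, 5, 4])))) (BT.node 56 (BT.node 55 (BT.leaf (2, [5, 5], [5, 5])) (BT.leaf (6, [6, 5, 6, 5, 6, 5], [5, 6, 5, 6, 5, 6]))) (BT.leaf (4, [8, 5, 8, 5], [5, 8, 5, 8])))) (BT.node 60 (BT.node 59 (BT.node 58 (BT.leaf (4, [7, 5, 7, 5], [5, 7, 5, 7])) (BT.leaf (4, [9, 5, 9, 5], [5, 9, 5, 9]))) (BT.leaf (4, [0, 6, 0, 6], [6, 0, 6, 0]))) (BT.node 62 (BT.node 61 (BT.leaf (4, [1, 6, 1, 6], [6, 1, 6, 1])) (BT.leaf (4, [2, 6, 2, 6], [6, 2, 6, 2]))) (BT.leaf (4, [3, 6, 3, 6], [6, 3, 6, 3]))))) (BT.node 70 (BT.node 67 (BT.node 65 (BT.node 64 (BT.leaf (4, [4, 6, 4, 6], [6, 4, 6, 4])) (BT.leaf (6, [5, 6, 5, 6, 5, 6], [6, 5, 6, 5, 6, 5]))) (BT.node 66 (BT.leaf (2, [6, 6], [6, 6])) (BT.leaf (4, [8, 6, 8, 6], [6, 8, 6, 8])))) (BT.node 69 (BT.node 68 (BT.leaf (6, [7, 6, 7, 6, 7, 6], [6, 7, 6, 7, 6, 7])) (BT.leaf (4, [9, 6, 9, 6], [6, 9, 6, 9]))) (BT.leaf (4,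 [0, 8, 0, 8], [8, 0, 8, 0])))) (BT.node 73 (BT.node 72 (BT.node 71 (BT.leaf (4, [1, 8, 1, 8], [8, 1, 8, 1])) (BT.leaf (4, [2, 8, 2, 8], [8, 2, 8, 2]))) (BT.leaf (6, [3, 8, 3, 8, 3, 8], [8, 3, 8, 3, 8, 3]))) (BT.node 75 (BT.node 74 (BT.leaf (4, [4, 8, 4, 8], [8, 4, 8, 4])) (BT.leaf (4, [5, 8, 5, 8], [8, 5, 8, 5]))) (BT.leaf (4, [6, 8, 6, 8], [8, 6, 8, 6])))))) (BT.node 89 (BT.node 83 (BT.node 80 (BT.node 78 (BT.node 77 (BT.leaf (2, [8, 8], [8, 8])) (BT.leaf (4, [7, 8, 7, 8], [8, 7, 8, 7]))) (BT.node 79 (BT.leaf (6, [9, 8, 9, 8, 9, 8], [8, 9, 8, 9, 8, 9])) (BT.leaf (4, [0, 7, 0, 7], [7, 0, 7, 0])))) (BT.node 82 (BT.node 81 (BT.leaf (4, [1, 7, 1, 7], [7, 1, 7, 1])) (BT.leaf (4, [2, 7, 2, 7], [7, 2, 7, 2]))) (BT.leaf (4, [3, 7, 3, 7], [7, 3, 7, 3])))) (BT.node 86 (BT.node 85 (BT.node 84 (BT.leaf (4, [4, 7, 4, 7], [7, 4, 7, 4])) (BT.leaf (4, [5, 7, 5, 7], [7,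 5, 7, 5]))) (BT.leaf (6, [6, 7, 6, 7, 6, 7], [7, 6, 7, 6, 7, 6]))) (BT.node 88 (BT.node 87 (BT.leaf (4, [8, 7, 8, 7], [7, 8, 7, 8])) (BT.leaf (2, [7, 7], [7, 7]))) (BT.leaf (4, [9, 7, 9, 7], [7, 9, 7, 9]))))) (BT.node 95 (BT.node 92 (BT.node 91 (BT.node 90 (BT.leaf (4, [0, 9, 0, 9], [9, 0, 9, 0])) (BT.leaf (4, [1, 9, 1, 9], [9, 1, 9, 1]))) (BT.leaf (4, [2, 9, 2, 9], [9, 2, 9, 2]))) (BT.node 94 (BT.node 93 (BT.leaf (4, [3, 9, 3, 9], [9, 3, 9, 3])) (BT.leaf (4, [4, 9, 4, 9], [9, 4, 9, 4]))) (BT.leaf (4, [5, 9, 5, 9], [9, 5, 9, 5])))) (BT.node 98 (BT.node 97 (BT.node 96 (BT.leaf (4, [6, 9, 6, 9], [9, 6, 9, 6])) (BT.leaf (6, [8, 9, 8, 9, 8, 9], [9, 8, 9, 8, 9, 8]))) (BT.leaf (4, [7, 9, 7, 9], [9, 7, 9, 7]))) (BT.node 100 (BT.node 99 (BT.leaf (2, [9, 9], [9, 9])) (BT.leaf (90, [9, 8, 3, 5, 4, 3, 1, 2, 3, 9, 8, 3, 5, 4, 3, 1, 2, 3, 9, 8, 3, 5, 4, 3, 1, 2, 3,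 9, 8, 3, 5, 4, 3, 1, 2, 3, 9, 8, 3, 5, 4, 3, 1, 2, 3, 9, 8, 3, 5, 4, 3, 1, 2, 3, 9, 8, 3, 5, 4, 3, 1, 2, 3, 9, 8, 3, 5, 4, 3, 1, 2, 3, 9, 8, 3, 5, 4, 3, 1, 2, 3, 9, 8, 3, 5, 4, 3, 1, 2, 3], [3, 2, 1, 3, 4, 5, 3, 8, 9, 3, 2, 1, 3, 4, 5, 3, 8, 9, 3, 2, 1, 3, 4, 5, 3, 8, 9, 3, 2, 1, 3, 4, 5, 3, 8, 9, 3, 2, 1, 3, 4, 5, 3, 8, 9, 3, 2, 1, 3, 4, 5, 3, 8, 9, 3, 2, 1, 3, 4, 5, 3, 8, 9, 3, 2, 1, 3, 4, 5, 3, 8, 9, 3, 2, 1, 3, 4, 5, 3, 8, 9, 3, 2, 1, 3, 4, 5, 3, 8, 9]))) (BT.leaf (63, [8, 5, 4, 3, 2, 1, 0, 8, 5, 4, 3, 2, 1, 0, 8, 5, 4, 3, 2, 1, 0, 8, 5, 4, 3, 2, 1, 0, 8, 5, 4, 3, 2, 1, 0, 8, 5, 4, 3, 2, 1, 0, 8, 5, 4, 3, 2, 1, 0, 8, 5, 4, 3, 2, 1, 0, 8, 5, 4, 3, 2, 1, 0], [0, 1, 2, 3, 4, 5, 8, 0, 1, 2, 3, 4, 5, 8, 0, 1, 2, 3, 4, 5, 8, 0, 1, 2, 3, 4, 5, 8, 0, 1, 2, 3, 4, 5, 8, 0, 1, 2, 3, 4, 5, 8, 0, 1, 2, 3, 4, 5, 8, 0, 1, 2, 3, 4, 5, 8, 0, 1, 2, 3, 4, 5, 8]))))))))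
/-- subgroup generators -/
def subT : BT (ℕ × List ℕ × List ℕ) := (BT.node 4 (BT.node 2 (BT.node 1 (BT.node 0 (BT.leaf (1, [0], [0])) (BT.leaf (1, [1], [1]))) (BT.leaf (1, [2], [2]))) (BT.node 3 (BT.leaf (1, [3], [3])) (BT.leaf (1, [4], [4])))) (BT.node 6 (BT.node 5 (BT.leaf (1, [5], [5])) (BT.leaf (1, [6], [6]))) (BT.node 7 (BT.leaf (1, [8], [8])) (BT.leaf (1, [9], [9])))))
/-- fact chunks -/
def colET : BT ℕ := (BT.node 692 (BT.node 346 (BT.node 173 (BT.node 86 (BT.node 43 (BT.node 21 (BT.node 10 (BT.node 5 (BT.node 2 (BT.node 1 (BT.node 0 (BT.leaf cE0) (BT.leaf cE1)) (BT.leaf cE2)) (BT.node 4 (BT.node 3 (BT.leaf cE3) (BT.leaf cE4)) (BT.leaf cE5))) (BT.node 8 (BT.node 7 (BT.node 6 (BT.leaf cE6) (BT.leaf cE7)) (BT.leaf cE8)) (BT.node 9 (BT.leaf cE9) (BT.leaf cE10)))) (BT.node 16 (BT.node 13 (BT.node 12 (BT.node 11 (BT.leaf cE11) (BT.leaf cE12)) (BT.leaf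 cE13)) (BT.node 15 (BT.node 14 (BT.leaf cE14) (BT.leaf cE15)) (BT.leaf cE16))) (BT.node 19 (BT.node 18 (BT.node 17 (BT.leaf cE17) (BT.leaf cE18)) (BT.leaf cE19)) (BT.node 20 (BT.leaf cE20) (BT.leaf cE21))))) (BT.node 32 (BT.node 27 (BT.node 24 (BT.node 23 (BT.node 22 (BT.leaf cE22) (BT.leaf cE23)) (BT.leaf cE24)) (BT.node 26 (BT.node 25 (BT.leaf cE25) (BT.leaf cE26)) (BT.leaf cE27))) (BT.node 30 (BT.node 29 (BT.node 28 (BT.leaf cE28) (BT.leaf cE29)) (BT.leaf cE30)) (BT.node 31 (BT.leaf cE31) (BT.leaf cE32)))) (BT.node 38 (BT.node 35 (BT.node 34 (BT.node 33 (BT.leaf cE33) (BT.leaf cE34)) (BT.leaf cE35)) (BT.node 37 (BT.node 36 (BT.leaf cE36) (BT.leaf cE37)) (BT.leaf cE38))) (BT.node 41 (BT.node 40 (BT.node 39 (BT.leaf cE39) (BT.leaf cE40)) (BT.leaf cE41)) (BT.node 42 (BT.leaf cE42) (BT.leaf cE43)))))) (BT.node 65 (BT.node 54 (BT.node 49 (BT.node 46 (BT.node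 45 (BT.node 44 (BT.leaf cE44) (BT.leaf cE45)) (BT.leaf cE46)) (BT.node 48 (BT.node 47 (BT.leaf cE47) (BT.leaf cE48)) (BT.leaf cE49))) (BT.node 52 (BT.node 51 (BT.node 50 (BT.leaf cE50) (BT.leaf cE51)) (BT.leaf cE52)) (BT.node 53 (BT.leaf cE53) (BT.leaf cE54)))) (BT.node 60 (BT.node 57 (BT.node 56 (BT.node 55 (BT.leaf cE55) (BT.leaf cE56)) (BT.leaf cE57)) (BT.node 59 (BT.node 58 (BT.leaf cE58) (BT.leaf cE59)) (BT.leaf cE60))) (BT.node 63 (BT.node 62 (BT.node 61 (BT.leaf cE61) (BT.leaf cE62)) (BT.leaf cE63)) (BT.node 64 (BT.leaf cE64) (BT.leaf cE65))))) (BT.node 76 (BT.node 71 (BT.node 68 (BT.node 67 (BT.node 66 (BT.leaf cE66) (BT.leaf cE67)) (BT.leaf cE68)) (BT.node 70 (BT.node 69 (BT.leaf cE69) (BT.leaf cE70)) (BT.leaf cE71))) (BT.node 74 (BT.node 73 (BT.node 72 (BT.leaf cE72) (BT.leaf cE73)) (BT.leaf cE74)) (BT.node 75 (BT.leaf cE75) (BT.leaf cE76))))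 (BT.node 81 (BT.node 79 (BT.node 78 (BT.node 77 (BT.leaf cE77) (BT.leaf cE78)) (BT.leaf cE79)) (BT.node 80 (BT.leaf cE80) (BT.leaf cE81))) (BT.node 84 (BT.node 83 (BT.node 82 (BT.leaf cE82) (BT.leaf cE83)) (BT.leaf cE84)) (BT.node 85 (BT.leaf cE85) (BT.leaf cE86))))))) (BT.node 130 (BT.node 108 (BT.node 97 (BT.node 92 (BT.node 89 (BT.node 88 (BT.node 87 (BT.leaf cE87) (BT.leaf cE88)) (BT.leaf cE89)) (BT.node 91 (BT.node 90 (BT.leaf cE90) (BT.leaf cE91)) (BT.leaf cE92))) (BT.node 95 (BT.node 94 (BT.node 93 (BT.leaf cE93) (BT.leaf cE94)) (BT.leaf cE95)) (BT.node 96 (BT.leaf cE96) (BT.leaf cE97)))) (BT.node 103 (BT.node 100 (BT.node 99 (BT.node 98 (BT.leaf cE98) (BT.leaf cE99)) (BT.leaf cE100)) (BT.node 102 (BT.node 101 (BT.leaf cE101) (BT.leaf cE102)) (BT.leaf cE103))) (BT.node 106 (BT.node 105 (BT.node 104 (BT.leaf cE104) (BT.leaf cE105)) (BT.leaf cE106))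 (BT.node 107 (BT.leaf cE107) (BT.leaf cE108))))) (BT.node 119 (BT.node 114 (BT.node 111 (BT.node 110 (BT.node 109 (BT.leaf cE109) (BT.leaf cE110)) (BT.leaf cE111)) (BT.node 113 (BT.node 112 (BT.leaf cE112) (BT.leaf cE113)) (BT.leaf cE114))) (BT.node 117 (BT.node 116 (BT.node 115 (BT.leaf cE115) (BT.leaf cE116)) (BT.leaf cE117)) (BT.node 118 (BT.leaf cE118) (BT.leaf cE119)))) (BT.node 125 (BT.node 122 (BT.node 121 (BT.node 120 (BT.leaf cE120) (BT.leaf cE121)) (BT.leaf cE122)) (BT.node 124 (BT.node 123 (BT.leaf cE123) (BT.leaf cE124)) (BT.leaf cE125))) (BT.node 128 (BT.node 127 (BT.node 126 (BT.leaf cE126) (BT.leaf cE127)) (BT.leaf cE128)) (BT.node 129 (BT.leaf cE129) (BT.leaf cE130)))))) (BT.node 152 (BT.node 141 (BT.node 136 (BT.node 133 (BT.node 132 (BT.node 131 (BT.leaf cE131) (BT.leaf cE132)) (BT.leaf cE133)) (BT.node 135 (BT.node 134 (BT.leaf cE134)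 (BT.leaf cE135)) (BT.leaf cE136))) (BT.node 139 (BT.node 138 (BT.node 137 (BT.leaf cE137) (BT.leaf cE138)) (BT.leaf cE139)) (BT.node 140 (BT.leaf cE140) (BT.leaf cE141)))) (BT.node 147 (BT.node 144 (BT.node 143 (BT.node 142 (BT.leaf cE142) (BT.leaf cE143)) (BT.leaf cE144)) (BT.node 146 (BT.node 145 (BT.leaf cE145) (BT.leaf cE146)) (BT.leaf cE147))) (BT.node 150 (BT.node 149 (BT.node 148 (BT.leaf cE148) (BT.leaf cE149)) (BT.leaf cE150)) (BT.node 151 (BT.leaf cE151) (BT.leaf cE152))))) (BT.node 163 (BT.node 158 (BT.node 155 (BT.node 154 (BT.node 153 (BT.leaf cE153) (BT.leaf cE154)) (BT.leaf cE155)) (BT.node 157 (BT.node 156 (BT.leaf cE156) (BT.leaf cE157)) (BT.leaf cE158))) (BT.node 161 (BT.node 160 (BT.node 159 (BT.leaf cE159) (BT.leaf cE160)) (BT.leaf cE161)) (BT.node 162 (BT.leaf cE162) (BT.leaf cE163)))) (BT.node 168 (BT.node 166 (BT.node 165 (BT.node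 164 (BT.leaf cE164) (BT.leaf cE165)) (BT.leaf cE166)) (BT.node 167 (BT.leaf cE167) (BT.leaf cE168))) (BT.node 171 (BT.node 170 (BT.node 169 (BT.leaf cE169) (BT.leaf cE170)) (BT.leaf cE171)) (BT.node 172 (BT.leaf cE172) (BT.leaf cE173)))))))) (BT.node 260 (BT.node 217 (BT.node 195 (BT.node 184 (BT.node 179 (BT.node 176 (BT.node 175 (BT.node 174 (BT.leaf cE174) (BT.leaf cE175)) (BT.leaf cE176)) (BT.node 178 (BT.node 177 (BT.leaf cE177) (BT.leaf cE178)) (BT.leaf cE179))) (BT.node 182 (BT.node 181 (BT.node 180 (BT.leaf cE180) (BT.leaf cE181)) (BT.leaf cE182)) (BT.node 183 (BT.leaf cE183) (BT.leaf cE184)))) (BT.node 190 (BT.node 187 (BT.node 186 (BT.node 185 (BT.leaf cE185) (BT.leaf cE186)) (BT.leaf cE187)) (BT.node 189 (BT.node 188 (BT.leaf cE188) (BT.leaf cE189)) (BT.leaf cE190))) (BT.node 193 (BT.node 192 (BT.node 191 (BT.leaf cE191) (BT.leaf cE192)) (BT.leaf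 cE193)) (BT.node 194 (BT.leaf cE194) (BT.leaf cE195))))) (BT.node 206 (BT.node 201 (BT.node 198 (BT.node 197 (BT.node 196 (BT.leaf cE196) (BT.leaf cE197)) (BT.leaf cE198)) (BT.node 200 (BT.node 199 (BT.leaf cE199) (BT.leaf cE200)) (BT.leaf cE201))) (BT.node 204 (BT.node 203 (BT.node 202 (BT.leaf cE202) (BT.leaf cE203)) (BT.leaf cE204)) (BT.node 205 (BT.leaf cE205) (BT.leaf cE206)))) (BT.node 212 (BT.node 209 (BT.node 208 (BT.node 207 (BT.leaf cE207) (BT.leaf cE208)) (BT.leaf cE209)) (BT.node 211 (BT.node 210 (BT.leaf cE210) (BT.leaf cE211)) (BT.leaf cE212))) (BT.node 215 (BT.node 214 (BT.node 213 (BT.leaf cE213) (BT.leaf cE214)) (BT.leaf cE215)) (BT.node 216 (BT.leaf cE216) (BT.leaf cE217)))))) (BT.node 239 (BT.node 228 (BT.node 223 (BT.node 220 (BT.node 219 (BT.node 218 (BT.leaf cE218) (BT.leaf cE219)) (BT.leaf cE220)) (BT.node 222 (BT.node 221 (BT.leaf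 cE221) (BT.leaf cE222)) (BT.leaf cE223))) (BT.node 226 (BT.node 225 (BT.node 224 (BT.leaf cE224) (BT.leaf cE225)) (BT.leaf cE226)) (BT.node 227 (BT.leaf cE227) (BT.leaf cE228)))) (BT.node 234 (BT.node 231 (BT.node 230 (BT.node 229 (BT.leaf cE229) (BT.leaf cE230)) (BT.leaf cE231)) (BT.node 233 (BT.node 232 (BT.leaf cE232) (BT.leaf cE233)) (BT.leaf cE234))) (BT.node 237 (BT.node 236 (BT.node 235 (BT.leaf cE235) (BT.leaf cE236)) (BT.leaf cE237)) (BT.node 238 (BT.leaf cE238) (BT.leaf cE239))))) (BT.node 250 (BT.node 245 (BT.node 242 (BT.node 241 (BT.node 240 (BT.leaf cE240) (BT.leaf cE241)) (BT.leaf cE242)) (BT.node 244 (BT.node 243 (BT.leaf cE243) (BT.leaf cE244)) (BT.leaf cE245))) (BT.node 248 (BT.node 247 (BT.node 246 (BT.leaf cE246) (BT.leaf cE247)) (BT.leaf cE248)) (BT.node 249 (BT.leaf cE249) (BT.leaf cE250)))) (BT.node 255 (BT.node 253 (BT.node 252 (BT.node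 251 (BT.leaf cE251) (BT.leaf cE252)) (BT.leaf cE253)) (BT.node 254 (BT.leaf cE254) (BT.leaf cE255))) (BT.node 258 (BT.node 257 (BT.node 256 (BT.leaf cE256) (BT.leaf cE257)) (BT.leaf cE258)) (BT.node 259 (BT.leaf cE259) (BT.leaf cE260))))))) (BT.node 303 (BT.node 282 (BT.node 271 (BT.node 266 (BT.node 263 (BT.node 262 (BT.node 261 (BT.leaf cE261) (BT.leaf cE262)) (BT.leaf cE263)) (BT.node 265 (BT.node 264 (BT.leaf cE264) (BT.leaf cE265)) (BT.leaf cE266))) (BT.node 269 (BT.node 268 (BT.node 267 (BT.leaf cE267) (BT.leaf cE268)) (BT.leaf cE269)) (BT.node 270 (BT.leaf cE270) (BT.leaf cE271)))) (BT.node 277 (BT.node 274 (BT.node 273 (BT.node 272 (BT.leaf cE272) (BT.leaf cE273)) (BT.leaf cE274)) (BT.node 276 (BT.node 275 (BT.leaf cE275) (BT.leaf cE276)) (BT.leaf cE277))) (BT.node 280 (BT.node 279 (BT.node 278 (BT.leaf cE278) (BT.leaf cE279)) (BT.leaf cE280)) (BT.node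 281 (BT.leaf cE281) (BT.leaf cE282))))) (BT.node 293 (BT.node 288 (BT.node 285 (BT.node 284 (BT.node 283 (BT.leaf cE283) (BT.leaf cE284)) (BT.leaf cE285)) (BT.node 287 (BT.node 286 (BT.leaf cE286) (BT.leaf cE287)) (BT.leaf cE288))) (BT.node 291 (BT.node 290 (BT.node 289 (BT.leaf cE289) (BT.leaf cE290)) (BT.leaf cE291)) (BT.node 292 (BT.leaf cE292) (BT.leaf cE293)))) (BT.node 298 (BT.node 296 (BT.node 295 (BT.node 294 (BT.leaf cE294) (BT.leaf cE295)) (BT.leaf cE296)) (BT.node 297 (BT.leaf cE297) (BT.leaf cE298))) (BT.node 301 (BT.node 300 (BT.node 299 (BT.leaf cE299) (BT.leaf cE300)) (BT.leaf cE301)) (BT.node 302 (BT.leaf cE302) (BT.leaf cE303)))))) (BT.node 325 (BT.node 314 (BT.node 309 (BT.node 306 (BT.node 305 (BT.node 304 (BT.leaf cE304) (BT.leaf cE305)) (BT.leaf cE306)) (BT.node 308 (BT.node 307 (BT.leaf cE307) (BT.leaf cE308)) (BT.leaf cE309))) (BT.node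 312 (BT.node 311 (BT.node 310 (BT.leaf cE310) (BT.leaf cE311)) (BT.leaf cE312)) (BT.node 313 (BT.leaf cE313) (BT.leaf cE314)))) (BT.node 320 (BT.node 317 (BT.node 316 (BT.node 315 (BT.leaf cE315) (BT.leaf cE316)) (BT.leaf cE317)) (BT.node 319 (BT.node 318 (BT.leaf cE318) (BT.leaf cE319)) (BT.leaf cE320))) (BT.node 323 (BT.node 322 (BT.node 321 (BT.leaf cE321) (BT.leaf cE322)) (BT.leaf cE323)) (BT.node 324 (BT.leaf cE324) (BT.leaf cE325))))) (BT.node 336 (BT.node 331 (BT.node 328 (BT.node 327 (BT.node 326 (BT.leaf cE326) (BT.leaf cE327)) (BT.leaf cE328)) (BT.node 330 (BT.node 329 (BT.leaf cE329) (BT.leaf cE330)) (BT.leaf cE331))) (BT.node 334 (BT.node 333 (BT.node 332 (BT.leaf cE332) (BT.leaf cE333)) (BT.leaf cE334)) (BT.node 335 (BT.leaf cE335) (BT.leaf cE336)))) (BT.node 341 (BT.node 339 (BT.node 338 (BT.node 337 (BT.leaf cE337) (BT.leaf cE338)) (BT.leaf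 cE339)) (BT.node 340 (BT.leaf cE340) (BT.leaf cE341))) (BT.node 344 (BT.node 343 (BT.node 342 (BT.leaf cE342) (BT.leaf cE343)) (BT.leaf cE344)) (BT.node 345 (BT.leaf cE345) (BT.leaf cE346))))))))) (BT.node 519 (BT.node 433 (BT.node 390 (BT.node 368 (BT.node 357 (BT.node 352 (BT.node 349 (BT.node 348 (BT.node 347 (BT.leaf cE347) (BT.leaf cE348)) (BT.leaf cE349)) (BT.node 351 (BT.node 350 (BT.leaf cE350) (BT.leaf cE351)) (BT.leaf cE352))) (BT.node 355 (BT.node 354 (BT.node 353 (BT.leaf cE353) (BT.leaf cE354)) (BT.leaf cE355)) (BT.node 356 (BT.leaf cE356) (BT.leaf cE357)))) (BT.node 363 (BT.node 360 (BT.node 359 (BT.node 358 (BT.leaf cE358) (BT.leaf cE359)) (BT.leaf cE360)) (BT.node 362 (BT.node 361 (BT.leaf cE361) (BT.leaf cE362)) (BT.leaf cE363))) (BT.node 366 (BT.node 365 (BT.node 364 (BT.leaf cE364) (BT.leaf cE365)) (BT.leaf cE366)) (BT.node 367 (BT.leaf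 cE367) (BT.leaf cE368))))) (BT.node 379 (BT.node 374 (BT.node 371 (BT.node 370 (BT.node 369 (BT.leaf cE369) (BT.leaf cE370)) (BT.leaf cE371)) (BT.node 373 (BT.node 372 (BT.leaf cE372) (BT.leaf cE373)) (BT.leaf cE374))) (BT.node 377 (BT.node 376 (BT.node 375 (BT.leaf cE375) (BT.leaf cE376)) (BT.leaf cE377)) (BT.node 378 (BT.leaf cE378) (BT.leaf cE379)))) (BT.node 385 (BT.node 382 (BT.node 381 (BT.node 380 (BT.leaf cE380) (BT.leaf cE381)) (BT.leaf cE382)) (BT.node 384 (BT.node 383 (BT.leaf cE383) (BT.leaf cE384)) (BT.leaf cE385))) (BT.node 388 (BT.node 387 (BT.node 386 (BT.leaf cE386) (BT.leaf cE387)) (BT.leaf cE388)) (BT.node 389 (BT.leaf cE389) (BT.leaf cE390)))))) (BT.node 412 (BT.node 401 (BT.node 396 (BT.node 393 (BT.node 392 (BT.node 391 (BT.leaf cE391) (BT.leaf cE392)) (BT.leaf cE393)) (BT.node 395 (BT.node 394 (BT.leaf cE394) (BT.leaf cE395)) (BT.leaf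 cE396))) (BT.node 399 (BT.node 398 (BT.node 397 (BT.leaf cE397) (BT.leaf cE398)) (BT.leaf cE399)) (BT.node 400 (BT.leaf cE400) (BT.leaf cE401)))) (BT.node 407 (BT.node 404 (BT.node 403 (BT.node 402 (BT.leaf cE402) (BT.leaf cE403)) (BT.leaf cE404)) (BT.node 406 (BT.node 405 (BT.leaf cE405) (BT.leaf cE406)) (BT.leaf cE407))) (BT.node 410 (BT.node 409 (BT.node 408 (BT.leaf cE408) (BT.leaf cE409)) (BT.leaf cE410)) (BT.node 411 (BT.leaf cE411) (BT.leaf cE412))))) (BT.node 423 (BT.node 418 (BT.node 415 (BT.node 414 (BT.node 413 (BT.leaf cE413) (BT.leaf cE414)) (BT.leaf cE415)) (BT.node 417 (BT.node 416 (BT.leaf cE416) (BT.leaf cE417)) (BT.leaf cE418))) (BT.node 421 (BT.node 420 (BT.node 419 (BT.leaf cE419) (BT.leaf cE420)) (BT.leaf cE421)) (BT.node 422 (BT.leaf cE422) (BT.leaf cE423)))) (BT.node 428 (BT.node 426 (BT.node 425 (BT.node 424 (BT.leaf cE424) (BT.leaf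 cE425)) (BT.leaf cE426)) (BT.node 427 (BT.leaf cE427) (BT.leaf cE428))) (BT.node 431 (BT.node 430 (BT.node 429 (BT.leaf cE429) (BT.leaf cE430)) (BT.leaf cE431)) (BT.node 432 (BT.leaf cE432) (BT.leaf cE433))))))) (BT.node 476 (BT.node 455 (BT.node 444 (BT.node 439 (BT.node 436 (BT.node 435 (BT.node 434 (BT.leaf cE434) (BT.leaf cE435)) (BT.leaf cE436)) (BT.node 438 (BT.node 437 (BT.leaf cE437) (BT.leaf cE438)) (BT.leaf cE439))) (BT.node 442 (BT.node 441 (BT.node 440 (BT.leaf cE440) (BT.leaf cE441)) (BT.leaf cE442)) (BT.node 443 (BT.leaf cE443) (BT.leaf cE444)))) (BT.node 450 (BT.node 447 (BT.node 446 (BT.node 445 (BT.leaf cE445) (BT.leaf cE446)) (BT.leaf cE447)) (BT.node 449 (BT.node 448 (BT.leaf cE448) (BT.leaf cE449)) (BT.leaf cE450))) (BT.node 453 (BT.node 452 (BT.node 451 (BT.leaf cE451) (BT.leaf cE452)) (BT.leaf cE453)) (BT.node 454 (BT.leaf cE454) (BT.leaf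 cE455))))) (BT.node 466 (BT.node 461 (BT.node 458 (BT.node 457 (BT.node 456 (BT.leaf cE456) (BT.leaf cE457)) (BT.leaf cE458)) (BT.node 460 (BT.node 459 (BT.leaf cE459) (BT.leaf cE460)) (BT.leaf cE461))) (BT.node 464 (BT.node 463 (BT.node 462 (BT.leaf cE462) (BT.leaf cE463)) (BT.leaf cE464)) (BT.node 465 (BT.leaf cE465) (BT.leaf cE466)))) (BT.node 471 (BT.node 469 (BT.node 468 (BT.node 467 (BT.leaf cE467) (BT.leaf cE468)) (BT.leaf cE469)) (BT.node 470 (BT.leaf cE470) (BT.leaf cE471))) (BT.node 474 (BT.node 473 (BT.node 472 (BT.leaf cE472) (BT.leaf cE473)) (BT.leaf cE474)) (BT.node 475 (BT.leaf cE475) (BT.leaf cE476)))))) (BT.node 498 (BT.node 487 (BT.node 482 (BT.node 479 (BT.node 478 (BT.node 477 (BT.leaf cE477) (BT.leaf cE478)) (BT.leaf cE479)) (BT.node 481 (BT.node 480 (BT.leaf cE480) (BT.leaf cE481)) (BT.leaf cE482))) (BT.node 485 (BT.node 484 (BT.node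 483 (BT.leaf cE483) (BT.leaf cE484)) (BT.leaf cE485)) (BT.node 486 (BT.leaf cE486) (BT.leaf cE487)))) (BT.node 493 (BT.node 490 (BT.node 489 (BT.node 488 (BT.leaf cE488) (BT.leaf cE489)) (BT.leaf cE490)) (BT.node 492 (BT.node 491 (BT.leaf cE491) (BT.leaf cE492)) (BT.leaf cE493))) (BT.node 496 (BT.node 495 (BT.node 494 (BT.leaf cE494) (BT.leaf cE495)) (BT.leaf cE496)) (BT.node 497 (BT.leaf cE497) (BT.leaf cE498))))) (BT.node 509 (BT.node 504 (BT.node 501 (BT.node 500 (BT.node 499 (BT.leaf cE499) (BT.leaf cE500)) (BT.leaf cE501)) (BT.node 503 (BT.node 502 (BT.leaf cE502) (BT.leaf cE503)) (BT.leaf cE504))) (BT.node 507 (BT.node 506 (BT.node 505 (BT.leaf cE505) (BT.leaf cE506)) (BT.leaf cE507)) (BT.node 508 (BT.leaf cE508) (BT.leaf cE509)))) (BT.node 514 (BT.node 512 (BT.node 511 (BT.node 510 (BT.leaf cE510) (BT.leaf cE511)) (BT.leaf cE512)) (BT.node 513 (BT.leaf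 cE513) (BT.leaf cE514))) (BT.node 517 (BT.node 516 (BT.node 515 (BT.leaf cE515) (BT.leaf cE516)) (BT.leaf cE517)) (BT.node 518 (BT.leaf cE518) (BT.leaf cE519)))))))) (BT.node 606 (BT.node 563 (BT.node 541 (BT.node 530 (BT.node 525 (BT.node 522 (BT.node 521 (BT.node 520 (BT.leaf cE520) (BT.leaf cE521)) (BT.leaf cE522)) (BT.node 524 (BT.node 523 (BT.leaf cE523) (BT.leaf cE524)) (BT.leaf cE525))) (BT.node 528 (BT.node 527 (BT.node 526 (BT.leaf cE526) (BT.leaf cE527)) (BT.leaf cE528)) (BT.node 529 (BT.leaf cE529) (BT.leaf cE530)))) (BT.node 536 (BT.node 533 (BT.node 532 (BT.node 531 (BT.leaf cE531) (BT.leaf cE532)) (BT.leaf cE533)) (BT.node 535 (BT.node 534 (BT.leaf cE534) (BT.leaf cE535)) (BT.leaf cE536))) (BT.node 539 (BT.node 538 (BT.node 537 (BT.leaf cE537) (BT.leaf cE538)) (BT.leaf cE539)) (BT.node 540 (BT.leaf cE540) (BT.leaf cE541))))) (BT.node 552 (BT.node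 547 (BT.node 544 (BT.node 543 (BT.node 542 (BT.leaf cE542) (BT.leaf cE543)) (BT.leaf cE544)) (BT.node 546 (BT.node 545 (BT.leaf cE545) (BT.leaf cE546)) (BT.leaf cE547))) (BT.node 550 (BT.node 549 (BT.node 548 (BT.leaf cE548) (BT.leaf cE549)) (BT.leaf cE550)) (BT.node 551 (BT.leaf cE551) (BT.leaf cE552)))) (BT.node 558 (BT.node 555 (BT.node 554 (BT.node 553 (BT.leaf cE553) (BT.leaf cE554)) (BT.leaf cE555)) (BT.node 557 (BT.node 556 (BT.leaf cE556) (BT.leaf cE557)) (BT.leaf cE558))) (BT.node 561 (BT.node 560 (BT.node 559 (BT.leaf cE559) (BT.leaf cE560)) (BT.leaf cE561)) (BT.node 562 (BT.leaf cE562) (BT.leaf cE563)))))) (BT.node 585 (BT.node 574 (BT.node 569 (BT.node 566 (BT.node 565 (BT.node 564 (BT.leaf cE564) (BT.leaf cE565)) (BT.leaf cE566)) (BT.node 568 (BT.node 567 (BT.leaf cE567) (BT.leaf cE568)) (BT.leaf cE569))) (BT.node 572 (BT.node 571 (BT.node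 570 (BT.leaf cE570) (BT.leaf cE571)) (BT.leaf cE572)) (BT.node 573 (BT.leaf cE573) (BT.leaf cE574)))) (BT.node 580 (BT.node 577 (BT.node 576 (BT.node 575 (BT.leaf cE575) (BT.leaf cE576)) (BT.leaf cE577)) (BT.node 579 (BT.node 578 (BT.leaf cE578) (BT.leaf cE579)) (BT.leaf cE580))) (BT.node 583 (BT.node 582 (BT.node 581 (BT.leaf cE581) (BT.leaf cE582)) (BT.leaf cE583)) (BT.node 584 (BT.leaf cE584) (BT.leaf cE585))))) (BT.node 596 (BT.node 591 (BT.node 588 (BT.node 587 (BT.node 586 (BT.leaf cE586) (BT.leaf cE587)) (BT.leaf cE588)) (BT.node 590 (BT.node 589 (BT.leaf cE589) (BT.leaf cE590)) (BT.leaf cE591))) (BT.node 594 (BT.node 593 (BT.node 592 (BT.leaf cE592) (BT.leaf cE593)) (BT.leaf cE594)) (BT.node 595 (BT.leaf cE595) (BT.leaf cE596)))) (BT.node 601 (BT.node 599 (BT.node 598 (BT.node 597 (BT.leaf cE597) (BT.leaf cE598)) (BT.leaf cE599)) (BT.node 600 (BT.leaf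 cE600) (BT.leaf cE601))) (BT.node 604 (BT.node 603 (BT.node 602 (BT.leaf cE602) (BT.leaf cE603)) (BT.leaf cE604)) (BT.node 605 (BT.leaf cE605) (BT.leaf cE606))))))) (BT.node 649 (BT.node 628 (BT.node 617 (BT.node 612 (BT.node 609 (BT.node 608 (BT.node 607 (BT.leaf cE607) (BT.leaf cE608)) (BT.leaf cE609)) (BT.node 611 (BT.node 610 (BT.leaf cE610) (BT.leaf cE611)) (BT.leaf cE612))) (BT.node 615 (BT.node 614 (BT.node 613 (BT.leaf cE613) (BT.leaf cE614)) (BT.leaf cE615)) (BT.node 616 (BT.leaf cE616) (BT.leaf cE617)))) (BT.node 623 (BT.node 620 (BT.node 619 (BT.node 618 (BT.leaf cE618) (BT.leaf cE619)) (BT.leaf cE620)) (BT.node 622 (BT.node 621 (BT.leaf cE621) (BT.leaf cE622)) (BT.leaf cE623))) (BT.node 626 (BT.node 625 (BT.node 624 (BT.leaf cE624) (BT.leaf cE625)) (BT.leaf cE626)) (BT.node 627 (BT.leaf cE627) (BT.leaf cE628))))) (BT.node 639 (BT.node 634 (BT.node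 631 (BT.node 630 (BT.node 629 (BT.leaf cE629) (BT.leaf cE630)) (BT.leaf cE631)) (BT.node 633 (BT.node 632 (BT.leaf cE632) (BT.leaf cE633)) (BT.leaf cE634))) (BT.node 637 (BT.node 636 (BT.node 635 (BT.leaf cE635) (BT.leaf cE636)) (BT.leaf cE637)) (BT.node 638 (BT.leaf cE638) (BT.leaf cE639)))) (BT.node 644 (BT.node 642 (BT.node 641 (BT.node 640 (BT.leaf cE640) (BT.leaf cE641)) (BT.leaf cE642)) (BT.node 643 (BT.leaf cE643) (BT.leaf cE644))) (BT.node 647 (BT.node 646 (BT.node 645 (BT.leaf cE645) (BT.leaf cE646)) (BT.leaf cE647)) (BT.node 648 (BT.leaf cE648) (BT.leaf cE649)))))) (BT.node 671 (BT.node 660 (BT.node 655 (BT.node 652 (BT.node 651 (BT.node 650 (BT.leaf cE650) (BT.leaf cE651)) (BT.leaf cE652)) (BT.node 654 (BT.node 653 (BT.leaf cE653) (BT.leaf cE654)) (BT.leaf cE655))) (BT.node 658 (BT.node 657 (BT.node 656 (BT.leaf cE656) (BT.leaf cE657)) (BT.leaf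 cE658)) (BT.node 659 (BT.leaf cE659) (BT.leaf cE660)))) (BT.node 666 (BT.node 663 (BT.node 662 (BT.node 661 (BT.leaf cE661) (BT.leaf cE662)) (BT.leaf cE663)) (BT.node 665 (BT.node 664 (BT.leaf cE664) (BT.leaf cE665)) (BT.leaf cE666))) (BT.node 669 (BT.node 668 (BT.node 667 (BT.leaf cE667) (BT.leaf cE668)) (BT.leaf cE669)) (BT.node 670 (BT.leaf cE670) (BT.leaf cE671))))) (BT.node 682 (BT.node 677 (BT.node 674 (BT.node 673 (BT.node 672 (BT.leaf cE672) (BT.leaf cE673)) (BT.leaf cE674)) (BT.node 676 (BT.node 675 (BT.leaf cE675) (BT.leaf cE676)) (BT.leaf cE677))) (BT.node 680 (BT.node 679 (BT.node 678 (BT.leaf cE678) (BT.leaf cE679)) (BT.leaf cE680)) (BT.node 681 (BT.leaf cE681) (BT.leaf cE682)))) (BT.node 687 (BT.node 685 (BT.node 684 (BT.node 683 (BT.leaf cE683) (BT.leaf cE684)) (BT.leaf cE685)) (BT.node 686 (BT.leaf cE686) (BT.leaf cE687))) (BT.node 690 (BT.node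 689 (BT.node 688 (BT.leaf cE688) (BT.leaf cE689)) (BT.leaf cE690)) (BT.node 691 (BT.leaf cE691) (BT.leaf cE692)))))))))) (BT.node 1039 (BT.node 866 (BT.node 779 (BT.node 736 (BT.node 714 (BT.node 703 (BT.node 698 (BT.node 695 (BT.node 694 (BT.node 693 (BT.leaf cE693) (BT.leaf cE694)) (BT.leaf cE695)) (BT.node 697 (BT.node 696 (BT.leaf cE696) (BT.leaf cE697)) (BT.leaf cE698))) (BT.node 701 (BT.node 700 (BT.node 699 (BT.leaf cE699) (BT.leaf cE700)) (BT.leaf cE701)) (BT.node 702 (BT.leaf cE702) (BT.leaf cE703)))) (BT.node 709 (BT.node 706 (BT.node 705 (BT.node 704 (BT.leaf cE704) (BT.leaf cE705)) (BT.leaf cE706)) (BT.node 708 (BT.node 707 (BT.leaf cE707) (BT.leaf cE708)) (BT.leaf cE709))) (BT.node 712 (BT.node 711 (BT.node 710 (BT.leaf cE710) (BT.leaf cE711)) (BT.leaf cE712)) (BT.node 713 (BT.leaf cE713) (BT.leaf cE714))))) (BT.node 725 (BT.node 720 (BT.node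 717 (BT.node 716 (BT.node 715 (BT.leaf cE715) (BT.leaf cE716)) (BT.leaf cE717)) (BT.node 719 (BT.node 718 (BT.leaf cE718) (BT.leaf cE719)) (BT.leaf cE720))) (BT.node 723 (BT.node 722 (BT.node 721 (BT.leaf cE721) (BT.leaf cE722)) (BT.leaf cE723)) (BT.node 724 (BT.leaf cE724) (BT.leaf cE725)))) (BT.node 731 (BT.node 728 (BT.node 727 (BT.node 726 (BT.leaf cE726) (BT.leaf cE727)) (BT.leaf cE728)) (BT.node 730 (BT.node 729 (BT.leaf cE729) (BT.leaf cE730)) (BT.leaf cE731))) (BT.node 734 (BT.node 733 (BT.node 732 (BT.leaf cE732) (BT.leaf cE733)) (BT.leaf cE734)) (BT.node 735 (BT.leaf cE735) (BT.leaf cE736)))))) (BT.node 758 (BT.node 747 (BT.node 742 (BT.node 739 (BT.node 738 (BT.node 737 (BT.leaf cE737) (BT.leaf cE738)) (BT.leaf cE739)) (BT.node 741 (BT.node 740 (BT.leaf cE740) (BT.leaf cE741)) (BT.leaf cE742))) (BT.node 745 (BT.node 744 (BT.node 743 (BT.leaf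 cE743) (BT.leaf cE744)) (BT.leaf cE745)) (BT.node 746 (BT.leaf cE746) (BT.leaf cE747)))) (BT.node 753 (BT.node 750 (BT.node 749 (BT.node 748 (BT.leaf cE748) (BT.leaf cE749)) (BT.leaf cE750)) (BT.node 752 (BT.node 751 (BT.leaf cE751) (BT.leaf cE752)) (BT.leaf cE753))) (BT.node 756 (BT.node 755 (BT.node 754 (BT.leaf cE754) (BT.leaf cE755)) (BT.leaf cE756)) (BT.node 757 (BT.leaf cE757) (BT.leaf cE758))))) (BT.node 769 (BT.node 764 (BT.node 761 (BT.node 760 (BT.node 759 (BT.leaf cE759) (BT.leaf cE760)) (BT.leaf cE761)) (BT.node 763 (BT.node 762 (BT.leaf cE762) (BT.leaf cE763)) (BT.leaf cE764))) (BT.node 767 (BT.node 766 (BT.node 765 (BT.leaf cE765) (BT.leaf cE766)) (BT.leaf cE767)) (BT.node 768 (BT.leaf cE768) (BT.leaf cE769)))) (BT.node 774 (BT.node 772 (BT.node 771 (BT.node 770 (BT.leaf cE770) (BT.leaf cE771)) (BT.leaf cE772)) (BT.node 773 (BT.leaf cE773)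 (BT.leaf cE774))) (BT.node 777 (BT.node 776 (BT.node 775 (BT.leaf cE775) (BT.leaf cE776)) (BT.leaf cE777)) (BT.node 778 (BT.leaf cE778) (BT.leaf cE779))))))) (BT.node 823 (BT.node 801 (BT.node 790 (BT.node 785 (BT.node 782 (BT.node 781 (BT.node 780 (BT.leaf cE780) (BT.leaf cE781)) (BT.leaf cE782)) (BT.node 784 (BT.node 783 (BT.leaf cE783) (BT.leaf cE784)) (BT.leaf cE785))) (BT.node 788 (BT.node 787 (BT.node 786 (BT.leaf cE786) (BT.leaf cE787)) (BT.leaf cE788)) (BT.node 789 (BT.leaf cE789) (BT.leaf cE790)))) (BT.node 796 (BT.node 793 (BT.node 792 (BT.node 791 (BT.leaf cE791) (BT.leaf cE792)) (BT.leaf cE793)) (BT.node 795 (BT.node 794 (BT.leaf cE794) (BT.leaf cE795)) (BT.leaf cE796))) (BT.node 799 (BT.node 798 (BT.node 797 (BT.leaf cE797) (BT.leaf cE798)) (BT.leaf cE799)) (BT.node 800 (BT.leaf cE800) (BT.leaf cE801))))) (BT.node 812 (BT.node 807 (BT.node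 804 (BT.node 803 (BT.node 802 (BT.leaf cE802) (BT.leaf cE803)) (BT.leaf cE804)) (BT.node 806 (BT.node 805 (BT.leaf cE805) (BT.leaf cE806)) (BT.leaf cE807))) (BT.node 810 (BT.node 809 (BT.node 808 (BT.leaf cE808) (BT.leaf cE809)) (BT.leaf cE810)) (BT.node 811 (BT.leaf cE811) (BT.leaf cE812)))) (BT.node 818 (BT.node 815 (BT.node 814 (BT.node 813 (BT.leaf cE813) (BT.leaf cE814)) (BT.leaf cE815)) (BT.node 817 (BT.node 816 (BT.leaf cE816) (BT.leaf cE817)) (BT.leaf cE818))) (BT.node 821 (BT.node 820 (BT.node 819 (BT.leaf cE819) (BT.leaf cE820)) (BT.leaf cE821)) (BT.node 822 (BT.leaf cE822) (BT.leaf cE823)))))) (BT.node 845 (BT.node 834 (BT.node 829 (BT.node 826 (BT.node 825 (BT.node 824 (BT.leaf cE824) (BT.leaf cE825)) (BT.leaf cE826)) (BT.node 828 (BT.node 827 (BT.leaf cE827) (BT.leaf cE828)) (BT.leaf cE829))) (BT.node 832 (BT.node 831 (BT.node 830 (BT.leaf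 cE830) (BT.leaf cE831)) (BT.leaf cE832)) (BT.node 833 (BT.leaf cE833) (BT.leaf cE834)))) (BT.node 840 (BT.node 837 (BT.node 836 (BT.node 835 (BT.leaf cE835) (BT.leaf cE836)) (BT.leaf cE837)) (BT.node 839 (BT.node 838 (BT.leaf cE838) (BT.leaf cE839)) (BT.leaf cE840))) (BT.node 843 (BT.node 842 (BT.node 841 (BT.leaf cE841) (BT.leaf cE842)) (BT.leaf cE843)) (BT.node 844 (BT.leaf cE844) (BT.leaf cE845))))) (BT.node 856 (BT.node 851 (BT.node 848 (BT.node 847 (BT.node 846 (BT.leaf cE846) (BT.leaf cE847)) (BT.leaf cE848)) (BT.node 850 (BT.node 849 (BT.leaf cE849) (BT.leaf cE850)) (BT.leaf cE851))) (BT.node 854 (BT.node 853 (BT.node 852 (BT.leaf cE852) (BT.leaf cE853)) (BT.leaf cE854)) (BT.node 855 (BT.leaf cE855) (BT.leaf cE856)))) (BT.node 861 (BT.node 859 (BT.node 858 (BT.node 857 (BT.leaf cE857) (BT.leaf cE858)) (BT.leaf cE859)) (BT.node 860 (BT.leaf cE860)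 (BT.leaf cE861))) (BT.node 864 (BT.node 863 (BT.node 862 (BT.leaf cE862) (BT.leaf cE863)) (BT.leaf cE864)) (BT.node 865 (BT.leaf cE865) (BT.leaf cE866)))))))) (BT.node 953 (BT.node 910 (BT.node 888 (BT.node 877 (BT.node 872 (BT.node 869 (BT.node 868 (BT.node 867 (BT.leaf cE867) (BT.leaf cE868)) (BT.leaf cE869)) (BT.node 871 (BT.node 870 (BT.leaf cE870) (BT.leaf cE871)) (BT.leaf cE872))) (BT.node 875 (BT.node 874 (BT.node 873 (BT.leaf cE873) (BT.leaf cE874)) (BT.leaf cE875)) (BT.node 876 (BT.leaf cE876) (BT.leaf cE877)))) (BT.node 883 (BT.node 880 (BT.node 879 (BT.node 878 (BT.leaf cE878) (BT.leaf cE879)) (BT.leaf cE880)) (BT.node 882 (BT.node 881 (BT.leaf cE881) (BT.leaf cE882)) (BT.leaf cE883))) (BT.node 886 (BT.node 885 (BT.node 884 (BT.leaf cE884) (BT.leaf cE885)) (BT.leaf cE886)) (BT.node 887 (BT.leaf cE887) (BT.leaf cE888))))) (BT.node 899 (BT.node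 894 (BT.node 891 (BT.node 890 (BT.node 889 (BT.leaf cE889) (BT.leaf cE890)) (BT.leaf cE891)) (BT.node 893 (BT.node 892 (BT.leaf cE892) (BT.leaf cE893)) (BT.leaf cE894))) (BT.node 897 (BT.node 896 (BT.node 895 (BT.leaf cE895) (BT.leaf cE896)) (BT.leaf cE897)) (BT.node 898 (BT.leaf cE898) (BT.leaf cE899)))) (BT.node 905 (BT.node 902 (BT.node 901 (BT.node 900 (BT.leaf cE900) (BT.leaf cE901)) (BT.leaf cE902)) (BT.node 904 (BT.node 903 (BT.leaf cE903) (BT.leaf cE904)) (BT.leaf cE905))) (BT.node 908 (BT.node 907 (BT.node 906 (BT.leaf cE906) (BT.leaf cE907)) (BT.leaf cE908)) (BT.node 909 (BT.leaf cE909) (BT.leaf cE910)))))) (BT.node 932 (BT.node 921 (BT.node 916 (BT.node 913 (BT.node 912 (BT.node 911 (BT.leaf cE911) (BT.leaf cE912)) (BT.leaf cE913)) (BT.node 915 (BT.node 914 (BT.leaf cE914) (BT.leaf cE915)) (BT.leaf cE916))) (BT.node 919 (BT.node 918 (BT.node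 917 (BT.leaf cE917) (BT.leaf cE918)) (BT.leaf cE919)) (BT.node 920 (BT.leaf cE920) (BT.leaf cE921)))) (BT.node 927 (BT.node 924 (BT.node 923 (BT.node 922 (BT.leaf cE922) (BT.leaf cE923)) (BT.leaf cE924)) (BT.node 926 (BT.node 925 (BT.leaf cE925) (BT.leaf cE926)) (BT.leaf cE927))) (BT.node 930 (BT.node 929 (BT.node 928 (BT.leaf cE928) (BT.leaf cE929)) (BT.leaf cE930)) (BT.node 931 (BT.leaf cE931) (BT.leaf cE932))))) (BT.node 943 (BT.node 938 (BT.node 935 (BT.node 934 (BT.node 933 (BT.leaf cE933) (BT.leaf cE934)) (BT.leaf cE935)) (BT.node 937 (BT.node 936 (BT.leaf cE936) (BT.leaf cE937)) (BT.leaf cE938))) (BT.node 941 (BT.node 940 (BT.node 939 (BT.leaf cE939) (BT.leaf cE940)) (BT.leaf cE941)) (BT.node 942 (BT.leaf cE942) (BT.leaf cE943)))) (BT.node 948 (BT.node 946 (BT.node 945 (BT.node 944 (BT.leaf cE944) (BT.leaf cE945)) (BT.leaf cE946)) (BT.node 947 (BT.leaf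 cE947) (BT.leaf cE948))) (BT.node 951 (BT.node 950 (BT.node 949 (BT.leaf cE949) (BT.leaf cE950)) (BT.leaf cE951)) (BT.node 952 (BT.leaf cE952) (BT.leaf cE953))))))) (BT.node 996 (BT.node 975 (BT.node 964 (BT.node 959 (BT.node 956 (BT.node 955 (BT.node 954 (BT.leaf cE954) (BT.leaf cE955)) (BT.leaf cE956)) (BT.node 958 (BT.node 957 (BT.leaf cE957) (BT.leaf cE958)) (BT.leaf cE959))) (BT.node 962 (BT.node 961 (BT.node 960 (BT.leaf cE960) (BT.leaf cE961)) (BT.leaf cE962)) (BT.node 963 (BT.leaf cE963) (BT.leaf cE964)))) (BT.node 970 (BT.node 967 (BT.node 966 (BT.node 965 (BT.leaf cE965) (BT.leaf cE966)) (BT.leaf cE967)) (BT.node 969 (BT.node 968 (BT.leaf cE968) (BT.leaf cE969)) (BT.leaf cE970))) (BT.node 973 (BT.node 972 (BT.node 971 (BT.leaf cE971) (BT.leaf cE972)) (BT.leaf cE973)) (BT.node 974 (BT.leaf cE974) (BT.leaf cE975))))) (BT.node 986 (BT.node 981 (BT.node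 978 (BT.node 977 (BT.node 976 (BT.leaf cE976) (BT.leaf cE977)) (BT.leaf cE978)) (BT.node 980 (BT.node 979 (BT.leaf cE979) (BT.leaf cE980)) (BT.leaf cE981))) (BT.node 984 (BT.node 983 (BT.node 982 (BT.leaf cE982) (BT.leaf cE983)) (BT.leaf cE984)) (BT.node 985 (BT.leaf cE985) (BT.leaf cE986)))) (BT.node 991 (BT.node 989 (BT.node 988 (BT.node 987 (BT.leaf cE987) (BT.leaf cE988)) (BT.leaf cE989)) (BT.node 990 (BT.leaf cE990) (BT.leaf cE991))) (BT.node 994 (BT.node 993 (BT.node 992 (BT.leaf cE992) (BT.leaf cE993)) (BT.leaf cE994)) (BT.node 995 (BT.leaf cE995) (BT.leaf cE996)))))) (BT.node 1018 (BT.node 1007 (BT.node 1002 (BT.node 999 (BT.node 998 (BT.node 997 (BT.leaf cE997) (BT.leaf cE998)) (BT.leaf cE999)) (BT.node 1001 (BT.node 1000 (BT.leaf cE1000) (BT.leaf cE1001)) (BT.leaf cE1002))) (BT.node 1005 (BT.node 1004 (BT.node 1003 (BT.leaf cE1003) (BT.leaf cE1004))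 (BT.leaf cE1005)) (BT.node 1006 (BT.leaf cE1006) (BT.leaf cE1007)))) (BT.node 1013 (BT.node 1010 (BT.node 1009 (BT.node 1008 (BT.leaf cE1008) (BT.leaf cE1009)) (BT.leaf cE1010)) (BT.node 1012 (BT.node 1011 (BT.leaf cE1011) (BT.leaf cE1012)) (BT.leaf cE1013))) (BT.node 1016 (BT.node 1015 (BT.node 1014 (BT.leaf cE1014) (BT.leaf cE1015)) (BT.leaf cE1016)) (BT.node 1017 (BT.leaf cE1017) (BT.leaf cE1018))))) (BT.node 1029 (BT.node 1024 (BT.node 1021 (BT.node 1020 (BT.node 1019 (BT.leaf cE1019) (BT.leaf cE1020)) (BT.leaf cE1021)) (BT.node 1023 (BT.node 1022 (BT.leaf cE1022) (BT.leaf cE1023)) (BT.leaf cE1024))) (BT.node 1027 (BT.node 1026 (BT.node 1025 (BT.leaf cE1025) (BT.leaf cE1026)) (BT.leaf cE1027)) (BT.node 1028 (BT.leaf cE1028) (BT.leaf cE1029)))) (BT.node 1034 (BT.node 1032 (BT.node 1031 (BT.node 1030 (BT.leaf cE1030) (BT.leaf cE1031)) (BT.leaf cE1032))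 (BT.node 1033 (BT.leaf cE1033) (BT.leaf cE1034))) (BT.node 1037 (BT.node 1036 (BT.node 1035 (BT.leaf cE1035) (BT.leaf cE1036)) (BT.leaf cE1037)) (BT.node 1038 (BT.leaf cE1038) (BT.leaf cE1039))))))))) (BT.node 1212 (BT.node 1126 (BT.node 1083 (BT.node 1061 (BT.node 1050 (BT.node 1045 (BT.node 1042 (BT.node 1041 (BT.node 1040 (BT.leaf cE1040) (BT.leaf cE1041)) (BT.leaf cE1042)) (BT.node 1044 (BT.node 1043 (BT.leaf cE1043) (BT.leaf cE1044)) (BT.leaf cE1045))) (BT.node 1048 (BT.node 1047 (BT.node 1046 (BT.leaf cE1046) (BT.leaf cE1047)) (BT.leaf cE1048)) (BT.node 1049 (BT.leaf cE1049) (BT.leaf cE1050)))) (BT.node 1056 (BT.node 1053 (BT.node 1052 (BT.node 1051 (BT.leaf cE1051) (BT.leaf cE1052)) (BT.leaf cE1053)) (BT.node 1055 (BT.node 1054 (BT.leaf cE1054) (BT.leaf cE1055)) (BT.leaf cE1056))) (BT.node 1059 (BT.node 1058 (BT.node 1057 (BT.leaf cE1057) (BT.leaf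 cE1058)) (BT.leaf cE1059)) (BT.node 1060 (BT.leaf cE1060) (BT.leaf cE1061))))) (BT.node 1072 (BT.node 1067 (BT.node 1064 (BT.node 1063 (BT.node 1062 (BT.leaf cE1062) (BT.leaf cE1063)) (BT.leaf cE1064)) (BT.node 1066 (BT.node 1065 (BT.leaf cE1065) (BT.leaf cE1066)) (BT.leaf cE1067))) (BT.node 1070 (BT.node 1069 (BT.node 1068 (BT.leaf cE1068) (BT.leaf cE1069)) (BT.leaf cE1070)) (BT.node 1071 (BT.leaf cE1071) (BT.leaf cE1072)))) (BT.node 1078 (BT.node 1075 (BT.node 1074 (BT.node 1073 (BT.leaf cE1073) (BT.leaf cE1074)) (BT.leaf cE1075)) (BT.node 1077 (BT.node 1076 (BT.leaf cE1076) (BT.leaf cE1077)) (BT.leaf cE1078))) (BT.node 1081 (BT.node 1080 (BT.node 1079 (BT.leaf cE1079) (BT.leaf cE1080)) (BT.leaf cE1081)) (BT.node 1082 (BT.leaf cE1082) (BT.leaf cE1083)))))) (BT.node 1105 (BT.node 1094 (BT.node 1089 (BT.node 1086 (BT.node 1085 (BT.node 1084 (BT.leaf cE1084)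 (BT.leaf cE1085)) (BT.leaf cE1086)) (BT.node 1088 (BT.node 1087 (BT.leaf cE1087) (BT.leaf cE1088)) (BT.leaf cE1089))) (BT.node 1092 (BT.node 1091 (BT.node 1090 (BT.leaf cE1090) (BT.leaf cE1091)) (BT.leaf cE1092)) (BT.node 1093 (BT.leaf cE1093) (BT.leaf cE1094)))) (BT.node 1100 (BT.node 1097 (BT.node 1096 (BT.node 1095 (BT.leaf cE1095) (BT.leaf cE1096)) (BT.leaf cE1097)) (BT.node 1099 (BT.node 1098 (BT.leaf cE1098) (BT.leaf cE1099)) (BT.leaf cE1100))) (BT.node 1103 (BT.node 1102 (BT.node 1101 (BT.leaf cE1101) (BT.leaf cE1102)) (BT.leaf cE1103)) (BT.node 1104 (BT.leaf cE1104) (BT.leaf cE1105))))) (BT.node 1116 (BT.node 1111 (BT.node 1108 (BT.node 1107 (BT.node 1106 (BT.leaf cE1106) (BT.leaf cE1107)) (BT.leaf cE1108)) (BT.node 1110 (BT.node 1109 (BT.leaf cE1109) (BT.leaf cE1110)) (BT.leaf cE1111))) (BT.node 1114 (BT.node 1113 (BT.node 1112 (BT.leaf cE1112)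 (BT.leaf cE1113)) (BT.leaf cE1114)) (BT.node 1115 (BT.leaf cE1115) (BT.leaf cE1116)))) (BT.node 1121 (BT.node 1119 (BT.node 1118 (BT.node 1117 (BT.leaf cE1117) (BT.leaf cE1118)) (BT.leaf cE1119)) (BT.node 1120 (BT.leaf cE1120) (BT.leaf cE1121))) (BT.node 1124 (BT.node 1123 (BT.node 1122 (BT.leaf cE1122) (BT.leaf cE1123)) (BT.leaf cE1124)) (BT.node 1125 (BT.leaf cE1125) (BT.leaf cE1126))))))) (BT.node 1169 (BT.node 1148 (BT.node 1137 (BT.node 1132 (BT.node 1129 (BT.node 1128 (BT.node 1127 (BT.leaf cE1127) (BT.leaf cE1128)) (BT.leaf cE1129)) (BT.node 1131 (BT.node 1130 (BT.leaf cE1130) (BT.leaf cE1131)) (BT.leaf cE1132))) (BT.node 1135 (BT.node 1134 (BT.node 1133 (BT.leaf cE1133) (BT.leaf cE1134)) (BT.leaf cE1135)) (BT.node 1136 (BT.leaf cE1136) (BT.leaf cE1137)))) (BT.node 1143 (BT.node 1140 (BT.node 1139 (BT.node 1138 (BT.leaf cE1138) (BT.leaf cE1139))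 (BT.leaf cE1140)) (BT.node 1142 (BT.node 1141 (BT.leaf cE1141) (BT.leaf cE1142)) (BT.leaf cE1143))) (BT.node 1146 (BT.node 1145 (BT.node 1144 (BT.leaf cE1144) (BT.leaf cE1145)) (BT.leaf cE1146)) (BT.node 1147 (BT.leaf cE1147) (BT.leaf cE1148))))) (BT.node 1159 (BT.node 1154 (BT.node 1151 (BT.node 1150 (BT.node 1149 (BT.leaf cE1149) (BT.leaf cE1150)) (BT.leaf cE1151)) (BT.node 1153 (BT.node 1152 (BT.leaf cE1152) (BT.leaf cE1153)) (BT.leaf cE1154))) (BT.node 1157 (BT.node 1156 (BT.node 1155 (BT.leaf cE1155) (BT.leaf cE1156)) (BT.leaf cE1157)) (BT.node 1158 (BT.leaf cE1158) (BT.leaf cE1159)))) (BT.node 1164 (BT.node 1162 (BT.node 1161 (BT.node 1160 (BT.leaf cE1160) (BT.leaf cE1161)) (BT.leaf cE1162)) (BT.node 1163 (BT.leaf cE1163) (BT.leaf cE1164))) (BT.node 1167 (BT.node 1166 (BT.node 1165 (BT.leaf cE1165) (BT.leaf cE1166)) (BT.leaf cE1167)) (BT.node 1168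 (BT.leaf cE1168) (BT.leaf cE1169)))))) (BT.node 1191 (BT.node 1180 (BT.node 1175 (BT.node 1172 (BT.node 1171 (BT.node 1170 (BT.leaf cE1170) (BT.leaf cE1171)) (BT.leaf cE1172)) (BT.node 1174 (BT.node 1173 (BT.leaf cE1173) (BT.leaf cE1174)) (BT.leaf cE1175))) (BT.node 1178 (BT.node 1177 (BT.node 1176 (BT.leaf cE1176) (BT.leaf cE1177)) (BT.leaf cE1178)) (BT.node 1179 (BT.leaf cE1179) (BT.leaf cE1180)))) (BT.node 1186 (BT.node 1183 (BT.node 1182 (BT.node 1181 (BT.leaf cE1181) (BT.leaf cE1182)) (BT.leaf cE1183)) (BT.node 1185 (BT.node 1184 (BT.leaf cE1184) (BT.leaf cE1185)) (BT.leaf cE1186))) (BT.node 1189 (BT.node 1188 (BT.node 1187 (BT.leaf cE1187) (BT.leaf cE1188)) (BT.leaf cE1189)) (BT.node 1190 (BT.leaf cE1190) (BT.leaf cE1191))))) (BT.node 1202 (BT.node 1197 (BT.node 1194 (BT.node 1193 (BT.node 1192 (BT.leaf cE1192) (BT.leaf cE1193)) (BT.leaf cE1194))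 (BT.node 1196 (BT.node 1195 (BT.leaf cE1195) (BT.leaf cE1196)) (BT.leaf cE1197))) (BT.node 1200 (BT.node 1199 (BT.node 1198 (BT.leaf cE1198) (BT.leaf cE1199)) (BT.leaf cE1200)) (BT.node 1201 (BT.leaf cE1201) (BT.leaf cE1202)))) (BT.node 1207 (BT.node 1205 (BT.node 1204 (BT.node 1203 (BT.leaf cE1203) (BT.leaf cE1204)) (BT.leaf cE1205)) (BT.node 1206 (BT.leaf cE1206) (BT.leaf cE1207))) (BT.node 1210 (BT.node 1209 (BT.node 1208 (BT.leaf cE1208) (BT.leaf cE1209)) (BT.leaf cE1210)) (BT.node 1211 (BT.leaf cE1211) (BT.leaf cE1212)))))))) (BT.node 1299 (BT.node 1256 (BT.node 1234 (BT.node 1223 (BT.node 1218 (BT.node 1215 (BT.node 1214 (BT.node 1213 (BT.leaf cE1213) (BT.leaf cE1214)) (BT.leaf cE1215)) (BT.node 1217 (BT.node 1216 (BT.leaf cE1216) (BT.leaf cE1217)) (BT.leaf cE1218))) (BT.node 1221 (BT.node 1220 (BT.node 1219 (BT.leaf cE1219) (BT.leaf cE1220)) (BT.leaf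 cE1221)) (BT.node 1222 (BT.leaf cE1222) (BT.leaf cE1223)))) (BT.node 1229 (BT.node 1226 (BT.node 1225 (BT.node 1224 (BT.leaf cE1224) (BT.leaf cE1225)) (BT.leaf cE1226)) (BT.node 1228 (BT.node 1227 (BT.leaf cE1227) (BT.leaf cE1228)) (BT.leaf cE1229))) (BT.node 1232 (BT.node 1231 (BT.node 1230 (BT.leaf cE1230) (BT.leaf cE1231)) (BT.leaf cE1232)) (BT.node 1233 (BT.leaf cE1233) (BT.leaf cE1234))))) (BT.node 1245 (BT.node 1240 (BT.node 1237 (BT.node 1236 (BT.node 1235 (BT.leaf cE1235) (BT.leaf cE1236)) (BT.leaf cE1237)) (BT.node 1239 (BT.node 1238 (BT.leaf cE1238) (BT.leaf cE1239)) (BT.leaf cE1240))) (BT.node 1243 (BT.node 1242 (BT.node 1241 (BT.leaf cE1241) (BT.leaf cE1242)) (BT.leaf cE1243)) (BT.node 1244 (BT.leaf cE1244) (BT.leaf cE1245)))) (BT.node 1251 (BT.node 1248 (BT.node 1247 (BT.node 1246 (BT.leaf cE1246) (BT.leaf cE1247)) (BT.leaf cE1248)) (BT.node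 1250 (BT.node 1249 (BT.leaf cE1249) (BT.leaf cE1250)) (BT.leaf cE1251))) (BT.node 1254 (BT.node 1253 (BT.node 1252 (BT.leaf cE1252) (BT.leaf cE1253)) (BT.leaf cE1254)) (BT.node 1255 (BT.leaf cE1255) (BT.leaf cE1256)))))) (BT.node 1278 (BT.node 1267 (BT.node 1262 (BT.node 1259 (BT.node 1258 (BT.node 1257 (BT.leaf cE1257) (BT.leaf cE1258)) (BT.leaf cE1259)) (BT.node 1261 (BT.node 1260 (BT.leaf cE1260) (BT.leaf cE1261)) (BT.leaf cE1262))) (BT.node 1265 (BT.node 1264 (BT.node 1263 (BT.leaf cE1263) (BT.leaf cE1264)) (BT.leaf cE1265)) (BT.node 1266 (BT.leaf cE1266) (BT.leaf cE1267)))) (BT.node 1273 (BT.node 1270 (BT.node 1269 (BT.node 1268 (BT.leaf cE1268) (BT.leaf cE1269)) (BT.leaf cE1270)) (BT.node 1272 (BT.node 1271 (BT.leaf cE1271) (BT.leaf cE1272)) (BT.leaf cE1273))) (BT.node 1276 (BT.node 1275 (BT.node 1274 (BT.leaf cE1274) (BT.leaf cE1275)) (BT.leaf cE1276))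 (BT.node 1277 (BT.leaf cE1277) (BT.leaf cE1278))))) (BT.node 1289 (BT.node 1284 (BT.node 1281 (BT.node 1280 (BT.node 1279 (BT.leaf cE1279) (BT.leaf cE1280)) (BT.leaf cE1281)) (BT.node 1283 (BT.node 1282 (BT.leaf cE1282) (BT.leaf cE1283)) (BT.leaf cE1284))) (BT.node 1287 (BT.node 1286 (BT.node 1285 (BT.leaf cE1285) (BT.leaf cE1286)) (BT.leaf cE1287)) (BT.node 1288 (BT.leaf cE1288) (BT.leaf cE1289)))) (BT.node 1294 (BT.node 1292 (BT.node 1291 (BT.node 1290 (BT.leaf cE1290) (BT.leaf cE1291)) (BT.leaf cE1292)) (BT.node 1293 (BT.leaf cE1293) (BT.leaf cE1294))) (BT.node 1297 (BT.node 1296 (BT.node 1295 (BT.leaf cE1295) (BT.leaf cE1296)) (BT.leaf cE1297)) (BT.node 1298 (BT.leaf cE1298) (BT.leaf cE1299))))))) (BT.node 1342 (BT.node 1321 (BT.node 1310 (BT.node 1305 (BT.node 1302 (BT.node 1301 (BT.node 1300 (BT.leaf cE1300) (BT.leaf cE1301)) (BT.leaf cE1302)) (BT.node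 1304 (BT.node 1303 (BT.leaf cE1303) (BT.leaf cE1304)) (BT.leaf cE1305))) (BT.node 1308 (BT.node 1307 (BT.node 1306 (BT.leaf cE1306) (BT.leaf cE1307)) (BT.leaf cE1308)) (BT.node 1309 (BT.leaf cE1309) (BT.leaf cE1310)))) (BT.node 1316 (BT.node 1313 (BT.node 1312 (BT.node 1311 (BT.leaf cE1311) (BT.leaf cE1312)) (BT.leaf cE1313)) (BT.node 1315 (BT.node 1314 (BT.leaf cE1314) (BT.leaf cE1315)) (BT.leaf cE1316))) (BT.node 1319 (BT.node 1318 (BT.node 1317 (BT.leaf cE1317) (BT.leaf cE1318)) (BT.leaf cE1319)) (BT.node 1320 (BT.leaf cE1320) (BT.leaf cE1321))))) (BT.node 1332 (BT.node 1327 (BT.node 1324 (BT.node 1323 (BT.node 1322 (BT.leaf cE1322) (BT.leaf cE1323)) (BT.leaf cE1324)) (BT.node 1326 (BT.node 1325 (BT.leaf cE1325) (BT.leaf cE1326)) (BT.leaf cE1327))) (BT.node 1330 (BT.node 1329 (BT.node 1328 (BT.leaf cE1328) (BT.leaf cE1329)) (BT.leaf cE1330)) (BT.node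 1331 (BT.leaf cE1331) (BT.leaf cE1332)))) (BT.node 1337 (BT.node 1335 (BT.node 1334 (BT.node 1333 (BT.leaf cE1333) (BT.leaf cE1334)) (BT.leaf cE1335)) (BT.node 1336 (BT.leaf cE1336) (BT.leaf cE1337))) (BT.node 1340 (BT.node 1339 (BT.node 1338 (BT.leaf cE1338) (BT.leaf cE1339)) (BT.leaf cE1340)) (BT.node 1341 (BT.leaf cE1341) (BT.leaf cE1342)))))) (BT.node 1364 (BT.node 1353 (BT.node 1348 (BT.node 1345 (BT.node 1344 (BT.node 1343 (BT.leaf cE1343) (BT.leaf cE1344)) (BT.leaf cE1345)) (BT.node 1347 (BT.node 1346 (BT.leaf cE1346) (BT.leaf cE1347)) (BT.leaf cE1348))) (BT.node 1351 (BT.node 1350 (BT.node 1349 (BT.leaf cE1349) (BT.leaf cE1350)) (BT.leaf cE1351)) (BT.node 1352 (BT.leaf cE1352) (BT.leaf cE1353)))) (BT.node 1359 (BT.node 1356 (BT.node 1355 (BT.node 1354 (BT.leaf cE1354) (BT.leaf cE1355)) (BT.leaf cE1356)) (BT.node 1358 (BT.node 1357 (BT.leaf cE1357)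 (BT.leaf cE1358)) (BT.leaf cE1359))) (BT.node 1362 (BT.node 1361 (BT.node 1360 (BT.leaf cE1360) (BT.leaf cE1361)) (BT.leaf cE1362)) (BT.node 1363 (BT.leaf cE1363) (BT.leaf cE1364))))) (BT.node 1375 (BT.node 1370 (BT.node 1367 (BT.node 1366 (BT.node 1365 (BT.leaf cE1365) (BT.leaf cE1366)) (BT.leaf cE1367)) (BT.node 1369 (BT.node 1368 (BT.leaf cE1368) (BT.leaf cE1369)) (BT.leaf cE1370))) (BT.node 1373 (BT.node 1372 (BT.node 1371 (BT.leaf cE1371) (BT.leaf cE1372)) (BT.leaf cE1373)) (BT.node 1374 (BT.leaf cE1374) (BT.leaf cE1375)))) (BT.node 1380 (BT.node 1378 (BT.node 1377 (BT.node 1376 (BT.leaf cE1376) (BT.leaf cE1377)) (BT.leaf cE1378)) (BT.node 1379 (BT.leaf cE1379) (BT.leaf cE1380))) (BT.node 1383 (BT.node 1382 (BT.node 1381 (BT.leaf cE1381) (BT.leaf cE1382)) (BT.leaf cE1383)) (BT.node 1384 (BT.leaf cE1384) (BT.leaf cE1385)))))))))))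
/-- justification chunks -/
def colJT : BT ℕ := (BT.node 692 (BT.node 346 (BT.node 173 (BT.node 86 (BT.node 43 (BT.node 21 (BT.node 10 (BT.node 5 (BT.node 2 (BT.node 1 (BT.node 0 (BT.leaf cJ0) (BT.leaf cJ1)) (BT.leaf cJ2)) (BT.node 4 (BT.node 3 (BT.leaf cJ3) (BT.leaf cJ4)) (BT.leaf cJ5))) (BT.node 8 (BT.node 7 (BT.node 6 (BT.leaf cJ6) (BT.leaf cJ7)) (BT.leaf cJ8)) (BT.node 9 (BT.leaf cJ9) (BT.leaf cJ10)))) (BT.node 16 (BT.node 13 (BT.node 12 (BT.node 11 (BT.leaf cJ11) (BT.leaf cJ12)) (BT.leaf cJ13)) (BT.node 15 (BT.node 14 (BT.leaf cJ14) (BT.leaf cJ15)) (BT.leaf cJ16))) (BT.node 19 (BT.node 18 (BT.node 17 (BT.leaf cJ17) (BT.leaf cJ18)) (BT.leaf cJ19)) (BT.node 20 (BT.leaf cJ20) (BT.leaf cJ21))))) (BT.node 32 (BT.node 27 (BT.node 24 (BT.node 23 (BT.node 22 (BT.leaf cJ22) (BT.leaf cJ23)) (BT.leaf cJ24)) (BT.node 26 (BT.node 25 (BT.leaf cJ25) (BT.leaf cJ26))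 (BT.leaf cJ27))) (BT.node 30 (BT.node 29 (BT.node 28 (BT.leaf cJ28) (BT.leaf cJ29)) (BT.leaf cJ30)) (BT.node 31 (BT.leaf cJ31) (BT.leaf cJ32)))) (BT.node 38 (BT.node 35 (BT.node 34 (BT.node 33 (BT.leaf cJ33) (BT.leaf cJ34)) (BT.leaf cJ35)) (BT.node 37 (BT.node 36 (BT.leaf cJ36) (BT.leaf cJ37)) (BT.leaf cJ38))) (BT.node 41 (BT.node 40 (BT.node 39 (BT.leaf cJ39) (BT.leaf cJ40)) (BT.leaf cJ41)) (BT.node 42 (BT.leaf cJ42) (BT.leaf cJ43)))))) (BT.node 65 (BT.node 54 (BT.node 49 (BT.node 46 (BT.node 45 (BT.node 44 (BT.leaf cJ44) (BT.leaf cJ45)) (BT.leaf cJ46)) (BT.node 48 (BT.node 47 (BT.leaf cJ47) (BT.leaf cJ48)) (BT.leaf cJ49))) (BT.node 52 (BT.node 51 (BT.node 50 (BT.leaf cJ50) (BT.leaf cJ51)) (BT.leaf cJ52)) (BT.node 53 (BT.leaf cJ53) (BT.leaf cJ54)))) (BT.node 60 (BT.node 57 (BT.node 56 (BT.node 55 (BT.leaf cJ55) (BT.leaf cJ56)) (BT.leaf cJ57)) (BT.node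 59 (BT.node 58 (BT.leaf cJ58) (BT.leaf cJ59)) (BT.leaf cJ60))) (BT.node 63 (BT.node 62 (BT.node 61 (BT.leaf cJ61) (BT.leaf cJ62)) (BT.leaf cJ63)) (BT.node 64 (BT.leaf cJ64) (BT.leaf cJ65))))) (BT.node 76 (BT.node 71 (BT.node 68 (BT.node 67 (BT.node 66 (BT.leaf cJ66) (BT.leaf cJ67)) (BT.leaf cJ68)) (BT.node 70 (BT.node 69 (BT.leaf cJ69) (BT.leaf cJ70)) (BT.leaf cJ71))) (BT.node 74 (BT.node 73 (BT.node 72 (BT.leaf cJ72) (BT.leaf cJ73)) (BT.leaf cJ74)) (BT.node 75 (BT.leaf cJ75) (BT.leaf cJ76)))) (BT.node 81 (BT.node 79 (BT.node 78 (BT.node 77 (BT.leaf cJ77) (BT.leaf cJ78)) (BT.leaf cJ79)) (BT.node 80 (BT.leaf cJ80) (BT.leaf cJ81))) (BT.node 84 (BT.node 83 (BT.node 82 (BT.leaf cJ82) (BT.leaf cJ83)) (BT.leaf cJ84)) (BT.node 85 (BT.leaf cJ85) (BT.leaf cJ86))))))) (BT.node 130 (BT.node 108 (BT.node 97 (BT.node 92 (BT.node 89 (BT.node 88 (BT.node 87 (BT.leaf cJ87)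 (BT.leaf cJ88)) (BT.leaf cJ89)) (BT.node 91 (BT.node 90 (BT.leaf cJ90) (BT.leaf cJ91)) (BT.leaf cJ92))) (BT.node 95 (BT.node 94 (BT.node 93 (BT.leaf cJ93) (BT.leaf cJ94)) (BT.leaf cJ95)) (BT.node 96 (BT.leaf cJ96) (BT.leaf cJ97)))) (BT.node 103 (BT.node 100 (BT.node 99 (BT.node 98 (BT.leaf cJ98) (BT.leaf cJ99)) (BT.leaf cJ100)) (BT.node 102 (BT.node 101 (BT.leaf cJ101) (BT.leaf cJ102)) (BT.leaf cJ103))) (BT.node 106 (BT.node 105 (BT.node 104 (BT.leaf cJ104) (BT.leaf cJ105)) (BT.leaf cJ106)) (BT.node 107 (BT.leaf cJ107) (BT.leaf cJ108))))) (BT.node 119 (BT.node 114 (BT.node 111 (BT.node 110 (BT.node 109 (BT.leaf cJ109) (BT.leaf cJ110)) (BT.leaf cJ111)) (BT.node 113 (BT.node 112 (BT.leaf cJ112) (BT.leaf cJ113)) (BT.leaf cJ114))) (BT.node 117 (BT.node 116 (BT.node 115 (BT.leaf cJ115) (BT.leaf cJ116)) (BT.leaf cJ117)) (BT.node 118 (BT.leaf cJ118) (BT.leaf cJ119))))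 (BT.node 125 (BT.node 122 (BT.node 121 (BT.node 120 (BT.leaf cJ120) (BT.leaf cJ121)) (BT.leaf cJ122)) (BT.node 124 (BT.node 123 (BT.leaf cJ123) (BT.leaf cJ124)) (BT.leaf cJ125))) (BT.node 128 (BT.node 127 (BT.node 126 (BT.leaf cJ126) (BT.leaf cJ127)) (BT.leaf cJ128)) (BT.node 129 (BT.leaf cJ129) (BT.leaf cJ130)))))) (BT.node 152 (BT.node 141 (BT.node 136 (BT.node 133 (BT.node 132 (BT.node 131 (BT.leaf cJ131) (BT.leaf cJ132)) (BT.leaf cJ133)) (BT.node 135 (BT.node 134 (BT.leaf cJ134) (BT.leaf cJ135)) (BT.leaf cJ136))) (BT.node 139 (BT.node 138 (BT.node 137 (BT.leaf cJ137) (BT.leaf cJ138)) (BT.leaf cJ139)) (BT.node 140 (BT.leaf cJ140) (BT.leaf cJ141)))) (BT.node 147 (BT.node 144 (BT.node 143 (BT.node 142 (BT.leaf cJ142) (BT.leaf cJ143)) (BT.leaf cJ144)) (BT.node 146 (BT.node 145 (BT.leaf cJ145) (BT.leaf cJ146)) (BT.leaf cJ147))) (BT.node 150 (BT.node 149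 (BT.node 148 (BT.leaf cJ148) (BT.leaf cJ149)) (BT.leaf cJ150)) (BT.node 151 (BT.leaf cJ151) (BT.leaf cJ152))))) (BT.node 163 (BT.node 158 (BT.node 155 (BT.node 154 (BT.node 153 (BT.leaf cJ153) (BT.leaf cJ154)) (BT.leaf cJ155)) (BT.node 157 (BT.node 156 (BT.leaf cJ156) (BT.leaf cJ157)) (BT.leaf cJ158))) (BT.node 161 (BT.node 160 (BT.node 159 (BT.leaf cJ159) (BT.leaf cJ160)) (BT.leaf cJ161)) (BT.node 162 (BT.leaf cJ162) (BT.leaf cJ163)))) (BT.node 168 (BT.node 166 (BT.node 165 (BT.node 164 (BT.leaf cJ164) (BT.leaf cJ165)) (BT.leaf cJ166)) (BT.node 167 (BT.leaf cJ167) (BT.leaf cJ168))) (BT.node 171 (BT.node 170 (BT.node 169 (BT.leaf cJ169) (BT.leaf cJ170)) (BT.leaf cJ171)) (BT.node 172 (BT.leaf cJ172) (BT.leaf cJ173)))))))) (BT.node 260 (BT.node 217 (BT.node 195 (BT.node 184 (BT.node 179 (BT.node 176 (BT.node 175 (BT.node 174 (BT.leaf cJ174) (BT.leaf cJ175))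 (BT.leaf cJ176)) (BT.node 178 (BT.node 177 (BT.leaf cJ177) (BT.leaf cJ178)) (BT.leaf cJ179))) (BT.node 182 (BT.node 181 (BT.node 180 (BT.leaf cJ180) (BT.leaf cJ181)) (BT.leaf cJ182)) (BT.node 183 (BT.leaf cJ183) (BT.leaf cJ184)))) (BT.node 190 (BT.node 187 (BT.node 186 (BT.node 185 (BT.leaf cJ185) (BT.leaf cJ186)) (BT.leaf cJ187)) (BT.node 189 (BT.node 188 (BT.leaf cJ188) (BT.leaf cJ189)) (BT.leaf cJ190))) (BT.node 193 (BT.node 192 (BT.node 191 (BT.leaf cJ191) (BT.leaf cJ192)) (BT.leaf cJ193)) (BT.node 194 (BT.leaf cJ194) (BT.leaf cJ195))))) (BT.node 206 (BT.node 201 (BT.node 198 (BT.node 197 (BT.node 196 (BT.leaf cJ196) (BT.leaf cJ197)) (BT.leaf cJ198)) (BT.node 200 (BT.node 199 (BT.leaf cJ199) (BT.leaf cJ200)) (BT.leaf cJ201))) (BT.node 204 (BT.node 203 (BT.node 202 (BT.leaf cJ202) (BT.leaf cJ203)) (BT.leaf cJ204)) (BT.node 205 (BT.leaf cJ205) (BT.leaf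 cJ206)))) (BT.node 212 (BT.node 209 (BT.node 208 (BT.node 207 (BT.leaf cJ207) (BT.leaf cJ208)) (BT.leaf cJ209)) (BT.node 211 (BT.node 210 (BT.leaf cJ210) (BT.leaf cJ211)) (BT.leaf cJ212))) (BT.node 215 (BT.node 214 (BT.node 213 (BT.leaf cJ213) (BT.leaf cJ214)) (BT.leaf cJ215)) (BT.node 216 (BT.leaf cJ216) (BT.leaf cJ217)))))) (BT.node 239 (BT.node 228 (BT.node 223 (BT.node 220 (BT.node 219 (BT.node 218 (BT.leaf cJ218) (BT.leaf cJ219)) (BT.leaf cJ220)) (BT.node 222 (BT.node 221 (BT.leaf cJ221) (BT.leaf cJ222)) (BT.leaf cJ223))) (BT.node 226 (BT.node 225 (BT.node 224 (BT.leaf cJ224) (BT.leaf cJ225)) (BT.leaf cJ226)) (BT.node 227 (BT.leaf cJ227) (BT.leaf cJ228)))) (BT.node 234 (BT.node 231 (BT.node 230 (BT.node 229 (BT.leaf cJ229) (BT.leaf cJ230)) (BT.leaf cJ231)) (BT.node 233 (BT.node 232 (BT.leaf cJ232) (BT.leaf cJ233)) (BT.leaf cJ234))) (BT.node 237 (BT.node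 236 (BT.node 235 (BT.leaf cJ235) (BT.leaf cJ236)) (BT.leaf cJ237)) (BT.node 238 (BT.leaf cJ238) (BT.leaf cJ239))))) (BT.node 250 (BT.node 245 (BT.node 242 (BT.node 241 (BT.node 240 (BT.leaf cJ240) (BT.leaf cJ241)) (BT.leaf cJ242)) (BT.node 244 (BT.node 243 (BT.leaf cJ243) (BT.leaf cJ244)) (BT.leaf cJ245))) (BT.node 248 (BT.node 247 (BT.node 246 (BT.leaf cJ246) (BT.leaf cJ247)) (BT.leaf cJ248)) (BT.node 249 (BT.leaf cJ249) (BT.leaf cJ250)))) (BT.node 255 (BT.node 253 (BT.node 252 (BT.node 251 (BT.leaf cJ251) (BT.leaf cJ252)) (BT.leaf cJ253)) (BT.node 254 (BT.leaf cJ254) (BT.leaf cJ255))) (BT.node 258 (BT.node 257 (BT.node 256 (BT.leaf cJ256) (BT.leaf cJ257)) (BT.leaf cJ258)) (BT.node 259 (BT.leaf cJ259) (BT.leaf cJ260))))))) (BT.node 303 (BT.node 282 (BT.node 271 (BT.node 266 (BT.node 263 (BT.node 262 (BT.node 261 (BT.leaf cJ261) (BT.leaf cJ262)) (BT.leaf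 cJ263)) (BT.node 265 (BT.node 264 (BT.leaf cJ264) (BT.leaf cJ265)) (BT.leaf cJ266))) (BT.node 269 (BT.node 268 (BT.node 267 (BT.leaf cJ267) (BT.leaf cJ268)) (BT.leaf cJ269)) (BT.node 270 (BT.leaf cJ270) (BT.leaf cJ271)))) (BT.node 277 (BT.node 274 (BT.node 273 (BT.node 272 (BT.leaf cJ272) (BT.leaf cJ273)) (BT.leaf cJ274)) (BT.node 276 (BT.node 275 (BT.leaf cJ275) (BT.leaf cJ276)) (BT.leaf cJ277))) (BT.node 280 (BT.node 279 (BT.node 278 (BT.leaf cJ278) (BT.leaf cJ279)) (BT.leaf cJ280)) (BT.node 281 (BT.leaf cJ281) (BT.leaf cJ282))))) (BT.node 293 (BT.node 288 (BT.node 285 (BT.node 284 (BT.node 283 (BT.leaf cJ283) (BT.leaf cJ284)) (BT.leaf cJ285)) (BT.node 287 (BT.node 286 (BT.leaf cJ286) (BT.leaf cJ287)) (BT.leaf cJ288))) (BT.node 291 (BT.node 290 (BT.node 289 (BT.leaf cJ289) (BT.leaf cJ290)) (BT.leaf cJ291)) (BT.node 292 (BT.leaf cJ292) (BT.leaf cJ293))))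 (BT.node 298 (BT.node 296 (BT.node 295 (BT.node 294 (BT.leaf cJ294) (BT.leaf cJ295)) (BT.leaf cJ296)) (BT.node 297 (BT.leaf cJ297) (BT.leaf cJ298))) (BT.node 301 (BT.node 300 (BT.node 299 (BT.leaf cJ299) (BT.leaf cJ300)) (BT.leaf cJ301)) (BT.node 302 (BT.leaf cJ302) (BT.leaf cJ303)))))) (BT.node 325 (BT.node 314 (BT.node 309 (BT.node 306 (BT.node 305 (BT.node 304 (BT.leaf cJ304) (BT.leaf cJ305)) (BT.leaf cJ306)) (BT.node 308 (BT.node 307 (BT.leaf cJ307) (BT.leaf cJ308)) (BT.leaf cJ309))) (BT.node 312 (BT.node 311 (BT.node 310 (BT.leaf cJ310) (BT.leaf cJ311)) (BT.leaf cJ312)) (BT.node 313 (BT.leaf cJ313) (BT.leaf cJ314)))) (BT.node 320 (BT.node 317 (BT.node 316 (BT.node 315 (BT.leaf cJ315) (BT.leaf cJ316)) (BT.leaf cJ317)) (BT.node 319 (BT.node 318 (BT.leaf cJ318) (BT.leaf cJ319)) (BT.leaf cJ320))) (BT.node 323 (BT.node 322 (BT.node 321 (BT.leaf cJ321) (BT.leaf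 cJ322)) (BT.leaf cJ323)) (BT.node 324 (BT.leaf cJ324) (BT.leaf cJ325))))) (BT.node 336 (BT.node 331 (BT.node 328 (BT.node 327 (BT.node 326 (BT.leaf cJ326) (BT.leaf cJ327)) (BT.leaf cJ328)) (BT.node 330 (BT.node 329 (BT.leaf cJ329) (BT.leaf cJ330)) (BT.leaf cJ331))) (BT.node 334 (BT.node 333 (BT.node 332 (BT.leaf cJ332) (BT.leaf cJ333)) (BT.leaf cJ334)) (BT.node 335 (BT.leaf cJ335) (BT.leaf cJ336)))) (BT.node 341 (BT.node 339 (BT.node 338 (BT.node 337 (BT.leaf cJ337) (BT.leaf cJ338)) (BT.leaf cJ339)) (BT.node 340 (BT.leaf cJ340) (BT.leaf cJ341))) (BT.node 344 (BT.node 343 (BT.node 342 (BT.leaf cJ342) (BT.leaf cJ343)) (BT.leaf cJ344)) (BT.node 345 (BT.leaf cJ345) (BT.leaf cJ346))))))))) (BT.node 519 (BT.node 433 (BT.node 390 (BT.node 368 (BT.node 357 (BT.node 352 (BT.node 349 (BT.node 348 (BT.node 347 (BT.leaf cJ347) (BT.leaf cJ348)) (BT.leaf cJ349)) (BT.node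 351 (BT.node 350 (BT.leaf cJ350) (BT.leaf cJ351)) (BT.leaf cJ352))) (BT.node 355 (BT.node 354 (BT.node 353 (BT.leaf cJ353) (BT.leaf cJ354)) (BT.leaf cJ355)) (BT.node 356 (BT.leaf cJ356) (BT.leaf cJ357)))) (BT.node 363 (BT.node 360 (BT.node 359 (BT.node 358 (BT.leaf cJ358) (BT.leaf cJ359)) (BT.leaf cJ360)) (BT.node 362 (BT.node 361 (BT.leaf cJ361) (BT.leaf cJ362)) (BT.leaf cJ363))) (BT.node 366 (BT.node 365 (BT.node 364 (BT.leaf cJ364) (BT.leaf cJ365)) (BT.leaf cJ366)) (BT.node 367 (BT.leaf cJ367) (BT.leaf cJ368))))) (BT.node 379 (BT.node 374 (BT.node 371 (BT.node 370 (BT.node 369 (BT.leaf cJ369) (BT.leaf cJ370)) (BT.leaf cJ371)) (BT.node 373 (BT.node 372 (BT.leaf cJ372) (BT.leaf cJ373)) (BT.leaf cJ374))) (BT.node 377 (BT.node 376 (BT.node 375 (BT.leaf cJ375) (BT.leaf cJ376)) (BT.leaf cJ377)) (BT.node 378 (BT.leaf cJ378) (BT.leaf cJ379)))) (BT.node 385 (BT.node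 382 (BT.node 381 (BT.node 380 (BT.leaf cJ380) (BT.leaf cJ381)) (BT.leaf cJ382)) (BT.node 384 (BT.node 383 (BT.leaf cJ383) (BT.leaf cJ384)) (BT.leaf cJ385))) (BT.node 388 (BT.node 387 (BT.node 386 (BT.leaf cJ386) (BT.leaf cJ387)) (BT.leaf cJ388)) (BT.node 389 (BT.leaf cJ389) (BT.leaf cJ390)))))) (BT.node 412 (BT.node 401 (BT.node 396 (BT.node 393 (BT.node 392 (BT.node 391 (BT.leaf cJ391) (BT.leaf cJ392)) (BT.leaf cJ393)) (BT.node 395 (BT.node 394 (BT.leaf cJ394) (BT.leaf cJ395)) (BT.leaf cJ396))) (BT.node 399 (BT.node 398 (BT.node 397 (BT.leaf cJ397) (BT.leaf cJ398)) (BT.leaf cJ399)) (BT.node 400 (BT.leaf cJ400) (BT.leaf cJ401)))) (BT.node 407 (BT.node 404 (BT.node 403 (BT.node 402 (BT.leaf cJ402) (BT.leaf cJ403)) (BT.leaf cJ404)) (BT.node 406 (BT.node 405 (BT.leaf cJ405) (BT.leaf cJ406)) (BT.leaf cJ407))) (BT.node 410 (BT.node 409 (BT.node 408 (BT.leaf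 cJ408) (BT.leaf cJ409)) (BT.leaf cJ410)) (BT.node 411 (BT.leaf cJ411) (BT.leaf cJ412))))) (BT.node 423 (BT.node 418 (BT.node 415 (BT.node 414 (BT.node 413 (BT.leaf cJ413) (BT.leaf cJ414)) (BT.leaf cJ415)) (BT.node 417 (BT.node 416 (BT.leaf cJ416) (BT.leaf cJ417)) (BT.leaf cJ418))) (BT.node 421 (BT.node 420 (BT.node 419 (BT.leaf cJ419) (BT.leaf cJ420)) (BT.leaf cJ421)) (BT.node 422 (BT.leaf cJ422) (BT.leaf cJ423)))) (BT.node 428 (BT.node 426 (BT.node 425 (BT.node 424 (BT.leaf cJ424) (BT.leaf cJ425)) (BT.leaf cJ426)) (BT.node 427 (BT.leaf cJ427) (BT.leaf cJ428))) (BT.node 431 (BT.node 430 (BT.node 429 (BT.leaf cJ429) (BT.leaf cJ430)) (BT.leaf cJ431)) (BT.node 432 (BT.leaf cJ432) (BT.leaf cJ433))))))) (BT.node 476 (BT.node 455 (BT.node 444 (BT.node 439 (BT.node 436 (BT.node 435 (BT.node 434 (BT.leaf cJ434) (BT.leaf cJ435)) (BT.leaf cJ436)) (BT.node 438 (BT.node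 437 (BT.leaf cJ437) (BT.leaf cJ438)) (BT.leaf cJ439))) (BT.node 442 (BT.node 441 (BT.node 440 (BT.leaf cJ440) (BT.leaf cJ441)) (BT.leaf cJ442)) (BT.node 443 (BT.leaf cJ443) (BT.leaf cJ444)))) (BT.node 450 (BT.node 447 (BT.node 446 (BT.node 445 (BT.leaf cJ445) (BT.leaf cJ446)) (BT.leaf cJ447)) (BT.node 449 (BT.node 448 (BT.leaf cJ448) (BT.leaf cJ449)) (BT.leaf cJ450))) (BT.node 453 (BT.node 452 (BT.node 451 (BT.leaf cJ451) (BT.leaf cJ452)) (BT.leaf cJ453)) (BT.node 454 (BT.leaf cJ454) (BT.leaf cJ455))))) (BT.node 466 (BT.node 461 (BT.node 458 (BT.node 457 (BT.node 456 (BT.leaf cJ456) (BT.leaf cJ457)) (BT.leaf cJ458)) (BT.node 460 (BT.node 459 (BT.leaf cJ459) (BT.leaf cJ460)) (BT.leaf cJ461))) (BT.node 464 (BT.node 463 (BT.node 462 (BT.leaf cJ462) (BT.leaf cJ463)) (BT.leaf cJ464)) (BT.node 465 (BT.leaf cJ465) (BT.leaf cJ466)))) (BT.node 471 (BT.node 469 (BT.node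 468 (BT.node 467 (BT.leaf cJ467) (BT.leaf cJ468)) (BT.leaf cJ469)) (BT.node 470 (BT.leaf cJ470) (BT.leaf cJ471))) (BT.node 474 (BT.node 473 (BT.node 472 (BT.leaf cJ472) (BT.leaf cJ473)) (BT.leaf cJ474)) (BT.node 475 (BT.leaf cJ475) (BT.leaf cJ476)))))) (BT.node 498 (BT.node 487 (BT.node 482 (BT.node 479 (BT.node 478 (BT.node 477 (BT.leaf cJ477) (BT.leaf cJ478)) (BT.leaf cJ479)) (BT.node 481 (BT.node 480 (BT.leaf cJ480) (BT.leaf cJ481)) (BT.leaf cJ482))) (BT.node 485 (BT.node 484 (BT.node 483 (BT.leaf cJ483) (BT.leaf cJ484)) (BT.leaf cJ485)) (BT.node 486 (BT.leaf cJ486) (BT.leaf cJ487)))) (BT.node 493 (BT.node 490 (BT.node 489 (BT.node 488 (BT.leaf cJ488) (BT.leaf cJ489)) (BT.leaf cJ490)) (BT.node 492 (BT.node 491 (BT.leaf cJ491) (BT.leaf cJ492)) (BT.leaf cJ493))) (BT.node 496 (BT.node 495 (BT.node 494 (BT.leaf cJ494) (BT.leaf cJ495)) (BT.leaf cJ496)) (BT.node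 497 (BT.leaf cJ497) (BT.leaf cJ498))))) (BT.node 509 (BT.node 504 (BT.node 501 (BT.node 500 (BT.node 499 (BT.leaf cJ499) (BT.leaf cJ500)) (BT.leaf cJ501)) (BT.node 503 (BT.node 502 (BT.leaf cJ502) (BT.leaf cJ503)) (BT.leaf cJ504))) (BT.node 507 (BT.node 506 (BT.node 505 (BT.leaf cJ505) (BT.leaf cJ506)) (BT.leaf cJ507)) (BT.node 508 (BT.leaf cJ508) (BT.leaf cJ509)))) (BT.node 514 (BT.node 512 (BT.node 511 (BT.node 510 (BT.leaf cJ510) (BT.leaf cJ511)) (BT.leaf cJ512)) (BT.node 513 (BT.leaf cJ513) (BT.leaf cJ514))) (BT.node 517 (BT.node 516 (BT.node 515 (BT.leaf cJ515) (BT.leaf cJ516)) (BT.leaf cJ517)) (BT.node 518 (BT.leaf cJ518) (BT.leaf cJ519)))))))) (BT.node 606 (BT.node 563 (BT.node 541 (BT.node 530 (BT.node 525 (BT.node 522 (BT.node 521 (BT.node 520 (BT.leaf cJ520) (BT.leaf cJ521)) (BT.leaf cJ522)) (BT.node 524 (BT.node 523 (BT.leaf cJ523) (BT.leaf cJ524))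 (BT.leaf cJ525))) (BT.node 528 (BT.node 527 (BT.node 526 (BT.leaf cJ526) (BT.leaf cJ527)) (BT.leaf cJ528)) (BT.node 529 (BT.leaf cJ529) (BT.leaf cJ530)))) (BT.node 536 (BT.node 533 (BT.node 532 (BT.node 531 (BT.leaf cJ531) (BT.leaf cJ532)) (BT.leaf cJ533)) (BT.node 535 (BT.node 534 (BT.leaf cJ534) (BT.leaf cJ535)) (BT.leaf cJ536))) (BT.node 539 (BT.node 538 (BT.node 537 (BT.leaf cJ537) (BT.leaf cJ538)) (BT.leaf cJ539)) (BT.node 540 (BT.leaf cJ540) (BT.leaf cJ541))))) (BT.node 552 (BT.node 547 (BT.node 544 (BT.node 543 (BT.node 542 (BT.leaf cJ542) (BT.leaf cJ543)) (BT.leaf cJ544)) (BT.node 546 (BT.node 545 (BT.leaf cJ545) (BT.leaf cJ546)) (BT.leaf cJ547))) (BT.node 550 (BT.node 549 (BT.node 548 (BT.leaf cJ548) (BT.leaf cJ549)) (BT.leaf cJ550)) (BT.node 551 (BT.leaf cJ551) (BT.leaf cJ552)))) (BT.node 558 (BT.node 555 (BT.node 554 (BT.node 553 (BT.leaf cJ553)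 (BT.leaf cJ554)) (BT.leaf cJ555)) (BT.node 557 (BT.node 556 (BT.leaf cJ556) (BT.leaf cJ557)) (BT.leaf cJ558))) (BT.node 561 (BT.node 560 (BT.node 559 (BT.leaf cJ559) (BT.leaf cJ560)) (BT.leaf cJ561)) (BT.node 562 (BT.leaf cJ562) (BT.leaf cJ563)))))) (BT.node 585 (BT.node 574 (BT.node 569 (BT.node 566 (BT.node 565 (BT.node 564 (BT.leaf cJ564) (BT.leaf cJ565)) (BT.leaf cJ566)) (BT.node 568 (BT.node 567 (BT.leaf cJ567) (BT.leaf cJ568)) (BT.leaf cJ569))) (BT.node 572 (BT.node 571 (BT.node 570 (BT.leaf cJ570) (BT.leaf cJ571)) (BT.leaf cJ572)) (BT.node 573 (BT.leaf cJ573) (BT.leaf cJ574)))) (BT.node 580 (BT.node 577 (BT.node 576 (BT.node 575 (BT.leaf cJ575) (BT.leaf cJ576)) (BT.leaf cJ577)) (BT.node 579 (BT.node 578 (BT.leaf cJ578) (BT.leaf cJ579)) (BT.leaf cJ580))) (BT.node 583 (BT.node 582 (BT.node 581 (BT.leaf cJ581) (BT.leaf cJ582)) (BT.leaf cJ583)) (BT.node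 584 (BT.leaf cJ584) (BT.leaf cJ585))))) (BT.node 596 (BT.node 591 (BT.node 588 (BT.node 587 (BT.node 586 (BT.leaf cJ586) (BT.leaf cJ587)) (BT.leaf cJ588)) (BT.node 590 (BT.node 589 (BT.leaf cJ589) (BT.leaf cJ590)) (BT.leaf cJ591))) (BT.node 594 (BT.node 593 (BT.node 592 (BT.leaf cJ592) (BT.leaf cJ593)) (BT.leaf cJ594)) (BT.node 595 (BT.leaf cJ595) (BT.leaf cJ596)))) (BT.node 601 (BT.node 599 (BT.node 598 (BT.node 597 (BT.leaf cJ597) (BT.leaf cJ598)) (BT.leaf cJ599)) (BT.node 600 (BT.leaf cJ600) (BT.leaf cJ601))) (BT.node 604 (BT.node 603 (BT.node 602 (BT.leaf cJ602) (BT.leaf cJ603)) (BT.leaf cJ604)) (BT.node 605 (BT.leaf cJ605) (BT.leaf cJ606))))))) (BT.node 649 (BT.node 628 (BT.node 617 (BT.node 612 (BT.node 609 (BT.node 608 (BT.node 607 (BT.leaf cJ607) (BT.leaf cJ608)) (BT.leaf cJ609)) (BT.node 611 (BT.node 610 (BT.leaf cJ610) (BT.leaf cJ611)) (BT.leaf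 cJ612))) (BT.node 615 (BT.node 614 (BT.node 613 (BT.leaf cJ613) (BT.leaf cJ614)) (BT.leaf cJ615)) (BT.node 616 (BT.leaf cJ616) (BT.leaf cJ617)))) (BT.node 623 (BT.node 620 (BT.node 619 (BT.node 618 (BT.leaf cJ618) (BT.leaf cJ619)) (BT.leaf cJ620)) (BT.node 622 (BT.node 621 (BT.leaf cJ621) (BT.leaf cJ622)) (BT.leaf cJ623))) (BT.node 626 (BT.node 625 (BT.node 624 (BT.leaf cJ624) (BT.leaf cJ625)) (BT.leaf cJ626)) (BT.node 627 (BT.leaf cJ627) (BT.leaf cJ628))))) (BT.node 639 (BT.node 634 (BT.node 631 (BT.node 630 (BT.node 629 (BT.leaf cJ629) (BT.leaf cJ630)) (BT.leaf cJ631)) (BT.node 633 (BT.node 632 (BT.leaf cJ632) (BT.leaf cJ633)) (BT.leaf cJ634))) (BT.node 637 (BT.node 636 (BT.node 635 (BT.leaf cJ635) (BT.leaf cJ636)) (BT.leaf cJ637)) (BT.node 638 (BT.leaf cJ638) (BT.leaf cJ639)))) (BT.node 644 (BT.node 642 (BT.node 641 (BT.node 640 (BT.leaf cJ640) (BT.leaf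 cJ641)) (BT.leaf cJ642)) (BT.node 643 (BT.leaf cJ643) (BT.leaf cJ644))) (BT.node 647 (BT.node 646 (BT.node 645 (BT.leaf cJ645) (BT.leaf cJ646)) (BT.leaf cJ647)) (BT.node 648 (BT.leaf cJ648) (BT.leaf cJ649)))))) (BT.node 671 (BT.node 660 (BT.node 655 (BT.node 652 (BT.node 651 (BT.node 650 (BT.leaf cJ650) (BT.leaf cJ651)) (BT.leaf cJ652)) (BT.node 654 (BT.node 653 (BT.leaf cJ653) (BT.leaf cJ654)) (BT.leaf cJ655))) (BT.node 658 (BT.node 657 (BT.node 656 (BT.leaf cJ656) (BT.leaf cJ657)) (BT.leaf cJ658)) (BT.node 659 (BT.leaf cJ659) (BT.leaf cJ660)))) (BT.node 666 (BT.node 663 (BT.node 662 (BT.node 661 (BT.leaf cJ661) (BT.leaf cJ662)) (BT.leaf cJ663)) (BT.node 665 (BT.node 664 (BT.leaf cJ664) (BT.leaf cJ665)) (BT.leaf cJ666))) (BT.node 669 (BT.node 668 (BT.node 667 (BT.leaf cJ667) (BT.leaf cJ668)) (BT.leaf cJ669)) (BT.node 670 (BT.leaf cJ670) (BT.leaf cJ671)))))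 (BT.node 682 (BT.node 677 (BT.node 674 (BT.node 673 (BT.node 672 (BT.leaf cJ672) (BT.leaf cJ673)) (BT.leaf cJ674)) (BT.node 676 (BT.node 675 (BT.leaf cJ675) (BT.leaf cJ676)) (BT.leaf cJ677))) (BT.node 680 (BT.node 679 (BT.node 678 (BT.leaf cJ678) (BT.leaf cJ679)) (BT.leaf cJ680)) (BT.node 681 (BT.leaf cJ681) (BT.leaf cJ682)))) (BT.node 687 (BT.node 685 (BT.node 684 (BT.node 683 (BT.leaf cJ683) (BT.leaf cJ684)) (BT.leaf cJ685)) (BT.node 686 (BT.leaf cJ686) (BT.leaf cJ687))) (BT.node 690 (BT.node 689 (BT.node 688 (BT.leaf cJ688) (BT.leaf cJ689)) (BT.leaf cJ690)) (BT.node 691 (BT.leaf cJ691) (BT.leaf cJ692)))))))))) (BT.node 1039 (BT.node 866 (BT.node 779 (BT.node 736 (BT.node 714 (BT.node 703 (BT.node 698 (BT.node 695 (BT.node 694 (BT.node 693 (BT.leaf cJ693) (BT.leaf cJ694)) (BT.leaf cJ695)) (BT.node 697 (BT.node 696 (BT.leaf cJ696) (BT.leaf cJ697)) (BT.leaf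 cJ698))) (BT.node 701 (BT.node 700 (BT.node 699 (BT.leaf cJ699) (BT.leaf cJ700)) (BT.leaf cJ701)) (BT.node 702 (BT.leaf cJ702) (BT.leaf cJ703)))) (BT.node 709 (BT.node 706 (BT.node 705 (BT.node 704 (BT.leaf cJ704) (BT.leaf cJ705)) (BT.leaf cJ706)) (BT.node 708 (BT.node 707 (BT.leaf cJ707) (BT.leaf cJ708)) (BT.leaf cJ709))) (BT.node 712 (BT.node 711 (BT.node 710 (BT.leaf cJ710) (BT.leaf cJ711)) (BT.leaf cJ712)) (BT.node 713 (BT.leaf cJ713) (BT.leaf cJ714))))) (BT.node 725 (BT.node 720 (BT.node 717 (BT.node 716 (BT.node 715 (BT.leaf cJ715) (BT.leaf cJ716)) (BT.leaf cJ717)) (BT.node 719 (BT.node 718 (BT.leaf cJ718) (BT.leaf cJ719)) (BT.leaf cJ720))) (BT.node 723 (BT.node 722 (BT.node 721 (BT.leaf cJ721) (BT.leaf cJ722)) (BT.leaf cJ723)) (BT.node 724 (BT.leaf cJ724) (BT.leaf cJ725)))) (BT.node 731 (BT.node 728 (BT.node 727 (BT.node 726 (BT.leaf cJ726) (BT.leaf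 cJ727)) (BT.leaf cJ728)) (BT.node 730 (BT.node 729 (BT.leaf cJ729) (BT.leaf cJ730)) (BT.leaf cJ731))) (BT.node 734 (BT.node 733 (BT.node 732 (BT.leaf cJ732) (BT.leaf cJ733)) (BT.leaf cJ734)) (BT.node 735 (BT.leaf cJ735) (BT.leaf cJ736)))))) (BT.node 758 (BT.node 747 (BT.node 742 (BT.node 739 (BT.node 738 (BT.node 737 (BT.leaf cJ737) (BT.leaf cJ738)) (BT.leaf cJ739)) (BT.node 741 (BT.node 740 (BT.leaf cJ740) (BT.leaf cJ741)) (BT.leaf cJ742))) (BT.node 745 (BT.node 744 (BT.node 743 (BT.leaf cJ743) (BT.leaf cJ744)) (BT.leaf cJ745)) (BT.node 746 (BT.leaf cJ746) (BT.leaf cJ747)))) (BT.node 753 (BT.node 750 (BT.node 749 (BT.node 748 (BT.leaf cJ748) (BT.leaf cJ749)) (BT.leaf cJ750)) (BT.node 752 (BT.node 751 (BT.leaf cJ751) (BT.leaf cJ752)) (BT.leaf cJ753))) (BT.node 756 (BT.node 755 (BT.node 754 (BT.leaf cJ754) (BT.leaf cJ755)) (BT.leaf cJ756)) (BT.node 757 (BT.leaf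 cJ757) (BT.leaf cJ758))))) (BT.node 769 (BT.node 764 (BT.node 761 (BT.node 760 (BT.node 759 (BT.leaf cJ759) (BT.leaf cJ760)) (BT.leaf cJ761)) (BT.node 763 (BT.node 762 (BT.leaf cJ762) (BT.leaf cJ763)) (BT.leaf cJ764))) (BT.node 767 (BT.node 766 (BT.node 765 (BT.leaf cJ765) (BT.leaf cJ766)) (BT.leaf cJ767)) (BT.node 768 (BT.leaf cJ768) (BT.leaf cJ769)))) (BT.node 774 (BT.node 772 (BT.node 771 (BT.node 770 (BT.leaf cJ770) (BT.leaf cJ771)) (BT.leaf cJ772)) (BT.node 773 (BT.leaf cJ773) (BT.leaf cJ774))) (BT.node 777 (BT.node 776 (BT.node 775 (BT.leaf cJ775) (BT.leaf cJ776)) (BT.leaf cJ777)) (BT.node 778 (BT.leaf cJ778) (BT.leaf cJ779))))))) (BT.node 823 (BT.node 801 (BT.node 790 (BT.node 785 (BT.node 782 (BT.node 781 (BT.node 780 (BT.leaf cJ780) (BT.leaf cJ781)) (BT.leaf cJ782)) (BT.node 784 (BT.node 783 (BT.leaf cJ783) (BT.leaf cJ784)) (BT.leaf cJ785))) (BT.node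 788 (BT.node 787 (BT.node 786 (BT.leaf cJ786) (BT.leaf cJ787)) (BT.leaf cJ788)) (BT.node 789 (BT.leaf cJ789) (BT.leaf cJ790)))) (BT.node 796 (BT.node 793 (BT.node 792 (BT.node 791 (BT.leaf cJ791) (BT.leaf cJ792)) (BT.leaf cJ793)) (BT.node 795 (BT.node 794 (BT.leaf cJ794) (BT.leaf cJ795)) (BT.leaf cJ796))) (BT.node 799 (BT.node 798 (BT.node 797 (BT.leaf cJ797) (BT.leaf cJ798)) (BT.leaf cJ799)) (BT.node 800 (BT.leaf cJ800) (BT.leaf cJ801))))) (BT.node 812 (BT.node 807 (BT.node 804 (BT.node 803 (BT.node 802 (BT.leaf cJ802) (BT.leaf cJ803)) (BT.leaf cJ804)) (BT.node 806 (BT.node 805 (BT.leaf cJ805) (BT.leaf cJ806)) (BT.leaf cJ807))) (BT.node 810 (BT.node 809 (BT.node 808 (BT.leaf cJ808) (BT.leaf cJ809)) (BT.leaf cJ810)) (BT.node 811 (BT.leaf cJ811) (BT.leaf cJ812)))) (BT.node 818 (BT.node 815 (BT.node 814 (BT.node 813 (BT.leaf cJ813) (BT.leaf cJ814)) (BT.leaf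 cJ815)) (BT.node 817 (BT.node 816 (BT.leaf cJ816) (BT.leaf cJ817)) (BT.leaf cJ818))) (BT.node 821 (BT.node 820 (BT.node 819 (BT.leaf cJ819) (BT.leaf cJ820)) (BT.leaf cJ821)) (BT.node 822 (BT.leaf cJ822) (BT.leaf cJ823)))))) (BT.node 845 (BT.node 834 (BT.node 829 (BT.node 826 (BT.node 825 (BT.node 824 (BT.leaf cJ824) (BT.leaf cJ825)) (BT.leaf cJ826)) (BT.node 828 (BT.node 827 (BT.leaf cJ827) (BT.leaf cJ828)) (BT.leaf cJ829))) (BT.node 832 (BT.node 831 (BT.node 830 (BT.leaf cJ830) (BT.leaf cJ831)) (BT.leaf cJ832)) (BT.node 833 (BT.leaf cJ833) (BT.leaf cJ834)))) (BT.node 840 (BT.node 837 (BT.node 836 (BT.node 835 (BT.leaf cJ835) (BT.leaf cJ836)) (BT.leaf cJ837)) (BT.node 839 (BT.node 838 (BT.leaf cJ838) (BT.leaf cJ839)) (BT.leaf cJ840))) (BT.node 843 (BT.node 842 (BT.node 841 (BT.leaf cJ841) (BT.leaf cJ842)) (BT.leaf cJ843)) (BT.node 844 (BT.leaf cJ844) (BT.leaf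 cJ845))))) (BT.node 856 (BT.node 851 (BT.node 848 (BT.node 847 (BT.node 846 (BT.leaf cJ846) (BT.leaf cJ847)) (BT.leaf cJ848)) (BT.node 850 (BT.node 849 (BT.leaf cJ849) (BT.leaf cJ850)) (BT.leaf cJ851))) (BT.node 854 (BT.node 853 (BT.node 852 (BT.leaf cJ852) (BT.leaf cJ853)) (BT.leaf cJ854)) (BT.node 855 (BT.leaf cJ855) (BT.leaf cJ856)))) (BT.node 861 (BT.node 859 (BT.node 858 (BT.node 857 (BT.leaf cJ857) (BT.leaf cJ858)) (BT.leaf cJ859)) (BT.node 860 (BT.leaf cJ860) (BT.leaf cJ861))) (BT.node 864 (BT.node 863 (BT.node 862 (BT.leaf cJ862) (BT.leaf cJ863)) (BT.leaf cJ864)) (BT.node 865 (BT.leaf cJ865) (BT.leaf cJ866)))))))) (BT.node 953 (BT.node 910 (BT.node 888 (BT.node 877 (BT.node 872 (BT.node 869 (BT.node 868 (BT.node 867 (BT.leaf cJ867) (BT.leaf cJ868)) (BT.leaf cJ869)) (BT.node 871 (BT.node 870 (BT.leaf cJ870) (BT.leaf cJ871)) (BT.leaf cJ872))) (BT.node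 875 (BT.node 874 (BT.node 873 (BT.leaf cJ873) (BT.leaf cJ874)) (BT.leaf cJ875)) (BT.node 876 (BT.leaf cJ876) (BT.leaf cJ877)))) (BT.node 883 (BT.node 880 (BT.node 879 (BT.node 878 (BT.leaf cJ878) (BT.leaf cJ879)) (BT.leaf cJ880)) (BT.node 882 (BT.node 881 (BT.leaf cJ881) (BT.leaf cJ882)) (BT.leaf cJ883))) (BT.node 886 (BT.node 885 (BT.node 884 (BT.leaf cJ884) (BT.leaf cJ885)) (BT.leaf cJ886)) (BT.node 887 (BT.leaf cJ887) (BT.leaf cJ888))))) (BT.node 899 (BT.node 894 (BT.node 891 (BT.node 890 (BT.node 889 (BT.leaf cJ889) (BT.leaf cJ890)) (BT.leaf cJ891)) (BT.node 893 (BT.node 892 (BT.leaf cJ892) (BT.leaf cJ893)) (BT.leaf cJ894))) (BT.node 897 (BT.node 896 (BT.node 895 (BT.leaf cJ895) (BT.leaf cJ896)) (BT.leaf cJ897)) (BT.node 898 (BT.leaf cJ898) (BT.leaf cJ899)))) (BT.node 905 (BT.node 902 (BT.node 901 (BT.node 900 (BT.leaf cJ900) (BT.leaf cJ901)) (BT.leaf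 cJ902)) (BT.node 904 (BT.node 903 (BT.leaf cJ903) (BT.leaf cJ904)) (BT.leaf cJ905))) (BT.node 908 (BT.node 907 (BT.node 906 (BT.leaf cJ906) (BT.leaf cJ907)) (BT.leaf cJ908)) (BT.node 909 (BT.leaf cJ909) (BT.leaf cJ910)))))) (BT.node 932 (BT.node 921 (BT.node 916 (BT.node 913 (BT.node 912 (BT.node 911 (BT.leaf cJ911) (BT.leaf cJ912)) (BT.leaf cJ913)) (BT.node 915 (BT.node 914 (BT.leaf cJ914) (BT.leaf cJ915)) (BT.leaf cJ916))) (BT.node 919 (BT.node 918 (BT.node 917 (BT.leaf cJ917) (BT.leaf cJ918)) (BT.leaf cJ919)) (BT.node 920 (BT.leaf cJ920) (BT.leaf cJ921)))) (BT.node 927 (BT.node 924 (BT.node 923 (BT.node 922 (BT.leaf cJ922) (BT.leaf cJ923)) (BT.leaf cJ924)) (BT.node 926 (BT.node 925 (BT.leaf cJ925) (BT.leaf cJ926)) (BT.leaf cJ927))) (BT.node 930 (BT.node 929 (BT.node 928 (BT.leaf cJ928) (BT.leaf cJ929)) (BT.leaf cJ930)) (BT.node 931 (BT.leaf cJ931) (BT.leaf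 cJ932))))) (BT.node 943 (BT.node 938 (BT.node 935 (BT.node 934 (BT.node 933 (BT.leaf cJ933) (BT.leaf cJ934)) (BT.leaf cJ935)) (BT.node 937 (BT.node 936 (BT.leaf cJ936) (BT.leaf cJ937)) (BT.leaf cJ938))) (BT.node 941 (BT.node 940 (BT.node 939 (BT.leaf cJ939) (BT.leaf cJ940)) (BT.leaf cJ941)) (BT.node 942 (BT.leaf cJ942) (BT.leaf cJ943)))) (BT.node 948 (BT.node 946 (BT.node 945 (BT.node 944 (BT.leaf cJ944) (BT.leaf cJ945)) (BT.leaf cJ946)) (BT.node 947 (BT.leaf cJ947) (BT.leaf cJ948))) (BT.node 951 (BT.node 950 (BT.node 949 (BT.leaf cJ949) (BT.leaf cJ950)) (BT.leaf cJ951)) (BT.node 952 (BT.leaf cJ952) (BT.leaf cJ953))))))) (BT.node 996 (BT.node 975 (BT.node 964 (BT.node 959 (BT.node 956 (BT.node 955 (BT.node 954 (BT.leaf cJ954) (BT.leaf cJ955)) (BT.leaf cJ956)) (BT.node 958 (BT.node 957 (BT.leaf cJ957) (BT.leaf cJ958)) (BT.leaf cJ959))) (BT.node 962 (BT.node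 961 (BT.node 960 (BT.leaf cJ960) (BT.leaf cJ961)) (BT.leaf cJ962)) (BT.node 963 (BT.leaf cJ963) (BT.leaf cJ964)))) (BT.node 970 (BT.node 967 (BT.node 966 (BT.node 965 (BT.leaf cJ965) (BT.leaf cJ966)) (BT.leaf cJ967)) (BT.node 969 (BT.node 968 (BT.leaf cJ968) (BT.leaf cJ969)) (BT.leaf cJ970))) (BT.node 973 (BT.node 972 (BT.node 971 (BT.leaf cJ971) (BT.leaf cJ972)) (BT.leaf cJ973)) (BT.node 974 (BT.leaf cJ974) (BT.leaf cJ975))))) (BT.node 986 (BT.node 981 (BT.node 978 (BT.node 977 (BT.node 976 (BT.leaf cJ976) (BT.leaf cJ977)) (BT.leaf cJ978)) (BT.node 980 (BT.node 979 (BT.leaf cJ979) (BT.leaf cJ980)) (BT.leaf cJ981))) (BT.node 984 (BT.node 983 (BT.node 982 (BT.leaf cJ982) (BT.leaf cJ983)) (BT.leaf cJ984)) (BT.node 985 (BT.leaf cJ985) (BT.leaf cJ986)))) (BT.node 991 (BT.node 989 (BT.node 988 (BT.node 987 (BT.leaf cJ987) (BT.leaf cJ988)) (BT.leaf cJ989)) (BT.node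 990 (BT.leaf cJ990) (BT.leaf cJ991))) (BT.node 994 (BT.node 993 (BT.node 992 (BT.leaf cJ992) (BT.leaf cJ993)) (BT.leaf cJ994)) (BT.node 995 (BT.leaf cJ995) (BT.leaf cJ996)))))) (BT.node 1018 (BT.node 1007 (BT.node 1002 (BT.node 999 (BT.node 998 (BT.node 997 (BT.leaf cJ997) (BT.leaf cJ998)) (BT.leaf cJ999)) (BT.node 1001 (BT.node 1000 (BT.leaf cJ1000) (BT.leaf cJ1001)) (BT.leaf cJ1002))) (BT.node 1005 (BT.node 1004 (BT.node 1003 (BT.leaf cJ1003) (BT.leaf cJ1004)) (BT.leaf cJ1005)) (BT.node 1006 (BT.leaf cJ1006) (BT.leaf cJ1007)))) (BT.node 1013 (BT.node 1010 (BT.node 1009 (BT.node 1008 (BT.leaf cJ1008) (BT.leaf cJ1009)) (BT.leaf cJ1010)) (BT.node 1012 (BT.node 1011 (BT.leaf cJ1011) (BT.leaf cJ1012)) (BT.leaf cJ1013))) (BT.node 1016 (BT.node 1015 (BT.node 1014 (BT.leaf cJ1014) (BT.leaf cJ1015)) (BT.leaf cJ1016)) (BT.node 1017 (BT.leaf cJ1017) (BT.leaf cJ1018)))))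 (BT.node 1029 (BT.node 1024 (BT.node 1021 (BT.node 1020 (BT.node 1019 (BT.leaf cJ1019) (BT.leaf cJ1020)) (BT.leaf cJ1021)) (BT.node 1023 (BT.node 1022 (BT.leaf cJ1022) (BT.leaf cJ1023)) (BT.leaf cJ1024))) (BT.node 1027 (BT.node 1026 (BT.node 1025 (BT.leaf cJ1025) (BT.leaf cJ1026)) (BT.leaf cJ1027)) (BT.node 1028 (BT.leaf cJ1028) (BT.leaf cJ1029)))) (BT.node 1034 (BT.node 1032 (BT.node 1031 (BT.node 1030 (BT.leaf cJ1030) (BT.leaf cJ1031)) (BT.leaf cJ1032)) (BT.node 1033 (BT.leaf cJ1033) (BT.leaf cJ1034))) (BT.node 1037 (BT.node 1036 (BT.node 1035 (BT.leaf cJ1035) (BT.leaf cJ1036)) (BT.leaf cJ1037)) (BT.node 1038 (BT.leaf cJ1038) (BT.leaf cJ1039))))))))) (BT.node 1212 (BT.node 1126 (BT.node 1083 (BT.node 1061 (BT.node 1050 (BT.node 1045 (BT.node 1042 (BT.node 1041 (BT.node 1040 (BT.leaf cJ1040) (BT.leaf cJ1041)) (BT.leaf cJ1042)) (BT.node 1044 (BT.node 1043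 (BT.leaf cJ1043) (BT.leaf cJ1044)) (BT.leaf cJ1045))) (BT.node 1048 (BT.node 1047 (BT.node 1046 (BT.leaf cJ1046) (BT.leaf cJ1047)) (BT.leaf cJ1048)) (BT.node 1049 (BT.leaf cJ1049) (BT.leaf cJ1050)))) (BT.node 1056 (BT.node 1053 (BT.node 1052 (BT.node 1051 (BT.leaf cJ1051) (BT.leaf cJ1052)) (BT.leaf cJ1053)) (BT.node 1055 (BT.node 1054 (BT.leaf cJ1054) (BT.leaf cJ1055)) (BT.leaf cJ1056))) (BT.node 1059 (BT.node 1058 (BT.node 1057 (BT.leaf cJ1057) (BT.leaf cJ1058)) (BT.leaf cJ1059)) (BT.node 1060 (BT.leaf cJ1060) (BT.leaf cJ1061))))) (BT.node 1072 (BT.node 1067 (BT.node 1064 (BT.node 1063 (BT.node 1062 (BT.leaf cJ1062) (BT.leaf cJ1063)) (BT.leaf cJ1064)) (BT.node 1066 (BT.node 1065 (BT.leaf cJ1065) (BT.leaf cJ1066)) (BT.leaf cJ1067))) (BT.node 1070 (BT.node 1069 (BT.node 1068 (BT.leaf cJ1068) (BT.leaf cJ1069)) (BT.leaf cJ1070)) (BT.node 1071 (BT.leaf cJ1071)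 (BT.leaf cJ1072)))) (BT.node 1078 (BT.node 1075 (BT.node 1074 (BT.node 1073 (BT.leaf cJ1073) (BT.leaf cJ1074)) (BT.leaf cJ1075)) (BT.node 1077 (BT.node 1076 (BT.leaf cJ1076) (BT.leaf cJ1077)) (BT.leaf cJ1078))) (BT.node 1081 (BT.node 1080 (BT.node 1079 (BT.leaf cJ1079) (BT.leaf cJ1080)) (BT.leaf cJ1081)) (BT.node 1082 (BT.leaf cJ1082) (BT.leaf cJ1083)))))) (BT.node 1105 (BT.node 1094 (BT.node 1089 (BT.node 1086 (BT.node 1085 (BT.node 1084 (BT.leaf cJ1084) (BT.leaf cJ1085)) (BT.leaf cJ1086)) (BT.node 1088 (BT.node 1087 (BT.leaf cJ1087) (BT.leaf cJ1088)) (BT.leaf cJ1089))) (BT.node 1092 (BT.node 1091 (BT.node 1090 (BT.leaf cJ1090) (BT.leaf cJ1091)) (BT.leaf cJ1092)) (BT.node 1093 (BT.leaf cJ1093) (BT.leaf cJ1094)))) (BT.node 1100 (BT.node 1097 (BT.node 1096 (BT.node 1095 (BT.leaf cJ1095) (BT.leaf cJ1096)) (BT.leaf cJ1097)) (BT.node 1099 (BT.node 1098 (BT.leaf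 cJ1098) (BT.leaf cJ1099)) (BT.leaf cJ1100))) (BT.node 1103 (BT.node 1102 (BT.node 1101 (BT.leaf cJ1101) (BT.leaf cJ1102)) (BT.leaf cJ1103)) (BT.node 1104 (BT.leaf cJ1104) (BT.leaf cJ1105))))) (BT.node 1116 (BT.node 1111 (BT.node 1108 (BT.node 1107 (BT.node 1106 (BT.leaf cJ1106) (BT.leaf cJ1107)) (BT.leaf cJ1108)) (BT.node 1110 (BT.node 1109 (BT.leaf cJ1109) (BT.leaf cJ1110)) (BT.leaf cJ1111))) (BT.node 1114 (BT.node 1113 (BT.node 1112 (BT.leaf cJ1112) (BT.leaf cJ1113)) (BT.leaf cJ1114)) (BT.node 1115 (BT.leaf cJ1115) (BT.leaf cJ1116)))) (BT.node 1121 (BT.node 1119 (BT.node 1118 (BT.node 1117 (BT.leaf cJ1117) (BT.leaf cJ1118)) (BT.leaf cJ1119)) (BT.node 1120 (BT.leaf cJ1120) (BT.leaf cJ1121))) (BT.node 1124 (BT.node 1123 (BT.node 1122 (BT.leaf cJ1122) (BT.leaf cJ1123)) (BT.leaf cJ1124)) (BT.node 1125 (BT.leaf cJ1125) (BT.leaf cJ1126))))))) (BT.node 1169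 (BT.node 1148 (BT.node 1137 (BT.node 1132 (BT.node 1129 (BT.node 1128 (BT.node 1127 (BT.leaf cJ1127) (BT.leaf cJ1128)) (BT.leaf cJ1129)) (BT.node 1131 (BT.node 1130 (BT.leaf cJ1130) (BT.leaf cJ1131)) (BT.leaf cJ1132))) (BT.node 1135 (BT.node 1134 (BT.node 1133 (BT.leaf cJ1133) (BT.leaf cJ1134)) (BT.leaf cJ1135)) (BT.node 1136 (BT.leaf cJ1136) (BT.leaf cJ1137)))) (BT.node 1143 (BT.node 1140 (BT.node 1139 (BT.node 1138 (BT.leaf cJ1138) (BT.leaf cJ1139)) (BT.leaf cJ1140)) (BT.node 1142 (BT.node 1141 (BT.leaf cJ1141) (BT.leaf cJ1142)) (BT.leaf cJ1143))) (BT.node 1146 (BT.node 1145 (BT.node 1144 (BT.leaf cJ1144) (BT.leaf cJ1145)) (BT.leaf cJ1146)) (BT.node 1147 (BT.leaf cJ1147) (BT.leaf cJ1148))))) (BT.node 1159 (BT.node 1154 (BT.node 1151 (BT.node 1150 (BT.node 1149 (BT.leaf cJ1149) (BT.leaf cJ1150)) (BT.leaf cJ1151)) (BT.node 1153 (BT.node 1152 (BT.leaf cJ1152)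 (BT.leaf cJ1153)) (BT.leaf cJ1154))) (BT.node 1157 (BT.node 1156 (BT.node 1155 (BT.leaf cJ1155) (BT.leaf cJ1156)) (BT.leaf cJ1157)) (BT.node 1158 (BT.leaf cJ1158) (BT.leaf cJ1159)))) (BT.node 1164 (BT.node 1162 (BT.node 1161 (BT.node 1160 (BT.leaf cJ1160) (BT.leaf cJ1161)) (BT.leaf cJ1162)) (BT.node 1163 (BT.leaf cJ1163) (BT.leaf cJ1164))) (BT.node 1167 (BT.node 1166 (BT.node 1165 (BT.leaf cJ1165) (BT.leaf cJ1166)) (BT.leaf cJ1167)) (BT.node 1168 (BT.leaf cJ1168) (BT.leaf cJ1169)))))) (BT.node 1191 (BT.node 1180 (BT.node 1175 (BT.node 1172 (BT.node 1171 (BT.node 1170 (BT.leaf cJ1170) (BT.leaf cJ1171)) (BT.leaf cJ1172)) (BT.node 1174 (BT.node 1173 (BT.leaf cJ1173) (BT.leaf cJ1174)) (BT.leaf cJ1175))) (BT.node 1178 (BT.node 1177 (BT.node 1176 (BT.leaf cJ1176) (BT.leaf cJ1177)) (BT.leaf cJ1178)) (BT.node 1179 (BT.leaf cJ1179) (BT.leaf cJ1180)))) (BT.node 1186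 (BT.node 1183 (BT.node 1182 (BT.node 1181 (BT.leaf cJ1181) (BT.leaf cJ1182)) (BT.leaf cJ1183)) (BT.node 1185 (BT.node 1184 (BT.leaf cJ1184) (BT.leaf cJ1185)) (BT.leaf cJ1186))) (BT.node 1189 (BT.node 1188 (BT.node 1187 (BT.leaf cJ1187) (BT.leaf cJ1188)) (BT.leaf cJ1189)) (BT.node 1190 (BT.leaf cJ1190) (BT.leaf cJ1191))))) (BT.node 1202 (BT.node 1197 (BT.node 1194 (BT.node 1193 (BT.node 1192 (BT.leaf cJ1192) (BT.leaf cJ1193)) (BT.leaf cJ1194)) (BT.node 1196 (BT.node 1195 (BT.leaf cJ1195) (BT.leaf cJ1196)) (BT.leaf cJ1197))) (BT.node 1200 (BT.node 1199 (BT.node 1198 (BT.leaf cJ1198) (BT.leaf cJ1199)) (BT.leaf cJ1200)) (BT.node 1201 (BT.leaf cJ1201) (BT.leaf cJ1202)))) (BT.node 1207 (BT.node 1205 (BT.node 1204 (BT.node 1203 (BT.leaf cJ1203) (BT.leaf cJ1204)) (BT.leaf cJ1205)) (BT.node 1206 (BT.leaf cJ1206) (BT.leaf cJ1207))) (BT.node 1210 (BT.node 1209 (BT.node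 1208 (BT.leaf cJ1208) (BT.leaf cJ1209)) (BT.leaf cJ1210)) (BT.node 1211 (BT.leaf cJ1211) (BT.leaf cJ1212)))))))) (BT.node 1299 (BT.node 1256 (BT.node 1234 (BT.node 1223 (BT.node 1218 (BT.node 1215 (BT.node 1214 (BT.node 1213 (BT.leaf cJ1213) (BT.leaf cJ1214)) (BT.leaf cJ1215)) (BT.node 1217 (BT.node 1216 (BT.leaf cJ1216) (BT.leaf cJ1217)) (BT.leaf cJ1218))) (BT.node 1221 (BT.node 1220 (BT.node 1219 (BT.leaf cJ1219) (BT.leaf cJ1220)) (BT.leaf cJ1221)) (BT.node 1222 (BT.leaf cJ1222) (BT.leaf cJ1223)))) (BT.node 1229 (BT.node 1226 (BT.node 1225 (BT.node 1224 (BT.leaf cJ1224) (BT.leaf cJ1225)) (BT.leaf cJ1226)) (BT.node 1228 (BT.node 1227 (BT.leaf cJ1227) (BT.leaf cJ1228)) (BT.leaf cJ1229))) (BT.node 1232 (BT.node 1231 (BT.node 1230 (BT.leaf cJ1230) (BT.leaf cJ1231)) (BT.leaf cJ1232)) (BT.node 1233 (BT.leaf cJ1233) (BT.leaf cJ1234))))) (BT.node 1245 (BT.node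 1240 (BT.node 1237 (BT.node 1236 (BT.node 1235 (BT.leaf cJ1235) (BT.leaf cJ1236)) (BT.leaf cJ1237)) (BT.node 1239 (BT.node 1238 (BT.leaf cJ1238) (BT.leaf cJ1239)) (BT.leaf cJ1240))) (BT.node 1243 (BT.node 1242 (BT.node 1241 (BT.leaf cJ1241) (BT.leaf cJ1242)) (BT.leaf cJ1243)) (BT.node 1244 (BT.leaf cJ1244) (BT.leaf cJ1245)))) (BT.node 1251 (BT.node 1248 (BT.node 1247 (BT.node 1246 (BT.leaf cJ1246) (BT.leaf cJ1247)) (BT.leaf cJ1248)) (BT.node 1250 (BT.node 1249 (BT.leaf cJ1249) (BT.leaf cJ1250)) (BT.leaf cJ1251))) (BT.node 1254 (BT.node 1253 (BT.node 1252 (BT.leaf cJ1252) (BT.leaf cJ1253)) (BT.leaf cJ1254)) (BT.node 1255 (BT.leaf cJ1255) (BT.leaf cJ1256)))))) (BT.node 1278 (BT.node 1267 (BT.node 1262 (BT.node 1259 (BT.node 1258 (BT.node 1257 (BT.leaf cJ1257) (BT.leaf cJ1258)) (BT.leaf cJ1259)) (BT.node 1261 (BT.node 1260 (BT.leaf cJ1260) (BT.leaf cJ1261))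 (BT.leaf cJ1262))) (BT.node 1265 (BT.node 1264 (BT.node 1263 (BT.leaf cJ1263) (BT.leaf cJ1264)) (BT.leaf cJ1265)) (BT.node 1266 (BT.leaf cJ1266) (BT.leaf cJ1267)))) (BT.node 1273 (BT.node 1270 (BT.node 1269 (BT.node 1268 (BT.leaf cJ1268) (BT.leaf cJ1269)) (BT.leaf cJ1270)) (BT.node 1272 (BT.node 1271 (BT.leaf cJ1271) (BT.leaf cJ1272)) (BT.leaf cJ1273))) (BT.node 1276 (BT.node 1275 (BT.node 1274 (BT.leaf cJ1274) (BT.leaf cJ1275)) (BT.leaf cJ1276)) (BT.node 1277 (BT.leaf cJ1277) (BT.leaf cJ1278))))) (BT.node 1289 (BT.node 1284 (BT.node 1281 (BT.node 1280 (BT.node 1279 (BT.leaf cJ1279) (BT.leaf cJ1280)) (BT.leaf cJ1281)) (BT.node 1283 (BT.node 1282 (BT.leaf cJ1282) (BT.leaf cJ1283)) (BT.leaf cJ1284))) (BT.node 1287 (BT.node 1286 (BT.node 1285 (BT.leaf cJ1285) (BT.leaf cJ1286)) (BT.leaf cJ1287)) (BT.node 1288 (BT.leaf cJ1288) (BT.leaf cJ1289)))) (BT.node 1294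 (BT.node 1292 (BT.node 1291 (BT.node 1290 (BT.leaf cJ1290) (BT.leaf cJ1291)) (BT.leaf cJ1292)) (BT.node 1293 (BT.leaf cJ1293) (BT.leaf cJ1294))) (BT.node 1297 (BT.node 1296 (BT.node 1295 (BT.leaf cJ1295) (BT.leaf cJ1296)) (BT.leaf cJ1297)) (BT.node 1298 (BT.leaf cJ1298) (BT.leaf cJ1299))))))) (BT.node 1342 (BT.node 1321 (BT.node 1310 (BT.node 1305 (BT.node 1302 (BT.node 1301 (BT.node 1300 (BT.leaf cJ1300) (BT.leaf cJ1301)) (BT.leaf cJ1302)) (BT.node 1304 (BT.node 1303 (BT.leaf cJ1303) (BT.leaf cJ1304)) (BT.leaf cJ1305))) (BT.node 1308 (BT.node 1307 (BT.node 1306 (BT.leaf cJ1306) (BT.leaf cJ1307)) (BT.leaf cJ1308)) (BT.node 1309 (BT.leaf cJ1309) (BT.leaf cJ1310)))) (BT.node 1316 (BT.node 1313 (BT.node 1312 (BT.node 1311 (BT.leaf cJ1311) (BT.leaf cJ1312)) (BT.leaf cJ1313)) (BT.node 1315 (BT.node 1314 (BT.leaf cJ1314) (BT.leaf cJ1315)) (BT.leaf cJ1316))) (BT.node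 1319 (BT.node 1318 (BT.node 1317 (BT.leaf cJ1317) (BT.leaf cJ1318)) (BT.leaf cJ1319)) (BT.node 1320 (BT.leaf cJ1320) (BT.leaf cJ1321))))) (BT.node 1332 (BT.node 1327 (BT.node 1324 (BT.node 1323 (BT.node 1322 (BT.leaf cJ1322) (BT.leaf cJ1323)) (BT.leaf cJ1324)) (BT.node 1326 (BT.node 1325 (BT.leaf cJ1325) (BT.leaf cJ1326)) (BT.leaf cJ1327))) (BT.node 1330 (BT.node 1329 (BT.node 1328 (BT.leaf cJ1328) (BT.leaf cJ1329)) (BT.leaf cJ1330)) (BT.node 1331 (BT.leaf cJ1331) (BT.leaf cJ1332)))) (BT.node 1337 (BT.node 1335 (BT.node 1334 (BT.node 1333 (BT.leaf cJ1333) (BT.leaf cJ1334)) (BT.leaf cJ1335)) (BT.node 1336 (BT.leaf cJ1336) (BT.leaf cJ1337))) (BT.node 1340 (BT.node 1339 (BT.node 1338 (BT.leaf cJ1338) (BT.leaf cJ1339)) (BT.leaf cJ1340)) (BT.node 1341 (BT.leaf cJ1341) (BT.leaf cJ1342)))))) (BT.node 1364 (BT.node 1353 (BT.node 1348 (BT.node 1345 (BT.node 1344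 (BT.node 1343 (BT.leaf cJ1343) (BT.leaf cJ1344)) (BT.leaf cJ1345)) (BT.node 1347 (BT.node 1346 (BT.leaf cJ1346) (BT.leaf cJ1347)) (BT.leaf cJ1348))) (BT.node 1351 (BT.node 1350 (BT.node 1349 (BT.leaf cJ1349) (BT.leaf cJ1350)) (BT.leaf cJ1351)) (BT.node 1352 (BT.leaf cJ1352) (BT.leaf cJ1353)))) (BT.node 1359 (BT.node 1356 (BT.node 1355 (BT.node 1354 (BT.leaf cJ1354) (BT.leaf cJ1355)) (BT.leaf cJ1356)) (BT.node 1358 (BT.node 1357 (BT.leaf cJ1357) (BT.leaf cJ1358)) (BT.leaf cJ1359))) (BT.node 1362 (BT.node 1361 (BT.node 1360 (BT.leaf cJ1360) (BT.leaf cJ1361)) (BT.leaf cJ1362)) (BT.node 1363 (BT.leaf cJ1363) (BT.leaf cJ1364))))) (BT.node 1375 (BT.node 1370 (BT.node 1367 (BT.node 1366 (BT.node 1365 (BT.leaf cJ1365) (BT.leaf cJ1366)) (BT.leaf cJ1367)) (BT.node 1369 (BT.node 1368 (BT.leaf cJ1368) (BT.leaf cJ1369)) (BT.leaf cJ1370))) (BT.node 1373 (BT.node 1372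 (BT.node 1371 (BT.leaf cJ1371) (BT.leaf cJ1372)) (BT.leaf cJ1373)) (BT.node 1374 (BT.leaf cJ1374) (BT.leaf cJ1375)))) (BT.node 1380 (BT.node 1378 (BT.node 1377 (BT.node 1376 (BT.leaf cJ1376) (BT.leaf cJ1377)) (BT.leaf cJ1378)) (BT.node 1379 (BT.leaf cJ1379) (BT.leaf cJ1380))) (BT.node 1383 (BT.node 1382 (BT.node 1381 (BT.leaf cJ1381) (BT.leaf cJ1382)) (BT.leaf cJ1383)) (BT.node 1384 (BT.leaf cJ1384) (BT.leaf cJ1385)))))))))))
/-- parent chunks -/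
def parCT : BT ℕ := (BT.node 62 (BT.node 31 (BT.node 15 (BT.node 7 (BT.node 3 (BT.node 1 (BT.node 0 (BT.leaf cP0) (BT.leaf cP1)) (BT.node 2 (BT.leaf cP2) (BT.leaf cP3))) (BT.node 5 (BT.node 4 (BT.leaf cP4) (BT.leaf cP5)) (BT.node 6 (BT.leaf cP6) (BT.leaf cP7)))) (BT.node 11 (BT.node 9 (BT.node 8 (BT.leaf cP8) (BT.leaf cP9)) (BT.node 10 (BT.leaf cP10) (BT.leaf cP11))) (BT.node 13 (BT.node 12 (BT.leaf cP12) (BT.leaf cP13)) (BT.node 14 (BT.leaf cP14) (BT.leaf cP15))))) (BT.node 23 (BT.node 19 (BT.node 17 (BT.node 16 (BT.leaf cP16) (BT.leaf cP17)) (BT.node 18 (BT.leaf cP18) (BT.leaf cP19))) (BT.node 21 (BT.node 20 (BT.leaf cP20) (BT.leaf cP21)) (BT.node 22 (BT.leaf cP22) (BT.leaf cP23)))) (BT.node 27 (BT.node 25 (BT.node 24 (BT.leaf cP24) (BT.leaf cP25)) (BT.node 26 (BT.leaf cP26) (BT.leaf cP27))) (BT.node 29 (BT.node 28 (BT.leaf cP28) (BT.leaf cP29)) (BT.node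 30 (BT.leaf cP30) (BT.leaf cP31)))))) (BT.node 47 (BT.node 39 (BT.node 35 (BT.node 33 (BT.node 32 (BT.leaf cP32) (BT.leaf cP33)) (BT.node 34 (BT.leaf cP34) (BT.leaf cP35))) (BT.node 37 (BT.node 36 (BT.leaf cP36) (BT.leaf cP37)) (BT.node 38 (BT.leaf cP38) (BT.leaf cP39)))) (BT.node 43 (BT.node 41 (BT.node 40 (BT.leaf cP40) (BT.leaf cP41)) (BT.node 42 (BT.leaf cP42) (BT.leaf cP43))) (BT.node 45 (BT.node 44 (BT.leaf cP44) (BT.leaf cP45)) (BT.node 46 (BT.leaf cP46) (BT.leaf cP47))))) (BT.node 55 (BT.node 51 (BT.node 49 (BT.node 48 (BT.leaf cP48) (BT.leaf cP49)) (BT.node 50 (BT.leaf cP50) (BT.leaf cP51))) (BT.node 53 (BT.node 52 (BT.leaf cP52) (BT.leaf cP53)) (BT.node 54 (BT.leaf cP54) (BT.leaf cP55)))) (BT.node 59 (BT.node 57 (BT.node 56 (BT.leaf cP56) (BT.leaf cP57)) (BT.node 58 (BT.leaf cP58) (BT.leaf cP59))) (BT.node 61 (BT.node 60 (BT.leaf cP60) (BT.leaf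 cP61)) (BT.leaf cP62)))))) (BT.node 94 (BT.node 78 (BT.node 70 (BT.node 66 (BT.node 64 (BT.node 63 (BT.leaf cP63) (BT.leaf cP64)) (BT.node 65 (BT.leaf cP65) (BT.leaf cP66))) (BT.node 68 (BT.node 67 (BT.leaf cP67) (BT.leaf cP68)) (BT.node 69 (BT.leaf cP69) (BT.leaf cP70)))) (BT.node 74 (BT.node 72 (BT.node 71 (BT.leaf cP71) (BT.leaf cP72)) (BT.node 73 (BT.leaf cP73) (BT.leaf cP74))) (BT.node 76 (BT.node 75 (BT.leaf cP75) (BT.leaf cP76)) (BT.node 77 (BT.leaf cP77) (BT.leaf cP78))))) (BT.node 86 (BT.node 82 (BT.node 80 (BT.node 79 (BT.leaf cP79) (BT.leaf cP80)) (BT.node 81 (BT.leaf cP81) (BT.leaf cP82))) (BT.node 84 (BT.node 83 (BT.leaf cP83) (BT.leaf cP84)) (BT.node 85 (BT.leaf cP85) (BT.leaf cP86)))) (BT.node 90 (BT.node 88 (BT.node 87 (BT.leaf cP87) (BT.leaf cP88)) (BT.node 89 (BT.leaf cP89) (BT.leaf cP90))) (BT.node 92 (BT.node 91 (BT.leaf cP91) (BT.leaf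 cP92)) (BT.node 93 (BT.leaf cP93) (BT.leaf cP94)))))) (BT.node 110 (BT.node 102 (BT.node 98 (BT.node 96 (BT.node 95 (BT.leaf cP95) (BT.leaf cP96)) (BT.node 97 (BT.leaf cP97) (BT.leaf cP98))) (BT.node 100 (BT.node 99 (BT.leaf cP99) (BT.leaf cP100)) (BT.node 101 (BT.leaf cP101) (BT.leaf cP102)))) (BT.node 106 (BT.node 104 (BT.node 103 (BT.leaf cP103) (BT.leaf cP104)) (BT.node 105 (BT.leaf cP105) (BT.leaf cP106))) (BT.node 108 (BT.node 107 (BT.leaf cP107) (BT.leaf cP108)) (BT.node 109 (BT.leaf cP109) (BT.leaf cP110))))) (BT.node 118 (BT.node 114 (BT.node 112 (BT.node 111 (BT.leaf cP111) (BT.leaf cP112)) (BT.node 113 (BT.leaf cP113) (BT.leaf cP114))) (BT.node 116 (BT.node 115 (BT.leaf cP115) (BT.leaf cP116)) (BT.node 117 (BT.leaf cP117) (BT.leaf cP118)))) (BT.node 122 (BT.node 120 (BT.node 119 (BT.leaf cP119) (BT.leaf cP120)) (BT.node 121 (BT.leaf cP121) (BT.leaf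 cP122))) (BT.node 124 (BT.node 123 (BT.leaf cP123) (BT.leaf cP124)) (BT.leaf cP125)))))))
/-- the certificate -/
def data : Data where
  k := 10
  N := 64483
  W := 35
  MW := 34359738368
  B := 65536
  CH := 512
  NCH := 126
  colE := colET
  JW := 64
  MJ := 18446744073709551616
  A := 1048576
  colJ := colJT
  PW := 25
  MP := 33554432
  parC := parCT
  inv := (BT.node 5 (BT.node 2 (BT.node 1 (BT.node 0 (BT.leaf 0) (BT.leaf 1)) (BT.leaf 2)) (BT.node 4 (BT.node 3 (BT.leaf 3) (BT.leaf 4)) (BT.leaf 5))) (BT.node 8 (BT.node 7 (BT.node 6 (BT.leaf 6) (BT.leaf 7)) (BT.leaf 8)) (BT.node 9 (BT.leaf 9) (BT.leaf 10))))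
  rel := relT
  sub := subT
  fuel := 64

end Cfsg.Agent.Lib.Helper28.TCFi23W0Data
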