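import Cfsg.Agent.Lib.Helper28.TC2Range
import Cfsg.Agent.Lib.Helper28.TCFi23W0Data
import Cfsg.Agent.Lib.Helper28.TCFi23W0Table
set_option autoImplicit false
set_option maxRecDepth 100000
set_option maxHeartbeats 0

namespace Cfsg.Agent.Lib.Helper28.TCFi23W0M1
open Cfsg.Agent.Lib.Helper28.TC2Upper Cfsg.Agent.Lib.Helper28.TC2Lower Cfsg.Agent.Lib.Helper28.TC2Range Cfsg.Agent.Lib.Helper28.TCFi23W0Data Cfsg.Agent.Lib.Helper28.TCFi23W0Table

theorem fin5 : Data.finalRange data 41665 8333 = true := by decide +kernel
theorem fin6 : Data.finalRange data 49998 8333 = true := by decide +kernel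
theorem fin7 : Data.finalRange data 58331 6152 = true := by decide +kernel
theorem cnt0 : Data.countFrom data 0 40000 = 11678 := by decide +kernel
theorem cnt1 : Data.countFrom data 40000 24483 = 19993 := by decide +kernel

end Cfsg.Agent.Lib.Helper28.TCFi23W0M1
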