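import Cfsg.Agent.Lib.Helper28.TCFi23W0Data
import Cfsg.Agent.Lib.Helper28.TCFi23W0U1
set_option autoImplicit false
set_option maxRecDepth 100000
set_option maxHeartbeats 0

namespace Cfsg.Agent.Lib.Helper28.TCFi23W0U7
open Cfsg.Agent.Lib.Helper28.TC2Upper Cfsg.Agent.Lib.Helper28.TCFi23W0Data

theorem chk35 : data.checkRange 44792 826 = true := by decide +kernel
theorem chk36 : data.checkRange 45618 957 = true := by decide +kernel
theorem chk37 : data.checkRange 46575 550 = true := by decide +kernel
theorem chk38 : data.checkRange 47125 546 = true := by decide +kernel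
theorem chk39 : data.checkRange 47671 546 = true := by decide +kernel

end Cfsg.Agent.Lib.Helper28.TCFi23W0U7
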