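import Cfsg.Agent.Lib.Helper28.TC2GlueOrb
import Cfsg.Agent.Lib.Helper28.TC2Range
import Cfsg.Agent.Lib.Helper28.TCFi23W0Link
import Cfsg.Agent.Lib.Helper28.TCFi23W0M
import Cfsg.Agent.Lib.Helper28.TCFi23W0M0
import Cfsg.Agent.Lib.Helper28.TCFi23W0M1
import Cfsg.Agent.Lib.Helper28.TCFi23W0M2
import Cfsg.Agent.Lib.Helper28.TCFi23W0U0
import Cfsg.Agent.Lib.Helper28.TCFi23W0U1
import Cfsg.Agent.Lib.Helper28.TCFi23W0U2
import Cfsg.Agent.Lib.Helper28.TCFi23W0U3
import Cfsg.Agent.Lib.Helper28.TCFi23W0U4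
import Cfsg.Agent.Lib.Helper28.TCFi23W0U5
import Cfsg.Agent.Lib.Helper28.TCFi23W0U6
import Cfsg.Agent.Lib.Helper28.TCFi23W0U7
import Cfsg.Agent.Lib.Helper28.TCFi23W0U8
import Cfsg.Agent.Lib.Helper28.TCFi23W0U9
import Cfsg.Agent.Lib.Helper28.TCFi23W0U10
import Cfsg.Agent.Lib.Helper28.TCFi23W0U11
import Cfsg.Agent.Lib.Helper28.TCFi23W0U12
import Cfsg.Agent.Lib.Helper28.TCFi23W0U13
import Cfsg.Agent.Lib.Helper28.TCFi23W0L0
import Cfsg.Agent.Lib.Helper28.TCFi23W0L1
import Cfsg.Agent.Lib.Helper28.TCFi23W0L2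
import Cfsg.Agent.Lib.Helper28.TCFi23W0L3
import Cfsg.Agent.Lib.Helper28.TCFi23W0L4
import Cfsg.Agent.Lib.Helper28.TCFi23W0L5
import Cfsg.Agent.Lib.Helper28.TCFi23W0L6
import Cfsg.Agent.Lib.Helper28.TCFi23W0L7

set_option autoImplicit false
set_option maxRecDepth 100000
open Cfsg

namespace Cfsg.Agent.Lib.Helper28.TCFi23W0Main
open Cfsg.Agent.Lib.Helper28.TC2Upper Cfsg.Agent.Lib.Helper28.TC2Lower Cfsg.Agent.Lib.Helper28.TC2Glue Cfsg.Agent.Lib.Helper28.TC2GlueOrb Cfsg.Agent.Lib.Helper28.TC2Orbit Cfsg.Agent.Lib.Helper28.TC2Range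
open Cfsg.Agent.Lib.Helper28.TCFi23W0Data Cfsg.Agent.Lib.Helper28.TCFi23W0Table Cfsg.Agent.Lib.Helper28.TCFi23W0Link Cfsg.Agent.Lib.Helper28.TCFi23W0M

theorem hchk : ∀ v, v < data.N → data.checkNode v = true := by
  intro v hv
  have hv' : v < 64483 := hv
  rcases Nat.lt_or_ge v 548 with h0 | h0
  · exact (data.checkRange_iff 0 548).mp Cfsg.Agent.Lib.Helper28.TCFi23W0U0.chk0 v (by omega) (by omega)
  rcases Nat.lt_or_ge v 1125 with h1 | h1
  · exact (data.checkRange_iff 548 577).mp Cfsg.Agent.Lib.Helper28.TCFi23W0U0.chk1 v (by omega) (by omega)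
  rcases Nat.lt_or_ge v 1723 with h2 | h2
  · exact (data.checkRange_iff 1125 598).mp Cfsg.Agent.Lib.Helper28.TCFi23W0U0.chk2 v (by omega) (by omega)
  rcases Nat.lt_or_ge v 2369 with h3 | h3
  · exact (data.checkRange_iff 1723 646).mp Cfsg.Agent.Lib.Helper28.TCFi23W0U0.chk3 v (by omega) (by omega)
  rcases Nat.lt_or_ge v 3115 with h4 | h4
  · exact (data.checkRange_iff 2369 746).mp Cfsg.Agent.Lib.Helper28.TCFi23W0U0.chk4 v (by omega) (by omega)
  rcases Nat.lt_or_ge v 3699 with h5 | h5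
  · exact (data.checkRange_iff 3115 584).mp Cfsg.Agent.Lib.Helper28.TCFi23W0U1.chk5 v (by omega) (by omega)
  rcases Nat.lt_or_ge v 4604 with h6 | h6
  · exact (data.checkRange_iff 3699 905).mp Cfsg.Agent.Lib.Helper28.TCFi23W0U1.chk6 v (by omega) (by omega)
  rcases Nat.lt_or_ge v 5229 with h7 | h7
  · exact (data.checkRange_iff 4604 625).mp Cfsg.Agent.Lib.Helper28.TCFi23W0U1.chk7 v (by omega) (by omega)
  rcases Nat.lt_or_ge v 6444 with h8 | h8
  · exact (data.checkRange_iff 5229 1215).mp Cfsg.Agent.Lib.Helper28.TCFi23W0U1.chk8 v (by omega) (by omega)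
  rcases Nat.lt_or_ge v 7023 with h9 | h9
  · exact (data.checkRange_iff 6444 579).mp Cfsg.Agent.Lib.Helper28.TCFi23W0U1.chk9 v (by omega) (by omega)
  rcases Nat.lt_or_ge v 7775 with h10 | h10
  · exact (data.checkRange_iff 7023 752).mp Cfsg.Agent.Lib.Helper28.TCFi23W0U2.chk10 v (by omega) (by omega)
  rcases Nat.lt_or_ge v 9425 with h11 | h11
  · exact (data.checkRange_iff 7775 1650).mp Cfsg.Agent.Lib.Helper28.TCFi23W0U2.chk11 v (by omega) (by omega)
  rcases Nat.lt_or_ge v 10039 with h12 | h12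
  · exact (data.checkRange_iff 9425 614).mp Cfsg.Agent.Lib.Helper28.TCFi23W0U2.chk12 v (by omega) (by omega)
  rcases Nat.lt_or_ge v 10816 with h13 | h13
  · exact (data.checkRange_iff 10039 777).mp Cfsg.Agent.Lib.Helper28.TCFi23W0U2.chk13 v (by omega) (by omega)
  rcases Nat.lt_or_ge v 12316 with h14 | h14
  · exact (data.checkRange_iff 10816 1500).mp Cfsg.Agent.Lib.Helper28.TCFi23W0U2.chk14 v (by omega) (by omega)
  rcases Nat.lt_or_ge v 13873 with h15 | h15
  · exact (data.checkRange_iff 12316 1557).mp Cfsg.Agent.Lib.Helper28.TCFi23W0U3.chk15 v (by omega) (by omega)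
  rcases Nat.lt_or_ge v 14576 with h16 | h16
  · exact (data.checkRange_iff 13873 703).mp Cfsg.Agent.Lib.Helper28.TCFi23W0U3.chk16 v (by omega) (by omega)
  rcases Nat.lt_or_ge v 15243 with h17 | h17
  · exact (data.checkRange_iff 14576 667).mp Cfsg.Agent.Lib.Helper28.TCFi23W0U3.chk17 v (by omega) (by omega)
  rcases Nat.lt_or_ge v 16632 with h18 | h18
  · exact (data.checkRange_iff 15243 1389).mp Cfsg.Agent.Lib.Helper28.TCFi23W0U3.chk18 v (by omega) (by omega)
  rcases Nat.lt_or_ge v 19783 with h19 | h19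
  · exact (data.checkRange_iff 16632 3151).mp Cfsg.Agent.Lib.Helper28.TCFi23W0U3.chk19 v (by omega) (by omega)
  rcases Nat.lt_or_ge v 20373 with h20 | h20
  · exact (data.checkRange_iff 19783 590).mp Cfsg.Agent.Lib.Helper28.TCFi23W0U4.chk20 v (by omega) (by omega)
  rcases Nat.lt_or_ge v 21208 with h21 | h21
  · exact (data.checkRange_iff 20373 835).mp Cfsg.Agent.Lib.Helper28.TCFi23W0U4.chk21 v (by omega) (by omega)
  rcases Nat.lt_or_ge v 21932 with h22 | h22
  · exact (data.checkRange_iff 21208 724).mp Cfsg.Agent.Lib.Helper28.TCFi23W0U4.chk22 v (by omega) (by omega)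
  rcases Nat.lt_or_ge v 23573 with h23 | h23
  · exact (data.checkRange_iff 21932 1641).mp Cfsg.Agent.Lib.Helper28.TCFi23W0U4.chk23 v (by omega) (by omega)
  rcases Nat.lt_or_ge v 26934 with h24 | h24
  · exact (data.checkRange_iff 23573 3361).mp Cfsg.Agent.Lib.Helper28.TCFi23W0U4.chk24 v (by omega) (by omega)
  rcases Nat.lt_or_ge v 29025 with h25 | h25
  · exact (data.checkRange_iff 26934 2091).mp Cfsg.Agent.Lib.Helper28.TCFi23W0U5.chk25 v (by omega) (by omega)
  rcases Nat.lt_or_ge v 29703 with h26 | h26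
  · exact (data.checkRange_iff 29025 678).mp Cfsg.Agent.Lib.Helper28.TCFi23W0U5.chk26 v (by omega) (by omega)
  rcases Nat.lt_or_ge v 30750 with h27 | h27
  · exact (data.checkRange_iff 29703 1047).mp Cfsg.Agent.Lib.Helper28.TCFi23W0U5.chk27 v (by omega) (by omega)
  rcases Nat.lt_or_ge v 31423 with h28 | h28
  · exact (data.checkRange_iff 30750 673).mp Cfsg.Agent.Lib.Helper28.TCFi23W0U5.chk28 v (by omega) (by omega)
  rcases Nat.lt_or_ge v 32848 with h29 | h29
  · exact (data.checkRange_iff 31423 1425).mp Cfsg.Agent.Lib.Helper28.TCFi23W0U5.chk29 v (by omega) (by omega)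
  rcases Nat.lt_or_ge v 36225 with h30 | h30
  · exact (data.checkRange_iff 32848 3377).mp Cfsg.Agent.Lib.Helper28.TCFi23W0U6.chk30 v (by omega) (by omega)
  rcases Nat.lt_or_ge v 41649 with h31 | h31
  · exact (data.checkRange_iff 36225 5424).mp Cfsg.Agent.Lib.Helper28.TCFi23W0U6.chk31 v (by omega) (by omega)
  rcases Nat.lt_or_ge v 42442 with h32 | h32
  · exact (data.checkRange_iff 41649 793).mp Cfsg.Agent.Lib.Helper28.TCFi23W0U6.chk32 v (by omega) (by omega)
  rcases Nat.lt_or_ge v 43111 with h33 | h33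
  · exact (data.checkRange_iff 42442 669).mp Cfsg.Agent.Lib.Helper28.TCFi23W0U6.chk33 v (by omega) (by omega)
  rcases Nat.lt_or_ge v 44792 with h34 | h34
  · exact (data.checkRange_iff 43111 1681).mp Cfsg.Agent.Lib.Helper28.TCFi23W0U6.chk34 v (by omega) (by omega)
  rcases Nat.lt_or_ge v 45618 with h35 | h35
  · exact (data.checkRange_iff 44792 826).mp Cfsg.Agent.Lib.Helper28.TCFi23W0U7.chk35 v (by omega) (by omega)
  rcases Nat.lt_or_ge v 46575 with h36 | h36
  · exact (data.checkRange_iff 45618 957).mp Cfsg.Agent.Lib.Helper28.TCFi23W0U7.chk36 v (by omega) (by omega)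
  rcases Nat.lt_or_ge v 47125 with h37 | h37
  · exact (data.checkRange_iff 46575 550).mp Cfsg.Agent.Lib.Helper28.TCFi23W0U7.chk37 v (by omega) (by omega)
  rcases Nat.lt_or_ge v 47671 with h38 | h38
  · exact (data.checkRange_iff 47125 546).mp Cfsg.Agent.Lib.Helper28.TCFi23W0U7.chk38 v (by omega) (by omega)
  rcases Nat.lt_or_ge v 48217 with h39 | h39
  · exact (data.checkRange_iff 47671 546).mp Cfsg.Agent.Lib.Helper28.TCFi23W0U7.chk39 v (by omega) (by omega)
  rcases Nat.lt_or_ge v 48763 with h40 | h40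
  · exact (data.checkRange_iff 48217 546).mp Cfsg.Agent.Lib.Helper28.TCFi23W0U8.chk40 v (by omega) (by omega)
  rcases Nat.lt_or_ge v 49309 with h41 | h41
  · exact (data.checkRange_iff 48763 546).mp Cfsg.Agent.Lib.Helper28.TCFi23W0U8.chk41 v (by omega) (by omega)
  rcases Nat.lt_or_ge v 49855 with h42 | h42
  · exact (data.checkRange_iff 49309 546).mp Cfsg.Agent.Lib.Helper28.TCFi23W0U8.chk42 v (by omega) (by omega)
  rcases Nat.lt_or_ge v 50401 with h43 | h43
  · exact (data.checkRange_iff 49855 546).mp Cfsg.Agent.Lib.Helper28.TCFi23W0U8.chk43 v (by omega) (by omega)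
  rcases Nat.lt_or_ge v 50947 with h44 | h44
  · exact (data.checkRange_iff 50401 546).mp Cfsg.Agent.Lib.Helper28.TCFi23W0U8.chk44 v (by omega) (by omega)
  rcases Nat.lt_or_ge v 51493 with h45 | h45
  · exact (data.checkRange_iff 50947 546).mp Cfsg.Agent.Lib.Helper28.TCFi23W0U9.chk45 v (by omega) (by omega)
  rcases Nat.lt_or_ge v 52039 with h46 | h46
  · exact (data.checkRange_iff 51493 546).mp Cfsg.Agent.Lib.Helper28.TCFi23W0U9.chk46 v (by omega) (by omega)
  rcases Nat.lt_or_ge v 52585 with h47 | h47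
  · exact (data.checkRange_iff 52039 546).mp Cfsg.Agent.Lib.Helper28.TCFi23W0U9.chk47 v (by omega) (by omega)
  rcases Nat.lt_or_ge v 53131 with h48 | h48
  · exact (data.checkRange_iff 52585 546).mp Cfsg.Agent.Lib.Helper28.TCFi23W0U9.chk48 v (by omega) (by omega)
  rcases Nat.lt_or_ge v 53677 with h49 | h49
  · exact (data.checkRange_iff 53131 546).mp Cfsg.Agent.Lib.Helper28.TCFi23W0U9.chk49 v (by omega) (by omega)
  rcases Nat.lt_or_ge v 54223 with h50 | h50
  · exact (data.checkRange_iff 53677 546).mp Cfsg.Agent.Lib.Helper28.TCFi23W0U10.chk50 v (by omega) (by omega)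
  rcases Nat.lt_or_ge v 54769 with h51 | h51
  · exact (data.checkRange_iff 54223 546).mp Cfsg.Agent.Lib.Helper28.TCFi23W0U10.chk51 v (by omega) (by omega)
  rcases Nat.lt_or_ge v 55315 with h52 | h52
  · exact (data.checkRange_iff 54769 546).mp Cfsg.Agent.Lib.Helper28.TCFi23W0U10.chk52 v (by omega) (by omega)
  rcases Nat.lt_or_ge v 55861 with h53 | h53
  · exact (data.checkRange_iff 55315 546).mp Cfsg.Agent.Lib.Helper28.TCFi23W0U10.chk53 v (by omega) (by omega)
  rcases Nat.lt_or_ge v 56407 with h54 | h54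
  · exact (data.checkRange_iff 55861 546).mp Cfsg.Agent.Lib.Helper28.TCFi23W0U10.chk54 v (by omega) (by omega)
  rcases Nat.lt_or_ge v 56953 with h55 | h55
  · exact (data.checkRange_iff 56407 546).mp Cfsg.Agent.Lib.Helper28.TCFi23W0U11.chk55 v (by omega) (by omega)
  rcases Nat.lt_or_ge v 57499 with h56 | h56
  · exact (data.checkRange_iff 56953 546).mp Cfsg.Agent.Lib.Helper28.TCFi23W0U11.chk56 v (by omega) (by omega)
  rcases Nat.lt_or_ge v 58045 with h57 | h57
  · exact (data.checkRange_iff 57499 546).mp Cfsg.Agent.Lib.Helper28.TCFi23W0U11.chk57 v (by omega) (by omega)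
  rcases Nat.lt_or_ge v 58591 with h58 | h58
  · exact (data.checkRange_iff 58045 546).mp Cfsg.Agent.Lib.Helper28.TCFi23W0U11.chk58 v (by omega) (by omega)
  rcases Nat.lt_or_ge v 59137 with h59 | h59
  · exact (data.checkRange_iff 58591 546).mp Cfsg.Agent.Lib.Helper28.TCFi23W0U11.chk59 v (by omega) (by omega)
  rcases Nat.lt_or_ge v 59683 with h60 | h60
  · exact (data.checkRange_iff 59137 546).mp Cfsg.Agent.Lib.Helper28.TCFi23W0U12.chk60 v (by omega) (by omega)
  rcases Nat.lt_or_ge v 60229 with h61 | h61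
  · exact (data.checkRange_iff 59683 546).mp Cfsg.Agent.Lib.Helper28.TCFi23W0U12.chk61 v (by omega) (by omega)
  rcases Nat.lt_or_ge v 60775 with h62 | h62
  · exact (data.checkRange_iff 60229 546).mp Cfsg.Agent.Lib.Helper28.TCFi23W0U12.chk62 v (by omega) (by omega)
  rcases Nat.lt_or_ge v 61321 with h63 | h63
  · exact (data.checkRange_iff 60775 546).mp Cfsg.Agent.Lib.Helper28.TCFi23W0U12.chk63 v (by omega) (by omega)
  rcases Nat.lt_or_ge v 61867 with h64 | h64
  · exact (data.checkRange_iff 61321 546).mp Cfsg.Agent.Lib.Helper28.TCFi23W0U12.chk64 v (by omega) (by omega)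
  rcases Nat.lt_or_ge v 62413 with h65 | h65
  · exact (data.checkRange_iff 61867 546).mp Cfsg.Agent.Lib.Helper28.TCFi23W0U13.chk65 v (by omega) (by omega)
  rcases Nat.lt_or_ge v 62959 with h66 | h66
  · exact (data.checkRange_iff 62413 546).mp Cfsg.Agent.Lib.Helper28.TCFi23W0U13.chk66 v (by omega) (by omega)
  rcases Nat.lt_or_ge v 63505 with h67 | h67
  · exact (data.checkRange_iff 62959 546).mp Cfsg.Agent.Lib.Helper28.TCFi23W0U13.chk67 v (by omega) (by omega)
  rcases Nat.lt_or_ge v 64051 with h68 | h68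
  · exact (data.checkRange_iff 63505 546).mp Cfsg.Agent.Lib.Helper28.TCFi23W0U13.chk68 v (by omega) (by omega)
  exact (data.checkRange_iff 64051 432).mp Cfsg.Agent.Lib.Helper28.TCFi23W0U13.chk69 v (by omega) (by omega)

theorem hrows : ∀ v, v < data.N → Data.rowOK data v = true := by
  intro v hv
  have hv' : v < 64483 := hv
  rcases Nat.lt_or_ge v 8333 with h0 | h0
  · exact (Data.finalRange_iff data 0 8333).mp Cfsg.Agent.Lib.Helper28.TCFi23W0M0.fin0 v (by omega) (by omega)
  rcases Nat.lt_or_ge v 16666 with h1 | h1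
  · exact (Data.finalRange_iff data 8333 8333).mp Cfsg.Agent.Lib.Helper28.TCFi23W0M0.fin1 v (by omega) (by omega)
  rcases Nat.lt_or_ge v 24999 with h2 | h2
  · exact (Data.finalRange_iff data 16666 8333).mp Cfsg.Agent.Lib.Helper28.TCFi23W0M0.fin2 v (by omega) (by omega)
  rcases Nat.lt_or_ge v 33332 with h3 | h3
  · exact (Data.finalRange_iff data 24999 8333).mp Cfsg.Agent.Lib.Helper28.TCFi23W0M0.fin3 v (by omega) (by omega)
  rcases Nat.lt_or_ge v 41665 with h4 | h4
  · exact (Data.finalRange_iff data 33332 8333).mp Cfsg.Agent.Lib.Helper28.TCFi23W0M0.fin4 v (by omega) (by omega)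
  rcases Nat.lt_or_ge v 49998 with h5 | h5
  · exact (Data.finalRange_iff data 41665 8333).mp Cfsg.Agent.Lib.Helper28.TCFi23W0M1.fin5 v (by omega) (by omega)
  rcases Nat.lt_or_ge v 58331 with h6 | h6
  · exact (Data.finalRange_iff data 49998 8333).mp Cfsg.Agent.Lib.Helper28.TCFi23W0M1.fin6 v (by omega) (by omega)
  exact (Data.finalRange_iff data 58331 6152).mp Cfsg.Agent.Lib.Helper28.TCFi23W0M1.fin7 v (by omega) (by omega)

theorem hfin : data.finalOK = true := Data.finalOK_of_rows data hlive0 (by decide) hrows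

theorem pc0 : Data.countFrom data 0 40000 = 11678 := Cfsg.Agent.Lib.Helper28.TCFi23W0M1.cnt0
theorem pc1 : Data.countFrom data 0 64483 = 31671 := Data.countFrom_step data pc0 Cfsg.Agent.Lib.Helper28.TCFi23W0M1.cnt1 (by norm_num) (by norm_num)

theorem hcount : data.countLive = table.n := by
  rw [Data.countLive_eq]
  exact pc1

theorem hpermAll : ∀ p, p < table.n → Table.permRow table p = true := by
  intro p hp
  have hp' : p < 31671 := hp
  rcases Nat.lt_or_ge p 12500 with h0 | h0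
  · exact (Table.permRange_iff table 0 12500).mp Cfsg.Agent.Lib.Helper28.TCFi23W0M2.prm0 p (by omega) (by omega)
  rcases Nat.lt_or_ge p 25000 with h1 | h1
  · exact (Table.permRange_iff table 12500 12500).mp Cfsg.Agent.Lib.Helper28.TCFi23W0M2.prm1 p (by omega) (by omega)
  exact (Table.permRange_iff table 25000 6671).mp Cfsg.Agent.Lib.Helper28.TCFi23W0M2.prm2 p (by omega) (by omega)

theorem hT : table.OK := Table.ok_of_rows table hinvOK hpermAll

theorem htreeAll : ∀ i, i < Nat.pred table.n → Table.treeRow table i = true := by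
  intro p hp
  have hp' : p < 31670 := hp
  exact (Table.treeRange_iff table 0 31670).mp Cfsg.Agent.Lib.Helper28.TCFi23W0M2.tre0 p (by omega) (by omega)

theorem htree : table.treeOK = true := Table.treeOK_of_rows table htreeAll

theorem hchkT : ∀ P ∈ chkPaths, ∀ p, p < table.n → table.walkT P p = p := by
  intro P hm p hp
  have hp' : p < 31671 := hp
  rcases Nat.lt_or_ge p 712 with h0 | h0
  · exact (Table.relOK_iff chkPaths 0 712).mp Cfsg.Agent.Lib.Helper28.TCFi23W0L0.rel0 p (by omega) (by omega) _ hm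
  rcases Nat.lt_or_ge p 1424 with h1 | h1
  · exact (Table.relOK_iff chkPaths 712 712).mp Cfsg.Agent.Lib.Helper28.TCFi23W0L0.rel1 p (by omega) (by omega) _ hm
  rcases Nat.lt_or_ge p 2136 with h2 | h2
  · exact (Table.relOK_iff chkPaths 1424 712).mp Cfsg.Agent.Lib.Helper28.TCFi23W0L0.rel2 p (by omega) (by omega) _ hm
  rcases Nat.lt_or_ge p 2848 with h3 | h3
  · exact (Table.relOK_iff chkPaths 2136 712).mp Cfsg.Agent.Lib.Helper28.TCFi23W0L0.rel3 p (by omega) (by omega) _ hm
  rcases Nat.lt_or_ge p 3560 with h4 | h4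
  · exact (Table.relOK_iff chkPaths 2848 712).mp Cfsg.Agent.Lib.Helper28.TCFi23W0L0.rel4 p (by omega) (by omega) _ hm
  rcases Nat.lt_or_ge p 4272 with h5 | h5
  · exact (Table.relOK_iff chkPaths 3560 712).mp Cfsg.Agent.Lib.Helper28.TCFi23W0L0.rel5 p (by omega) (by omega) _ hm
  rcases Nat.lt_or_ge p 4984 with h6 | h6
  · exact (Table.relOK_iff chkPaths 4272 712).mp Cfsg.Agent.Lib.Helper28.TCFi23W0L1.rel6 p (by omega) (by omega) _ hm
  rcases Nat.lt_or_ge p 5696 with h7 | h7
  · exact (Table.relOK_iff chkPaths 4984 712).mp Cfsg.Agent.Lib.Helper28.TCFi23W0L1.rel7 p (by omega) (by omega) _ hm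
  rcases Nat.lt_or_ge p 6408 with h8 | h8
  · exact (Table.relOK_iff chkPaths 5696 712).mp Cfsg.Agent.Lib.Helper28.TCFi23W0L1.rel8 p (by omega) (by omega) _ hm
  rcases Nat.lt_or_ge p 7120 with h9 | h9
  · exact (Table.relOK_iff chkPaths 6408 712).mp Cfsg.Agent.Lib.Helper28.TCFi23W0L1.rel9 p (by omega) (by omega) _ hm
  rcases Nat.lt_or_ge p 7832 with h10 | h10
  · exact (Table.relOK_iff chkPaths 7120 712).mp Cfsg.Agent.Lib.Helper28.TCFi23W0L1.rel10 p (by omega) (by omega) _ hm
  rcases Nat.lt_or_ge p 8544 with h11 | h11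
  · exact (Table.relOK_iff chkPaths 7832 712).mp Cfsg.Agent.Lib.Helper28.TCFi23W0L1.rel11 p (by omega) (by omega) _ hm
  rcases Nat.lt_or_ge p 9256 with h12 | h12
  · exact (Table.relOK_iff chkPaths 8544 712).mp Cfsg.Agent.Lib.Helper28.TCFi23W0L2.rel12 p (by omega) (by omega) _ hm
  rcases Nat.lt_or_ge p 9968 with h13 | h13
  · exact (Table.relOK_iff chkPaths 9256 712).mp Cfsg.Agent.Lib.Helper28.TCFi23W0L2.rel13 p (by omega) (by omega) _ hm
  rcases Nat.lt_or_ge p 10680 with h14 | h14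
  · exact (Table.relOK_iff chkPaths 9968 712).mp Cfsg.Agent.Lib.Helper28.TCFi23W0L2.rel14 p (by omega) (by omega) _ hm
  rcases Nat.lt_or_ge p 11392 with h15 | h15
  · exact (Table.relOK_iff chkPaths 10680 712).mp Cfsg.Agent.Lib.Helper28.TCFi23W0L2.rel15 p (by omega) (by omega) _ hm
  rcases Nat.lt_or_ge p 12104 with h16 | h16
  · exact (Table.relOK_iff chkPaths 11392 712).mp Cfsg.Agent.Lib.Helper28.TCFi23W0L2.rel16 p (by omega) (by omega) _ hm
  rcases Nat.lt_or_ge p 12816 with h17 | h17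
  · exact (Table.relOK_iff chkPaths 12104 712).mp Cfsg.Agent.Lib.Helper28.TCFi23W0L2.rel17 p (by omega) (by omega) _ hm
  rcases Nat.lt_or_ge p 13528 with h18 | h18
  · exact (Table.relOK_iff chkPaths 12816 712).mp Cfsg.Agent.Lib.Helper28.TCFi23W0L3.rel18 p (by omega) (by omega) _ hm
  rcases Nat.lt_or_ge p 14240 with h19 | h19
  · exact (Table.relOK_iff chkPaths 13528 712).mp Cfsg.Agent.Lib.Helper28.TCFi23W0L3.rel19 p (by omega) (by omega) _ hm
  rcases Nat.lt_or_ge p 14952 with h20 | h20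
  · exact (Table.relOK_iff chkPaths 14240 712).mp Cfsg.Agent.Lib.Helper28.TCFi23W0L3.rel20 p (by omega) (by omega) _ hm
  rcases Nat.lt_or_ge p 15664 with h21 | h21
  · exact (Table.relOK_iff chkPaths 14952 712).mp Cfsg.Agent.Lib.Helper28.TCFi23W0L3.rel21 p (by omega) (by omega) _ hm
  rcases Nat.lt_or_ge p 16376 with h22 | h22
  · exact (Table.relOK_iff chkPaths 15664 712).mp Cfsg.Agent.Lib.Helper28.TCFi23W0L3.rel22 p (by omega) (by omega) _ hm
  rcases Nat.lt_or_ge p 17088 with h23 | h23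
  · exact (Table.relOK_iff chkPaths 16376 712).mp Cfsg.Agent.Lib.Helper28.TCFi23W0L3.rel23 p (by omega) (by omega) _ hm
  rcases Nat.lt_or_ge p 17800 with h24 | h24
  · exact (Table.relOK_iff chkPaths 17088 712).mp Cfsg.Agent.Lib.Helper28.TCFi23W0L4.rel24 p (by omega) (by omega) _ hm
  rcases Nat.lt_or_ge p 18512 with h25 | h25
  · exact (Table.relOK_iff chkPaths 17800 712).mp Cfsg.Agent.Lib.Helper28.TCFi23W0L4.rel25 p (by omega) (by omega) _ hm
  rcases Nat.lt_or_ge p 19224 with h26 | h26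
  · exact (Table.relOK_iff chkPaths 18512 712).mp Cfsg.Agent.Lib.Helper28.TCFi23W0L4.rel26 p (by omega) (by omega) _ hm
  rcases Nat.lt_or_ge p 19936 with h27 | h27
  · exact (Table.relOK_iff chkPaths 19224 712).mp Cfsg.Agent.Lib.Helper28.TCFi23W0L4.rel27 p (by omega) (by omega) _ hm
  rcases Nat.lt_or_ge p 20648 with h28 | h28
  · exact (Table.relOK_iff chkPaths 19936 712).mp Cfsg.Agent.Lib.Helper28.TCFi23W0L4.rel28 p (by omega) (by omega) _ hm
  rcases Nat.lt_or_ge p 21360 with h29 | h29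
  · exact (Table.relOK_iff chkPaths 20648 712).mp Cfsg.Agent.Lib.Helper28.TCFi23W0L4.rel29 p (by omega) (by omega) _ hm
  rcases Nat.lt_or_ge p 22072 with h30 | h30
  · exact (Table.relOK_iff chkPaths 21360 712).mp Cfsg.Agent.Lib.Helper28.TCFi23W0L5.rel30 p (by omega) (by omega) _ hm
  rcases Nat.lt_or_ge p 22784 with h31 | h31
  · exact (Table.relOK_iff chkPaths 22072 712).mp Cfsg.Agent.Lib.Helper28.TCFi23W0L5.rel31 p (by omega) (by omega) _ hm
  rcases Nat.lt_or_ge p 23496 with h32 | h32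
  · exact (Table.relOK_iff chkPaths 22784 712).mp Cfsg.Agent.Lib.Helper28.TCFi23W0L5.rel32 p (by omega) (by omega) _ hm
  rcases Nat.lt_or_ge p 24208 with h33 | h33
  · exact (Table.relOK_iff chkPaths 23496 712).mp Cfsg.Agent.Lib.Helper28.TCFi23W0L5.rel33 p (by omega) (by omega) _ hm
  rcases Nat.lt_or_ge p 24920 with h34 | h34
  · exact (Table.relOK_iff chkPaths 24208 712).mp Cfsg.Agent.Lib.Helper28.TCFi23W0L5.rel34 p (by omega) (by omega) _ hm
  rcases Nat.lt_or_ge p 25632 with h35 | h35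
  · exact (Table.relOK_iff chkPaths 24920 712).mp Cfsg.Agent.Lib.Helper28.TCFi23W0L5.rel35 p (by omega) (by omega) _ hm
  rcases Nat.lt_or_ge p 26344 with h36 | h36
  · exact (Table.relOK_iff chkPaths 25632 712).mp Cfsg.Agent.Lib.Helper28.TCFi23W0L6.rel36 p (by omega) (by omega) _ hm
  rcases Nat.lt_or_ge p 27056 with h37 | h37
  · exact (Table.relOK_iff chkPaths 26344 712).mp Cfsg.Agent.Lib.Helper28.TCFi23W0L6.rel37 p (by omega) (by omega) _ hm
  rcases Nat.lt_or_ge p 27768 with h38 | h38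
  · exact (Table.relOK_iff chkPaths 27056 712).mp Cfsg.Agent.Lib.Helper28.TCFi23W0L6.rel38 p (by omega) (by omega) _ hm
  rcases Nat.lt_or_ge p 28480 with h39 | h39
  · exact (Table.relOK_iff chkPaths 27768 712).mp Cfsg.Agent.Lib.Helper28.TCFi23W0L6.rel39 p (by omega) (by omega) _ hm
  rcases Nat.lt_or_ge p 29192 with h40 | h40
  · exact (Table.relOK_iff chkPaths 28480 712).mp Cfsg.Agent.Lib.Helper28.TCFi23W0L6.rel40 p (by omega) (by omega) _ hm
  rcases Nat.lt_or_ge p 29904 with h41 | h41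
  · exact (Table.relOK_iff chkPaths 29192 712).mp Cfsg.Agent.Lib.Helper28.TCFi23W0L6.rel41 p (by omega) (by omega) _ hm
  rcases Nat.lt_or_ge p 30616 with h42 | h42
  · exact (Table.relOK_iff chkPaths 29904 712).mp Cfsg.Agent.Lib.Helper28.TCFi23W0L7.rel42 p (by omega) (by omega) _ hm
  rcases Nat.lt_or_ge p 31328 with h43 | h43
  · exact (Table.relOK_iff chkPaths 30616 712).mp Cfsg.Agent.Lib.Helper28.TCFi23W0L7.rel43 p (by omega) (by omega) _ hm
  exact (Table.relOK_iff chkPaths 31328 343).mp Cfsg.Agent.Lib.Helper28.TCFi23W0L7.rel44 p (by omega) (by omega) _ hm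

theorem hrelT : ∀ L ∈ relWords, ∀ p, p < table.n → table.walkT (pathOf lw L) p = p :=
  fun L hL => Table.fix_of_covered hT chkPaths hchkT _ (hcov _ (hrelmem L hL)).1 (hcov _ (hrelmem L hL)).2

theorem hsubT : ∀ L ∈ subWords, table.walkT (pathOf lw L) 0 = 0 :=
  fun L hL => (Table.subOK_iff subPaths).mp hsub0 _ (hsubmem L hL)

theorem hclosed : ∀ p, p < table.n → ∀ s ∈ subPaths, orbData.oid (table.walkT s p) = orbData.oid p := by
  intro p hp
  have hp' : p < 31671 := hp
  rcases Nat.lt_or_ge p 27777 with h0 | h0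
  · exact (orbData.closedOK_iff table subPaths 0 27777).mp clo0 p (by omega) (by omega)
  exact (orbData.closedOK_iff table subPaths 27777 3894).mp clo1 p (by omega) (by omega)

theorem hconn : ∀ p, p < table.n →
    (orbData.depth p = 0 ∧ orbData.roots.look (orbData.oid p) = p) ∨
    (orbData.depth p ≠ 0 ∧ orbData.parent p < table.n ∧ orbData.oid (orbData.parent p) = orbData.oid p ∧
      orbData.depth (orbData.parent p) + 1 = orbData.depth p ∧
      table.walkT (orbData.gens.look (orbData.gen p)) (orbData.parent p) = p) :=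
  fun p hp => (orbData.connOK_iff table 0 31671).mp conn0 p (Nat.zero_le _) (by have : p < 31671 := hp; omega)

theorem cntc0 : orbData.count table.n 0 = 1 := by decide +kernel
theorem cntc1 : orbData.count table.n 1 = 28160 := by decide +kernel
theorem cntc2 : orbData.count table.n 2 = 3510 := by decide +kernel

theorem hn : 0 < table.n := by decide

theorem main : ((Subgroup.closure S).map (PresentedGroup.mk rels)).index = table.n ∧
    ∃ φ : PresentedGroup rels →* Equiv.Perm (Fin table.n),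
      (∀ x, φ (PresentedGroup.of x) = Table.sigma hT (lw (x, true))) ∧
      ∃ f : PresentedGroup rels ⧸ (Subgroup.closure S).map (PresentedGroup.mk rels) → Fin table.n,
        Function.Bijective f ∧ (∀ g q, f (g • q) = φ g (f q)) ∧ f (QuotientGroup.mk 1) = ⟨0, hn⟩ :=
  index_eq link hchk hfin hcount hT hn hrelT hsubT htree

end Cfsg.Agent.Lib.Helper28.TCFi23W0Main
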