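import Mathlib
import Cfsg.Agent.Lib.Helper18.UDenseDefs

/-!
helper28, S5801 (3) frames 6x1, dense case (helper2's plan notes/S5801_frames6_dense_helper2.md), leaf **F6**:
`isMono_of_conj_isMono6` = fusion control for `z_K` at `6 ≤ n` (helper12's K2a `isMono_of_conj_isMono` needs `8 ≤ n`
because it uses a two-sided vanishing pattern; here a ONE-sided triangular choice gives `|S| ≤ 4`).
-/

set_option autoImplicit false

namespace Cfsg.Agent.Lib.Helper28.UDenseF6
open Matrix Cfsg.Agent.Lib.Helper11.Mono Cfsg.Agent.Lib.Helper15.MonoLeaf Cfsg.Agent.Lib.Helper18.UDense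

variable {F : Type*} [Field F] [Fintype F] {ι : Type} [Fintype ι] [DecidableEq ι]

/-- three vectors in the span of two vectors, in TRIANGULAR position: the `s`-th one is non-zero at `i s`,
and the later ones (`s < t`) vanish at `i s`: impossible -/
theorem false_of_three_in_span_two_tri (p p' : ι → F) (d : Fin 3 → ι → F) (i : Fin 3 → ι)
    (hd : ∀ s, d s ∈ Submodule.span F ({p, p'} : Set (ι → F)))
    (hne : ∀ s, d s (i s) ≠ 0) (hz : ∀ s t, s < t → d t (i s) = 0) : False := by
  classical
  have hli : LinearIndependent F d := by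
    rw [Fintype.linearIndependent_iff]
    intro g hg
    have e : ∀ a, g 0 * d 0 a + g 1 * d 1 a + g 2 * d 2 a = 0 := by
      intro a
      have h1 := congrFun hg a
      rw [Finset.sum_apply, Fin.sum_univ_three] at h1
      simpa only [Pi.smul_apply, smul_eq_mul, Pi.zero_apply] using h1
    have g0 : g 0 = 0 := by
      have h1 := e (i 0)
      rw [hz 0 1 (by decide), hz 0 2 (by decide), mul_zero, mul_zero, add_zero, add_zero] at h1
      exact (mul_eq_zero.1 h1).resolve_right (hne 0)
    have g1 : g 1 = 0 := by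
      have h1 := e (i 1)
      rw [g0, hz 1 2 (by decide), zero_mul, mul_zero, zero_add, add_zero] at h1
      exact (mul_eq_zero.1 h1).resolve_right (hne 1)
    have g2 : g 2 = 0 := by
      have h1 := e (i 2)
      rw [g0, g1, zero_mul, zero_mul, zero_add, zero_add] at h1
      exact (mul_eq_zero.1 h1).resolve_right (hne 2)
    intro s
    fin_cases s
    · exact g0
    · exact g1
    · exact g2
  have h3 : Module.finrank F (Submodule.span F (Set.range d)) = 3 := by
    rw [finrank_span_eq_card hli, Fintype.card_fin]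
  have hle : Submodule.span F (Set.range d) ≤ Submodule.span F ({p, p'} : Set (ι → F)) := by
    rw [Submodule.span_le]
    rintro _ ⟨s, rfl⟩
    exact hd s
  have h4 := Submodule.finrank_mono hle
  have h5 : Module.finrank F (Submodule.span F ({p, p'} : Set (ι → F))) ≤ 2 := by
    have h6 := finrank_span_finset_le_card (R := F) ({p, p'} : Finset (ι → F))
    have h7 : (({p, p'} : Finset (ι → F)) : Set (ι → F)) = {p, p'} := by simp
    rw [h7] at h6
    exact h6.trans Finset.card_le_two
  omega

/-- F6 FUSION CONTROL at `6 ≤ n` -/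
theorem isMono_of_conj_isMono6 (h6 : 6 ≤ Fintype.card ι) (L : Subgroup (GL ι F)) (hD : ColDense L)
    (ζ : Fˣ) (hζ : ζ ≠ 1) (k l : ι) (hkl : k ≠ l) (h : GL ι F) (hh : h ∈ L)
    (hy : IsMono ((h⁻¹ * dg (tcc k l ζ) * h : GL ι F) : Matrix ι ι F)) : IsMono (h : Matrix ι ι F) := by
  classical
  -- notation
  obtain ⟨Y, hYdef⟩ : ∃ Y : GL ι F, Y = h⁻¹ * dg (tcc k l ζ) * h := ⟨_, rfl⟩
  rw [← hYdef] at hy
  obtain ⟨Hi, hHi⟩ : ∃ Hi : Matrix ι ι F, Hi = ((h⁻¹ : GL ι F) : Matrix ι ι F) := ⟨_, rfl⟩
  obtain ⟨Hm, hHm⟩ : ∃ Hm : Matrix ι ι F, Hm = (h : Matrix ι ι F) := ⟨_, rfl⟩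
  obtain ⟨dz, hdz⟩ : ∃ dz : ι → F, dz = fun i => ((tcc k l ζ i : Fˣ) : F) := ⟨_, rfl⟩
  have hYm : (Y : Matrix ι ι F) = Hi * Matrix.diagonal dz * Hm := by
    rw [hYdef, Units.val_mul, Units.val_mul, dg_val, hHi, hHm, hdz]
  have hHiHm : Hi * Hm = 1 := by
    rw [hHi, hHm, ← Units.val_mul, inv_mul_cancel, Units.val_one]
  have hHmHi : Hm * Hi = 1 := by
    rw [hHi, hHm, ← Units.val_mul, mul_inv_cancel, Units.val_one]
  have hζF : ((ζ : Fˣ) : F) ≠ 1 := by
    intro h1
    apply hζ
    exact Units.ext h1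
  have hdzk : dz k = (ζ : F) := by rw [hdz]; simp only; rw [tcc_same]
  have hdzl : dz l = ((ζ⁻¹ : Fˣ) : F) := by rw [hdz]; simp only; rw [tcc_other hkl]
  have hdzo : ∀ x, x ≠ k → x ≠ l → dz x = 1 := by
    intro x hxk hxl
    rw [hdz]; simp only; rw [tcc_off hxk hxl]; rfl
  -- (a) the entries of `Y - 1`
  have hent : ∀ a b, (Y : Matrix ι ι F) a b - (1 : Matrix ι ι F) a b =
      (dz k - 1) * Hm k b * Hi a k + (dz l - 1) * Hm l b * Hi a l := by
    intro a b
    have e1 : (Y : Matrix ι ι F) a b = ∑ x, Hi a x * dz x * Hm x b := by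
      rw [hYm, Matrix.mul_apply]
      apply Finset.sum_congr rfl
      intro x _
      rw [Matrix.mul_diagonal]
    have e2 : (1 : Matrix ι ι F) a b = ∑ x, Hi a x * Hm x b := by
      rw [← hHiHm, Matrix.mul_apply]
    rw [e1, e2, ← Finset.sum_sub_distrib]
    rw [Finset.sum_eq_add k l hkl]
    · ring
    · intro x _ hx
      rw [hdzo x hx.1 hx.2]; ring
    · intro hk; exact absurd (Finset.mem_univ k) hk
    · intro hl; exact absurd (Finset.mem_univ l) hl
  -- (b) column `k` of `h⁻¹` is an eigenvector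
  have heig : ∀ a, ∑ b, (Y : Matrix ι ι F) a b * Hi b k = Hi a k * dz k := by
    intro a
    have e1 : (Y : Matrix ι ι F) * Hi = Hi * Matrix.diagonal dz := by
      rw [hYm, Matrix.mul_assoc, hHmHi, Matrix.mul_one]
    have e2 := congrFun (congrFun e1 a) k
    rw [Matrix.mul_apply, Matrix.mul_diagonal] at e2
    exact e2
  -- the permutation of the monomial matrix `Y`
  choose σ hσ using hy
  have hσinj : Function.Injective σ := by
    intro j j' hjj
    exact colAt_inj Y (hσ j) (by rw [hjj]; exact hσ j')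
  -- the set of moved columns
  obtain ⟨S, hS⟩ : ∃ S : Finset ι, S = Finset.univ.filter
      (fun i => ¬ ∀ a, (Y : Matrix ι ι F) a i = (1 : Matrix ι ι F) a i) := ⟨_, rfl⟩
  have hmemS : ∀ i, i ∈ S ↔ ¬ ∀ a, (Y : Matrix ι ι F) a i = (1 : Matrix ι ι F) a i := by
    intro i
    rw [hS, Finset.mem_filter]
    simp
  -- (c) column `k` of `h⁻¹` vanishes off `S`
  have hzero : ∀ i, i ∉ S → Hi i k = 0 := by
    intro i hi
    rw [hmemS, not_not] at hi
    have hii : (Y : Matrix ι ι F) i i = 1 := by rw [hi i, Matrix.one_apply_eq]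
    have hσi : σ i = i := by
      by_contra hne
      have := hσ i i (Ne.symm hne)
      rw [hii] at this
      exact one_ne_zero this
    have hrow : ∀ b, b ≠ i → (Y : Matrix ι ι F) i b = 0 := by
      intro b hb
      apply hσ b i
      intro hib
      apply hb
      apply hσinj
      rw [← hib, hσi]
    have e1 := heig i
    rw [Finset.sum_eq_single i] at e1
    · rw [hii, one_mul, hdzk] at e1
      have e2 : Hi i k * ((ζ : F) - 1) = 0 := by rw [mul_sub, ← e1]; ring
      exact (mul_eq_zero.1 e2).resolve_right (sub_ne_zero.2 hζF)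
    · intro b _ hb
      rw [hrow b hb, zero_mul]
    · intro hi'; exact absurd (Finset.mem_univ i) hi'
  -- (e) `S` has at most 4 elements
  have hScard : S.card ≤ 4 := by
    by_contra hcon
    push Not at hcon
    obtain ⟨p, hp⟩ : ∃ p : ι → F, p = fun a => Hi a k := ⟨_, rfl⟩
    obtain ⟨p', hp'⟩ : ∃ p' : ι → F, p' = fun a => Hi a l := ⟨_, rfl⟩
    -- the columns of `Y - 1`
    obtain ⟨dd, hdd⟩ : ∃ dd : ι → ι → F,
        dd = fun i a => (Y : Matrix ι ι F) a i - (1 : Matrix ι ι F) a i := ⟨_, rfl⟩
    have hddspan : ∀ i, dd i ∈ Submodule.span F ({p, p'} : Set (ι → F)) := by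
      intro i
      have : dd i = ((dz k - 1) * Hm k i) • p + ((dz l - 1) * Hm l i) • p' := by
        funext a
        rw [hdd, hp, hp']
        simp only [Pi.add_apply, Pi.smul_apply, smul_eq_mul]
        exact hent a i
      rw [this]
      exact Submodule.add_mem _ (Submodule.smul_mem _ _ (Submodule.subset_span (by simp)))
        (Submodule.smul_mem _ _ (Submodule.subset_span (by simp)))
    have hddne : ∀ i ∈ S, dd i i ≠ 0 := by
      intro i hi h0
      rw [hmemS] at hi
      apply hi
      rw [hdd] at h0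
      simp only at h0
      rw [Matrix.one_apply_eq, sub_eq_zero] at h0
      have hσi : σ i = i := by
        by_contra hne
        have := hσ i i (Ne.symm hne)
        rw [h0] at this
        exact one_ne_zero this
      intro a
      by_cases ha : a = i
      · rw [ha, h0, Matrix.one_apply_eq]
      · rw [Matrix.one_apply_ne ha]
        apply hσ i a
        rw [hσi]
        exact ha
    have hddz : ∀ i a, a ≠ i → a ≠ σ i → dd i a = 0 := by
      intro i a h1 h2
      rw [hdd]
      simp only
      rw [hσ i a h2, Matrix.one_apply_ne h1, sub_zero]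
    -- greedy choice of three columns
    obtain ⟨i₁, hi₁⟩ : ∃ i₁, i₁ ∈ S := by
      apply Finset.card_pos.1
      omega
    have hpre : ∀ T : Finset ι, (Finset.univ.filter (fun j => σ j ∈ T)).card ≤ T.card := by
      intro T
      apply Finset.card_le_card_of_injOn σ
      · intro j hj
        rw [Finset.coe_filter] at hj
        exact hj.2
      · exact hσinj.injOn
    obtain ⟨i₂, hi₂S, hi₂⟩ : ∃ i₂ ∈ S,
        i₂ ∉ ({i₁} : Finset ι) ∪ Finset.univ.filter (fun j => σ j ∈ ({i₁} : Finset ι)) := by
      apply Finset.exists_mem_notMem_of_card_lt_card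
      have h1 := Finset.card_union_le ({i₁} : Finset ι)
        (Finset.univ.filter (fun j => σ j ∈ ({i₁} : Finset ι)))
      have h2 := hpre {i₁}
      rw [Finset.card_singleton] at h2 h1
      omega
    obtain ⟨i₃, hi₃S, hi₃⟩ : ∃ i₃ ∈ S,
        i₃ ∉ ({i₁, i₂} : Finset ι) ∪
          Finset.univ.filter (fun j => σ j ∈ ({i₁, i₂} : Finset ι)) := by
      apply Finset.exists_mem_notMem_of_card_lt_card
      have h1 := Finset.card_union_le ({i₁, i₂} : Finset ι)
        (Finset.univ.filter (fun j => σ j ∈ ({i₁, i₂} : Finset ι)))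
      have h2 := hpre {i₁, i₂}
      have h4 : ({i₁, i₂} : Finset ι).card ≤ 2 := Finset.card_le_two
      omega
    simp only [Finset.mem_union, Finset.mem_insert, Finset.mem_singleton, Finset.mem_filter,
      Finset.mem_univ, true_and, not_or] at hi₂ hi₃
    obtain ⟨h21, hs21⟩ := hi₂
    obtain ⟨⟨h31, h32⟩, hs31, hs32⟩ := hi₃
    apply false_of_three_in_span_two_tri p p' ![dd i₁, dd i₂, dd i₃] ![i₁, i₂, i₃]
    · intro s
      fin_cases s
      · exact hddspan i₁
      · exact hddspan i₂
      · exact hddspan i₃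
    · intro s
      fin_cases s
      · exact hddne i₁ hi₁
      · exact hddne i₂ hi₂S
      · exact hddne i₃ hi₃S
    · intro s t hst
      fin_cases s <;> fin_cases t
      · exact absurd hst (by decide)
      · exact hddz i₂ i₁ (Ne.symm h21) (Ne.symm hs21)
      · exact hddz i₃ i₁ (Ne.symm h31) (Ne.symm hs31)
      · exact absurd hst (by decide)
      · exact absurd hst (by decide)
      · exact hddz i₃ i₂ (Ne.symm h32) (Ne.symm hs32)
      · exact absurd hst (by decide)
      · exact absurd hst (by decide)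
      · exact absurd hst (by decide)
  -- (d) two zeros in column `k` of `h⁻¹`
  have hcompl : 2 ≤ (Finset.univ \ S).card := by
    have h1 : (Finset.univ \ S).card = Fintype.card ι - S.card := by
      rw [Finset.card_sdiff_of_subset (Finset.subset_univ S), Finset.card_univ]
    omega
  obtain ⟨c, hc, c', hc', hcc'⟩ := Finset.one_lt_card.1 hcompl
  rw [Finset.mem_sdiff] at hc hc'
  have hinvmono : IsMono ((h⁻¹ : GL ι F) : Matrix ι ι F) := by
    by_contra hnm
    apply hD h⁻¹ (L.inv_mem hh) hnm k c c' hcc'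
    · rw [← hHi]; exact hzero c hc.2
    · rw [← hHi]; exact hzero c' hc'.2
  have := isMono_inv h⁻¹ hinvmono
  rwa [inv_inv] at this

end Cfsg.Agent.Lib.Helper28.UDenseF6
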