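import Cfsg.Agent.Lib.Helper28.SchurFoxC

set_option autoImplicit false

/-!
# Fox calculus certificates: the checker

A cycle modulo `p` is a family of coefficients on the pairs (point, relator) whose boundary, a
family of coefficients on the pairs (point, generator), vanishes modulo `p`.  The boundary is
accumulated in one natural number with digits of `w` bits.
-/

namespace Cfsg.Agent.Lib.Helper28.SchurFox

open Cfsg.Agent.Lib.Helper28.TC2Upper (force force_eq allLoop allLoop_eq_true slot)
open Cfsg.Agent.Lib.Helper28.TC2Lower (pathProd)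

/-- static data of a certificate -/
structure FoxData where
  /-- number of points -/
  n : ℕ
  /-- number of generators -/
  d : ℕ
  /-- the modulus -/
  p : ℕ
  /-- width of the digits of the accumulator, and `2 ^ w` -/
  w : ℕ
  mw : ℕ
  /-- width of the digits of the coefficients, and the modulus used to read them -/
  cw : ℕ
  mc : ℕ
  /-- the relators as paths -/
  paths : List (List ℕ)
  /-- the cycles: for every relator the coefficients of the points, packed -/
  cycles : List (List ℕ)
  /-- the augmentations of the cycles -/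
  Lam : List (List ℕ)
  /-- `d × m` -/
  S : List (List ℕ)
  /-- `m × K` -/
  Tm : List (List ℕ)

/-- loop with an accumulator -/
noncomputable def loopN (f : ℕ → ℕ → ℕ) (n : ℕ) (acc : ℕ) : ℕ :=
  @Nat.rec (fun _ => ℕ) acc (fun i ih => force ih (fun a => f i a)) n

theorem loopN_zero (f : ℕ → ℕ → ℕ) (acc : ℕ) : loopN f 0 acc = acc := rfl
theorem loopN_succ (f : ℕ → ℕ → ℕ) (n acc : ℕ) : loopN f (n + 1) acc = f n (loopN f n acc) :=
  force_eq _ _

/-- sum over `i < n` -/
noncomputable def sumN (f : ℕ → ℕ) (n : ℕ) : ℕ :=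
  @Nat.rec (fun _ => ℕ) 0 (fun i ih => Nat.add (f i) ih) n

theorem sumN_eq (f : ℕ → ℕ) (n : ℕ) : sumN f n = ∑ i ∈ Finset.range n, f i := by
  induction n with
  | zero => rfl
  | succ k ih =>
    rw [Finset.sum_range_succ, ← ih]
    show Nat.add (f k) (sumN f k) = _
    exact Nat.add_comm _ _

/-- entry of a matrix given by rows -/
noncomputable def entry (M : List (List ℕ)) (r c : ℕ) : ℕ := (M.getD r []).getD c 0

namespace FoxData
variable (D : FoxData) (nxt : ℕ → ℕ → ℕ)

/-- bit position of the digit of the pair (point `i`, generator `x`) -/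
noncomputable def pos (i x : ℕ) : ℕ := Nat.mul D.w (Nat.add (Nat.mul i D.d) x)

/-- one letter of a walk -/
noncomputable def stepAcc (k l i acc : ℕ) (cont : ℕ → ℕ → ℕ) : ℕ :=
  force (nxt l i) (fun i' =>
    force (cond (Nat.beq (Nat.mod l 2) 0)
      (Nat.add acc (Nat.shiftLeft k (D.pos i (Nat.div l 2))))
      (Nat.add acc (Nat.shiftLeft (Nat.mul k (Nat.pred D.p)) (D.pos i' (Nat.div l 2)))))
    (fun acc' => cont i' acc'))

/-- add `k` times the boundary of the walk along a path from the point `i` -/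
noncomputable def walkAcc (k : ℕ) : List ℕ → ℕ → ℕ → ℕ :=
  @List.rec ℕ (fun _ => ℕ → ℕ → ℕ) (fun _ acc => acc) (fun l _ ih i acc => D.stepAcc nxt k l i acc ih)

theorem walkAcc_nil (k i acc : ℕ) : D.walkAcc nxt k [] i acc = acc := rfl

theorem walkAcc_cons (k l : ℕ) (ls : List ℕ) (i acc : ℕ) :
    D.walkAcc nxt k (l :: ls) i acc = D.walkAcc nxt k ls (nxt l i)
      (cond (Nat.beq (Nat.mod l 2) 0)
        (Nat.add acc (Nat.shiftLeft k (D.pos i (Nat.div l 2))))
        (Nat.add acc (Nat.shiftLeft (Nat.mul k (Nat.pred D.p)) (D.pos (nxt l i) (Nat.div l 2))))) := by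
  show D.stepAcc nxt k l i acc (D.walkAcc nxt k ls) = _
  unfold stepAcc
  rw [force_eq, force_eq]

/-- coefficient of the point `i` -/
noncomputable def coef (ξ i : ℕ) : ℕ := slot D.cw D.mc ξ i

/-- all points of one relator -/
noncomputable def rowAcc (path : List ℕ) (ξ : ℕ) (acc : ℕ) : ℕ :=
  loopN (fun i a => force (D.coef ξ i) (fun k => cond (Nat.beq k 0) a (D.walkAcc nxt k path i a))) D.n acc

/-- all relators -/
noncomputable def cycAcc (ξs : List ℕ) : ℕ :=
  loopN (fun j a => D.rowAcc nxt (D.paths.getD j []) (ξs.getD j 0) a) D.paths.length 0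

/-- sum of the coefficients -/
noncomputable def aug (ξ : ℕ) : ℕ := sumN (fun i => D.coef ξ i) D.n

/-- weight of a path: an inverse letter counts `p - 1` -/
noncomputable def wt (path : List ℕ) : ℕ :=
  @List.rec ℕ (fun _ => ℕ) 0 (fun l _ ih => Nat.add (cond (Nat.beq (Nat.mod l 2) 0) 1 (Nat.pred D.p)) ih) path

theorem wt_nil : D.wt [] = 0 := rfl
theorem wt_cons (l : ℕ) (ls : List ℕ) :
    D.wt (l :: ls) = (if l % 2 = 0 then 1 else D.p - 1) + D.wt ls := by
  show Nat.add (cond (Nat.beq (Nat.mod l 2) 0) 1 (Nat.pred D.p)) (D.wt ls) = _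
  by_cases h : l % 2 = 0
  · rw [if_pos h]
    have : Nat.beq (Nat.mod l 2) 0 = true := by
      rw [TC2Upper.Data.nbeq_iff]; exact h
    rw [this]; rfl
  · rw [if_neg h]
    have : Nat.beq (Nat.mod l 2) 0 = false := by
      rw [Bool.eq_false_iff, Ne, TC2Upper.Data.nbeq_iff]; exact h
    rw [this]; rfl

/-- the check of the cycle number `k` -/
noncomputable def cycleOK (k : ℕ) : Bool :=
  and (and
    (allLoop (fun j => Nat.beq (D.aug ((D.cycles.getD k []).getD j 0)) (entry D.Lam k j)) D.paths.length)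
    (Nat.blt (sumN (fun j => Nat.mul (entry D.Lam k j) (D.wt (D.paths.getD j []))) D.paths.length) D.mw))
    (force (D.cycAcc nxt (D.cycles.getD k [])) (fun acc =>
      allLoop (fun s => Nat.beq (Nat.mod (slot D.w D.mw acc s) D.p) 0) (Nat.mul D.n D.d)))

/-- the table consists of mutually inverse maps of `[0, n)` -/
noncomputable def tabOK : Bool :=
  allLoop (fun i => allLoop (fun x =>
    and (and (Nat.blt (nxt (Nat.mul 2 x) i) D.n) (Nat.blt (nxt (Nat.succ (Nat.mul 2 x)) i) D.n))
      (and (Nat.beq (nxt (Nat.succ (Nat.mul 2 x)) (nxt (Nat.mul 2 x) i)) i)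
        (Nat.beq (nxt (Nat.mul 2 x) (nxt (Nat.succ (Nat.mul 2 x)) i)) i))) D.d) D.n

/-- the letters of the paths -/
noncomputable def pathsOK : Bool :=
  D.paths.all (fun path => path.all (fun l => Nat.blt l (Nat.mul 2 D.d)))

/-- exponent of a generator in a path -/
noncomputable def ex (j x : ℕ) : ℕ := expo D.p (D.paths.getD j []) x

/-- the matrix identity `E S + T Λ = 1` modulo `p` -/
noncomputable def idOK : Bool :=
  allLoop (fun j => allLoop (fun i =>
    Nat.beq (Nat.mod (Nat.add (sumN (fun x => Nat.mul (D.ex j x) (entry D.S x i)) D.d)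
        (sumN (fun k => Nat.mul (entry D.Tm j k) (entry D.Lam k i)) D.cycles.length)) D.p)
      (Nat.mod (cond (Nat.beq j i) 1 0) D.p)) D.paths.length) D.paths.length

/-- the static checks -/
noncomputable def staticOK : Bool :=
  and (and (and (Nat.blt 0 D.p) (Nat.blt 0 D.n)) (Nat.beq D.mw (Nat.pow 2 D.w)))
    (and (and (D.tabOK nxt) D.pathsOK) D.idOK)

end FoxData

/-! ### Semantics of the accumulator -/

section Sem

/-- the number with the digits `g s`, `s < M`, in base `B` -/
def enc (B M : ℕ) (g : ℕ → ℕ) : ℕ := ∑ s ∈ Finset.range M, g s * B ^ s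

/-- add `k` to the digit `s` -/
def addAt (g : ℕ → ℕ) (s k : ℕ) : ℕ → ℕ := fun t => g t + if t = s then k else 0

/-- sum of the digits -/
def tot (M : ℕ) (g : ℕ → ℕ) : ℕ := ∑ s ∈ Finset.range M, g s

theorem enc_addAt (B M : ℕ) (g : ℕ → ℕ) {s : ℕ} (hs : s < M) (k : ℕ) :
    enc B M (addAt g s k) = enc B M g + k * B ^ s := by
  unfold enc addAt
  simp only [add_mul, Finset.sum_add_distrib, ite_mul, zero_mul]
  rw [Finset.sum_ite_eq' (Finset.range M) s, if_pos (Finset.mem_range.mpr hs)]

theorem tot_addAt (M : ℕ) (g : ℕ → ℕ) {s : ℕ} (hs : s < M) (k : ℕ) :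
    tot M (addAt g s k) = tot M g + k := by
  unfold tot addAt
  rw [Finset.sum_add_distrib, Finset.sum_ite_eq' (Finset.range M) s, if_pos (Finset.mem_range.mpr hs)]

theorem addAt_zero (g : ℕ → ℕ) (s : ℕ) : addAt g s 0 = g := by
  funext t
  simp [addAt]

/-- the value of the digits -/
def Val {A : Type*} [CommGroup A] (M : ℕ) (Fs : ℕ → A) (g : ℕ → ℕ) : A := ∏ s ∈ Finset.range M, Fs s ^ g s

theorem Val_addAt {A : Type*} [CommGroup A] (M : ℕ) (Fs : ℕ → A) (g : ℕ → ℕ) {s : ℕ} (hs : s < M) (k : ℕ) :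
    Val M Fs (addAt g s k) = Val M Fs g * Fs s ^ k := by
  unfold Val addAt
  simp only [pow_add, Finset.prod_mul_distrib]
  congr 1
  rw [Finset.prod_eq_single s]
  · rw [if_pos rfl]
  · intro t _ ht
    rw [if_neg ht, pow_zero]
  · intro h
    exact absurd (Finset.mem_range.mpr hs) h

/-- the digits are recovered when their sum is smaller than the base -/
theorem digit_enc (B : ℕ) (hB : 0 < B) (M : ℕ) (g : ℕ → ℕ) (hg : ∀ s < M, g s < B) :
    enc B M g < B ^ M ∧ ∀ t < M, enc B M g / B ^ t % B = g t := by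
  induction M with
  | zero => exact ⟨by simp [enc], fun t ht => absurd ht (Nat.not_lt_zero _)⟩
  | succ M ih =>
    obtain ⟨h1, h2⟩ := ih (fun s hs => hg s (Nat.lt_succ_of_lt hs))
    have e : enc B (M + 1) g = enc B M g + g M * B ^ M := by
      unfold enc; rw [Finset.sum_range_succ]
    have hgM := hg M (Nat.lt_succ_self M)
    constructor
    · rw [e, pow_succ]
      calc enc B M g + g M * B ^ M < B ^ M + g M * B ^ M := Nat.add_lt_add_right h1 _
        _ = (g M + 1) * B ^ M := by ring
        _ ≤ B * B ^ M := Nat.mul_le_mul_right _ hgM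
        _ = B ^ M * B := by ring
    · intro t ht
      rw [e]
      rcases Nat.lt_succ_iff_lt_or_eq.mp ht with h | h
      · have hpow : B ^ M = B ^ t * B ^ (M - t) := by rw [← pow_add]; congr 1; omega
        have h3 : (enc B M g + g M * B ^ M) / B ^ t = enc B M g / B ^ t + g M * B ^ (M - t) := by
          rw [hpow, ← mul_assoc, mul_comm (g M) (B ^ t), mul_assoc, Nat.add_mul_div_left _ _ (pow_pos hB t)]
        rw [h3]
        have h4 : B ^ (M - t) = B * B ^ (M - t - 1) := by
          rw [← pow_succ']; congr 1; omega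
        rw [h4, ← mul_assoc, mul_comm (g M) B, mul_assoc, Nat.add_mul_mod_self_left]
        exact h2 t h
      · rw [h, Nat.add_mul_div_right _ _ (pow_pos hB M), Nat.div_eq_of_lt h1, zero_add, Nat.mod_eq_of_lt hgM]

end Sem

end Cfsg.Agent.Lib.Helper28.SchurFox
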