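import Cfsg.Agent.Lib.Helper28.OctFacts
set_option autoImplicit false
set_option linter.unusedSectionVars false

/-!
Steiner systems S(5, 8, 24): two blocks meet in 0, 2 or 4 points; a system on `Fin 24` whose
derived design at the last point is the standard S(4, 7, 23) is the standard system `G0`.
-/

open Cfsg

namespace Cfsg.Agent.Lib.Helper28.S5824
open Cfsg.Agent.Lib.Helper28.GolayCode Cfsg.Agent.Lib.Helper28.FinMask
open Cfsg.Agent.Lib.Helper28.Comb Cfsg.Agent.Lib.Helper28.SteinerDerived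
open Cfsg.Agent.Lib.Helper28.S3622 Cfsg.Agent.Lib.Helper28.S4723

/-- the standard S(5, 8, 24) on `Fin 24` -/
def G0 : Set (Finset (Fin 24)) :=
  {s | (∃ m ∈ F0masks, s = fset 24 (m + 2 ^ 23)) ∨ ∃ m ∈ octAll, s = fset 24 m}

/-- two distinct blocks of an S(4, 7, 23) meet in 1 or 3 points -/
theorem inter_card_S4723_strong {α : Type*} [Fintype α] [DecidableEq α]
    (hα : Fintype.card α = 23) {B : Set (Finset α)} (hB : IsSteinerSystem 4 7 B)
    {b b' : Finset α} (hb : b ∈ B) (hb' : b' ∈ B) (hne : b ≠ b') :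
    (b ∩ b').card = 1 ∨ (b ∩ b').card = 3 := by
  obtain ⟨e, he⟩ := S4723.iso_standard hα hB
  have he' : imgSys e B = F 0 := he
  have h1 : b.image e ∈ F 0 := by rw [← he']; exact image_mem_imgSys.mpr hb
  have h2 : b'.image e ∈ F 0 := by rw [← he']; exact image_mem_imgSys.mpr hb'
  obtain ⟨m, hm, e1⟩ := mem_F0_iff.mp h1
  obtain ⟨m', hm', e2⟩ := mem_F0_iff.mp h2
  have hmm : m ≠ m' := by
    intro h
    apply hne
    have : b.image e = b'.image e := by rw [e1, e2, h]
    exact Finset.image_injective e.injective this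
  have hcard : (b ∩ b').card = popcN 23 (m &&& m') := by
    rw [← card_fset, fset_and, ← e1, ← e2, ← Finset.image_inter _ _ e.injective,
      Finset.card_image_of_injective _ e.injective]
  rw [hcard]
  exact F0_inter m hm m' hm' hmm

/-- two distinct blocks of an S(5, 8, 24) meet in 0, 2 or 4 points -/
theorem inter_card_S5824 {α : Type*} [Fintype α] [DecidableEq α] (hα : Fintype.card α = 24)
    {B : Set (Finset α)} (hB : IsSteinerSystem 5 8 B) {b b' : Finset α} (hb : b ∈ B)
    (hb' : b' ∈ B) (hne : b ≠ b') :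
    (b ∩ b').card = 0 ∨ (b ∩ b').card = 2 ∨ (b ∩ b').card = 4 := by
  by_cases h0 : (b ∩ b').card = 0
  · exact Or.inl h0
  right
  obtain ⟨x, hx⟩ := Finset.card_pos.mp (Nat.pos_of_ne_zero h0)
  have hx' := Finset.mem_inter.mp hx
  have hγ : Fintype.card {y : α // y ≠ x} = 23 := by rw [card_pt, hα]
  have hD : IsSteinerSystem 4 7 (der B x) := isSteiner_der (t := 4) (k := 7) hB x
  have hl := subtype_mem_der hb hx'.1
  have hl' := subtype_mem_der hb' hx'.2
  have hne' : b.subtype (· ≠ x) ≠ b'.subtype (· ≠ x) := by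
    intro e
    apply hne
    rw [← lift_subtype hx'.1, ← lift_subtype hx'.2, e]
  have hsub : (b ∩ b').subtype (· ≠ x) = b.subtype (· ≠ x) ∩ b'.subtype (· ≠ x) := by
    ext y; simp [Finset.mem_subtype]
  have hc : (b ∩ b').card = (b.subtype (· ≠ x) ∩ b'.subtype (· ≠ x)).card + 1 := by
    rw [← hsub, ← card_lift, lift_subtype hx]
  rcases inter_card_S4723_strong hγ hD hl hl' hne' with h | h
  · left; rw [hc, h]
  · right; rw [hc, h]

section classify
variable {G' : Set (Finset (Fin 24))} (hG : IsSteinerSystem 5 8 G')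
  (h0 : ∀ b : Finset (Fin 23), liftLast b ∈ G' ↔ b ∈ F 0)
include hG h0

theorem lower_mem_F0 {c : Finset (Fin 24)} (hc : c ∈ G') (hl : Fin.last 23 ∈ c) :
    lower c ∈ F 0 := by
  rw [← h0, liftLast_lower hl]; exact hc

theorem inter_block_F0 {c : Finset (Fin 24)} (hc : c ∈ G') (hl : Fin.last 23 ∉ c)
    {b : Finset (Fin 23)} (hb : b ∈ F 0) :
    (lower c ∩ b).card = 0 ∨ (lower c ∩ b).card = 2 ∨ (lower c ∩ b).card = 4 := by
  have hb' : liftLast b ∈ G' := (h0 b).mpr hb
  have hne : c ≠ liftLast b := by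
    intro e
    apply hl
    rw [e, liftLast_eq]
    exact Finset.mem_insert_self _ _
  have hcard : (lower c ∩ b).card = (c ∩ liftLast b).card := by
    have : c ∩ liftLast b = emb (lower c ∩ b) := by
      rw [emb_inter, emb_lower hl, liftLast_eq, Finset.inter_insert_of_notMem hl]
    rw [this, card_emb]
  rw [hcard]
  exact inter_card_S5824 (Fintype.card_fin 24) hG hc hb' hne

/-- a block off the last point is a listed octad -/
theorem exists_mask_lower {c : Finset (Fin 24)} (hc : c ∈ G') (hl : Fin.last 23 ∉ c) :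
    ∃ m ∈ octAll, lower c = fset 23 m := by
  apply exists_octad (by rw [card_lower hl]; exact hG.1 c hc)
  intro b hb
  exact inter_block_F0 hG h0 hc hl (mem_F0_iff.mpr ⟨b, hb, rfl⟩)

/-- five points of a listed octad lie in a block off the last point -/
theorem exists_block_of_octad {m : ℕ} (hm : m ∈ octAll) :
    ∃ c ∈ G', Fin.last 23 ∉ c ∧ 5 ≤ (fset 23 m ∩ lower c).card := by
  have h8 : (fset 23 m).card = 8 := by rw [card_fset]; exact oct_card m hm
  obtain ⟨T, hT, hTc⟩ := Finset.exists_subset_card_eq (show 5 ≤ (fset 23 m).card by omega)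
  obtain ⟨c, ⟨hc, hTsub⟩, -⟩ := hG.2 (emb T) (by rw [card_emb, hTc])
  have hTl : T ⊆ lower c := fun i hi => mem_lower.mpr (hTsub (castSucc_mem_emb.mpr hi))
  have h5 : 5 ≤ (fset 23 m ∩ lower c).card := by
    rw [← hTc]
    exact Finset.card_le_card (Finset.subset_inter hT hTl)
  refine ⟨c, hc, ?_, h5⟩
  intro hl
  obtain ⟨b, hb, e⟩ := mem_F0_iff.mp (lower_mem_F0 hG h0 hc hl)
  rw [e, ← fset_and, card_fset] at h5
  have := oct_inter_F0 m hm b hb
  omega

theorem eq_G0 : G' = G0 := by
  ext s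
  constructor
  · intro hs
    by_cases hl : Fin.last 23 ∈ s
    · obtain ⟨m, hm, e⟩ := mem_F0_iff.mp (lower_mem_F0 hG h0 hs hl)
      left
      refine ⟨m, hm, ?_⟩
      rw [← liftLast_fset 23 m (F0masks_lt m hm), ← e, liftLast_lower hl]
    · obtain ⟨m, hm, e⟩ := exists_mask_lower hG h0 hs hl
      right
      refine ⟨m, hm, ?_⟩
      rw [← emb_fset 23 m (oct_lt m hm), ← e, emb_lower hl]
  · rintro (⟨m, hm, rfl⟩ | ⟨m, hm, rfl⟩)
    · rw [← liftLast_fset 23 m (F0masks_lt m hm)]
      exact (h0 _).mpr (mem_F0_iff.mpr ⟨m, hm, rfl⟩)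
    · obtain ⟨c, hc, hl, h5⟩ := exists_block_of_octad hG h0 hm
      obtain ⟨q, hq, e⟩ := exists_mask_lower hG h0 hc hl
      rw [e, ← fset_and, card_fset] at h5
      have hmq : m = q := oct_close m hm q hq h5
      have : fset 24 m = c := by
        rw [← emb_fset 23 m (oct_lt m hm), hmq, ← e, emb_lower hl]
      rw [this]; exact hc

end classify

/-- every S(5, 8, 24) is isomorphic to the standard one -/
theorem iso_standard {α : Type*} [Fintype α] [DecidableEq α] (hα : Fintype.card α = 24)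
    {B : Set (Finset α)} (hB : IsSteinerSystem 5 8 B) : SetSystemIso B G0 := by
  obtain ⟨G', hiso, hG, h0⟩ := exists_normalized (t := 4) (k := 7) (v := 23) hα hB (F 0) (by
    intro x D hD
    have hγ : Fintype.card {y : α // y ≠ x} = 23 := by rw [card_pt, hα]
    exact S4723.iso_standard hγ hD)
  rw [eq_G0 hG h0] at hiso
  exact hiso

end Cfsg.Agent.Lib.Helper28.S5824
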