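import Mathlib

set_option autoImplicit false

/-!
Abstract extended binary Golay codes: self-orthogonal `[24, 12, ≥ 8]` binary codes.
Counting of cosets (sextets), octads, Steiner system property, spanning by octads.
-/

namespace Cfsg.Agent.Lib.Helper28.Golay24

/-- binary words of length 24 -/
abbrev W24 : Type := Fin 24 → ZMod 2

/-- support of a word -/
def supp (u : W24) : Finset (Fin 24) := Finset.univ.filter (fun i => u i ≠ 0)

theorem hammingNorm_eq_card_supp (u : W24) : hammingNorm u = (supp u).card := rfl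

theorem mem_supp (u : W24) (i : Fin 24) : i ∈ supp u ↔ u i ≠ 0 := by
  simp [supp]

theorem zmod2_cases (a : ZMod 2) : a = 0 ∨ a = 1 := by
  revert a; decide

theorem mem_supp' (u : W24) (i : Fin 24) : i ∈ supp u ↔ u i = 1 := by
  rw [mem_supp]
  rcases zmod2_cases (u i) with h | h <;> simp [h]

/-- indicator word of a set -/
def ind (s : Finset (Fin 24)) : W24 := fun i => if i ∈ s then 1 else 0

theorem supp_ind (s : Finset (Fin 24)) : supp (ind s) = s := by
  ext i
  rw [mem_supp]
  by_cases h : i ∈ s <;> simp [ind, h]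

theorem ind_supp (u : W24) : ind (supp u) = u := by
  funext i
  by_cases h : i ∈ supp u
  · simp only [ind, h, if_true]; exact ((mem_supp' u i).mp h).symm
  · simp only [ind, h, if_false]
    rw [mem_supp, not_not] at h; exact h.symm

theorem supp_injective : Function.Injective supp := by
  intro u v h
  rw [← ind_supp u, ← ind_supp v, h]

theorem supp_eq_empty (u : W24) : supp u = ∅ ↔ u = 0 := by
  constructor
  · intro h
    have : supp u = supp 0 := by
      rw [h]; symm
      ext i; simp [mem_supp]
    exact supp_injective this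
  · rintro rfl; ext i; simp [mem_supp]

theorem sub_eq_add24 (u v : W24) : u - v = u + v := by
  funext i
  simp only [Pi.sub_apply, Pi.add_apply]
  exact CharTwo.sub_eq_add _ _

theorem add_self24 (u : W24) : u + u = 0 := by
  funext i
  simp only [Pi.add_apply, Pi.zero_apply]
  exact CharTwo.add_self_eq_zero _

theorem supp_add (u v : W24) : supp (u + v) = symmDiff (supp u) (supp v) := by
  ext i
  rw [Finset.mem_symmDiff, mem_supp, mem_supp, mem_supp, Pi.add_apply]
  rcases zmod2_cases (u i) with h | h <;> rcases zmod2_cases (v i) with h' | h' <;>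
    simp [h, h'] <;> decide

theorem card_symmDiff_add (s t : Finset (Fin 24)) :
    (symmDiff s t).card + 2 * (s ∩ t).card = s.card + t.card := by
  have h1 : symmDiff s t = (s \ t) ∪ (t \ s) := rfl
  have hd : Disjoint (s \ t) (t \ s) := by
    rw [Finset.disjoint_left]
    intro x hx hx'
    exact (Finset.mem_sdiff.mp hx).2 (Finset.mem_sdiff.mp hx').1
  rw [h1, Finset.card_union_of_disjoint hd]
  have h2 := Finset.card_sdiff_add_card_inter s t
  have h3 := Finset.card_sdiff_add_card_inter t s
  rw [Finset.inter_comm t s] at h3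
  omega

theorem norm_add (u v : W24) :
    hammingNorm (u + v) + 2 * (supp u ∩ supp v).card = hammingNorm u + hammingNorm v := by
  rw [hammingNorm_eq_card_supp, hammingNorm_eq_card_supp, hammingNorm_eq_card_supp, supp_add]
  exact card_symmDiff_add _ _

theorem norm_add_le (u v : W24) : hammingNorm (u + v) ≤ hammingNorm u + hammingNorm v := by
  have := norm_add u v; omega

theorem card_weight (k : ℕ) :
    (Finset.univ.filter (fun u : W24 => hammingNorm u = k)).card = Nat.choose 24 k := by
  have h : (Finset.univ.filter (fun u : W24 => hammingNorm u = k)).card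
      = (Finset.powersetCard k (Finset.univ : Finset (Fin 24))).card := by
    apply Finset.card_bij (fun u _ => supp u)
    · intro u hu
      rw [Finset.mem_powersetCard]
      exact ⟨Finset.subset_univ _, (Finset.mem_filter.mp hu).2⟩
    · intro u _ v _ h; exact supp_injective h
    · intro b hb
      refine ⟨ind b, ?_, supp_ind b⟩
      rw [Finset.mem_filter, hammingNorm_eq_card_supp, supp_ind]
      exact ⟨Finset.mem_univ _, (Finset.mem_powersetCard.mp hb).2⟩
  rw [h, Finset.card_powersetCard, Finset.card_univ, Fintype.card_fin]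

theorem card_weight_le_three :
    (Finset.univ.filter (fun u : W24 => hammingNorm u ≤ 3)).card = 2325 := by
  have h : Finset.univ.filter (fun u : W24 => hammingNorm u ≤ 3)
      = (Finset.range 4).biUnion (fun k => Finset.univ.filter (fun u : W24 => hammingNorm u = k)) := by
    ext u
    simp only [Finset.mem_filter, Finset.mem_univ, true_and, Finset.mem_biUnion, Finset.mem_range]
    constructor
    · intro h; exact ⟨hammingNorm u, by omega, rfl⟩
    · rintro ⟨k, hk, rfl⟩; omega
  rw [h, Finset.card_biUnion]
  · simp only [card_weight]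
    decide
  · intro i _ j _ hij
    rw [Function.onFun, Finset.disjoint_left]
    intro u hu hu'
    rw [Finset.mem_filter] at hu hu'
    exact hij (hu.2.symm.trans hu'.2)

theorem card_weight_four :
    (Finset.univ.filter (fun u : W24 => hammingNorm u = 4)).card = 10626 := by
  rw [card_weight]; decide

section code

variable (C : Submodule (ZMod 2) W24)

theorem card_code (hdim : Module.finrank (ZMod 2) C = 12) : Nat.card C = 4096 := by
  rw [Module.natCard_eq_pow_finrank (K := ZMod 2), hdim, Nat.card_zmod]
  norm_num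

theorem card_quot (hdim : Module.finrank (ZMod 2) C = 12) : Nat.card (W24 ⧸ C) = 4096 := by
  have h1 := Submodule.card_eq_card_quotient_mul_card C
  rw [card_code C hdim] at h1
  have h2 : Nat.card W24 = 2 ^ 24 := by
    rw [Nat.card_eq_fintype_card, Fintype.card_fun, ZMod.card, Fintype.card_fin]
  rw [h2] at h1
  omega

theorem mk_eq_iff (u v : W24) :
    (Submodule.Quotient.mk u : W24 ⧸ C) = Submodule.Quotient.mk v ↔ u + v ∈ C := by
  rw [Submodule.Quotient.eq, sub_eq_add24]

theorem same_coset_small (hmin : ∀ w ∈ C, w ≠ 0 → 8 ≤ hammingNorm w) (u v : W24)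
    (h : u + v ∈ C) (hw : hammingNorm u + hammingNorm v ≤ 7) : u = v := by
  by_contra hne
  have h0 : u + v ≠ 0 := by
    intro h0
    apply hne
    have : u = u + (v + v) := by rw [add_self24, add_zero]
    rw [this, ← add_assoc, h0, zero_add]
  have := hmin _ h h0
  have := norm_add_le u v
  omega

theorem same_coset_disjoint (hmin : ∀ w ∈ C, w ≠ 0 → 8 ≤ hammingNorm w) (u v : W24)
    (h : u + v ∈ C) (hu : hammingNorm u = 4) (hv : hammingNorm v = 4) (hne : u ≠ v) :
    Disjoint (supp u) (supp v) := by
  have h0 : u + v ≠ 0 := by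
    intro h0
    apply hne
    have : u = u + (v + v) := by rw [add_self24, add_zero]
    rw [this, ← add_assoc, h0, zero_add]
  have h8 := hmin _ h h0
  have := norm_add u v
  rw [Finset.disjoint_iff_inter_eq_empty, ← Finset.card_eq_zero]
  omega

open Classical in
/-- the weight-4 words in a coset -/
noncomputable def fiber4 (q : W24 ⧸ C) : Finset W24 :=
  Finset.univ.filter (fun u : W24 => hammingNorm u = 4 ∧ (Submodule.Quotient.mk u : W24 ⧸ C) = q)

theorem mem_fiber4 (q : W24 ⧸ C) (u : W24) :
    u ∈ fiber4 C q ↔ hammingNorm u = 4 ∧ (Submodule.Quotient.mk u : W24 ⧸ C) = q := by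
  simp [fiber4]

theorem fiber4_pairwiseDisjoint (hmin : ∀ w ∈ C, w ≠ 0 → 8 ≤ hammingNorm w) (q : W24 ⧸ C) :
    ((fiber4 C q : Finset W24) : Set W24).PairwiseDisjoint supp := by
  intro u hu v hv huv
  rw [Finset.mem_coe, mem_fiber4] at hu hv
  exact same_coset_disjoint C hmin u v ((mk_eq_iff C u v).mp (hu.2.trans hv.2.symm)) hu.1 hv.1 huv

theorem fiber4_card_biUnion (hmin : ∀ w ∈ C, w ≠ 0 → 8 ≤ hammingNorm w) (q : W24 ⧸ C) :
    ((fiber4 C q).biUnion supp).card = 4 * (fiber4 C q).card := by
  rw [Finset.card_biUnion (fiber4_pairwiseDisjoint C hmin q)]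
  rw [Finset.sum_congr rfl (g := fun _ => 4)]
  · rw [Finset.sum_const, smul_eq_mul, mul_comm]
  · intro u hu
    rw [← hammingNorm_eq_card_supp]
    exact ((mem_fiber4 C q u).mp hu).1

theorem fiber4_card_le (hmin : ∀ w ∈ C, w ≠ 0 → 8 ≤ hammingNorm w) (q : W24 ⧸ C) :
    (fiber4 C q).card ≤ 6 := by
  have h1 := fiber4_card_biUnion C hmin q
  have h2 : ((fiber4 C q).biUnion supp).card ≤ 24 := by
    have := Finset.card_le_univ ((fiber4 C q).biUnion supp)
    rwa [Fintype.card_fin] at this
  omega

theorem fiber4_cover (hmin : ∀ w ∈ C, w ≠ 0 → 8 ≤ hammingNorm w) (q : W24 ⧸ C)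
    (h6 : (fiber4 C q).card = 6) (x : Fin 24) : ∃ u ∈ fiber4 C q, x ∈ supp u := by
  have h1 := fiber4_card_biUnion C hmin q
  rw [h6] at h1
  have h2 : (fiber4 C q).biUnion supp = Finset.univ := by
    apply Finset.eq_univ_of_card
    rw [h1, Fintype.card_fin]
  have : x ∈ (fiber4 C q).biUnion supp := by rw [h2]; exact Finset.mem_univ x
  exact Finset.mem_biUnion.mp this

/-- The main counting statement: every coset contains a word of weight at most 3, or exactly six
words of weight 4. -/
theorem coset_dichotomy (hdim : Module.finrank (ZMod 2) C = 12)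
    (hmin : ∀ w ∈ C, w ≠ 0 → 8 ≤ hammingNorm w) (q : W24 ⧸ C) :
    (∃ u : W24, hammingNorm u ≤ 3 ∧ (Submodule.Quotient.mk u : W24 ⧸ C) = q) ∨
      (fiber4 C q).card = 6 := by
  classical
  haveI : Fintype (W24 ⧸ C) := Fintype.ofFinite _
  set S3 : Finset W24 := Finset.univ.filter (fun u : W24 => hammingNorm u ≤ 3) with hS3
  set S4 : Finset W24 := Finset.univ.filter (fun u : W24 => hammingNorm u = 4) with hS4
  let π : W24 → W24 ⧸ C := fun u => Submodule.Quotient.mk u
  set A := S3.image π with hA
  set B := S4.image π with hB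
  have hAcard : A.card = 2325 := by
    rw [hA, Finset.card_image_of_injOn, hS3, card_weight_le_three]
    intro u hu v hv huv
    rw [Finset.mem_coe, hS3, Finset.mem_filter] at hu hv
    exact same_coset_small C hmin u v ((mk_eq_iff C u v).mp huv) (by have := hu.2; have := hv.2; omega)
  have hAB : Disjoint A B := by
    rw [Finset.disjoint_left]
    intro q' hqA hqB
    obtain ⟨u, hu, rfl⟩ := Finset.mem_image.mp hqA
    obtain ⟨v, hv, hvu⟩ := Finset.mem_image.mp hqB
    rw [hS3, Finset.mem_filter] at hu
    rw [hS4, Finset.mem_filter] at hv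
    have huv : u = v := same_coset_small C hmin u v ((mk_eq_iff C u v).mp hvu.symm)
      (by have := hu.2; have := hv.2; omega)
    rw [huv] at hu
    have := hu.2; have := hv.2; omega
  have hQ : Fintype.card (W24 ⧸ C) = 4096 := by
    rw [← Nat.card_eq_fintype_card]; exact card_quot C hdim
  have hABcard : A.card + B.card ≤ 4096 := by
    rw [← Finset.card_union_of_disjoint hAB, ← hQ]
    exact Finset.card_le_univ _
  -- fibers
  have hfib : ∀ q' : W24 ⧸ C, S4.filter (fun u => π u = q') = fiber4 C q' := by
    intro q'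
    ext u
    rw [Finset.mem_filter, hS4, Finset.mem_filter, mem_fiber4]
    simp [π]
  have hsum : S4.card = ∑ q' ∈ B, (fiber4 C q').card := by
    rw [Finset.card_eq_sum_card_image π S4]
    apply Finset.sum_congr rfl
    intro q' _
    rw [hfib]
  have hS4card : S4.card = 10626 := card_weight_four
  have hle : ∑ q' ∈ B, (fiber4 C q').card ≤ ∑ _q' ∈ B, 6 :=
    Finset.sum_le_sum (fun q' _ => fiber4_card_le C hmin q')
  rw [Finset.sum_const, smul_eq_mul] at hle
  have hBcard : B.card = 1771 := by omega
  have heq : ∑ q' ∈ B, (fiber4 C q').card = ∑ _q' ∈ B, 6 := by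
    rw [Finset.sum_const, smul_eq_mul]; omega
  have hall := (Finset.sum_eq_sum_iff_of_le (fun q' _ => fiber4_card_le C hmin q')).mp heq
  have hunion : A ∪ B = Finset.univ := by
    apply Finset.eq_univ_of_card
    rw [Finset.card_union_of_disjoint hAB, hQ]; omega
  have hq : q ∈ A ∪ B := by rw [hunion]; exact Finset.mem_univ q
  rcases Finset.mem_union.mp hq with h | h
  · left
    obtain ⟨u, hu, rfl⟩ := Finset.mem_image.mp h
    rw [hS3, Finset.mem_filter] at hu
    exact ⟨u, hu.2, rfl⟩
  · right
    exact hall q h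

theorem octad_exists (hdim : Module.finrank (ZMod 2) C = 12)
    (hmin : ∀ w ∈ C, w ≠ 0 → 8 ≤ hammingNorm w) (s : Finset (Fin 24)) (hs : s.card = 5) :
    ∃ c ∈ C, hammingNorm c = 8 ∧ s ⊆ supp c := by
  classical
  obtain ⟨x, hx⟩ : s.Nonempty := by rw [← Finset.card_pos]; omega
  set T := s.erase x with hT
  have hTcard : T.card = 4 := by rw [hT, Finset.card_erase_of_mem hx, hs]
  set u := ind T with hu
  have hunorm : hammingNorm u = 4 := by rw [hammingNorm_eq_card_supp, hu, supp_ind, hTcard]
  have hxT : x ∉ supp u := by rw [hu, supp_ind, hT]; exact Finset.notMem_erase x s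
  rcases coset_dichotomy C hdim hmin (Submodule.Quotient.mk u) with ⟨v, hv3, hvq⟩ | h6
  · exfalso
    have hvu : v = u := same_coset_small C hmin v u ((mk_eq_iff C v u).mp hvq) (by omega)
    rw [hvu] at hv3; omega
  · obtain ⟨u', hu', hxu'⟩ := fiber4_cover C hmin _ h6 x
    rw [mem_fiber4] at hu'
    have hne : u ≠ u' := by
      intro h; rw [← h] at hxu'; exact hxT hxu'
    have hmem : u + u' ∈ C := (mk_eq_iff C u u').mp hu'.2.symm
    have hdisj : Disjoint (supp u) (supp u') :=
      same_coset_disjoint C hmin u u' hmem hunorm hu'.1 hne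
    refine ⟨u + u', hmem, ?_, ?_⟩
    · have := norm_add u u'
      rw [Finset.disjoint_iff_inter_eq_empty.mp hdisj, Finset.card_empty] at this
      omega
    · intro i hi
      rw [supp_add, Finset.mem_symmDiff]
      by_cases hix : i = x
      · right; rw [hix]; exact ⟨hxu', hxT⟩
      · left
        have hiT : i ∈ supp u := by
          rw [hu, supp_ind, hT]; exact Finset.mem_erase.mpr ⟨hix, hi⟩
        exact ⟨hiT, Finset.disjoint_left.mp hdisj hiT⟩

theorem octad_unique (hmin : ∀ w ∈ C, w ≠ 0 → 8 ≤ hammingNorm w) (s : Finset (Fin 24))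
    (hs : s.card = 5) (c c' : W24) (hc : c ∈ C) (hc' : c' ∈ C) (h8 : hammingNorm c = 8)
    (h8' : hammingNorm c' = 8) (hsc : s ⊆ supp c) (hsc' : s ⊆ supp c') : c = c' := by
  by_contra hne
  have h0 : c + c' ≠ 0 := by
    intro h0
    apply hne
    have : c = c + (c' + c') := by rw [add_self24, add_zero]
    rw [this, ← add_assoc, h0, zero_add]
  have hm := hmin _ (C.add_mem hc hc') h0
  have hn := norm_add c c'
  have h5 : 5 ≤ (supp c ∩ supp c').card := by
    rw [← hs]; exact Finset.card_le_card (Finset.subset_inter hsc hsc')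
  omega

theorem span_octads (hdim : Module.finrank (ZMod 2) C = 12)
    (hmin : ∀ w ∈ C, w ≠ 0 → 8 ≤ hammingNorm w) :
    Submodule.span (ZMod 2) {w : W24 | w ∈ C ∧ hammingNorm w = 8} = C := by
  apply le_antisymm
  · rw [Submodule.span_le]; intro w hw; exact hw.1
  · have key : ∀ n : ℕ, ∀ c ∈ C, hammingNorm c ≤ n →
        c ∈ Submodule.span (ZMod 2) {w : W24 | w ∈ C ∧ hammingNorm w = 8} := by
      intro n
      induction n with
      | zero =>
        intro c _ hn
        have : c = 0 := by
          rw [← supp_eq_empty, ← Finset.card_eq_zero, ← hammingNorm_eq_card_supp]; omega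
        rw [this]; exact Submodule.zero_mem _
      | succ n ih =>
        intro c hc hn
        by_cases h0 : c = 0
        · rw [h0]; exact Submodule.zero_mem _
        have h8 := hmin c hc h0
        obtain ⟨s, hsc, hs5⟩ := Finset.exists_subset_card_eq (s := supp c) (n := 5)
          (by rw [← hammingNorm_eq_card_supp]; omega)
        obtain ⟨o, ho, ho8, hso⟩ := octad_exists C hdim hmin s hs5
        have hlt : hammingNorm (c + o) ≤ n := by
          have hn' := norm_add c o
          have h5 : 5 ≤ (supp c ∩ supp o).card := by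
            rw [← hs5]; exact Finset.card_le_card (Finset.subset_inter hsc hso)
          omega
        have h1 := ih (c + o) (C.add_mem hc ho) hlt
        have h2 : o ∈ Submodule.span (ZMod 2) {w : W24 | w ∈ C ∧ hammingNorm w = 8} :=
          Submodule.subset_span ⟨ho, ho8⟩
        have h3 : c = (c + o) + o := by rw [add_assoc, add_self24, add_zero]
        rw [h3]; exact Submodule.add_mem _ h1 h2
    intro c hc
    exact key (hammingNorm c) c hc le_rfl

theorem inter_card_even (horth : ∀ v ∈ C, ∀ w ∈ C, ∑ i, v i * w i = 0) (v w : W24) (hv : v ∈ C)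
    (hw : w ∈ C) : Even (supp v ∩ supp w).card := by
  have h := horth v hv w hw
  have h1 : ∑ i, v i * w i = (((supp v ∩ supp w).card : ℕ) : ZMod 2) := by
    rw [Finset.card_eq_sum_ones, Nat.cast_sum, ← Finset.sum_filter_add_sum_filter_not Finset.univ
      (fun i => i ∈ supp v ∩ supp w)]
    have hz : ∑ i ∈ Finset.univ.filter (fun i => i ∉ supp v ∩ supp w), v i * w i = 0 := by
      apply Finset.sum_eq_zero
      intro i hi
      rw [Finset.mem_filter, Finset.mem_inter, mem_supp, mem_supp] at hi
      by_cases hvi : v i = 0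
      · rw [hvi, zero_mul]
      · have : w i = 0 := by
          by_contra hwi; exact hi.2 ⟨hvi, hwi⟩
        rw [this, mul_zero]
    rw [hz, add_zero]
    have hfil : Finset.univ.filter (fun i => i ∈ supp v ∩ supp w) = supp v ∩ supp w := by
      ext i; simp
    rw [hfil]
    apply Finset.sum_congr rfl
    intro i hi
    rw [Finset.mem_inter, mem_supp', mem_supp'] at hi
    rw [hi.1, hi.2]; simp
  rw [h1] at h
  exact (ZMod.natCast_eq_zero_iff_even).mp h

theorem doubly_even (hdim : Module.finrank (ZMod 2) C = 12)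
    (horth : ∀ v ∈ C, ∀ w ∈ C, ∑ i, v i * w i = 0)
    (hmin : ∀ w ∈ C, w ≠ 0 → 8 ≤ hammingNorm w) : ∀ w ∈ C, 4 ∣ hammingNorm w := by
  have key : ∀ w ∈ Submodule.span (ZMod 2) {w : W24 | w ∈ C ∧ hammingNorm w = 8},
      w ∈ C ∧ 4 ∣ hammingNorm w := by
    intro w hw'
    induction hw' using Submodule.span_induction with
    | mem x hx => exact ⟨hx.1, by rw [hx.2]; norm_num⟩
    | zero => exact ⟨C.zero_mem, by simp⟩
    | add x y _ _ hx hy =>
      refine ⟨C.add_mem hx.1 hy.1, ?_⟩
      have h1 := norm_add x y
      obtain ⟨k, hk⟩ := inter_card_even C horth x y hx.1 hy.1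
      obtain ⟨a, ha⟩ := hx.2
      obtain ⟨b, hb⟩ := hy.2
      omega
    | smul a x _ hx =>
      rcases zmod2_cases a with rfl | rfl
      · rw [zero_smul]; exact ⟨C.zero_mem, by simp⟩
      · rw [one_smul]; exact hx
  intro w hw
  have hw' : w ∈ Submodule.span (ZMod 2) {w : W24 | w ∈ C ∧ hammingNorm w = 8} := by
    rw [span_octads C hdim hmin]; exact hw
  exact (key w hw').2

end code

end Cfsg.Agent.Lib.Helper28.Golay24
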