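import Cfsg.Agent.S5627

set_option autoImplicit false
set_option linter.unusedSectionVars false
open Cfsg

namespace Cfsg.Agent.Lib.Helper28.Plane4
open Cfsg.Agent.Lib.Helper28.Steiner
open Cfsg.Agent.S5627

section
variable {α : Type*} [Fintype α] [DecidableEq α] {L : Set (Finset α)}

/-- a hyperoval of the plane -/
structure IsHyperoval (L : Set (Finset α)) (H : Finset α) : Prop where
  card : H.card = 6
  indep : Indep L H

theorem ln_comm (hL : IsSteinerSystem 2 5 L) {a b : α} (hab : a ≠ b) : ln L a b = ln L b a :=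
  eq_ln hL hab.symm (ln_spec hL hab).1 (ln_spec hL hab).2.2 (ln_spec hL hab).2.1

/-- three distinct points of a hyperoval are not collinear -/
theorem IsHyperoval.eq_of_mem {H : Finset α} (hH : IsHyperoval L H) {l : Finset α} (hl : l ∈ L) {x y z : α}
    (hx : x ∈ H) (hy : y ∈ H) (hz : z ∈ H) (hxl : x ∈ l) (hyl : y ∈ l) (hzl : z ∈ l)
    (hxy : x ≠ y) (hxz : x ≠ z) : y = z := by
  by_contra hyz
  have := hH.indep l hl
  have hsub : ({x, y, z} : Finset α) ⊆ l ∩ H := by
    intro w hw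
    simp only [Finset.mem_insert, Finset.mem_singleton] at hw
    rcases hw with rfl | rfl | rfl <;> exact Finset.mem_inter.mpr ⟨‹_›, ‹_›⟩
  have h3 : ({x, y, z} : Finset α).card = 3 := Finset.card_eq_three.mpr ⟨x, y, z, hxy, hxz, hyz, rfl⟩
  have := Finset.card_le_card hsub
  omega

/-- there are no tangent lines -/
theorem exists_second (hα : Fintype.card α = 21) (hL : IsSteinerSystem 2 5 L) {H : Finset α}
    (hH : IsHyperoval L H) {l : Finset α} (hl : l ∈ L) {x : α} (hx : x ∈ H) (hxl : x ∈ l) :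
    ∃ y ∈ H, y ≠ x ∧ y ∈ l := by
  have hne : ∀ y ∈ H.erase x, x ≠ y := fun y hy => (Finset.ne_of_mem_erase hy).symm
  have hsub : (H.erase x).image (fun y => ln L x y) ⊆ blocksThrough L {x} := by
    intro k hk
    obtain ⟨y, hy, rfl⟩ := Finset.mem_image.mp hk
    exact mem_lines_through.mpr ⟨(ln_spec hL (hne y hy)).1, (ln_spec hL (hne y hy)).2.1⟩
  have hinj : Set.InjOn (fun y => ln L x y) (H.erase x) := by
    intro y hy y' hy' e
    have e' : ln L x y = ln L x y' := e
    have h1 := ln_spec hL (hne y hy)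
    have h2 := ln_spec hL (hne y' hy')
    exact hH.eq_of_mem h1.1 hx (Finset.mem_of_mem_erase hy) (Finset.mem_of_mem_erase hy')
      h1.2.1 h1.2.2 (e' ▸ h2.2.2) (hne y hy) (hne y' hy')
  have hcard : ((H.erase x).image (fun y => ln L x y)).card = 5 := by
    rw [Finset.card_image_of_injOn hinj, Finset.card_erase_of_mem hx, hH.card]
  have heq := Finset.eq_of_subset_of_card_le hsub (by rw [hcard, card_lines_through hα hL x])
  have : l ∈ (H.erase x).image (fun y => ln L x y) := by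
    rw [heq]; exact mem_lines_through.mpr ⟨hl, hxl⟩
  obtain ⟨y, hy, rfl⟩ := Finset.mem_image.mp this
  exact ⟨y, Finset.mem_of_mem_erase hy, Finset.ne_of_mem_erase hy, (ln_spec hL (hne y hy)).2.2⟩

/-- the second point of the hyperoval on the line joining an outside point to a hyperoval point -/
theorem exists_partner (hα : Fintype.card α = 21) (hL : IsSteinerSystem 2 5 L) {H : Finset α}
    (hH : IsHyperoval L H) {p : α} (hp : p ∉ H) {x : α} (hx : x ∈ H) :
    ∃ y, y ∈ H ∧ y ≠ x ∧ y ∈ ln L p x := by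
  have hpx : p ≠ x := fun e => hp (e ▸ hx)
  obtain ⟨y, hy, hyx, hyl⟩ := exists_second hα hL hH (ln_spec hL hpx).1 hx (ln_spec hL hpx).2.2
  exact ⟨y, hy, hyx, hyl⟩

open Classical in
/-- the partner of a hyperoval point with respect to an outside point -/
noncomputable def partner (L : Set (Finset α)) (H : Finset α) (p x : α) : α :=
  if h : ∃ y, y ∈ H ∧ y ≠ x ∧ y ∈ ln L p x then Classical.choose h else x

theorem partner_spec (hα : Fintype.card α = 21) (hL : IsSteinerSystem 2 5 L) {H : Finset α}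
    (hH : IsHyperoval L H) {p : α} (hp : p ∉ H) {x : α} (hx : x ∈ H) :
    partner L H p x ∈ H ∧ partner L H p x ≠ x ∧ partner L H p x ∈ ln L p x := by
  have h := exists_partner hα hL hH hp hx
  unfold partner
  rw [dif_pos h]
  exact Classical.choose_spec h

theorem partner_unique (hα : Fintype.card α = 21) (hL : IsSteinerSystem 2 5 L) {H : Finset α}
    (hH : IsHyperoval L H) {p : α} (hp : p ∉ H) {x y : α} (hx : x ∈ H) (hy : y ∈ H) (hyx : y ≠ x)
    (hyl : y ∈ ln L p x) : partner L H p x = y := by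
  obtain ⟨h1, h2, h3⟩ := partner_spec hα hL hH hp hx
  have hpx : p ≠ x := fun e => hp (e ▸ hx)
  exact hH.eq_of_mem (ln_spec hL hpx).1 hx h1 hy (ln_spec hL hpx).2.2 h3 hyl h2.symm hyx.symm

/-- collinearity with an outside point in terms of partners -/
theorem mem_ln_iff (hα : Fintype.card α = 21) (hL : IsSteinerSystem 2 5 L) {H : Finset α}
    (hH : IsHyperoval L H) {p : α} (hp : p ∉ H) {x y : α} (hx : x ∈ H) (hy : y ∈ H) (hxy : x ≠ y) :
    p ∈ ln L x y ↔ partner L H p x = y := by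
  have hpx : p ≠ x := fun e => hp (e ▸ hx)
  constructor
  · intro h
    have e : ln L x y = ln L p x :=
      eq_ln hL hpx (ln_spec hL hxy).1 h (ln_spec hL hxy).2.1
    exact partner_unique hα hL hH hp hx hy hxy.symm (e ▸ (ln_spec hL hxy).2.2)
  · intro h
    obtain ⟨h1, h2, h3⟩ := partner_spec hα hL hH hp hx
    rw [h] at h3
    have e : ln L p x = ln L x y :=
      eq_ln hL hxy (ln_spec hL hpx).1 (ln_spec hL hpx).2.2 h3
    exact e ▸ (ln_spec hL hpx).2.1

theorem partner_partner (hα : Fintype.card α = 21) (hL : IsSteinerSystem 2 5 L) {H : Finset α}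
    (hH : IsHyperoval L H) {p : α} (hp : p ∉ H) {x : α} (hx : x ∈ H) :
    partner L H p (partner L H p x) = x := by
  obtain ⟨h1, h2, h3⟩ := partner_spec hα hL hH hp hx
  have h := (mem_ln_iff hα hL hH hp hx h1 h2.symm).mpr rfl
  rw [ln_comm hL h2.symm] at h
  exact (mem_ln_iff hα hL hH hp h1 hx h2).mp h


/-- two distinct secants are distinct lines: a secant through `x0, y0` does not contain a third
hyperoval point -/
theorem secant_ne (hL : IsSteinerSystem 2 5 L) {H : Finset α} (hH : IsHyperoval L H)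
    {x0 y0 x1 y1 : α} (hx0 : x0 ∈ H) (hy0 : y0 ∈ H) (hx1 : x1 ∈ H) (h00 : x0 ≠ y0)
    (h01 : x0 ≠ x1) (h01' : y0 ≠ x1) (h11 : x1 ≠ y1) : ln L x0 y0 ≠ ln L x1 y1 := by
  intro e
  have h0 := ln_spec hL h00
  have h1 := ln_spec hL h11
  exact h01' (hH.eq_of_mem h0.1 hx0 hy0 hx1 h0.2.1 h0.2.2 (e ▸ h1.2.1) h00 h01)

/-- an outside point is determined by its partner function -/
theorem outside_ext (hα : Fintype.card α = 21) (hL : IsSteinerSystem 2 5 L) {H : Finset α}
    (hH : IsHyperoval L H) {p q : α} (hp : p ∉ H) (hq : q ∉ H)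
    (h : ∀ x ∈ H, partner L H p x = partner L H q x) : p = q := by
  obtain ⟨x0, hx0⟩ : H.Nonempty := Finset.card_pos.mp (by rw [hH.card]; norm_num)
  obtain ⟨hy0, hy0x, -⟩ := partner_spec hα hL hH hp hx0
  obtain ⟨x1, hx1⟩ : ((H.erase x0).erase (partner L H p x0)).Nonempty := Finset.card_pos.mp (by
    rw [Finset.card_erase_of_mem (Finset.mem_erase.mpr ⟨hy0x, hy0⟩), Finset.card_erase_of_mem hx0,
      hH.card]; norm_num)
  simp only [Finset.mem_erase] at hx1
  obtain ⟨h1y0, h1x0, hx1H⟩ := hx1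
  obtain ⟨hy1, hy1x, -⟩ := partner_spec hα hL hH hp hx1H
  have hne := secant_ne hL hH hx0 hy0 hx1H hy0x.symm (Ne.symm h1x0) (Ne.symm h1y0) hy1x.symm
  have hp0 := (mem_ln_iff hα hL hH hp hx0 hy0 hy0x.symm).mpr rfl
  have hp1 := (mem_ln_iff hα hL hH hp hx1H hy1 hy1x.symm).mpr rfl
  have hq0 := (mem_ln_iff hα hL hH hq hx0 hy0 hy0x.symm).mpr (h x0 hx0).symm
  have hq1 := (mem_ln_iff hα hL hH hq hx1H hy1 hy1x.symm).mpr (h x1 hx1H).symm
  exact common_pt hL (ln_spec hL hy0x.symm).1 (ln_spec hL hy1x.symm).1 hne hq0 hq1 hp0 hp1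

/-- two fixed-point-free involutions of a 6-set that agree on two points in different orbits
agree everywhere -/
theorem invol_agree {H : Finset α} (hcard : H.card = 6) {f g : α → α}
    (hf : ∀ x ∈ H, f x ∈ H ∧ f x ≠ x ∧ f (f x) = x)
    (hg : ∀ x ∈ H, g x ∈ H ∧ g x ≠ x ∧ g (g x) = x)
    {x0 x1 : α} (hx0 : x0 ∈ H) (hx1 : x1 ∈ H) (h10 : x1 ≠ x0) (h1f : x1 ≠ f x0)
    (e0 : f x0 = g x0) (e1 : f x1 = g x1) : ∀ x ∈ H, f x = g x := by
  intro x hx
  have hf0 := hf x0 hx0
  have hf1 := hf x1 hx1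
  have hg0 := hg x0 hx0
  have hg1 := hg x1 hx1
  by_cases hxA : x = x0 ∨ x = f x0 ∨ x = x1 ∨ x = f x1
  · rcases hxA with hxe | hxe | hxe | hxe
    · rw [hxe]; exact e0
    · rw [hxe, hf0.2.2, e0, hg0.2.2]
    · rw [hxe]; exact e1
    · rw [hxe, hf1.2.2, e1, hg1.2.2]
  · push Not at hxA
    obtain ⟨n0, n1, n2, n3⟩ := hxA
    have hf10 : f x1 ≠ x0 := fun e => h1f (by rw [← e, hf1.2.2])
    have hf1f0 : f x1 ≠ f x0 := fun e => h10 (by rw [← hf1.2.2, e, hf0.2.2])
    have hcardT : (((((H.erase x0).erase (f x0)).erase x1).erase (f x1)).erase x).card = 1 := by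
      rw [Finset.card_erase_of_mem, Finset.card_erase_of_mem, Finset.card_erase_of_mem,
        Finset.card_erase_of_mem, Finset.card_erase_of_mem hx0, hcard]
      · simp only [Finset.mem_erase]; exact ⟨hf0.2.1, hf0.1⟩
      · simp only [Finset.mem_erase]; exact ⟨h1f, h10, hx1⟩
      · simp only [Finset.mem_erase]; exact ⟨hf1.2.1, hf1f0, hf10, hf1.1⟩
      · simp only [Finset.mem_erase]; exact ⟨n3, n2, n1, n0, hx⟩
    have key : ∀ k : α → α, (∀ z ∈ H, k z ∈ H ∧ k z ≠ z ∧ k (k z) = z) → k x0 = f x0 → k x1 = f x1 →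
        k x ∈ ((((H.erase x0).erase (f x0)).erase x1).erase (f x1)).erase x := by
      intro k hk k0 k1
      have hkx := hk x hx
      simp only [Finset.mem_erase]
      refine ⟨hkx.2.1, ?_, ?_, ?_, ?_, hkx.1⟩
      · intro e; apply n2; rw [← hkx.2.2, e, ← k1, (hk x1 hx1).2.2]
      · intro e; apply n3; rw [← hkx.2.2, e, k1]
      · intro e; apply n0; rw [← hkx.2.2, e, ← k0, (hk x0 hx0).2.2]
      · intro e; apply n1; rw [← hkx.2.2, e, k0]
    exact Finset.card_le_one.mp hcardT.le _ (key f hf rfl rfl) _ (key g hg e0.symm e1.symm)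

/-- every fixed-point-free involution of the hyperoval is the partner function of an outside
point -/
theorem exists_outside_of_invol (hα : Fintype.card α = 21) (hL : IsSteinerSystem 2 5 L)
    {H : Finset α} (hH : IsHyperoval L H) {μ : α → α}
    (hμ : ∀ x ∈ H, μ x ∈ H ∧ μ x ≠ x ∧ μ (μ x) = x) :
    ∃ q, q ∉ H ∧ ∀ x ∈ H, partner L H q x = μ x := by
  obtain ⟨x0, hx0⟩ : H.Nonempty := Finset.card_pos.mp (by rw [hH.card]; norm_num)
  obtain ⟨hy0, hy0x, hμ0⟩ := hμ x0 hx0
  obtain ⟨x1, hx1⟩ : ((H.erase x0).erase (μ x0)).Nonempty := Finset.card_pos.mp (by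
    rw [Finset.card_erase_of_mem (Finset.mem_erase.mpr ⟨hy0x, hy0⟩), Finset.card_erase_of_mem hx0,
      hH.card]; norm_num)
  simp only [Finset.mem_erase] at hx1
  obtain ⟨h1y0, h1x0, hx1H⟩ := hx1
  obtain ⟨hy1, hy1x, hμ1⟩ := hμ x1 hx1H
  have hy1x0 : μ x1 ≠ x0 := fun e => h1y0 (by rw [← e, hμ1])
  have hy1y0 : μ x1 ≠ μ x0 := fun e => h1x0 (by rw [← hμ1, e, hμ0])
  have hne := secant_ne hL hH hx0 hy0 hx1H hy0x.symm (Ne.symm h1x0) (Ne.symm h1y0) hy1x.symm
  have hl0 := ln_spec hL hy0x.symm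
  have hl1 := ln_spec hL hy1x.symm
  obtain ⟨q, hq⟩ := lines_meet hα hL hl0.1 hl1.1
  rw [Finset.mem_inter] at hq
  have hqH : q ∉ H := by
    intro hqH
    have a0 : q = x0 ∨ q = μ x0 := by
      by_cases e : q = x0
      · exact Or.inl e
      · exact Or.inr (hH.eq_of_mem hl0.1 hx0 hy0 hqH hl0.2.1 hl0.2.2 hq.1 hy0x.symm (Ne.symm e)).symm
    have a1 : q = x1 ∨ q = μ x1 := by
      by_cases e : q = x1
      · exact Or.inl e
      · exact Or.inr (hH.eq_of_mem hl1.1 hx1H hy1 hqH hl1.2.1 hl1.2.2 hq.2 hy1x.symm (Ne.symm e)).symm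
    rcases a0 with a0 | a0 <;> rcases a1 with a1 | a1
    · exact h1x0 (a1.symm.trans a0)
    · exact hy1x0 (a1.symm.trans a0)
    · exact h1y0 (a1.symm.trans a0)
    · exact hy1y0 (a1.symm.trans a0)
  refine ⟨q, hqH, ?_⟩
  have p0 := (mem_ln_iff hα hL hH hqH hx0 hy0 hy0x.symm).mp hq.1
  have p1 := (mem_ln_iff hα hL hH hqH hx1H hy1 hy1x.symm).mp hq.2
  have hpart : ∀ x ∈ H, partner L H q x ∈ H ∧ partner L H q x ≠ x ∧
      partner L H q (partner L H q x) = x := fun x hx =>
    ⟨(partner_spec hα hL hH hqH hx).1, (partner_spec hα hL hH hqH hx).2.1,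
      partner_partner hα hL hH hqH hx⟩
  intro x hx
  exact (invol_agree hH.card hμ hpart hx0 hx1H h1x0 h1y0 p0.symm p1.symm x hx).symm


/-- exactly three secants pass through an outside point -/
theorem card_secants_through (hα : Fintype.card α = 21) (hL : IsSteinerSystem 2 5 L)
    {H : Finset α} (hH : IsHyperoval L H) {q : α} (hq : q ∉ H) :
    (H.image (fun x => ln L q x)).card = 3 := by
  have h := Finset.card_eq_sum_card_image (fun x => ln L q x) H
  have hfib : ∀ l ∈ H.image (fun x => ln L q x), (H.filter (fun x => ln L q x = l)).card = 2 := by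
    intro l hl
    obtain ⟨x0, hx0, rfl⟩ := Finset.mem_image.mp hl
    obtain ⟨h1, h2, h3⟩ := partner_spec hα hL hH hq hx0
    have hqx0 : q ≠ x0 := fun e => hq (e ▸ hx0)
    have hfe : H.filter (fun x => ln L q x = ln L q x0) = {x0, partner L H q x0} := by
      ext x
      simp only [Finset.mem_filter, Finset.mem_insert, Finset.mem_singleton]
      constructor
      · rintro ⟨hx, e⟩
        by_cases hxx : x = x0
        · exact Or.inl hxx
        · right
          have hqx : q ≠ x := fun e => hq (e ▸ hx)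
          have hmem : x ∈ ln L q x0 := e ▸ (ln_spec hL hqx).2.2
          exact (partner_unique hα hL hH hq hx0 hx hxx hmem).symm
      · rintro (hx | hx)
        · rw [hx]; exact ⟨hx0, rfl⟩
        · rw [hx]
          refine ⟨h1, ?_⟩
          have hqy : q ≠ partner L H q x0 := fun e => hq (e ▸ h1)
          exact (eq_ln hL hqy (ln_spec hL hqx0).1 (ln_spec hL hqx0).2.1 h3).symm
    rw [hfe, Finset.card_pair h2.symm]
  rw [Finset.sum_congr rfl hfib, Finset.sum_const, hH.card] at h
  simp only [smul_eq_mul] at h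
  omega

/-- at most two external lines pass through an outside point -/
theorem external_through (hα : Fintype.card α = 21) (hL : IsSteinerSystem 2 5 L)
    {H : Finset α} (hH : IsHyperoval L H) {q : α} (hq : q ∉ H) {e1 e2 e3 : Finset α}
    (h1 : e1 ∈ L) (h2 : e2 ∈ L) (h3 : e3 ∈ L) (q1 : q ∈ e1) (q2 : q ∈ e2) (q3 : q ∈ e3)
    (x1 : ∀ x ∈ H, x ∉ e1) (x2 : ∀ x ∈ H, x ∉ e2) (x3 : ∀ x ∈ H, x ∉ e3) :
    e1 = e2 ∨ e1 = e3 ∨ e2 = e3 := by
  by_contra hne
  push Not at hne
  obtain ⟨n12, n13, n23⟩ := hne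
  have hsub : ({e1, e2, e3} : Finset (Finset α)) ∪ H.image (fun x => ln L q x) ⊆
      blocksThrough L {q} := by
    intro l hl
    rw [Finset.mem_union] at hl
    rcases hl with hl | hl
    · simp only [Finset.mem_insert, Finset.mem_singleton] at hl
      rcases hl with rfl | rfl | rfl
      · exact mem_lines_through.mpr ⟨h1, q1⟩
      · exact mem_lines_through.mpr ⟨h2, q2⟩
      · exact mem_lines_through.mpr ⟨h3, q3⟩
    · obtain ⟨x, hx, rfl⟩ := Finset.mem_image.mp hl
      have hqx : q ≠ x := fun e => hq (e ▸ hx)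
      exact mem_lines_through.mpr ⟨(ln_spec hL hqx).1, (ln_spec hL hqx).2.1⟩
  have hdisj : Disjoint ({e1, e2, e3} : Finset (Finset α)) (H.image (fun x => ln L q x)) := by
    rw [Finset.disjoint_left]
    intro l hl hl'
    obtain ⟨x, hx, rfl⟩ := Finset.mem_image.mp hl'
    have hqx : q ≠ x := fun e => hq (e ▸ hx)
    have hxl := (ln_spec hL hqx).2.2
    simp only [Finset.mem_insert, Finset.mem_singleton] at hl
    rcases hl with e | e | e
    · exact x1 x hx (e ▸ hxl)
    · exact x2 x hx (e ▸ hxl)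
    · exact x3 x hx (e ▸ hxl)
  have hc := Finset.card_le_card hsub
  rw [Finset.card_union_of_disjoint hdisj, card_secants_through hα hL hH hq,
    card_lines_through hα hL q, Finset.card_eq_three.mpr ⟨e1, e2, e3, n12, n13, n23, rfl⟩] at hc
  omega

/-- an outside point off a line cannot be joined by external lines to three points of it -/
theorem no_three_external (hα : Fintype.card α = 21) (hL : IsSteinerSystem 2 5 L)
    {H : Finset α} (hH : IsHyperoval L H) {q : α} (hq : q ∉ H) {e : Finset α} (he : e ∈ L)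
    (hqe : q ∉ e) {a b c : α} (ha : a ∈ e) (hb : b ∈ e) (hc : c ∈ e) (hab : a ≠ b) (hac : a ≠ c)
    (hbc : b ≠ c) (xa : ∀ x ∈ H, x ∉ ln L q a) (xb : ∀ x ∈ H, x ∉ ln L q b)
    (xc : ∀ x ∈ H, x ∉ ln L q c) : False := by
  have hqa : q ≠ a := fun h => hqe (h ▸ ha)
  have hqb : q ≠ b := fun h => hqe (h ▸ hb)
  have hqc : q ≠ c := fun h => hqe (h ▸ hc)
  have la := ln_spec hL hqa
  have lb := ln_spec hL hqb
  have lc := ln_spec hL hqc
  have key : ∀ {u v : α}, u ∈ e → v ∈ e → u ≠ v → q ≠ u → q ≠ v → ln L q u ≠ ln L q v := by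
    intro u v hu hv huv hqu hqv h
    have lu := ln_spec hL hqu
    have lv := ln_spec hL hqv
    have : ln L q u = e := line_eq hL lu.1 he huv lu.2.2 (h ▸ lv.2.2) hu hv
    exact hqe (this ▸ lu.2.1)
  rcases external_through hα hL hH hq la.1 lb.1 lc.1 la.2.1 lb.2.1 lc.2.1 xa xb xc with h | h | h
  · exact key ha hb hab hqa hqb h
  · exact key ha hc hac hqa hqc h
  · exact key hb hc hbc hqb hqc h

/-- five outside points pairwise joined by external lines form a line -/
theorem clique_line (hα : Fintype.card α = 21) (hL : IsSteinerSystem 2 5 L)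
    {H : Finset α} (hH : IsHyperoval L H) {Q : Finset α} (hQ : Q.card = 5)
    (hQH : ∀ q ∈ Q, q ∉ H)
    (hpair : ∀ q ∈ Q, ∀ q' ∈ Q, q ≠ q' → ∀ x ∈ H, x ∉ ln L q q') : Q ∈ L := by
  obtain ⟨q, hq⟩ : Q.Nonempty := Finset.card_pos.mp (by rw [hQ]; norm_num)
  obtain ⟨q1, hq1⟩ : (Q.erase q).Nonempty := Finset.card_pos.mp (by
    rw [Finset.card_erase_of_mem hq, hQ]; norm_num)
  rw [Finset.mem_erase] at hq1
  obtain ⟨hq1q, hq1Q⟩ := hq1
  have l1 := ln_spec hL (Ne.symm hq1q)
  suffices hsub : Q ⊆ ln L q q1 by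
    have := Finset.eq_of_subset_of_card_le hsub (by rw [hL.1 _ l1.1, hQ])
    rw [this]; exact l1.1
  intro q2 hq2
  by_contra hq2e
  have hq2q : q2 ≠ q := fun h => hq2e (h ▸ l1.2.1)
  have hq2q1 : q2 ≠ q1 := fun h => hq2e (h ▸ l1.2.2)
  have l2 := ln_spec hL (Ne.symm hq2q)
  have hq1e2 : q1 ∉ ln L q q2 := by
    intro h
    have : ln L q q2 = ln L q q1 := eq_ln hL (Ne.symm hq1q) l2.1 l2.2.1 h
    exact hq2e (this ▸ l2.2.2)
  obtain ⟨q3, hq3⟩ : (((Q.erase q).erase q1).erase q2).Nonempty := Finset.card_pos.mp (by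
    rw [Finset.card_erase_of_mem, Finset.card_erase_of_mem, Finset.card_erase_of_mem hq, hQ]
    · norm_num
    · simp only [Finset.mem_erase]; exact ⟨hq1q, hq1Q⟩
    · simp only [Finset.mem_erase]; exact ⟨hq2q1, hq2q, hq2⟩)
  simp only [Finset.mem_erase] at hq3
  obtain ⟨h32, h31, h30, hq3Q⟩ := hq3
  have l3 := ln_spec hL (Ne.symm h30)
  rcases external_through hα hL hH (hQH q hq) l1.1 l2.1 l3.1 l1.2.1 l2.2.1 l3.2.1
    (hpair q hq q1 hq1Q (Ne.symm hq1q)) (hpair q hq q2 hq2 (Ne.symm hq2q))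
    (hpair q hq q3 hq3Q (Ne.symm h30)) with h | h | h
  · exact hq2e (h ▸ l2.2.2)
  · -- q3 on the line q q1 : look from q2
    have hq3e : q3 ∈ ln L q q1 := h ▸ l3.2.2
    exact no_three_external hα hL hH (hQH q2 hq2) l1.1 hq2e l1.2.1 l1.2.2 hq3e (Ne.symm hq1q)
      (Ne.symm h30) (Ne.symm h31) (hpair q2 hq2 q hq hq2q) (hpair q2 hq2 q1 hq1Q hq2q1)
      (hpair q2 hq2 q3 hq3Q (Ne.symm h32))
  · -- q3 on the line q q2 : look from q1
    have hq3e : q3 ∈ ln L q q2 := h ▸ l3.2.2
    exact no_three_external hα hL hH (hQH q1 hq1Q) l2.1 hq1e2 l2.2.1 l2.2.2 hq3e (Ne.symm hq2q)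
      (Ne.symm h30) (Ne.symm h32) (hpair q1 hq1Q q hq hq1q) (hpair q1 hq1Q q2 hq2 (Ne.symm hq2q1))
      (hpair q1 hq1Q q3 hq3Q (Ne.symm h31))

end


section
variable {α β : Type*} [Fintype α] [DecidableEq α] [Fintype β] [DecidableEq β]
  {L : Set (Finset α)} {L' : Set (Finset β)}

/-- a bijection between two hyperovals, given by plain functions -/
structure HBij (H : Finset α) (H' : Finset β) (s : α → β) (s' : β → α) : Prop where
  map : ∀ x ∈ H, s x ∈ H'
  map' : ∀ y ∈ H', s' y ∈ H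
  left : ∀ x ∈ H, s' (s x) = x
  right : ∀ y ∈ H', s (s' y) = y

theorem HBij.symm {H : Finset α} {H' : Finset β} {s : α → β} {s' : β → α}
    (h : HBij H H' s s') : HBij H' H s' s := ⟨h.map', h.map, h.right, h.left⟩

theorem HBij.inj {H : Finset α} {H' : Finset β} {s : α → β} {s' : β → α}
    (h : HBij H H' s s') {x y : α} (hx : x ∈ H) (hy : y ∈ H) (e : s x = s y) : x = y := by
  rw [← h.left x hx, e, h.left y hy]

open Classical in
/-- the extension of a bijection of hyperovals to the whole plane -/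
noncomputable def ext (L : Set (Finset α)) (L' : Set (Finset β)) (H : Finset α) (H' : Finset β)
    (s : α → β) (s' : β → α) (p : α) : β :=
  if p ∈ H then s p else
    if h : ∃ q, q ∉ H' ∧ ∀ y ∈ H', partner L' H' q y = s (partner L H p (s' y)) then
      Classical.choose h else s p

theorem ext_of_mem {H : Finset α} {H' : Finset β} {s : α → β} {s' : β → α} {p : α} (hp : p ∈ H) :
    ext L L' H H' s s' p = s p := by
  unfold ext; rw [if_pos hp]

theorem ext_spec (hα : Fintype.card α = 21) (hβ : Fintype.card β = 21)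
    (hL : IsSteinerSystem 2 5 L) (hL' : IsSteinerSystem 2 5 L') {H : Finset α} {H' : Finset β}
    (hH : IsHyperoval L H) (hH' : IsHyperoval L' H') {s : α → β} {s' : β → α}
    (hs : HBij H H' s s') {p : α} (hp : p ∉ H) :
    ext L L' H H' s s' p ∉ H' ∧
      ∀ y ∈ H', partner L' H' (ext L L' H H' s s' p) y = s (partner L H p (s' y)) := by
  have hμ : ∀ y ∈ H', s (partner L H p (s' y)) ∈ H' ∧ s (partner L H p (s' y)) ≠ y ∧
      s (partner L H p (s' (s (partner L H p (s' y))))) = y := by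
    intro y hy
    have hx := hs.map' y hy
    obtain ⟨h1, h2, h3⟩ := partner_spec hα hL hH hp hx
    refine ⟨hs.map _ h1, ?_, ?_⟩
    · intro e
      apply h2
      rw [← hs.left _ h1, e]
    · rw [hs.left _ h1, partner_partner hα hL hH hp hx, hs.right y hy]
  have h := exists_outside_of_invol hβ hL' hH' (μ := fun y => s (partner L H p (s' y))) hμ
  unfold ext
  rw [if_neg hp, dif_pos h]
  exact Classical.choose_spec h

theorem ext_spec' (hα : Fintype.card α = 21) (hβ : Fintype.card β = 21)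
    (hL : IsSteinerSystem 2 5 L) (hL' : IsSteinerSystem 2 5 L') {H : Finset α} {H' : Finset β}
    (hH : IsHyperoval L H) (hH' : IsHyperoval L' H') {s : α → β} {s' : β → α}
    (hs : HBij H H' s s') {p : α} (hp : p ∉ H) {x : α} (hx : x ∈ H) :
    partner L' H' (ext L L' H H' s s' p) (s x) = s (partner L H p x) := by
  rw [(ext_spec hα hβ hL hL' hH hH' hs hp).2 _ (hs.map x hx), hs.left x hx]

theorem ext_ext (hα : Fintype.card α = 21) (hβ : Fintype.card β = 21)
    (hL : IsSteinerSystem 2 5 L) (hL' : IsSteinerSystem 2 5 L') {H : Finset α} {H' : Finset β}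
    (hH : IsHyperoval L H) (hH' : IsHyperoval L' H') {s : α → β} {s' : β → α}
    (hs : HBij H H' s s') (p : α) :
    ext L' L H' H s' s (ext L L' H H' s s' p) = p := by
  by_cases hp : p ∈ H
  · rw [ext_of_mem hp, ext_of_mem (hs.map p hp), hs.left p hp]
  · obtain ⟨hq, hqs⟩ := ext_spec hα hβ hL hL' hH hH' hs hp
    obtain ⟨hp', hps⟩ := ext_spec hβ hα hL' hL hH' hH hs.symm hq
    refine outside_ext hα hL hH hp' hp ?_
    intro x hx
    rw [hps x hx, hqs _ (hs.map x hx), hs.left x hx, hs.left _ (partner_spec hα hL hH hp hx).1]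

/-- uniqueness: a line-preserving injection that agrees with `s` on the hyperoval is `ext` -/
theorem eq_ext (hα : Fintype.card α = 21) (hβ : Fintype.card β = 21)
    (hL : IsSteinerSystem 2 5 L) (hL' : IsSteinerSystem 2 5 L') {H : Finset α} {H' : Finset β}
    (hH : IsHyperoval L H) (hH' : IsHyperoval L' H') {s : α → β} {s' : β → α}
    (hs : HBij H H' s s') {e : α → β} (hinj : Function.Injective e)
    (hline : ∀ l ∈ L, l.image e ∈ L') (hes : ∀ x ∈ H, e x = s x) (p : α) :
    e p = ext L L' H H' s s' p := by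
  by_cases hp : p ∈ H
  · rw [ext_of_mem hp, hes p hp]
  · obtain ⟨hq, hqs⟩ := ext_spec hα hβ hL hL' hH hH' hs hp
    have hep : e p ∉ H' := by
      intro h
      have : e p = e (s' (e p)) := by rw [hes _ (hs.map' _ h), hs.right _ h]
      exact hp (hinj this ▸ hs.map' _ h)
    refine outside_ext hβ hL' hH' hep hq ?_
    intro y hy
    rw [hqs y hy]
    have hx := hs.map' y hy
    obtain ⟨h1, h2, h3⟩ := partner_spec hα hL hH hp hx
    have hpx : p ≠ s' y := fun h => hp (h ▸ hx)
    have hl := ln_spec hL hpx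
    have hl' := hline _ hl.1
    have hepy : e p ≠ y := fun h => hep (h ▸ hy)
    have hy' : e (s' y) ∈ (ln L p (s' y)).image e := Finset.mem_image_of_mem e hl.2.2
    rw [hes _ hx, hs.right y hy] at hy'
    have hle : (ln L p (s' y)).image e = ln L' (e p) y :=
      eq_ln hL' hepy hl' (Finset.mem_image_of_mem e hl.2.1) hy'
    refine partner_unique hβ hL' hH' hep hy (hs.map _ h1) ?_ ?_
    · intro h
      apply h2
      rw [← hs.left _ h1, h]
    · rw [← hle, ← hes _ h1]
      exact Finset.mem_image_of_mem e h3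


theorem ext_injective (hα : Fintype.card α = 21) (hβ : Fintype.card β = 21)
    (hL : IsSteinerSystem 2 5 L) (hL' : IsSteinerSystem 2 5 L') {H : Finset α} {H' : Finset β}
    (hH : IsHyperoval L H) (hH' : IsHyperoval L' H') {s : α → β} {s' : β → α}
    (hs : HBij H H' s s') : Function.Injective (ext L L' H H' s s') :=
  Function.LeftInverse.injective (ext_ext hα hβ hL hL' hH hH' hs)

/-- the extension maps lines to lines -/
theorem ext_line (hα : Fintype.card α = 21) (hβ : Fintype.card β = 21)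
    (hL : IsSteinerSystem 2 5 L) (hL' : IsSteinerSystem 2 5 L') {H : Finset α} {H' : Finset β}
    (hH : IsHyperoval L H) (hH' : IsHyperoval L' H') {s : α → β} {s' : β → α}
    (hs : HBij H H' s s') {l : Finset α} (hl : l ∈ L) :
    l.image (ext L L' H H' s s') ∈ L' := by
  have hinj := ext_injective hα hβ hL hL' hH hH' hs
  have hcard : (l.image (ext L L' H H' s s')).card = 5 := by
    rw [Finset.card_image_of_injective _ hinj, hL.1 l hl]
  by_cases hsec : ∃ x ∈ H, x ∈ l
  · obtain ⟨x, hx, hxl⟩ := hsec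
    obtain ⟨y, hy, hyx, hyl⟩ := exists_second hα hL hH hl hx hxl
    have hle : l = ln L x y := eq_ln hL hyx.symm hl hxl hyl
    have hsxy : s x ≠ s y := fun e => hyx.symm (hs.inj hx hy e)
    have l' := ln_spec hL' hsxy
    suffices hsub : l.image (ext L L' H H' s s') ⊆ ln L' (s x) (s y) by
      have := Finset.eq_of_subset_of_card_le hsub (by rw [hL'.1 _ l'.1, hcard])
      rw [this]; exact l'.1
    intro q hq
    obtain ⟨p, hp, rfl⟩ := Finset.mem_image.mp hq
    by_cases hpH : p ∈ H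
    · rw [ext_of_mem hpH]
      by_cases hpx : p = x
      · rw [hpx]; exact l'.2.1
      · have : y = p := hH.eq_of_mem hl hx hy hpH hxl hyl hp hyx.symm (Ne.symm hpx)
        rw [← this]; exact l'.2.2
    · obtain ⟨hqH, -⟩ := ext_spec hα hβ hL hL' hH hH' hs hpH
      have h1 : partner L H p x = y := (mem_ln_iff hα hL hH hpH hx hy hyx.symm).mp (hle ▸ hp)
      have h2 := ext_spec' hα hβ hL hL' hH hH' hs hpH hx
      exact (mem_ln_iff hβ hL' hH' hqH (hs.map x hx) (hs.map y hy) hsxy).mpr (by rw [h2, h1])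
  · push Not at hsec
    apply clique_line hβ hL' hH' hcard
    · intro q hq
      obtain ⟨p, hp, rfl⟩ := Finset.mem_image.mp hq
      have hpH : p ∉ H := fun h => hsec p h hp
      exact (ext_spec hα hβ hL hL' hH hH' hs hpH).1
    · intro q hq q' hq' hqq' y hy hyl
      obtain ⟨p, hp, rfl⟩ := Finset.mem_image.mp hq
      obtain ⟨p', hp', rfl⟩ := Finset.mem_image.mp hq'
      have hpH : p ∉ H := fun h => hsec p h hp
      have hp'H : p' ∉ H := fun h => hsec p' h hp'
      obtain ⟨hqH, hqs⟩ := ext_spec hα hβ hL hL' hH hH' hs hpH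
      obtain ⟨hq'H, hq's⟩ := ext_spec hα hβ hL hL' hH hH' hs hp'H
      have m := ln_spec hL' hqq'
      obtain ⟨y', hy', hy'y, hy'l⟩ := exists_second hβ hL' hH' m.1 hy hyl
      have hqy : ext L L' H H' s s' p ≠ y := fun e => hqH (e ▸ hy)
      have hq'y : ext L L' H H' s s' p' ≠ y := fun e => hq'H (e ▸ hy)
      have e1 := eq_ln hL' hqy m.1 m.2.1 hyl
      have e2 := eq_ln hL' hq'y m.1 m.2.2 hyl
      have a1 := partner_unique hβ hL' hH' hqH hy hy' hy'y (e1 ▸ hy'l)
      have a2 := partner_unique hβ hL' hH' hq'H hy hy' hy'y (e2 ▸ hy'l)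
      rw [hqs y hy] at a1
      rw [hq's y hy] at a2
      have hx := hs.map' y hy
      obtain ⟨z1, z2, -⟩ := partner_spec hα hL hH hpH hx
      have b : partner L H p (s' y) = partner L H p' (s' y) :=
        hs.inj z1 (partner_spec hα hL hH hp'H hx).1 (a1.trans a2.symm)
      have c1 : p ∈ ln L (s' y) (partner L H p (s' y)) :=
        (mem_ln_iff hα hL hH hpH hx z1 z2.symm).mpr rfl
      have c2 : p' ∈ ln L (s' y) (partner L H p (s' y)) :=
        (mem_ln_iff hα hL hH hp'H hx z1 z2.symm).mpr b.symm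
      have hpp' : p ≠ p' := fun e => hqq' (by rw [e])
      have hlz := ln_spec hL z2.symm
      have : l = ln L (s' y) (partner L H p (s' y)) := line_eq hL hl hlz.1 hpp' hp hp' c1 c2
      exact hsec _ hx (this ▸ hlz.2.1)

/-- a bijection between hyperovals of two planes of order 4 extends to an isomorphism -/
theorem exists_iso (hα : Fintype.card α = 21) (hβ : Fintype.card β = 21)
    (hL : IsSteinerSystem 2 5 L) (hL' : IsSteinerSystem 2 5 L') {H : Finset α} {H' : Finset β}
    (hH : IsHyperoval L H) (hH' : IsHyperoval L' H') {s : α → β} {s' : β → α}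
    (hs : HBij H H' s s') :
    ∃ e : α ≃ β, (∀ x ∈ H, e x = s x) ∧ (fun b => b.image e) '' L = L' := by
  refine ⟨⟨ext L L' H H' s s', ext L' L H' H s' s, ext_ext hα hβ hL hL' hH hH' hs,
    ext_ext hβ hα hL' hL hH' hH hs.symm⟩, fun x hx => ext_of_mem hx, ?_⟩
  ext l'
  simp only [Set.mem_image, Equiv.coe_fn_mk]
  constructor
  · rintro ⟨l, hl, rfl⟩
    exact ext_line hα hβ hL hL' hH hH' hs hl
  · intro hl'
    refine ⟨l'.image (ext L' L H' H s' s), ext_line hβ hα hL' hL hH' hH hs.symm hl', ?_⟩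
    rw [Finset.image_image]
    have : ext L L' H H' s s' ∘ ext L' L H' H s' s = id := by
      funext q; exact ext_ext hβ hα hL' hL hH' hH hs.symm q
    rw [this, Finset.image_id]

end

end Cfsg.Agent.Lib.Helper28.Plane4
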