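import Cfsg.Agent.Lib.Helper28.Plane4Model
import Cfsg.Agent.S5626
set_option autoImplicit false
set_option linter.unusedSectionVars false

/-!
Steiner systems S(3, 6, 22): two blocks meet in 0 or 2 points; a system on `Fin 22` whose derived
design at the last point is the concrete plane `L0` is one of the three systems `E i`.
-/

open Cfsg

namespace Cfsg.Agent.Lib.Helper28.S3622
open Cfsg.Agent.Lib.Helper28.GolayCode Cfsg.Agent.Lib.Helper28.FinMask
open Cfsg.Agent.Lib.Helper28.SteinerDerived Cfsg.Agent.Lib.Helper28.Plane4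
open Cfsg.Agent.Lib.Helper28.Plane4Model
open Cfsg.Agent.S5627

/-- two distinct blocks of a Steiner system with parameter `t` share fewer than `t` points -/
theorem inter_card_lt {α : Type*} [DecidableEq α] {t k : ℕ} {B : Set (Finset α)}
    (hB : IsSteinerSystem t k B) {b b' : Finset α} (hb : b ∈ B) (hb' : b' ∈ B) (hne : b ≠ b') :
    (b ∩ b').card < t := by
  by_contra h
  push Not at h
  obtain ⟨T, hT, hTc⟩ := Finset.exists_subset_card_eq h
  obtain ⟨c, -, huniq⟩ := hB.2 T hTc
  have h1 := huniq b ⟨hb, hT.trans Finset.inter_subset_left⟩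
  have h2 := huniq b' ⟨hb', hT.trans Finset.inter_subset_right⟩
  exact hne (h1.trans h2.symm)

/-- two distinct blocks of an S(3, 6, 22) meet in 0 or 2 points -/
theorem inter_card_S3622 {α : Type*} [Fintype α] [DecidableEq α] (hα : Fintype.card α = 22)
    {B : Set (Finset α)} (hB : IsSteinerSystem 3 6 B) {b b' : Finset α} (hb : b ∈ B)
    (hb' : b' ∈ B) (hne : b ≠ b') : (b ∩ b').card = 0 ∨ (b ∩ b').card = 2 := by
  have h3 := inter_card_lt hB hb hb' hne
  by_cases h0 : (b ∩ b').card = 0
  · exact Or.inl h0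
  right
  obtain ⟨x, hx⟩ := Finset.card_pos.mp (Nat.pos_of_ne_zero h0)
  rw [Finset.mem_inter] at hx
  have hγ : Fintype.card {y : α // y ≠ x} = 21 := by rw [card_pt, hα]
  have hD : IsSteinerSystem 2 5 (der B x) := isSteiner_der (t := 2) (k := 5) hB x
  have hl := subtype_mem_der hb hx.1
  have hl' := subtype_mem_der hb' hx.2
  obtain ⟨y, hy⟩ := lines_meet hγ hD hl hl'
  rw [Finset.mem_inter, Finset.mem_subtype, Finset.mem_subtype] at hy
  have hsub : ({x, y.val} : Finset α) ⊆ b ∩ b' := by
    intro z hz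
    simp only [Finset.mem_insert, Finset.mem_singleton] at hz
    rcases hz with rfl | rfl
    · exact Finset.mem_inter.mpr hx
    · exact Finset.mem_inter.mpr hy
  have := Finset.card_le_card hsub
  rw [Finset.card_pair (Ne.symm y.2)] at this
  omega

theorem card_lower {v : ℕ} {c : Finset (Fin (v + 1))} (h : Fin.last v ∉ c) :
    (lower c).card = c.card := by
  rw [← card_emb, emb_lower h]

section classify
variable {E' : Set (Finset (Fin 22))} (hE : IsSteinerSystem 3 6 E')
  (h0 : ∀ b : Finset (Fin 21), liftLast b ∈ E' ↔ b ∈ L0)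
include hE h0

theorem lower_mem_L0 {c : Finset (Fin 22)} (hc : c ∈ E') (hl : Fin.last 21 ∈ c) :
    lower c ∈ L0 := by
  rw [← h0, liftLast_lower hl]; exact hc

theorem isHyperoval_lower {c : Finset (Fin 22)} (hc : c ∈ E') (hl : Fin.last 21 ∉ c) :
    IsHyperoval L0 (lower c) := by
  refine ⟨by rw [card_lower hl]; exact hE.1 c hc, ?_⟩
  intro l hlL
  have hl' : liftLast l ∈ E' := (h0 l).mpr hlL
  have hne : liftLast l ≠ c := by
    intro e
    apply hl
    rw [← e, liftLast_eq]
    exact Finset.mem_insert_self _ _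
  have h3 := inter_card_lt hE hl' hc hne
  have hsub : emb (l ∩ lower c) ⊆ liftLast l ∩ c := by
    rw [emb_inter, emb_lower hl, liftLast_eq]
    exact Finset.inter_subset_inter_right (Finset.subset_insert _ _)
  have := Finset.card_le_card hsub
  rw [card_emb] at this
  omega

theorem inter_even {c c' : Finset (Fin 22)} (hc : c ∈ E') (hc' : c' ∈ E')
    (hl : Fin.last 21 ∉ c) (_hl' : Fin.last 21 ∉ c') : (lower c ∩ lower c').card % 2 = 0 := by
  have hcard : (lower c ∩ lower c').card = (c ∩ c').card := by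
    rw [← lower_inter, card_lower]
    intro h
    exact hl (Finset.mem_inter.mp h).1
  rw [hcard]
  by_cases hne : c = c'
  · rw [hne, Finset.inter_self, hE.1 c' hc']
  · rcases inter_card_S3622 (Fintype.card_fin 22) hE hc hc' hne with h | h <;> rw [h]

/-- a triangle inside a hyperoval lies in a block missing the last point -/
theorem exists_block_of_hyperoval {K : Finset (Fin 21)} (hK : IsHyperoval L0 K) :
    ∃ c ∈ E', Fin.last 21 ∉ c ∧ 3 ≤ (K ∩ lower c).card := by
  obtain ⟨T, hT, hTc⟩ := Finset.exists_subset_card_eq (show 3 ≤ K.card by rw [hK.card]; norm_num)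
  obtain ⟨c, ⟨hc, hTsub⟩, -⟩ := hE.2 (emb T) (by rw [card_emb, hTc])
  have hTl : T ⊆ lower c := by
    intro i hi
    exact mem_lower.mpr (hTsub (castSucc_mem_emb.mpr hi))
  have h3 : 3 ≤ (K ∩ lower c).card := by
    rw [← hTc]
    exact Finset.card_le_card (Finset.subset_inter hT hTl)
  refine ⟨c, hc, ?_, h3⟩
  intro hl
  have := hK.indep _ (lower_mem_L0 hE h0 hc hl)
  rw [Finset.inter_comm] at this
  omega

theorem eq_E : ∃ i < 3, E' = E i := by
  -- a first block off the last point
  obtain ⟨p1, hp1⟩ : ∃ p, p ∈ hypAll := ⟨_, List.head_mem (l := hypAll) (by decide)⟩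
  obtain ⟨c1, hc1, hl1, -⟩ := exists_block_of_hyperoval hE h0 (isHyperoval_fset hp1)
  obtain ⟨q1, hq1, e1⟩ := exists_mask_of_hyperoval (isHyperoval_lower hE h0 hc1 hl1)
  refine ⟨q1.2, (hyp_lt q1 hq1).2, ?_⟩
  -- classes of the blocks off the last point
  have hcls : ∀ c ∈ E', Fin.last 21 ∉ c → ∀ p ∈ hypAll, lower c = fset 21 p.1 → p.2 = q1.2 := by
    intro c hc hl p hp e
    have := inter_even hE h0 hc hc1 hl hl1
    rw [e, e1] at this
    exact (inter_parity hp hq1).mp this
  ext s
  constructor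
  · intro hs
    by_cases hl : Fin.last 21 ∈ s
    · obtain ⟨m, hm, e⟩ := lower_mem_L0 hE h0 hs hl
      left
      refine ⟨m, hm, ?_⟩
      rw [← liftLast_fset 21 m (lineMasks_lt m hm), ← e, liftLast_lower hl]
    · obtain ⟨p, hp, e⟩ := exists_mask_of_hyperoval (isHyperoval_lower hE h0 hs hl)
      right
      refine ⟨p, hp, hcls s hs hl p hp e, ?_⟩
      rw [← emb_fset 21 p.1 (hyp_lt p hp).1, ← e, emb_lower hl]
  · rintro (⟨m, hm, rfl⟩ | ⟨p, hp, hpi, rfl⟩)
    · rw [← liftLast_fset 21 m (lineMasks_lt m hm)]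
      exact (h0 _).mpr ⟨m, hm, rfl⟩
    · have hK := isHyperoval_fset hp
      obtain ⟨c, hc, hl, h3⟩ := exists_block_of_hyperoval hE h0 hK
      have hK' := isHyperoval_lower hE h0 hc hl
      obtain ⟨q, hq, e⟩ := exists_mask_of_hyperoval hK'
      have hq2 : q.2 = q1.2 := hcls c hc hl q hq e
      have hpar : (fset 21 p.1 ∩ lower c).card % 2 = 0 := by
        rw [e]; exact (inter_parity hp hq).mpr (by rw [hpi, hq2])
      have h4 : 4 ≤ (fset 21 p.1 ∩ lower c).card := by omega
      obtain ⟨S, hS, hSc⟩ := Finset.exists_subset_card_eq h4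
      have hSI : Indep L0 S := hK.indep.mono (hS.trans Finset.inter_subset_left)
      obtain ⟨H, -, huniq⟩ := hyperoval_unique card_fin21 isSteiner_L0 hSI hSc
      have a1 := huniq (fset 21 p.1) ⟨⟨hK.card, hK.indep⟩, hS.trans Finset.inter_subset_left⟩
      have a2 := huniq (lower c) ⟨⟨hK'.card, hK'.indep⟩, hS.trans Finset.inter_subset_right⟩
      have : fset 22 p.1 = c := by
        rw [← emb_fset 21 p.1 (hyp_lt p hp).1, a1, ← a2, emb_lower hl]
      rw [this]; exact hc

end classify

/-- every S(3, 6, 22) is isomorphic to the standard one -/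
theorem iso_standard {α : Type*} [Fintype α] [DecidableEq α] (hα : Fintype.card α = 22)
    {B : Set (Finset α)} (hB : IsSteinerSystem 3 6 B) : SetSystemIso B (E 0) := by
  obtain ⟨E', hiso, hE, h0⟩ := exists_normalized (t := 2) (k := 5) (v := 21) hα hB L0 (by
    intro x D hD
    have hγ : Fintype.card {y : α // y ≠ x} = 21 := by rw [card_pt, hα]
    exact Cfsg.Agent.S5626.result hγ card_fin21 hD isSteiner_L0)
  obtain ⟨i, hi, rfl⟩ := eq_E hE h0
  exact iso_trans hiso (iso_E_zero hi)

end Cfsg.Agent.Lib.Helper28.S3622
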