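import Cfsg.Agent.Lib.Helper28.TC2GlueOrb
set_option autoImplicit false

/-!
# Simplicity of a presented group from a primitive action and a collapsing quotient
-/

namespace Cfsg.Agent.Lib.Helper28.TC2Simple
open Cfsg.Agent.Lib.Helper28.TC2Upper Cfsg.Agent.Lib.Helper28.TC2Lower Cfsg.Agent.Lib.Helper28.TC2Glue
open Cfsg.Agent.Lib.Helper28.TC2Orbit Cfsg.Agent.Lib.Helper28.TC2GlueOrb

section Abstract
variable {G : Type*} [Group G]

/-- a finite group with a core-free maximal subgroup `H` is simple as soon as some element of prime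
order `p`, with `p` not dividing the order of `H`, normally generates the group -/
theorem isSimpleGroup_of_max [Finite G] (H : Subgroup G)
    (hcore : H.normalCore = ⊥) (hne : H ≠ ⊤)
    (hmax : ∀ K : Subgroup G, H ≤ K → K = H ∨ K = ⊤)
    (p : ℕ) (hp : p.Prime) (hpH : ¬ p ∣ Nat.card H) (t : G) (ht : t ^ p = 1)
    (hcl : Subgroup.normalClosure {t} = ⊤) : IsSimpleGroup G := by
  have : Nontrivial G := by
    by_contra h
    rw [not_nontrivial_iff_subsingleton] at h
    exact hne (Subsingleton.elim _ _)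
  refine ⟨fun N hN => ?_⟩
  by_contra hcon
  rw [not_or] at hcon
  obtain ⟨hbot, htop⟩ := hcon
  have hNH : ¬ N ≤ H := by
    intro h
    apply hbot
    have : N ≤ H.normalCore := (Subgroup.normal_le_normalCore).mpr h
    rw [hcore] at this
    exact le_bot_iff.mp this
  have hsup : H ⊔ N = ⊤ := by
    rcases hmax (H ⊔ N) le_sup_left with h | h
    · exact absurd (h ▸ le_sup_right) hNH
    · exact h
  have hsurj : Function.Surjective ((QuotientGroup.mk' N).comp H.subtype) := by
    intro q
    obtain ⟨g, rfl⟩ := QuotientGroup.mk'_surjective N q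
    have hg : g ∈ H ⊔ N := by rw [hsup]; exact Subgroup.mem_top g
    rw [← SetLike.mem_coe, Subgroup.mul_normal] at hg
    obtain ⟨h, hh, n, hn, rfl⟩ := Set.mem_mul.mp hg
    refine ⟨⟨h, hh⟩, ?_⟩
    show (QuotientGroup.mk' N) h = (QuotientGroup.mk' N) (h * n)
    have hn1 : (QuotientGroup.mk' N) n = 1 := (QuotientGroup.eq_one_iff n).mpr hn
    rw [map_mul, hn1, mul_one]
  have hdvd : Nat.card (G ⧸ N) ∣ Nat.card H := Subgroup.card_dvd_of_surjective _ hsurj
  have ht' : ((QuotientGroup.mk' N) t) ^ p = 1 := by rw [← map_pow, ht, map_one]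
  have hord : orderOf ((QuotientGroup.mk' N) t) ∣ p := orderOf_dvd_of_pow_eq_one ht'
  have hord2 : orderOf ((QuotientGroup.mk' N) t) ∣ Nat.card (G ⧸ N) := orderOf_dvd_natCard _
  rcases (Nat.dvd_prime hp).mp hord with h1 | h1
  · rw [orderOf_eq_one_iff] at h1
    have htN : t ∈ N := (QuotientGroup.eq_one_iff t).mp h1
    apply htop
    rw [eq_top_iff, ← hcl]
    exact Subgroup.normalClosure_le_normal (Set.singleton_subset_iff.mpr htN)
  · rw [h1] at hord2
    exact hpH (dvd_trans hord2 hdvd)

/-- a faithful action on the cosets of `H` makes `H` core-free -/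
theorem normalCore_eq_bot (H : Subgroup G) {n : ℕ} (φ : G →* Equiv.Perm (Fin n))
    (f : G ⧸ H → Fin n) (hf : Function.Surjective f) (hequiv : ∀ g q, f (g • q) = φ g (f q))
    (hφ : Function.Injective φ) : H.normalCore = ⊥ := by
  rw [eq_bot_iff]
  intro g hg
  rw [Subgroup.mem_bot]
  apply hφ
  rw [map_one]
  ext p
  obtain ⟨q, rfl⟩ := hf p
  induction q using QuotientGroup.induction_on with
  | H x =>
    rw [← hequiv]
    have h1 : x⁻¹ * g * x ∈ H := by
      have := (Subgroup.normalCore_normal H).conj_mem g hg x⁻¹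
      rw [inv_inv] at this
      exact Subgroup.normalCore_le H this
    have : g • (QuotientGroup.mk x : G ⧸ H) = QuotientGroup.mk x := by
      show (QuotientGroup.mk (g * x) : G ⧸ H) = QuotientGroup.mk x
      rw [eq_comm, QuotientGroup.eq]
      have e : x⁻¹ * (g * x) = x⁻¹ * g * x := by group
      rw [e]; exact h1
    rw [this]; rfl

/-- an element whose coset lies in the `H`-orbit of the coset of an element of `K ≥ H` lies in `K` -/
theorem mem_of_same_orbit (H K : Subgroup G) (hHK : H ≤ K) {n : ℕ} (φ : G →* Equiv.Perm (Fin n))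
    (f : G ⧸ H → Fin n) (hf : Function.Injective f) (hequiv : ∀ g q, f (g • q) = φ g (f q))
    {x y : G} (hx : x ∈ K)
    (h : ∃ π ∈ H.map φ, π (f (QuotientGroup.mk x)) = f (QuotientGroup.mk y)) : y ∈ K := by
  obtain ⟨π, ⟨h0, hh0, rfl⟩, hπ⟩ := h
  rw [← hequiv] at hπ
  have e := hf hπ
  have e' : (QuotientGroup.mk (h0 * x) : G ⧸ H) = QuotientGroup.mk y := e
  rw [QuotientGroup.eq] at e'
  have : y = h0 * x * ((h0 * x)⁻¹ * y) := by group
  rw [this]
  exact K.mul_mem (K.mul_mem (hHK hh0) hx) (hHK e')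

/-- injectivity from cardinalities -/
theorem injective_of_card_le [Finite G] {P : Type*} [Group P] (φ : G →* P) {N : ℕ}
    (hG : Nat.card G ≤ N) (hr : N ≤ Nat.card φ.range) : Function.Injective φ ∧ Nat.card G = N := by
  have h1 : Nat.card φ.range ≤ Nat.card G :=
    Nat.card_le_card_of_surjective φ.rangeRestrict φ.rangeRestrict_surjective
  have hcard : Nat.card G = Nat.card φ.range := le_antisymm (le_trans hG hr) h1
  refine ⟨?_, le_antisymm hG (le_trans hr h1)⟩
  have hbij : Function.Bijective φ.rangeRestrict := by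
    rw [Nat.bijective_iff_surjective_and_card]
    exact ⟨φ.rangeRestrict_surjective, hcard⟩
  intro a b hab
  apply hbij.1
  exact Subtype.ext hab

end Abstract

section Rank3
variable {G : Type*} [Group G]

/-- maximality of a subgroup from a rank 3 action: the two nontrivial suborbits generate each other -/
theorem max_of_rank3 (H : Subgroup G) {n : ℕ} (φ : G →* Equiv.Perm (Fin n))
    (f : G ⧸ H → Fin n) (hf : Function.Injective f) (hequiv : ∀ g q, f (g • q) = φ g (f q))
    (cls : Fin n → ℕ)
    (horb : ∀ p q, cls p = cls q → ∃ π ∈ H.map φ, π p = q)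
    (g0 y h : G) (hh : h ∈ H) (c1 c2 : ℕ)
    (hcls : ∀ x : G, x ∉ H → cls (f (QuotientGroup.mk x)) = c1 ∨ cls (f (QuotientGroup.mk x)) = c2)
    (hg0 : cls (f (QuotientGroup.mk g0)) = c1) (hy : cls (f (QuotientGroup.mk y)) = c2)
    (hz : cls (f (QuotientGroup.mk (y * h * y))) = c1)
    (hgen : ∀ K : Subgroup G, H ≤ K → g0 ∈ K → K = ⊤) :
    ∀ K : Subgroup G, H ≤ K → K = H ∨ K = ⊤ := by
  intro K hHK
  by_cases hK : K ≤ H
  · exact Or.inl (le_antisymm hK hHK)
  · right
    obtain ⟨x, hxK, hxH⟩ := SetLike.not_le_iff_exists.mp hK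
    apply hgen K hHK
    rcases hcls x hxH with h1 | h2
    · exact mem_of_same_orbit H K hHK φ f hf hequiv hxK (horb _ _ (h1.trans hg0.symm))
    · have hyK : y ∈ K := mem_of_same_orbit H K hHK φ f hf hequiv hxK (horb _ _ (h2.trans hy.symm))
      have hzK : y * h * y ∈ K := K.mul_mem (K.mul_mem hyK (hHK hh)) hyK
      exact mem_of_same_orbit H K hHK φ f hf hequiv hzK (horb _ _ (hz.trans hg0.symm))

end Rank3

section Pres
variable {α : Type}

theorem mk_pow (L : List (α × Bool)) (m : ℕ) :
    (FreeGroup.mk L) ^ m = FreeGroup.mk (List.replicate m L).flatten := by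
  induction m with
  | zero => rfl
  | succ m ih =>
    rw [pow_succ', ih, List.replicate_succ, List.flatten_cons, ← FreeGroup.mul_mk]

/-- if adding the relator `w` makes a presented group trivial, then `w` normally generates it -/
theorem normalClosure_eq_top_of_subsingleton (rels rels' : Set (FreeGroup α)) (w : FreeGroup α)
    (h : ∀ r ∈ rels', r ∈ rels ∨ r = w) [Subsingleton (PresentedGroup rels')] :
    Subgroup.normalClosure {PresentedGroup.mk rels w} = ⊤ := by
  set N : Subgroup (PresentedGroup rels) := Subgroup.normalClosure {PresentedGroup.mk rels w} with hN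
  have key : FreeGroup.lift (fun x => (QuotientGroup.mk' N) (PresentedGroup.of x : PresentedGroup rels)) =
      (QuotientGroup.mk' N).comp (PresentedGroup.mk rels) := by
    ext x
    simp [PresentedGroup.of]
  have h1 : ∀ r ∈ rels', FreeGroup.lift
      (fun x => (QuotientGroup.mk' N) (PresentedGroup.of x : PresentedGroup rels)) r = 1 := by
    intro r hr
    rw [key, MonoidHom.comp_apply]
    rcases h r hr with h2 | rfl
    · rw [PresentedGroup.one_of_mem h2, map_one]
    · rw [QuotientGroup.mk'_apply, QuotientGroup.eq_one_iff]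
      exact Subgroup.subset_normalClosure (Set.mem_singleton _)
  let ψ : PresentedGroup rels' →* PresentedGroup rels ⧸ N := PresentedGroup.toGroup h1
  have hψ : ∀ z : FreeGroup α, ψ (PresentedGroup.mk rels' z) = (QuotientGroup.mk' N) (PresentedGroup.mk rels z) := by
    intro z
    have : ψ (PresentedGroup.mk rels' z) = FreeGroup.lift
        (fun x => (QuotientGroup.mk' N) (PresentedGroup.of x : PresentedGroup rels)) z := rfl
    rw [this, key, MonoidHom.comp_apply]
  rw [eq_top_iff]
  intro g _
  induction g using PresentedGroup.induction_on with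
  | H z =>
    have e : ψ (PresentedGroup.mk rels' z) = ψ 1 := by
      rw [Subsingleton.elim (PresentedGroup.mk rels' z) 1]
    rw [hψ, map_one, QuotientGroup.mk'_apply, QuotientGroup.eq_one_iff] at e
    exact e

variable {rels S : Set (FreeGroup α)} {relWords subWords : List (List (α × Bool))}
  {lw : α × Bool → ℕ} {dec : ℕ → α × Bool} {D : Data} {T : Table}

theorem sigma_lw (hL : Link rels S relWords subWords lw dec D T) (hT : T.OK) (x : α) (b : Bool) :
    Table.sigma hT (lw (x, b)) =
      cond b (Table.sigma hT (lw (x, true))) (Table.sigma hT (lw (x, true)))⁻¹ := by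
  cases b with
  | true => rfl
  | false =>
    show Table.sigma hT (lw (x, false)) = (Table.sigma hT (lw (x, true)))⁻¹
    rw [hL.lwinv, ← hL.Tinv, Table.sigma_inv hT (by rw [hL.Tk]; exact hL.lwk _)]

/-- the value of the permutation representation on a word -/
theorem phi_mk (hL : Link rels S relWords subWords lw dec D T) (hT : T.OK)
    (φ : PresentedGroup rels →* Equiv.Perm (Fin T.n))
    (hφ : ∀ x, φ (PresentedGroup.of x) = Table.sigma hT (lw (x, true))) (L : List (α × Bool)) :
    φ (PresentedGroup.mk rels (FreeGroup.mk L)) = pathProd (Table.sigma hT) (pathOf lw L) := by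
  have hcomp : φ.comp (PresentedGroup.mk rels) = FreeGroup.lift (fun x => Table.sigma hT (lw (x, true))) := by
    apply FreeGroup.ext_hom
    intro x
    rw [MonoidHom.comp_apply, FreeGroup.lift_apply_of]
    exact hφ x
  rw [← MonoidHom.comp_apply, hcomp]
  exact lift_mk_eq_pathProd _ lw _ (sigma_lw hL hT) L

theorem lt_of_mem_pathOf (hL : Link rels S relWords subWords lw dec D T) (L : List (α × Bool)) :
    ∀ l ∈ pathOf lw L, l < T.k := by
  intro l hl
  unfold pathOf at hl
  rw [List.mem_reverse, List.mem_map] at hl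
  obtain ⟨xb, _, rfl⟩ := hl
  rw [hL.Tk]; exact hL.lwk _

theorem phi_mk_apply (hL : Link rels S relWords subWords lw dec D T) (hT : T.OK)
    (φ : PresentedGroup rels →* Equiv.Perm (Fin T.n))
    (hφ : ∀ x, φ (PresentedGroup.of x) = Table.sigma hT (lw (x, true))) (L : List (α × Bool))
    (p : Fin T.n) :
    (φ (PresentedGroup.mk rels (FreeGroup.mk L)) p).val = T.walkT (pathOf lw L) p.val := by
  rw [phi_mk hL hT φ hφ, Table.pathProd_sigma_apply hT _ (lt_of_mem_pathOf hL L)]

/-- a word acting trivially on all points lies in the kernel -/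
theorem phi_mk_eq_one (hL : Link rels S relWords subWords lw dec D T) (hT : T.OK)
    (φ : PresentedGroup rels →* Equiv.Perm (Fin T.n))
    (hφ : ∀ x, φ (PresentedGroup.of x) = Table.sigma hT (lw (x, true))) (L : List (α × Bool))
    (h : ∀ p, p < T.n → T.walkT (pathOf lw L) p = p) :
    φ (PresentedGroup.mk rels (FreeGroup.mk L)) = 1 := by
  ext p
  rw [phi_mk_apply hL hT φ hφ, h p.val p.2]
  rfl

theorem sigma_mem_range (hL : Link rels S relWords subWords lw dec D T) (hT : T.OK)
    (φ : PresentedGroup rels →* Equiv.Perm (Fin T.n))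
    (hφ : ∀ x, φ (PresentedGroup.of x) = Table.sigma hT (lw (x, true))) (l : ℕ) (hl : l < T.k) :
    Table.sigma hT l ∈ φ.range := by
  rw [hL.Tk] at hl
  rcases hxb : dec l with ⟨x, b⟩
  have hl' : lw (x, b) = l := by rw [← hxb]; exact hL.d1 l hl
  rw [← hl', sigma_lw hL hT]
  cases b with
  | true => exact ⟨PresentedGroup.of x, hφ x⟩
  | false => exact ⟨(PresentedGroup.of x)⁻¹, by rw [map_inv, hφ]; rfl⟩

/-- the point of the coset of a word -/
theorem f_mk (hL : Link rels S relWords subWords lw dec D T) (hT : T.OK) (hn : 0 < T.n)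
    (φ : PresentedGroup rels →* Equiv.Perm (Fin T.n))
    (hφ : ∀ x, φ (PresentedGroup.of x) = Table.sigma hT (lw (x, true)))
    (f : PresentedGroup rels ⧸ (Subgroup.closure S).map (PresentedGroup.mk rels) → Fin T.n)
    (hequiv : ∀ g q, f (g • q) = φ g (f q)) (h0 : f (QuotientGroup.mk 1) = ⟨0, hn⟩)
    (L : List (α × Bool)) :
    (f (QuotientGroup.mk (PresentedGroup.mk rels (FreeGroup.mk L)))).val = T.walkT (pathOf lw L) 0 := by
  have e : (QuotientGroup.mk (PresentedGroup.mk rels (FreeGroup.mk L)) :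
      PresentedGroup rels ⧸ (Subgroup.closure S).map (PresentedGroup.mk rels)) =
      (PresentedGroup.mk rels (FreeGroup.mk L)) • (QuotientGroup.mk 1 : PresentedGroup rels ⧸ _) := by
    show _ = (QuotientGroup.mk (PresentedGroup.mk rels (FreeGroup.mk L) * 1) : _ ⧸ _)
    rw [mul_one]
  rw [e, hequiv, h0, phi_mk_apply hL hT φ hφ]

/-- points with the same orbit number are conjugate under the image of the subgroup -/
theorem exists_perm_of_oid_eq (hL : Link rels S relWords subWords lw dec D T) (hT : T.OK)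
    (φ : PresentedGroup rels →* Equiv.Perm (Fin T.n))
    (hφ : ∀ x, φ (PresentedGroup.of x) = Table.sigma hT (lw (x, true)))
    (O : OrbData) (subPaths : List (List ℕ)) (h1 : ∀ L ∈ subWords, pathOf lw L ∈ subPaths)
    (h2 : ∀ s ∈ subPaths, ∃ L ∈ subWords, s = pathOf lw L)
    (hclosed : ∀ p, p < T.n → ∀ s ∈ subPaths, O.oid (T.walkT s p) = O.oid p)
    (hgens : BT.All (fun s => s ∈ subPaths) O.gens)
    (hconn : ∀ p, p < T.n →
      (O.depth p = 0 ∧ O.roots.look (O.oid p) = p) ∨
      (O.depth p ≠ 0 ∧ O.parent p < T.n ∧ O.oid (O.parent p) = O.oid p ∧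
        O.depth (O.parent p) + 1 = O.depth p ∧ T.walkT (O.gens.look (O.gen p)) (O.parent p) = p))
    (p q : Fin T.n) (hpq : O.oid p.val = O.oid q.val) :
    ∃ π ∈ ((Subgroup.closure S).map (PresentedGroup.mk rels)).map φ, π p = q := by
  have hlt : ∀ s ∈ subPaths, ∀ l ∈ s, l < T.k := by
    intro s hs l hl
    obtain ⟨L, _, rfl⟩ := h2 s hs
    exact lt_of_mem_pathOf hL L l hl
  rw [map_eq_permGroup hL hT φ hφ subPaths h1 h2]
  have := orbit_eq hT hlt hclosed hgens hconn p
  have hq : q ∈ {q : Fin T.n | O.oid q.val = O.oid p.val} := hpq.symm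
  rw [← this] at hq
  obtain ⟨π, hπ, e⟩ := hq
  exact ⟨π, hπ, e.symm⟩

end Pres

section Classes

/-- the orbit numbers of the points `lo, …, lo + cnt - 1` are smaller than `m` -/
noncomputable def clsOK (O : OrbData) (m lo cnt : ℕ) : Bool :=
  allLoop (fun i => Nat.blt (O.oid (Nat.add lo i)) m) cnt

theorem clsOK_iff (O : OrbData) (m lo cnt : ℕ) :
    clsOK O m lo cnt = true ↔ ∀ p, lo ≤ p → p < lo + cnt → O.oid p < m := by
  unfold clsOK
  rw [allLoop_eq_true]
  constructor
  · intro h p h1 h2
    have := h (p - lo) (by omega)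
    rw [show Nat.add lo (p - lo) = p by simp only [Nat.add_eq]; omega] at this
    simpa [Nat.blt_eq] using this
  · intro h i hi
    have := h (Nat.add lo i) (by simp only [Nat.add_eq]; omega) (by simp only [Nat.add_eq]; omega)
    simpa [Nat.blt_eq] using this

theorem eq_zero_of_oid (O : OrbData) {n : ℕ} (hn : 0 < n) (c : ℕ) (h0 : O.oid 0 = c)
    (hc : O.count n c = 1) (p : Fin n) (hp : O.oid p.val = c) : p = ⟨0, hn⟩ := by
  have h := ncard_class O n c
  rw [hc] at h
  obtain ⟨a, ha⟩ := Set.ncard_eq_one.mp h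
  have h1 : p ∈ {q : Fin n | O.oid q.val = c} := hp
  have h2 : (⟨0, hn⟩ : Fin n) ∈ {q : Fin n | O.oid q.val = c} := h0
  rw [ha, Set.mem_singleton_iff] at h1 h2
  rw [h1, h2]

/-- the class of a coset other than the subgroup itself, in a rank 3 action -/
theorem cls_of_not_mem {G : Type*} [Group G] (H : Subgroup G) {n : ℕ} (hn : 0 < n)
    (f : G ⧸ H → Fin n) (hf : Function.Injective f) (h0 : f (QuotientGroup.mk 1) = ⟨0, hn⟩)
    (O : OrbData) (hlt : ∀ p, p < n → O.oid p < 3) (h00 : O.oid 0 = 0) (hc : O.count n 0 = 1)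
    (x : G) (hx : x ∉ H) :
    O.oid (f (QuotientGroup.mk x)).val = 1 ∨ O.oid (f (QuotientGroup.mk x)).val = 2 := by
  have h3 := hlt (f (QuotientGroup.mk x)).val (f (QuotientGroup.mk x)).2
  have hne : O.oid (f (QuotientGroup.mk x)).val ≠ 0 := by
    intro e
    have := eq_zero_of_oid O hn 0 h00 hc _ e
    rw [← h0] at this
    have e2 := hf this
    rw [QuotientGroup.eq, mul_one] at e2
    exact hx (by simpa using H.inv_mem e2)
  omega

end Classes

end Cfsg.Agent.Lib.Helper28.TC2Simple
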