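import Mathlib
import Cfsg.Prelude.Def_KGroupFacts
import Cfsg.Agent.Lib.Helper21.SchurMult
import Cfsg.Agent.Lib.Helper3.Schur.Basic

set_option autoImplicit false

/-!
# Trivial Schur multipliers: reductions

* `TrivMult G`: every finite stem extension of `G` is an isomorphism;
* reduction to stem extensions whose kernel has prime exponent;
* the transfer argument for subgroups of index prime to `p`;
* retractions of the preimage of a subgroup onto the kernel, from a perfect subgroup with trivial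
  multiplier or from a cyclic subgroup of order prime to `p`.
-/

namespace Cfsg.Agent.Lib.Helper28.SchurFox

universe u

open Subgroup
open scoped commutatorElement

/-- every finite stem extension of `G` has trivial kernel -/
def TrivMult (G : Type u) [Group G] : Prop :=
  ∀ (Γ : Type u) [Group Γ] [Finite Γ] (σ : Γ →* G), Cfsg.IsStemExtension σ → σ.ker = ⊥

theorem hasCyclic_of_trivMult {G : Type u} [Group G] [Finite G] (h : TrivMult G) :
    Cfsg.HasCyclicSchurMultiplier G 1 :=
  Cfsg.Agent.Lib.Helper21.hasCyclicSchurMultiplier_one_of h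

theorem TrivMult.congr {G G' : Type u} [Group G] [Group G'] (e : G ≃* G') (h : TrivMult G) :
    TrivMult G' := by
  intro Γ _ _ σ hσ
  have hker : (e.symm.toMonoidHom.comp σ).ker = σ.ker := by
    ext x
    simp [MonoidHom.mem_ker]
  have := h Γ (e.symm.toMonoidHom.comp σ) ⟨e.symm.surjective.comp hσ.1, by rw [hker]; exact hσ.2.1,
    by rw [hker]; exact hσ.2.2⟩
  rwa [hker] at this

/-- it suffices to treat the stem extensions whose kernel has prime exponent -/
theorem trivMult_of_exp {G : Type u} [Group G]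
    (h : ∀ p : ℕ, p.Prime → ∀ (Γ : Type u) [Group Γ] [Finite Γ] (σ : Γ →* G), Cfsg.IsStemExtension σ →
      (∀ a ∈ σ.ker, a ^ p = 1) → σ.ker = ⊥) : TrivMult G := by
  intro Γ _ _ σ hσ
  by_contra hne
  have hcard : Nat.card σ.ker ≠ 1 := fun h1 => hne (Subgroup.eq_bot_of_card_eq _ h1)
  obtain ⟨p, hp, hpd⟩ := Nat.exists_prime_and_dvd hcard
  have : Fact p.Prime := Fact.mk hp
  obtain ⟨a0, ha0⟩ := exists_prime_orderOf_dvd_card' (G := σ.ker) p hpd
  have hcen : ∀ a ∈ σ.ker, ∀ g : Γ, g * a = a * g := fun a ha g => mem_center_iff.mp (hσ.2.1 ha) g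
  -- the subgroup of `p`-th powers
  let B : Subgroup Γ :=
    { carrier := {b | ∃ a ∈ σ.ker, a ^ p = b}
      one_mem' := ⟨1, one_mem _, one_pow _⟩
      mul_mem' := by
        rintro _ _ ⟨a, ha, rfl⟩ ⟨a', ha', rfl⟩
        refine ⟨a * a', mul_mem ha ha', ?_⟩
        exact (show Commute a a' from (hcen a' ha' a)).mul_pow p
      inv_mem' := by
        rintro _ ⟨a, ha, rfl⟩
        exact ⟨a⁻¹, inv_mem ha, inv_pow a p⟩ }
  have hBker : B ≤ σ.ker := by
    rintro _ ⟨a, ha, rfl⟩
    exact pow_mem ha p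
  have hBn : B.Normal := by
    constructor
    intro b hb g
    have : g * b * g⁻¹ = b := by
      rw [hcen b (hBker hb) g, mul_inv_cancel_right]
    rw [this]; exact hb
  let σ' : Γ ⧸ B →* G := QuotientGroup.lift B σ (fun b hb => hBker hb)
  have hσ'mk : ∀ x : Γ, σ' (QuotientGroup.mk x) = σ x := fun x => rfl
  have hker' : ∀ y : Γ ⧸ B, y ∈ σ'.ker → ∃ x ∈ σ.ker, (QuotientGroup.mk x : Γ ⧸ B) = y := by
    intro y hy
    obtain ⟨x, rfl⟩ := QuotientGroup.mk_surjective y
    exact ⟨x, by rwa [MonoidHom.mem_ker, hσ'mk] at hy, rfl⟩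
  have hstem : Cfsg.IsStemExtension σ' := by
    refine ⟨?_, ?_, ?_⟩
    · intro g
      obtain ⟨x, rfl⟩ := hσ.1 g
      exact ⟨QuotientGroup.mk x, rfl⟩
    · intro y hy
      obtain ⟨x, hx, rfl⟩ := hker' y hy
      rw [mem_center_iff]
      intro z
      obtain ⟨z, rfl⟩ := QuotientGroup.mk_surjective z
      rw [← QuotientGroup.mk_mul, ← QuotientGroup.mk_mul, hcen x hx z]
    · intro y hy
      obtain ⟨x, hx, rfl⟩ := hker' y hy
      have h1 : x ∈ commutator Γ := hσ.2.2 hx
      have h2 : (commutator Γ).map (QuotientGroup.mk' B) = commutator (Γ ⧸ B) := by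
        rw [commutator_def, Subgroup.map_commutator, commutator_def,
          Subgroup.map_top_of_surjective _ (QuotientGroup.mk'_surjective B)]
      rw [← h2]
      exact ⟨x, h1, rfl⟩
  have hexp : ∀ a ∈ σ'.ker, a ^ p = 1 := by
    intro y hy
    obtain ⟨x, hx, rfl⟩ := hker' y hy
    rw [← QuotientGroup.mk_pow]
    exact (QuotientGroup.eq_one_iff _).mpr ⟨x, hx, rfl⟩
  have hbot := h p hp (Γ ⧸ B) σ' hstem hexp
  -- so every element of the kernel is a `p`-th power
  have hsurj : Function.Surjective (fun a : σ.ker => a ^ p) := by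
    intro x
    have h1 : (QuotientGroup.mk (x : Γ) : Γ ⧸ B) ∈ σ'.ker := by
      rw [MonoidHom.mem_ker, hσ'mk]; exact x.2
    rw [hbot, Subgroup.mem_bot, QuotientGroup.eq_one_iff] at h1
    obtain ⟨a, ha, hax⟩ := h1
    exact ⟨⟨a, ha⟩, Subtype.ext hax⟩
  have hinj := Finite.injective_iff_surjective.mpr hsurj
  have h1 : a0 ^ p = (1 : σ.ker) ^ p := by
    rw [one_pow, ← ha0, pow_orderOf_eq_one]
  have h2 : a0 = 1 := hinj h1
  rw [h2, orderOf_one] at ha0
  exact hp.one_lt.ne ha0

/-- the transfer argument: a subgroup `V` of index prime to `p` whose commutator subgroup meets the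
kernel trivially -/
theorem ker_eq_bot_of_transfer {Γ G : Type*} [Group Γ] [Group G] (σ : Γ →* G)
    (hσ : Cfsg.IsStemExtension σ) (p : ℕ) (hexp : ∀ a ∈ σ.ker, a ^ p = 1)
    (V : Subgroup Γ) [V.FiniteIndex] (hcop : Nat.Coprime V.index p)
    (hV : ∀ a ∈ σ.ker, a ∈ ⁅V, V⁆ → a = 1) : σ.ker = ⊥ := by
  rw [eq_bot_iff]
  intro a ha
  have h1 := Cfsg.Agent.Lib.Helper3.SchurM.pow_index_mem_comm V a (hσ.2.1 ha) (hσ.2.2 ha)
  have h2 : a ^ V.index = 1 := hV _ (pow_mem ha _) h1
  have h3 : a ^ p = 1 := hexp a ha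
  exact (pow_eq_one_iff_of_coprime hcop).mp ⟨h2, h3⟩

/-- a retraction of the subgroup `V` onto the kernel of `σ` -/
structure Retraction {Γ G : Type*} [Group Γ] [Group G] (σ : Γ →* G) (V : Subgroup Γ) where
  /-- the retraction, with values in the centre -/
  π : ↥V →* ↥(center Γ)
  mem_ker : ∀ v, ((π v : ↥(center Γ)) : Γ) ∈ σ.ker
  id_ker : ∀ (a : Γ) (_ : a ∈ σ.ker) (haV : a ∈ V), ((π ⟨a, haV⟩ : ↥(center Γ)) : Γ) = a

theorem Retraction.comm_inter {Γ G : Type*} [Group Γ] [Group G] {σ : Γ →* G} {V : Subgroup Γ}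
    (R : Retraction σ V) : ∀ a ∈ σ.ker, a ∈ ⁅V, V⁆ → a = 1 := by
  intro a ha hc
  have haV : a ∈ V := by
    have : ⁅V, V⁆ ≤ V := by
      rw [Subgroup.commutator_le]
      intro x hx y hy
      exact V.mul_mem (V.mul_mem (V.mul_mem hx hy) (V.inv_mem hx)) (V.inv_mem hy)
    exact this hc
  have h1 : (⟨a, haV⟩ : ↥V) ∈ commutator ↥V := by
    rw [← V.map_subtype_commutator] at hc
    obtain ⟨v, hv, hva⟩ := hc
    have : v = ⟨a, haV⟩ := Subtype.ext hva
    rwa [← this]
  have hcomm : commutator ↥V ≤ R.π.ker := by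
    rw [commutator_def, Subgroup.commutator_le]
    intro x _ y _
    rw [MonoidHom.mem_ker, commutatorElement_def, map_mul, map_mul, map_mul, map_inv, map_inv]
    have hxy : R.π x * R.π y = R.π y * R.π x :=
      Subtype.ext (mem_center_iff.mp (R.π x).2 (R.π y : Γ)).symm
    rw [hxy]
    group
  have h2 : R.π ⟨a, haV⟩ = 1 := hcomm h1
  rw [← R.id_ker a ha haV, h2]
  rfl

end Cfsg.Agent.Lib.Helper28.SchurFox
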