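import Mathlib
import Cfsg.Prelude.Def_SporadicCombinatorics
import Cfsg.Agent.Lib.Helper28.M24Stab
set_option autoImplicit false

/-!
The two global facts about `M24` (order and 5-transitivity) bundled as a structure, and their first
consequences (transitivity on octads, on sextets, order of octad stabilisers).
-/

namespace Cfsg.Agent.Lib.Helper28.GolayCode
open Cfsg Cfsg.Agent.Lib.Helper28.StabLib
open scoped Pointwise

/-- order and 5-transitivity of `M24`. -/
structure Facts : Prop where
  card : Nat.card M24 = 244823040
  five : ∀ f g : Fin 5 → GolayPt, Function.Injective f → Function.Injective g →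
    ∃ σ ∈ M24, ∀ i, σ (f i) = g i

/-- an injective enumeration of five points of a set with at least five points. -/
theorem exists_five_in (s : Finset GolayPt) (hs : 5 ≤ s.card) :
    ∃ f : Fin 5 → GolayPt, Function.Injective f ∧ ∀ i, f i ∈ s := by
  obtain ⟨t, hts, ht⟩ := Finset.exists_subset_card_eq hs
  have e : Fin 5 ≃ t := (Fintype.equivFinOfCardEq (by rw [Fintype.card_coe, ht])).symm
  refine ⟨fun i => (e i : GolayPt), ?_, fun i => hts (e i).2⟩
  intro i j h
  exact e.injective (Subtype.ext h)

theorem Facts.octad_trans (F : Facts) (o o' : Finset GolayPt) (ho : o ∈ octads) (ho' : o' ∈ octads) :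
    ∃ g : M24, g • o = o' := by
  obtain ⟨f, hf, hfo⟩ := exists_five_in o (by rw [ho.2]; norm_num)
  obtain ⟨g, hg, hgo⟩ := exists_five_in o' (by rw [ho'.2]; norm_num)
  obtain ⟨σ, hσ, hσf⟩ := F.five f g hf hg
  refine ⟨⟨σ, hσ⟩, ?_⟩
  rw [M24_smul_def]
  show σ • o = o'
  apply octad_eq_of_five _ _ (smul_mem_octads hσ ho) ho'
  -- the five points g i lie in both
  have hsub : Finset.univ.image g ⊆ σ • o ∩ o' := by
    intro x hx
    rw [Finset.mem_image] at hx
    obtain ⟨i, _, rfl⟩ := hx
    rw [Finset.mem_inter]
    refine ⟨?_, hgo i⟩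
    rw [← hσf i]
    exact (mem_smul_finset_perm' σ o (f i)).mpr (hfo i)
  have hc : (Finset.univ.image g).card = 5 := by
    rw [Finset.card_image_of_injective _ hg]; simp
  rw [← hc]
  exact Finset.card_le_card hsub

theorem Facts.card_stabilizer_octad (F : Facts) (o : Finset GolayPt) (ho : o ∈ octads) :
    Nat.card ↥(MulAction.stabilizer M24 o) = 322560 :=
  GolayCode.card_stabilizer_octad F.card F.octad_trans o ho

/-- four-transitivity on sets: any 4-set can be mapped to any other. -/
theorem Facts.four_sets (F : Facts) (t t' : Finset GolayPt) (ht : t.card = 4) (ht' : t'.card = 4) :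
    ∃ σ ∈ M24, σ • t = t' := by
  classical
  -- extend both by a fifth point
  have hex : ∀ s : Finset GolayPt, s.card = 4 → ∃ x, x ∉ s := by
    intro s hs
    by_contra h
    push Not at h
    have : s = Finset.univ := Finset.eq_univ_iff_forall.mpr h
    rw [this, Finset.card_univ] at hs
    simp at hs
  obtain ⟨x, hx⟩ := hex t ht
  obtain ⟨x', hx'⟩ := hex t' ht'
  have e : Fin 4 ≃ t := (Fintype.equivFinOfCardEq (by rw [Fintype.card_coe, ht])).symm
  have e' : Fin 4 ≃ t' := (Fintype.equivFinOfCardEq (by rw [Fintype.card_coe, ht'])).symm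
  let f : Fin 5 → GolayPt := Fin.snoc (fun i : Fin 4 => (e i : GolayPt)) x
  let g : Fin 5 → GolayPt := Fin.snoc (fun i : Fin 4 => (e' i : GolayPt)) x'
  have hf : Function.Injective f := by
    intro i j hij
    induction i using Fin.lastCases with
    | last =>
      induction j using Fin.lastCases with
      | last => rfl
      | cast j =>
        simp only [f, Fin.snoc_last, Fin.snoc_castSucc] at hij
        exact absurd (hij ▸ (e j).2) hx
    | cast i =>
      induction j using Fin.lastCases with
      | last =>
        simp only [f, Fin.snoc_last, Fin.snoc_castSucc] at hij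
        exact absurd (hij ▸ (e i).2) hx
      | cast j =>
        simp only [f, Fin.snoc_castSucc] at hij
        rw [e.injective (Subtype.ext hij)]
  have hg : Function.Injective g := by
    intro i j hij
    induction i using Fin.lastCases with
    | last =>
      induction j using Fin.lastCases with
      | last => rfl
      | cast j =>
        simp only [g, Fin.snoc_last, Fin.snoc_castSucc] at hij
        exact absurd (hij ▸ (e' j).2) hx'
    | cast i =>
      induction j using Fin.lastCases with
      | last =>
        simp only [g, Fin.snoc_last, Fin.snoc_castSucc] at hij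
        exact absurd (hij ▸ (e' i).2) hx'
      | cast j =>
        simp only [g, Fin.snoc_castSucc] at hij
        rw [e'.injective (Subtype.ext hij)]
  obtain ⟨σ, hσ, hσf⟩ := F.five f g hf hg
  refine ⟨σ, hσ, ?_⟩
  apply Finset.eq_of_subset_of_card_le
  · intro y hy
    rw [Finset.mem_smul_finset] at hy
    obtain ⟨z, hz, rfl⟩ := hy
    have := hσf (Fin.castSucc (e.symm ⟨z, hz⟩))
    simp only [f, g, Fin.snoc_castSucc, Equiv.apply_symm_apply] at this
    rw [Equiv.Perm.smul_def, this]
    exact (e' _).2
  · rw [Finset.card_smul_finset, ht, ht']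

/-- transitivity on sextets. -/
theorem Facts.sextet_trans (F : Facts) (S S' : Finset (Finset GolayPt)) (hS : S ∈ sextets)
    (hS' : S' ∈ sextets) : ∃ σ ∈ M24, σ • S = S' := by
  have hne : S.Nonempty := by rw [← Finset.card_pos, hS.1]; norm_num
  have hne' : S'.Nonempty := by rw [← Finset.card_pos, hS'.1]; norm_num
  obtain ⟨t, ht⟩ := hne
  obtain ⟨t', ht'⟩ := hne'
  obtain ⟨σ, hσ, hσt⟩ := F.four_sets t t' (hS.2.1 t ht) (hS'.2.1 t' ht')
  refine ⟨σ, hσ, ?_⟩
  rw [eq_sextetOf hS ht, smul_sextetOf hσ t (hS.2.1 t ht), hσt, ← eq_sextetOf hS' ht']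

end Cfsg.Agent.Lib.Helper28.GolayCode
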