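import Mathlib
import Cfsg.Prelude.Def_SporadicCombinatorics
import Cfsg.Agent.Lib.Helper28.M24Facts
import Cfsg.Agent.Lib.Helper3.Golay.M24Trans
set_option autoImplicit false

/-!
The two global facts about `M24` (order and 5-transitivity), taken from helper3's certificate-based proofs.
-/

namespace Cfsg.Agent.Lib.Helper28.GolayCode
open Cfsg

theorem facts : Facts where
  card := Cfsg.Agent.Lib.Helper3.Golay.card_M24
  five := by
    intro f g hf hg
    obtain ⟨σ, hσ, h⟩ := Cfsg.Agent.Lib.Helper3.Golay.exists_map
      (fun i => if h : i < 5 then f ⟨i, h⟩ else none)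
      (fun i => if h : i < 5 then g ⟨i, h⟩ else none) 5 le_rfl
      (by
        intro i hi j hj h
        simp only [hi, hj, dif_pos] at h
        simpa using hf h)
      (by
        intro i hi j hj h
        simp only [hi, hj, dif_pos] at h
        simpa using hg h)
    refine ⟨σ, hσ, ?_⟩
    intro i
    have := h i.1 i.2
    simp only [i.2, dif_pos, Fin.eta] at this
    exact this

end Cfsg.Agent.Lib.Helper28.GolayCode
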