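import Cfsg.Agent.Lib.Helper28.GolayCode
set_option autoImplicit false

/-!
Subsets of `Fin n` as bitmasks (natural numbers below `2 ^ n`).
-/

namespace Cfsg.Agent.Lib.Helper28.FinMask
open Cfsg.Agent.Lib.Helper28.GolayCode

/-- the subset of `Fin n` with given bitmask -/
def fset (n m : ℕ) : Finset (Fin n) := Finset.univ.filter fun i => m.testBit i.val = true

theorem mem_fset {n m : ℕ} {i : Fin n} : i ∈ fset n m ↔ m.testBit i.val = true := by
  simp [fset]

/-- the bitmask of a subset of `Fin n` -/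
def fmask {n : ℕ} (s : Finset (Fin n)) : ℕ := Nat.ofBits (fun i : Fin n => decide (i ∈ s))

theorem fmask_lt {n : ℕ} (s : Finset (Fin n)) : fmask s < 2 ^ n := Nat.ofBits_lt_two_pow _

theorem testBit_fmask {n : ℕ} (s : Finset (Fin n)) (i : Fin n) :
    (fmask s).testBit i.val = decide (i ∈ s) := by
  unfold fmask
  rw [Nat.testBit_ofBits_lt _ _ i.isLt]

theorem fset_fmask {n : ℕ} (s : Finset (Fin n)) : fset n (fmask s) = s := by
  ext i
  rw [mem_fset, testBit_fmask]
  simp

theorem eq_of_testBit_lt {n : ℕ} (a b : ℕ) (ha : a < 2 ^ n) (hb : b < 2 ^ n)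
    (h : ∀ i, i < n → a.testBit i = b.testBit i) : a = b := by
  apply Nat.eq_of_testBit_eq
  intro i
  by_cases hi : i < n
  · exact h i hi
  · have hn : 2 ^ n ≤ 2 ^ i := Nat.pow_le_pow_right (by norm_num) (by omega)
    rw [Nat.testBit_lt_two_pow (lt_of_lt_of_le ha hn),
      Nat.testBit_lt_two_pow (lt_of_lt_of_le hb hn)]

theorem fmask_fset {n : ℕ} (m : ℕ) (hm : m < 2 ^ n) : fmask (fset n m) = m := by
  apply eq_of_testBit_lt _ _ (fmask_lt _) hm
  intro i hi
  have := testBit_fmask (fset n m) ⟨i, hi⟩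
  rw [this]
  by_cases h : m.testBit i = true
  · rw [h]; simp only [decide_eq_true_eq, mem_fset]; exact h
  · rw [Bool.not_eq_true] at h
    rw [h]; simp only [decide_eq_false_iff_not, mem_fset]; rw [h]; simp

theorem fset_inj {n : ℕ} (a b : ℕ) (ha : a < 2 ^ n) (hb : b < 2 ^ n)
    (h : fset n a = fset n b) : a = b := by
  rw [← fmask_fset a ha, ← fmask_fset b hb, h]

theorem fset_and (n a b : ℕ) : fset n (a &&& b) = fset n a ∩ fset n b := by
  ext i; simp [mem_fset, Nat.testBit_and]

theorem fset_or (n a b : ℕ) : fset n (a ||| b) = fset n a ∪ fset n b := by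
  ext i; simp [mem_fset, Nat.testBit_or]

theorem fset_zero (n : ℕ) : fset n 0 = ∅ := by
  ext i; simp [mem_fset]

/-- number of ones among the lowest `n` bits -/
noncomputable def popcN (n m : ℕ) : ℕ := sumLoop (bitN m) n

theorem card_fset (n m : ℕ) : (fset n m).card = popcN n m := by
  unfold popcN fset
  rw [sumLoop_eq, Finset.card_filter, ← Fin.sum_univ_eq_sum_range]
  exact Finset.sum_congr rfl fun i _ => (bitN_eq m i).symm

theorem subset_fset_iff {n a b : ℕ} : fset n a ⊆ fset n b ↔ fset n (a &&& b) = fset n a := by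
  rw [fset_and, Finset.inter_eq_left]

/-- image of a subset under a permutation, checked bitwise -/
theorem image_fset_eq {n : ℕ} (σ : Equiv.Perm (Fin n)) {m m' : ℕ}
    (h : ∀ i : Fin n, m'.testBit (σ i).val = m.testBit i.val) :
    (fset n m).image σ = fset n m' := by
  ext j
  rw [Finset.mem_image, mem_fset]
  constructor
  · rintro ⟨i, hi, rfl⟩
    rw [h i]; exact mem_fset.mp hi
  · intro hj
    refine ⟨σ.symm j, ?_, σ.apply_symm_apply j⟩
    rw [mem_fset, ← h (σ.symm j), σ.apply_symm_apply]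
    exact hj

/-- the lower part of a subset of `Fin (v + 1)` -/
def lower {v : ℕ} (c : Finset (Fin (v + 1))) : Finset (Fin v) :=
  Finset.univ.filter fun i => Fin.castSucc i ∈ c

theorem mem_lower {v : ℕ} {c : Finset (Fin (v + 1))} {i : Fin v} :
    i ∈ lower c ↔ Fin.castSucc i ∈ c := by simp [lower]

theorem lower_fset (v m : ℕ) : lower (fset (v + 1) m) = fset v m := by
  ext i
  rw [mem_lower, mem_fset, mem_fset]
  rfl

/-- adjoin the last point to a subset of `Fin v` -/
def liftLast {v : ℕ} (b : Finset (Fin v)) : Finset (Fin (v + 1)) :=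
  insert (Fin.last v) (b.map Fin.castSuccEmb)

/-- embed a subset of `Fin v` -/
def emb {v : ℕ} (b : Finset (Fin v)) : Finset (Fin (v + 1)) := b.map Fin.castSuccEmb

theorem mem_emb {v : ℕ} {b : Finset (Fin v)} {j : Fin (v + 1)} :
    j ∈ emb b ↔ ∃ i ∈ b, Fin.castSucc i = j := by
  simp [emb]

theorem castSucc_mem_emb {v : ℕ} {b : Finset (Fin v)} {i : Fin v} :
    Fin.castSucc i ∈ emb b ↔ i ∈ b := by
  rw [mem_emb]
  constructor
  · rintro ⟨i', hi', e⟩
    rwa [← Fin.castSucc_injective _ e]
  · intro h; exact ⟨i, h, rfl⟩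

theorem last_not_mem_emb {v : ℕ} (b : Finset (Fin v)) : Fin.last v ∉ emb b := by
  rw [mem_emb]
  rintro ⟨i, -, e⟩
  exact (Fin.castSucc_lt_last i).ne e

theorem liftLast_eq {v : ℕ} (b : Finset (Fin v)) : liftLast b = insert (Fin.last v) (emb b) := rfl

theorem card_emb {v : ℕ} (b : Finset (Fin v)) : (emb b).card = b.card := Finset.card_map _

theorem card_liftLast {v : ℕ} (b : Finset (Fin v)) : (liftLast b).card = b.card + 1 := by
  rw [liftLast_eq, Finset.card_insert_of_notMem (last_not_mem_emb b), card_emb]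

theorem emb_lower {v : ℕ} {c : Finset (Fin (v + 1))} (h : Fin.last v ∉ c) : emb (lower c) = c := by
  ext j
  rw [mem_emb]
  constructor
  · rintro ⟨i, hi, rfl⟩; exact mem_lower.mp hi
  · intro hj
    have hne : j ≠ Fin.last v := fun e => h (e ▸ hj)
    refine ⟨j.castPred hne, ?_, Fin.castSucc_castPred j hne⟩
    rw [mem_lower, Fin.castSucc_castPred]; exact hj

theorem liftLast_lower {v : ℕ} {c : Finset (Fin (v + 1))} (h : Fin.last v ∈ c) :
    liftLast (lower c) = c := by
  ext j
  rw [liftLast_eq, Finset.mem_insert, mem_emb]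
  constructor
  · rintro (rfl | ⟨i, hi, rfl⟩)
    · exact h
    · exact mem_lower.mp hi
  · intro hj
    by_cases hne : j = Fin.last v
    · exact Or.inl hne
    · right
      refine ⟨j.castPred hne, ?_, Fin.castSucc_castPred j hne⟩
      rw [mem_lower, Fin.castSucc_castPred]; exact hj

theorem lower_emb {v : ℕ} (b : Finset (Fin v)) : lower (emb b) = b := by
  ext i; rw [mem_lower, castSucc_mem_emb]

theorem lower_liftLast {v : ℕ} (b : Finset (Fin v)) : lower (liftLast b) = b := by
  ext i
  rw [mem_lower, liftLast_eq, Finset.mem_insert, castSucc_mem_emb]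
  constructor
  · rintro (h | h)
    · exact absurd h (Fin.castSucc_lt_last i).ne
    · exact h
  · exact Or.inr

theorem lower_inter {v : ℕ} (c c' : Finset (Fin (v + 1))) : lower (c ∩ c') = lower c ∩ lower c' := by
  ext i; simp [mem_lower]

theorem emb_inter {v : ℕ} (b b' : Finset (Fin v)) : emb (b ∩ b') = emb b ∩ emb b' := by
  unfold emb; exact Finset.map_inter _ _

theorem emb_subset_emb {v : ℕ} {b b' : Finset (Fin v)} : emb b ⊆ emb b' ↔ b ⊆ b' :=
  Finset.map_subset_map

theorem emb_fset (v m : ℕ) (hm : m < 2 ^ v) : emb (fset v m) = fset (v + 1) m := by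
  ext j
  rw [mem_emb, mem_fset]
  constructor
  · rintro ⟨i, hi, rfl⟩; exact (mem_fset.mp hi : m.testBit i.val = true)
  · intro hj
    have hne : j ≠ Fin.last v := by
      intro e
      rw [e, Fin.val_last, Nat.testBit_lt_two_pow hm] at hj
      exact Bool.false_ne_true hj
    refine ⟨j.castPred hne, ?_, Fin.castSucc_castPred j hne⟩
    rw [mem_fset]; exact hj

theorem liftLast_fset (v m : ℕ) (hm : m < 2 ^ v) : liftLast (fset v m) = fset (v + 1) (m + 2 ^ v) := by
  ext j
  rw [liftLast_eq, Finset.mem_insert, emb_fset v m hm, mem_fset, mem_fset]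
  have hadd : m + 2 ^ v = m ||| 2 ^ v := by
    have := Nat.two_pow_add_eq_or_of_lt hm 1
    simpa [add_comm, Nat.lor_comm] using this
  rw [hadd, Nat.testBit_or, Nat.testBit_two_pow]
  by_cases hj : j = Fin.last v
  · subst hj; simp
  · have : v ≠ j.val := fun e => hj (Fin.ext (by rw [Fin.val_last]; exact e.symm))
    simp [hj, this]

end Cfsg.Agent.Lib.Helper28.FinMask
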