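import Cfsg.Agent.Lib.Helper28.FinMask
set_option autoImplicit false
set_option linter.unusedSectionVars false

/-!
Set-system isomorphisms, images of Steiner systems under bijections, derived designs at a
point, and the normal form of an extension of a unique Steiner system.
-/

open Cfsg

namespace Cfsg.Agent.Lib.Helper28.SteinerDerived
open Cfsg.Agent.Lib.Helper28.FinMask

section iso
variable {α β γ : Type*} [DecidableEq α] [DecidableEq β] [DecidableEq γ]

/-- image of a set system under a bijection -/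
def imgSys (e : α ≃ β) (B : Set (Finset α)) : Set (Finset β) := (fun b => b.image e) '' B

theorem image_symm_image (e : α ≃ β) (b : Finset α) : (b.image e).image e.symm = b := by
  rw [Finset.image_image]
  have : (e.symm : β → α) ∘ (e : α → β) = id := by funext x; simp
  rw [this, Finset.image_id]

theorem image_image_symm (e : α ≃ β) (s : Finset β) : (s.image e.symm).image e = s := by
  rw [Finset.image_image]
  have : (e : α → β) ∘ (e.symm : β → α) = id := by funext x; simp
  rw [this, Finset.image_id]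

theorem mem_imgSys {e : α ≃ β} {B : Set (Finset α)} {s : Finset β} :
    s ∈ imgSys e B ↔ s.image e.symm ∈ B := by
  constructor
  · rintro ⟨b, hb, rfl⟩
    rw [image_symm_image]; exact hb
  · intro h
    exact ⟨s.image e.symm, h, image_image_symm e s⟩

theorem image_mem_imgSys {e : α ≃ β} {B : Set (Finset α)} {b : Finset α} :
    b.image e ∈ imgSys e B ↔ b ∈ B := by
  rw [mem_imgSys, image_symm_image]

theorem imgSys_refl (B : Set (Finset α)) : imgSys (Equiv.refl α) B = B := by
  ext s; rw [mem_imgSys]; simp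

theorem imgSys_trans (e : α ≃ β) (f : β ≃ γ) (B : Set (Finset α)) :
    imgSys (e.trans f) B = imgSys f (imgSys e B) := by
  ext s
  rw [mem_imgSys, mem_imgSys, mem_imgSys, Finset.image_image]
  rfl

theorem imgSys_symm (e : α ≃ β) (B : Set (Finset α)) : imgSys e.symm (imgSys e B) = B := by
  ext s
  rw [mem_imgSys, mem_imgSys, Equiv.symm_symm, image_symm_image]

theorem iso_iff {B : Set (Finset α)} {B' : Set (Finset β)} :
    SetSystemIso B B' ↔ ∃ e : α ≃ β, imgSys e B = B' := Iff.rfl

theorem iso_refl (B : Set (Finset α)) : SetSystemIso B B := ⟨Equiv.refl α, imgSys_refl B⟩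

theorem iso_symm {B : Set (Finset α)} {B' : Set (Finset β)} (h : SetSystemIso B B') :
    SetSystemIso B' B := by
  obtain ⟨e, he⟩ := h
  refine ⟨e.symm, ?_⟩
  have : imgSys e B = B' := he
  rw [← this]
  exact imgSys_symm e B

theorem iso_trans {B : Set (Finset α)} {B' : Set (Finset β)} {B'' : Set (Finset γ)}
    (h : SetSystemIso B B') (h' : SetSystemIso B' B'') : SetSystemIso B B'' := by
  obtain ⟨e, he⟩ := h
  obtain ⟨f, hf⟩ := h'
  refine ⟨e.trans f, ?_⟩
  have h1 : imgSys e B = B' := he
  have h2 : imgSys f B' = B'' := hf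
  show imgSys (e.trans f) B = B''
  rw [imgSys_trans, h1, h2]

theorem isSteiner_imgSys {t k : ℕ} (e : α ≃ β) {B : Set (Finset α)}
    (hB : IsSteinerSystem t k B) : IsSteinerSystem t k (imgSys e B) := by
  constructor
  · rintro _ ⟨b, hb, rfl⟩
    show (b.image e).card = k
    rw [Finset.card_image_of_injective _ e.injective]
    exact hB.1 b hb
  · intro s hs
    have hs' : (s.image e.symm).card = t := by
      rw [Finset.card_image_of_injective _ e.symm.injective]; exact hs
    obtain ⟨b, ⟨hb, hsb⟩, huniq⟩ := hB.2 _ hs'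
    refine ⟨b.image e, ⟨image_mem_imgSys.mpr hb, ?_⟩, ?_⟩
    · have := Finset.image_subset_image (f := e) hsb
      rwa [image_image_symm] at this
    · rintro c ⟨hc, hsc⟩
      have h1 := huniq (c.image e.symm) ⟨mem_imgSys.mp hc, Finset.image_subset_image hsc⟩
      rw [← h1, image_image_symm]

end iso

section derived
variable {α : Type*} [DecidableEq α]

/-- adjoin `x` to a subset of the complement of `x` -/
def lift (x : α) (b : Finset {y : α // y ≠ x}) : Finset α :=
  insert x (b.map (Function.Embedding.subtype _))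

theorem mem_lift {x : α} {b : Finset {y : α // y ≠ x}} {z : α} :
    z ∈ lift x b ↔ z = x ∨ ∃ h : z ≠ x, (⟨z, h⟩ : {y : α // y ≠ x}) ∈ b := by
  unfold lift
  rw [Finset.mem_insert, Finset.mem_map]
  constructor
  · rintro (h | ⟨y, hy, rfl⟩)
    · exact Or.inl h
    · exact Or.inr ⟨y.2, hy⟩
  · rintro (h | ⟨h, hb⟩)
    · exact Or.inl h
    · exact Or.inr ⟨⟨z, h⟩, hb, rfl⟩

theorem val_mem_lift {x : α} {b : Finset {y : α // y ≠ x}} {y : {y : α // y ≠ x}} :
    y.val ∈ lift x b ↔ y ∈ b := by
  rw [mem_lift]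
  constructor
  · rintro (h | ⟨_, hb⟩)
    · exact absurd h y.2
    · exact hb
  · intro h; exact Or.inr ⟨y.2, h⟩

theorem self_mem_lift (x : α) (b : Finset {y : α // y ≠ x}) : x ∈ lift x b :=
  Finset.mem_insert_self _ _

theorem card_lift (x : α) (b : Finset {y : α // y ≠ x}) : (lift x b).card = b.card + 1 := by
  unfold lift
  rw [Finset.card_insert_of_notMem, Finset.card_map]
  rw [Finset.mem_map]
  rintro ⟨y, -, e⟩
  exact y.2 e

theorem lift_subtype {x : α} {c : Finset α} (hx : x ∈ c) : lift x (c.subtype (· ≠ x)) = c := by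
  ext z
  rw [mem_lift]
  constructor
  · rintro (h | ⟨h, hb⟩)
    · rw [h]; exact hx
    · exact Finset.mem_subtype.mp hb
  · intro hz
    by_cases h : z = x
    · exact Or.inl h
    · exact Or.inr ⟨h, Finset.mem_subtype.mpr hz⟩

theorem subtype_lift (x : α) (b : Finset {y : α // y ≠ x}) : (lift x b).subtype (· ≠ x) = b := by
  ext y
  rw [Finset.mem_subtype, val_mem_lift]

theorem lift_subset_lift {x : α} {b b' : Finset {y : α // y ≠ x}} :
    lift x b ⊆ lift x b' ↔ b ⊆ b' := by
  constructor
  · intro h y hy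
    exact val_mem_lift.mp (h (val_mem_lift.mpr hy))
  · intro h z hz
    rw [mem_lift] at hz ⊢
    rcases hz with hz | ⟨h1, h2⟩
    · exact Or.inl hz
    · exact Or.inr ⟨h1, h h2⟩

/-- the derived set system at a point -/
def der (B : Set (Finset α)) (x : α) : Set (Finset {y : α // y ≠ x}) := {b | lift x b ∈ B}

theorem mem_der {B : Set (Finset α)} {x : α} {b : Finset {y : α // y ≠ x}} :
    b ∈ der B x ↔ lift x b ∈ B := Iff.rfl

theorem subtype_mem_der {B : Set (Finset α)} {x : α} {c : Finset α} (hc : c ∈ B) (hx : x ∈ c) :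
    c.subtype (· ≠ x) ∈ der B x := by
  rw [mem_der, lift_subtype hx]; exact hc

theorem isSteiner_der {t k : ℕ} {B : Set (Finset α)} (hB : IsSteinerSystem (t + 1) (k + 1) B)
    (x : α) : IsSteinerSystem t k (der B x) := by
  constructor
  · intro b hb
    have := hB.1 _ (mem_der.mp hb)
    rw [card_lift] at this
    omega
  · intro s hs
    have hs' : (lift x s).card = t + 1 := by rw [card_lift, hs]
    obtain ⟨c, ⟨hc, hsc⟩, huniq⟩ := hB.2 _ hs'
    have hxc : x ∈ c := hsc (self_mem_lift x s)
    refine ⟨c.subtype (· ≠ x), ⟨subtype_mem_der hc hxc, ?_⟩, ?_⟩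
    · rw [← lift_subset_lift, lift_subtype hxc]; exact hsc
    · rintro b ⟨hb, hsb⟩
      have := huniq (lift x b) ⟨mem_der.mp hb, lift_subset_lift.mpr hsb⟩
      rw [← this, subtype_lift]

theorem card_pt [Fintype α] (x : α) : Fintype.card {y : α // y ≠ x} = Fintype.card α - 1 := by
  rw [Fintype.card_subtype_compl, Fintype.card_subtype_eq]

end derived

section normal
variable {α : Type*} [DecidableEq α]

/-- the bijection with `Fin (v + 1)` extending a bijection of the complement of `x` with `Fin v` -/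
def extendEquiv {v : ℕ} (x : α) (e0 : {y : α // y ≠ x} ≃ Fin v) : α ≃ Fin (v + 1) :=
  (Equiv.optionSubtypeNe x).symm.trans ((Equiv.optionCongr e0).trans finSuccEquivLast.symm)

theorem extendEquiv_self {v : ℕ} (x : α) (e0 : {y : α // y ≠ x} ≃ Fin v) :
    extendEquiv x e0 x = Fin.last v := by
  simp [extendEquiv]

theorem extendEquiv_ne {v : ℕ} (x : α) (e0 : {y : α // y ≠ x} ≃ Fin v) (y : {y : α // y ≠ x}) :
    extendEquiv x e0 y.val = Fin.castSucc (e0 y) := by
  simp [extendEquiv, Equiv.optionSubtypeNe_symm_of_ne y.2]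

theorem extendEquiv_symm_last {v : ℕ} (x : α) (e0 : {y : α // y ≠ x} ≃ Fin v) :
    (extendEquiv x e0).symm (Fin.last v) = x := by
  rw [Equiv.symm_apply_eq, extendEquiv_self]

theorem extendEquiv_symm_castSucc {v : ℕ} (x : α) (e0 : {y : α // y ≠ x} ≃ Fin v) (i : Fin v) :
    (extendEquiv x e0).symm (Fin.castSucc i) = (e0.symm i).val := by
  rw [Equiv.symm_apply_eq, extendEquiv_ne, Equiv.apply_symm_apply]

theorem image_liftLast {v : ℕ} (x : α) (e0 : {y : α // y ≠ x} ≃ Fin v) (b : Finset (Fin v)) :
    (liftLast b).image (extendEquiv x e0).symm = lift x (b.image e0.symm) := by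
  ext z
  rw [Finset.mem_image, mem_lift]
  constructor
  · rintro ⟨j, hj, rfl⟩
    rw [liftLast_eq, Finset.mem_insert, mem_emb] at hj
    rcases hj with rfl | ⟨i, hi, rfl⟩
    · exact Or.inl (extendEquiv_symm_last x e0)
    · right
      rw [extendEquiv_symm_castSucc]
      exact ⟨(e0.symm i).2, Finset.mem_image_of_mem _ hi⟩
  · rintro (rfl | ⟨h, hb⟩)
    · exact ⟨Fin.last v, by rw [liftLast_eq]; exact Finset.mem_insert_self _ _,
        extendEquiv_symm_last _ e0⟩
    · obtain ⟨i, hi, e⟩ := Finset.mem_image.mp hb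
      refine ⟨Fin.castSucc i, ?_, ?_⟩
      · rw [liftLast_eq]; exact Finset.mem_insert_of_mem (castSucc_mem_emb.mpr hi)
      · rw [extendEquiv_symm_castSucc, e]

/-- normal form: an extension of a unique Steiner system is isomorphic to a system on
`Fin (v + 1)` whose blocks through the last point are exactly the lifts of the blocks of the
standard model `D0` -/
theorem exists_normalized {α : Type*} [Fintype α] [DecidableEq α] {t k v : ℕ}
    (hα : Fintype.card α = v + 1) {B : Set (Finset α)} (hB : IsSteinerSystem (t + 1) (k + 1) B)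
    (D0 : Set (Finset (Fin v)))
    (huniq : ∀ (x : α) (D : Set (Finset {y : α // y ≠ x})), IsSteinerSystem t k D →
      SetSystemIso D D0) :
    ∃ E : Set (Finset (Fin (v + 1))), SetSystemIso B E ∧ IsSteinerSystem (t + 1) (k + 1) E ∧
      ∀ b : Finset (Fin v), liftLast b ∈ E ↔ b ∈ D0 := by
  obtain ⟨x⟩ : Nonempty α := Fintype.card_pos_iff.mp (by rw [hα]; omega)
  obtain ⟨e0, he0⟩ := huniq x (der B x) (isSteiner_der hB x)
  have he0' : imgSys e0 (der B x) = D0 := he0
  refine ⟨imgSys (extendEquiv x e0) B, ⟨extendEquiv x e0, rfl⟩, isSteiner_imgSys _ hB, ?_⟩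
  intro b
  rw [mem_imgSys, image_liftLast, ← he0', mem_imgSys, mem_der]

end normal

end Cfsg.Agent.Lib.Helper28.SteinerDerived
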