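import Mathlib
import Cfsg.Prelude.Def_SporadicCombinatorics
import Cfsg.Agent.Lib.Helper28.M24Pairs
import Cfsg.Agent.Lib.Helper28.M24Fam
set_option autoImplicit false

/-! Transitivity of `M24` on trios. -/

namespace Cfsg.Agent.Lib.Helper28.M24Pairs
open Cfsg Cfsg.Agent.Lib.Helper28.GolayCode Cfsg.Agent.Lib.Helper28.StabLib Cfsg.Agent.Lib.Helper28.M24Fam
open scoped Pointwise

/-- the base trio. -/
def T0list : List ℕ := [0x82402f, 0x527c0, 0x789810]

theorem bset_c0 : bset 0x789810 = Finset.univ \ (bset O0 ∪ bset rep0) := by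
  rw [← bset_lor, ← bset_compl]
  rfl

theorem fam_T0list : fam T0list =
    ({bset O0, bset rep0, Finset.univ \ (bset O0 ∪ bset rep0)} : Finset (Finset GolayPt)) := by
  unfold fam T0list
  simp only [List.map_cons, List.map_nil, List.toFinset_cons, List.toFinset_nil, insert_empty_eq]
  rw [bset_c0]
  rfl

theorem T0list_nodup : (T0list.map bset).Nodup := by
  have : T0list.Nodup := by decide
  rw [List.nodup_map_iff_inj_on this]
  intro a ha b hb h
  have hlt : ∀ x ∈ T0list, x < 2 ^ 24 := by decide
  exact bset_inj a b (hlt a ha) (hlt b hb) h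

theorem trio_trans (T : Finset (Finset GolayPt)) (hT : T ∈ trios) : ∃ g : M24, g • fam T0list = T := by
  obtain ⟨h3, hoct, hdisj⟩ := hT
  obtain ⟨x, y, z, hxy, hxz, hyz, rfl⟩ := Finset.card_eq_three.mp h3
  have hx := hoct x (by simp)
  have hy := hoct y (by simp)
  have hz := hoct z (by simp)
  have dxy : Disjoint x y := hdisj x (by simp) y (by simp) hxy
  have dxz : Disjoint x z := hdisj x (by simp) z (by simp) hxz
  have dyz : Disjoint y z := hdisj y (by simp) z (by simp) hyz
  have h0 : (x ∩ y).card = 0 := by
    rw [Finset.card_eq_zero, ← Finset.disjoint_iff_inter_eq_empty]; exact dxy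
  obtain ⟨g, h1, h2⟩ := exists_map_pair0 x y hx hy h0
  have hzc : z = Finset.univ \ (x ∪ y) := by
    apply Finset.eq_of_subset_of_card_le
    · intro p hp
      rw [Finset.mem_sdiff, Finset.mem_union]
      refine ⟨Finset.mem_univ _, ?_⟩
      rintro (h | h)
      · exact Finset.disjoint_left.mp dxz h hp
      · exact Finset.disjoint_left.mp dyz h hp
    · rw [Finset.card_sdiff_of_subset (Finset.subset_univ _), Finset.card_union_of_disjoint dxy, hx.2, hy.2, hz.2,
        Finset.card_univ]
      simp
  refine ⟨g, ?_⟩
  rw [fam_T0list, Finset.smul_finset_insert, Finset.smul_finset_insert, Finset.smul_finset_singleton,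
    Finset.smul_finset_sdiff, Finset.smul_finset_univ, Finset.smul_finset_union, h1, h2, ← hzc]

theorem T0_mem_trios : fam T0list ∈ trios := by
  rw [fam_T0list]
  have h0 : bset O0 ∈ octads := O0_mem
  have hr : bset rep0 ∈ octads :=
    (mem_octads_iff_exists _).mpr ⟨rep0, ((mem_classList 0 rep0).mp rep0_mem).1, rfl⟩
  have hc : Finset.univ \ (bset O0 ∪ bset rep0) ∈ octads := by
    rw [← bset_c0, bset_mem_octads_iff _ (by decide)]
    constructor <;> decide +kernel
  have d01 : Disjoint (bset O0) (bset rep0) := by
    rw [Finset.disjoint_iff_inter_eq_empty, ← bset_land]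
    have : Nat.land O0 rep0 = 0 := by decide
    rw [this, bset_zero]
  have d0c : Disjoint (bset O0) (Finset.univ \ (bset O0 ∪ bset rep0)) := by
    rw [Finset.disjoint_left]
    intro p hp hq
    rw [Finset.mem_sdiff, Finset.mem_union] at hq
    exact hq.2 (Or.inl hp)
  have d1c : Disjoint (bset rep0) (Finset.univ \ (bset O0 ∪ bset rep0)) := by
    rw [Finset.disjoint_left]
    intro p hp hq
    rw [Finset.mem_sdiff, Finset.mem_union] at hq
    exact hq.2 (Or.inr hp)
  have ne : ∀ a b : Finset GolayPt, a ∈ octads → Disjoint a b → a ≠ b := by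
    intro a b ha hab h
    subst h
    rw [disjoint_self, Finset.bot_eq_empty] at hab
    have := ha.2
    rw [hab] at this
    simp at this
  refine ⟨?_, ?_, ?_⟩
  · rw [Finset.card_insert_of_notMem, Finset.card_insert_of_notMem, Finset.card_singleton]
    · rw [Finset.mem_singleton]; exact ne _ _ hr d1c
    · rw [Finset.mem_insert, Finset.mem_singleton]
      rintro (h | h)
      · exact ne _ _ h0 d01 h
      · exact ne _ _ h0 d0c h
  · intro o ho
    rw [Finset.mem_insert, Finset.mem_insert, Finset.mem_singleton] at ho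
    rcases ho with rfl | rfl | rfl
    · exact h0
    · exact hr
    · exact hc
  · intro o ho o' ho' hne
    rw [Finset.mem_insert, Finset.mem_insert, Finset.mem_singleton] at ho ho'
    rcases ho with rfl | rfl | rfl <;> rcases ho' with rfl | rfl | rfl
    · exact absurd rfl hne
    · exact d01
    · exact d0c
    · exact d01.symm
    · exact absurd rfl hne
    · exact d1c
    · exact d0c.symm
    · exact d1c.symm
    · exact absurd rfl hne

end Cfsg.Agent.Lib.Helper28.M24Pairs
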