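import Mathlib
import Cfsg.Prelude.Def_GeometricClasses
import Cfsg.Agent.Lib.Helper20.OmMDefs
import Cfsg.Agent.Lib.Helper25.SingPts
import Cfsg.Agent.Lib.Helper25.OmegaNonMax
import Cfsg.Agent.Lib.Helper15.QuadClass
import Cfsg.Agent.Lib.Helper7.SOTT
import Cfsg.Agent.Lib.Helper26.SpMP47
import Cfsg.Agent.Lib.Helper28.SLMP7core

/-!
OmOddMax market (helper20; rows S5814 S5835 S5859): leaf OM-P7 `not_omega_le_tensorSquare`, exact signature of
`notes/OmOddMax_leaves.lean`.  `Ω` is transitive on singular points, the tensor-wreath group preserves the decomposable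
vectors, and `x ⊗ x + x' ⊗ y'` (`x, x'` a hyperbolic pair of `f₁`, `y' ≠ 0` orthogonal to both) is singular, not decomposable.
-/

set_option autoImplicit false
set_option linter.unusedSectionVars false
set_option linter.unusedVariables false

namespace Cfsg.Agent.Lib.Helper28.OmMLeaf

open Cfsg Cfsg.Geo Matrix Module QuadraticMap Cfsg.Agent.Lib.Helper20.OmM

section tools
variable {F : Type*} [Field F] {k : ℕ}

/-- the pure tensor `p ⊗ q` on two factors -/
def pt2 (p q : Fin k → F) : (Fin 2 → Fin k) → F := fun z => p (z 0) * q (z 1)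

lemma sum_fin2 {M : Type*} [AddCommMonoid M] (φ : (Fin 2 → Fin k) → M) :
    ∑ a, φ a = ∑ a0 : Fin k, ∑ a1 : Fin k, φ ![a0, a1] := by
  calc ∑ a, φ a = ∑ p : Fin k × Fin k, φ ![p.1, p.2] := by
        refine Fintype.sum_equiv (piFinTwoEquiv (fun _ => Fin k)) _ _ (fun a => ?_)
        show φ a = φ ![a 0, a 1]
        congr 1
        funext i
        fin_cases i <;> rfl
    _ = _ := Fintype.sum_prod_type' (fun a0 a1 => φ ![a0, a1])

lemma sum_pt2 (φ ψ : Fin k → F) :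
    ∑ z : Fin 2 → Fin k, φ (z 0) * ψ (z 1) = (∑ a, φ a) * (∑ b, ψ b) := by
  rw [sum_fin2, Finset.sum_mul_sum]
  rfl

lemma tp_form_pt2 (G : Matrix (Fin k) (Fin k) F) (x y x' y' : Fin k → F) :
    ∑ a : Fin 2 → Fin k, ∑ b : Fin 2 → Fin k, pt2 x y a * (∏ i, G (a i) (b i)) * id (pt2 x' y' b) =
      (x ⬝ᵥ (G *ᵥ x')) * (y ⬝ᵥ (G *ᵥ y')) := by
  have inner : ∀ a : Fin 2 → Fin k,
      ∑ b : Fin 2 → Fin k, pt2 x y a * (∏ i, G (a i) (b i)) * id (pt2 x' y' b) =
        (x (a 0) * (G *ᵥ x') (a 0)) * (y (a 1) * (G *ᵥ y') (a 1)) := by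
    intro a
    have h1 : ∀ b : Fin 2 → Fin k, pt2 x y a * (∏ i, G (a i) (b i)) * id (pt2 x' y' b) =
        (x (a 0) * y (a 1)) * ((G (a 0) (b 0) * x' (b 0)) * (G (a 1) (b 1) * y' (b 1))) := by
      intro b
      rw [Fin.prod_univ_two]
      simp only [pt2, id]
      ring
    simp_rw [h1]
    rw [← Finset.mul_sum, sum_pt2 (fun b0 => G (a 0) b0 * x' b0) (fun b1 => G (a 1) b1 * y' b1)]
    simp only [Matrix.mulVec, dotProduct]
    ring
  simp_rw [inner]
  rw [sum_pt2 (fun a0 => x a0 * (G *ᵥ x') a0) (fun a1 => y a1 * (G *ᵥ y') a1)]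
  rfl

/-- contraction of the first factor with `ξ` -/
def ctr2 (ξ : Fin k → F) (w : (Fin 2 → Fin k) → F) : Fin k → F := fun b => ∑ a, ξ a * w ![a, b]

lemma ctr2_add (ξ : Fin k → F) (w w' : (Fin 2 → Fin k) → F) : ctr2 ξ (w + w') = ctr2 ξ w + ctr2 ξ w' := by
  funext b
  simp only [ctr2, Pi.add_apply, mul_add, Finset.sum_add_distrib]

lemma ctr2_pt2 (ξ p q : Fin k → F) : ctr2 ξ (pt2 p q) = (ξ ⬝ᵥ p) • q := by
  funext b
  simp only [ctr2, pt2, Pi.smul_apply, smul_eq_mul, dotProduct, Matrix.cons_val_zero, Matrix.cons_val_one,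
    Finset.sum_mul]
  apply Finset.sum_congr rfl
  intro a _
  ring

lemma decT_eq_pt2 {w : (Fin 2 → Fin k) → F} (hw : w ∈ Cfsg.Agent.Lib.Helper28.SLMLeaf.DecT k 2 F) :
    ∃ p q : Fin k → F, w = pt2 p q := by
  obtain ⟨xs, rfl⟩ := hw
  refine ⟨xs 0, xs 1, ?_⟩
  funext z
  rw [Fin.prod_univ_two]
  rfl

lemma pt2_mem_decT (p q : Fin k → F) : pt2 p q ∈ Cfsg.Agent.Lib.Helper28.SLMLeaf.DecT k 2 F := by
  refine ⟨![p, q], ?_⟩
  funext z
  rw [Fin.prod_univ_two]
  rfl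

lemma smul_pt2 (t : F) (p q : Fin k → F) : t • pt2 p q = pt2 (t • p) q := by
  funext z
  simp only [pt2, Pi.smul_apply, smul_eq_mul]
  ring

end tools

section generic
variable {ι : Type} [Fintype ι] [DecidableEq ι] {F : Type*} [Field F] [Fintype F]
  (Q : QuadraticForm F (ι → F))

/-- `Ω` moves any singular point to any other -/
lemma exists_omega_move28 (hQ : (polarBilin Q).Nondegenerate) (hn : 5 ≤ Fintype.card ι) {u w : ι → F}
    (hu0 : u ≠ 0) (hu : Q u = 0) (hw0 : w ≠ 0) (hw : Q w = 0) :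
    ∃ g ∈ omegaGL ⇑Q, ∃ t : F, (g : Matrix ι ι F) *ᵥ u = t • w := by
  have := Cfsg.Agent.Lib.Helper25.PS.omega_pretransitive Q hQ hn
  obtain ⟨g, hg⟩ := MulAction.exists_smul_eq ↥(Cfsg.Omega F ⇑Q)
    (Cfsg.Agent.Lib.Helper25.PS.mk' Q u hu0 hu) (Cfsg.Agent.Lib.Helper25.PS.mk' Q w hw0 hw)
  have hg' : (g : ↥(Cfsg.isometryGroup F ⇑Q)) • Cfsg.Agent.Lib.Helper25.PS.mk' Q u hu0 hu =
      Cfsg.Agent.Lib.Helper25.PS.mk' Q w hw0 hw := hg
  rw [Cfsg.Agent.Lib.Helper25.PS.smul_mk'] at hg'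
  obtain ⟨t, ht⟩ := Cfsg.Agent.Lib.Helper25.PS.exists_smul_of_mk'_eq Q hw0 hw _ _ hg'
  refine ⟨((g : ↥(Cfsg.isometryGroup F ⇑Q)) : GL ι F), ?_, t, ht⟩
  rw [Cfsg.Agent.Lib.Helper25.Fam.coe_mem_omegaGL]
  exact g.2

/-- P7 (two factors) -/
theorem not_omega_le_tensorSquare (hQ : (polarBilin Q).Nondegenerate) (h2 : (2 : F) ≠ 0)
    (hι : 7 ≤ Fintype.card ι) {k : ℕ} (hk : 3 ≤ k) (e : ι ≃ (Fin 2 → Fin k)) (P : GL ι F)
    (f₁ : (Fin k → F) → (Fin k → F) → F) (hf₁ : IsSymmetricForm f₁)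
    (hT : IsTensorPowerFormStructure id (polar ⇑Q) f₁ e P) :
    ¬ omegaGL ⇑Q ≤ tensorWreathSubgroup k 2 e P := by
  intro hle
  obtain ⟨c, hc0, hc⟩ := hT
  have hb := hf₁.bilinear
  set G := gramMatrix f₁ with hG
  have hdot : ∀ u v : Fin k → F, f₁ u v = u ⬝ᵥ (G *ᵥ v) :=
    fun u v => Cfsg.Agent.Lib.Helper7.SOTLeaf.bil_eq_dot f₁ hb u v
  -- the transport `τ`
  set τ : ((Fin 2 → Fin k) → F) → (ι → F) := Cfsg.Agent.Lib.Helper26.SpMLeaf.tau26 e P with hτ
  have hτadd : ∀ w w', τ (w + w') = τ w + τ w' := by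
    intro w w'
    show (P : Matrix ι ι F) *ᵥ (fun i => (w + w') (e i)) = _
    have : (fun i => (w + w') (e i)) = (fun i => w (e i)) + (fun i => w' (e i)) := rfl
    rw [this, Matrix.mulVec_add]
    rfl
  have hτsmul : ∀ (t : F) w, τ (t • w) = t • τ w := by
    intro t w
    show (P : Matrix ι ι F) *ᵥ (fun i => (t • w) (e i)) = _
    have : (fun i => (t • w) (e i)) = t • (fun i => w (e i)) := rfl
    rw [this, Matrix.mulVec_smul]
    rfl
  -- the polar form on pure tensors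
  have hpol : ∀ x y x' y' : Fin k → F,
      polar ⇑Q (τ (pt2 x y)) (τ (pt2 x' y')) = c * (f₁ x x' * f₁ y y') := by
    intro x y x' y'
    have := hc (pt2 x y) (pt2 x' y')
    rw [tp_form_pt2] at this
    rw [hdot, hdot]
    exact this
  have hQhalf : ∀ v : ι → F, polar ⇑Q v v = 0 → Q v = 0 := by
    intro v hv
    rw [Cfsg.Agent.Lib.Helper25.MaxTS.polar_self] at hv
    rcases mul_eq_zero.1 hv with h | h
    · exact absurd h h2
    · exact h
  -- a hyperbolic pair `x, x'` of `f₁`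
  obtain ⟨x, hx0, hxx⟩ : ∃ x : Fin k → F, x ≠ 0 ∧ f₁ x x = 0 := by
    let Q₁ : QuadraticForm F (Fin k → F) := LinearMap.BilinMap.toQuadraticMap (Matrix.toBilin' G)
    have h3 : 3 ≤ finrank F (Fin k → F) := by
      rw [Module.finrank_fintype_fun_eq_card, Fintype.card_fin]
      exact hk
    obtain ⟨v, hv0, hv⟩ := Cfsg.Agent.Lib.Helper15.exists_singular_of_three_le Q₁ h3
    refine ⟨v, hv0, ?_⟩
    rw [hdot]
    have : Q₁ v = v ⬝ᵥ (G *ᵥ v) := by
      show LinearMap.BilinMap.toQuadraticMap (Matrix.toBilin' G) v = _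
      rw [LinearMap.BilinMap.toQuadraticMap_apply, Matrix.toBilin'_apply']
    rw [← this]
    exact hv
  obtain ⟨z, hz⟩ := (hf₁.nondegenerate x hx0).2
  set β := f₁ x z with hβ
  set x' : Fin k → F := z - (f₁ z z / (2 * β)) • x with hx'
  have hxx' : f₁ x x' = β := by
    rw [hx', sub_eq_add_neg, hb.add_right, ← neg_smul, hb.smul_right, hxx, mul_zero, add_zero]
  have hx'x : f₁ x' x = β := by rw [hf₁.symm, hxx']
  have hx'x' : f₁ x' x' = 0 := by
    have e1 : ∀ v, f₁ x' v = f₁ z v - (f₁ z z / (2 * β)) * f₁ x v := by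
      intro v
      rw [hx', sub_eq_add_neg, hb.add_left, ← neg_smul, hb.smul_left]
      ring
    have e2 : f₁ z x' = f₁ z z - (f₁ z z / (2 * β)) * β := by
      rw [hf₁.symm z x', e1 z, ← hβ]
    rw [e1 x', e2, hxx']
    field_simp
    ring
  -- `y' ≠ 0` orthogonal to `x` and `x'`
  obtain ⟨y', hy'0, hxy', hx'y'⟩ : ∃ y' : Fin k → F, y' ≠ 0 ∧ f₁ x y' = 0 ∧ f₁ x' y' = 0 := by
    let L : (Fin k → F) →ₗ[F] (Fin 2 → F) :=
      { toFun := fun v => ![f₁ x v, f₁ x' v]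
        map_add' := by
          intro v w
          funext i
          fin_cases i
          · exact hb.add_right x v w
          · exact hb.add_right x' v w
        map_smul' := by
          intro t v
          funext i
          fin_cases i
          · exact hb.smul_right t x v
          · exact hb.smul_right t x' v }
    have hker : LinearMap.ker L ≠ ⊥ := by
      intro hbot
      have hinj : Function.Injective L := LinearMap.ker_eq_bot.1 hbot
      have := LinearMap.finrank_le_finrank_of_injective hinj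
      rw [Module.finrank_fintype_fun_eq_card, Module.finrank_fintype_fun_eq_card, Fintype.card_fin,
        Fintype.card_fin] at this
      omega
    obtain ⟨v, hv, hv0⟩ := (Submodule.ne_bot_iff _).1 hker
    have hLv : L v = 0 := hv
    refine ⟨v, hv0, ?_, ?_⟩
    · have := congrFun hLv 0
      exact this
    · have := congrFun hLv 1
      exact this
  have hβ0 : β ≠ 0 := hz
  -- the two vectors
  set d₀ : (Fin 2 → Fin k) → F := pt2 x x with hd₀
  set w₀ : (Fin 2 → Fin k) → F := pt2 x x + pt2 x' y' with hw₀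
  have hd₀ne : d₀ ≠ 0 := by
    intro h
    obtain ⟨a, ha⟩ : ∃ a, x a ≠ 0 := by
      by_contra hcon
      push Not at hcon
      exact hx0 (funext hcon)
    have := congrFun h ![a, a]
    simp only [hd₀, pt2, Matrix.cons_val_zero, Matrix.cons_val_one, Pi.zero_apply] at this
    exact ha (mul_self_eq_zero.1 this)
  -- `w₀` is not decomposable
  have hw₀dec : w₀ ∉ Cfsg.Agent.Lib.Helper28.SLMLeaf.DecT k 2 F := by
    intro hdec
    obtain ⟨p, q, hpq⟩ := decT_eq_pt2 hdec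
    have h1 : ctr2 (G *ᵥ x') w₀ = β • x := by
      rw [hw₀, ctr2_add, ctr2_pt2, ctr2_pt2, dotProduct_comm, ← hdot, dotProduct_comm (G *ᵥ x') x', ← hdot,
        hxx', hx'x', zero_smul, add_zero]
    have h2' : ctr2 (G *ᵥ x) w₀ = β • y' := by
      rw [hw₀, ctr2_add, ctr2_pt2, ctr2_pt2, dotProduct_comm, ← hdot, dotProduct_comm (G *ᵥ x) x', ← hdot,
        hxx, hx'x, zero_smul, zero_add]
    rw [hpq, ctr2_pt2] at h1 h2'
    -- `β x = s q`, `β y' = s' q`
    have e1 : f₁ x' (β • x) = β * β := by rw [hb.smul_right, hx'x]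
    have e2 : f₁ x' (β • y') = 0 := by rw [hb.smul_right, hx'y', mul_zero]
    rw [← h1, hb.smul_right] at e1
    rw [← h2', hb.smul_right] at e2
    have hq : f₁ x' q ≠ 0 := by
      intro h
      rw [h, mul_zero] at e1
      exact hβ0 (mul_self_eq_zero.1 e1.symm)
    have hs' : (G *ᵥ x) ⬝ᵥ p = 0 := by
      rcases mul_eq_zero.1 e2 with h | h
      · exact h
      · exact absurd h hq
    rw [hs', zero_smul] at h2'
    have : y' = 0 := by
      have h3 := congrArg (fun v => β⁻¹ • v) h2'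
      simp only [smul_zero, smul_smul, inv_mul_cancel₀ hβ0, one_smul] at h3
      exact h3.symm
    exact hy'0 this
  have hw₀ne : w₀ ≠ 0 := by
    intro h
    apply hw₀dec
    rw [h]
    have : (0 : (Fin 2 → Fin k) → F) = pt2 0 0 := by
      funext z
      simp [pt2]
    rw [this]
    exact pt2_mem_decT 0 0
  -- both are singular
  have hQd : Q (τ d₀) = 0 := by
    apply hQhalf
    rw [hd₀, hpol, hxx, mul_zero, mul_zero]
  have hQw : Q (τ w₀) = 0 := by
    apply hQhalf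
    have hy'x : f₁ y' x = 0 := by rw [hf₁.symm]; exact hxy'
    rw [hw₀, hτadd, polar_add_left, polar_add_right, polar_add_right, hpol, hpol, hpol, hpol]
    simp only [hxx, hx'x', hxy', hy'x, mul_zero, zero_mul, add_zero]
  have hτd : τ d₀ ≠ 0 := Cfsg.Agent.Lib.Helper26.SpMLeaf.tau26_ne_zero e P hd₀ne
  have hτw : τ w₀ ≠ 0 := Cfsg.Agent.Lib.Helper26.SpMLeaf.tau26_ne_zero e P hw₀ne
  -- move `τ w₀` to `τ d₀` inside `Ω`
  obtain ⟨g, hgΩ, t, hgt⟩ := exists_omega_move28 Q hQ (by omega) hτw hQw hτd hQd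
  obtain ⟨g₁, ⟨g₀, hg₀, rfl⟩, rfl⟩ := hle hgΩ
  have hconj : ((MulAut.conj P).toMonoidHom ((glReindex e.symm).toMonoidHom g₀)) =
      P * glReindex e.symm g₀ * P⁻¹ := rfl
  rw [hconj, Cfsg.Agent.Lib.Helper26.SpMLeaf.conj_mulVec_tau26, ← hτsmul] at hgt
  have hgw : (g₀ : Matrix (Fin 2 → Fin k) (Fin 2 → Fin k) F) *ᵥ w₀ = t • d₀ :=
    Cfsg.Agent.Lib.Helper26.SpMLeaf.tau26_injective e P hgt
  have hstab := Cfsg.Agent.Lib.Helper28.SLMLeaf.tensorWreathStandard_le_stab (F := F) k 2 hg₀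
  have hmem : (g₀ : Matrix (Fin 2 → Fin k) (Fin 2 → Fin k) F) *ᵥ w₀ ∈
      Cfsg.Agent.Lib.Helper28.SLMLeaf.DecT k 2 F := by
    rw [hgw, hd₀, smul_pt2]
    exact pt2_mem_decT _ _
  exact hw₀dec ((hstab w₀).1 hmem)

end generic

end Cfsg.Agent.Lib.Helper28.OmMLeaf
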