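import Mathlib
import Cfsg.Prelude.Def_GeometricClasses
import Cfsg.Agent.Lib.Helper28.OmMP7

/-!
OMEGA-EVEN market (lead; `notes/OmEven_rows2_leaves.lean`): leaf OE-P4s `not_omega_le_tsym`, exact signature.
`Ω` is transitive on singular points, the tensor product subgroup preserves the decomposable vectors `x ⊗ y`, and
`x ⊗ y + x' ⊗ y'` (`x, x'` a hyperbolic pair of `f₁`, `y, y'` independent with `f₂ y y' = 0`) is singular, not decomposable.
-/

set_option autoImplicit false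
set_option linter.unusedSectionVars false
set_option linter.unusedVariables false

namespace Cfsg.Agent.Lib.Helper28.OELeaf

open Cfsg Cfsg.Geo Matrix Module QuadraticMap
open scoped Kronecker

section tools
variable {F : Type*} [Field F] {n₁ n₂ : ℕ}

/-- the pure tensor `p ⊗ q` -/
def pk (p : Fin n₁ → F) (q : Fin n₂ → F) : Fin n₁ × Fin n₂ → F := fun z => p z.1 * q z.2

lemma tp_form_pk (G₁ : Matrix (Fin n₁) (Fin n₁) F) (G₂ : Matrix (Fin n₂) (Fin n₂) F)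
    (x x' : Fin n₁ → F) (y y' : Fin n₂ → F) :
    formOfGram id (G₁ ⊗ₖ G₂) (pk x y) (pk x' y') = (x ⬝ᵥ (G₁ *ᵥ x')) * (y ⬝ᵥ (G₂ *ᵥ y')) := by
  unfold formOfGram
  have inner : ∀ a : Fin n₁ × Fin n₂,
      ∑ b : Fin n₁ × Fin n₂, pk x y a * (G₁ ⊗ₖ G₂) a b * id (pk x' y' b) =
        (x a.1 * (G₁ *ᵥ x') a.1) * (y a.2 * (G₂ *ᵥ y') a.2) := by
    intro a
    rw [Fintype.sum_prod_type]
    have h1 : ∀ b1 : Fin n₁, ∀ b2 : Fin n₂, pk x y a * (G₁ ⊗ₖ G₂) a (b1, b2) * id (pk x' y' (b1, b2)) =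
        (x a.1 * y a.2) * ((G₁ a.1 b1 * x' b1) * (G₂ a.2 b2 * y' b2)) := by
      intro b1 b2
      simp only [pk, id, Matrix.kroneckerMap_apply]
      ring
    simp_rw [h1]
    have hs : (G₁ *ᵥ x') a.1 * (G₂ *ᵥ y') a.2 =
        ∑ b1, ∑ b2, (G₁ a.1 b1 * x' b1) * (G₂ a.2 b2 * y' b2) := by
      simp only [Matrix.mulVec, dotProduct]
      exact Finset.sum_mul_sum _ _ _ _
    have hs2 : x a.1 * (G₁ *ᵥ x') a.1 * (y a.2 * (G₂ *ᵥ y') a.2) =
        (x a.1 * y a.2) * ((G₁ *ᵥ x') a.1 * (G₂ *ᵥ y') a.2) := by ring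
    rw [hs2, hs, Finset.mul_sum]
    refine Finset.sum_congr rfl fun b1 _ => ?_
    rw [Finset.mul_sum]
  simp_rw [inner]
  rw [Fintype.sum_prod_type]
  have hs3 : (x ⬝ᵥ (G₁ *ᵥ x')) * (y ⬝ᵥ (G₂ *ᵥ y')) =
      ∑ a1, ∑ a2, (x a1 * (G₁ *ᵥ x') a1) * (y a2 * (G₂ *ᵥ y') a2) := by
    simp only [dotProduct]
    exact Finset.sum_mul_sum _ _ _ _
  rw [hs3]

/-- contraction of the first factor with `ξ` -/
def ctrA (ξ : Fin n₁ → F) (w : Fin n₁ × Fin n₂ → F) : Fin n₂ → F := fun b => ∑ a, ξ a * w (a, b)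

lemma ctrA_add (ξ : Fin n₁ → F) (w w' : Fin n₁ × Fin n₂ → F) : ctrA ξ (w + w') = ctrA ξ w + ctrA ξ w' := by
  funext b
  simp only [ctrA, Pi.add_apply, mul_add, Finset.sum_add_distrib]

lemma ctrA_pk (ξ p : Fin n₁ → F) (q : Fin n₂ → F) : ctrA ξ (pk p q) = (ξ ⬝ᵥ p) • q := by
  funext b
  simp only [ctrA, pk, Pi.smul_apply, smul_eq_mul, dotProduct, Finset.sum_mul]
  apply Finset.sum_congr rfl
  intro a _
  ring

lemma smul_pk (t : F) (p : Fin n₁ → F) (q : Fin n₂ → F) : t • pk p q = pk (t • p) q := by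
  funext z
  simp only [pk, Pi.smul_apply, smul_eq_mul]
  ring

lemma pk_mem_dec2 (p : Fin n₁ → F) (q : Fin n₂ → F) :
    pk p q ∈ Cfsg.Agent.Lib.Helper28.SLMLeaf.Dec2 n₁ n₂ F := ⟨p, q, rfl⟩

end tools

section generic
variable {ι : Type} [Fintype ι] [DecidableEq ι] {F : Type*} [Field F] [Fintype F]
  (Q : QuadraticForm F (ι → F))

/-- P4s -/
theorem not_omega_le_tsym (hQ : (polarBilin Q).Nondegenerate) (h2 : (2 : F) ≠ 0)
    (hι : 8 ≤ Fintype.card ι) {n₁ n₂ : ℕ} (h1 : 3 ≤ n₁) (h2' : 3 ≤ n₂) (e : ι ≃ Fin n₁ × Fin n₂)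
    (P : GL ι F) (f₁ : (Fin n₁ → F) → (Fin n₁ → F) → F) (f₂ : (Fin n₂ → F) → (Fin n₂ → F) → F)
    (hf₁ : IsSymmetricForm f₁) (hf₂ : IsSymmetricForm f₂)
    (hT : IsTensorFormStructure id (polar ⇑Q) f₁ f₂ e P) :
    ¬ omegaGL ⇑Q ≤ tensorProductSubgroup n₁ n₂ e P := by
  intro hle
  obtain ⟨c, hc0, hc⟩ := hT
  have hb₁ := hf₁.bilinear
  have hb₂ := hf₂.bilinear
  set G₁ := gramMatrix f₁ with hG₁
  set G₂ := gramMatrix f₂ with hG₂
  have hdot₁ : ∀ u v : Fin n₁ → F, f₁ u v = u ⬝ᵥ (G₁ *ᵥ v) :=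
    fun u v => Cfsg.Agent.Lib.Helper7.SOTLeaf.bil_eq_dot f₁ hb₁ u v
  have hdot₂ : ∀ u v : Fin n₂ → F, f₂ u v = u ⬝ᵥ (G₂ *ᵥ v) :=
    fun u v => Cfsg.Agent.Lib.Helper7.SOTLeaf.bil_eq_dot f₂ hb₂ u v
  -- the transport `τ`
  set τ : (Fin n₁ × Fin n₂ → F) → (ι → F) := Cfsg.Agent.Lib.Helper26.SpMLeaf.tau26 e P with hτ
  have hτadd : ∀ w w', τ (w + w') = τ w + τ w' := by
    intro w w'
    show (P : Matrix ι ι F) *ᵥ (fun i => (w + w') (e i)) = _
    have : (fun i => (w + w') (e i)) = (fun i => w (e i)) + (fun i => w' (e i)) := rfl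
    rw [this, Matrix.mulVec_add]
    rfl
  have hτsmul : ∀ (t : F) w, τ (t • w) = t • τ w := by
    intro t w
    show (P : Matrix ι ι F) *ᵥ (fun i => (t • w) (e i)) = _
    have : (fun i => (t • w) (e i)) = t • (fun i => w (e i)) := rfl
    rw [this, Matrix.mulVec_smul]
    rfl
  -- the polar form on pure tensors
  have hpol : ∀ (x : Fin n₁ → F) (y : Fin n₂ → F) (x' : Fin n₁ → F) (y' : Fin n₂ → F),
      polar ⇑Q (τ (pk x y)) (τ (pk x' y')) = c * (f₁ x x' * f₂ y y') := by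
    intro x y x' y'
    have := hc (pk x y) (pk x' y')
    rw [tp_form_pk] at this
    rw [hdot₁, hdot₂]
    exact this
  have hQhalf : ∀ v : ι → F, polar ⇑Q v v = 0 → Q v = 0 := by
    intro v hv
    rw [Cfsg.Agent.Lib.Helper25.MaxTS.polar_self] at hv
    rcases mul_eq_zero.1 hv with h | h
    · exact absurd h h2
    · exact h
  -- a hyperbolic pair `x, x'` of `f₁`
  obtain ⟨x, hx0, hxx⟩ : ∃ x : Fin n₁ → F, x ≠ 0 ∧ f₁ x x = 0 := by
    let Q₁ : QuadraticForm F (Fin n₁ → F) := LinearMap.BilinMap.toQuadraticMap (Matrix.toBilin' G₁)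
    have h3 : 3 ≤ finrank F (Fin n₁ → F) := by
      rw [Module.finrank_fintype_fun_eq_card, Fintype.card_fin]
      exact h1
    obtain ⟨v, hv0, hv⟩ := Cfsg.Agent.Lib.Helper15.exists_singular_of_three_le Q₁ h3
    refine ⟨v, hv0, ?_⟩
    rw [hdot₁]
    have : Q₁ v = v ⬝ᵥ (G₁ *ᵥ v) := by
      show LinearMap.BilinMap.toQuadraticMap (Matrix.toBilin' G₁) v = _
      rw [LinearMap.BilinMap.toQuadraticMap_apply, Matrix.toBilin'_apply']
    rw [← this]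
    exact hv
  obtain ⟨z₁, hz₁⟩ := (hf₁.nondegenerate x hx0).2
  set β := f₁ x z₁ with hβ
  set x' : Fin n₁ → F := z₁ - (f₁ z₁ z₁ / (2 * β)) • x with hx'
  have hxx' : f₁ x x' = β := by
    rw [hx', sub_eq_add_neg, hb₁.add_right, ← neg_smul, hb₁.smul_right, hxx, mul_zero, add_zero]
  have hx'x : f₁ x' x = β := by rw [hf₁.symm, hxx']
  have hx'x' : f₁ x' x' = 0 := by
    have e1 : ∀ v, f₁ x' v = f₁ z₁ v - (f₁ z₁ z₁ / (2 * β)) * f₁ x v := by
      intro v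
      rw [hx', sub_eq_add_neg, hb₁.add_left, ← neg_smul, hb₁.smul_left]
      ring
    have e2 : f₁ z₁ x' = f₁ z₁ z₁ - (f₁ z₁ z₁ / (2 * β)) * β := by
      rw [hf₁.symm z₁ x', e1 z₁, ← hβ]
    rw [e1 x', e2, hxx']
    field_simp
    ring
  have hβ0 : β ≠ 0 := hz₁
  -- `y ≠ 0`, a witness `z` with `f₂ z y ≠ 0`, and `y' ≠ 0` orthogonal to `y` and `z`
  obtain ⟨y, hy0⟩ : ∃ y : Fin n₂ → F, y ≠ 0 := by
    refine ⟨Pi.single ⟨0, by omega⟩ 1, ?_⟩
    intro h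
    have := congrFun h ⟨0, by omega⟩
    simp at this
  obtain ⟨z, hz⟩ := (hf₂.nondegenerate y hy0).1
  obtain ⟨y', hy'0, hyy', hzy'⟩ : ∃ y' : Fin n₂ → F, y' ≠ 0 ∧ f₂ y y' = 0 ∧ f₂ z y' = 0 := by
    let L : (Fin n₂ → F) →ₗ[F] (Fin 2 → F) :=
      { toFun := fun v => ![f₂ y v, f₂ z v]
        map_add' := by
          intro v w
          funext i
          fin_cases i
          · exact hb₂.add_right y v w
          · exact hb₂.add_right z v w
        map_smul' := by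
          intro t v
          funext i
          fin_cases i
          · exact hb₂.smul_right t y v
          · exact hb₂.smul_right t z v }
    have hker : LinearMap.ker L ≠ ⊥ := by
      intro hbot
      have hinj : Function.Injective L := LinearMap.ker_eq_bot.1 hbot
      have := LinearMap.finrank_le_finrank_of_injective hinj
      rw [Module.finrank_fintype_fun_eq_card, Module.finrank_fintype_fun_eq_card, Fintype.card_fin,
        Fintype.card_fin] at this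
      omega
    obtain ⟨v, hv, hv0⟩ := (Submodule.ne_bot_iff _).1 hker
    have hLv : L v = 0 := hv
    refine ⟨v, hv0, ?_, ?_⟩
    · have := congrFun hLv 0
      exact this
    · have := congrFun hLv 1
      exact this
  have hy'y : f₂ y' y = 0 := by rw [hf₂.symm]; exact hyy'
  -- the two vectors
  set d₀ : Fin n₁ × Fin n₂ → F := pk x y with hd₀
  set w₀ : Fin n₁ × Fin n₂ → F := pk x y + pk x' y' with hw₀
  have hd₀ne : d₀ ≠ 0 := by
    intro h
    obtain ⟨a, ha⟩ : ∃ a, x a ≠ 0 := by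
      by_contra hcon
      push Not at hcon
      exact hx0 (funext hcon)
    obtain ⟨b, hb⟩ : ∃ b, y b ≠ 0 := by
      by_contra hcon
      push Not at hcon
      exact hy0 (funext hcon)
    have := congrFun h (a, b)
    simp only [hd₀, pk, Pi.zero_apply] at this
    exact mul_ne_zero ha hb this
  -- `w₀` is not decomposable
  have hw₀dec : w₀ ∉ Cfsg.Agent.Lib.Helper28.SLMLeaf.Dec2 n₁ n₂ F := by
    rintro ⟨p, q, hpq⟩
    have hpq' : w₀ = pk p q := hpq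
    have e1 : ctrA (G₁ *ᵥ x') w₀ = β • y := by
      rw [hw₀, ctrA_add, ctrA_pk, ctrA_pk, dotProduct_comm, ← hdot₁, dotProduct_comm (G₁ *ᵥ x') x', ← hdot₁,
        hxx', hx'x', zero_smul, add_zero]
    have e2 : ctrA (G₁ *ᵥ x) w₀ = β • y' := by
      rw [hw₀, ctrA_add, ctrA_pk, ctrA_pk, dotProduct_comm, ← hdot₁, dotProduct_comm (G₁ *ᵥ x) x', ← hdot₁,
        hxx, hx'x, zero_smul, zero_add]
    rw [hpq', ctrA_pk] at e1 e2
    -- `β y = s q`, `β y' = s' q`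
    have k1 : f₂ z (β • y) = β * f₂ z y := by rw [hb₂.smul_right]
    have k2 : f₂ z (β • y') = 0 := by rw [hb₂.smul_right, hzy', mul_zero]
    rw [← e1, hb₂.smul_right] at k1
    rw [← e2, hb₂.smul_right] at k2
    have hq : f₂ z q ≠ 0 := by
      intro h
      rw [h, mul_zero] at k1
      exact mul_ne_zero hβ0 hz k1.symm
    have hs' : (G₁ *ᵥ x) ⬝ᵥ p = 0 := by
      rcases mul_eq_zero.1 k2 with h | h
      · exact h
      · exact absurd h hq
    rw [hs', zero_smul] at e2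
    have : y' = 0 := by
      have h3 := congrArg (fun v => β⁻¹ • v) e2
      simp only [smul_zero, smul_smul, inv_mul_cancel₀ hβ0, one_smul] at h3
      exact h3.symm
    exact hy'0 this
  have hw₀ne : w₀ ≠ 0 := by
    intro h
    apply hw₀dec
    rw [h]
    refine ⟨0, 0, ?_⟩
    funext z
    simp
  -- both are singular
  have hQd : Q (τ d₀) = 0 := by
    apply hQhalf
    rw [hd₀, hpol, hxx, zero_mul, mul_zero]
  have hQw : Q (τ w₀) = 0 := by
    apply hQhalf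
    rw [hw₀, hτadd, polar_add_left, polar_add_right, polar_add_right, hpol, hpol, hpol, hpol]
    simp only [hxx, hx'x', hyy', hy'y, mul_zero, zero_mul, add_zero]
  have hτd : τ d₀ ≠ 0 := Cfsg.Agent.Lib.Helper26.SpMLeaf.tau26_ne_zero e P hd₀ne
  have hτw : τ w₀ ≠ 0 := Cfsg.Agent.Lib.Helper26.SpMLeaf.tau26_ne_zero e P hw₀ne
  -- move `τ w₀` to `τ d₀` inside `Ω`
  obtain ⟨g, hgΩ, t, hgt⟩ := Cfsg.Agent.Lib.Helper28.OmMLeaf.exists_omega_move28 Q hQ (by omega) hτw hQw hτd hQd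
  obtain ⟨g₁, ⟨g₀, hg₀, rfl⟩, rfl⟩ := hle hgΩ
  have hconj : ((MulAut.conj P).toMonoidHom ((glReindex e.symm).toMonoidHom g₀)) =
      P * glReindex e.symm g₀ * P⁻¹ := rfl
  rw [hconj, Cfsg.Agent.Lib.Helper26.SpMLeaf.conj_mulVec_tau26, ← hτsmul] at hgt
  have hgw : (g₀ : Matrix (Fin n₁ × Fin n₂) (Fin n₁ × Fin n₂) F) *ᵥ w₀ = t • d₀ :=
    Cfsg.Agent.Lib.Helper26.SpMLeaf.tau26_injective e P hgt
  -- pull back with `g₀⁻¹`
  have hinv : ∀ g ∈ kroneckerSubgroup n₁ n₂ F, ∀ w ∈ Cfsg.Agent.Lib.Helper28.SLMLeaf.Dec2 n₁ n₂ F,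
      (g : Matrix (Fin n₁ × Fin n₂) (Fin n₁ × Fin n₂) F) *ᵥ w ∈ Cfsg.Agent.Lib.Helper28.SLMLeaf.Dec2 n₁ n₂ F := by
    rintro g ⟨a, b, hab⟩ w ⟨x, y, rfl⟩
    rw [hab]
    exact ⟨_, _, Cfsg.Agent.Lib.Helper28.SLMLeaf.kron_mulVec_dec _ _ x y⟩
  have hmem : (g₀ : Matrix (Fin n₁ × Fin n₂) (Fin n₁ × Fin n₂) F) *ᵥ w₀ ∈
      Cfsg.Agent.Lib.Helper28.SLMLeaf.Dec2 n₁ n₂ F := by
    rw [hgw, hd₀, smul_pk]
    exact pk_mem_dec2 _ _
  have hback := hinv g₀⁻¹ (inv_mem hg₀) _ hmem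
  rw [Matrix.mulVec_mulVec, ← Units.val_mul, inv_mul_cancel, Units.val_one, Matrix.one_mulVec] at hback
  exact hw₀dec hback

end generic

end Cfsg.Agent.Lib.Helper28.OELeaf
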