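import Mathlib
import Cfsg.Agent.Lib.Helper18.UNdDefs
import Cfsg.Agent.Lib.Helper18.UDenseMain
import Cfsg.Agent.Lib.Helper14.Unitary2

/-!
S5655 (SU_n C2), k = 1, q ≥ 3, NON-DENSE chain (helper18's market): leaves PIG
(`exists_norm_ratio`, `exists_norm_ne`, `exists_normOne_sq_ne`): pigeonhole on the norms `N(1 - ξ)`, `ξ` of norm one.
-/

set_option autoImplicit false

namespace Cfsg.Agent.Lib.Helper28.UNdLeaf
open Cfsg Matrix Cfsg.Agent.Lib.Helper11.Mono Cfsg.Agent.Lib.Helper15.MonoLeaf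
  Cfsg.Agent.Lib.Helper2.MonoLeaf Cfsg.Agent.Lib.Helper5.SUMax Cfsg.Agent.Lib.Helper5.HermBridge
  Cfsg.Agent.Lib.Helper5.UForm Cfsg.Agent.Lib.Helper18.UNd

variable {F : Type*} [Field F] [Fintype F] {n q : ℕ}

/-- the norm-one elements different from `1` -/
noncomputable def pigT (F : Type*) [Field F] [Fintype F] [DecidableEq F] (q : ℕ) : Finset Fˣ :=
  Finset.univ.filter (fun ξ : Fˣ => ξ ^ (q + 1) = 1 ∧ ξ ≠ 1)

/-- `ξ ↦ N(1 - ξ)` -/
def pigf (q : ℕ) (ξ : Fˣ) : F := (1 - (ξ : F)) ^ (q + 1)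

lemma mem_pigT [DecidableEq F] (ξ : Fˣ) : ξ ∈ pigT F q ↔ ξ ^ (q + 1) = 1 ∧ ξ ≠ 1 := by
  simp [pigT]

lemma card_normOne_filter [DecidableEq F] (hF : Fintype.card F = q ^ 2) :
    (Finset.univ.filter (fun ξ : Fˣ => ξ ^ (q + 1) = 1)).card = q + 1 := by
  classical
  have h := Cfsg.Agent.Lib.Helper14.card_normOne hF
  rw [Nat.card_eq_fintype_card] at h
  refine (Fintype.card_of_subtype (p := fun ξ : Fˣ => ξ ∈ Cfsg.Agent.Lib.Helper14.normOne F q)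
    (Finset.univ.filter (fun ξ : Fˣ => ξ ^ (q + 1) = 1)) (fun ξ => ?_)).symm.trans h
  simp only [Finset.mem_filter, Finset.mem_univ, true_and]
  exact (Cfsg.Agent.Lib.Helper14.mem_normOne ξ).symm

lemma card_pigT [DecidableEq F] (hF : Fintype.card F = q ^ 2) : (pigT F q).card = q := by
  have h1 : pigT F q = (Finset.univ.filter (fun ξ : Fˣ => ξ ^ (q + 1) = 1)).erase 1 := by
    ext ξ
    simp only [pigT, Finset.mem_filter, Finset.mem_univ, true_and, Finset.mem_erase]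
    tauto
  rw [h1, Finset.card_erase_of_mem (by simp), card_normOne_filter hF]
  rfl

lemma pigf_ne_zero {ξ : Fˣ} (hξ1 : ξ ≠ 1) : pigf q ξ ≠ 0 := by
  unfold pigf
  apply pow_ne_zero
  intro h
  apply hξ1
  apply Units.ext
  rw [Units.val_one]
  exact (sub_eq_zero.1 h).symm

lemma pigf_pow [DecidableEq F] (hF : Fintype.card F = q ^ 2) (ξ : Fˣ) : pigf q ξ ^ q = pigf q ξ := by
  unfold pigf
  rw [pow_succ', Cfsg.Agent.Lib.Helper14.herm_norm_mem hF]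

lemma val_pow_q {ξ : Fˣ} (hξ : ξ ^ (q + 1) = 1) : ((ξ : F)) ^ q = ((ξ⁻¹ : Fˣ) : F) := by
  have h1 : ((ξ : F)) ^ (q + 1) = 1 := by
    have := congrArg Units.val hξ
    rwa [Units.val_pow_eq_pow_val, Units.val_one] at this
  have h2 : ((ξ : F)) ^ q * (ξ : F) = 1 := by rw [← pow_succ]; exact h1
  calc ((ξ : F)) ^ q = ((ξ : F)) ^ q * ((ξ : F) * ((ξ⁻¹ : Fˣ) : F)) := by
        rw [Units.mul_inv, mul_one]
    _ = ((ξ⁻¹ : Fˣ) : F) := by rw [← mul_assoc, h2, one_mul]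

/-- `N(1 - ξ) = 2 - ξ - ξ⁻¹` -/
lemma pigf_eq [DecidableEq F] (hF : Fintype.card F = q ^ 2) {ξ : Fˣ} (hξ : ξ ^ (q + 1) = 1) :
    pigf q ξ = 2 - (ξ : F) - ((ξ⁻¹ : Fˣ) : F) := by
  unfold pigf
  rw [pow_succ, Cfsg.Agent.Lib.Helper14.herm_sub_pow hF, one_pow, val_pow_q hξ]
  have h := Units.inv_mul ξ
  linear_combination h

/-- the fibres of `ξ ↦ N(1 - ξ)` on the norm-one group are `{ξ, ξ⁻¹}` -/
lemma eq_or_eq_inv_of_pigf_eq [DecidableEq F] (hF : Fintype.card F = q ^ 2) {ξ ξ' : Fˣ}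
    (hξ : ξ ^ (q + 1) = 1) (hξ' : ξ' ^ (q + 1) = 1) (h : pigf q ξ' = pigf q ξ) :
    ξ' = ξ ∨ ξ' = ξ⁻¹ := by
  rw [pigf_eq hF hξ, pigf_eq hF hξ'] at h
  have h1 := Units.inv_mul ξ
  have h2 := Units.inv_mul ξ'
  have h3 : ((ξ : F) - (ξ' : F)) * ((ξ : F) * (ξ' : F) - 1) = 0 := by
    linear_combination (ξ : F) * (ξ' : F) * h + (ξ : F) * h2 - (ξ' : F) * h1
  rcases mul_eq_zero.1 h3 with h4 | h4
  · left
    apply Units.ext
    exact (sub_eq_zero.1 h4).symm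
  · right
    have h5 : ξ * ξ' = 1 := by
      apply Units.ext
      rw [Units.val_mul, Units.val_one]
      exact sub_eq_zero.1 h4
    exact eq_inv_of_mul_eq_one_right h5

/-- at least `q / 2` norms `N(1 - ξ)` -/
lemma le_two_mul_card_image [DecidableEq F] (hF : Fintype.card F = q ^ 2) :
    q ≤ 2 * ((pigT F q).image (pigf q)).card := by
  have h := Finset.card_le_mul_card_image (f := pigf q) (pigT F q) 2 (by
    intro s hs
    obtain ⟨ξ, hξ, rfl⟩ := Finset.mem_image.1 hs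
    rw [mem_pigT] at hξ
    have hsub : (pigT F q).filter (fun x => pigf q x = pigf q ξ) ⊆ {ξ, ξ⁻¹} := by
      intro ξ' hξ'
      rw [Finset.mem_filter, mem_pigT] at hξ'
      rw [Finset.mem_insert, Finset.mem_singleton]
      exact eq_or_eq_inv_of_pigf_eq hF hξ.1 hξ'.1.1 hξ'.2
    exact (Finset.card_le_card hsub).trans Finset.card_le_two)
  rwa [card_pigT hF] at h

/-- the nonzero elements of the fixed field: at most `q - 1` -/
lemma card_fix_le [DecidableEq F] (hF : Fintype.card F = q ^ 2) :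
    (Finset.univ.filter (fun x : F => x ≠ 0 ∧ x ^ q = x)).card ≤ q - 1 := by
  have hq := Cfsg.Agent.Lib.Helper14.herm_two_le hF
  have hsub : Finset.univ.filter (fun x : F => x ≠ 0 ∧ x ^ q = x)
      ⊆ Polynomial.nthRootsFinset (q - 1) (1 : F) := by
    intro x hx
    rw [Finset.mem_filter] at hx
    rw [Polynomial.mem_nthRootsFinset (by omega)]
    have h1 : x ^ (q - 1) * x = 1 * x := by
      rw [← pow_succ, one_mul, Nat.sub_add_cancel (by omega)]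
      exact hx.2.2
    exact mul_right_cancel₀ hx.2.1 h1
  refine (Finset.card_le_card hsub).trans ?_
  rw [Polynomial.nthRootsFinset_def]
  exact (Multiset.toFinset_card_le _).trans (Polynomial.card_nthRoots _ _)

/-- PIG-a.  `S* = {N(1-ξ) : ξ^(q+1) = 1, ξ ≠ 1}` is a subset of `F_q^*` (`q - 1` elements) with at least `q/2` elements
(`ξ ↦ N(1-ξ) = 2 - ξ - ξ⁻¹` has fibres of size ≤ 2 on the `q` elements `ξ ≠ 1`), so `S*` meets `y S*` for `y ∈ F_q^*`. -/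
theorem exists_norm_ratio (hF : Fintype.card F = q ^ 2) (y : F) (hy0 : y ≠ 0) (hy : y ^ q = y) :
    ∃ ξ₁ ξ₂ : Fˣ, ξ₁ ^ (q + 1) = 1 ∧ ξ₂ ^ (q + 1) = 1 ∧ ξ₁ ≠ 1 ∧ ξ₂ ≠ 1 ∧
      (1 - (ξ₁ : F)) ^ (q + 1) = y * (1 - (ξ₂ : F)) ^ (q + 1) := by
  classical
  have hq := Cfsg.Agent.Lib.Helper14.herm_two_le hF
  obtain ⟨S, hS⟩ : ∃ S : Finset F, S = (pigT F q).image (pigf q) := ⟨_, rfl⟩
  obtain ⟨U, hU⟩ : ∃ U : Finset F, U = Finset.univ.filter (fun x : F => x ≠ 0 ∧ x ^ q = x) :=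
    ⟨_, rfl⟩
  have hSU : S ⊆ U := by
    intro s hs
    rw [hS] at hs
    obtain ⟨ξ, hξ, rfl⟩ := Finset.mem_image.1 hs
    rw [mem_pigT] at hξ
    rw [hU, Finset.mem_filter]
    exact ⟨Finset.mem_univ _, pigf_ne_zero hξ.2, pigf_pow hF ξ⟩
  have hyS : S.image (fun s => y * s) ⊆ U := by
    intro s hs
    obtain ⟨s', hs', rfl⟩ := Finset.mem_image.1 hs
    have h1 := hSU hs'
    rw [hU, Finset.mem_filter] at h1 ⊢
    exact ⟨Finset.mem_univ _, mul_ne_zero hy0 h1.2.1, by rw [mul_pow, hy, h1.2.2]⟩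
  have hcard : (S.image (fun s => y * s)).card = S.card :=
    Finset.card_image_of_injective _ (mul_right_injective₀ hy0)
  have h2 := le_two_mul_card_image hF (q := q)
  rw [← hS] at h2
  have h3 : U.card ≤ q - 1 := by rw [hU]; exact card_fix_le hF
  have hne : (S ∩ S.image (fun s => y * s)).Nonempty := by
    apply Finset.inter_nonempty_of_card_lt_card_add_card hSU hyS
    rw [hcard]
    omega
  obtain ⟨s, hs⟩ := hne
  rw [Finset.mem_inter] at hs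
  obtain ⟨hs1, hs2⟩ := hs
  rw [hS] at hs1
  obtain ⟨ξ₁, hξ₁, h4⟩ := Finset.mem_image.1 hs1
  obtain ⟨s', hs', h5⟩ := Finset.mem_image.1 hs2
  rw [hS] at hs'
  obtain ⟨ξ₂, hξ₂, h6⟩ := Finset.mem_image.1 hs'
  rw [mem_pigT] at hξ₁ hξ₂
  refine ⟨ξ₁, ξ₂, hξ₁.1, hξ₂.1, hξ₁.2, hξ₂.2, ?_⟩
  change pigf q ξ₁ = y * pigf q ξ₂
  rw [h4, h6, h5]

/-- PIG-b.  `S*` has at least two elements when `q ≥ 3`. -/
theorem exists_norm_ne (hF : Fintype.card F = q ^ 2) (hq : 3 ≤ q) (y : F) :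
    ∃ ξ : Fˣ, ξ ^ (q + 1) = 1 ∧ ξ ≠ 1 ∧ (1 - (ξ : F)) ^ (q + 1) ≠ y := by
  classical
  have h2 := le_two_mul_card_image hF (q := q)
  have h3 : 1 < ((pigT F q).image (pigf q)).card := by omega
  obtain ⟨s, hs, hsy⟩ := Finset.exists_mem_ne h3 y
  obtain ⟨ξ, hξ, rfl⟩ := Finset.mem_image.1 hs
  rw [mem_pigT] at hξ
  exact ⟨ξ, hξ.1, hξ.2, hsy⟩

/-- PIG-c.  an element of norm one which is not `±1` (`q ≥ 3`). -/
theorem exists_normOne_sq_ne (hF : Fintype.card F = q ^ 2) (hq : 3 ≤ q) :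
    ∃ ξ : Fˣ, ξ ^ (q + 1) = 1 ∧ ξ ^ 2 ≠ 1 := by
  classical
  have h1 := card_normOne_filter hF (q := q)
  have h2 : ({1, -1} : Finset Fˣ).card < (Finset.univ.filter (fun ξ : Fˣ => ξ ^ (q + 1) = 1)).card := by
    rw [h1]
    have := Finset.card_le_two (a := (1 : Fˣ)) (b := -1)
    omega
  obtain ⟨ξ, hξ, hξn⟩ := Finset.exists_mem_notMem_of_card_lt_card h2
  rw [Finset.mem_filter] at hξ
  refine ⟨ξ, hξ.2, ?_⟩
  intro h
  apply hξn
  rw [Finset.mem_insert, Finset.mem_singleton]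
  have h3 : ((ξ : F)) ^ 2 = 1 := by
    have := congrArg Units.val h
    rwa [Units.val_pow_eq_pow_val, Units.val_one] at this
  rcases sq_eq_one_iff.1 h3 with h4 | h4
  · left
    apply Units.ext
    rw [Units.val_one]
    exact h4
  · right
    apply Units.ext
    rw [Units.val_neg, Units.val_one]
    exact h4

end Cfsg.Agent.Lib.Helper28.UNdLeaf
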