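import Mathlib
import Cfsg.Prelude.Def_ClassicalGeometry
import Cfsg.Prelude.Def_GeometricClasses
import Cfsg.Agent.Lib.Helper2.SOTDefs
import Cfsg.Agent.Lib.Helper25.SpTNDefs
import Cfsg.Agent.Lib.Helper11.SOTS123

/-!
S5666 (`Sp_a ⊗ O_b` maximal in `Sp_{ab}(q)`, `q` odd), PART (B): the case `a = 2` (helper28's sub-market of
helper2's S5666 market; paper proof `notes/S5666_plan.md` §4 and `notes/S5666_B_plan.md`).
Definitions and basic API (all proved):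

* `etaMat G z v`, `etaGL G z v`: the Siegel element `η_{z,v}` of `O(B)` (`z` singular, `v ⊥ z`):
  `y ↦ y + f(y,z) v - f(y,v) z - ½ Q(v) f(y,z) z`;
* `kE G z v := kel 1 (etaGL G z v)` = `1 ⊗ η_{z,v}` (in `KG ⊓ SpV G`);
* `StabZ z g`: `g` maps `A ⊗ z` into itself;
* `NormG G o o'`: `G` is in normal form w.r.t. the index pair `(o, o')` (`e_o, e_o'` a hyperbolic pair orthogonal
  to the other basis vectors);
* `mem_SpV_of_gram`, `kel_one_mem_SpV`, `sf_two`, `sf_mulVec_two`, `kel_mem_SpV_two`;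
* `conjM P M`: the conjugate `(1 ⊗ P)⁻¹ M (1 ⊗ P)` (transport to the Gram matrix `Pᵀ G P`).
-/

set_option autoImplicit false
set_option linter.unusedSectionVars false
set_option linter.unusedVariables false

namespace Cfsg.Agent.Lib.Helper28.SOTB
open Matrix
open Cfsg.Agent.Lib.Helper25.Tens Cfsg.Agent.Lib.Helper25.SpT Cfsg.Agent.Lib.Helper19.OSub
open Cfsg.Agent.Lib.Helper2.SOT
open scoped Kronecker

variable {F : Type*} [Field F] {a b : ℕ}

/-! ### the Siegel elements of `O(B)` -/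

/-- the matrix of `η_{z,v}` -/
def etaMat (G : Matrix (Fin b) (Fin b) F) (z v : Fin b → F) : Matrix (Fin b) (Fin b) F :=
  1 + vecMulVec v (G *ᵥ z) - vecMulVec z (G *ᵥ v) - (fB G v v / 2) • vecMulVec z (G *ᵥ z)

lemma vecMulVec_mulVec' {n : ℕ} (u v w : Fin n → F) : vecMulVec u v *ᵥ w = (v ⬝ᵥ w) • u := by
  rw [Matrix.vecMulVec_mulVec]
  ext i
  simp only [Pi.smul_apply, smul_eq_mul, MulOpposite.smul_eq_mul_unop, MulOpposite.unop_op]
  ring

lemma etaMat_mulVec (G : Matrix (Fin b) (Fin b) F) (z v y : Fin b → F) :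
    etaMat G z v *ᵥ y =
      y + fB G y z • v - fB G y v • z - (fB G v v / 2 * fB G y z) • z := by
  unfold etaMat
  rw [Matrix.sub_mulVec, Matrix.sub_mulVec, Matrix.add_mulVec, Matrix.one_mulVec,
    Matrix.smul_mulVec, vecMulVec_mulVec', vecMulVec_mulVec', vecMulVec_mulVec', smul_smul]
  have e1 : G *ᵥ z ⬝ᵥ y = fB G y z := by rw [fB, dotProduct_comm]
  have e2 : G *ᵥ v ⬝ᵥ y = fB G y v := by rw [fB, dotProduct_comm]
  rw [e1, e2]

/-- `η_{z,-v}` inverts `η_{z,v}` -/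
lemma etaMat_mul_neg {G : Matrix (Fin b) (Fin b) F} (hG : Gᵀ = G) (h2 : (2 : F) ≠ 0)
    {z v : Fin b → F}
    (hz : fB G z z = 0) (hzv : fB G z v = 0) : etaMat G z v * etaMat G z (-v) = 1 := by
  have hvz : fB G v z = 0 := by rw [fB_comm G hG, hzv]
  apply Matrix.mulVec_injective
  funext y
  rw [← Matrix.mulVec_mulVec, Matrix.one_mulVec, etaMat_mulVec G z (-v) y, etaMat_mulVec]
  have hnn : fB G (-v) (-v) = fB G v v := by
    have e : (-v : Fin b → F) = (-1 : F) • v := by rw [neg_smul, one_smul]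
    rw [e, fB_smul_left, fB_smul_right]; ring
  have hyn : fB G y (-v) = - fB G y v := by
    have e : (-v : Fin b → F) = (-1 : F) • v := by rw [neg_smul, one_smul]
    rw [e, fB_smul_right]; ring
  simp only [fB_add_left, fB_smul_left, hnn, hyn, sub_eq_add_neg, ← neg_smul, hz, hzv, hvz]
  have e3 : fB G (-v) z = 0 := by
    have e : (-v : Fin b → F) = (-1 : F) • v := by rw [neg_smul, one_smul]
    rw [e, fB_smul_left, hvz, mul_zero]
  have e4 : fB G (-v) v = - fB G v v := by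
    have e : (-v : Fin b → F) = (-1 : F) • v := by rw [neg_smul, one_smul]
    rw [e, fB_smul_left]; ring
  rw [e3, e4]
  match_scalars <;> field_simp <;> ring

/-- `η_{z,v}` is an isometry of `fB G` -/
lemma etaMat_isom {G : Matrix (Fin b) (Fin b) F} (hG : Gᵀ = G) (h2 : (2 : F) ≠ 0)
    {z v : Fin b → F} (hz : fB G z z = 0) (hzv : fB G z v = 0) (y y' : Fin b → F) :
    fB G (etaMat G z v *ᵥ y) (etaMat G z v *ᵥ y') = fB G y y' := by
  have hvz : fB G v z = 0 := by rw [fB_comm G hG, hzv]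
  rw [etaMat_mulVec, etaMat_mulVec]
  simp only [sub_eq_add_neg, ← neg_smul, fB_add_left, fB_add_right, fB_smul_left, fB_smul_right,
    hz, hzv, hvz, fB_comm G hG v y', fB_comm G hG z y']
  field_simp
  ring

/-- the Siegel element `η_{z,v}` as an element of `GL` (equal to `1` unless `z` is singular and `v ⊥ z`) -/
noncomputable def etaGL (G : Matrix (Fin b) (Fin b) F) (z v : Fin b → F) : GL (Fin b) F := by
  classical
  exact if h : etaMat G z v * etaMat G z (-v) = 1 then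
    ⟨etaMat G z v, etaMat G z (-v), h, mul_eq_one_comm.1 h⟩ else 1

lemma etaGL_val {G : Matrix (Fin b) (Fin b) F} (hG : Gᵀ = G) (h2 : (2 : F) ≠ 0)
    {z v : Fin b → F} (hz : fB G z z = 0) (hzv : fB G z v = 0) :
    ((etaGL G z v : GL (Fin b) F) : Matrix (Fin b) (Fin b) F) = etaMat G z v := by
  unfold etaGL
  rw [dif_pos (etaMat_mul_neg hG h2 hz hzv)]

lemma etaGL_mulVec {G : Matrix (Fin b) (Fin b) F} (hG : Gᵀ = G) (h2 : (2 : F) ≠ 0)
    {z v : Fin b → F} (hz : fB G z z = 0) (hzv : fB G z v = 0) (y : Fin b → F) :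
    ((etaGL G z v : GL (Fin b) F) : Matrix (Fin b) (Fin b) F) *ᵥ y =
      y + fB G y z • v - fB G y v • z - (fB G v v / 2 * fB G y z) • z := by
  rw [etaGL_val hG h2 hz hzv, etaMat_mulVec]

lemma etaGL_isom {G : Matrix (Fin b) (Fin b) F} (hG : Gᵀ = G) (h2 : (2 : F) ≠ 0)
    {z v : Fin b → F} (hz : fB G z z = 0) (hzv : fB G z v = 0) (y y' : Fin b → F) :
    fB G (((etaGL G z v : GL (Fin b) F) : Matrix (Fin b) (Fin b) F) *ᵥ y)
      (((etaGL G z v : GL (Fin b) F) : Matrix (Fin b) (Fin b) F) *ᵥ y') = fB G y y' := by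
  rw [etaGL_val hG h2 hz hzv]
  exact etaMat_isom hG h2 hz hzv y y'

/-- `η_{z,v}` fixes `⟨z, v⟩^⊥` pointwise -/
lemma etaGL_fix {G : Matrix (Fin b) (Fin b) F} (hG : Gᵀ = G) (h2 : (2 : F) ≠ 0)
    {z v : Fin b → F} (hz : fB G z z = 0) (hzv : fB G z v = 0) {y : Fin b → F} (hyz : fB G y z = 0)
    (hyv : fB G y v = 0) :
    ((etaGL G z v : GL (Fin b) F) : Matrix (Fin b) (Fin b) F) *ᵥ y = y := by
  rw [etaGL_mulVec hG h2 hz hzv, hyz, hyv]
  simp

/-! ### membership in `SpV G` -/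

lemma fV_eq (G : Matrix (Fin b) (Fin b) F) (v w : Idx a b → F) :
    fV G v w = v ⬝ᵥ ((Jm a ⊗ₖ G : Matrix (Idx a b) (Idx a b) F) *ᵥ w) := rfl

/-- Gram matrix criterion -/
lemma mem_SpV_of_gram {G : Matrix (Fin b) (Fin b) F} {g : GL (Idx a b) F}
    (h : (g : Matrix (Idx a b) (Idx a b) F)ᵀ * (Jm a ⊗ₖ G : Matrix (Idx a b) (Idx a b) F) *
      (g : Matrix (Idx a b) (Idx a b) F) = (Jm a ⊗ₖ G : Matrix (Idx a b) (Idx a b) F)) :
    g ∈ SpV G := by
  rw [mem_SpV]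
  intro v w
  unfold mv
  rw [fV_eq, fV_eq, Matrix.mulVec_mulVec, Matrix.dotProduct_mulVec, Matrix.vecMul_mulVec,
    ← Matrix.dotProduct_mulVec, ← Matrix.mulVec_mulVec, ← Matrix.mulVec_mulVec,
    Matrix.mulVec_mulVec, Matrix.mulVec_mulVec]
  rw [h]

/-! ### the elements `1 ⊗ β`, `β ∈ O(B)`, and `1 ⊗ η_{z,v}` -/

lemma one_gl_mulVec {n : ℕ} (x : Fin n → F) :
    (((1 : GL (Fin n) F)) : Matrix (Fin n) (Fin n) F) *ᵥ x = x := by
  rw [Units.val_one, Matrix.one_mulVec]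

lemma mv_kel_one_pt (β : GL (Fin b) F) (x : Fin a → F) (y : Fin b → F) :
    mv (kel (1 : GL (Fin a) F) β : GL (Idx a b) F) (pt x y) =
      pt x ((β : Matrix (Fin b) (Fin b) F) *ᵥ y) := by
  unfold mv
  rw [kel_mulVec_pt, one_gl_mulVec]

/-- `1 ⊗ β` is an isometry of `fV G` if `β` is an isometry of `fB G` -/
lemma kel_one_mem_SpV [Fintype F] (G : Matrix (Fin b) (Fin b) F) (β : GL (Fin b) F)
    (hβ : ∀ y y' : Fin b → F, fB G ((β : Matrix (Fin b) (Fin b) F) *ᵥ y)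
      ((β : Matrix (Fin b) (Fin b) F) *ᵥ y') = fB G y y') :
    (kel (1 : GL (Fin a) F) β : GL (Idx a b) F) ∈ SpV G :=
  Cfsg.Agent.Lib.Helper11.SOTLeaf.kel_mem_SpV G 1 β 1 1 (one_mul 1)
    (fun x x' => by rw [one_gl_mulVec, one_gl_mulVec, one_mul]) (fun y y' => by rw [hβ, one_mul])

/-- `1 ⊗ β ∈ M` for `β ∈ O(B)` -/
lemma kel_one_mem [Fintype F] {G : Matrix (Fin b) (Fin b) F} {M : Subgroup (GL (Idx a b) F)}
    (h : MCtx a b G M) (β : GL (Fin b) F)
    (hβ : ∀ y y' : Fin b → F, fB G ((β : Matrix (Fin b) (Fin b) F) *ᵥ y)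
      ((β : Matrix (Fin b) (Fin b) F) *ᵥ y') = fB G y y') :
    (kel (1 : GL (Fin a) F) β : GL (Idx a b) F) ∈ M :=
  h.le ⟨kel_mem_KG _ _, kel_one_mem_SpV G β hβ⟩

/-- `1 ⊗ η_{z,v}` -/
noncomputable def kE {a : ℕ} (G : Matrix (Fin b) (Fin b) F) (z v : Fin b → F) : GL (Idx a b) F :=
  kel (1 : GL (Fin a) F) (etaGL G z v)

lemma kE_mem_KG (G : Matrix (Fin b) (Fin b) F) (z v : Fin b → F) :
    (kE G z v : GL (Idx a b) F) ∈ KG a b F := kel_mem_KG _ _

lemma kE_val (G : Matrix (Fin b) (Fin b) F) (z v : Fin b → F) :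
    ((kE G z v : GL (Idx a b) F) : Matrix (Idx a b) (Idx a b) F) =
      (1 : Matrix (Fin a) (Fin a) F) ⊗ₖ ((etaGL G z v : GL (Fin b) F) : Matrix (Fin b) (Fin b) F) := by
  unfold kE
  rw [kel_val, Units.val_one]

lemma mv_kE_pt {G : Matrix (Fin b) (Fin b) F} (hG : Gᵀ = G) (h2 : (2 : F) ≠ 0)
    {z v : Fin b → F} (hz : fB G z z = 0) (hzv : fB G z v = 0) (x : Fin a → F) (y : Fin b → F) :
    mv (kE G z v : GL (Idx a b) F) (pt x y) =
      pt x (y + fB G y z • v - fB G y v • z - (fB G v v / 2 * fB G y z) • z) := by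
  unfold kE
  rw [mv_kel_one_pt, etaGL_mulVec hG h2 hz hzv]

/-- `1 ⊗ η_{z,v}` fixes `x ⊗ y` for `y ⊥ z, v` -/
lemma mv_kE_fix {G : Matrix (Fin b) (Fin b) F} (hG : Gᵀ = G) (h2 : (2 : F) ≠ 0)
    {z v : Fin b → F} (hz : fB G z z = 0) (hzv : fB G z v = 0) (x : Fin a → F) {y : Fin b → F}
    (hyz : fB G y z = 0) (hyv : fB G y v = 0) :
    mv (kE G z v : GL (Idx a b) F) (pt x y) = pt x y := by
  unfold kE
  rw [mv_kel_one_pt, etaGL_fix hG h2 hz hzv hyz hyv]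

lemma kE_mem_SpV [Fintype F] {G : Matrix (Fin b) (Fin b) F} (hG : Gᵀ = G) (h2 : (2 : F) ≠ 0)
    {z v : Fin b → F} (hz : fB G z z = 0) (hzv : fB G z v = 0) :
    (kE G z v : GL (Idx a b) F) ∈ SpV G :=
  kel_one_mem_SpV G _ (etaGL_isom hG h2 hz hzv)

lemma kE_mem [Fintype F] {G : Matrix (Fin b) (Fin b) F} {M : Subgroup (GL (Idx a b) F)}
    (h : MCtx a b G M) {z v : Fin b → F} (hz : fB G z z = 0) (hzv : fB G z v = 0) :
    (kE G z v : GL (Idx a b) F) ∈ M :=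
  h.le ⟨kE_mem_KG G z v, kE_mem_SpV h.symm h.two hz hzv⟩

/-! ### `a = 2`: every `α ∈ GL(A)` is a similitude of `sf` with multiplier `det α` -/

lemma sf_two (x y : Fin 2 → F) : sf x y = x 0 * y 1 - x 1 * y 0 := by
  rw [sf_eq_sum]
  simp [Fin.sum_univ_two, Jm_apply]
  ring

lemma sf_mulVec_two (α : Matrix (Fin 2) (Fin 2) F) (x x' : Fin 2 → F) :
    sf (α *ᵥ x) (α *ᵥ x') = α.det * sf x x' := by
  rw [sf_two, sf_two, Matrix.det_fin_two]
  simp only [Matrix.mulVec, dotProduct, Fin.sum_univ_two]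
  ring

/-- the `sf`-adjoint of a `2 × 2` matrix is its adjugate -/
lemma sf_mulVec_left_two (θ : Matrix (Fin 2) (Fin 2) F) (x x' : Fin 2 → F) :
    sf (θ *ᵥ x) x' = sf x (θ.adjugate *ᵥ x') := by
  rw [sf_two, sf_two, Matrix.adjugate_fin_two]
  simp only [Matrix.mulVec, dotProduct, Fin.sum_univ_two, Matrix.of_apply, Matrix.cons_val_zero,
    Matrix.cons_val_one]
  ring

/-- `α ⊗ β ∈ SpV G` for `a = 2` as soon as `β` is a similitude of multiplier `(det α)⁻¹` -/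
lemma kel_mem_SpV_two [Fintype F] (G : Matrix (Fin b) (Fin b) F) (α : GL (Fin 2) F)
    (β : GL (Fin b) F) (ν : F)
    (hν : (α : Matrix (Fin 2) (Fin 2) F).det * ν = 1)
    (hβ : ∀ y y' : Fin b → F, fB G ((β : Matrix (Fin b) (Fin b) F) *ᵥ y)
      ((β : Matrix (Fin b) (Fin b) F) *ᵥ y') = ν * fB G y y') :
    (kel α β : GL (Idx 2 b) F) ∈ SpV G :=
  Cfsg.Agent.Lib.Helper11.SOTLeaf.kel_mem_SpV G α β _ ν hν (fun x x' => sf_mulVec_two _ x x') hβ

/-! ### stabilisers, normal form, conjugation -/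

/-- `g` maps `A ⊗ z` into itself -/
def StabZ (z : Fin b → F) (g : GL (Idx a b) F) : Prop :=
  ∀ x : Fin a → F, ∃ x' : Fin a → F, mv g (pt x z) = pt x' z

/-- `G` is in normal form w.r.t. the index pair `(o, o')`: `e_o, e_o'` is a hyperbolic pair orthogonal to
all other basis vectors (for symmetric `G`) -/
structure NormG (G : Matrix (Fin b) (Fin b) F) (o o' : Fin b) : Prop where
  ne : o ≠ o'
  row : ∀ k : Fin b, G o k = if k = o' then 1 else 0
  row' : ∀ k : Fin b, G o' k = if k = o then 1 else 0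

lemma NormG.col {G : Matrix (Fin b) (Fin b) F} {o o' : Fin b} (hN : NormG G o o') (hG : Gᵀ = G)
    (k : Fin b) : G k o = if k = o' then 1 else 0 := by
  rw [← hN.row k, ← hG, Matrix.transpose_apply, hG]

lemma NormG.col' {G : Matrix (Fin b) (Fin b) F} {o o' : Fin b} (hN : NormG G o o') (hG : Gᵀ = G)
    (k : Fin b) : G k o' = if k = o then 1 else 0 := by
  rw [← hN.row' k, ← hG, Matrix.transpose_apply, hG]

lemma NormG.mulVec_o {G : Matrix (Fin b) (Fin b) F} {o o' : Fin b} (hN : NormG G o o')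
    (v : Fin b → F) : (G *ᵥ v) o = v o' := by
  simp only [Matrix.mulVec, dotProduct, hN.row]
  simp

lemma NormG.mulVec_o' {G : Matrix (Fin b) (Fin b) F} {o o' : Fin b} (hN : NormG G o o')
    (v : Fin b → F) : (G *ᵥ v) o' = v o := by
  simp only [Matrix.mulVec, dotProduct, hN.row']
  simp

lemma fB_single_left (G : Matrix (Fin b) (Fin b) F) (k : Fin b) (y : Fin b → F) :
    fB G (Pi.single k 1) y = (G *ᵥ y) k := by
  unfold fB
  rw [single_one_dotProduct]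

lemma fB_single_right (G : Matrix (Fin b) (Fin b) F) (hG : Gᵀ = G) (k : Fin b) (y : Fin b → F) :
    fB G y (Pi.single k 1) = (G *ᵥ y) k := by
  rw [fB_comm G hG, fB_single_left]

lemma NormG.fB_o {G : Matrix (Fin b) (Fin b) F} {o o' : Fin b} (hN : NormG G o o') (hG : Gᵀ = G)
    (y : Fin b → F) : fB G y (Pi.single o 1) = y o' := by
  rw [fB_single_right G hG, hN.mulVec_o]

lemma NormG.fB_o' {G : Matrix (Fin b) (Fin b) F} {o o' : Fin b} (hN : NormG G o o') (hG : Gᵀ = G)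
    (y : Fin b → F) : fB G y (Pi.single o' 1) = y o := by
  rw [fB_single_right G hG, hN.mulVec_o']

lemma NormG.fB_oo {G : Matrix (Fin b) (Fin b) F} {o o' : Fin b} (hN : NormG G o o') (hG : Gᵀ = G) :
    fB G (Pi.single o (1 : F)) (Pi.single o 1) = 0 := by
  rw [hN.fB_o hG, Pi.single_eq_of_ne hN.ne.symm]

/-- the conjugate `(1 ⊗ P)⁻¹ M (1 ⊗ P)` -/
def conjM (P : GL (Fin b) F) (M : Subgroup (GL (Idx a b) F)) : Subgroup (GL (Idx a b) F) :=
  M.map (MulAut.conj (kel (1 : GL (Fin a) F) P)⁻¹).toMonoidHom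

lemma mem_conjM (P : GL (Fin b) F) (M : Subgroup (GL (Idx a b) F)) (g : GL (Idx a b) F) :
    g ∈ conjM P M ↔ kel (1 : GL (Fin a) F) P * g * (kel (1 : GL (Fin a) F) P)⁻¹ ∈ M := by
  unfold conjM
  rw [Subgroup.mem_map]
  constructor
  · rintro ⟨m, hm, rfl⟩
    simpa [MulAut.conj_apply, mul_assoc] using hm
  · intro hg
    refine ⟨_, hg, ?_⟩
    simp [MulAut.conj_apply, mul_assoc]

/-! ### `a = 2`: coordinates on `A` -/

/-- every vector of `V = A ⊗ B`, `A = ⟨e₀, e₁⟩`, is `e₀ ⊗ w₀ + e₁ ⊗ w₁` -/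
lemma eq_pt_two (w : Idx 2 b → F) :
    w = pt (Pi.single 0 1) (fun k => w (0, k)) + pt (Pi.single 1 1) (fun k => w (1, k)) := by
  funext ⟨i, k⟩
  fin_cases i <;> simp [pt]

lemma pt_two (x : Fin 2 → F) (y : Fin b → F) :
    pt x y = x 0 • pt (Pi.single 0 1) y + x 1 • pt (Pi.single 1 1) y := by
  funext ⟨i, k⟩
  fin_cases i <;> simp [pt]

/-- `1 ⊗ η_{z,v}` fixes `w = e₀ ⊗ w₀ + e₁ ⊗ w₁` if `w₀, w₁ ⊥ z, v` -/
lemma mv_kE_fix_two {G : Matrix (Fin b) (Fin b) F} (hG : Gᵀ = G) (h2 : (2 : F) ≠ 0)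
    {z v : Fin b → F} (hz : fB G z z = 0) (hzv : fB G z v = 0) (w : Idx 2 b → F)
    (h0z : fB G (fun k => w (0, k)) z = 0) (h0v : fB G (fun k => w (0, k)) v = 0)
    (h1z : fB G (fun k => w (1, k)) z = 0) (h1v : fB G (fun k => w (1, k)) v = 0) :
    mv (kE G z v : GL (Idx 2 b) F) w = w := by
  conv_lhs => rw [eq_pt_two w]
  conv_rhs => rw [eq_pt_two w]
  rw [mv_add, mv_kE_fix hG h2 hz hzv _ h0z h0v, mv_kE_fix hG h2 hz hzv _ h1z h1v]

end Cfsg.Agent.Lib.Helper28.SOTB
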