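import Mathlib
import Cfsg.Agent.Lib.Helper2.SOTDefs
import Cfsg.Agent.Lib.Helper28.SOTBDefs
import Cfsg.Agent.Lib.Helper9.SpTNU
import Cfsg.Agent.Lib.Helper25.TensS

/-!
S5666 part (B), leaf (KB) `kE_blocks` of `notes/S5666_B_leaves.lean` (exact signature): the blocks of
`1 ⊗ η_{e_o,v}`, `v ∈ B₀`, in normal form.
-/

set_option autoImplicit false
set_option linter.unusedSectionVars false
set_option linter.unusedVariables false

namespace Cfsg.Agent.Lib.Helper28.SOTBLeaf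
open Matrix
open Cfsg.Agent.Lib.Helper25.Tens Cfsg.Agent.Lib.Helper25.TensLeaves Cfsg.Agent.Lib.Helper25.SpT
open Cfsg.Agent.Lib.Helper19.OSub
open Cfsg.Agent.Lib.Helper2.SOT Cfsg.Agent.Lib.Helper28.SOTB
open scoped Kronecker

variable {F : Type*} [Field F] [Fintype F] {b : ℕ} {G : Matrix (Fin b) (Fin b) F}
  {M : Subgroup (GL (Idx 2 b) F)} {o o' : Fin b}

/-- entries of `η_{e_o,v}` in normal form -/
theorem etaGL_entry (hG : Gᵀ = G) (h2 : (2 : F) ≠ 0) (hN : NormG G o o') (v : Fin b → F)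
    (hvo' : v o' = 0) (k l : Fin b) :
    (etaGL G (Pi.single o 1) v : GL (Fin b) F).1 k l =
      (if k = l then 1 else 0) + (if l = o' then v k else 0) - (if k = o then (G *ᵥ v) l else 0) -
        (if l = o' ∧ k = o then fB G v v / 2 else 0) := by
  have hz : fB G (Pi.single o (1 : F)) (Pi.single o 1) = 0 := hN.fB_oo hG
  have hzv : fB G (Pi.single o (1 : F)) v = 0 := by
    rw [fB_single_left, hN.mulVec_o, hvo']
  have e1 : (etaGL G (Pi.single o 1) v : GL (Fin b) F).1 k l =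
      ((etaGL G (Pi.single o 1) v : GL (Fin b) F).1 *ᵥ Pi.single l 1) k := by
    rw [Matrix.mulVec_single_one]
    rfl
  rw [e1, etaGL_mulVec hG h2 hz hzv, hN.fB_o hG, fB_single_left]
  simp only [Pi.add_apply, Pi.sub_apply, Pi.smul_apply, smul_eq_mul, Pi.single_apply]
  by_cases hl : l = o'
  · subst hl
    by_cases hk : k = o
    · subst hk
      simp
    · simp [hk]
  · have hl' : ¬ o' = l := fun h => hl h.symm
    by_cases hk : k = o
    · subst hk
      simp [hl, hl']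
    · simp [hl, hl', hk]

/-- (KB) blocks of `1 ⊗ η_{e_o,v}`, `v ∈ B₀` -/
theorem kE_blocks {a : ℕ} (hG : Gᵀ = G) (h2 : (2 : F) ≠ 0) (hN : NormG G o o') (v : Fin b → F)
    (hvo : v o = 0) (hvo' : v o' = 0) :
    UF o o' (kE G (Pi.single o 1) v : GL (Idx a b) F).1 ∧
    (∀ l : Fin b, l ≠ o → l ≠ o' →
      blk (kE G (Pi.single o 1) v : GL (Idx a b) F).1 o l = (-(G *ᵥ v) l) • (1 : Matrix (Fin a) (Fin a) F)) ∧
    (∀ k : Fin b, k ≠ o → k ≠ o' →
      blk (kE G (Pi.single o 1) v : GL (Idx a b) F).1 k o' = v k • (1 : Matrix (Fin a) (Fin a) F)) ∧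
    blk (kE G (Pi.single o 1) v : GL (Idx a b) F).1 o o' =
      (-(fB G v v / 2)) • (1 : Matrix (Fin a) (Fin a) F) := by
  have hb : ∀ k l : Fin b, blk (kE G (Pi.single o 1) v : GL (Idx a b) F).1 k l =
      (etaGL G (Pi.single o 1) v : GL (Fin b) F).1 k l • (1 : Matrix (Fin a) (Fin a) F) := by
    intro k l
    have := kE_val (a := a) G (Pi.single o 1) v
    rw [show (kE G (Pi.single o 1) v : GL (Idx a b) F).1 = _ from this, blk_kron]
  have hne := hN.ne
  have hne' : o' ≠ o := hN.ne.symm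
  refine ⟨⟨?_, ?_, ?_⟩, ?_, ?_, ?_⟩
  · intro k l hk hl
    rw [hb, etaGL_entry hG h2 hN v hvo']
    by_cases hkl : k = l
    · subst hkl
      simp [hl, hk]
    · simp [hkl, hl, hk]
  · rw [hb, etaGL_entry hG h2 hN v hvo', hN.mulVec_o, hvo']
    simp [hne]
  · rw [hb, etaGL_entry hG h2 hN v hvo']
    simp [hne', hvo']
  · intro l hl hl'
    rw [hb, etaGL_entry hG h2 hN v hvo']
    simp [hl, hl', Ne.symm hl]
  · intro k hk hk'
    rw [hb, etaGL_entry hG h2 hN v hvo']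
    simp [hk, hk']
  · rw [hb, etaGL_entry hG h2 hN v hvo', hN.mulVec_o', hvo]
    simp [hne]

end Cfsg.Agent.Lib.Helper28.SOTBLeaf
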