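/-
helper28: transport of a `Cfsg.BNPair` along a group isomorphism (pull-back along `e : G0 ≃* G1`).
Used to move helper7's restricted (B,N)-pair of the subgroup `toGL.range ≤ GL_n(F)` to the type
`Matrix.SpecialLinearGroup (Fin n) F` itself (S4538, part B1).
-/
import Mathlib
import Cfsg.Prelude.Def_LieExceptional

set_option autoImplicit false

namespace Cfsg.Agent.Lib.Helper28.BNTransport

open Cfsg

variable {G0 G1 : Type*} [Group G0] [Group G1]

/-- transport of a (B,N)-pair along a group isomorphism (pull-back): `B = e⁻¹ B`, `N = e⁻¹ N`,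
`S = e⁻¹ S` -/
def transport (e : G0 ≃* G1) (P : Cfsg.BNPair G1) : Cfsg.BNPair G0 where
  B := P.B.comap (e : G0 →* G1)
  N := P.N.comap (e : G0 →* G1)
  S := e ⁻¹' P.S
  sup_eq_top := by
    rw [Subgroup.comap_sup_eq _ _ _ e.surjective, P.sup_eq_top, Subgroup.comap_top]
  conj_mem := by
    intro n hn t ht
    show e (n * t * n⁻¹) ∈ P.B
    rw [map_mul, map_mul, map_inv]
    exact P.conj_mem (e n) hn (e t) ⟨ht.1, ht.2⟩
  subset := by
    intro s hs
    exact P.subset hs
  sq_mem := by
    intro s hs
    show e (s * s) ∈ P.B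
    rw [map_mul]
    exact P.sq_mem (e s) hs
  inj := by
    intro s hs s' hs' h
    apply e.injective
    apply P.inj (e s) hs (e s') hs'
    have : e (s⁻¹ * s') ∈ P.B := h
    rwa [map_mul, map_inv] at this
  closure_sup := by
    have h1 : Subgroup.closure (e ⁻¹' P.S) = (Subgroup.closure P.S).comap (e : G0 →* G1) := by
      rw [Subgroup.comap_equiv_eq_map_symm, MonoidHom.map_closure]
      congr 1
      ext x
      simp [Set.mem_image, MulEquiv.symm_apply_eq]
    rw [h1, ← Subgroup.comap_inf, Subgroup.comap_sup_eq _ _ _ e.surjective, P.closure_sup]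
  mul_mem_union := by
    intro s hs n hn b hb
    have h := P.mul_mem_union (e s) hs (e n) hn (e b) hb
    rcases h with h | h
    · left
      rw [DoubleCoset.mem_doubleCoset] at h ⊢
      obtain ⟨x, hx, y, hy, hxy⟩ := h
      refine ⟨e.symm x, by show e (e.symm x) ∈ P.B; rwa [e.apply_symm_apply], e.symm y,
        by show e (e.symm y) ∈ P.B; rwa [e.apply_symm_apply], ?_⟩
      apply e.injective
      rw [map_mul, map_mul, map_mul, map_mul, map_mul, e.apply_symm_apply, e.apply_symm_apply]
      exact hxy
    · right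
      rw [DoubleCoset.mem_doubleCoset] at h ⊢
      obtain ⟨x, hx, y, hy, hxy⟩ := h
      refine ⟨e.symm x, by show e (e.symm x) ∈ P.B; rwa [e.apply_symm_apply], e.symm y,
        by show e (e.symm y) ∈ P.B; rwa [e.apply_symm_apply], ?_⟩
      apply e.injective
      rw [map_mul, map_mul, map_mul, map_mul, e.apply_symm_apply, e.apply_symm_apply]
      exact hxy
  conj_ne := by
    intro s hs h
    apply P.conj_ne (e s) hs
    ext y
    constructor
    · rintro ⟨b, hb, rfl⟩
      have h1 : s * e.symm b * s ∈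
          (fun b : G0 => s * b * s) '' ((P.B.comap (e : G0 →* G1) : Subgroup G0) : Set G0) :=
        ⟨e.symm b, by show e (e.symm b) ∈ P.B; rwa [e.apply_symm_apply], rfl⟩
      rw [h] at h1
      have h2 : e (s * e.symm b * s) ∈ P.B := h1
      rwa [map_mul, map_mul, e.apply_symm_apply] at h2
    · intro hy
      have h1 : e.symm y ∈ ((P.B.comap (e : G0 →* G1) : Subgroup G0) : Set G0) := by
        show e (e.symm y) ∈ P.B; rwa [e.apply_symm_apply]
      rw [← h] at h1
      obtain ⟨b, hb, hbe⟩ := h1
      refine ⟨e b, hb, ?_⟩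
      have := congrArg e hbe
      simp only [map_mul, e.apply_symm_apply] at this
      exact this

theorem mem_transport_B (e : G0 ≃* G1) (P : Cfsg.BNPair G1) (g : G0) :
    g ∈ (transport e P).B ↔ e g ∈ P.B := Iff.rfl

theorem mem_transport_N (e : G0 ≃* G1) (P : Cfsg.BNPair G1) (g : G0) :
    g ∈ (transport e P).N ↔ e g ∈ P.N := Iff.rfl

theorem mem_transport_S (e : G0 ≃* G1) (P : Cfsg.BNPair G1) (g : G0) :
    g ∈ (transport e P).S ↔ e g ∈ P.S := Iff.rfl

end Cfsg.Agent.Lib.Helper28.BNTransport
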