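/-
helper28: the (B,N)-pair of `SL_n(F)` (S4538, part B1) = helper6's `glBN n F` restricted to
`toGL.range` by helper7's `BNRestrict.restrict` and transported to the type
`Matrix.SpecialLinearGroup (Fin n) F` along `SL_n ≃* toGL.range`.

* `det_mono`, `det_monoGL` : determinant of a monomial matrix
* `sSL k k'` : the signed monomial representative of the transposition `(k k')` in `SL_n(F)`
  (`1` if `k = k'`); `toGL_sSL`
* `slBN hn : Cfsg.BNPair (SL_n(F))` (`0 < n`), with
  `mem_slBN_B` (upper triangular), `mem_slBN_N` (monomial), `mem_slBN_T` (diagonal),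
  `mem_slBN_S` / `slBN_S_eq_range` (`S = {sSL k (k+1)}`).
-/
import Mathlib
import Cfsg.Agent.Lib.Helper6.GLBND
import Cfsg.Agent.Lib.Helper7.BNRestrict
import Cfsg.Agent.Lib.Helper28.BNTransport

set_option autoImplicit false

namespace Cfsg.Agent.Lib.Helper28.SLBN

open Matrix Equiv Cfsg.Agent.Lib.Helper6.GLBN Cfsg.Agent.Lib.Helper7.BNRestrict
  Cfsg.Agent.Lib.Helper28.BNTransport

variable {n : ℕ} {F : Type*} [Field F]

theorem mono_eq_perm_mul_diag (σ : Perm (Fin n)) (c : Fin n → F) :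
    mono σ c = (σ⁻¹).permMatrix F * Matrix.diagonal c := by
  ext i j
  rw [mono_apply, Matrix.mul_diagonal, Equiv.Perm.permMatrix, PEquiv.toMatrix_apply]
  simp only [Equiv.toPEquiv_apply, Option.mem_def, Option.some.injEq]
  by_cases h : i = σ j
  · rw [if_pos h, if_pos (by rw [h]; simp), one_mul]
  · rw [if_neg h, if_neg, zero_mul]
    intro h'
    apply h
    rw [← h']; simp

/-- the determinant of a monomial matrix -/
theorem det_mono (σ : Perm (Fin n)) (c : Fin n → F) :
    (mono σ c).det = ((Perm.sign σ : ℤˣ) : ℤ) * ∏ j, c j := by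
  rw [mono_eq_perm_mul_diag, Matrix.det_mul, Matrix.det_permutation, Matrix.det_diagonal,
    Perm.sign_inv]

theorem det_monoGL (σ : Perm (Fin n)) (c : Fin n → Fˣ) :
    ((monoGL σ c : GL (Fin n) F) : Matrix (Fin n) (Fin n) F).det =
      ((Perm.sign σ : ℤˣ) : ℤ) * ∏ j, (c j : F) := by
  rw [coe_monoGL, det_mono]

/-- the coefficient vector `(1,…,1,a,1,…,1)` with `a` in position `k` -/
def oneAt (k : Fin n) (a : Fˣ) : Fin n → Fˣ := Function.update (fun _ => 1) k a

theorem oneAt_self (k : Fin n) (a : Fˣ) : oneAt k a k = a := by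
  unfold oneAt; rw [Function.update_self]

theorem oneAt_of_ne {k j : Fin n} (h : j ≠ k) (a : Fˣ) : oneAt k a j = 1 := by
  unfold oneAt; rw [Function.update_of_ne h]

theorem prod_oneAt (k : Fin n) (a : Fˣ) : ∏ j, ((oneAt k a j : Fˣ) : F) = a := by
  rw [Finset.prod_eq_single k]
  · rw [oneAt_self]
  · intro j _ hj
    rw [oneAt_of_ne hj]; rfl
  · intro h; exact absurd (Finset.mem_univ _) h

/-- diagonal matrices lie in `T = B ⊓ N` of `glBN` -/
theorem diag_mem_T (c : Fin n → Fˣ) :
    (monoGL 1 c : GL (Fin n) F) ∈ (glBN n F).B ⊓ (glBN n F).N := by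
  rw [glBN_B, glBN_N, Bup_inf_mono]
  exact ⟨c, rfl⟩

/-- `GL_n = SL_n · T` -/
theorem gl_cover (hn : 0 < n) (g : GL (Fin n) F) :
    ∃ x : Matrix.SpecialLinearGroup (Fin n) F, ∃ t ∈ (glBN n F).B ⊓ (glBN n F).N,
      g = Matrix.SpecialLinearGroup.toGL x * t := by
  set t : GL (Fin n) F := monoGL 1 (oneAt ⟨0, hn⟩ (Matrix.GeneralLinearGroup.det g)) with ht
  have hdet : ((g * t⁻¹ : GL (Fin n) F) : Matrix (Fin n) (Fin n) F).det = 1 := by
    have h1 : Matrix.GeneralLinearGroup.det t = Matrix.GeneralLinearGroup.det g := by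
      apply Units.ext
      rw [Matrix.GeneralLinearGroup.val_det_apply, ht, det_monoGL, prod_oneAt]
      simp
    have h2 : Matrix.GeneralLinearGroup.det (g * t⁻¹) = 1 := by
      rw [map_mul, map_inv, h1, mul_inv_cancel]
    have := congrArg Units.val h2
    rwa [Matrix.GeneralLinearGroup.val_det_apply] at this
  refine ⟨(⟨_, hdet⟩ : Matrix.SpecialLinearGroup (Fin n) F), t, diag_mem_T _, ?_⟩
  apply Units.ext
  rw [Units.val_mul]
  show (g : Matrix (Fin n) (Fin n) F) = ((g * t⁻¹ : GL (Fin n) F) : Matrix (Fin n) (Fin n) F) * t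
  rw [← Units.val_mul, inv_mul_cancel_right]

/-- the signed monomial matrix of `swap k k'` (`k ≠ k'`) as an element of `SL_n` -/
def sSLne (k k' : Fin n) (h : k ≠ k') : Matrix.SpecialLinearGroup (Fin n) F :=
  ⟨mono (swap k k') (fun j => ((oneAt k (-1 : Fˣ) j : Fˣ) : F)), by
    rw [det_mono, prod_oneAt, Perm.sign_swap h]; simp⟩

theorem coe_sSLne (k k' : Fin n) (h : k ≠ k') :
    ((sSLne (F := F) k k' h : Matrix.SpecialLinearGroup (Fin n) F) : Matrix (Fin n) (Fin n) F) =
      mono (swap k k') (fun j => ((oneAt k (-1 : Fˣ) j : Fˣ) : F)) := rfl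

/-- the signed monomial representative of the transposition `(k k')` in `SL_n`: the permutation
matrix of `swap k k'` with the entry in column `k` replaced by `-1`; `1` if `k = k'` -/
def sSL (k k' : Fin n) : Matrix.SpecialLinearGroup (Fin n) F :=
  if h : k ≠ k' then sSLne k k' h else 1

theorem sSL_of_ne {k k' : Fin n} (h : k ≠ k') : sSL (F := F) k k' = sSLne k k' h := by
  unfold sSL
  rw [dif_pos h]

theorem coe_sSL {k k' : Fin n} (h : k ≠ k') :
    ((sSL (F := F) k k' : Matrix.SpecialLinearGroup (Fin n) F) : Matrix (Fin n) (Fin n) F) =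
      mono (swap k k') (fun j => ((oneAt k (-1 : Fˣ) j : Fˣ) : F)) := by
  rw [sSL_of_ne h, coe_sSLne]

theorem toGL_sSL {k k' : Fin n} (h : k ≠ k') :
    Matrix.SpecialLinearGroup.toGL (sSL (F := F) k k') =
      sG k k' * monoGL 1 (oneAt k (-1 : Fˣ)) := by
  apply Units.ext
  rw [Matrix.SpecialLinearGroup.coe_GL_coe_matrix, coe_sSL h]
  unfold sG
  rw [monoGL_mul, coe_monoGL]
  congr 1
  funext j
  simp

theorem toGL_sSL' {k k' : Fin n} (h : k ≠ k') :
    Matrix.SpecialLinearGroup.toGL (sSL (F := F) k k') = monoGL (swap k k') (oneAt k (-1 : Fˣ)) := by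
  apply Units.ext
  rw [Matrix.SpecialLinearGroup.coe_GL_coe_matrix, coe_sSL h, coe_monoGL]

/-! ### the restricted pair -/

/-- `SL_n(F)` as a subgroup of `GL_n(F)` -/
abbrev slRange (n : ℕ) (F : Type*) [Field F] : Subgroup (GL (Fin n) F) :=
  (Matrix.SpecialLinearGroup.toGL (n := Fin n) (R := F)).range

theorem covers (hn : 0 < n) : Covers (glBN n F) (slRange n F) := by
  intro g
  obtain ⟨x, t, ht, hg⟩ := gl_cover hn g
  exact ⟨_, ⟨x, rfl⟩, t, ht, hg⟩

theorem adj_ne {k k' : Fin n} (h : k'.val = k.val + 1) : k ≠ k' := by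
  intro e; rw [e] at h; omega

/-- equal adjacent transposition matrices have equal indices -/
theorem sG_adj_inj {k k' l l' : Fin n} (h : k'.val = k.val + 1) (h' : l'.val = l.val + 1)
    (e : (sG k k' : GL (Fin n) F) = sG l l') : k = l ∧ k' = l' := by
  have hs : swap k k' = swap l l' := monoGL_perm_eq e
  have h1 : swap l l' k = k' := by rw [← hs, swap_apply_left]
  have hk : k ≠ k' := adj_ne h
  by_cases hkl : k = l
  · subst hkl
    rw [swap_apply_left] at h1
    exact ⟨rfl, h1.symm⟩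
  · by_cases hkl' : k = l'
    · subst hkl'
      rw [swap_apply_right] at h1
      exfalso
      rw [← h1] at h
      omega
    · rw [swap_apply_of_ne_of_ne hkl hkl'] at h1
      exact absurd h1 hk

open Classical in
/-- the representative function for helper7's `restrict` -/
noncomputable def rep (g : GL (Fin n) F) : GL (Fin n) F :=
  if h : ∃ k k' : Fin n, k'.val = k.val + 1 ∧ g = sG k k' then
    Matrix.SpecialLinearGroup.toGL (sSL (F := F) h.choose h.choose_spec.choose)
  else 1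

theorem rep_sG {k k' : Fin n} (h : k'.val = k.val + 1) :
    rep (sG k k' : GL (Fin n) F) = Matrix.SpecialLinearGroup.toGL (sSL (F := F) k k') := by
  have hex : ∃ l l' : Fin n, l'.val = l.val + 1 ∧ (sG k k' : GL (Fin n) F) = sG l l' :=
    ⟨k, k', h, rfl⟩
  unfold rep
  rw [dif_pos hex]
  obtain ⟨h1, h2⟩ := hex.choose_spec.choose_spec
  obtain ⟨e1, e2⟩ := sG_adj_inj h h1 h2
  have key : ∀ a b : Fin n, k = a → k' = b →
      Matrix.SpecialLinearGroup.toGL (sSL (F := F) a b) =
        Matrix.SpecialLinearGroup.toGL (sSL (F := F) k k') := by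
    rintro _ _ rfl rfl; rfl
  exact key _ _ e1 e2

theorem reps : Reps (glBN n F) (slRange n F) rep where
  mem := by
    rintro _ ⟨k, k', h, rfl⟩
    rw [rep_sG h]
    exact ⟨_, rfl⟩
  rel := by
    rintro _ ⟨k, k', h, rfl⟩
    rw [rep_sG h, toGL_sSL (adj_ne h), ← mul_assoc, inv_mul_cancel, one_mul]
    exact diag_mem_T _

/-- `SL_n(F) ≃* toGL.range` -/
noncomputable def slEquiv (n : ℕ) (F : Type*) [Field F] :
    Matrix.SpecialLinearGroup (Fin n) F ≃* slRange n F :=
  MonoidHom.ofInjective Matrix.SpecialLinearGroup.toGL_injective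

theorem coe_slEquiv (g : Matrix.SpecialLinearGroup (Fin n) F) :
    ((slEquiv n F g : slRange n F) : GL (Fin n) F) = Matrix.SpecialLinearGroup.toGL g := rfl

/-- **the (B,N)-pair of `SL_n(F)`** -/
noncomputable def slBN (hn : 0 < n) : Cfsg.BNPair (Matrix.SpecialLinearGroup (Fin n) F) :=
  transport (slEquiv n F) (restrict (glBN n F) (slRange n F) (covers hn) rep reps)

/-- the distinguished generators indexed by `Fin (n - 1)` -/
def sOfSL (n : ℕ) (F : Type*) [Field F] (i : Fin (n - 1)) : Matrix.SpecialLinearGroup (Fin n) F :=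
  sSL ⟨i.val, by omega⟩ ⟨i.val + 1, by omega⟩

variable (hn : 0 < n)

theorem mem_slBN_B' (g : Matrix.SpecialLinearGroup (Fin n) F) :
    g ∈ (slBN (F := F) hn).B ↔ Matrix.SpecialLinearGroup.toGL g ∈ Bup n F := Iff.rfl

/-- `B` = upper triangular matrices of determinant one -/
theorem mem_slBN_B (g : Matrix.SpecialLinearGroup (Fin n) F) :
    g ∈ (slBN (F := F) hn).B ↔
      ∀ i j : Fin n, j < i → (g : Matrix (Fin n) (Fin n) F) i j = 0 := by
  rw [mem_slBN_B', mem_Bup]
  rfl

/-- `N` = monomial matrices of determinant one -/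
theorem mem_slBN_N (g : Matrix.SpecialLinearGroup (Fin n) F) :
    g ∈ (slBN (F := F) hn).N ↔ Matrix.SpecialLinearGroup.toGL g ∈ monoSubgroup n F := Iff.rfl

/-- `B ⊓ N` = diagonal matrices of determinant one -/
theorem mem_slBN_T (g : Matrix.SpecialLinearGroup (Fin n) F) :
    g ∈ (slBN (F := F) hn).B ⊓ (slBN (F := F) hn).N ↔
      Matrix.SpecialLinearGroup.toGL g ∈ diagSubgroup n F := by
  rw [Subgroup.mem_inf, mem_slBN_B', mem_slBN_N, ← Bup_inf_mono, Subgroup.mem_inf]

/-- `S` = the signed adjacent transpositions -/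
theorem mem_slBN_S (g : Matrix.SpecialLinearGroup (Fin n) F) :
    g ∈ (slBN (F := F) hn).S ↔ ∃ k k' : Fin n, k'.val = k.val + 1 ∧ g = sSL k k' := by
  constructor
  · rintro ⟨s, ⟨k, k', h, rfl⟩, hg⟩
    refine ⟨k, k', h, ?_⟩
    apply Matrix.SpecialLinearGroup.toGL_injective
    rw [← rep_sG h]
    exact hg
  · rintro ⟨k, k', h, rfl⟩
    exact ⟨sG k k', ⟨k, k', h, rfl⟩, (rep_sG h).symm⟩

theorem slBN_S_eq_range : (slBN (F := F) hn).S = Set.range (sOfSL n F) := by
  ext g
  rw [mem_slBN_S]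
  constructor
  · rintro ⟨k, k', h, rfl⟩
    refine ⟨⟨k.val, by have := k'.isLt; omega⟩, ?_⟩
    unfold sOfSL
    congr 1
    apply Fin.ext
    exact h.symm
  · rintro ⟨i, rfl⟩
    exact ⟨_, _, rfl, rfl⟩

end Cfsg.Agent.Lib.Helper28.SLBN
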