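/-
helper28: the unipotent radical `U = unitri n F` (helper18) of the Borel subgroup of `slBN` and the
first block of `SplitBN` fields (S4538, part B2): `hUB`, `hUn`, `hBUH`, `hUH`, `hHcomm`.
-/
import Mathlib
import Cfsg.Agent.Lib.Helper28.SLBN
import Cfsg.Agent.Lib.Helper18.PSLnUnitri

set_option autoImplicit false

namespace Cfsg.Agent.Lib.Helper28.SLBN

open Matrix Equiv Cfsg.Agent.Lib.Helper6.GLBN Cfsg.Agent.Lib.Helper18.PSLnAut

variable {n : ℕ} {F : Type*} [Field F]

/-- upper triangular matrices -/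
def IsUT (M : Matrix (Fin n) (Fin n) F) : Prop := ∀ i j : Fin n, j < i → M i j = 0

theorem IsUT.mul {A B : Matrix (Fin n) (Fin n) F} (hA : IsUT A) (hB : IsUT B) : IsUT (A * B) := by
  intro i j hji
  rw [Matrix.mul_apply]
  apply Finset.sum_eq_zero
  intro k _
  by_cases hk : k < i
  · rw [hA i k hk, zero_mul]
  · rw [hB k j (lt_of_lt_of_le hji (not_lt.mp hk)), mul_zero]

theorem IsUT.mul_diag {A B : Matrix (Fin n) (Fin n) F} (hA : IsUT A) (hB : IsUT B) (i : Fin n) :
    (A * B) i i = A i i * B i i := by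
  rw [Matrix.mul_apply, Finset.sum_eq_single i]
  · intro k _ hk
    rcases lt_or_gt_of_ne hk with h | h
    · rw [hA i k h, zero_mul]
    · rw [hB k i h, mul_zero]
  · intro h
    exact absurd (Finset.mem_univ i) h

variable (hn : 0 < n)

theorem isUT_of_mem_B {g : Matrix.SpecialLinearGroup (Fin n) F} (hg : g ∈ (slBN (F := F) hn).B) :
    IsUT (g : Matrix (Fin n) (Fin n) F) := (mem_slBN_B hn g).mp hg

variable [Finite F]

/-- `hUB` -/
theorem unitri_le_B : unitri n F ≤ (slBN (F := F) hn).B := by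
  intro g hg
  exact (mem_slBN_B hn g).mpr hg.1

/-- `hUn` : `B` normalizes `U` -/
theorem conj_mem_unitri {b u : Matrix.SpecialLinearGroup (Fin n) F}
    (hb : b ∈ (slBN (F := F) hn).B) (hu : u ∈ unitri n F) : b * u * b⁻¹ ∈ unitri n F := by
  have hb' := isUT_of_mem_B hn hb
  have hbi' := isUT_of_mem_B hn ((slBN (F := F) hn).B.inv_mem hb)
  have hu' : IsUT (u : Matrix (Fin n) (Fin n) F) := hu.1
  rw [mem_unitri]
  constructor
  · have := (hb'.mul hu').mul hbi'
    intro i j hji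
    rw [Matrix.SpecialLinearGroup.coe_mul, Matrix.SpecialLinearGroup.coe_mul]
    exact this i j hji
  · intro i
    rw [Matrix.SpecialLinearGroup.coe_mul, Matrix.SpecialLinearGroup.coe_mul,
      (hb'.mul hu').mul_diag hbi', hb'.mul_diag hu', hu.2 i, mul_one, ← hb'.mul_diag hbi',
      ← Matrix.SpecialLinearGroup.coe_mul, mul_inv_cancel, Matrix.SpecialLinearGroup.coe_one,
      Matrix.one_apply_eq]

/-- the diagonal part of an upper triangular matrix of determinant one -/
def diagPart (b : Matrix.SpecialLinearGroup (Fin n) F)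
    (hb : IsUT (b : Matrix (Fin n) (Fin n) F)) : Matrix.SpecialLinearGroup (Fin n) F :=
  ⟨Matrix.diagonal fun i => (b : Matrix (Fin n) (Fin n) F) i i, by
    rw [Matrix.det_diagonal, ← Matrix.det_of_isUpperTriangular (M := (b : Matrix (Fin n) (Fin n) F))]
    · exact b.2
    · intro i j hji
      exact hb i j hji⟩

omit [Finite F] in
theorem coe_diagPart (b : Matrix.SpecialLinearGroup (Fin n) F)
    (hb : IsUT (b : Matrix (Fin n) (Fin n) F)) :
    ((diagPart b hb : Matrix.SpecialLinearGroup (Fin n) F) : Matrix (Fin n) (Fin n) F) =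
      Matrix.diagonal fun i => (b : Matrix (Fin n) (Fin n) F) i i := rfl

omit [Finite F] in
/-- a diagonal matrix of `SL_n` lies in `T = B ⊓ N` -/
theorem diag_mem_slT {h : Matrix.SpecialLinearGroup (Fin n) F} {d : Fin n → F}
    (hd : ∀ i, d i ≠ 0) (hh : (h : Matrix (Fin n) (Fin n) F) = Matrix.diagonal d) :
    h ∈ (slBN (F := F) hn).B ⊓ (slBN (F := F) hn).N := by
  rw [mem_slBN_T]
  refine ⟨fun i => Units.mk0 (d i) (hd i), ?_⟩
  apply Units.ext
  rw [Matrix.SpecialLinearGroup.coe_GL_coe_matrix, hh, coe_monoGL, diagonal_eq_mono]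
  rfl

omit [Finite F] in
theorem diag_ne_zero_of_mem_B {b : Matrix.SpecialLinearGroup (Fin n) F}
    (hb : b ∈ (slBN (F := F) hn).B) (i : Fin n) : (b : Matrix (Fin n) (Fin n) F) i i ≠ 0 :=
  diag_ne_zero ((mem_slBN_B' hn b).mp hb) i

/-- `hBUH` : `B = U T` -/
theorem B_eq_unitri_mul_T {b : Matrix.SpecialLinearGroup (Fin n) F}
    (hb : b ∈ (slBN (F := F) hn).B) :
    ∃ u ∈ unitri n F, ∃ h ∈ (slBN (F := F) hn).B ⊓ (slBN (F := F) hn).N, b = u * h := by
  have hb' := isUT_of_mem_B hn hb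
  have hd := diag_ne_zero_of_mem_B hn hb
  set h := diagPart b hb' with hh
  have hT : h ∈ (slBN (F := F) hn).B ⊓ (slBN (F := F) hn).N :=
    diag_mem_slT hn hd (coe_diagPart b hb')
  have hhi : IsUT ((h⁻¹ : Matrix.SpecialLinearGroup (Fin n) F) : Matrix (Fin n) (Fin n) F) :=
    isUT_of_mem_B hn ((slBN (F := F) hn).B.inv_mem hT.1)
  have hhU : IsUT (h : Matrix (Fin n) (Fin n) F) := isUT_of_mem_B hn hT.1
  refine ⟨b * h⁻¹, ?_, h, hT, by group⟩
  rw [mem_unitri]
  constructor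
  · intro i j hji
    rw [Matrix.SpecialLinearGroup.coe_mul]
    exact (hb'.mul hhi) i j hji
  · intro i
    have h1 : (h : Matrix (Fin n) (Fin n) F) i i *
        ((h⁻¹ : Matrix.SpecialLinearGroup (Fin n) F) : Matrix (Fin n) (Fin n) F) i i = 1 := by
      rw [← hhU.mul_diag hhi, ← Matrix.SpecialLinearGroup.coe_mul, mul_inv_cancel,
        Matrix.SpecialLinearGroup.coe_one, Matrix.one_apply_eq]
    have h2 : (h : Matrix (Fin n) (Fin n) F) i i = (b : Matrix (Fin n) (Fin n) F) i i := by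
      rw [hh, coe_diagPart, Matrix.diagonal_apply_eq]
    rw [Matrix.SpecialLinearGroup.coe_mul, hb'.mul_diag hhi, ← h2, h1]

/-- `hUH` : `U ⊓ T = ⊥` -/
theorem unitri_inf_T : unitri n F ⊓ ((slBN (F := F) hn).B ⊓ (slBN (F := F) hn).N) = ⊥ := by
  rw [eq_bot_iff]
  rintro g ⟨hgU, hgT⟩
  have hgU : g ∈ unitri n F := hgU
  have hgT : g ∈ (slBN (F := F) hn).B ⊓ (slBN (F := F) hn).N := hgT
  rw [mem_slBN_T] at hgT
  obtain ⟨c, hc⟩ := hgT
  rw [Subgroup.mem_bot]
  apply Subtype.ext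
  have hm : (g : Matrix (Fin n) (Fin n) F) = mono 1 (fun j => (c j : F)) := by
    have := congrArg (fun x : GL (Fin n) F => (x : Matrix (Fin n) (Fin n) F)) hc
    simpa [coe_monoGL] using this
  ext i j
  rw [Matrix.SpecialLinearGroup.coe_one, Matrix.one_apply]
  by_cases hij : i = j
  · rw [if_pos hij, hij]
    exact hgU.2 j
  · rw [if_neg hij, hm, mono_apply, Perm.one_apply, if_neg hij]

omit [Finite F] in
/-- `hHcomm` : `T` is commutative -/
theorem T_comm {h h' : Matrix.SpecialLinearGroup (Fin n) F}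
    (hh : h ∈ (slBN (F := F) hn).B ⊓ (slBN (F := F) hn).N)
    (hh' : h' ∈ (slBN (F := F) hn).B ⊓ (slBN (F := F) hn).N) : h * h' = h' * h := by
  rw [mem_slBN_T] at hh hh'
  obtain ⟨c, hc⟩ := hh
  obtain ⟨d, hd⟩ := hh'
  apply Matrix.SpecialLinearGroup.toGL_injective
  rw [map_mul, map_mul, hc, hd, monoGL_mul, monoGL_mul]
  congr 1
  funext j
  simp [mul_comm]

end Cfsg.Agent.Lib.Helper28.SLBN
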