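import Mathlib
import Cfsg.Agent.Lib.Helper2.SOTDefs
import Cfsg.Agent.Lib.Helper28.SOTBDefs
import Cfsg.Agent.Lib.Helper9.SpTNU
import Cfsg.Agent.Lib.Helper9.SpTNIso
import Cfsg.Agent.Lib.Helper25.TensS

/-!
S5666 part (B), leaves (ISO) `iso_blocks`, (SP) `stab_perp`, (UI) `uform_iso`, (CZ) `cols_zero` of
`notes/S5666_B_leaves.lean` (exact signatures): the isometry relations in blocks.
-/

set_option autoImplicit false
set_option linter.unusedSectionVars false
set_option linter.unusedVariables false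

namespace Cfsg.Agent.Lib.Helper28.SOTBLeaf
open Matrix
open Cfsg.Agent.Lib.Helper25.Tens Cfsg.Agent.Lib.Helper25.TensLeaves Cfsg.Agent.Lib.Helper25.SpT
open Cfsg.Agent.Lib.Helper19.OSub
open Cfsg.Agent.Lib.Helper2.SOT Cfsg.Agent.Lib.Helper28.SOTB
open Cfsg.Agent.Lib.Helper9.SpTNLeaf (mulVec_pt_single_eq_sum sum_eq_one' sum_eq_two)
open scoped Kronecker

variable {F : Type*} [Field F] [Fintype F] {b : ℕ} {G : Matrix (Fin b) (Fin b) F}
  {M : Subgroup (GL (Idx 2 b) F)} {o o' : Fin b}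

lemma fV_sum_left {a : ℕ} {κ : Type*} (s : Finset κ) (u : κ → (Idx a b → F)) (w : Idx a b → F) :
    fV G (∑ p ∈ s, u p) w = ∑ p ∈ s, fV G (u p) w := by
  classical
  induction s using Finset.induction_on with
  | empty => simp [fV]
  | insert p s hp ih => rw [Finset.sum_insert hp, Finset.sum_insert hp, fV_add_left, ih]

lemma fV_sum_right {a : ℕ} {κ : Type*} (s : Finset κ) (u : Idx a b → F) (w : κ → (Idx a b → F)) :
    fV G u (∑ p ∈ s, w p) = ∑ p ∈ s, fV G u (w p) := by
  classical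
  induction s using Finset.induction_on with
  | empty => simp [fV]
  | insert p s hp ih => rw [Finset.sum_insert hp, Finset.sum_insert hp, fV_add_right, ih]

/-- (ISO) the isometry relations in blocks -/
theorem iso_blocks {a : ℕ} (g : GL (Idx a b) F) (hg : g ∈ SpV G) (k l : Fin b) (x x' : Fin a → F) :
    ∑ p : Fin b, ∑ q : Fin b, sf (blk g.1 p k *ᵥ x) (blk g.1 q l *ᵥ x') * G p q = sf x x' * G k l := by
  have h1 := (mem_SpV.1 hg) (pt x (Pi.single k (1 : F))) (pt x' (Pi.single l (1 : F)))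
  rw [fV_pt, Cfsg.Agent.Lib.Helper11.SOTLeaf.fB_single_single] at h1
  rw [← h1]
  change _ = fV G (g.1 *ᵥ pt x (Pi.single k (1 : F))) (g.1 *ᵥ pt x' (Pi.single l (1 : F)))
  rw [mulVec_pt_single_eq_sum, mulVec_pt_single_eq_sum, fV_sum_left]
  apply Finset.sum_congr rfl
  intro p _
  rw [fV_sum_right]
  apply Finset.sum_congr rfl
  intro q _
  rw [fV_pt, Cfsg.Agent.Lib.Helper11.SOTLeaf.fB_single_single]

/-- (SP) an isometry stabilising `W = A ⊗ e_o` stabilises `W^⊥` -/
theorem stab_perp {a : ℕ} (ea : Even a) (hN : NormG G o o') (g : GL (Idx a b) F) (hg : g ∈ SpV G)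
    (h₁ : GL (Fin a) F)
    (hgo : ∀ x : Fin a → F, mv g (pt x (Pi.single o 1)) = pt (h₁.1 *ᵥ x) (Pi.single o 1)) :
    (∀ l : Fin b, l ≠ o' → blk g.1 o' l = 0) ∧
    (∀ x x' : Fin a → F, sf (h₁.1 *ᵥ x) (blk g.1 o' o' *ᵥ x') = sf x x') := by
  have hb := Cfsg.Agent.Lib.Helper25.TensLeaf.blk_of_stab g.1 h₁.1 o hgo
  have hJoo' : G o o' = 1 := by rw [hN.row, if_pos rfl]
  have hJo : ∀ q : Fin b, q ≠ o' → G o q = 0 := by
    intro q hq
    rw [hN.row, if_neg hq]
  have key : ∀ (l : Fin b) (x x' : Fin a → F),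
      sf (h₁.1 *ᵥ x) (blk g.1 o' l *ᵥ x') = sf x x' * G o l := by
    intro l x x'
    have h1 := iso_blocks g hg o l x x'
    rw [sum_eq_one' _ o, sum_eq_one' _ o', hb o, if_pos rfl, hJoo', mul_one] at h1
    · exact h1
    · intro q hq
      rw [hJo q hq, mul_zero]
    · intro p hp
      apply Finset.sum_eq_zero
      intro q _
      rw [hb p, if_neg hp, Matrix.zero_mulVec, sf_zero_left, zero_mul]
  refine ⟨?_, ?_⟩
  · intro l hl
    have hz : ∀ x' : Fin a → F, blk g.1 o' l *ᵥ x' = 0 := by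
      intro x'
      by_contra hne
      obtain ⟨y, hy⟩ := exists_sf_ne_zero ea hne
      apply hy
      have h2 := key l ((h₁⁻¹).1 *ᵥ y) x'
      rw [hJo l hl, mul_zero, Matrix.mulVec_mulVec, ← Units.val_mul, mul_inv_cancel,
        Units.val_one, Matrix.one_mulVec] at h2
      rw [sf_skew, h2, neg_zero]
    ext i i'
    have := congrFun (hz (Pi.single i' 1)) i
    simpa using this
  · intro x x'
    rw [key o' x x', hJoo', mul_one]

/-- (UI) the isometry relation between the row `R_l` and the column `(K_k)` of a `U`-form isometry -/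
theorem uform_iso {a : ℕ} (hG : Gᵀ = G) (hN : NormG G o o') (u : GL (Idx a b) F) (hu : u ∈ SpV G)
    (hU : UF o o' u.1) (l : Fin b) (hl : l ≠ o) (hl' : l ≠ o') (x x' : Fin a → F) :
    sf (blk u.1 o l *ᵥ x) x' + ∑ k : Fin b, G l k * sf x (blk u.1 k o' *ᵥ x') = 0 := by
  have h1 := iso_blocks u hu l o' x x'
  rw [hN.col' hG, if_neg hl, mul_zero] at h1
  have e1 : ∑ q, sf (blk u.1 o l *ᵥ x) (blk u.1 q o' *ᵥ x') * G o q =
      sf (blk u.1 o l *ᵥ x) x' := by
    rw [sum_eq_one' _ o']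
    · rw [hU.2.2, Matrix.one_mulVec, hN.row, if_pos rfl, mul_one]
    · intro q hq
      rw [hN.row, if_neg hq, mul_zero]
  have e2 : ∑ q, sf (blk u.1 l l *ᵥ x) (blk u.1 q o' *ᵥ x') * G l q =
      ∑ k : Fin b, G l k * sf x (blk u.1 k o' *ᵥ x') := by
    apply Finset.sum_congr rfl
    intro q _
    rw [hU.1 l l hl hl', if_pos rfl, Matrix.one_mulVec]
    ring
  have e3 : ∀ p : Fin b, p ≠ o → p ≠ l →
      ∑ q, sf (blk u.1 p l *ᵥ x) (blk u.1 q o' *ᵥ x') * G p q = 0 := by
    intro p hp hpl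
    apply Finset.sum_eq_zero
    intro q _
    rw [hU.1 p l hp hl', if_neg hpl, Matrix.zero_mulVec, sf_zero_left, zero_mul]
  rw [sum_eq_two _ o l (Ne.symm hl) e3, e1, e2] at h1
  exact h1

/-- (CZ) zero rows force zero columns and a `‡`-skew corner -/
theorem cols_zero {a : ℕ} (ea : Even a) (hG : Gᵀ = G) (hdet : G.det ≠ 0) (hN : NormG G o o')
    (u : GL (Idx a b) F) (hu : u ∈ SpV G) (hU : UF o o' u.1)
    (hrow : ∀ l : Fin b, l ≠ o → l ≠ o' → blk u.1 o l = 0) :
    (∀ k : Fin b, k ≠ o → k ≠ o' → blk u.1 k o' = 0) ∧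
    (∀ x x' : Fin a → F, sf (blk u.1 o o' *ᵥ x) x' + sf x (blk u.1 o o' *ᵥ x') = 0) := by
  have hcol : ∀ k : Fin b, k ≠ o → k ≠ o' → blk u.1 k o' = 0 := by
    -- for fixed `x, x'` the vector `c` is in the kernel of `G`
    have hc : ∀ (x x' : Fin a → F) (k : Fin b), k ≠ o → k ≠ o' →
        sf x (blk u.1 k o' *ᵥ x') = 0 := by
      intro x x'
      obtain ⟨c, hcdef⟩ : ∃ c : Fin b → F, c = fun k =>
        if k = o ∨ k = o' then 0 else sf x (blk u.1 k o' *ᵥ x') := ⟨_, rfl⟩
      have hco : c o = 0 := by rw [hcdef]; simp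
      have hco' : c o' = 0 := by rw [hcdef]; simp
      have hGc : G *ᵥ c = 0 := by
        funext l
        by_cases hl : l = o
        · subst hl
          rw [hN.mulVec_o, hco']; rfl
        · by_cases hl' : l = o'
          · subst hl'
            rw [hN.mulVec_o', hco]; rfl
          · have h1 := uform_iso hG hN u hu hU l hl hl' x x'
            rw [hrow l hl hl', Matrix.zero_mulVec, sf_zero_left, zero_add] at h1
            rw [Pi.zero_apply, ← h1]
            simp only [Matrix.mulVec, dotProduct]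
            apply Finset.sum_congr rfl
            intro k _
            rw [hcdef]
            by_cases hk : k = o
            · subst hk
              rw [hN.col hG, if_neg hl']
              simp
            · by_cases hk' : k = o'
              · subst hk'
                rw [hN.col' hG, if_neg hl]
                simp
              · simp [hk, hk']
      have hc0 : c = 0 := Matrix.eq_zero_of_mulVec_eq_zero hdet hGc
      intro k hk hk'
      have := congrFun hc0 k
      rw [hcdef] at this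
      simpa [hk, hk'] using this
    intro k hk hk'
    have hz : ∀ x' : Fin a → F, blk u.1 k o' *ᵥ x' = 0 := by
      intro x'
      by_contra hne
      obtain ⟨y, hy⟩ := exists_sf_ne_zero ea hne
      apply hy
      rw [sf_skew, hc y x' k hk hk', neg_zero]
    ext i i'
    have := congrFun (hz (Pi.single i' 1)) i
    simpa using this
  refine ⟨hcol, ?_⟩
  intro x x'
  have h1 := iso_blocks u hu o' o' x x'
  rw [hN.row', if_neg hN.ne.symm, mul_zero] at h1
  have e1 : ∑ q, sf (blk u.1 o o' *ᵥ x) (blk u.1 q o' *ᵥ x') * G o q =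
      sf (blk u.1 o o' *ᵥ x) x' := by
    rw [sum_eq_one' _ o']
    · rw [hU.2.2, Matrix.one_mulVec, hN.row, if_pos rfl, mul_one]
    · intro q hq
      rw [hN.row, if_neg hq, mul_zero]
  have e2 : ∑ q, sf (blk u.1 o' o' *ᵥ x) (blk u.1 q o' *ᵥ x') * G o' q =
      sf x (blk u.1 o o' *ᵥ x') := by
    rw [sum_eq_one' _ o]
    · rw [hU.2.2, Matrix.one_mulVec, hN.row', if_pos rfl, mul_one]
    · intro q hq
      rw [hN.row', if_neg hq, mul_zero]
  have e3 : ∀ p : Fin b, p ≠ o → p ≠ o' →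
      ∑ q, sf (blk u.1 p o' *ᵥ x) (blk u.1 q o' *ᵥ x') * G p q = 0 := by
    intro p hp hp'
    apply Finset.sum_eq_zero
    intro q _
    rw [hcol p hp hp', Matrix.zero_mulVec, sf_zero_left, zero_mul]
  rw [sum_eq_two _ o o' hN.ne e3, e1, e2] at h1
  exact h1

end Cfsg.Agent.Lib.Helper28.SOTBLeaf
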