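import Cfsg.Agent.Lib.Helper28.TC2Tower
set_option autoImplicit false

/-!
# Towers of presentations: a level given by an upper bound for the number of cosets
-/

namespace Cfsg.Agent.Lib.Helper28.TC2Tower2

variable {G : Type*} [Group G]

/-- the order of a group from bounds for the number of cosets and for the order of a subgroup -/
theorem card_le_of_quot (H : Subgroup G) {n m : ℕ} (hH : Finite H) (hq : Finite (G ⧸ H))
    (hqle : Nat.card (G ⧸ H) ≤ n) (hHle : Nat.card H ≤ m) : Finite G ∧ Nat.card G ≤ n * m := by
  have e := Subgroup.card_eq_card_quotient_mul_card_subgroup H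
  have h1 : 0 < Nat.card (G ⧸ H) := Nat.card_pos
  have h2 : 0 < Nat.card H := Nat.card_pos
  refine ⟨?_, ?_⟩
  · apply Nat.finite_of_card_ne_zero
    rw [e]
    exact Nat.mul_ne_zero h1.ne' h2.ne'
  · rw [e]
    exact Nat.mul_le_mul hqle hHle

end Cfsg.Agent.Lib.Helper28.TC2Tower2
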