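import Cfsg.Agent.Lib.Helper28.TC2Glue
set_option autoImplicit false

/-!
# Towers of presentations: upper bounds for the order of a presented group

If the relators of a presentation on `β` are mapped to relators of a presentation on `α` by a map
of generators `ι : β → α`, then the subgroup generated by the images is a quotient of the second
presented group.  Together with coset enumerations this bounds the order of a presented group.
-/

namespace Cfsg.Agent.Lib.Helper28.TC2Tower

variable {α β : Type}

/-- the map of letters induced by a map of generators -/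
def upWord (ι : β → α) (L : List (β × Bool)) : List (α × Bool) := L.map (Prod.map ι id)

theorem map_mk (ι : β → α) (L : List (β × Bool)) :
    FreeGroup.map ι (FreeGroup.mk L) = FreeGroup.mk (upWord ι L) := rfl

/-- the subgroup generated by the images of the generators of a sub-presentation is a quotient of it -/
theorem card_le_of_subpres (rels : Set (FreeGroup α)) (rels' : Set (FreeGroup β)) (ι : β → α)
    (hrel : ∀ r ∈ rels', FreeGroup.map ι r ∈ rels)
    (S : Set (FreeGroup α)) (hS : ∀ s ∈ S, ∃ b, s = FreeGroup.of (ι b))
    [Finite (PresentedGroup rels')] :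
    Finite ((Subgroup.closure S).map (PresentedGroup.mk rels)) ∧
    Nat.card ((Subgroup.closure S).map (PresentedGroup.mk rels)) ≤ Nat.card (PresentedGroup rels') := by
  have key : FreeGroup.lift (fun b => (PresentedGroup.of (ι b) : PresentedGroup rels)) =
      (PresentedGroup.mk rels).comp (FreeGroup.map ι) := by
    ext b
    simp [PresentedGroup.of]
  have h1 : ∀ r ∈ rels', FreeGroup.lift (fun b => (PresentedGroup.of (ι b) : PresentedGroup rels)) r = 1 := by
    intro r hr
    rw [key]
    exact PresentedGroup.one_of_mem (hrel r hr)
  let ψ : PresentedGroup rels' →* PresentedGroup rels := PresentedGroup.toGroup h1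
  have hle : (Subgroup.closure S).map (PresentedGroup.mk rels) ≤ ψ.range := by
    rw [Subgroup.map_le_iff_le_comap, Subgroup.closure_le]
    intro s hs
    obtain ⟨b, rfl⟩ := hS s hs
    show PresentedGroup.mk rels (FreeGroup.of (ι b)) ∈ ψ.range
    exact ⟨PresentedGroup.of b, PresentedGroup.toGroup.of h1⟩
  have : Finite ψ.range := Finite.of_surjective ψ.rangeRestrict ψ.rangeRestrict_surjective
  have hfin : Finite ((Subgroup.closure S).map (PresentedGroup.mk rels)) :=
    Finite.of_injective (Subgroup.inclusion hle) (Subgroup.inclusion_injective hle)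
  refine ⟨hfin, ?_⟩
  calc Nat.card ((Subgroup.closure S).map (PresentedGroup.mk rels))
      ≤ Nat.card ψ.range := Nat.card_le_card_of_injective _ (Subgroup.inclusion_injective hle)
    _ ≤ Nat.card (PresentedGroup rels') :=
        Nat.card_le_card_of_surjective ψ.rangeRestrict ψ.rangeRestrict_surjective

/-- list form of the relator condition -/
theorem hrel_of_words (rels : Set (FreeGroup α)) (rels' : Set (FreeGroup β)) (ι : β → α)
    (relWords : List (List (α × Bool))) (relWords' : List (List (β × Bool)))
    (h : ∀ r, r ∈ rels ↔ ∃ L ∈ relWords, r = FreeGroup.mk L)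
    (h' : ∀ r, r ∈ rels' ↔ ∃ L ∈ relWords', r = FreeGroup.mk L)
    (hup : ∀ L ∈ relWords', upWord ι L ∈ relWords) :
    ∀ r ∈ rels', FreeGroup.map ι r ∈ rels := by
  intro r hr
  obtain ⟨L, hL, rfl⟩ := (h' r).mp hr
  rw [map_mk]
  exact (h _).mpr ⟨_, hup L hL, rfl⟩

section Order
variable {G : Type*} [Group G]

/-- the order of a group from the index of a subgroup and a bound for the subgroup -/
theorem card_le_of_index (H : Subgroup G) {n m : ℕ} (hidx : H.index = n) (hH : Nat.card H ≤ m) :
    Nat.card G ≤ n * m := by
  rw [← H.index_mul_card, hidx]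
  exact Nat.mul_le_mul_left n hH

theorem finite_of_index (H : Subgroup G) [Finite H] (hidx : H.index ≠ 0) : Finite G := by
  apply Nat.finite_of_card_ne_zero
  rw [← H.index_mul_card]
  exact Nat.mul_ne_zero hidx Nat.card_pos.ne'

/-- the bottom of a tower: the index of the trivial subgroup -/
theorem card_of_index_bot {n : ℕ} (hn : n ≠ 0) (hidx : (⊥ : Subgroup G).index = n) :
    Finite G ∧ Nat.card G = n := by
  rw [Subgroup.index_bot] at hidx
  refine ⟨?_, hidx⟩
  apply Nat.finite_of_card_ne_zero
  rw [hidx]; exact hn

theorem closure_empty_map {K : Type*} [Group K] (f : K →* G) :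
    (Subgroup.closure (∅ : Set K)).map f = ⊥ := by
  rw [Subgroup.closure_empty, Subgroup.map_bot]

end Order

end Cfsg.Agent.Lib.Helper28.TC2Tower
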