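import Cfsg.Agent.Lib.Helper28.TC2Tower
set_option autoImplicit false

/-!
# Homomorphisms of presented groups given by words

A homomorphism from a presented group to another one, sending each generator to the class of a given word, with
its relator condition in list form.
-/

namespace Cfsg.Agent.Lib.Helper28.TC2Subst

variable {α β : Type}

/-- substitution of words for letters -/
def substW (sub : β → List (α × Bool)) : List (β × Bool) → List (α × Bool)
  | [] => []
  | (b, true) :: L => sub b ++ substW sub L
  | (b, false) :: L => FreeGroup.invRev (sub b) ++ substW sub L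

theorem lift_mk_subst {K : Type*} [Group K] (F : FreeGroup α →* K) (sub : β → List (α × Bool))
    (L : List (β × Bool)) :
    FreeGroup.lift (fun b => F (FreeGroup.mk (sub b))) (FreeGroup.mk L) =
      F (FreeGroup.mk (substW sub L)) := by
  induction L with
  | nil =>
    have : (FreeGroup.mk ([] : List (β × Bool))) = 1 := rfl
    rw [this, map_one]
    have : (FreeGroup.mk (substW sub ([] : List (β × Bool)))) = (1 : FreeGroup α) := rfl
    rw [this, map_one]
  | cons xb L ih =>
    have e : FreeGroup.mk (xb :: L) = FreeGroup.mk [xb] * FreeGroup.mk L := by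
      rw [FreeGroup.mul_mk]; rfl
    rw [e, map_mul, ih]
    obtain ⟨b, s⟩ := xb
    cases s with
    | true =>
      have e1 : FreeGroup.mk [(b, true)] = FreeGroup.of b := rfl
      rw [e1, FreeGroup.lift_apply_of]
      show _ = F (FreeGroup.mk (sub b ++ substW sub L))
      rw [← FreeGroup.mul_mk, map_mul]
    | false =>
      have e1 : FreeGroup.mk [(b, false)] = (FreeGroup.of b)⁻¹ := by
        show _ = (FreeGroup.mk [(b, true)])⁻¹
        rw [FreeGroup.inv_mk]; rfl
      rw [e1, map_inv, FreeGroup.lift_apply_of]
      show _ = F (FreeGroup.mk (FreeGroup.invRev (sub b) ++ substW sub L))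
      rw [← FreeGroup.mul_mk, map_mul, ← FreeGroup.inv_mk, map_inv]

/-- the homomorphism of presented groups sending the generators to given words -/
theorem exists_hom_of_subst (rels : Set (FreeGroup α)) (rels' : Set (FreeGroup β))
    (sub : β → List (α × Bool)) (relWords' : List (List (β × Bool)))
    (h' : ∀ r, r ∈ rels' → ∃ L ∈ relWords', r = FreeGroup.mk L)
    (hrel : ∀ L ∈ relWords', PresentedGroup.mk rels (FreeGroup.mk (substW sub L)) = 1) :
    ∃ ψ : PresentedGroup rels' →* PresentedGroup rels,
      ∀ b, ψ (PresentedGroup.of b) = PresentedGroup.mk rels (FreeGroup.mk (sub b)) := by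
  have h1 : ∀ r ∈ rels', FreeGroup.lift
      (fun b => (PresentedGroup.mk rels (FreeGroup.mk (sub b)) : PresentedGroup rels)) r = 1 := by
    intro r hr
    obtain ⟨L, hL, rfl⟩ := h' r hr
    rw [lift_mk_subst (PresentedGroup.mk rels) sub L]
    exact hrel L hL
  exact ⟨PresentedGroup.toGroup h1, fun b => PresentedGroup.toGroup.of h1⟩

/-- the range of such a homomorphism -/
theorem range_of_subst (rels : Set (FreeGroup α)) (rels' : Set (FreeGroup β))
    (sub : β → List (α × Bool))
    (ψ : PresentedGroup rels' →* PresentedGroup rels)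
    (hψ : ∀ b, ψ (PresentedGroup.of b) = PresentedGroup.mk rels (FreeGroup.mk (sub b)))
    (S : Set (FreeGroup α)) (hS : ∀ s ∈ S, ∃ b, s = FreeGroup.mk (sub b))
    (hS' : ∀ b, FreeGroup.mk (sub b) ∈ S) :
    ψ.range = (Subgroup.closure S).map (PresentedGroup.mk rels) := by
  rw [MonoidHom.range_eq_map, ← PresentedGroup.closure_range_of, MonoidHom.map_closure,
    MonoidHom.map_closure]
  congr 1
  ext g
  simp only [Set.mem_image, Set.mem_range]
  constructor
  · rintro ⟨_, ⟨b, rfl⟩, rfl⟩
    exact ⟨FreeGroup.mk (sub b), hS' b, (hψ b).symm⟩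
  · rintro ⟨s, hs, rfl⟩
    obtain ⟨b, rfl⟩ := hS s hs
    exact ⟨PresentedGroup.of b, ⟨b, rfl⟩, hψ b⟩

/-- a homomorphism from a presented group to any group, with the relator condition in list form -/
theorem exists_hom_of_words {K : Type*} [Group K] (rels' : Set (FreeGroup β)) (f : β → K)
    (relWords' : List (List (β × Bool)))
    (h' : ∀ r, r ∈ rels' → ∃ L ∈ relWords', r = FreeGroup.mk L)
    (hrel : ∀ L ∈ relWords', FreeGroup.lift f (FreeGroup.mk L) = 1) :
    ∃ ψ : PresentedGroup rels' →* K, ∀ b, ψ (PresentedGroup.of b) = f b := by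
  have h1 : ∀ r ∈ rels', FreeGroup.lift f r = 1 := by
    intro r hr
    obtain ⟨L, hL, rfl⟩ := h' r hr
    exact hrel L hL
  exact ⟨PresentedGroup.toGroup h1, fun b => PresentedGroup.toGroup.of h1⟩

/-- the value of a lift on a word of positive letters -/
theorem lift_mk_pos {K : Type*} [Group K] (f : β → K) (L : List β) :
    FreeGroup.lift f (FreeGroup.mk (L.map fun b => (b, true))) = (L.map f).prod := by
  induction L with
  | nil => rfl
  | cons b L ih =>
    have e : FreeGroup.mk (((b :: L).map fun b => (b, true))) =
        FreeGroup.of b * FreeGroup.mk (L.map fun b => (b, true)) := by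
      rw [List.map_cons]
      show _ = FreeGroup.mk [(b, true)] * _
      rw [FreeGroup.mul_mk]; rfl
    rw [e, map_mul, ih, FreeGroup.lift_apply_of, List.map_cons, List.prod_cons]

end Cfsg.Agent.Lib.Helper28.TC2Subst
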