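/-
helper28: root subgroups `Xsl i`, their complements `Ussl i` in `U = unitri n F` and the rank one
relations for `slBN` (S4538, part B2): `hX`, `hUs`, `hXU`, `hXUs`, `hcardX`, `hsUs`.
-/
import Mathlib
import Cfsg.Agent.Lib.Helper28.SLBNU

set_option autoImplicit false

namespace Cfsg.Agent.Lib.Helper28.SLBN

open Matrix Equiv Cfsg.Agent.Lib.Helper6.GLBN Cfsg.Agent.Lib.Helper18.PSLnAut

variable {n : ℕ} {F : Type*} [Field F]

/-- the root element `1 + t E_{pq}` of `SL_n(F)` -/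
def xSL (p q : Fin n) (hpq : p ≠ q) (t : F) : Matrix.SpecialLinearGroup (Fin n) F :=
  ⟨Matrix.transvection p q t, Matrix.det_transvection_of_ne p q hpq t⟩

theorem coe_xSL (p q : Fin n) (hpq : p ≠ q) (t : F) :
    ((xSL p q hpq t : Matrix.SpecialLinearGroup (Fin n) F) : Matrix (Fin n) (Fin n) F) =
      Matrix.transvection p q t := rfl

theorem toGL_xSL (p q : Fin n) (hpq : p ≠ q) (t : F) :
    Matrix.SpecialLinearGroup.toGL (xSL p q hpq t) = xGL p q hpq t := Units.ext rfl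

theorem xSL_zero (p q : Fin n) (hpq : p ≠ q) : xSL p q hpq (0 : F) = 1 := by
  apply Matrix.SpecialLinearGroup.toGL_injective
  rw [toGL_xSL, xGL_zero, map_one]

theorem xSL_mul (p q : Fin n) (hpq : p ≠ q) (t u : F) :
    xSL p q hpq t * xSL p q hpq u = xSL p q hpq (t + u) := by
  apply Matrix.SpecialLinearGroup.toGL_injective
  rw [map_mul, toGL_xSL, toGL_xSL, toGL_xSL, xGL_mul]

theorem xSL_inv (p q : Fin n) (hpq : p ≠ q) (t : F) :
    (xSL p q hpq t)⁻¹ = xSL p q hpq (-t) := by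
  rw [inv_eq_iff_mul_eq_one, xSL_mul, add_neg_cancel, xSL_zero]

theorem xSL_apply (p q : Fin n) (hpq : p ≠ q) (t : F) :
    ((xSL p q hpq t : Matrix.SpecialLinearGroup (Fin n) F) : Matrix (Fin n) (Fin n) F) p q = t := by
  rw [coe_xSL, transvection_apply', if_neg hpq, if_pos ⟨rfl, rfl⟩, zero_add]

theorem xSL_injective (p q : Fin n) (hpq : p ≠ q) :
    Function.Injective (xSL (F := F) p q hpq) := by
  intro t u h
  rw [← xSL_apply p q hpq t, h, xSL_apply]

/-! ### adjacent indices -/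

/-- the lower index of the `i`-th simple root -/
def lo (i : Fin (n - 1)) : Fin n := ⟨i.val, by omega⟩
/-- the upper index of the `i`-th simple root -/
def hi (i : Fin (n - 1)) : Fin n := ⟨i.val + 1, by omega⟩

theorem hi_val (i : Fin (n - 1)) : (hi i).val = (lo i).val + 1 := rfl

theorem lo_ne_hi (i : Fin (n - 1)) : lo i ≠ hi i := adj_ne (hi_val i)

theorem lo_lt_hi (i : Fin (n - 1)) : lo i < hi i := by
  rw [Fin.lt_def]; show i.val < i.val + 1; omega

theorem sOfSL_eq (i : Fin (n - 1)) : sOfSL n F i = sSL (lo i) (hi i) := rfl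

/-- the `i`-th fundamental root subgroup -/
def Xsl (n : ℕ) (F : Type*) [Field F] (i : Fin (n - 1)) :
    Subgroup (Matrix.SpecialLinearGroup (Fin n) F) where
  carrier := {g | ∃ t : F, g = xSL (lo i) (hi i) (lo_ne_hi i) t}
  mul_mem' := by
    rintro _ _ ⟨t, rfl⟩ ⟨u, rfl⟩
    exact ⟨t + u, xSL_mul _ _ _ t u⟩
  one_mem' := ⟨0, (xSL_zero _ _ _).symm⟩
  inv_mem' := by
    rintro _ ⟨t, rfl⟩
    exact ⟨-t, xSL_inv _ _ _ t⟩

theorem mem_Xsl {i : Fin (n - 1)} {g : Matrix.SpecialLinearGroup (Fin n) F} :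
    g ∈ Xsl n F i ↔ ∃ t : F, g = xSL (lo i) (hi i) (lo_ne_hi i) t := Iff.rfl

/-- `hcardX` -/
theorem card_Xsl [Fintype F] (i : Fin (n - 1)) : Nat.card (Xsl n F i) = Fintype.card F := by
  rw [← Nat.card_eq_fintype_card]
  symm
  apply Nat.card_congr
  refine Equiv.ofBijective (fun t => ⟨xSL (lo i) (hi i) (lo_ne_hi i) t, t, rfl⟩) ⟨?_, ?_⟩
  · intro t u h
    exact xSL_injective (lo i) (hi i) (lo_ne_hi i) (congrArg Subtype.val h)
  · rintro ⟨_, t, rfl⟩
    exact ⟨t, rfl⟩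

/-- unitriangular with vanishing `(i,i+1)` entry -/
def IsUs (i : Fin (n - 1)) (M : Matrix (Fin n) (Fin n) F) : Prop :=
  IsUni M ∧ M (lo i) (hi i) = 0

theorem IsUs.one (i : Fin (n - 1)) : IsUs i (1 : Matrix (Fin n) (Fin n) F) :=
  ⟨IsUni.one, Matrix.one_apply_ne (lo_ne_hi i)⟩

theorem IsUs.mul {i : Fin (n - 1)} {A B : Matrix (Fin n) (Fin n) F} (hA : IsUs i A)
    (hB : IsUs i B) : IsUs i (A * B) := by
  refine ⟨hA.1.mul hB.1, ?_⟩
  rw [Matrix.mul_apply]
  apply Finset.sum_eq_zero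
  intro j _
  by_cases h1 : j < lo i
  · rw [hA.1.1 _ _ h1, zero_mul]
  · by_cases h2 : hi i < j
    · rw [hB.1.1 _ _ h2, mul_zero]
    · have : j = lo i ∨ j = hi i := by
        rw [not_lt] at h1 h2
        rw [Fin.le_def] at h1 h2
        rw [hi_val] at h2
        rcases Nat.lt_or_ge (lo i).val j.val with h | h
        · right; apply Fin.ext; rw [hi_val]; omega
        · left; apply Fin.ext; omega
      rcases this with rfl | rfl
      · rw [hB.2, mul_zero]
      · rw [hA.2, zero_mul]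

theorem IsUs.pow {i : Fin (n - 1)} {A : Matrix (Fin n) (Fin n) F} (hA : IsUs i A) (k : ℕ) :
    IsUs i (A ^ k) := by
  induction k with
  | zero => rw [pow_zero]; exact IsUs.one i
  | succ k ih => rw [pow_succ]; exact ih.mul hA

/-- the complement of `Xsl i` in `U` -/
def Ussl (n : ℕ) (F : Type*) [Field F] [Finite F] (i : Fin (n - 1)) :
    Subgroup (Matrix.SpecialLinearGroup (Fin n) F) where
  carrier := {g | IsUs i (g : Matrix (Fin n) (Fin n) F)}
  mul_mem' := by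
    intro a b ha hb
    show IsUs i ((a * b : Matrix.SpecialLinearGroup (Fin n) F) : Matrix (Fin n) (Fin n) F)
    rw [Matrix.SpecialLinearGroup.coe_mul]
    exact IsUs.mul ha hb
  one_mem' := IsUs.one i
  inv_mem' := by
    intro x hx
    have h1 : x⁻¹ = x ^ (orderOf x - 1) := by
      rw [inv_eq_iff_mul_eq_one, ← pow_succ']
      have : orderOf x - 1 + 1 = orderOf x := Nat.sub_add_cancel (orderOf_pos x)
      rw [this, pow_orderOf_eq_one]
    show IsUs i ((x⁻¹ : Matrix.SpecialLinearGroup (Fin n) F) : Matrix (Fin n) (Fin n) F)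
    rw [h1, Matrix.SpecialLinearGroup.coe_pow]
    exact IsUs.pow hx _

theorem mem_Ussl [Finite F] {i : Fin (n - 1)} {g : Matrix.SpecialLinearGroup (Fin n) F} :
    g ∈ Ussl n F i ↔ IsUs i (g : Matrix (Fin n) (Fin n) F) := Iff.rfl

theorem isUni_xSL {p q : Fin n} (hpq : p < q) (t : F) :
    IsUni ((xSL p q (ne_of_lt hpq) t : Matrix.SpecialLinearGroup (Fin n) F) :
      Matrix (Fin n) (Fin n) F) := by
  rw [coe_xSL]
  constructor
  · intro i j hji
    rw [transvection_apply', if_neg (ne_of_gt hji), if_neg, add_zero]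
    rintro ⟨rfl, rfl⟩
    exact absurd hpq (not_lt.mpr (le_of_lt hji))
  · intro i
    rw [transvection_apply', if_pos rfl, if_neg, add_zero]
    rintro ⟨rfl, h⟩
    exact (ne_of_lt hpq) h

/-- `hX` -/
theorem Xsl_le_unitri [Finite F] (i : Fin (n - 1)) : Xsl n F i ≤ unitri n F := by
  rintro _ ⟨t, rfl⟩
  exact isUni_xSL (lo_lt_hi i) t

/-- `hUs` -/
theorem Ussl_le_unitri [Finite F] (i : Fin (n - 1)) : Ussl n F i ≤ unitri n F :=
  fun _ hg => hg.1

/-- `hXU` : `U = Us_i X_i` -/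
theorem unitri_eq_Ussl_mul_Xsl [Finite F] (i : Fin (n - 1))
    {u : Matrix.SpecialLinearGroup (Fin n) F} (hu : u ∈ unitri n F) :
    ∃ y ∈ Ussl n F i, ∃ x ∈ Xsl n F i, u = y * x := by
  set t : F := (u : Matrix (Fin n) (Fin n) F) (lo i) (hi i) with ht
  refine ⟨u * xSL (lo i) (hi i) (lo_ne_hi i) (-t), ?_, xSL (lo i) (hi i) (lo_ne_hi i) t, ⟨t, rfl⟩, ?_⟩
  · rw [mem_Ussl]
    constructor
    · rw [Matrix.SpecialLinearGroup.coe_mul]
      exact IsUni.mul hu (isUni_xSL (lo_lt_hi i) _)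
    · rw [Matrix.SpecialLinearGroup.coe_mul, coe_xSL, mul_transvection_apply', if_pos rfl,
        hu.2 (lo i), ← ht]
      ring
  · rw [mul_assoc, xSL_mul, neg_add_cancel, xSL_zero, mul_one]

/-- `hXUs` : `X_i ⊓ Us_i = ⊥` -/
theorem Xsl_inf_Ussl [Finite F] (i : Fin (n - 1)) : Xsl n F i ⊓ Ussl n F i = ⊥ := by
  rw [eq_bot_iff]
  rintro g ⟨hgX, hgU⟩
  have hgX : g ∈ Xsl n F i := hgX
  have hgU : g ∈ Ussl n F i := hgU
  obtain ⟨t, rfl⟩ := hgX
  rw [Subgroup.mem_bot]
  have : t = 0 := by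
    have := hgU.2
    rwa [xSL_apply] at this
  rw [this, xSL_zero]

end Cfsg.Agent.Lib.Helper28.SLBN
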