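import Mathlib
import Cfsg.Agent.Lib.Helper2.SOTDefs
import Cfsg.Agent.Lib.Helper28.SOTBDefs
import Cfsg.Agent.Lib.Helper28.SOTBKB
import Cfsg.Agent.Lib.Helper9.SpTNU
import Cfsg.Agent.Lib.Helper25.TensS

/-!
S5666 part (B), leaf (UK) `uform_mem_KG` of `notes/S5666_B_leaves.lean` (exact signature): `M ∩ U ≤ KG`.
-/

set_option autoImplicit false
set_option linter.unusedSectionVars false
set_option linter.unusedVariables false

namespace Cfsg.Agent.Lib.Helper28.SOTBLeaf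
open Matrix
open Cfsg.Agent.Lib.Helper25.Tens Cfsg.Agent.Lib.Helper25.TensLeaves Cfsg.Agent.Lib.Helper25.SpT
open Cfsg.Agent.Lib.Helper19.OSub
open Cfsg.Agent.Lib.Helper2.SOT Cfsg.Agent.Lib.Helper28.SOTB
open Cfsg.Agent.Lib.Helper9.SpTNLeaf (UF_mul UF_inv UF_one)
open scoped Kronecker

variable {F : Type*} [Field F] [Fintype F] {b : ℕ} {G : Matrix (Fin b) (Fin b) F}
  {M : Subgroup (GL (Idx 2 b) F)} {o o' : Fin b}

/-- a vector of `B₀` with prescribed `G`-image (off `o, o'`) -/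
theorem exists_B0_vec (hdet : G.det ≠ 0) (hN : NormG G o o') (w : Fin b → F) (hwo : w o = 0)
    (hwo' : w o' = 0) : ∃ v : Fin b → F, G *ᵥ v = w ∧ v o = 0 ∧ v o' = 0 := by
  have hu : IsUnit G.det := isUnit_iff_ne_zero.2 hdet
  refine ⟨G⁻¹ *ᵥ w, ?_, ?_, ?_⟩
  · rw [Matrix.mulVec_mulVec, Matrix.mul_nonsing_inv _ hu, Matrix.one_mulVec]
  · rw [← hN.mulVec_o' (G⁻¹ *ᵥ w), Matrix.mulVec_mulVec, Matrix.mul_nonsing_inv _ hu,
      Matrix.one_mulVec, hwo']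
  · rw [← hN.mulVec_o (G⁻¹ *ᵥ w), Matrix.mulVec_mulVec, Matrix.mul_nonsing_inv _ hu,
      Matrix.one_mulVec, hwo]

/-- `1 ⊗ η_{e_o,v} ∈ M` for `v ∈ B₀` -/
theorem kE_o_mem (h : MCtx 2 b G M) (hN : NormG G o o') (v : Fin b → F) (hvo' : v o' = 0) :
    (kE G (Pi.single o 1) v : GL (Idx 2 b) F) ∈ M := by
  apply kE_mem h (hN.fB_oo h.symm)
  rw [fB_single_left, hN.mulVec_o, hvo']

/-- (UK) `M ∩ U ≤ KG` -/
theorem uform_mem_KG (h : MCtx 2 b G M) (hN : NormG G o o')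
    (hcen : ∀ u ∈ M, UF o o' u.1 → (∀ l : Fin b, l ≠ o → l ≠ o' → blk u.1 o l = 0) → u = 1)
    (g : GL (Idx 2 b) F) (hg : g ∈ M) (hU : UF o o' g.1)
    (hsc : ∀ l : Fin b, l ≠ o → l ≠ o' → IsScalarMat (blk g.1 o l)) : g ∈ KG 2 b F := by
  -- the scalars
  obtain ⟨r, hr⟩ : ∃ r : Fin b → F, ∀ l : Fin b, l ≠ o → l ≠ o' →
      blk g.1 o l = r l • (1 : Matrix (Fin 2) (Fin 2) F) := by
    classical
    refine ⟨fun l => if hl : l ≠ o ∧ l ≠ o' then (hsc l hl.1 hl.2).choose else 0, ?_⟩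
    intro l hl hl'
    simp only [dif_pos (show l ≠ o ∧ l ≠ o' from ⟨hl, hl'⟩)]
    exact (hsc l hl hl').choose_spec
  obtain ⟨v, hGv, hvo, hvo'⟩ := exists_B0_vec h.nd hN
    (fun l => if l = o ∨ l = o' then 0 else - r l) (by simp) (by simp)
  have hkM := kE_o_mem h hN v hvo'
  obtain ⟨hkU, hkrow, -, -⟩ := kE_blocks (a := 2) h.symm h.two hN v hvo hvo'
  obtain ⟨hkiU, hkirow⟩ := UF_inv o o' hN.ne (kE G (Pi.single o 1) v : GL (Idx 2 b) F) hkU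
  obtain ⟨huU, hurow⟩ := UF_mul o o' hN.ne g.1 ((kE G (Pi.single o 1) v : GL (Idx 2 b) F)⁻¹).1 hU hkiU
  have huM : g * (kE G (Pi.single o 1) v : GL (Idx 2 b) F)⁻¹ ∈ M := M.mul_mem hg (M.inv_mem hkM)
  have hone := hcen _ huM (by rw [Units.val_mul]; exact huU) (by
    intro l hl hl'
    rw [Units.val_mul, hurow l hl hl', hkirow l hl hl', hkrow l hl hl', hr l hl hl', hGv]
    simp [hl, hl'])
  have e : g = kE G (Pi.single o 1) v := by
    rw [← mul_one g, ← inv_mul_cancel (kE G (Pi.single o 1) v : GL (Idx 2 b) F), ← mul_assoc, hone,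
      one_mul]
  rw [e]
  exact kE_mem_KG _ _ _

end Cfsg.Agent.Lib.Helper28.SOTBLeaf
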