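import Mathlib
import Cfsg.Agent.Lib.Helper2.SOTDefs
import Cfsg.Agent.Lib.Helper28.SOTBDefs
import Cfsg.Agent.Lib.Helper28.SOTBKB
import Cfsg.Agent.Lib.Helper28.SOTBIso
import Cfsg.Agent.Lib.Helper28.SOTBUK
import Cfsg.Agent.Lib.Helper9.SpTNU
import Cfsg.Agent.Lib.Helper25.TensS

/-!
S5666 part (B), leaf (RS) `rows_scalar` of `notes/S5666_B_leaves.lean` (exact signature): the rows of the
elements of `M ∩ U` are scalar.
-/

set_option autoImplicit false
set_option linter.unusedSectionVars false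
set_option linter.unusedVariables false

namespace Cfsg.Agent.Lib.Helper28.SOTBLeaf
open Matrix
open Cfsg.Agent.Lib.Helper25.Tens Cfsg.Agent.Lib.Helper25.TensLeaves Cfsg.Agent.Lib.Helper25.SpT
open Cfsg.Agent.Lib.Helper19.OSub
open Cfsg.Agent.Lib.Helper2.SOT Cfsg.Agent.Lib.Helper28.SOTB
open Cfsg.Agent.Lib.Helper9.SpTNLeaf (UF_mul UF_inv UF_one)
open scoped Kronecker

variable {F : Type*} [Field F] [Fintype F] {b : ℕ} {G : Matrix (Fin b) (Fin b) F}
  {M : Subgroup (GL (Idx 2 b) F)} {o o' : Fin b}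

/-- a `‡`-self-adjoint `2 × 2` matrix is scalar (own copy of (SA2)) -/
theorem scalar_of_selfadj_two_aux (h2 : (2 : F) ≠ 0) (θ : Matrix (Fin 2) (Fin 2) F)
    (hθ : ∀ x x' : Fin 2 → F, sf (θ *ᵥ x) x' = sf x (θ *ᵥ x')) : IsScalarMat θ := by
  have e01 := hθ ![1, 0] ![0, 1]
  have e00 := hθ ![1, 0] ![1, 0]
  have e11 := hθ ![0, 1] ![0, 1]
  simp only [sf_two, Matrix.mulVec, dotProduct, Fin.sum_univ_two, Matrix.cons_val_zero,
    Matrix.cons_val_one, mul_one, mul_zero, add_zero, zero_add, sub_zero, zero_sub,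
    one_mul, zero_mul] at e01 e00 e11
  have h10 : θ 1 0 = 0 := by
    have : (2 : F) * θ 1 0 = 0 := by linear_combination -e00
    rcases mul_eq_zero.1 this with h | h
    · exact absurd h h2
    · exact h
  have h01 : θ 0 1 = 0 := by
    have : (2 : F) * θ 0 1 = 0 := by linear_combination e11
    rcases mul_eq_zero.1 this with h | h
    · exact absurd h h2
    · exact h
  refine ⟨θ 0 0, ?_⟩
  ext i j
  fin_cases i <;> fin_cases j <;> simp [h10, h01, e01]

lemma sf_sum_right_aux {n : ℕ} {κ : Type*} (s : Finset κ) (x : Fin n → F) (f : κ → (Fin n → F)) :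
    sf x (∑ j ∈ s, f j) = ∑ j ∈ s, sf x (f j) := by
  classical
  induction s using Finset.induction_on with
  | empty => simp
  | insert p s hp ih => rw [Finset.sum_insert hp, Finset.sum_insert hp, sf_add_right, ih]

/-- the corner of a product of two `U`-form matrices -/
theorem corner_mul {a : ℕ} (hne : o ≠ o') (X Y : Matrix (Idx a b) (Idx a b) F) (hX : UF o o' X)
    (hY : UF o o' Y) :
    blk (X * Y) o o' = blk X o o' + blk Y o o' +
      ∑ j : Fin b, (if j = o ∨ j = o' then 0 else blk X o j * blk Y j o') := by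
  classical
  rw [blk_mul]
  have e : ∀ j : Fin b, blk X o j * blk Y j o' =
      (if j = o' then blk X o o' else 0) + (if j = o then blk Y o o' else 0) +
        (if j = o ∨ j = o' then 0 else blk X o j * blk Y j o') := by
    intro j
    by_cases hj : j = o
    · subst hj
      rw [if_neg hne, if_pos rfl, if_pos (Or.inl rfl), hX.2.1, one_mul, zero_add, add_zero]
    · by_cases hj' : j = o'
      · subst hj'
        rw [if_pos rfl, if_neg hj, if_pos (Or.inr rfl), hY.2.2, mul_one, add_zero, add_zero]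
      · rw [if_neg hj', if_neg hj, if_neg (by tauto), zero_add, zero_add]
  rw [Finset.sum_congr rfl (fun j _ => e j), Finset.sum_add_distrib, Finset.sum_add_distrib,
    Finset.sum_ite_eq', Finset.sum_ite_eq', if_pos (Finset.mem_univ _), if_pos (Finset.mem_univ _)]

/-- (RS) rows of `M ∩ U` are scalar -/
theorem rows_scalar (h : MCtx 2 b G M) (hN : NormG G o o')
    (hcen : ∀ u ∈ M, UF o o' u.1 → (∀ l : Fin b, l ≠ o → l ≠ o' → blk u.1 o l = 0) → u = 1)
    (g : GL (Idx 2 b) F) (hg : g ∈ M) (hU : UF o o' g.1) :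
    ∀ l : Fin b, l ≠ o → l ≠ o' → IsScalarMat (blk g.1 o l) := by
  classical
  intro m hm hm'
  have hG := h.symm
  have hvo : (Pi.single m (1 : F) : Fin b → F) o = 0 := Pi.single_eq_of_ne (Ne.symm hm) _
  have hvo' : (Pi.single m (1 : F) : Fin b → F) o' = 0 := Pi.single_eq_of_ne (Ne.symm hm') _
  obtain ⟨k, hkdef⟩ : ∃ k : GL (Idx 2 b) F, k = kE G (Pi.single o 1) (Pi.single m 1) := ⟨_, rfl⟩
  have hkM : k ∈ M := by rw [hkdef]; exact kE_o_mem h hN _ hvo'
  obtain ⟨hkU, hkrow, hkcol, -⟩ := kE_blocks (a := 2) hG h.two hN (Pi.single m 1) hvo hvo'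
  rw [← hkdef] at hkU hkrow hkcol
  -- the commutator is trivial
  obtain ⟨hgiU, hgirow⟩ := UF_inv o o' hN.ne g hU
  obtain ⟨hkiU, hkirow⟩ := UF_inv o o' hN.ne k hkU
  obtain ⟨h1U, h1row⟩ := UF_mul o o' hN.ne g.1 k.1 hU hkU
  obtain ⟨h2U, h2row⟩ := UF_mul o o' hN.ne (g.1 * k.1) (g⁻¹).1 h1U hgiU
  obtain ⟨h3U, h3row⟩ := UF_mul o o' hN.ne (g.1 * k.1 * (g⁻¹).1) (k⁻¹).1 h2U hkiU
  have hcM : g * k * g⁻¹ * k⁻¹ ∈ M :=
    M.mul_mem (M.mul_mem (M.mul_mem hg hkM) (M.inv_mem hg)) (M.inv_mem hkM)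
  have hval : (g * k * g⁻¹ * k⁻¹ : GL (Idx 2 b) F).1 = g.1 * k.1 * (g⁻¹).1 * (k⁻¹).1 := by
    simp only [Units.val_mul]
  have hone := hcen _ hcM (by rw [hval]; exact h3U) (by
    intro l hl hl'
    rw [hval, h3row l hl hl', h2row l hl hl', h1row l hl hl', hgirow l hl hl', hkirow l hl hl']
    abel)
  have hcomm : g * k = k * g := by
    have e1 : g * k = (g * k * g⁻¹ * k⁻¹) * (k * g) := by group
    rw [e1, hone, one_mul]
  -- compare the corners
  have hc1 := corner_mul hN.ne g.1 k.1 hU hkU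
  have hc2 := corner_mul hN.ne k.1 g.1 hkU hU
  have hvalc : g.1 * k.1 = k.1 * g.1 := by
    rw [← Units.val_mul, ← Units.val_mul, hcomm]
  rw [hvalc, hc2] at hc1
  -- the two sums
  have hs1 : ∑ j : Fin b, (if j = o ∨ j = o' then 0 else blk g.1 o j * blk k.1 j o') =
      blk g.1 o m := by
    rw [Finset.sum_eq_single m]
    · rw [if_neg (by tauto), hkcol m hm hm', Pi.single_eq_same, one_smul, mul_one]
    · intro j _ hj
      by_cases hjo : j = o ∨ j = o'
      · rw [if_pos hjo]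
      · rw [if_neg hjo, hkcol j (by tauto) (by tauto), Pi.single_eq_of_ne hj, zero_smul, mul_zero]
    · intro hmm
      exact absurd (Finset.mem_univ _) hmm
  have hs2 : ∑ j : Fin b, (if j = o ∨ j = o' then 0 else blk k.1 o j * blk g.1 j o') =
      ∑ j : Fin b, (if j = o ∨ j = o' then 0 else (-(G j m)) • blk g.1 j o') := by
    apply Finset.sum_congr rfl
    intro j _
    by_cases hjo : j = o ∨ j = o'
    · rw [if_pos hjo, if_pos hjo]
    · rw [if_neg hjo, if_neg hjo, hkrow j (by tauto) (by tauto), Matrix.mulVec_single_one]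
      simp
  rw [hs1, hs2] at hc1
  have hR : blk g.1 o m =
      ∑ j : Fin b, (if j = o ∨ j = o' then 0 else (-(G j m)) • blk g.1 j o') := by
    have := hc1
    -- `C_k + C_g + S₂ = C_g + C_k + R_m`
    have e : blk k.1 o o' + blk g.1 o o' +
        ∑ j : Fin b, (if j = o ∨ j = o' then 0 else (-(G j m)) • blk g.1 j o') -
        (blk g.1 o o' + blk k.1 o o') = blk g.1 o m := by
      rw [this]; abel
    rw [← e]; abel
  -- self-adjointness
  apply scalar_of_selfadj_two_aux h.two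
  intro x x'
  have hui := uform_iso hG hN g (h.le_sp hg) hU m hm hm' x x'
  have e1 : sf (blk g.1 o m *ᵥ x) x' = - ∑ k : Fin b, G m k * sf x (blk g.1 k o' *ᵥ x') := by
    linear_combination hui
  rw [e1]
  conv_rhs => rw [hR]
  rw [Matrix.sum_mulVec, sf_sum_right_aux, ← Finset.sum_neg_distrib]
  apply Finset.sum_congr rfl
  intro j _
  by_cases hjo : j = o ∨ j = o'
  · rw [if_pos hjo, Matrix.zero_mulVec, sf_zero_right]
    rcases hjo with hjo | hjo
    · rw [hjo, hN.col hG, if_neg hm']; ring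
    · rw [hjo, hN.col' hG, if_neg hm]; ring
  · rw [if_neg hjo, Matrix.smul_mulVec, sf_smul_right]
    have hsym : G j m = G m j := by
      conv_lhs => rw [← hG]
      rfl
    rw [hsym]
    ring

end Cfsg.Agent.Lib.Helper28.SOTBLeaf
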