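import Mathlib
import Cfsg.Agent.Lib.Helper2.SOTDefs
import Cfsg.Agent.Lib.Helper28.SOTBDefs
import Cfsg.Agent.Lib.Helper9.SpTNU
import Cfsg.Agent.Lib.Helper25.TensS
import Cfsg.Agent.Lib.Helper13.SOTBCT
import Cfsg.Agent.Lib.Helper13.SOTBNil
import Cfsg.Agent.Lib.Helper18.SOTBK0
import Cfsg.Agent.Lib.Helper18.SOTBSS
import Cfsg.Agent.Lib.Helper2.SOTBCJ
import Cfsg.Agent.Lib.Helper2.SOTBF1
import Cfsg.Agent.Lib.Helper2.SOTBF2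
import Cfsg.Agent.Lib.Helper24.SOTBE
import Cfsg.Agent.Lib.Helper24.SOTBNF
import Cfsg.Agent.Lib.Helper24.SOTGOT
import Cfsg.Agent.Lib.Helper28.SOTBIso
import Cfsg.Agent.Lib.Helper28.SOTBKB
import Cfsg.Agent.Lib.Helper28.SOTBRS
import Cfsg.Agent.Lib.Helper28.SOTBUK
import Cfsg.Agent.Lib.Helper14.SOTBLow

/-!
S5666 part (B) = PART II, the case `a = 2`: the assembly `partII` (helper2's interface) from the landed leaves
of `notes/S5666_B_leaves.lean` (see there and `notes/S5666_B_plan.md` for the proofs).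
-/

set_option autoImplicit false
set_option linter.unusedSectionVars false
set_option linter.unusedVariables false

namespace Cfsg.Agent.Lib.Helper28.SOTBMain
open Matrix
open Cfsg.Agent.Lib.Helper25.Tens Cfsg.Agent.Lib.Helper25.TensLeaves Cfsg.Agent.Lib.Helper25.SpT
open Cfsg.Agent.Lib.Helper19.OSub
open Cfsg.Agent.Lib.Helper2.SOT Cfsg.Agent.Lib.Helper28.SOTB
open scoped Kronecker

variable {F : Type*} [Field F] [Fintype F] {b : ℕ} {G : Matrix (Fin b) (Fin b) F}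
  {M : Subgroup (GL (Idx 2 b) F)} {o o' : Fin b}

/-! ## Part 0: orthogonal geometry of `B` (any `a`) -/

/-- (E1) `U := ⟨w₀,w₁,w₂⟩^⊥` is not totally singular.  With `Bf := Matrix.toBilin' G` (nondegenerate: `h.nd`; symmetric:
`h.symm`) and `W := span {w₀,w₁,w₂}`: `finrank W + finrank (Bf.orthogonal W) = b`
(`LinearMap.BilinForm.finrank_orthogonal`), `finrank W ≤ 3`; if `f ≡ 0` on `U = Bf.orthogonal W` (polarisation:
`2 f(u,u') = Q(u+u') - Q(u) - Q(u')`, `h.two`) then `U ≤ Bf.orthogonal U = W`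
(`LinearMap.BilinForm.orthogonal_orthogonal`), so `b - 3 ≤ finrank U ≤ 3`, contradicting `7 ≤ b`. -/
theorem exists_nonsing_perp {a : ℕ} (h : Ctx a b G) (hb : 7 ≤ b) (w₀ w₁ w₂ : Fin b → F) :
    ∃ v : Fin b → F, fB G v v ≠ 0 ∧ fB G v w₀ = 0 ∧ fB G v w₁ = 0 ∧ fB G v w₂ = 0 :=
  Cfsg.Agent.Lib.Helper24.SOTBLeaf.exists_nonsing_perp h hb w₀ w₁ w₂

/-- (E2) `U' := ⟨w₀,w₁,w₂,w₃⟩^⊥` is the kernel of a linear map `B → F⁴`, so `finrank U' ≥ b - 4 ≥ 3`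
(`LinearMap.finrank_range_add_finrank_ker`); Chevalley-Warning
(`Cfsg.Agent.Lib.Helper15.QuadClass.exists_singular_of_three_le`) for the quadratic form `y ↦ fB G y y` restricted to
`U'` (no nondegeneracy needed). -/
theorem exists_sing_perp {a : ℕ} (h : Ctx a b G) (hb : 7 ≤ b) (w₀ w₁ w₂ w₃ : Fin b → F) :
    ∃ z : Fin b → F, z ≠ 0 ∧ fB G z z = 0 ∧ fB G z w₀ = 0 ∧ fB G z w₁ = 0 ∧ fB G z w₂ = 0 ∧
      fB G z w₃ = 0 :=
  Cfsg.Agent.Lib.Helper24.SOTBLeaf.exists_sing_perp h hb w₀ w₁ w₂ w₃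

/-- (E) the EXISTENCE LEMMA of the plan (B4): first `v`, then `z ⊥ v` -/
theorem exists_sing_nonsing {a : ℕ} (h : Ctx a b G) (hb : 7 ≤ b) (w₀ w₁ w₂ : Fin b → F) :
    ∃ z v : Fin b → F, z ≠ 0 ∧ fB G z z = 0 ∧ fB G z v = 0 ∧ fB G v v ≠ 0 ∧
      fB G z w₀ = 0 ∧ fB G z w₁ = 0 ∧ fB G z w₂ = 0 ∧
      fB G v w₀ = 0 ∧ fB G v w₁ = 0 ∧ fB G v w₂ = 0 := by
  obtain ⟨v, hv, h0, h1, h2⟩ := exists_nonsing_perp h hb w₀ w₁ w₂
  obtain ⟨z, hz, hzz, hz0, hz1, hz2, hzv⟩ := exists_sing_perp h hb w₀ w₁ w₂ v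
  exact ⟨z, v, hz, hzz, hzv, hv, hz0, hz1, hz2, h0, h1, h2⟩

/-- (OT) `O(B)` is transitive on non-zero singular vectors.  THIS IS LEAF (OT) OF THE (G) MARKET
(`notes/S5666_G_leaves.lean`, taken by helper24, landing as `Cfsg.Agent.Lib.Helper24.SOTGLeaf.exists_orth_map` in
`Cfsg/Agent/Lib/Helper24/SOTGOT.lean`): do NOT redo it, it is restated here only for the assemblies. -/
theorem exists_orth_map {a : ℕ} (h : Ctx a b G) {z z' : Fin b → F} (hz : z ≠ 0) (hz' : z' ≠ 0)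
    (hzz : fB G z z = 0) (hz'z' : fB G z' z' = 0) :
    ∃ β : GL (Fin b) F, (∀ y y' : Fin b → F, fB G ((β : Matrix (Fin b) (Fin b) F) *ᵥ y)
      ((β : Matrix (Fin b) (Fin b) F) *ᵥ y') = fB G y y') ∧ (β : Matrix (Fin b) (Fin b) F) *ᵥ z = z' :=
  Cfsg.Agent.Lib.Helper24.SOTGLeaf.exists_orth_map h hz hz' hzz hz'z'

/-- (NF) normal form.  `z ≠ 0` singular (Chevalley-Warning, `h.hb : 3 ≤ b`); `y₀` with `f(z,y₀) = 1` (`h.nd`),
`z* := y₀ - (Q(y₀)/2) • z` singular with `f(z,z*) = 1`; `B₀ := ⟨z,z*⟩^⊥` (`y = f(y,z*) z + f(y,z) z* + y'`, `y' ∈ B₀`) has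
`finrank = b - 2`; columns of `P`: `z` at `o`, `z*` at `o'`, a basis of `B₀` at the other indices
(`Module.finBasisOfFinrankEq`, an `Equiv` `{k // k ≠ o ∧ k ≠ o'} ≃ Fin (b - 2)`); the columns are linearly independent
(pair with `z*`, `z`), so `P` is a unit (`Matrix.linearIndependent_cols_iff_isUnit`), and
`(Pᵀ G P) k l = fB G (P e_k) (P e_l)`.  (Any other route is fine: only the existence of `P` is used.) -/
theorem exists_normal_form {a : ℕ} (h : Ctx a b G) (o o' : Fin b) (hne : o ≠ o') :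
    ∃ P : GL (Fin b) F, NormG (P.1ᵀ * G * P.1) o o' :=
  Cfsg.Agent.Lib.Helper24.SOTBLeaf.exists_normal_form h o o' hne

/-- (CJ) transport along `κ := kel 1 P`: `fB (PᵀGP) y y' = fB G (P y) (P y')`, `fV (PᵀGP) v w = fV G (κ v) (κ w)`
(`pt_induction` + `fV_pt` + `mv_kel_one_pt`, or Gram matrices: `Matrix.mul_kronecker_mul`), so
`g ∈ SpV (PᵀGP) ↔ κ g κ⁻¹ ∈ SpV G`; `κ ∈ KG`; `Ctx`: `symm` (`transpose_mul`), `nd` (`det_mul`, `P.det ≠ 0`), the rest is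
unchanged; `mem_conjM`.  `HasTv`: `t' ∈ conjM P M` with matrix `tvMat (PᵀGP) (pt x z') c`; then `t := κ t' κ⁻¹ ∈ M` has
matrix `tvMat G (pt x (P z')) c` (compare `mulVec`s: `tvMat_mulVec`, `Matrix.mulVec_injective`/`gl_ext`), `P z' ≠ 0`,
`fB G (P z') (P z') = fB (PᵀGP) z' z' = 0`. -/
theorem conj_ctx (h : MCtx 2 b G M) (P : GL (Fin b) F) :
    MCtx 2 b (P.1ᵀ * G * P.1) (conjM P M) ∧
      (HasTv (P.1ᵀ * G * P.1) (conjM P M) → HasTv G M) :=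
  Cfsg.Agent.Lib.Helper2.SOTBLeaf.conj_ctx h P

/-! ## Part 1: the parabolic `Stab(A ⊗ e_o)` in normal form -/

/-- (KB) blocks of `1 ⊗ η_{e_o,v}`, `v ∈ B₀`.  `kE_val`, `blk_kron`: `blk _ k l = (etaMat G e_o v) k l • 1` and
`(etaMat G e_o v) k l = (etaMat G e_o v *ᵥ e_l) k` (`Matrix.mulVec_single_one`), `etaMat_mulVec`/`etaGL_val`:
`η e_l = e_l + [l = o'] v - (G v)_l e_o - ½Q(v) [l = o'] e_o` (`hN.fB_o`, `fB_single_left`, `hN.mulVec_o : (G v) o = v o' = 0`,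
`hN.mulVec_o' : (G v) o' = v o = 0`). -/
theorem kE_blocks {a : ℕ} (hG : Gᵀ = G) (h2 : (2 : F) ≠ 0) (hN : NormG G o o') (v : Fin b → F)
    (hvo : v o = 0) (hvo' : v o' = 0) :
    UF o o' (kE G (Pi.single o 1) v : GL (Idx a b) F).1 ∧
    (∀ l : Fin b, l ≠ o → l ≠ o' →
      blk (kE G (Pi.single o 1) v : GL (Idx a b) F).1 o l = (-(G *ᵥ v) l) • (1 : Matrix (Fin a) (Fin a) F)) ∧
    (∀ k : Fin b, k ≠ o → k ≠ o' →
      blk (kE G (Pi.single o 1) v : GL (Idx a b) F).1 k o' = v k • (1 : Matrix (Fin a) (Fin a) F)) ∧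
    blk (kE G (Pi.single o 1) v : GL (Idx a b) F).1 o o' =
      (-(fB G v v / 2)) • (1 : Matrix (Fin a) (Fin a) F) :=
  Cfsg.Agent.Lib.Helper28.SOTBLeaf.kE_blocks hG h2 hN v hvo hvo'

/-- (ISO) the isometry relations in blocks: `g (pt x e_k) = ∑_p pt (blk g p k *ᵥ x) e_p`
(`Cfsg.Agent.Lib.Helper9.SpTNLeaf.mulVec_pt_single_eq_sum`), `mem_SpV`, `fV_pt`, `fB_single_single`, bilinearity
(`fV_add_left`, ... ; sums by `Finset.sum_induction`/`map_sum`-style lemmas).  Copy of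
`Cfsg.Agent.Lib.Helper9.SpTNLeaf.iso_blocks` (S5704) with `fV G` for `polar Q` and `G` for `Jm b`. -/
theorem iso_blocks {a : ℕ} (g : GL (Idx a b) F) (hg : g ∈ SpV G) (k l : Fin b) (x x' : Fin a → F) :
    ∑ p : Fin b, ∑ q : Fin b, sf (blk g.1 p k *ᵥ x) (blk g.1 q l *ᵥ x') * G p q = sf x x' * G k l :=
  Cfsg.Agent.Lib.Helper28.SOTBLeaf.iso_blocks g hg k l x x'

/-- (SP) an isometry stabilising `W = A ⊗ e_o` stabilises `W^⊥`.  `blk g p o = if p = o then h₁ else 0` (`blk_of_stab`);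
(ISO) with `k = o`: only `p = o`, `q = o'` survives (`hN.row`): `sf (h₁ x) (blk g o' l x') = sf x x' * G o l`; `h₁` onto,
`sf` nondegenerate (`Helper1.SpTNLeaf.eq_zero_of_sf`, needs `Even a`).  Copy of `Helper9.SpTNLeaf.stab_perp`. -/
theorem stab_perp {a : ℕ} (ea : Even a) (hN : NormG G o o') (g : GL (Idx a b) F) (hg : g ∈ SpV G)
    (h₁ : GL (Fin a) F)
    (hgo : ∀ x : Fin a → F, mv g (pt x (Pi.single o 1)) = pt (h₁.1 *ᵥ x) (Pi.single o 1)) :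
    (∀ l : Fin b, l ≠ o' → blk g.1 o' l = 0) ∧
    (∀ x x' : Fin a → F, sf (h₁.1 *ᵥ x) (blk g.1 o' o' *ᵥ x') = sf x x') :=
  Cfsg.Agent.Lib.Helper28.SOTBLeaf.stab_perp ea hN g hg h₁ hgo

/-- (UI) the isometry relation between the row `R_l` and the column `(K_k)` of a `U`-form isometry:
`R_l^‡ = - ∑_k G l k K_k`.  (ISO) at `(l, o')`: `blk u p l = [p = l]` for `p ≠ o` (UF), `blk u o l = R_l`; the terms are
`∑_q G l q sf x (blk u q o' x') + ∑_q G o q sf (R_l x) (blk u q o' x')`, `G o q = [q = o']` (`hN.row`), `blk u o' o' = 1`; the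
right-hand side is `sf x x' * G l o' = 0` (`hN.col' hG`).  (The sum over ALL `k`: `G l o = 0 = G l o'` by `hN.col/col'`.) -/
theorem uform_iso {a : ℕ} (hG : Gᵀ = G) (hN : NormG G o o') (u : GL (Idx a b) F) (hu : u ∈ SpV G)
    (hU : UF o o' u.1) (l : Fin b) (hl : l ≠ o) (hl' : l ≠ o') (x x' : Fin a → F) :
    sf (blk u.1 o l *ᵥ x) x' + ∑ k : Fin b, G l k * sf x (blk u.1 k o' *ᵥ x') = 0 :=
  Cfsg.Agent.Lib.Helper28.SOTBLeaf.uform_iso hG hN u hu hU l hl hl' x x'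

/-- (CZ) zero rows force zero columns and a `‡`-skew corner.  (UI) with `R_l = 0`: for fixed `x, x'` the vector
`c k := if k = o ∨ k = o' then 0 else sf x (blk u k o' x')` satisfies `G *ᵥ c = 0` (rows `l ∉ {o,o'}`: (UI) and
`G l o = 0 = G l o'`; rows `o, o'`: `hN.mulVec_o/o'`), so `c = 0` (`hdet`; `Matrix.eq_zero_of_mulVec_eq_zero`), hence
`blk u k o' = 0` (`Helper1.SpTNLeaf.eq_zero_of_sf` + `sf_skew`, `mat_ext_mulVec`).  Corner: (ISO) at `(o',o')`: only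
`(p,q) = (o,o'), (o',o)` survive (`G o o = 0 = G o' o'`). -/
theorem cols_zero {a : ℕ} (ea : Even a) (hG : Gᵀ = G) (hdet : G.det ≠ 0) (hN : NormG G o o')
    (u : GL (Idx a b) F) (hu : u ∈ SpV G) (hU : UF o o' u.1)
    (hrow : ∀ l : Fin b, l ≠ o → l ≠ o' → blk u.1 o l = 0) :
    (∀ k : Fin b, k ≠ o → k ≠ o' → blk u.1 k o' = 0) ∧
    (∀ x x' : Fin a → F, sf (blk u.1 o o' *ᵥ x) x' + sf x (blk u.1 o o' *ᵥ x') = 0) :=
  Cfsg.Agent.Lib.Helper28.SOTBLeaf.cols_zero ea hG hdet hN u hu hU hrow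

/-- (NIL) pure `2 × 2` algebra.  `C = !![p, q; r, -p]` (`htr`).  With `α_t := !![1, t; 0, 1]`:
`α_t C α_t⁻¹ - C = !![t r, -2 t p - t² r; 0, -t r]`, so `(α₁ C α₁⁻¹ - C) + (α₋₁ C α₋₁⁻¹ - C) = (-2 r) • E₀₁`: done if `r ≠ 0`.
If `r = 0 ≠ q`: conjugate first by `w = !![0, 1; -1, 0]` (`w C w⁻¹ = !![-p, -r; -q, p]`).  If `r = q = 0`:
`α₁ C α₁⁻¹ - C = (-2 p) • E₀₁`, `p ≠ 0`. -/
theorem exists_nilp (h2 : (2 : F) ≠ 0) (Ξ : AddSubgroup (Matrix (Fin 2) (Fin 2) F))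
    (hconj : ∀ α : GL (Fin 2) F, α.1.det = 1 → ∀ C ∈ Ξ, α.1 * C * (α⁻¹).1 ∈ Ξ)
    (C : Matrix (Fin 2) (Fin 2) F) (hC : C ∈ Ξ) (hC0 : C ≠ 0) (htr : C 0 0 + C 1 1 = 0) :
    ∃ c : F, c ≠ 0 ∧ c • Matrix.single (0 : Fin 2) (1 : Fin 2) (1 : F) ∈ Ξ :=
  Cfsg.Agent.Lib.Helper13.SOTBLeaf.exists_nilp h2 Ξ hconj C hC hC0 htr

/-- (CT) `M ∩ U₂ = 1`.  `Ξ := {C | ∃ t ∈ M, UF o o' t.1 ∧ (rows zero) ∧ (columns zero) ∧ blk t.1 o o' = C}` is an additive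
subgroup (`UF_mul`, `UF_inv`, `blk_mul` + `sum_eq_two`: the corner of a product of two such elements is the sum),
invariant under `C ↦ α C α⁻¹`, `det α = 1` (`kel α 1 ∈ KG ⊓ SpV G ≤ M` by `kel_mem_SpV_two`/`h.le`; `UF_conj_kel`,
`blk_kron_one_mul`, `blk_mul_kron_one` for the column blocks).  `tr C = 0`: `hC` + `sf_mulVec_left_two`
(`adj C = tr C - C`) or directly `sf_two` at `x = e₀, x' = e₁`.  If `C ≠ 0`: (NIL) gives `t ∈ M` with corner `c • E₀₁`, all other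
blocks those of `1`; its matrix is `tvMat G (pt e₀ e_o) (-c)` (`ext_blk`; `tvMat`, `kron_mulVec_pt`:
`(Jm 2 ⊗ₖ G) *ᵥ pt e₀ e_o = pt (-e₁) e_o'`, so `tvMat = 1 + c • E_{(0,o),(1,o')}`), i.e. `HasTv G M` with `x = e₀`, `z = e_o`
(`hN.fB_oo`). -/
theorem corner_trivial (h : MCtx 2 b G M) (hN : NormG G o o') (hno : ¬ HasTv G M)
    (u : GL (Idx 2 b) F) (hu : u ∈ M) (hU : UF o o' u.1)
    (hrow : ∀ l : Fin b, l ≠ o → l ≠ o' → blk u.1 o l = 0)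
    (hcol : ∀ k : Fin b, k ≠ o → k ≠ o' → blk u.1 k o' = 0)
    (hC : ∀ x x' : Fin 2 → F, sf (blk u.1 o o' *ᵥ x) x' + sf x (blk u.1 o o' *ᵥ x') = 0) :
    blk u.1 o o' = 0 :=
  Cfsg.Agent.Lib.Helper13.SOTBLeaf.corner_trivial h hN hno u hu hU hrow hcol hC

/-- (B1a) `M ∩ U` has no non-trivial element with zero rows -/
theorem center_trivial (h : MCtx 2 b G M) (hN : NormG G o o') (hno : ¬ HasTv G M)
    (u : GL (Idx 2 b) F) (hu : u ∈ M) (hU : UF o o' u.1)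
    (hrow : ∀ l : Fin b, l ≠ o → l ≠ o' → blk u.1 o l = 0) : u = 1 := by
  obtain ⟨hcol, hC⟩ := cols_zero h.ea h.symm h.nd hN u (h.le_sp hu) hU hrow
  have hc := corner_trivial h hN hno u hu hU hrow hcol hC
  apply Units.ext
  apply ext_blk
  intro k l
  rw [Units.val_one, blk_one]
  by_cases hk : k = o
  · subst hk
    by_cases hl : l = o'
    · subst hl
      rw [hc, if_neg hN.ne]
    · by_cases hl2 : l = k
      · subst hl2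
        rw [hU.2.1, if_pos rfl]
      · rw [hrow l hl2 hl, if_neg (Ne.symm hl2)]
  · by_cases hl : l = o'
    · subst hl
      by_cases hk2 : k = l
      · subst hk2
        rw [hU.2.2, if_pos rfl]
      · rw [hcol k hk hk2, if_neg hk2]
    · exact hU.1 k l hk hl

/-- (SA2) a `‡`-self-adjoint `2 × 2` matrix is scalar: `sf_two` at `(e₀,e₁)`: `θ 0 0 = θ 1 1`; at `(e₀,e₀)`: `2 θ 1 0 = 0`;
at `(e₁,e₁)`: `2 θ 0 1 = 0`. -/
theorem scalar_of_selfadj_two (h2 : (2 : F) ≠ 0) (θ : Matrix (Fin 2) (Fin 2) F)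
    (hθ : ∀ x x' : Fin 2 → F, sf (θ *ᵥ x) x' = sf x (θ *ᵥ x')) : IsScalarMat θ :=
  Cfsg.Agent.Lib.Helper28.SOTBLeaf.scalar_of_selfadj_two_aux h2 θ hθ

/-- (RS) rows of `M ∩ U` are scalar.  Fix `m ∉ {o,o'}`, `k := kE G e_o e_m ∈ M` (`kE_mem`, `hN.fB_oo`,
`hN.fB_o : fB e_m e_o = e_m o' = 0`), (KB) with `v = e_m`: `R_j(k) = -G j m`, `K_j(k) = [j = m]`.  `g k g⁻¹ k⁻¹ ∈ M` has `U`-form
with zero rows (`UF_mul`, `UF_inv`), so `= 1` (`hcen`): `g k = k g`.  Corner blocks (`blk_mul`, UF: `blk (g k) o o' =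
C_g + C_k + ∑_{j ∉ {o,o'}} R_j(g) K_j(k)`): `R_m(g) = - ∑_j G j m • K_j(g)`.  With (UI) for `g` at `l = m`:
`sf (R_m x) x' = sf x (R_m x')`; (SA2). -/
theorem rows_scalar (h : MCtx 2 b G M) (hN : NormG G o o')
    (hcen : ∀ u ∈ M, UF o o' u.1 → (∀ l : Fin b, l ≠ o → l ≠ o' → blk u.1 o l = 0) → u = 1)
    (g : GL (Idx 2 b) F) (hg : g ∈ M) (hU : UF o o' g.1) :
    ∀ l : Fin b, l ≠ o → l ≠ o' → IsScalarMat (blk g.1 o l) :=
  Cfsg.Agent.Lib.Helper28.SOTBLeaf.rows_scalar h hN hcen g hg hU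

/-- (UK) `M ∩ U ≤ KG`.  `blk g o l = r l • 1`.  `w l := if l = o ∨ l = o' then 0 else - r l`, `v := G⁻¹ *ᵥ w` (`h.nd`), so
`G *ᵥ v = w`, `v o' = (G v) o = 0`, `v o = (G v) o' = 0` (`hN.mulVec_o/o'`); `k := kE G e_o v ∈ M` has rows `-(G v) l • 1 =
r l • 1` (KB); `g k⁻¹ ∈ M` is `U`-form with zero rows (`UF_mul`, `UF_inv`), so `g = k ∈ KG` (`hcen`, `kE_mem_KG`). -/
theorem uform_mem_KG (h : MCtx 2 b G M) (hN : NormG G o o')
    (hcen : ∀ u ∈ M, UF o o' u.1 → (∀ l : Fin b, l ≠ o → l ≠ o' → blk u.1 o l = 0) → u = 1)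
    (g : GL (Idx 2 b) F) (hg : g ∈ M) (hU : UF o o' g.1)
    (hsc : ∀ l : Fin b, l ≠ o → l ≠ o' → IsScalarMat (blk g.1 o l)) : g ∈ KG 2 b F :=
  Cfsg.Agent.Lib.Helper28.SOTBLeaf.uform_mem_KG h hN hcen g hg hU hsc

/-- (SS) rigidity.  Fix `k ∉ {o,o'}`, `v := G⁻¹ *ᵥ e_k` (so `G v = e_k`, `v o = 0 = v o'` as in (UK)), `κ := kE G e_o v ∈ M`,
`g' := g κ g⁻¹ ∈ M`.  `κ - 1 = 1 ⊗ N`, `N = ∑_j v j E_{j,o'} - E_{o,k} - ½Q(v) E_{o,o'}` (KB), so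
`blk (g' - 1) p q = ∑_j v j • blk g p j * blk g⁻¹ o' q - blk g p o * blk g⁻¹ k q - ½Q(v) • blk g p o * blk g⁻¹ o' q`;
`blk g p o = [p = o] h₁` (`blk_of_stab`), `blk g⁻¹ o' q = 0` for `q ≠ o'` ((SP) for `g⁻¹`), `blk g o' j = 0` for `j ≠ o'`
((SP) for `g`): `g'` has `U`-form with `blk g' o q = - h₁ * blk g⁻¹ k q` (`q ∉ {o,o'}`); `hrow`.  Copy of
`Cfsg.Agent.Lib.Helper1.SpTNLeaf.rigid_scalars` (S5704). -/
theorem stab_scalars (h : MCtx 2 b G M) (hN : NormG G o o')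
    (hrow : ∀ u ∈ M, UF o o' u.1 → ∀ l : Fin b, l ≠ o → l ≠ o' → IsScalarMat (blk u.1 o l))
    (g : GL (Idx 2 b) F) (hg : g ∈ M) (h₁ : GL (Fin 2) F)
    (hgo : ∀ x : Fin 2 → F, mv g (pt x (Pi.single o 1)) = pt (h₁.1 *ᵥ x) (Pi.single o 1))
    (hgo' : ∀ x : Fin 2 → F, mv g⁻¹ (pt x (Pi.single o 1)) = pt ((h₁⁻¹).1 *ᵥ x) (Pi.single o 1)) :
    ∀ k q : Fin b, k ≠ o → k ≠ o' → q ≠ o → q ≠ o' → IsScalarMat (h₁.1 * blk (g⁻¹).1 k q) :=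
  Cfsg.Agent.Lib.Helper18.SOTBLeaf.stab_scalars h hN hrow g hg h₁ hgo hgo'

/-- (K0) construction of `k₀ = h₁⁻¹ ⊗ β₀`.  `blk g⁻¹ k q = Λ k q • h₁⁻¹` (`k, q ∉ {o,o'}`); `μ := det h₁⁻¹`; (SP) for `g⁻¹`
+ `sf_mulVec_two`: `blk g⁻¹ o' o' = μ⁻¹ • h₁⁻¹`; `β₀ := [o o ↦ 1, o' o' ↦ μ⁻¹, k q ↦ Λ k q, else 0]`.  (ISO) for `g⁻¹` at
`k, l ∉ {o,o'}`: `μ (Λᵀ G Λ) k l = G k l`, so `β₀ᵀ G β₀ = μ⁻¹ G`: `β₀` is a unit and a similitude of `fB G` of multiplier `μ⁻¹`;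
`kel_mem_SpV_two`.  `g * (h₁⁻¹ ⊗ₖ β₀)` has `U`-form (compare with `g * g⁻¹ = 1`: the blocks of `h₁⁻¹ ⊗ₖ β₀` and of `g⁻¹` agree
at `(j,l)`, `j ≠ o`, `l ≠ o'`, and `blk g k o = 0` for `k ≠ o`).  Copy of `Cfsg.Agent.Lib.Helper1.SpTNLeaf.exists_k0`. -/
theorem exists_k0 (h : Ctx 2 b G) (hN : NormG G o o') (g : GL (Idx 2 b) F) (hg : g ∈ SpV G)
    (h₁ : GL (Fin 2) F)
    (hgo : ∀ x : Fin 2 → F, mv g (pt x (Pi.single o 1)) = pt (h₁.1 *ᵥ x) (Pi.single o 1))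
    (hgo' : ∀ x : Fin 2 → F, mv g⁻¹ (pt x (Pi.single o 1)) = pt ((h₁⁻¹).1 *ᵥ x) (Pi.single o 1))
    (hsc : ∀ k q : Fin b, k ≠ o → k ≠ o' → q ≠ o → q ≠ o' →
      IsScalarMat (h₁.1 * blk (g⁻¹).1 k q)) :
    ∃ β₀ : GL (Fin b) F, (kel h₁⁻¹ β₀ : GL (Idx 2 b) F) ∈ SpV G ∧
      UF o o' (g * kel h₁⁻¹ β₀ : GL (Idx 2 b) F).1 :=
  Cfsg.Agent.Lib.Helper18.SOTBLeaf.exists_k0 h hN g hg h₁ hgo hgo' hsc

/-- (B2, normal form) `Stab_M(A ⊗ e_o) ≤ KG` -/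
theorem stab_mem_KG_norm (h : MCtx 2 b G M) (hN : NormG G o o') (hno : ¬ HasTv G M)
    (g : GL (Idx 2 b) F) (hg : g ∈ M) (hst : StabZ (Pi.single o 1) g) : g ∈ KG 2 b F := by
  obtain ⟨h₁, hgo, hgo'⟩ := Cfsg.Agent.Lib.Helper25.TensLeaf.stab_data o g hst
  have hcen := center_trivial h hN hno
  have hrow : ∀ u ∈ M, UF o o' u.1 → ∀ l : Fin b, l ≠ o → l ≠ o' → IsScalarMat (blk u.1 o l) :=
    fun u hu hU => rows_scalar h hN hcen u hu hU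
  have hsc := stab_scalars h hN hrow g hg h₁ hgo hgo'
  obtain ⟨β₀, hk, hU⟩ := exists_k0 h.toCtx hN g (h.le_sp hg) h₁ hgo hgo' hsc
  have hkM : (kel h₁⁻¹ β₀ : GL (Idx 2 b) F) ∈ M := h.le ⟨kel_mem_KG _ _, hk⟩
  have huM : g * kel h₁⁻¹ β₀ ∈ M := M.mul_mem hg hkM
  have huK := uform_mem_KG h hN hcen _ huM hU (hrow _ huM hU)
  have e : g = (g * kel h₁⁻¹ β₀) * (kel h₁⁻¹ β₀)⁻¹ := by group
  rw [e]
  exact (KG 2 b F).mul_mem huK ((KG 2 b F).inv_mem (kel_mem_KG _ _))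

/-- (B2) `Stab_M(A ⊗ z) ≤ KG` for every singular `z ≠ 0` (transport by `O(B)`) -/
theorem stab_mem_KG (h : MCtx 2 b G M) (hN : NormG G o o') (hno : ¬ HasTv G M)
    (z : Fin b → F) (hz0 : z ≠ 0) (hzz : fB G z z = 0) (g : GL (Idx 2 b) F) (hg : g ∈ M)
    (hst : StabZ z g) : g ∈ KG 2 b F := by
  have he0 : (Pi.single o (1 : F) : Fin b → F) ≠ 0 := by
    intro hc
    have := congrFun hc o
    simp at this
  obtain ⟨β, hβ, hβz⟩ := exists_orth_map h.toCtx he0 hz0 (hN.fB_oo h.symm) hzz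
  have hκ : (kel (1 : GL (Fin 2) F) β : GL (Idx 2 b) F) ∈ M := kel_one_mem h β hβ
  have hst' : StabZ (Pi.single o 1) ((kel (1 : GL (Fin 2) F) β)⁻¹ * g * kel (1 : GL (Fin 2) F) β) := by
    intro x
    obtain ⟨x', hx'⟩ := hst x
    refine ⟨x', ?_⟩
    rw [mv_mul, mv_mul, mv_kel_one_pt, hβz, hx', ← hβz, ← mv_kel_one_pt β x', mv_inv_mv]
  have hK := stab_mem_KG_norm h hN hno _ (M.mul_mem (M.mul_mem (M.inv_mem hκ) hg) hκ) hst'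
  have e : g = kel (1 : GL (Fin 2) F) β * ((kel (1 : GL (Fin 2) F) β)⁻¹ * g * kel (1 : GL (Fin 2) F) β) *
      (kel (1 : GL (Fin 2) F) β)⁻¹ := by group
  rw [e]
  exact (KG 2 b F).mul_mem ((KG 2 b F).mul_mem (kel_mem_KG _ _) hK)
    ((KG 2 b F).inv_mem (kel_mem_KG _ _))

/-! ## Part 2: fusion control (B3) -/

/-- (F1) `rank (k - 1) ≤ 4`: `k - 1 = 1 ⊗ (η - 1)` (`kE_val`, `Matrix.kronecker_sub`-style), `Helper9.TensA.rank_one_kron`,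
`η - 1 = vecMulVec v (G z) - vecMulVec z (G v + c G z)` has rank `≤ 2` (`Matrix.rank_add_le`, `Matrix.rank_vecMulVec_le`);
`m⁻¹ (k - 1) m = α ⊗ β - 1` has the same rank (`Matrix.rank_mul_eq_left_of_isUnit_det` etc.); if `α` is not scalar,
`Cfsg.Agent.Lib.Helper9.TensA.rank_ge_of_nonscalar α β _ (det β ≠ 0) 1 : b ≤ rank (α ⊗ β - 1 • 1)`. -/
theorem alpha_scalar (h : Ctx 2 b G) (hb : 5 ≤ b) {z v : Fin b → F} (hz : fB G z z = 0)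
    (hzv : fB G z v = 0) (m : GL (Idx 2 b) F) (α : GL (Fin 2) F) (β : GL (Fin b) F)
    (hk : m⁻¹ * kE G z v * m = kel α β) : ∃ c : F, α.1 = c • (1 : Matrix (Fin 2) (Fin 2) F) :=
  Cfsg.Agent.Lib.Helper2.SOTBLeaf.alpha_scalar h hb hz hzv m α β hk

/-- (F2) `k' := m⁻¹ k m` acts as `pt x y ↦ pt x (β' y)`, `β' := c • β`.  `m ((k' - 1)² w) = (k - 1)² (m w)`, and
`(k - 1)² w ∈ A ⊗ z` for all `w` (`pt_induction`; on `pt x y`: `(η - 1)² y = -Q(v) f(y,z) z` by `mv_kE_pt`).  So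
`m (pt x ((β' - 1)² y)) = pt x'' z` for all `x, y`.  Some `z' := (β' - 1)² y ≠ 0`: otherwise `(k' - 1)² = 0`, so `(k - 1)² = 0`,
but `(k - 1)² (pt x y₀) = pt (-Q(v) f(y₀,z) x) z ≠ 0` for `f(y₀,z) ≠ 0` (`h.nd`, `hz0`), `x ≠ 0`.  `z'` is singular:
`sf x x' * fB z' z' = fV (pt x z') (pt x' z') = fV (m ..) (m ..) = sf .. .. * fB z z = 0` (`h.le_sp hm`, `fV_pt`), `sf e₀ e₁ = 1`. -/
theorem exists_zprime (h : MCtx 2 b G M) {z v : Fin b → F} (hz0 : z ≠ 0) (hz : fB G z z = 0)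
    (hzv : fB G z v = 0) (hvv : fB G v v ≠ 0) (m : GL (Idx 2 b) F) (hm : m ∈ M)
    (α : GL (Fin 2) F) (β : GL (Fin b) F) (hk : m⁻¹ * kE G z v * m = kel α β)
    (c : F) (hc : α.1 = c • (1 : Matrix (Fin 2) (Fin 2) F)) :
    ∃ z' : Fin b → F, z' ≠ 0 ∧ fB G z' z' = 0 ∧
      ∀ x : Fin 2 → F, ∃ x' : Fin 2 → F, mv m (pt x z') = pt x' z :=
  Cfsg.Agent.Lib.Helper2.SOTBLeaf.exists_zprime h hz0 hz hzv hvv m hm α β hk c hc

/-- (B3) fusion control for `k = 1 ⊗ η_{z,v}`, `Q(v) ≠ 0` -/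
theorem fusion (h : MCtx 2 b G M) (hb : 5 ≤ b)
    (hstab : ∀ z : Fin b → F, z ≠ 0 → fB G z z = 0 → ∀ g ∈ M, StabZ z g → g ∈ KG 2 b F)
    {z v : Fin b → F} (hz0 : z ≠ 0) (hz : fB G z z = 0) (hzv : fB G z v = 0) (hvv : fB G v v ≠ 0)
    (m : GL (Idx 2 b) F) (hm : m ∈ M) (hk : m⁻¹ * kE G z v * m ∈ KG 2 b F) : m ∈ KG 2 b F := by
  obtain ⟨α, β, hαβ⟩ := (mem_KG_iff _).1 hk
  have hk' : m⁻¹ * kE G z v * m = kel α β := Units.ext hαβ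
  obtain ⟨c, hc⟩ := alpha_scalar h.toCtx hb hz hzv m α β hk'
  obtain ⟨z', hz'0, hz'z', hmz'⟩ := exists_zprime h hz0 hz hzv hvv m hm α β hk' c hc
  obtain ⟨β₀, hβ₀, hβ₀z⟩ := exists_orth_map h.toCtx hz0 hz'0 hz hz'z'
  have hκ : (kel (1 : GL (Fin 2) F) β₀ : GL (Idx 2 b) F) ∈ M := kel_one_mem h β₀ hβ₀
  have hst : StabZ z (m * kel (1 : GL (Fin 2) F) β₀) := by
    intro x
    obtain ⟨x', hx'⟩ := hmz' x
    exact ⟨x', by rw [mv_mul, mv_kel_one_pt, hβ₀z, hx']⟩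
  have hK := hstab z hz0 hz _ (M.mul_mem hm hκ) hst
  have e : m = (m * kel (1 : GL (Fin 2) F) β₀) * (kel (1 : GL (Fin 2) F) β₀)⁻¹ := by group
  rw [e]
  exact (KG 2 b F).mul_mem hK ((KG 2 b F).inv_mem (kel_mem_KG _ _))

/-! ## Part 3: Stage I and the assembly -/

/-- PART II in normal form.  Stage I is helper14's `Cfsg.Agent.Lib.Helper14.SOTBLow.stageI_low`
(notes/SpLow_plan.md §T (b)), which needs only `5 ≤ b` (the original Stage I of notes/S5666_B_plan.md (B4) needed `7 ≤ b`). -/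
theorem partII_norm (h : MCtx 2 b G M) (hb : 5 ≤ b) (hN : NormG G o o') (hno : ¬ HasTv G M) :
    M ≤ KG 2 b F := by
  have hstab := stab_mem_KG h hN hno
  have hz0 : (Pi.single o (1 : F) : Fin b → F) ≠ 0 := by
    intro hc
    have := congrFun hc o
    simp at this
  exact Cfsg.Agent.Lib.Helper14.SOTBLow.stageI_low h hb hN
    (fun g hg hst => hstab _ hz0 (hN.fB_oo h.symm) g hg hst)
    (fun {z v} hz0 hz hzv hvv m hm hk => fusion h hb hstab hz0 hz hzv hvv m hm hk)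

/-- PART II (helper2's interface `Cfsg.Agent.Lib.Helper2.SOTLeaves.partII`) -/
theorem partII {a : ℕ} {M : Subgroup (GL (Idx a b) F)} (h : MCtx a b G M) (h2 : a = 2)
    (hno : ¬ HasTv G M) : M ≤ KG a b F := by
  subst h2
  have hb : 5 ≤ b := by have := h.hn; omega
  obtain ⟨P, hP⟩ := exists_normal_form h.toCtx (⟨0, by omega⟩ : Fin b) ⟨1, by omega⟩
    (by simp [Fin.ext_iff])
  obtain ⟨hctx, htv⟩ := conj_ctx h P
  have hle := partII_norm hctx hb hP (fun ht => hno (htv ht))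
  intro g hg
  have hg' : (kel (1 : GL (Fin 2) F) P)⁻¹ * g * kel (1 : GL (Fin 2) F) P ∈ conjM P M := by
    rw [mem_conjM]
    have e : kel (1 : GL (Fin 2) F) P * ((kel (1 : GL (Fin 2) F) P)⁻¹ * g * kel (1 : GL (Fin 2) F) P) *
        (kel (1 : GL (Fin 2) F) P)⁻¹ = g := by group
    rw [e]
    exact hg
  have hK := hle hg'
  have e : g = kel (1 : GL (Fin 2) F) P * ((kel (1 : GL (Fin 2) F) P)⁻¹ * g * kel (1 : GL (Fin 2) F) P) *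
      (kel (1 : GL (Fin 2) F) P)⁻¹ := by group
  rw [e]
  exact (KG 2 b F).mul_mem ((KG 2 b F).mul_mem (kel_mem_KG _ _) hK)
    ((KG 2 b F).inv_mem (kel_mem_KG _ _))

end Cfsg.Agent.Lib.Helper28.SOTBMain
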