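import Mathlib
import Cfsg.Agent.Lib.Helper14.SylA.Defs

/-!
helper28: S2221 leaves AB1-AB5 + AB (the product theorem) of notes/S2221_leaves.lean (helper14 market).
-/

set_option autoImplicit false
open scoped commutatorElement

namespace Cfsg.Agent.Lib.Helper28.SylALeaf

open Cfsg.Agent.Lib.Helper14.SylA RegularWreathProduct

section AB

variable {ι : Type} [Fintype ι] [DecidableEq ι] (W : ι → Type) [∀ i, Group (W i)]
  (sgn : ∀ i, W i →* ℤˣ)

theorem piSgn_mulSingle (i : ι) (x : W i) : piSgn W sgn (Pi.mulSingle i x) = sgn i x := by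
  rw [piSgn_apply]
  rw [Finset.prod_eq_single i]
  · simp
  · intro k _ hk
    rw [Pi.mulSingle_eq_of_ne hk, map_one]
  · intro h; exact absurd (Finset.mem_univ i) h

theorem exists_ne_of_two_le (hι : 2 ≤ Fintype.card ι) (i : ι) : ∃ j : ι, j ≠ i := by
  by_contra h
  push_neg at h
  have : Fintype.card ι ≤ 1 := Fintype.card_le_one_iff.mpr (fun a b => by rw [h a, h b])
  omega

/-- AB1: with at least two factors and surjective signs, every coordinate projection of the kernel
is onto. -/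
theorem exists_mem_ker_apply_eq (hι : 2 ≤ Fintype.card ι)
    (hsurj : ∀ i, Function.Surjective (sgn i)) (i : ι) (x : W i) :
    ∃ t ∈ (piSgn W sgn).ker, t i = x := by
  obtain ⟨j, hj⟩ := exists_ne_of_two_le hι i
  obtain ⟨y, hy⟩ := hsurj j (sgn i x)
  refine ⟨Pi.mulSingle i x * Pi.mulSingle j y, ?_, ?_⟩
  · rw [MonoidHom.mem_ker, map_mul, piSgn_mulSingle, piSgn_mulSingle, hy, Int.units_mul_self]
  · rw [Pi.mul_apply, Pi.mulSingle_eq_same, Pi.mulSingle_eq_of_ne (Ne.symm hj), mul_one]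

/-- AB2: for an internal direct decomposition of the kernel, at each coordinate one of the two
factors projects into the centre (AB1 + CI). -/
theorem proj_central_or (hι : 2 ≤ Fintype.card ι)
    (hsurj : ∀ i, Function.Surjective (sgn i)) (hci : ∀ i, CI (W i))
    (A B : Subgroup (∀ i, W i)) (hAB : Cfsg.IsInternalDirectProduct A B (piSgn W sgn).ker) (i : ι) :
    (∀ a ∈ A, a i ∈ Subgroup.center (W i)) ∨ (∀ b ∈ B, b i ∈ Subgroup.center (W i)) := by
  obtain ⟨hA, hB, hcomm, hinf, hsup⟩ := hAB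
  have key := hci i (A.map (Pi.evalMonoidHom W i)) (B.map (Pi.evalMonoidHom W i)) ?_ ?_
  · rcases key with h | h
    · left
      intro a ha
      exact h (Subgroup.mem_map.mpr ⟨a, ha, rfl⟩)
    · right
      intro b hb
      exact h (Subgroup.mem_map.mpr ⟨b, hb, rfl⟩)
  · rintro _ ⟨a, ha, rfl⟩ _ ⟨b, hb, rfl⟩
    have := congrFun (hcomm a ha b hb) i
    simpa using this
  · rw [← Subgroup.map_sup, hsup, eq_top_iff]
    intro x _
    obtain ⟨t, ht, htx⟩ := exists_mem_ker_apply_eq W sgn hι hsurj i x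
    exact Subgroup.mem_map.mpr ⟨t, ht, htx⟩

theorem mem_mul_of_isInternalDirectProduct
    (A B P : Subgroup (∀ i, W i)) (hAB : Cfsg.IsInternalDirectProduct A B P) (t : ∀ i, W i)
    (ht : t ∈ P) : ∃ a ∈ A, ∃ b ∈ B, t = a * b := by
  obtain ⟨hA, hB, hcomm, hinf, hsup⟩ := hAB
  rw [← hsup, Subgroup.sup_eq_closure] at ht
  refine Subgroup.closure_induction ?_ ?_ ?_ ?_ ht
  · rintro x (hx | hx)
    · exact ⟨x, hx, 1, B.one_mem, by simp⟩
    · exact ⟨1, A.one_mem, x, hx, by simp⟩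
  · exact ⟨1, A.one_mem, 1, B.one_mem, by simp⟩
  · rintro _ _ _ _ ⟨a₁, ha₁, b₁, hb₁, rfl⟩ ⟨a₂, ha₂, b₂, hb₂, rfl⟩
    refine ⟨a₁ * a₂, A.mul_mem ha₁ ha₂, b₁ * b₂, B.mul_mem hb₁ hb₂, ?_⟩
    have h := hcomm a₂ ha₂ b₁ hb₁
    calc a₁ * b₁ * (a₂ * b₂) = a₁ * (b₁ * a₂) * b₂ := by group
      _ = a₁ * (a₂ * b₁) * b₂ := by rw [h]
      _ = a₁ * a₂ * (b₁ * b₂) := by group
  · rintro _ _ ⟨a, ha, b, hb, rfl⟩
    refine ⟨a⁻¹, A.inv_mem ha, b⁻¹, B.inv_mem hb, ?_⟩
    have h := hcomm a ha b hb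
    rw [mul_inv_rev]
    have h' : b⁻¹ * a⁻¹ = a⁻¹ * b⁻¹ := by
      rw [← mul_inv_rev, ← mul_inv_rev, h]
    exact h'

/-- AB3: the parity argument: one of the two factors projects into the centre at EVERY coordinate. -/
theorem all_central_or (hι : 2 ≤ Fintype.card ι)
    (hsurj : ∀ i, Function.Surjective (sgn i)) (hci : ∀ i, CI (W i))
    (hZe : ∀ i, Subgroup.center (W i) ≤ (sgn i).ker)
    (A B : Subgroup (∀ i, W i)) (hAB : Cfsg.IsInternalDirectProduct A B (piSgn W sgn).ker) :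
    (∀ i, ∀ a ∈ A, a i ∈ Subgroup.center (W i)) ∨
      (∀ i, ∀ b ∈ B, b i ∈ Subgroup.center (W i)) := by
  by_contra hcon
  push_neg at hcon
  obtain ⟨⟨i, a₀, ha₀, ha₀i⟩, ⟨j, b₀, hb₀, hb₀j⟩⟩ := hcon
  have hor := proj_central_or W sgn hι hsurj hci A B hAB
  have hBi : ∀ b ∈ B, b i ∈ Subgroup.center (W i) := by
    rcases hor i with h | h
    · exact absurd (h a₀ ha₀) ha₀i
    · exact h
  have hAj : ∀ a ∈ A, a j ∈ Subgroup.center (W j) := by
    rcases hor j with h | h
    · exact h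
    · exact absurd (h b₀ hb₀) hb₀j
  have hij : i ≠ j := by
    rintro rfl
    exact hb₀j (hBi b₀ hb₀)
  -- the element with odd entries at i, j
  obtain ⟨x, hx⟩ := hsurj i (-1)
  obtain ⟨y, hy⟩ := hsurj j (-1)
  set t : ∀ k, W k := Pi.mulSingle i x * Pi.mulSingle j y with ht
  have htP : t ∈ (piSgn W sgn).ker := by
    rw [MonoidHom.mem_ker, ht, map_mul, piSgn_mulSingle, piSgn_mulSingle, hx, hy]
    decide
  obtain ⟨a, ha, b, hb, hab⟩ := mem_mul_of_isInternalDirectProduct W A B _ hAB t htP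
  have haP : a ∈ (piSgn W sgn).ker := hAB.1 ha
  rw [MonoidHom.mem_ker, piSgn_apply] at haP
  have hk : ∀ k, k ≠ i → sgn k (a k) = 1 := by
    intro k hki
    by_cases hkj : k = j
    · subst hkj
      exact (MonoidHom.mem_ker).mp (hZe k (hAj a ha))
    · have htk : t k = 1 := by
        rw [ht, Pi.mul_apply, Pi.mulSingle_eq_of_ne hki, Pi.mulSingle_eq_of_ne hkj, mul_one]
      have habk : a k * b k = 1 := by
        rw [← Pi.mul_apply, ← hab, htk]
      rcases hor k with h | h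
      · exact (MonoidHom.mem_ker).mp (hZe k (h a ha))
      · have hbk : sgn k (b k) = 1 := (MonoidHom.mem_ker).mp (hZe k (h b hb))
        have := congrArg (sgn k) habk
        rw [map_mul, hbk, mul_one, map_one] at this
        exact this
  have hi : sgn i (a i) = -1 := by
    have hti : t i = x := by
      rw [ht, Pi.mul_apply, Pi.mulSingle_eq_same, Pi.mulSingle_eq_of_ne hij, mul_one]
    have habi : a i * b i = x := by
      rw [← Pi.mul_apply, ← hab, hti]
    have hbi : sgn i (b i) = 1 := (MonoidHom.mem_ker).mp (hZe i (hBi b hb))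
    have := congrArg (sgn i) habi
    rw [map_mul, hbi, mul_one, hx] at this
    exact this
  rw [Finset.prod_eq_single i (fun k _ hki => hk k hki)
    (fun h => absurd (Finset.mem_univ i) h), hi] at haP
  exact absurd haP (by decide)

/-- In a finite nonabelian 2-group with centre of order 2, every central element is a commutator
`⁅u, v⁆` with `v` in any prescribed subgroup of index ≤ 2 ... here: with `sgn v = 1`. -/
theorem center_le_commutator_aux {D : Type} [Group D] [Finite D] (h2 : IsPGroup 2 D)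
    (hZ : Nat.card (Subgroup.center D) = 2) (hnab : Subgroup.center D ≠ ⊤)
    (z : D) (hz : z ∈ Subgroup.center D) : ∃ u v : D, z = ⁅u, v⁆ := by
  classical
  by_cases hz1 : z = 1
  · exact ⟨1, 1, by simp [hz1]⟩
  -- the quotient by the centre is a nontrivial 2-group
  have hnt : Nontrivial (D ⧸ Subgroup.center D) := by
    rw [← not_subsingleton_iff_nontrivial]
    intro hs
    apply hnab
    rw [eq_top_iff]
    intro x _
    have : (QuotientGroup.mk x : D ⧸ Subgroup.center D) = (QuotientGroup.mk 1) :=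
      Subsingleton.elim _ _
    rw [QuotientGroup.eq] at this
    simpa using this
  have hq : IsPGroup 2 (D ⧸ Subgroup.center D) := h2.to_quotient _
  haveI : Fact (Nat.Prime 2) := ⟨Nat.prime_two⟩
  haveI : Nontrivial (Subgroup.center (D ⧸ Subgroup.center D)) := hq.center_nontrivial
  obtain ⟨⟨ubar, hubar⟩, hne⟩ := exists_ne (1 : Subgroup.center (D ⧸ Subgroup.center D))
  obtain ⟨u, rfl⟩ := QuotientGroup.mk_surjective ubar
  have hu : u ∉ Subgroup.center D := by
    intro hu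
    apply hne
    apply Subtype.ext
    simpa using (QuotientGroup.eq_one_iff u).mpr hu
  -- some w does not commute with u
  have : ∃ w : D, w * u ≠ u * w := by
    by_contra hall
    push_neg at hall
    exact hu (Subgroup.mem_center_iff.mpr hall)
  obtain ⟨w, hw⟩ := this
  -- the commutator ⁅u,w⁆ is central
  have hc : ⁅u, w⁆ ∈ Subgroup.center D := by
    have h1 := Subgroup.mem_center_iff.mp hubar (QuotientGroup.mk w)
    -- mk w * mk u = mk u * mk w
    rw [← QuotientGroup.mk_mul, ← QuotientGroup.mk_mul, QuotientGroup.eq] at h1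
    -- (w*u)⁻¹ * (u*w) ∈ center
    have h2' : (w * u)⁻¹ * (u * w) ∈ Subgroup.center D := h1
    -- conjugate: ⁅u,w⁆ = u w u⁻¹ w⁻¹ = (w u) ((w u)⁻¹ (u w)) (w u)⁻¹ ... use centrality
    have h3 : ⁅u, w⁆ = (w * u) * ((w * u)⁻¹ * (u * w)) * (w * u)⁻¹ := by
      rw [commutatorElement_def]; group
    rw [h3]
    have h4 := Subgroup.mem_center_iff.mp h2' (w * u)
    rw [h4, mul_inv_cancel_right]
    exact h2'
  have hc1 : ⁅u, w⁆ ≠ 1 := by
    intro h
    apply hw
    rw [commutatorElement_eq_one_iff_mul_comm] at h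
    exact h.symm
  -- centre has exactly two elements: 1 and z
  have hcard : ∀ c ∈ Subgroup.center D, c ≠ 1 → c = z := by
    intro c hcm hc1
    by_contra hcz
    have : 2 < Nat.card (Subgroup.center D) := by
      have hfin : Finite (Subgroup.center D) := inferInstance
      haveI := Fintype.ofFinite (Subgroup.center D)
      rw [Nat.card_eq_fintype_card]
      have h3 : ({⟨1, Subgroup.one_mem _⟩, ⟨z, hz⟩, ⟨c, hcm⟩} : Finset (Subgroup.center D)).card = 3 := by
        rw [Finset.card_insert_of_notMem, Finset.card_insert_of_notMem, Finset.card_singleton]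
        · simp only [Finset.mem_singleton, Subtype.mk.injEq]
          exact fun h => hcz h.symm
        · simp only [Finset.mem_insert, Finset.mem_singleton, Subtype.mk.injEq, not_or]
          exact ⟨fun h => hz1 h.symm, fun h => hc1 h.symm⟩
      have := Finset.card_le_univ ({⟨1, Subgroup.one_mem _⟩, ⟨z, hz⟩, ⟨c, hcm⟩} : Finset (Subgroup.center D))
      omega
    omega
  exact ⟨u, w, (hcard _ hc hc1).symm⟩

/-- AB4: the central elements of the factors lie in the derived subgroup of the kernel. -/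
theorem mulSingle_center_mem_commutator (hι : 2 ≤ Fintype.card ι)
    (hsurj : ∀ i, Function.Surjective (sgn i)) [∀ i, Finite (W i)] (h2 : ∀ i, IsPGroup 2 (W i))
    (hZ : ∀ i, Nat.card (Subgroup.center (W i)) = 2)
    (hnab : ∀ i, Subgroup.center (W i) ≠ ⊤) (i : ι) (z : W i) (hz : z ∈ Subgroup.center (W i)) :
    Pi.mulSingle i z ∈ ⁅(piSgn W sgn).ker, (piSgn W sgn).ker⁆ := by
  obtain ⟨u, v, rfl⟩ := center_le_commutator_aux (h2 i) (hZ i) (hnab i) z hz
  obtain ⟨j, hj⟩ := exists_ne_of_two_le hι i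
  -- WLOG sgn v = 1
  have key : ∀ u v : W i, sgn i v = 1 →
      Pi.mulSingle i ⁅u, v⁆ ∈ ⁅(piSgn W sgn).ker, (piSgn W sgn).ker⁆ := by
    intro u v hv
    obtain ⟨y, hy⟩ := hsurj j (sgn i u)
    have hu' : Pi.mulSingle i u * Pi.mulSingle j y ∈ (piSgn W sgn).ker := by
      rw [MonoidHom.mem_ker, map_mul, piSgn_mulSingle, piSgn_mulSingle, hy, Int.units_mul_self]
    have hv' : (Pi.mulSingle i v : ∀ k, W k) ∈ (piSgn W sgn).ker := by
      rw [MonoidHom.mem_ker, piSgn_mulSingle, hv]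
    have := Subgroup.commutator_mem_commutator hu' hv'
    convert this using 1
    funext k
    by_cases hki : k = i
    · subst hki
      simp [commutatorElement_def, Pi.mulSingle_eq_of_ne (Ne.symm hj)]
    · simp [commutatorElement_def, Pi.mulSingle_eq_of_ne hki]
  rcases Int.units_eq_one_or (sgn i v) with hv | hv
  · exact key u v hv
  · rcases Int.units_eq_one_or (sgn i u) with hu | hu
    · -- ⁅u,v⁆ = ⁅v,u⁆⁻¹
      have h := key v u hu
      have e : ⁅u, v⁆ = ⁅v, u⁆⁻¹ := (commutatorElement_inv v u).symm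
      rw [e, Pi.mulSingle_inv]
      exact Subgroup.inv_mem _ h
    · -- ⁅u,v⁆ = ⁅u, v * u⁻¹⁆
      have e : ⁅u, v⁆ = ⁅u, v * u⁻¹⁆ := by
        simp only [commutatorElement_def]; group
      rw [e]
      apply key
      rw [map_mul, map_inv, hv, hu]
      decide

/-- AB5: if `B` is central coordinatewise in an internal direct decomposition `A × B` of the kernel
then `B = ⊥`. -/
theorem eq_bot_of_all_central (hι : 2 ≤ Fintype.card ι)
    (hsurj : ∀ i, Function.Surjective (sgn i)) [∀ i, Finite (W i)] (h2 : ∀ i, IsPGroup 2 (W i))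
    (hZ : ∀ i, Nat.card (Subgroup.center (W i)) = 2)
    (hnab : ∀ i, Subgroup.center (W i) ≠ ⊤)
    (A B : Subgroup (∀ i, W i)) (hAB : Cfsg.IsInternalDirectProduct A B (piSgn W sgn).ker)
    (hB : ∀ i, ∀ b ∈ B, b i ∈ Subgroup.center (W i)) : B = ⊥ := by
  have hBc : ∀ b ∈ B, ∀ t : (∀ i, W i), t * b = b * t := by
    intro b hb t
    funext k
    exact Subgroup.mem_center_iff.mp (hB k b hb) (t k)
  -- the derived subgroup of the kernel lies in A
  have hder : ⁅(piSgn W sgn).ker, (piSgn W sgn).ker⁆ ≤ A := by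
    rw [Subgroup.commutator_le]
    intro p hp p' hp'
    obtain ⟨a, ha, b, hb, rfl⟩ := mem_mul_of_isInternalDirectProduct W A B _ hAB p hp
    obtain ⟨a', ha', b', hb', rfl⟩ := mem_mul_of_isInternalDirectProduct W A B _ hAB p' hp'
    have e : ⁅a * b, a' * b'⁆ = ⁅a, a'⁆ := by
      simp only [commutatorElement_def, mul_inv_rev]
      have h1 := hBc b hb
      have h2' := hBc b' hb'
      -- move the central elements around
      calc a * b * (a' * b') * (b⁻¹ * a⁻¹) * (b'⁻¹ * a'⁻¹)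
          = a * (b * (a' * b' * b⁻¹ * a⁻¹ * b'⁻¹ * a'⁻¹)) := by group
        _ = a * ((a' * b' * b⁻¹ * a⁻¹ * b'⁻¹ * a'⁻¹) * b) := by
            rw [← h1 (a' * b' * b⁻¹ * a⁻¹ * b'⁻¹ * a'⁻¹)]
        _ = a * a' * (b' * (b⁻¹ * a⁻¹ * b'⁻¹ * a'⁻¹ * b)) := by group
        _ = a * a' * ((b⁻¹ * a⁻¹ * b'⁻¹ * a'⁻¹ * b) * b') := by
            rw [← h2' (b⁻¹ * a⁻¹ * b'⁻¹ * a'⁻¹ * b)]
        _ = a * a' * (b⁻¹ * ((a⁻¹ * b'⁻¹ * a'⁻¹) * b * b')) := by group
        _ = a * a' * (b⁻¹ * (b * (a⁻¹ * b'⁻¹ * a'⁻¹) * b')) := by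
            rw [h1 (a⁻¹ * b'⁻¹ * a'⁻¹)]
        _ = a * a' * a⁻¹ * (b'⁻¹ * (a'⁻¹ * b')) := by group
        _ = a * a' * a⁻¹ * (b'⁻¹ * (b' * a'⁻¹)) := by rw [h2' a'⁻¹]
        _ = a * a' * a⁻¹ * a'⁻¹ := by group
    rw [e]
    exact A.mul_mem (A.mul_mem (A.mul_mem ha ha') (A.inv_mem ha)) (A.inv_mem ha')
  rw [eq_bot_iff]
  intro b hb
  have hbA : b ∈ A := by
    apply hder
    apply Subgroup.pi_mem_of_mulSingle_mem
    intro i
    exact mulSingle_center_mem_commutator W sgn hι hsurj h2 hZ hnab i (b i) (hB i b hb)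
  have : b ∈ A ⊓ B := ⟨hbA, hb⟩
  rw [hAB.2.2.2.1] at this
  exact this

theorem isInternalDirectProduct_symm {G : Type*} [Group G] {A B P : Subgroup G}
    (h : Cfsg.IsInternalDirectProduct A B P) : Cfsg.IsInternalDirectProduct B A P := by
  obtain ⟨hA, hB, hcomm, hinf, hsup⟩ := h
  exact ⟨hB, hA, fun b hb a ha => (hcomm a ha b hb).symm, by rw [inf_comm]; exact hinf,
    by rw [sup_comm]; exact hsup⟩

/-- AB: the product theorem. -/
theorem not_decompIn_ker_piSgn (hι : 2 ≤ Fintype.card ι)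
    (hsurj : ∀ i, Function.Surjective (sgn i)) [∀ i, Finite (W i)] (h2 : ∀ i, IsPGroup 2 (W i))
    (hZ : ∀ i, Nat.card (Subgroup.center (W i)) = 2)
    (hZe : ∀ i, Subgroup.center (W i) ≤ (sgn i).ker)
    (hnab : ∀ i, Subgroup.center (W i) ≠ ⊤) (hci : ∀ i, CI (W i)) :
    ¬ DecompIn (piSgn W sgn).ker := by
  rintro ⟨S₁, S₂, h1, h2', hAB⟩
  rcases all_central_or W sgn hι hsurj hci hZe S₁ S₂ hAB with h | h
  · exact h1 (eq_bot_of_all_central W sgn hι hsurj h2 hZ hnab S₂ S₁
      (isInternalDirectProduct_symm hAB) h)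
  · exact h2' (eq_bot_of_all_central W sgn hι hsurj h2 hZ hnab S₁ S₂ hAB h)

end AB

end Cfsg.Agent.Lib.Helper28.SylALeaf
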