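import Mathlib
import Cfsg.Agent.Lib.Helper5.TWU.Defs
import Cfsg.Agent.Lib.Helper14.TWIIDefs
import Cfsg.Agent.Lib.Helper19.TWU3Defs
import Cfsg.Agent.Lib.Helper28.TWU2ADefs
import Cfsg.Agent.Lib.Helper16.TWRootB
import Cfsg.Agent.Lib.Helper19.TWU3Tool
import Cfsg.Agent.Lib.Helper24.TWU2AL1
import Cfsg.Agent.Lib.Helper24.TWU2AL5
import Cfsg.Agent.Lib.Helper13.TWU2AL2a
import Cfsg.Agent.Lib.Helper13.TWU2AL2b
import Cfsg.Agent.Lib.Helper13.TWU2AL2c
import Cfsg.Agent.Lib.Helper13.TWU2AL2d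
import Cfsg.Agent.Lib.Helper6.TWU2AS2
import Cfsg.Agent.Lib.Helper6.TWU2AL6
import Cfsg.Agent.Lib.Helper6.TWU2AL7
import Cfsg.Agent.Lib.Helper26.TWU2AL3a
import Cfsg.Agent.Lib.Helper26.TWU2AL3bc
import Cfsg.Agent.Lib.Helper8.TWU2AL4

/-!
# S5672 (C7 unitary) — STAGE II, CASE A: the assembly `caseAU` (helper28)

Leaves: `notes/S5672_IIA_leaves.lean` (helper6, helper8, helper13, helper24, helper26, helper19).  `u ∈ X \ G`, `(u-1)V ≤ W(i,y)`, `u = 1` on `W(i,y)`,
`HU ≤ X ≤ DUV`  ⟹  `∃ J, 2 ≤ |J| ∧ XTU q X J`.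
-/

set_option autoImplicit false
set_option linter.unusedSectionVars false
set_option linter.unusedVariables false

namespace Cfsg.Agent.Lib.Helper28.TWU2AMain
open Matrix Cfsg.Geo Cfsg.Agent.Lib.Helper18.AschA89 Cfsg.Agent.Lib.Helper8.TW
open Cfsg.Agent.Lib.Helper5.TWU Cfsg.Agent.Lib.Helper19.TWU3 Cfsg.Agent.Lib.Helper28.TWU2A
open Cfsg.Agent.Lib.Helper20.UT (hv)
open Cfsg.Agent.Lib.Helper19.TWU3Leaf (nilU_eq_ptens)
open Cfsg.Agent.Lib.Helper6.TWU2ALeaf (nilU_singleton skew_of_mem_DUV XTU_of_one)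
open Cfsg.Agent.Lib.Helper24.TWU2ALeaf (vv_ne_zero structure_u final_form)
open Cfsg.Agent.Lib.Helper13.TWU2ALeaf (wform_mul_zero wform_slot_mul torus_scale slotGL_mem_HU)
open Cfsg.Agent.Lib.Helper26.TWU2ALeaf (scalar_of_cone compress_entry compress_mem)
open Cfsg.Agent.Lib.Helper8.TWU2ALeaf (lemmaAU_q2)

variable {F : Type*} [Field F] [Fintype F] {t k q : ℕ}

theorem wform_zero (l : Fin t) (w : Matrix (Fin k) (Fin k) F) : WForm l w (0 : Matrix (Idx t k) (Idx t k) F) := by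
  intro p p' a b
  simp


theorem stable_TD (hF : Fintype.card F = q ^ 2) (hk : 3 ≤ k) (X : Subgroup (GL (Idx t k) F)) (hHX : HU t k q F ≤ X)
    (i : Fin t) (y : Fin k → F) (hy0 : y ≠ 0) (hy : hv q y y = 0) (D : Finset (Fin t)) (w : Fin t → Matrix (Fin k) (Fin k) F)
    (l : Fin t) (hli : l ≠ i) (hlD : l ∉ D) : StableAt q l (TD q X i y D w) := by
  have wf_add : ∀ (l' : Fin t) (w' : Matrix (Fin k) (Fin k) F) (Ψ Ψ' : Matrix (Idx t k) (Idx t k) F),
      WForm l' w' Ψ → WForm l' w' Ψ' → WForm l' w' (Ψ + Ψ') := by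
    intro l' w' Ψ Ψ' h h' p p' a b
    rw [Matrix.add_apply, Matrix.add_apply, add_mul, add_mul, h p p' a b, h' p p' a b]
  have wf_smul : ∀ (l' : Fin t) (w' : Matrix (Fin k) (Fin k) F) (s : F) (Ψ : Matrix (Idx t k) (Idx t k) F),
      WForm l' w' Ψ → WForm l' w' (s • Ψ) := by
    intro l' w' s Ψ h p p' a b
    rw [Matrix.smul_apply, Matrix.smul_apply, smul_eq_mul, smul_eq_mul, mul_assoc, mul_assoc, h p p' a b]
  have wf_neg : ∀ (l' : Fin t) (w' : Matrix (Fin k) (Fin k) F) (Ψ : Matrix (Idx t k) (Idx t k) F),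
      WForm l' w' Ψ → WForm l' w' (-Ψ) := by
    intro l' w' Ψ h
    have := wf_smul l' w' (-1) Ψ h
    rwa [neg_one_smul] at this
  refine ⟨?_, ?_, ?_, ?_⟩
  · rintro Ψ Ψ' ⟨⟨g, hgX, hg⟩, hWi, hWD⟩ ⟨⟨g', hg'X, hg'⟩, hWi', hWD'⟩
    refine ⟨⟨g * g', X.mul_mem hgX hg'X, ?_⟩, wf_add _ _ _ _ hWi hWi',
      fun l' hl' => wf_add _ _ _ _ (hWD l' hl') (hWD' l' hl')⟩
    rw [Units.val_mul, hg, hg', add_mul, mul_add, mul_add, one_mul, mul_one, one_mul,
      wform_mul_zero i y hy0 hy Ψ Ψ' hWi hWi']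
    abel
  · rintro Ψ ⟨⟨g, hgX, hg⟩, hWi, hWD⟩
    refine ⟨⟨g⁻¹, X.inv_mem hgX, ?_⟩, wf_neg _ _ _ hWi, fun l' hl' => wf_neg _ _ _ (hWD l' hl')⟩
    have hsq : Ψ * Ψ = 0 := wform_mul_zero i y hy0 hy Ψ Ψ hWi hWi
    have h1 : (g : Matrix (Idx t k) (Idx t k) F) * (1 + -Ψ) = 1 := by
      rw [hg, add_mul, mul_add, mul_add, one_mul, mul_one, one_mul, mul_neg, hsq]
      abel
    calc ((g⁻¹ : GL (Idx t k) F) : Matrix (Idx t k) (Idx t k) F)
        = ((g⁻¹ : GL (Idx t k) F) : Matrix (Idx t k) (Idx t k) F) * ((g : Matrix (Idx t k) (Idx t k) F) * (1 + -Ψ)) := by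
          rw [h1, mul_one]
      _ = 1 + -Ψ := by rw [← mul_assoc, ← Units.val_mul, inv_mul_cancel, Units.val_one, one_mul]
  · rintro s Ψ hs ⟨⟨g, hgX, hg⟩, hWi, hWD⟩
    by_cases hs0 : s = 0
    · subst hs0
      rw [zero_smul]
      exact ⟨⟨1, X.one_mem, by rw [Units.val_one, add_zero]⟩, wform_zero _ _, fun l' _ => wform_zero _ _⟩
    obtain ⟨d, hd, hdΨ⟩ := torus_scale hF hk i y hy0 hy s hs hs0
    have hdX : slotGL i d ∈ X := hHX (slotGL_mem_HU hF i d hd)
    refine ⟨⟨slotGL i d * g * (slotGL i d)⁻¹, X.mul_mem (X.mul_mem hdX hgX) (X.inv_mem hdX), ?_⟩,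
      wf_smul _ _ _ _ hWi, fun l' hl' => wf_smul _ _ _ _ (hWD l' hl')⟩
    have hinv : (((slotGL i d)⁻¹ : GL (Idx t k) F) : Matrix (Idx t k) (Idx t k) F) =
        slot k t i ((d⁻¹ : GL (Fin k) F) : Matrix (Fin k) (Fin k) F) := rfl
    rw [Units.val_mul, Units.val_mul, hg, hinv, slotGL_val, mul_add, add_mul, mul_one, ← hdΨ Ψ hWi, slot_mul,
      ← Units.val_mul, mul_inv_cancel, Units.val_one, slot_one]
  · rintro g hg Ψ ⟨⟨x, hxX, hx⟩, hWi, hWD⟩
    have hgX : slotGL l g ∈ X := hHX (slotGL_mem_HU hF l g hg)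
    refine ⟨⟨slotGL l g * x * (slotGL l g)⁻¹, X.mul_mem (X.mul_mem hgX hxX) (X.inv_mem hgX), ?_⟩,
      wform_slot_mul i l hli _ _ _ Ψ hWi,
      fun l' hl' => wform_slot_mul l' l (fun h => hlD (h ▸ hl')) _ _ _ Ψ (hWD l' hl')⟩
    have hinv : (((slotGL l g)⁻¹ : GL (Idx t k) F) : Matrix (Idx t k) (Idx t k) F) =
        slot k t l ((g⁻¹ : GL (Fin k) F) : Matrix (Fin k) (Fin k) F) := rfl
    rw [Units.val_mul, Units.val_mul, hx, hinv, slotGL_val, mul_add, add_mul, mul_one, slot_mul,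
      ← Units.val_mul, mul_inv_cancel, Units.val_one, slot_one]


theorem lemmaAU_of_compress (hF : Fintype.card F = q ^ 2) (hk : 3 ≤ k) (hex : ¬ (q = 2 ∧ k = 3)) (l : Fin t)
    (𝒯 : Matrix (Idx t k) (Idx t k) F → Prop)
    (hcomp : ∀ (z : Fin k → F), z ≠ 0 → hv q z z = 0 → ∀ Ψ : Matrix (Idx t k) (Idx t k) F, 𝒯 Ψ →
      𝒯 (slot k t l (vv q z z) * Ψ * slot k t l (vv q z z)))
    (Ψ : Matrix (Idx t k) (Idx t k) F) (hΨ : 𝒯 Ψ) (hnt : ¬ Triv l Ψ) :
    ∃ (z : Fin k → F) (Ψ₁ : Matrix (Idx t k) (Idx t k) F), z ≠ 0 ∧ hv q z z = 0 ∧ 𝒯 Ψ₁ ∧ Ψ₁ ≠ 0 ∧ WForm l (vv q z z) Ψ₁ := by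
  classical
  unfold Triv WForm at hnt
  push_neg at hnt
  obtain ⟨p, p', a, b, hne⟩ := hnt
  obtain ⟨M, hM⟩ : ∃ M : Matrix (Fin k) (Fin k) F, M = Matrix.of fun a b => Ψ (Function.update p l a) (Function.update p' l b) :=
    ⟨_, rfl⟩
  have hMab : ∀ a b, M a b = Ψ (Function.update p l a) (Function.update p' l b) := by
    intro a b; rw [hM]; rfl
  have hMns : ¬ ∃ c : F, M = c • (1 : Matrix (Fin k) (Fin k) F) := by
    rintro ⟨c, hc⟩
    apply hne
    have hab : Ψ (Function.update p l a) (Function.update p' l b) = c * (1 : Matrix (Fin k) (Fin k) F) a b := by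
      rw [← hMab, hc, Matrix.smul_apply, smul_eq_mul]
    have hpp : Ψ p p' = c * (1 : Matrix (Fin k) (Fin k) F) (p l) (p' l) := by
      have h1 := hMab (p l) (p' l)
      rw [Function.update_eq_self, Function.update_eq_self, hc, Matrix.smul_apply, smul_eq_mul] at h1
      exact h1.symm
    rw [hab, hpp]
    ring
  have hz : ∃ z : Fin k → F, hv q z z = 0 ∧ hv q (M *ᵥ z) z ≠ 0 := by
    by_contra hcon
    push_neg at hcon
    exact hMns (scalar_of_cone hF hk hex M hcon)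
  obtain ⟨z, hzz, hS⟩ := hz
  have hz0 : z ≠ 0 := by
    rintro rfl
    apply hS
    unfold Cfsg.Agent.Lib.Helper20.UT.hv
    simp
  obtain ⟨a₀, ha₀⟩ : ∃ a₀, z a₀ ≠ 0 := by
    by_contra hcon
    push_neg at hcon
    exact hz0 (funext hcon)
  have hq0 : q ≠ 0 := by
    rintro rfl
    have : 2 ≤ Fintype.card F := Fintype.one_lt_card
    omega
  -- the double sum
  have hsum : ∀ x x' : Idx t k, (∀ j, j ≠ l → x j = p j) → (∀ j, j ≠ l → x' j = p' j) →
      (∑ a, ∑ b, (z a) ^ q * Ψ (Function.update x l a) (Function.update x' l b) * z b) = hv q (M *ᵥ z) z := by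
    intro x x' hx hx'
    unfold Cfsg.Agent.Lib.Helper20.UT.hv
    apply Finset.sum_congr rfl
    intro a _
    rw [Matrix.mulVec, dotProduct, Finset.sum_mul]
    apply Finset.sum_congr rfl
    intro b _
    have e1 : Function.update x l a = Function.update p l a := by
      funext j
      by_cases hj : j = l
      · subst hj; rw [Function.update_self, Function.update_self]
      · rw [Function.update_of_ne hj, Function.update_of_ne hj]; exact hx j hj
    have e2 : Function.update x' l b = Function.update p' l b := by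
      funext j
      by_cases hj : j = l
      · subst hj; rw [Function.update_self, Function.update_self]
      · rw [Function.update_of_ne hj, Function.update_of_ne hj]; exact hx' j hj
    rw [e1, e2, hMab]
    ring
  refine ⟨z, slot k t l (vv q z z) * Ψ * slot k t l (vv q z z), hz0, hzz, hcomp z hz0 hzz Ψ hΨ, ?_, ?_⟩
  · intro h0
    have h1 := congrFun (congrFun h0 (Function.update p l a₀)) (Function.update p' l a₀)
    rw [compress_entry, hsum _ _ (fun j hj => Function.update_of_ne hj _ _) (fun j hj => Function.update_of_ne hj _ _),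
      Function.update_self, Function.update_self] at h1
    simp only [Matrix.zero_apply] at h1
    rcases mul_eq_zero.mp h1 with h2 | h2
    · rcases mul_eq_zero.mp h2 with h3 | h3
      · exact ha₀ h3
      · exact ha₀ (eq_zero_of_pow_eq_zero h3)
    · exact hS h2
  · intro x x' a b
    rw [compress_entry, compress_entry, Function.update_self, Function.update_self, vv_apply, vv_apply]
    have e : (∑ a', ∑ b', (z a') ^ q * Ψ (Function.update (Function.update x l a) l a')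
        (Function.update (Function.update x' l b) l b') * z b') =
        ∑ a', ∑ b', (z a') ^ q * Ψ (Function.update x l a') (Function.update x' l b') * z b' := by
      apply Finset.sum_congr rfl
      intro a' _
      apply Finset.sum_congr rfl
      intro b' _
      rw [Function.update_idem, Function.update_idem]
    rw [e]
    ring


theorem lemmaAU_q3 (hF : Fintype.card F = q ^ 2) (hk : 3 ≤ k) (hq : 3 ≤ q) (l : Fin t)
    (𝒯 : Matrix (Idx t k) (Idx t k) F → Prop) (h𝒯 : StableAt q l 𝒯) (Ψ : Matrix (Idx t k) (Idx t k) F) (hΨ : 𝒯 Ψ)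
    (hnt : ¬ Triv l Ψ) :
    ∃ (z : Fin k → F) (Ψ₁ : Matrix (Idx t k) (Idx t k) F), z ≠ 0 ∧ hv q z z = 0 ∧ 𝒯 Ψ₁ ∧ Ψ₁ ≠ 0 ∧ WForm l (vv q z z) Ψ₁ :=
  lemmaAU_of_compress hF hk (fun h => by omega) l 𝒯
    (fun z hz0 hz Ψ' hΨ' => compress_mem hF hq l 𝒯 h𝒯 z hz0 hz Ψ' hΨ') Ψ hΨ hnt


theorem lemmaAU (hF : Fintype.card F = q ^ 2) (hk : 3 ≤ k) (hex : ¬ (q = 2 ∧ k = 3)) (l : Fin t)
    (𝒯 : Matrix (Idx t k) (Idx t k) F → Prop) (h𝒯 : StableAt q l 𝒯) (Ψ : Matrix (Idx t k) (Idx t k) F) (hΨ : 𝒯 Ψ)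
    (hnt : ¬ Triv l Ψ) :
    ∃ (z : Fin k → F) (Ψ₁ : Matrix (Idx t k) (Idx t k) F), z ≠ 0 ∧ hv q z z = 0 ∧ 𝒯 Ψ₁ ∧ Ψ₁ ≠ 0 ∧ WForm l (vv q z z) Ψ₁ := by
  have hq2 : 2 ≤ q := by
    by_contra hlt
    have hq1 : q ≤ 1 := by omega
    have hc : 2 ≤ Fintype.card F := Fintype.one_lt_card
    rw [hF] at hc
    interval_cases q <;> simp at hc
  by_cases hq : q = 2
  · exact lemmaAU_q2 hF hq (by omega) l 𝒯 h𝒯 Ψ hΨ hnt
  · exact lemmaAU_q3 hF hk (by omega) l 𝒯 h𝒯 Ψ hΨ hnt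


theorem exists_full (hF : Fintype.card F = q ^ 2) (hk : 3 ≤ k) (hex : ¬ (q = 2 ∧ k = 3)) (X : Subgroup (GL (Idx t k) F))
    (hHX : HU t k q F ≤ X) (i : Fin t) (y : Fin k → F) (hy0 : y ≠ 0) (hy : hv q y y = 0)
    (Ψ₀ : Matrix (Idx t k) (Idx t k) F) (h0 : InM X (1 + Ψ₀)) (hW0 : WForm i (vv q y y) Ψ₀) (hne : Ψ₀ ≠ 0) :
    ∀ D : Finset (Fin t), i ∉ D → ∃ (J' : Finset (Fin t)) (zz : Fin t → Fin k → F) (Ψ : Matrix (Idx t k) (Idx t k) F),
      J' ⊆ D ∧ (∀ l ∈ J', zz l ≠ 0 ∧ hv q (zz l) (zz l) = 0) ∧ Ψ ≠ 0 ∧ TD q X i y D (famU q J' zz) Ψ ∧ (J' = ∅ → Ψ = Ψ₀) := by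
  classical
  intro D
  induction D using Finset.induction_on with
  | empty =>
    intro _
    exact ⟨∅, fun _ => 0, Ψ₀, Finset.Subset.refl _, fun l hl => absurd hl (Finset.notMem_empty l), hne,
      ⟨h0, hW0, fun l hl => absurd hl (Finset.notMem_empty l)⟩, fun _ => rfl⟩
  | insert l D hlD ih =>
    intro hiD
    have hil : l ≠ i := fun h => hiD (by rw [h]; exact Finset.mem_insert_self _ _)
    have hiD' : i ∉ D := fun h => hiD (Finset.mem_insert_of_mem h)
    obtain ⟨J', zz, Ψ, hJD, hzz, hΨ0, hTD, hlast⟩ := ih hiD'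
    have hlJ : l ∉ J' := fun h => hlD (hJD h)
    by_cases htr : Triv l Ψ
    · refine ⟨J', zz, Ψ, hJD.trans (Finset.subset_insert _ _), hzz, hΨ0, ⟨hTD.1, hTD.2.1, ?_⟩, hlast⟩
      intro l' hl'
      rcases Finset.mem_insert.mp hl' with rfl | hl'D
      · have : famU q J' zz l' = 1 := by unfold famU; rw [if_neg hlJ]
        rw [this]; exact htr
      · exact hTD.2.2 l' hl'D
    · obtain ⟨z, Ψ₁, hz0, hz, hT1, hΨ10, hW1⟩ := lemmaAU hF hk hex l (TD q X i y D (famU q J' zz))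
        (stable_TD hF hk X hHX i y hy0 hy D (famU q J' zz) l hil hlD) Ψ hTD htr
      refine ⟨insert l J', Function.update zz l z, Ψ₁, Finset.insert_subset_insert _ hJD, ?_, hΨ10, ⟨hT1.1, hT1.2.1, ?_⟩, ?_⟩
      · intro l' hl'
        rcases Finset.mem_insert.mp hl' with rfl | hl'J
        · rw [Function.update_self]; exact ⟨hz0, hz⟩
        · have hne' : l' ≠ l := fun h => hlJ (h ▸ hl'J)
          rw [Function.update_of_ne hne']; exact hzz l' hl'J
      · intro l' hl'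
        rcases Finset.mem_insert.mp hl' with rfl | hl'D
        · have : famU q (insert l' J') (Function.update zz l' z) l' = vv q z z := by
            unfold famU; rw [if_pos (Finset.mem_insert_self _ _), Function.update_self]
          rw [this]; exact hW1
        · have hne' : l' ≠ l := fun h => hlD (h ▸ hl'D)
          have : famU q (insert l J') (Function.update zz l z) l' = famU q J' zz l' := by
            unfold famU
            rw [Function.update_of_ne hne']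
            by_cases h1 : l' ∈ J'
            · rw [if_pos (Finset.mem_insert_of_mem h1), if_pos h1]
            · rw [if_neg (by rw [Finset.mem_insert]; exact fun h => h.elim hne' h1), if_neg h1]
          rw [this]; exact hT1.2.2 l' hl'D
      · intro h
        exact absurd h (Finset.insert_ne_empty _ _)


theorem caseAU (hF : Fintype.card F = q ^ 2) (hk : 3 ≤ k) (hex : ¬ (q = 2 ∧ k = 3)) (X : Subgroup (GL (Idx t k) F))
    (hHX : HU t k q F ≤ X) (hXD : X ≤ DUV t k q F) (i : Fin t) (y : Fin k → F) (hy0 : y ≠ 0) (hy : hv q y y = 0)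
    (u : GL (Idx t k) F) (huX : u ∈ X) (huG : u ∉ Gstd t k F) (hu1 : ∀ v, mv u v - v ∈ Wf i y)
    (hu2 : ∀ v ∈ Wf i y, mv u v = v) :
    ∃ J : Finset (Fin t), 2 ≤ J.card ∧ XTU q X J := by
  classical
  set Ψ₀ : Matrix (Idx t k) (Idx t k) F := (u : Matrix (Idx t k) (Idx t k) F) - 1 with hΨ₀
  have h0 : InM X (1 + Ψ₀) := ⟨u, huX, by rw [hΨ₀]; abel⟩
  have hW0 : WForm i (vv q y y) Ψ₀ := structure_u hF (by omega) i y hy0 hy u (hXD huX) hu1 hu2
  -- the end of the proof, for a matrix with weights everywhere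
  have hend : ∀ (J : Finset (Fin t)) (zz : Fin t → Fin k → F) (Ψ : Matrix (Idx t k) (Idx t k) F),
      (∀ l ∈ J, zz l ≠ 0 ∧ hv q (zz l) (zz l) = 0) → (∀ l, WForm l (famU q J zz l) Ψ) →
      ∃ c : F, Ψ = c • nilU q J zz := by
    intro J zz Ψ hzz hW
    obtain ⟨c, hc⟩ := final_form (famU q J zz) (fun l => by
      unfold famU
      by_cases h : l ∈ J
      · rw [if_pos h]; exact vv_ne_zero _ (hzz l h).1
      · rw [if_neg h]
        intro h1
        have := congrFun (congrFun h1 ⟨0, by omega⟩) ⟨0, by omega⟩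
        simp at this) Ψ hW
    exact ⟨c, by rw [hc, nilU_eq_ptens]⟩
  -- `Ψ₀` is not trivial at all positions `≠ i`
  have hnt : ¬ ∀ l, l ≠ i → Triv l Ψ₀ := by
    intro hall
    obtain ⟨c, hc⟩ := hend {i} (fun _ => y) Ψ₀ (fun l _ => ⟨hy0, hy⟩) (fun l => by
      unfold famU
      by_cases h : l = i
      · subst h; rw [if_pos (Finset.mem_singleton_self _)]; exact hW0
      · rw [if_neg (by rw [Finset.mem_singleton]; exact h)]; exact hall l h)
    apply huG
    have hu : u = (urd q i y hy0 hy).elt c := by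
      apply Units.ext
      rw [RD.elt_val]
      have h1 : (u : Matrix (Idx t k) (Idx t k) F) = 1 + Ψ₀ := by rw [hΨ₀]; abel
      rw [h1, hc, nilU_singleton]
      rfl
    rw [hu]
    exact (Cfsg.Agent.Lib.Helper16.TWLeaf.RD_elt_mem_H _ c).1
  have hne : Ψ₀ ≠ 0 := by
    intro h
    apply hnt
    intro l _
    rw [h]; exact wform_zero l _
  obtain ⟨J', zz, Ψ, hJD, hzz, hΨ0, hTD, hlast⟩ :=
    exists_full hF hk hex X hHX i y hy0 hy Ψ₀ h0 hW0 hne (Finset.univ.erase i) (Finset.notMem_erase i _)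
  have hiJ : i ∉ J' := fun h => Finset.notMem_erase i _ (hJD h)
  -- all weights
  have hWall : ∀ l, WForm l (famU q (insert i J') (Function.update zz i y) l) Ψ := by
    intro l
    by_cases hli : l = i
    · subst hli
      have : famU q (insert l J') (Function.update zz l y) l = vv q y y := by
        unfold famU; rw [if_pos (Finset.mem_insert_self _ _), Function.update_self]
      rw [this]; exact hTD.2.1
    · have : famU q (insert i J') (Function.update zz i y) l = famU q J' zz l := by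
        unfold famU
        rw [Function.update_of_ne hli]
        by_cases h1 : l ∈ J'
        · rw [if_pos (Finset.mem_insert_of_mem h1), if_pos h1]
        · rw [if_neg (by rw [Finset.mem_insert]; exact fun h => h.elim hli h1), if_neg h1]
      rw [this]
      exact hTD.2.2 l (Finset.mem_erase.mpr ⟨hli, Finset.mem_univ _⟩)
  have hzz' : ∀ l ∈ insert i J', Function.update zz i y l ≠ 0 ∧ hv q (Function.update zz i y l) (Function.update zz i y l) = 0 := by
    intro l hl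
    rcases Finset.mem_insert.mp hl with rfl | hlJ
    · rw [Function.update_self]; exact ⟨hy0, hy⟩
    · have hne' : l ≠ i := fun h => hiJ (h ▸ hlJ)
      rw [Function.update_of_ne hne']; exact hzz l hlJ
  obtain ⟨c, hc⟩ := hend (insert i J') (Function.update zz i y) Ψ hzz' hWall
  have hc0 : c ≠ 0 := by
    intro h; apply hΨ0; rw [hc, h, zero_smul]
  -- `J' ≠ ∅`
  have hJ'ne : J' ≠ ∅ := by
    intro h
    apply hnt
    intro l hli
    have h1 := hTD.2.2 l (Finset.mem_erase.mpr ⟨hli, Finset.mem_univ _⟩)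
    have h2 : famU q J' zz l = 1 := by unfold famU; rw [h, if_neg (Finset.notMem_empty l)]
    rw [h2, hlast h] at h1
    exact h1
  obtain ⟨g, hgX, hgv⟩ := hTD.1
  rw [hc] at hgv
  have hskew : c ^ q = -c :=
    skew_of_mem_DUV hF (by omega) (insert i J') (Finset.insert_nonempty _ _) (Function.update zz i y) hzz' c g (hXD hgX) hgv
  refine ⟨insert i J', ?_, XTU_of_one hF hk X hHX (insert i J') (Finset.insert_nonempty _ _) (Function.update zz i y) hzz' c hc0
    hskew ⟨g, hgX, hgv⟩⟩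
  rw [Finset.card_insert_of_notMem hiJ]
  have : 0 < J'.card := Finset.card_pos.mpr (Finset.nonempty_iff_ne_empty.mpr hJ'ne)
  omega


end Cfsg.Agent.Lib.Helper28.TWU2AMain

namespace Cfsg.Agent.Lib.Helper28.TWUIILeaf
open Matrix Cfsg.Geo Cfsg.Agent.Lib.Helper18.AschA89 Cfsg.Agent.Lib.Helper8.TW
open Cfsg.Agent.Lib.Helper5.TWU Cfsg.Agent.Lib.Helper14.TWII
open Cfsg.Agent.Lib.Helper20.UT (hv)

variable {F : Type*} [Field F] [Fintype F] {t k q : ℕ}

/-- II-A in helper14's exact shape (`notes/S5672_II_leaves.lean`, `caseAU`) -/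
theorem caseAU (hF : Fintype.card F = q ^ 2) (hk : 3 ≤ k) (hex : ¬ (q = 2 ∧ k = 3)) (ht : 1 ≤ t)
    (X : Subgroup (GL (Idx (t + 1) k) F)) (hHX : HU (t + 1) k q F ≤ X) (hXD : X ≤ DUV (t + 1) k q F)
    (i : Fin (t + 1)) (y : Fin k → F) (hy0 : y ≠ 0) (hy : hv q y y = 0) (u : GL (Idx (t + 1) k) F)
    (huX : u ∈ X) (huG : u ∉ Gstd (t + 1) k F) (hu : InZ i y u) :
    ∃ J : Finset (Fin (t + 1)), 2 ≤ J.card ∧ XTU q X J :=
  Cfsg.Agent.Lib.Helper28.TWU2AMain.caseAU hF hk hex X hHX hXD i y hy0 hy u huX huG hu.1 hu.2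

end Cfsg.Agent.Lib.Helper28.TWUIILeaf
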