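import Cfsg.Agent.Lib.Helper28.TC2Orbit
import Cfsg.Agent.Lib.Helper28.TCFi24TableA
import Cfsg.Agent.Lib.Helper28.TCFi24TableB
import Cfsg.Agent.Lib.Helper28.TCFi24TableC
set_option autoImplicit false
set_option maxRecDepth 100000

namespace Cfsg.Agent.Lib.Helper28.TCFi24Table
open Cfsg.Agent.Lib.Helper28.TC2Upper Cfsg.Agent.Lib.Helper28.TC2Lower Cfsg.Agent.Lib.Helper28.TC2Orbit

/-- table chunks -/
def colTT : BT ℕ := (BT.node 1799 (BT.node 899 (BT.node 449 (BT.node 224 (BT.node 112 (BT.node 56 (BT.node 28 (BT.node 14 (BT.node 7 (BT.node 3 (BT.node 1 (BT.node 0 (BT.leaf cT0) (BT.leaf cT1)) (BT.node 2 (BT.leaf cT2) (BT.leaf cT3))) (BT.node 5 (BT.node 4 (BT.leaf cT4) (BT.leaf cT5)) (BT.node 6 (BT.leaf cT6) (BT.leaf cT7)))) (BT.node 11 (BT.node 9 (BT.node 8 (BT.leaf cT8) (BT.leaf cT9)) (BT.node 10 (BT.leaf cT10) (BT.leaf cT11))) (BT.node 13 (BT.node 12 (BT.leaf cT12) (BT.leaf cT13)) (BT.leaf cT14)))) (BT.node 21 (BT.node 18 (BT.node 16 (BT.node 15 (BT.leaf cT15) (BT.leaf cT16)) (BT.node 17 (BT.leaf cT17) (BT.leaf cT18))) (BT.node 20 (BT.node 19 (BT.leaf cT19) (BT.leaf cT20)) (BT.leaf cT21))) (BT.node 25 (BT.node 23 (BT.node 22 (BT.leaf cT22) (BT.leaf cT23)) (BT.node 24 (BT.leaf cT24) (BT.leaf cT25))) (BT.node 27 (BT.node 26 (BT.leaf cT26) (BT.leaf cT27)) (BT.leaf cT28))))) (BT.node 42 (BT.node 35 (BT.node 32 (BT.node 30 (BT.node 29 (BT.leaf cT29) (BT.leaf cT30)) (BT.node 31 (BT.leaf cT31) (BT.leaf cT32))) (BT.node 34 (BT.node 33 (BT.leaf cT33) (BT.leaf cT34)) (BT.leaf cT35))) (BT.node 39 (BT.node 37 (BT.node 36 (BT.leaf cT36) (BT.leaf cT37)) (BT.node 38 (BT.leaf cT38) (BT.leaf cT39))) (BT.node 41 (BT.node 40 (BT.leaf cT40) (BT.leaf cT41)) (BT.leaf cT42)))) (BT.node 49 (BT.node 46 (BT.node 44 (BT.node 43 (BT.leaf cT43) (BT.leaf cT44)) (BT.node 45 (BT.leaf cT45) (BT.leaf cT46))) (BT.node 48 (BT.node 47 (BT.leaf cT47) (BT.leaf cT48)) (BT.leaf cT49))) (BT.node 53 (BT.node 51 (BT.node 50 (BT.leaf cT50) (BT.leaf cT51)) (BT.node 52 (BT.leaf cT52) (BT.leaf cT53))) (BT.node 55 (BT.node 54 (BT.leaf cT54) (BT.leaf cT55)) (BT.leaf cT56)))))) (BT.node 84 (BT.node 70 (BT.node 63 (BT.node 60 (BT.node 58 (BT.node 57 (BT.leaf cT57) (BT.leaf cT58)) (BT.node 59 (BT.leaf cT59) (BT.leaf cT60))) (BT.node 62 (BT.node 61 (BT.leaf cT61) (BT.leaf cT62)) (BT.leaf cT63))) (BT.node 67 (BT.node 65 (BT.node 64 (BT.leaf cT64) (BT.leaf cT65)) (BT.node 66 (BT.leaf cT66) (BT.leaf cT67))) (BT.node 69 (BT.node 68 (BT.leaf cT68) (BT.leaf cT69)) (BT.leaf cT70)))) (BT.node 77 (BT.node 74 (BT.node 72 (BT.node 71 (BT.leaf cT71) (BT.leaf cT72)) (BT.node 73 (BT.leaf cT73) (BT.leaf cT74))) (BT.node 76 (BT.node 75 (BT.leaf cT75) (BT.leaf cT76)) (BT.leaf cT77))) (BT.node 81 (BT.node 79 (BT.node 78 (BT.leaf cT78) (BT.leaf cT79)) (BT.node 80 (BT.leaf cT80) (BT.leaf cT81))) (BT.node 83 (BT.node 82 (BT.leaf cT82) (BT.leaf cT83)) (BT.leaf cT84))))) (BT.node 98 (BT.node 91 (BT.node 88 (BT.node 86 (BT.node 85 (BT.leaf cT85) (BT.leaf cT86)) (BT.node 87 (BT.leaf cT87) (BT.leaf cT88))) (BT.node 90 (BT.node 89 (BT.leaf cT89) (BT.leaf cT90)) (BT.leaf cT91))) (BT.node 95 (BT.node 93 (BT.node 92 (BT.leaf cT92) (BT.leaf cT93)) (BT.node 94 (BT.leaf cT94) (BT.leaf cT95))) (BT.node 97 (BT.node 96 (BT.leaf cT96) (BT.leaf cT97)) (BT.leaf cT98)))) (BT.node 105 (BT.node 102 (BT.node 100 (BT.node 99 (BT.leaf cT99) (BT.leaf cT100)) (BT.node 101 (BT.leaf cT101) (BT.leaf cT102))) (BT.node 104 (BT.node 103 (BT.leaf cT103) (BT.leaf cT104)) (BT.leaf cT105))) (BT.node 109 (BT.node 107 (BT.node 106 (BT.leaf cT106) (BT.leaf cT107)) (BT.node 108 (BT.leaf cT108) (BT.leaf cT109))) (BT.node 111 (BT.node 110 (BT.leaf cT110) (BT.leaf cT111)) (BT.leaf cT112))))))) (BT.node 168 (BT.node 140 (BT.node 126 (BT.node 119 (BT.node 116 (BT.node 114 (BT.node 113 (BT.leaf cT113) (BT.leaf cT114)) (BT.node 115 (BT.leaf cT115) (BT.leaf cT116))) (BT.node 118 (BT.node 117 (BT.leaf cT117) (BT.leaf cT118)) (BT.leaf cT119))) (BT.node 123 (BT.node 121 (BT.node 120 (BT.leaf cT120) (BT.leaf cT121)) (BT.node 122 (BT.leaf cT122) (BT.leaf cT123))) (BT.node 125 (BT.node 124 (BT.leaf cT124) (BT.leaf cT125)) (BT.leaf cT126)))) (BT.node 133 (BT.node 130 (BT.node 128 (BT.node 127 (BT.leaf cT127) (BT.leaf cT128)) (BT.node 129 (BT.leaf cT129) (BT.leaf cT130))) (BT.node 132 (BT.node 131 (BT.leaf cT131) (BT.leaf cT132)) (BT.leaf cT133))) (BT.node 137 (BT.node 135 (BT.node 134 (BT.leaf cT134) (BT.leaf cT135)) (BT.node 136 (BT.leaf cT136) (BT.leaf cT137))) (BT.node 139 (BT.node 138 (BT.leaf cT138) (BT.leaf cT139)) (BT.leaf cT140))))) (BT.node 154 (BT.node 147 (BT.node 144 (BT.node 142 (BT.node 141 (BT.leaf cT141) (BT.leaf cT142)) (BT.node 143 (BT.leaf cT143) (BT.leaf cT144))) (BT.node 146 (BT.node 145 (BT.leaf cT145) (BT.leaf cT146)) (BT.leaf cT147))) (BT.node 151 (BT.node 149 (BT.node 148 (BT.leaf cT148) (BT.leaf cT149)) (BT.node 150 (BT.leaf cT150) (BT.leaf cT151))) (BT.node 153 (BT.node 152 (BT.leaf cT152) (BT.leaf cT153)) (BT.leaf cT154)))) (BT.node 161 (BT.node 158 (BT.node 156 (BT.node 155 (BT.leaf cT155) (BT.leaf cT156)) (BT.node 157 (BT.leaf cT157) (BT.leaf cT158))) (BT.node 160 (BT.node 159 (BT.leaf cT159) (BT.leaf cT160)) (BT.leaf cT161))) (BT.node 165 (BT.node 163 (BT.node 162 (BT.leaf cT162) (BT.leaf cT163)) (BT.node 164 (BT.leaf cT164) (BT.leaf cT165))) (BT.node 167 (BT.node 166 (BT.leaf cT166) (BT.leaf cT167)) (BT.leaf cT168)))))) (BT.node 196 (BT.node 182 (BT.node 175 (BT.node 172 (BT.node 170 (BT.node 169 (BT.leaf cT169) (BT.leaf cT170)) (BT.node 171 (BT.leaf cT171) (BT.leaf cT172))) (BT.node 174 (BT.node 173 (BT.leaf cT173) (BT.leaf cT174)) (BT.leaf cT175))) (BT.node 179 (BT.node 177 (BT.node 176 (BT.leaf cT176) (BT.leaf cT177)) (BT.node 178 (BT.leaf cT178) (BT.leaf cT179))) (BT.node 181 (BT.node 180 (BT.leaf cT180) (BT.leaf cT181)) (BT.leaf cT182)))) (BT.node 189 (BT.node 186 (BT.node 184 (BT.node 183 (BT.leaf cT183) (BT.leaf cT184)) (BT.node 185 (BT.leaf cT185) (BT.leaf cT186))) (BT.node 188 (BT.node 187 (BT.leaf cT187) (BT.leaf cT188)) (BT.leaf cT189))) (BT.node 193 (BT.node 191 (BT.node 190 (BT.leaf cT190) (BT.leaf cT191)) (BT.node 192 (BT.leaf cT192) (BT.leaf cT193))) (BT.node 195 (BT.node 194 (BT.leaf cT194) (BT.leaf cT195)) (BT.leaf cT196))))) (BT.node 210 (BT.node 203 (BT.node 200 (BT.node 198 (BT.node 197 (BT.leaf cT197) (BT.leaf cT198)) (BT.node 199 (BT.leaf cT199) (BT.leaf cT200))) (BT.node 202 (BT.node 201 (BT.leaf cT201) (BT.leaf cT202)) (BT.leaf cT203))) (BT.node 207 (BT.node 205 (BT.node 204 (BT.leaf cT204) (BT.leaf cT205)) (BT.node 206 (BT.leaf cT206) (BT.leaf cT207))) (BT.node 209 (BT.node 208 (BT.leaf cT208) (BT.leaf cT209)) (BT.leaf cT210)))) (BT.node 217 (BT.node 214 (BT.node 212 (BT.node 211 (BT.leaf cT211) (BT.leaf cT212)) (BT.node 213 (BT.leaf cT213) (BT.leaf cT214))) (BT.node 216 (BT.node 215 (BT.leaf cT215) (BT.leaf cT216)) (BT.leaf cT217))) (BT.node 221 (BT.node 219 (BT.node 218 (BT.leaf cT218) (BT.leaf cT219)) (BT.node 220 (BT.leaf cT220) (BT.leaf cT221))) (BT.node 223 (BT.node 222 (BT.leaf cT222) (BT.leaf cT223)) (BT.leaf cT224)))))))) (BT.node 337 (BT.node 281 (BT.node 253 (BT.node 239 (BT.node 232 (BT.node 228 (BT.node 226 (BT.node 225 (BT.leaf cT225) (BT.leaf cT226)) (BT.node 227 (BT.leaf cT227) (BT.leaf cT228))) (BT.node 230 (BT.node 229 (BT.leaf cT229) (BT.leaf cT230)) (BT.node 231 (BT.leaf cT231) (BT.leaf cT232)))) (BT.node 236 (BT.node 234 (BT.node 233 (BT.leaf cT233) (BT.leaf cT234)) (BT.node 235 (BT.leaf cT235) (BT.leaf cT236))) (BT.node 238 (BT.node 237 (BT.leaf cT237) (BT.leaf cT238)) (BT.leaf cT239)))) (BT.node 246 (BT.node 243 (BT.node 241 (BT.node 240 (BT.leaf cT240) (BT.leaf cT241)) (BT.node 242 (BT.leaf cT242) (BT.leaf cT243))) (BT.node 245 (BT.node 244 (BT.leaf cT244) (BT.leaf cT245)) (BT.leaf cT246))) (BT.node 250 (BT.node 248 (BT.node 247 (BT.leaf cT247) (BT.leaf cT248)) (BT.node 249 (BT.leaf cT249) (BT.leaf cT250))) (BT.node 252 (BT.node 251 (BT.leaf cT251) (BT.leaf cT252)) (BT.leaf cT253))))) (BT.node 267 (BT.node 260 (BT.node 257 (BT.node 255 (BT.node 254 (BT.leaf cT254) (BT.leaf cT255)) (BT.node 256 (BT.leaf cT256) (BT.leaf cT257))) (BT.node 259 (BT.node 258 (BT.leaf cT258) (BT.leaf cT259)) (BT.leaf cT260))) (BT.node 264 (BT.node 262 (BT.node 261 (BT.leaf cT261) (BT.leaf cT262)) (BT.node 263 (BT.leaf cT263) (BT.leaf cT264))) (BT.node 266 (BT.node 265 (BT.leaf cT265) (BT.leaf cT266)) (BT.leaf cT267)))) (BT.node 274 (BT.node 271 (BT.node 269 (BT.node 268 (BT.leaf cT268) (BT.leaf cT269)) (BT.node 270 (BT.leaf cT270) (BT.leaf cT271))) (BT.node 273 (BT.node 272 (BT.leaf cT272) (BT.leaf cT273)) (BT.leaf cT274))) (BT.node 278 (BT.node 276 (BT.node 275 (BT.leaf cT275) (BT.leaf cT276)) (BT.node 277 (BT.leaf cT277) (BT.leaf cT278))) (BT.node 280 (BT.node 279 (BT.leaf cT279) (BT.leaf cT280)) (BT.leaf cT281)))))) (BT.node 309 (BT.node 295 (BT.node 288 (BT.node 285 (BT.node 283 (BT.node 282 (BT.leaf cT282) (BT.leaf cT283)) (BT.node 284 (BT.leaf cT284) (BT.leaf cT285))) (BT.node 287 (BT.node 286 (BT.leaf cT286) (BT.leaf cT287)) (BT.leaf cT288))) (BT.node 292 (BT.node 290 (BT.node 289 (BT.leaf cT289) (BT.leaf cT290)) (BT.node 291 (BT.leaf cT291) (BT.leaf cT292))) (BT.node 294 (BT.node 293 (BT.leaf cT293) (BT.leaf cT294)) (BT.leaf cT295)))) (BT.node 302 (BT.node 299 (BT.node 297 (BT.node 296 (BT.leaf cT296) (BT.leaf cT297)) (BT.node 298 (BT.leaf cT298) (BT.leaf cT299))) (BT.node 301 (BT.node 300 (BT.leaf cT300) (BT.leaf cT301)) (BT.leaf cT302))) (BT.node 306 (BT.node 304 (BT.node 303 (BT.leaf cT303) (BT.leaf cT304)) (BT.node 305 (BT.leaf cT305) (BT.leaf cT306))) (BT.node 308 (BT.node 307 (BT.leaf cT307) (BT.leaf cT308)) (BT.leaf cT309))))) (BT.node 323 (BT.node 316 (BT.node 313 (BT.node 311 (BT.node 310 (BT.leaf cT310) (BT.leaf cT311)) (BT.node 312 (BT.leaf cT312) (BT.leaf cT313))) (BT.node 315 (BT.node 314 (BT.leaf cT314) (BT.leaf cT315)) (BT.leaf cT316))) (BT.node 320 (BT.node 318 (BT.node 317 (BT.leaf cT317) (BT.leaf cT318)) (BT.node 319 (BT.leaf cT319) (BT.leaf cT320))) (BT.node 322 (BT.node 321 (BT.leaf cT321) (BT.leaf cT322)) (BT.leaf cT323)))) (BT.node 330 (BT.node 327 (BT.node 325 (BT.node 324 (BT.leaf cT324) (BT.leaf cT325)) (BT.node 326 (BT.leaf cT326) (BT.leaf cT327))) (BT.node 329 (BT.node 328 (BT.leaf cT328) (BT.leaf cT329)) (BT.leaf cT330))) (BT.node 334 (BT.node 332 (BT.node 331 (BT.leaf cT331) (BT.leaf cT332)) (BT.node 333 (BT.leaf cT333) (BT.leaf cT334))) (BT.node 336 (BT.node 335 (BT.leaf cT335) (BT.leaf cT336)) (BT.leaf cT337))))))) (BT.node 393 (BT.node 365 (BT.node 351 (BT.node 344 (BT.node 341 (BT.node 339 (BT.node 338 (BT.leaf cT338) (BT.leaf cT339)) (BT.node 340 (BT.leaf cT340) (BT.leaf cT341))) (BT.node 343 (BT.node 342 (BT.leaf cT342) (BT.leaf cT343)) (BT.leaf cT344))) (BT.node 348 (BT.node 346 (BT.node 345 (BT.leaf cT345) (BT.leaf cT346)) (BT.node 347 (BT.leaf cT347) (BT.leaf cT348))) (BT.node 350 (BT.node 349 (BT.leaf cT349) (BT.leaf cT350)) (BT.leaf cT351)))) (BT.node 358 (BT.node 355 (BT.node 353 (BT.node 352 (BT.leaf cT352) (BT.leaf cT353)) (BT.node 354 (BT.leaf cT354) (BT.leaf cT355))) (BT.node 357 (BT.node 356 (BT.leaf cT356) (BT.leaf cT357)) (BT.leaf cT358))) (BT.node 362 (BT.node 360 (BT.node 359 (BT.leaf cT359) (BT.leaf cT360)) (BT.node 361 (BT.leaf cT361) (BT.leaf cT362))) (BT.node 364 (BT.node 363 (BT.leaf cT363) (BT.leaf cT364)) (BT.leaf cT365))))) (BT.node 379 (BT.node 372 (BT.node 369 (BT.node 367 (BT.node 366 (BT.leaf cT366) (BT.leaf cT367)) (BT.node 368 (BT.leaf cT368) (BT.leaf cT369))) (BT.node 371 (BT.node 370 (BT.leaf cT370) (BT.leaf cT371)) (BT.leaf cT372))) (BT.node 376 (BT.node 374 (BT.node 373 (BT.leaf cT373) (BT.leaf cT374)) (BT.node 375 (BT.leaf cT375) (BT.leaf cT376))) (BT.node 378 (BT.node 377 (BT.leaf cT377) (BT.leaf cT378)) (BT.leaf cT379)))) (BT.node 386 (BT.node 383 (BT.node 381 (BT.node 380 (BT.leaf cT380) (BT.leaf cT381)) (BT.node 382 (BT.leaf cT382) (BT.leaf cT383))) (BT.node 385 (BT.node 384 (BT.leaf cT384) (BT.leaf cT385)) (BT.leaf cT386))) (BT.node 390 (BT.node 388 (BT.node 387 (BT.leaf cT387) (BT.leaf cT388)) (BT.node 389 (BT.leaf cT389) (BT.leaf cT390))) (BT.node 392 (BT.node 391 (BT.leaf cT391) (BT.leaf cT392)) (BT.leaf cT393)))))) (BT.node 421 (BT.node 407 (BT.node 400 (BT.node 397 (BT.node 395 (BT.node 394 (BT.leaf cT394) (BT.leaf cT395)) (BT.node 396 (BT.leaf cT396) (BT.leaf cT397))) (BT.node 399 (BT.node 398 (BT.leaf cT398) (BT.leaf cT399)) (BT.leaf cT400))) (BT.node 404 (BT.node 402 (BT.node 401 (BT.leaf cT401) (BT.leaf cT402)) (BT.node 403 (BT.leaf cT403) (BT.leaf cT404))) (BT.node 406 (BT.node 405 (BT.leaf cT405) (BT.leaf cT406)) (BT.leaf cT407)))) (BT.node 414 (BT.node 411 (BT.node 409 (BT.node 408 (BT.leaf cT408) (BT.leaf cT409)) (BT.node 410 (BT.leaf cT410) (BT.leaf cT411))) (BT.node 413 (BT.node 412 (BT.leaf cT412) (BT.leaf cT413)) (BT.leaf cT414))) (BT.node 418 (BT.node 416 (BT.node 415 (BT.leaf cT415) (BT.leaf cT416)) (BT.node 417 (BT.leaf cT417) (BT.leaf cT418))) (BT.node 420 (BT.node 419 (BT.leaf cT419) (BT.leaf cT420)) (BT.leaf cT421))))) (BT.node 435 (BT.node 428 (BT.node 425 (BT.node 423 (BT.node 422 (BT.leaf cT422) (BT.leaf cT423)) (BT.node 424 (BT.leaf cT424) (BT.leaf cT425))) (BT.node 427 (BT.node 426 (BT.leaf cT426) (BT.leaf cT427)) (BT.leaf cT428))) (BT.node 432 (BT.node 430 (BT.node 429 (BT.leaf cT429) (BT.leaf cT430)) (BT.node 431 (BT.leaf cT431) (BT.leaf cT432))) (BT.node 434 (BT.node 433 (BT.leaf cT433) (BT.leaf cT434)) (BT.leaf cT435)))) (BT.node 442 (BT.node 439 (BT.node 437 (BT.node 436 (BT.leaf cT436) (BT.leaf cT437)) (BT.node 438 (BT.leaf cT438) (BT.leaf cT439))) (BT.node 441 (BT.node 440 (BT.leaf cT440) (BT.leaf cT441)) (BT.leaf cT442))) (BT.node 446 (BT.node 444 (BT.node 443 (BT.leaf cT443) (BT.leaf cT444)) (BT.node 445 (BT.leaf cT445) (BT.leaf cT446))) (BT.node 448 (BT.node 447 (BT.leaf cT447) (BT.leaf cT448)) (BT.leaf cT449))))))))) (BT.node 674 (BT.node 562 (BT.node 506 (BT.node 478 (BT.node 464 (BT.node 457 (BT.node 453 (BT.node 451 (BT.node 450 (BT.leaf cT450) (BT.leaf cT451)) (BT.node 452 (BT.leaf cT452) (BT.leaf cT453))) (BT.node 455 (BT.node 454 (BT.leaf cT454) (BT.leaf cT455)) (BT.node 456 (BT.leaf cT456) (BT.leaf cT457)))) (BT.node 461 (BT.node 459 (BT.node 458 (BT.leaf cT458) (BT.leaf cT459)) (BT.node 460 (BT.leaf cT460) (BT.leaf cT461))) (BT.node 463 (BT.node 462 (BT.leaf cT462) (BT.leaf cT463)) (BT.leaf cT464)))) (BT.node 471 (BT.node 468 (BT.node 466 (BT.node 465 (BT.leaf cT465) (BT.leaf cT466)) (BT.node 467 (BT.leaf cT467) (BT.leaf cT468))) (BT.node 470 (BT.node 469 (BT.leaf cT469) (BT.leaf cT470)) (BT.leaf cT471))) (BT.node 475 (BT.node 473 (BT.node 472 (BT.leaf cT472) (BT.leaf cT473)) (BT.node 474 (BT.leaf cT474) (BT.leaf cT475))) (BT.node 477 (BT.node 476 (BT.leaf cT476) (BT.leaf cT477)) (BT.leaf cT478))))) (BT.node 492 (BT.node 485 (BT.node 482 (BT.node 480 (BT.node 479 (BT.leaf cT479) (BT.leaf cT480)) (BT.node 481 (BT.leaf cT481) (BT.leaf cT482))) (BT.node 484 (BT.node 483 (BT.leaf cT483) (BT.leaf cT484)) (BT.leaf cT485))) (BT.node 489 (BT.node 487 (BT.node 486 (BT.leaf cT486) (BT.leaf cT487)) (BT.node 488 (BT.leaf cT488) (BT.leaf cT489))) (BT.node 491 (BT.node 490 (BT.leaf cT490) (BT.leaf cT491)) (BT.leaf cT492)))) (BT.node 499 (BT.node 496 (BT.node 494 (BT.node 493 (BT.leaf cT493) (BT.leaf cT494)) (BT.node 495 (BT.leaf cT495) (BT.leaf cT496))) (BT.node 498 (BT.node 497 (BT.leaf cT497) (BT.leaf cT498)) (BT.leaf cT499))) (BT.node 503 (BT.node 501 (BT.node 500 (BT.leaf cT500) (BT.leaf cT501)) (BT.node 502 (BT.leaf cT502) (BT.leaf cT503))) (BT.node 505 (BT.node 504 (BT.leaf cT504) (BT.leaf cT505)) (BT.leaf cT506)))))) (BT.node 534 (BT.node 520 (BT.node 513 (BT.node 510 (BT.node 508 (BT.node 507 (BT.leaf cT507) (BT.leaf cT508)) (BT.node 509 (BT.leaf cT509) (BT.leaf cT510))) (BT.node 512 (BT.node 511 (BT.leaf cT511) (BT.leaf cT512)) (BT.leaf cT513))) (BT.node 517 (BT.node 515 (BT.node 514 (BT.leaf cT514) (BT.leaf cT515)) (BT.node 516 (BT.leaf cT516) (BT.leaf cT517))) (BT.node 519 (BT.node 518 (BT.leaf cT518) (BT.leaf cT519)) (BT.leaf cT520)))) (BT.node 527 (BT.node 524 (BT.node 522 (BT.node 521 (BT.leaf cT521) (BT.leaf cT522)) (BT.node 523 (BT.leaf cT523) (BT.leaf cT524))) (BT.node 526 (BT.node 525 (BT.leaf cT525) (BT.leaf cT526)) (BT.leaf cT527))) (BT.node 531 (BT.node 529 (BT.node 528 (BT.leaf cT528) (BT.leaf cT529)) (BT.node 530 (BT.leaf cT530) (BT.leaf cT531))) (BT.node 533 (BT.node 532 (BT.leaf cT532) (BT.leaf cT533)) (BT.leaf cT534))))) (BT.node 548 (BT.node 541 (BT.node 538 (BT.node 536 (BT.node 535 (BT.leaf cT535) (BT.leaf cT536)) (BT.node 537 (BT.leaf cT537) (BT.leaf cT538))) (BT.node 540 (BT.node 539 (BT.leaf cT539) (BT.leaf cT540)) (BT.leaf cT541))) (BT.node 545 (BT.node 543 (BT.node 542 (BT.leaf cT542) (BT.leaf cT543)) (BT.node 544 (BT.leaf cT544) (BT.leaf cT545))) (BT.node 547 (BT.node 546 (BT.leaf cT546) (BT.leaf cT547)) (BT.leaf cT548)))) (BT.node 555 (BT.node 552 (BT.node 550 (BT.node 549 (BT.leaf cT549) (BT.leaf cT550)) (BT.node 551 (BT.leaf cT551) (BT.leaf cT552))) (BT.node 554 (BT.node 553 (BT.leaf cT553) (BT.leaf cT554)) (BT.leaf cT555))) (BT.node 559 (BT.node 557 (BT.node 556 (BT.leaf cT556) (BT.leaf cT557)) (BT.node 558 (BT.leaf cT558) (BT.leaf cT559))) (BT.node 561 (BT.node 560 (BT.leaf cT560) (BT.leaf cT561)) (BT.leaf cT562))))))) (BT.node 618 (BT.node 590 (BT.node 576 (BT.node 569 (BT.node 566 (BT.node 564 (BT.node 563 (BT.leaf cT563) (BT.leaf cT564)) (BT.node 565 (BT.leaf cT565) (BT.leaf cT566))) (BT.node 568 (BT.node 567 (BT.leaf cT567) (BT.leaf cT568)) (BT.leaf cT569))) (BT.node 573 (BT.node 571 (BT.node 570 (BT.leaf cT570) (BT.leaf cT571)) (BT.node 572 (BT.leaf cT572) (BT.leaf cT573))) (BT.node 575 (BT.node 574 (BT.leaf cT574) (BT.leaf cT575)) (BT.leaf cT576)))) (BT.node 583 (BT.node 580 (BT.node 578 (BT.node 577 (BT.leaf cT577) (BT.leaf cT578)) (BT.node 579 (BT.leaf cT579) (BT.leaf cT580))) (BT.node 582 (BT.node 581 (BT.leaf cT581) (BT.leaf cT582)) (BT.leaf cT583))) (BT.node 587 (BT.node 585 (BT.node 584 (BT.leaf cT584) (BT.leaf cT585)) (BT.node 586 (BT.leaf cT586) (BT.leaf cT587))) (BT.node 589 (BT.node 588 (BT.leaf cT588) (BT.leaf cT589)) (BT.leaf cT590))))) (BT.node 604 (BT.node 597 (BT.node 594 (BT.node 592 (BT.node 591 (BT.leaf cT591) (BT.leaf cT592)) (BT.node 593 (BT.leaf cT593) (BT.leaf cT594))) (BT.node 596 (BT.node 595 (BT.leaf cT595) (BT.leaf cT596)) (BT.leaf cT597))) (BT.node 601 (BT.node 599 (BT.node 598 (BT.leaf cT598) (BT.leaf cT599)) (BT.node 600 (BT.leaf cT600) (BT.leaf cT601))) (BT.node 603 (BT.node 602 (BT.leaf cT602) (BT.leaf cT603)) (BT.leaf cT604)))) (BT.node 611 (BT.node 608 (BT.node 606 (BT.node 605 (BT.leaf cT605) (BT.leaf cT606)) (BT.node 607 (BT.leaf cT607) (BT.leaf cT608))) (BT.node 610 (BT.node 609 (BT.leaf cT609) (BT.leaf cT610)) (BT.leaf cT611))) (BT.node 615 (BT.node 613 (BT.node 612 (BT.leaf cT612) (BT.leaf cT613)) (BT.node 614 (BT.leaf cT614) (BT.leaf cT615))) (BT.node 617 (BT.node 616 (BT.leaf cT616) (BT.leaf cT617)) (BT.leaf cT618)))))) (BT.node 646 (BT.node 632 (BT.node 625 (BT.node 622 (BT.node 620 (BT.node 619 (BT.leaf cT619) (BT.leaf cT620)) (BT.node 621 (BT.leaf cT621) (BT.leaf cT622))) (BT.node 624 (BT.node 623 (BT.leaf cT623) (BT.leaf cT624)) (BT.leaf cT625))) (BT.node 629 (BT.node 627 (BT.node 626 (BT.leaf cT626) (BT.leaf cT627)) (BT.node 628 (BT.leaf cT628) (BT.leaf cT629))) (BT.node 631 (BT.node 630 (BT.leaf cT630) (BT.leaf cT631)) (BT.leaf cT632)))) (BT.node 639 (BT.node 636 (BT.node 634 (BT.node 633 (BT.leaf cT633) (BT.leaf cT634)) (BT.node 635 (BT.leaf cT635) (BT.leaf cT636))) (BT.node 638 (BT.node 637 (BT.leaf cT637) (BT.leaf cT638)) (BT.leaf cT639))) (BT.node 643 (BT.node 641 (BT.node 640 (BT.leaf cT640) (BT.leaf cT641)) (BT.node 642 (BT.leaf cT642) (BT.leaf cT643))) (BT.node 645 (BT.node 644 (BT.leaf cT644) (BT.leaf cT645)) (BT.leaf cT646))))) (BT.node 660 (BT.node 653 (BT.node 650 (BT.node 648 (BT.node 647 (BT.leaf cT647) (BT.leaf cT648)) (BT.node 649 (BT.leaf cT649) (BT.leaf cT650))) (BT.node 652 (BT.node 651 (BT.leaf cT651) (BT.leaf cT652)) (BT.leaf cT653))) (BT.node 657 (BT.node 655 (BT.node 654 (BT.leaf cT654) (BT.leaf cT655)) (BT.node 656 (BT.leaf cT656) (BT.leaf cT657))) (BT.node 659 (BT.node 658 (BT.leaf cT658) (BT.leaf cT659)) (BT.leaf cT660)))) (BT.node 667 (BT.node 664 (BT.node 662 (BT.node 661 (BT.leaf cT661) (BT.leaf cT662)) (BT.node 663 (BT.leaf cT663) (BT.leaf cT664))) (BT.node 666 (BT.node 665 (BT.leaf cT665) (BT.leaf cT666)) (BT.leaf cT667))) (BT.node 671 (BT.node 669 (BT.node 668 (BT.leaf cT668) (BT.leaf cT669)) (BT.node 670 (BT.leaf cT670) (BT.leaf cT671))) (BT.node 673 (BT.node 672 (BT.leaf cT672) (BT.leaf cT673)) (BT.leaf cT674)))))))) (BT.node 787 (BT.node 731 (BT.node 703 (BT.node 689 (BT.node 682 (BT.node 678 (BT.node 676 (BT.node 675 (BT.leaf cT675) (BT.leaf cT676)) (BT.node 677 (BT.leaf cT677) (BT.leaf cT678))) (BT.node 680 (BT.node 679 (BT.leaf cT679) (BT.leaf cT680)) (BT.node 681 (BT.leaf cT681) (BT.leaf cT682)))) (BT.node 686 (BT.node 684 (BT.node 683 (BT.leaf cT683) (BT.leaf cT684)) (BT.node 685 (BT.leaf cT685) (BT.leaf cT686))) (BT.node 688 (BT.node 687 (BT.leaf cT687) (BT.leaf cT688)) (BT.leaf cT689)))) (BT.node 696 (BT.node 693 (BT.node 691 (BT.node 690 (BT.leaf cT690) (BT.leaf cT691)) (BT.node 692 (BT.leaf cT692) (BT.leaf cT693))) (BT.node 695 (BT.node 694 (BT.leaf cT694) (BT.leaf cT695)) (BT.leaf cT696))) (BT.node 700 (BT.node 698 (BT.node 697 (BT.leaf cT697) (BT.leaf cT698)) (BT.node 699 (BT.leaf cT699) (BT.leaf cT700))) (BT.node 702 (BT.node 701 (BT.leaf cT701) (BT.leaf cT702)) (BT.leaf cT703))))) (BT.node 717 (BT.node 710 (BT.node 707 (BT.node 705 (BT.node 704 (BT.leaf cT704) (BT.leaf cT705)) (BT.node 706 (BT.leaf cT706) (BT.leaf cT707))) (BT.node 709 (BT.node 708 (BT.leaf cT708) (BT.leaf cT709)) (BT.leaf cT710))) (BT.node 714 (BT.node 712 (BT.node 711 (BT.leaf cT711) (BT.leaf cT712)) (BT.node 713 (BT.leaf cT713) (BT.leaf cT714))) (BT.node 716 (BT.node 715 (BT.leaf cT715) (BT.leaf cT716)) (BT.leaf cT717)))) (BT.node 724 (BT.node 721 (BT.node 719 (BT.node 718 (BT.leaf cT718) (BT.leaf cT719)) (BT.node 720 (BT.leaf cT720) (BT.leaf cT721))) (BT.node 723 (BT.node 722 (BT.leaf cT722) (BT.leaf cT723)) (BT.leaf cT724))) (BT.node 728 (BT.node 726 (BT.node 725 (BT.leaf cT725) (BT.leaf cT726)) (BT.node 727 (BT.leaf cT727) (BT.leaf cT728))) (BT.node 730 (BT.node 729 (BT.leaf cT729) (BT.leaf cT730)) (BT.leaf cT731)))))) (BT.node 759 (BT.node 745 (BT.node 738 (BT.node 735 (BT.node 733 (BT.node 732 (BT.leaf cT732) (BT.leaf cT733)) (BT.node 734 (BT.leaf cT734) (BT.leaf cT735))) (BT.node 737 (BT.node 736 (BT.leaf cT736) (BT.leaf cT737)) (BT.leaf cT738))) (BT.node 742 (BT.node 740 (BT.node 739 (BT.leaf cT739) (BT.leaf cT740)) (BT.node 741 (BT.leaf cT741) (BT.leaf cT742))) (BT.node 744 (BT.node 743 (BT.leaf cT743) (BT.leaf cT744)) (BT.leaf cT745)))) (BT.node 752 (BT.node 749 (BT.node 747 (BT.node 746 (BT.leaf cT746) (BT.leaf cT747)) (BT.node 748 (BT.leaf cT748) (BT.leaf cT749))) (BT.node 751 (BT.node 750 (BT.leaf cT750) (BT.leaf cT751)) (BT.leaf cT752))) (BT.node 756 (BT.node 754 (BT.node 753 (BT.leaf cT753) (BT.leaf cT754)) (BT.node 755 (BT.leaf cT755) (BT.leaf cT756))) (BT.node 758 (BT.node 757 (BT.leaf cT757) (BT.leaf cT758)) (BT.leaf cT759))))) (BT.node 773 (BT.node 766 (BT.node 763 (BT.node 761 (BT.node 760 (BT.leaf cT760) (BT.leaf cT761)) (BT.node 762 (BT.leaf cT762) (BT.leaf cT763))) (BT.node 765 (BT.node 764 (BT.leaf cT764) (BT.leaf cT765)) (BT.leaf cT766))) (BT.node 770 (BT.node 768 (BT.node 767 (BT.leaf cT767) (BT.leaf cT768)) (BT.node 769 (BT.leaf cT769) (BT.leaf cT770))) (BT.node 772 (BT.node 771 (BT.leaf cT771) (BT.leaf cT772)) (BT.leaf cT773)))) (BT.node 780 (BT.node 777 (BT.node 775 (BT.node 774 (BT.leaf cT774) (BT.leaf cT775)) (BT.node 776 (BT.leaf cT776) (BT.leaf cT777))) (BT.node 779 (BT.node 778 (BT.leaf cT778) (BT.leaf cT779)) (BT.leaf cT780))) (BT.node 784 (BT.node 782 (BT.node 781 (BT.leaf cT781) (BT.leaf cT782)) (BT.node 783 (BT.leaf cT783) (BT.leaf cT784))) (BT.node 786 (BT.node 785 (BT.leaf cT785) (BT.leaf cT786)) (BT.leaf cT787))))))) (BT.node 843 (BT.node 815 (BT.node 801 (BT.node 794 (BT.node 791 (BT.node 789 (BT.node 788 (BT.leaf cT788) (BT.leaf cT789)) (BT.node 790 (BT.leaf cT790) (BT.leaf cT791))) (BT.node 793 (BT.node 792 (BT.leaf cT792) (BT.leaf cT793)) (BT.leaf cT794))) (BT.node 798 (BT.node 796 (BT.node 795 (BT.leaf cT795) (BT.leaf cT796)) (BT.node 797 (BT.leaf cT797) (BT.leaf cT798))) (BT.node 800 (BT.node 799 (BT.leaf cT799) (BT.leaf cT800)) (BT.leaf cT801)))) (BT.node 808 (BT.node 805 (BT.node 803 (BT.node 802 (BT.leaf cT802) (BT.leaf cT803)) (BT.node 804 (BT.leaf cT804) (BT.leaf cT805))) (BT.node 807 (BT.node 806 (BT.leaf cT806) (BT.leaf cT807)) (BT.leaf cT808))) (BT.node 812 (BT.node 810 (BT.node 809 (BT.leaf cT809) (BT.leaf cT810)) (BT.node 811 (BT.leaf cT811) (BT.leaf cT812))) (BT.node 814 (BT.node 813 (BT.leaf cT813) (BT.leaf cT814)) (BT.leaf cT815))))) (BT.node 829 (BT.node 822 (BT.node 819 (BT.node 817 (BT.node 816 (BT.leaf cT816) (BT.leaf cT817)) (BT.node 818 (BT.leaf cT818) (BT.leaf cT819))) (BT.node 821 (BT.node 820 (BT.leaf cT820) (BT.leaf cT821)) (BT.leaf cT822))) (BT.node 826 (BT.node 824 (BT.node 823 (BT.leaf cT823) (BT.leaf cT824)) (BT.node 825 (BT.leaf cT825) (BT.leaf cT826))) (BT.node 828 (BT.node 827 (BT.leaf cT827) (BT.leaf cT828)) (BT.leaf cT829)))) (BT.node 836 (BT.node 833 (BT.node 831 (BT.node 830 (BT.leaf cT830) (BT.leaf cT831)) (BT.node 832 (BT.leaf cT832) (BT.leaf cT833))) (BT.node 835 (BT.node 834 (BT.leaf cT834) (BT.leaf cT835)) (BT.leaf cT836))) (BT.node 840 (BT.node 838 (BT.node 837 (BT.leaf cT837) (BT.leaf cT838)) (BT.node 839 (BT.leaf cT839) (BT.leaf cT840))) (BT.node 842 (BT.node 841 (BT.leaf cT841) (BT.leaf cT842)) (BT.leaf cT843)))))) (BT.node 871 (BT.node 857 (BT.node 850 (BT.node 847 (BT.node 845 (BT.node 844 (BT.leaf cT844) (BT.leaf cT845)) (BT.node 846 (BT.leaf cT846) (BT.leaf cT847))) (BT.node 849 (BT.node 848 (BT.leaf cT848) (BT.leaf cT849)) (BT.leaf cT850))) (BT.node 854 (BT.node 852 (BT.node 851 (BT.leaf cT851) (BT.leaf cT852)) (BT.node 853 (BT.leaf cT853) (BT.leaf cT854))) (BT.node 856 (BT.node 855 (BT.leaf cT855) (BT.leaf cT856)) (BT.leaf cT857)))) (BT.node 864 (BT.node 861 (BT.node 859 (BT.node 858 (BT.leaf cT858) (BT.leaf cT859)) (BT.node 860 (BT.leaf cT860) (BT.leaf cT861))) (BT.node 863 (BT.node 862 (BT.leaf cT862) (BT.leaf cT863)) (BT.leaf cT864))) (BT.node 868 (BT.node 866 (BT.node 865 (BT.leaf cT865) (BT.leaf cT866)) (BT.node 867 (BT.leaf cT867) (BT.leaf cT868))) (BT.node 870 (BT.node 869 (BT.leaf cT869) (BT.leaf cT870)) (BT.leaf cT871))))) (BT.node 885 (BT.node 878 (BT.node 875 (BT.node 873 (BT.node 872 (BT.leaf cT872) (BT.leaf cT873)) (BT.node 874 (BT.leaf cT874) (BT.leaf cT875))) (BT.node 877 (BT.node 876 (BT.leaf cT876) (BT.leaf cT877)) (BT.leaf cT878))) (BT.node 882 (BT.node 880 (BT.node 879 (BT.leaf cT879) (BT.leaf cT880)) (BT.node 881 (BT.leaf cT881) (BT.leaf cT882))) (BT.node 884 (BT.node 883 (BT.leaf cT883) (BT.leaf cT884)) (BT.leaf cT885)))) (BT.node 892 (BT.node 889 (BT.node 887 (BT.node 886 (BT.leaf cT886) (BT.leaf cT887)) (BT.node 888 (BT.leaf cT888) (BT.leaf cT889))) (BT.node 891 (BT.node 890 (BT.leaf cT890) (BT.leaf cT891)) (BT.leaf cT892))) (BT.node 896 (BT.node 894 (BT.node 893 (BT.leaf cT893) (BT.leaf cT894)) (BT.node 895 (BT.leaf cT895) (BT.leaf cT896))) (BT.node 898 (BT.node 897 (BT.leaf cT897) (BT.leaf cT898)) (BT.leaf cT899)))))))))) (BT.node 1349 (BT.node 1124 (BT.node 1012 (BT.node 956 (BT.node 928 (BT.node 914 (BT.node 907 (BT.node 903 (BT.node 901 (BT.node 900 (BT.leaf cT900) (BT.leaf cT901)) (BT.node 902 (BT.leaf cT902) (BT.leaf cT903))) (BT.node 905 (BT.node 904 (BT.leaf cT904) (BT.leaf cT905)) (BT.node 906 (BT.leaf cT906) (BT.leaf cT907)))) (BT.node 911 (BT.node 909 (BT.node 908 (BT.leaf cT908) (BT.leaf cT909)) (BT.node 910 (BT.leaf cT910) (BT.leaf cT911))) (BT.node 913 (BT.node 912 (BT.leaf cT912) (BT.leaf cT913)) (BT.leaf cT914)))) (BT.node 921 (BT.node 918 (BT.node 916 (BT.node 915 (BT.leaf cT915) (BT.leaf cT916)) (BT.node 917 (BT.leaf cT917) (BT.leaf cT918))) (BT.node 920 (BT.node 919 (BT.leaf cT919) (BT.leaf cT920)) (BT.leaf cT921))) (BT.node 925 (BT.node 923 (BT.node 922 (BT.leaf cT922) (BT.leaf cT923)) (BT.node 924 (BT.leaf cT924) (BT.leaf cT925))) (BT.node 927 (BT.node 926 (BT.leaf cT926) (BT.leaf cT927)) (BT.leaf cT928))))) (BT.node 942 (BT.node 935 (BT.node 932 (BT.node 930 (BT.node 929 (BT.leaf cT929) (BT.leaf cT930)) (BT.node 931 (BT.leaf cT931) (BT.leaf cT932))) (BT.node 934 (BT.node 933 (BT.leaf cT933) (BT.leaf cT934)) (BT.leaf cT935))) (BT.node 939 (BT.node 937 (BT.node 936 (BT.leaf cT936) (BT.leaf cT937)) (BT.node 938 (BT.leaf cT938) (BT.leaf cT939))) (BT.node 941 (BT.node 940 (BT.leaf cT940) (BT.leaf cT941)) (BT.leaf cT942)))) (BT.node 949 (BT.node 946 (BT.node 944 (BT.node 943 (BT.leaf cT943) (BT.leaf cT944)) (BT.node 945 (BT.leaf cT945) (BT.leaf cT946))) (BT.node 948 (BT.node 947 (BT.leaf cT947) (BT.leaf cT948)) (BT.leaf cT949))) (BT.node 953 (BT.node 951 (BT.node 950 (BT.leaf cT950) (BT.leaf cT951)) (BT.node 952 (BT.leaf cT952) (BT.leaf cT953))) (BT.node 955 (BT.node 954 (BT.leaf cT954) (BT.leaf cT955)) (BT.leaf cT956)))))) (BT.node 984 (BT.node 970 (BT.node 963 (BT.node 960 (BT.node 958 (BT.node 957 (BT.leaf cT957) (BT.leaf cT958)) (BT.node 959 (BT.leaf cT959) (BT.leaf cT960))) (BT.node 962 (BT.node 961 (BT.leaf cT961) (BT.leaf cT962)) (BT.leaf cT963))) (BT.node 967 (BT.node 965 (BT.node 964 (BT.leaf cT964) (BT.leaf cT965)) (BT.node 966 (BT.leaf cT966) (BT.leaf cT967))) (BT.node 969 (BT.node 968 (BT.leaf cT968) (BT.leaf cT969)) (BT.leaf cT970)))) (BT.node 977 (BT.node 974 (BT.node 972 (BT.node 971 (BT.leaf cT971) (BT.leaf cT972)) (BT.node 973 (BT.leaf cT973) (BT.leaf cT974))) (BT.node 976 (BT.node 975 (BT.leaf cT975) (BT.leaf cT976)) (BT.leaf cT977))) (BT.node 981 (BT.node 979 (BT.node 978 (BT.leaf cT978) (BT.leaf cT979)) (BT.node 980 (BT.leaf cT980) (BT.leaf cT981))) (BT.node 983 (BT.node 982 (BT.leaf cT982) (BT.leaf cT983)) (BT.leaf cT984))))) (BT.node 998 (BT.node 991 (BT.node 988 (BT.node 986 (BT.node 985 (BT.leaf cT985) (BT.leaf cT986)) (BT.node 987 (BT.leaf cT987) (BT.leaf cT988))) (BT.node 990 (BT.node 989 (BT.leaf cT989) (BT.leaf cT990)) (BT.leaf cT991))) (BT.node 995 (BT.node 993 (BT.node 992 (BT.leaf cT992) (BT.leaf cT993)) (BT.node 994 (BT.leaf cT994) (BT.leaf cT995))) (BT.node 997 (BT.node 996 (BT.leaf cT996) (BT.leaf cT997)) (BT.leaf cT998)))) (BT.node 1005 (BT.node 1002 (BT.node 1000 (BT.node 999 (BT.leaf cT999) (BT.leaf cT1000)) (BT.node 1001 (BT.leaf cT1001) (BT.leaf cT1002))) (BT.node 1004 (BT.node 1003 (BT.leaf cT1003) (BT.leaf cT1004)) (BT.leaf cT1005))) (BT.node 1009 (BT.node 1007 (BT.node 1006 (BT.leaf cT1006) (BT.leaf cT1007)) (BT.node 1008 (BT.leaf cT1008) (BT.leaf cT1009))) (BT.node 1011 (BT.node 1010 (BT.leaf cT1010) (BT.leaf cT1011)) (BT.leaf cT1012))))))) (BT.node 1068 (BT.node 1040 (BT.node 1026 (BT.node 1019 (BT.node 1016 (BT.node 1014 (BT.node 1013 (BT.leaf cT1013) (BT.leaf cT1014)) (BT.node 1015 (BT.leaf cT1015) (BT.leaf cT1016))) (BT.node 1018 (BT.node 1017 (BT.leaf cT1017) (BT.leaf cT1018)) (BT.leaf cT1019))) (BT.node 1023 (BT.node 1021 (BT.node 1020 (BT.leaf cT1020) (BT.leaf cT1021)) (BT.node 1022 (BT.leaf cT1022) (BT.leaf cT1023))) (BT.node 1025 (BT.node 1024 (BT.leaf cT1024) (BT.leaf cT1025)) (BT.leaf cT1026)))) (BT.node 1033 (BT.node 1030 (BT.node 1028 (BT.node 1027 (BT.leaf cT1027) (BT.leaf cT1028)) (BT.node 1029 (BT.leaf cT1029) (BT.leaf cT1030))) (BT.node 1032 (BT.node 1031 (BT.leaf cT1031) (BT.leaf cT1032)) (BT.leaf cT1033))) (BT.node 1037 (BT.node 1035 (BT.node 1034 (BT.leaf cT1034) (BT.leaf cT1035)) (BT.node 1036 (BT.leaf cT1036) (BT.leaf cT1037))) (BT.node 1039 (BT.node 1038 (BT.leaf cT1038) (BT.leaf cT1039)) (BT.leaf cT1040))))) (BT.node 1054 (BT.node 1047 (BT.node 1044 (BT.node 1042 (BT.node 1041 (BT.leaf cT1041) (BT.leaf cT1042)) (BT.node 1043 (BT.leaf cT1043) (BT.leaf cT1044))) (BT.node 1046 (BT.node 1045 (BT.leaf cT1045) (BT.leaf cT1046)) (BT.leaf cT1047))) (BT.node 1051 (BT.node 1049 (BT.node 1048 (BT.leaf cT1048) (BT.leaf cT1049)) (BT.node 1050 (BT.leaf cT1050) (BT.leaf cT1051))) (BT.node 1053 (BT.node 1052 (BT.leaf cT1052) (BT.leaf cT1053)) (BT.leaf cT1054)))) (BT.node 1061 (BT.node 1058 (BT.node 1056 (BT.node 1055 (BT.leaf cT1055) (BT.leaf cT1056)) (BT.node 1057 (BT.leaf cT1057) (BT.leaf cT1058))) (BT.node 1060 (BT.node 1059 (BT.leaf cT1059) (BT.leaf cT1060)) (BT.leaf cT1061))) (BT.node 1065 (BT.node 1063 (BT.node 1062 (BT.leaf cT1062) (BT.leaf cT1063)) (BT.node 1064 (BT.leaf cT1064) (BT.leaf cT1065))) (BT.node 1067 (BT.node 1066 (BT.leaf cT1066) (BT.leaf cT1067)) (BT.leaf cT1068)))))) (BT.node 1096 (BT.node 1082 (BT.node 1075 (BT.node 1072 (BT.node 1070 (BT.node 1069 (BT.leaf cT1069) (BT.leaf cT1070)) (BT.node 1071 (BT.leaf cT1071) (BT.leaf cT1072))) (BT.node 1074 (BT.node 1073 (BT.leaf cT1073) (BT.leaf cT1074)) (BT.leaf cT1075))) (BT.node 1079 (BT.node 1077 (BT.node 1076 (BT.leaf cT1076) (BT.leaf cT1077)) (BT.node 1078 (BT.leaf cT1078) (BT.leaf cT1079))) (BT.node 1081 (BT.node 1080 (BT.leaf cT1080) (BT.leaf cT1081)) (BT.leaf cT1082)))) (BT.node 1089 (BT.node 1086 (BT.node 1084 (BT.node 1083 (BT.leaf cT1083) (BT.leaf cT1084)) (BT.node 1085 (BT.leaf cT1085) (BT.leaf cT1086))) (BT.node 1088 (BT.node 1087 (BT.leaf cT1087) (BT.leaf cT1088)) (BT.leaf cT1089))) (BT.node 1093 (BT.node 1091 (BT.node 1090 (BT.leaf cT1090) (BT.leaf cT1091)) (BT.node 1092 (BT.leaf cT1092) (BT.leaf cT1093))) (BT.node 1095 (BT.node 1094 (BT.leaf cT1094) (BT.leaf cT1095)) (BT.leaf cT1096))))) (BT.node 1110 (BT.node 1103 (BT.node 1100 (BT.node 1098 (BT.node 1097 (BT.leaf cT1097) (BT.leaf cT1098)) (BT.node 1099 (BT.leaf cT1099) (BT.leaf cT1100))) (BT.node 1102 (BT.node 1101 (BT.leaf cT1101) (BT.leaf cT1102)) (BT.leaf cT1103))) (BT.node 1107 (BT.node 1105 (BT.node 1104 (BT.leaf cT1104) (BT.leaf cT1105)) (BT.node 1106 (BT.leaf cT1106) (BT.leaf cT1107))) (BT.node 1109 (BT.node 1108 (BT.leaf cT1108) (BT.leaf cT1109)) (BT.leaf cT1110)))) (BT.node 1117 (BT.node 1114 (BT.node 1112 (BT.node 1111 (BT.leaf cT1111) (BT.leaf cT1112)) (BT.node 1113 (BT.leaf cT1113) (BT.leaf cT1114))) (BT.node 1116 (BT.node 1115 (BT.leaf cT1115) (BT.leaf cT1116)) (BT.leaf cT1117))) (BT.node 1121 (BT.node 1119 (BT.node 1118 (BT.leaf cT1118) (BT.leaf cT1119)) (BT.node 1120 (BT.leaf cT1120) (BT.leaf cT1121))) (BT.node 1123 (BT.node 1122 (BT.leaf cT1122) (BT.leaf cT1123)) (BT.leaf cT1124)))))))) (BT.node 1237 (BT.node 1181 (BT.node 1153 (BT.node 1139 (BT.node 1132 (BT.node 1128 (BT.node 1126 (BT.node 1125 (BT.leaf cT1125) (BT.leaf cT1126)) (BT.node 1127 (BT.leaf cT1127) (BT.leaf cT1128))) (BT.node 1130 (BT.node 1129 (BT.leaf cT1129) (BT.leaf cT1130)) (BT.node 1131 (BT.leaf cT1131) (BT.leaf cT1132)))) (BT.node 1136 (BT.node 1134 (BT.node 1133 (BT.leaf cT1133) (BT.leaf cT1134)) (BT.node 1135 (BT.leaf cT1135) (BT.leaf cT1136))) (BT.node 1138 (BT.node 1137 (BT.leaf cT1137) (BT.leaf cT1138)) (BT.leaf cT1139)))) (BT.node 1146 (BT.node 1143 (BT.node 1141 (BT.node 1140 (BT.leaf cT1140) (BT.leaf cT1141)) (BT.node 1142 (BT.leaf cT1142) (BT.leaf cT1143))) (BT.node 1145 (BT.node 1144 (BT.leaf cT1144) (BT.leaf cT1145)) (BT.leaf cT1146))) (BT.node 1150 (BT.node 1148 (BT.node 1147 (BT.leaf cT1147) (BT.leaf cT1148)) (BT.node 1149 (BT.leaf cT1149) (BT.leaf cT1150))) (BT.node 1152 (BT.node 1151 (BT.leaf cT1151) (BT.leaf cT1152)) (BT.leaf cT1153))))) (BT.node 1167 (BT.node 1160 (BT.node 1157 (BT.node 1155 (BT.node 1154 (BT.leaf cT1154) (BT.leaf cT1155)) (BT.node 1156 (BT.leaf cT1156) (BT.leaf cT1157))) (BT.node 1159 (BT.node 1158 (BT.leaf cT1158) (BT.leaf cT1159)) (BT.leaf cT1160))) (BT.node 1164 (BT.node 1162 (BT.node 1161 (BT.leaf cT1161) (BT.leaf cT1162)) (BT.node 1163 (BT.leaf cT1163) (BT.leaf cT1164))) (BT.node 1166 (BT.node 1165 (BT.leaf cT1165) (BT.leaf cT1166)) (BT.leaf cT1167)))) (BT.node 1174 (BT.node 1171 (BT.node 1169 (BT.node 1168 (BT.leaf cT1168) (BT.leaf cT1169)) (BT.node 1170 (BT.leaf cT1170) (BT.leaf cT1171))) (BT.node 1173 (BT.node 1172 (BT.leaf cT1172) (BT.leaf cT1173)) (BT.leaf cT1174))) (BT.node 1178 (BT.node 1176 (BT.node 1175 (BT.leaf cT1175) (BT.leaf cT1176)) (BT.node 1177 (BT.leaf cT1177) (BT.leaf cT1178))) (BT.node 1180 (BT.node 1179 (BT.leaf cT1179) (BT.leaf cT1180)) (BT.leaf cT1181)))))) (BT.node 1209 (BT.node 1195 (BT.node 1188 (BT.node 1185 (BT.node 1183 (BT.node 1182 (BT.leaf cT1182) (BT.leaf cT1183)) (BT.node 1184 (BT.leaf cT1184) (BT.leaf cT1185))) (BT.node 1187 (BT.node 1186 (BT.leaf cT1186) (BT.leaf cT1187)) (BT.leaf cT1188))) (BT.node 1192 (BT.node 1190 (BT.node 1189 (BT.leaf cT1189) (BT.leaf cT1190)) (BT.node 1191 (BT.leaf cT1191) (BT.leaf cT1192))) (BT.node 1194 (BT.node 1193 (BT.leaf cT1193) (BT.leaf cT1194)) (BT.leaf cT1195)))) (BT.node 1202 (BT.node 1199 (BT.node 1197 (BT.node 1196 (BT.leaf cT1196) (BT.leaf cT1197)) (BT.node 1198 (BT.leaf cT1198) (BT.leaf cT1199))) (BT.node 1201 (BT.node 1200 (BT.leaf cT1200) (BT.leaf cT1201)) (BT.leaf cT1202))) (BT.node 1206 (BT.node 1204 (BT.node 1203 (BT.leaf cT1203) (BT.leaf cT1204)) (BT.node 1205 (BT.leaf cT1205) (BT.leaf cT1206))) (BT.node 1208 (BT.node 1207 (BT.leaf cT1207) (BT.leaf cT1208)) (BT.leaf cT1209))))) (BT.node 1223 (BT.node 1216 (BT.node 1213 (BT.node 1211 (BT.node 1210 (BT.leaf cT1210) (BT.leaf cT1211)) (BT.node 1212 (BT.leaf cT1212) (BT.leaf cT1213))) (BT.node 1215 (BT.node 1214 (BT.leaf cT1214) (BT.leaf cT1215)) (BT.leaf cT1216))) (BT.node 1220 (BT.node 1218 (BT.node 1217 (BT.leaf cT1217) (BT.leaf cT1218)) (BT.node 1219 (BT.leaf cT1219) (BT.leaf cT1220))) (BT.node 1222 (BT.node 1221 (BT.leaf cT1221) (BT.leaf cT1222)) (BT.leaf cT1223)))) (BT.node 1230 (BT.node 1227 (BT.node 1225 (BT.node 1224 (BT.leaf cT1224) (BT.leaf cT1225)) (BT.node 1226 (BT.leaf cT1226) (BT.leaf cT1227))) (BT.node 1229 (BT.node 1228 (BT.leaf cT1228) (BT.leaf cT1229)) (BT.leaf cT1230))) (BT.node 1234 (BT.node 1232 (BT.node 1231 (BT.leaf cT1231) (BT.leaf cT1232)) (BT.node 1233 (BT.leaf cT1233) (BT.leaf cT1234))) (BT.node 1236 (BT.node 1235 (BT.leaf cT1235) (BT.leaf cT1236)) (BT.leaf cT1237))))))) (BT.node 1293 (BT.node 1265 (BT.node 1251 (BT.node 1244 (BT.node 1241 (BT.node 1239 (BT.node 1238 (BT.leaf cT1238) (BT.leaf cT1239)) (BT.node 1240 (BT.leaf cT1240) (BT.leaf cT1241))) (BT.node 1243 (BT.node 1242 (BT.leaf cT1242) (BT.leaf cT1243)) (BT.leaf cT1244))) (BT.node 1248 (BT.node 1246 (BT.node 1245 (BT.leaf cT1245) (BT.leaf cT1246)) (BT.node 1247 (BT.leaf cT1247) (BT.leaf cT1248))) (BT.node 1250 (BT.node 1249 (BT.leaf cT1249) (BT.leaf cT1250)) (BT.leaf cT1251)))) (BT.node 1258 (BT.node 1255 (BT.node 1253 (BT.node 1252 (BT.leaf cT1252) (BT.leaf cT1253)) (BT.node 1254 (BT.leaf cT1254) (BT.leaf cT1255))) (BT.node 1257 (BT.node 1256 (BT.leaf cT1256) (BT.leaf cT1257)) (BT.leaf cT1258))) (BT.node 1262 (BT.node 1260 (BT.node 1259 (BT.leaf cT1259) (BT.leaf cT1260)) (BT.node 1261 (BT.leaf cT1261) (BT.leaf cT1262))) (BT.node 1264 (BT.node 1263 (BT.leaf cT1263) (BT.leaf cT1264)) (BT.leaf cT1265))))) (BT.node 1279 (BT.node 1272 (BT.node 1269 (BT.node 1267 (BT.node 1266 (BT.leaf cT1266) (BT.leaf cT1267)) (BT.node 1268 (BT.leaf cT1268) (BT.leaf cT1269))) (BT.node 1271 (BT.node 1270 (BT.leaf cT1270) (BT.leaf cT1271)) (BT.leaf cT1272))) (BT.node 1276 (BT.node 1274 (BT.node 1273 (BT.leaf cT1273) (BT.leaf cT1274)) (BT.node 1275 (BT.leaf cT1275) (BT.leaf cT1276))) (BT.node 1278 (BT.node 1277 (BT.leaf cT1277) (BT.leaf cT1278)) (BT.leaf cT1279)))) (BT.node 1286 (BT.node 1283 (BT.node 1281 (BT.node 1280 (BT.leaf cT1280) (BT.leaf cT1281)) (BT.node 1282 (BT.leaf cT1282) (BT.leaf cT1283))) (BT.node 1285 (BT.node 1284 (BT.leaf cT1284) (BT.leaf cT1285)) (BT.leaf cT1286))) (BT.node 1290 (BT.node 1288 (BT.node 1287 (BT.leaf cT1287) (BT.leaf cT1288)) (BT.node 1289 (BT.leaf cT1289) (BT.leaf cT1290))) (BT.node 1292 (BT.node 1291 (BT.leaf cT1291) (BT.leaf cT1292)) (BT.leaf cT1293)))))) (BT.node 1321 (BT.node 1307 (BT.node 1300 (BT.node 1297 (BT.node 1295 (BT.node 1294 (BT.leaf cT1294) (BT.leaf cT1295)) (BT.node 1296 (BT.leaf cT1296) (BT.leaf cT1297))) (BT.node 1299 (BT.node 1298 (BT.leaf cT1298) (BT.leaf cT1299)) (BT.leaf cT1300))) (BT.node 1304 (BT.node 1302 (BT.node 1301 (BT.leaf cT1301) (BT.leaf cT1302)) (BT.node 1303 (BT.leaf cT1303) (BT.leaf cT1304))) (BT.node 1306 (BT.node 1305 (BT.leaf cT1305) (BT.leaf cT1306)) (BT.leaf cT1307)))) (BT.node 1314 (BT.node 1311 (BT.node 1309 (BT.node 1308 (BT.leaf cT1308) (BT.leaf cT1309)) (BT.node 1310 (BT.leaf cT1310) (BT.leaf cT1311))) (BT.node 1313 (BT.node 1312 (BT.leaf cT1312) (BT.leaf cT1313)) (BT.leaf cT1314))) (BT.node 1318 (BT.node 1316 (BT.node 1315 (BT.leaf cT1315) (BT.leaf cT1316)) (BT.node 1317 (BT.leaf cT1317) (BT.leaf cT1318))) (BT.node 1320 (BT.node 1319 (BT.leaf cT1319) (BT.leaf cT1320)) (BT.leaf cT1321))))) (BT.node 1335 (BT.node 1328 (BT.node 1325 (BT.node 1323 (BT.node 1322 (BT.leaf cT1322) (BT.leaf cT1323)) (BT.node 1324 (BT.leaf cT1324) (BT.leaf cT1325))) (BT.node 1327 (BT.node 1326 (BT.leaf cT1326) (BT.leaf cT1327)) (BT.leaf cT1328))) (BT.node 1332 (BT.node 1330 (BT.node 1329 (BT.leaf cT1329) (BT.leaf cT1330)) (BT.node 1331 (BT.leaf cT1331) (BT.leaf cT1332))) (BT.node 1334 (BT.node 1333 (BT.leaf cT1333) (BT.leaf cT1334)) (BT.leaf cT1335)))) (BT.node 1342 (BT.node 1339 (BT.node 1337 (BT.node 1336 (BT.leaf cT1336) (BT.leaf cT1337)) (BT.node 1338 (BT.leaf cT1338) (BT.leaf cT1339))) (BT.node 1341 (BT.node 1340 (BT.leaf cT1340) (BT.leaf cT1341)) (BT.leaf cT1342))) (BT.node 1346 (BT.node 1344 (BT.node 1343 (BT.leaf cT1343) (BT.leaf cT1344)) (BT.node 1345 (BT.leaf cT1345) (BT.leaf cT1346))) (BT.node 1348 (BT.node 1347 (BT.leaf cT1347) (BT.leaf cT1348)) (BT.leaf cT1349))))))))) (BT.node 1574 (BT.node 1462 (BT.node 1406 (BT.node 1378 (BT.node 1364 (BT.node 1357 (BT.node 1353 (BT.node 1351 (BT.node 1350 (BT.leaf cT1350) (BT.leaf cT1351)) (BT.node 1352 (BT.leaf cT1352) (BT.leaf cT1353))) (BT.node 1355 (BT.node 1354 (BT.leaf cT1354) (BT.leaf cT1355)) (BT.node 1356 (BT.leaf cT1356) (BT.leaf cT1357)))) (BT.node 1361 (BT.node 1359 (BT.node 1358 (BT.leaf cT1358) (BT.leaf cT1359)) (BT.node 1360 (BT.leaf cT1360) (BT.leaf cT1361))) (BT.node 1363 (BT.node 1362 (BT.leaf cT1362) (BT.leaf cT1363)) (BT.leaf cT1364)))) (BT.node 1371 (BT.node 1368 (BT.node 1366 (BT.node 1365 (BT.leaf cT1365) (BT.leaf cT1366)) (BT.node 1367 (BT.leaf cT1367) (BT.leaf cT1368))) (BT.node 1370 (BT.node 1369 (BT.leaf cT1369) (BT.leaf cT1370)) (BT.leaf cT1371))) (BT.node 1375 (BT.node 1373 (BT.node 1372 (BT.leaf cT1372) (BT.leaf cT1373)) (BT.node 1374 (BT.leaf cT1374) (BT.leaf cT1375))) (BT.node 1377 (BT.node 1376 (BT.leaf cT1376) (BT.leaf cT1377)) (BT.leaf cT1378))))) (BT.node 1392 (BT.node 1385 (BT.node 1382 (BT.node 1380 (BT.node 1379 (BT.leaf cT1379) (BT.leaf cT1380)) (BT.node 1381 (BT.leaf cT1381) (BT.leaf cT1382))) (BT.node 1384 (BT.node 1383 (BT.leaf cT1383) (BT.leaf cT1384)) (BT.leaf cT1385))) (BT.node 1389 (BT.node 1387 (BT.node 1386 (BT.leaf cT1386) (BT.leaf cT1387)) (BT.node 1388 (BT.leaf cT1388) (BT.leaf cT1389))) (BT.node 1391 (BT.node 1390 (BT.leaf cT1390) (BT.leaf cT1391)) (BT.leaf cT1392)))) (BT.node 1399 (BT.node 1396 (BT.node 1394 (BT.node 1393 (BT.leaf cT1393) (BT.leaf cT1394)) (BT.node 1395 (BT.leaf cT1395) (BT.leaf cT1396))) (BT.node 1398 (BT.node 1397 (BT.leaf cT1397) (BT.leaf cT1398)) (BT.leaf cT1399))) (BT.node 1403 (BT.node 1401 (BT.node 1400 (BT.leaf cT1400) (BT.leaf cT1401)) (BT.node 1402 (BT.leaf cT1402) (BT.leaf cT1403))) (BT.node 1405 (BT.node 1404 (BT.leaf cT1404) (BT.leaf cT1405)) (BT.leaf cT1406)))))) (BT.node 1434 (BT.node 1420 (BT.node 1413 (BT.node 1410 (BT.node 1408 (BT.node 1407 (BT.leaf cT1407) (BT.leaf cT1408)) (BT.node 1409 (BT.leaf cT1409) (BT.leaf cT1410))) (BT.node 1412 (BT.node 1411 (BT.leaf cT1411) (BT.leaf cT1412)) (BT.leaf cT1413))) (BT.node 1417 (BT.node 1415 (BT.node 1414 (BT.leaf cT1414) (BT.leaf cT1415)) (BT.node 1416 (BT.leaf cT1416) (BT.leaf cT1417))) (BT.node 1419 (BT.node 1418 (BT.leaf cT1418) (BT.leaf cT1419)) (BT.leaf cT1420)))) (BT.node 1427 (BT.node 1424 (BT.node 1422 (BT.node 1421 (BT.leaf cT1421) (BT.leaf cT1422)) (BT.node 1423 (BT.leaf cT1423) (BT.leaf cT1424))) (BT.node 1426 (BT.node 1425 (BT.leaf cT1425) (BT.leaf cT1426)) (BT.leaf cT1427))) (BT.node 1431 (BT.node 1429 (BT.node 1428 (BT.leaf cT1428) (BT.leaf cT1429)) (BT.node 1430 (BT.leaf cT1430) (BT.leaf cT1431))) (BT.node 1433 (BT.node 1432 (BT.leaf cT1432) (BT.leaf cT1433)) (BT.leaf cT1434))))) (BT.node 1448 (BT.node 1441 (BT.node 1438 (BT.node 1436 (BT.node 1435 (BT.leaf cT1435) (BT.leaf cT1436)) (BT.node 1437 (BT.leaf cT1437) (BT.leaf cT1438))) (BT.node 1440 (BT.node 1439 (BT.leaf cT1439) (BT.leaf cT1440)) (BT.leaf cT1441))) (BT.node 1445 (BT.node 1443 (BT.node 1442 (BT.leaf cT1442) (BT.leaf cT1443)) (BT.node 1444 (BT.leaf cT1444) (BT.leaf cT1445))) (BT.node 1447 (BT.node 1446 (BT.leaf cT1446) (BT.leaf cT1447)) (BT.leaf cT1448)))) (BT.node 1455 (BT.node 1452 (BT.node 1450 (BT.node 1449 (BT.leaf cT1449) (BT.leaf cT1450)) (BT.node 1451 (BT.leaf cT1451) (BT.leaf cT1452))) (BT.node 1454 (BT.node 1453 (BT.leaf cT1453) (BT.leaf cT1454)) (BT.leaf cT1455))) (BT.node 1459 (BT.node 1457 (BT.node 1456 (BT.leaf cT1456) (BT.leaf cT1457)) (BT.node 1458 (BT.leaf cT1458) (BT.leaf cT1459))) (BT.node 1461 (BT.node 1460 (BT.leaf cT1460) (BT.leaf cT1461)) (BT.leaf cT1462))))))) (BT.node 1518 (BT.node 1490 (BT.node 1476 (BT.node 1469 (BT.node 1466 (BT.node 1464 (BT.node 1463 (BT.leaf cT1463) (BT.leaf cT1464)) (BT.node 1465 (BT.leaf cT1465) (BT.leaf cT1466))) (BT.node 1468 (BT.node 1467 (BT.leaf cT1467) (BT.leaf cT1468)) (BT.leaf cT1469))) (BT.node 1473 (BT.node 1471 (BT.node 1470 (BT.leaf cT1470) (BT.leaf cT1471)) (BT.node 1472 (BT.leaf cT1472) (BT.leaf cT1473))) (BT.node 1475 (BT.node 1474 (BT.leaf cT1474) (BT.leaf cT1475)) (BT.leaf cT1476)))) (BT.node 1483 (BT.node 1480 (BT.node 1478 (BT.node 1477 (BT.leaf cT1477) (BT.leaf cT1478)) (BT.node 1479 (BT.leaf cT1479) (BT.leaf cT1480))) (BT.node 1482 (BT.node 1481 (BT.leaf cT1481) (BT.leaf cT1482)) (BT.leaf cT1483))) (BT.node 1487 (BT.node 1485 (BT.node 1484 (BT.leaf cT1484) (BT.leaf cT1485)) (BT.node 1486 (BT.leaf cT1486) (BT.leaf cT1487))) (BT.node 1489 (BT.node 1488 (BT.leaf cT1488) (BT.leaf cT1489)) (BT.leaf cT1490))))) (BT.node 1504 (BT.node 1497 (BT.node 1494 (BT.node 1492 (BT.node 1491 (BT.leaf cT1491) (BT.leaf cT1492)) (BT.node 1493 (BT.leaf cT1493) (BT.leaf cT1494))) (BT.node 1496 (BT.node 1495 (BT.leaf cT1495) (BT.leaf cT1496)) (BT.leaf cT1497))) (BT.node 1501 (BT.node 1499 (BT.node 1498 (BT.leaf cT1498) (BT.leaf cT1499)) (BT.node 1500 (BT.leaf cT1500) (BT.leaf cT1501))) (BT.node 1503 (BT.node 1502 (BT.leaf cT1502) (BT.leaf cT1503)) (BT.leaf cT1504)))) (BT.node 1511 (BT.node 1508 (BT.node 1506 (BT.node 1505 (BT.leaf cT1505) (BT.leaf cT1506)) (BT.node 1507 (BT.leaf cT1507) (BT.leaf cT1508))) (BT.node 1510 (BT.node 1509 (BT.leaf cT1509) (BT.leaf cT1510)) (BT.leaf cT1511))) (BT.node 1515 (BT.node 1513 (BT.node 1512 (BT.leaf cT1512) (BT.leaf cT1513)) (BT.node 1514 (BT.leaf cT1514) (BT.leaf cT1515))) (BT.node 1517 (BT.node 1516 (BT.leaf cT1516) (BT.leaf cT1517)) (BT.leaf cT1518)))))) (BT.node 1546 (BT.node 1532 (BT.node 1525 (BT.node 1522 (BT.node 1520 (BT.node 1519 (BT.leaf cT1519) (BT.leaf cT1520)) (BT.node 1521 (BT.leaf cT1521) (BT.leaf cT1522))) (BT.node 1524 (BT.node 1523 (BT.leaf cT1523) (BT.leaf cT1524)) (BT.leaf cT1525))) (BT.node 1529 (BT.node 1527 (BT.node 1526 (BT.leaf cT1526) (BT.leaf cT1527)) (BT.node 1528 (BT.leaf cT1528) (BT.leaf cT1529))) (BT.node 1531 (BT.node 1530 (BT.leaf cT1530) (BT.leaf cT1531)) (BT.leaf cT1532)))) (BT.node 1539 (BT.node 1536 (BT.node 1534 (BT.node 1533 (BT.leaf cT1533) (BT.leaf cT1534)) (BT.node 1535 (BT.leaf cT1535) (BT.leaf cT1536))) (BT.node 1538 (BT.node 1537 (BT.leaf cT1537) (BT.leaf cT1538)) (BT.leaf cT1539))) (BT.node 1543 (BT.node 1541 (BT.node 1540 (BT.leaf cT1540) (BT.leaf cT1541)) (BT.node 1542 (BT.leaf cT1542) (BT.leaf cT1543))) (BT.node 1545 (BT.node 1544 (BT.leaf cT1544) (BT.leaf cT1545)) (BT.leaf cT1546))))) (BT.node 1560 (BT.node 1553 (BT.node 1550 (BT.node 1548 (BT.node 1547 (BT.leaf cT1547) (BT.leaf cT1548)) (BT.node 1549 (BT.leaf cT1549) (BT.leaf cT1550))) (BT.node 1552 (BT.node 1551 (BT.leaf cT1551) (BT.leaf cT1552)) (BT.leaf cT1553))) (BT.node 1557 (BT.node 1555 (BT.node 1554 (BT.leaf cT1554) (BT.leaf cT1555)) (BT.node 1556 (BT.leaf cT1556) (BT.leaf cT1557))) (BT.node 1559 (BT.node 1558 (BT.leaf cT1558) (BT.leaf cT1559)) (BT.leaf cT1560)))) (BT.node 1567 (BT.node 1564 (BT.node 1562 (BT.node 1561 (BT.leaf cT1561) (BT.leaf cT1562)) (BT.node 1563 (BT.leaf cT1563) (BT.leaf cT1564))) (BT.node 1566 (BT.node 1565 (BT.leaf cT1565) (BT.leaf cT1566)) (BT.leaf cT1567))) (BT.node 1571 (BT.node 1569 (BT.node 1568 (BT.leaf cT1568) (BT.leaf cT1569)) (BT.node 1570 (BT.leaf cT1570) (BT.leaf cT1571))) (BT.node 1573 (BT.node 1572 (BT.leaf cT1572) (BT.leaf cT1573)) (BT.leaf cT1574)))))))) (BT.node 1687 (BT.node 1631 (BT.node 1603 (BT.node 1589 (BT.node 1582 (BT.node 1578 (BT.node 1576 (BT.node 1575 (BT.leaf cT1575) (BT.leaf cT1576)) (BT.node 1577 (BT.leaf cT1577) (BT.leaf cT1578))) (BT.node 1580 (BT.node 1579 (BT.leaf cT1579) (BT.leaf cT1580)) (BT.node 1581 (BT.leaf cT1581) (BT.leaf cT1582)))) (BT.node 1586 (BT.node 1584 (BT.node 1583 (BT.leaf cT1583) (BT.leaf cT1584)) (BT.node 1585 (BT.leaf cT1585) (BT.leaf cT1586))) (BT.node 1588 (BT.node 1587 (BT.leaf cT1587) (BT.leaf cT1588)) (BT.leaf cT1589)))) (BT.node 1596 (BT.node 1593 (BT.node 1591 (BT.node 1590 (BT.leaf cT1590) (BT.leaf cT1591)) (BT.node 1592 (BT.leaf cT1592) (BT.leaf cT1593))) (BT.node 1595 (BT.node 1594 (BT.leaf cT1594) (BT.leaf cT1595)) (BT.leaf cT1596))) (BT.node 1600 (BT.node 1598 (BT.node 1597 (BT.leaf cT1597) (BT.leaf cT1598)) (BT.node 1599 (BT.leaf cT1599) (BT.leaf cT1600))) (BT.node 1602 (BT.node 1601 (BT.leaf cT1601) (BT.leaf cT1602)) (BT.leaf cT1603))))) (BT.node 1617 (BT.node 1610 (BT.node 1607 (BT.node 1605 (BT.node 1604 (BT.leaf cT1604) (BT.leaf cT1605)) (BT.node 1606 (BT.leaf cT1606) (BT.leaf cT1607))) (BT.node 1609 (BT.node 1608 (BT.leaf cT1608) (BT.leaf cT1609)) (BT.leaf cT1610))) (BT.node 1614 (BT.node 1612 (BT.node 1611 (BT.leaf cT1611) (BT.leaf cT1612)) (BT.node 1613 (BT.leaf cT1613) (BT.leaf cT1614))) (BT.node 1616 (BT.node 1615 (BT.leaf cT1615) (BT.leaf cT1616)) (BT.leaf cT1617)))) (BT.node 1624 (BT.node 1621 (BT.node 1619 (BT.node 1618 (BT.leaf cT1618) (BT.leaf cT1619)) (BT.node 1620 (BT.leaf cT1620) (BT.leaf cT1621))) (BT.node 1623 (BT.node 1622 (BT.leaf cT1622) (BT.leaf cT1623)) (BT.leaf cT1624))) (BT.node 1628 (BT.node 1626 (BT.node 1625 (BT.leaf cT1625) (BT.leaf cT1626)) (BT.node 1627 (BT.leaf cT1627) (BT.leaf cT1628))) (BT.node 1630 (BT.node 1629 (BT.leaf cT1629) (BT.leaf cT1630)) (BT.leaf cT1631)))))) (BT.node 1659 (BT.node 1645 (BT.node 1638 (BT.node 1635 (BT.node 1633 (BT.node 1632 (BT.leaf cT1632) (BT.leaf cT1633)) (BT.node 1634 (BT.leaf cT1634) (BT.leaf cT1635))) (BT.node 1637 (BT.node 1636 (BT.leaf cT1636) (BT.leaf cT1637)) (BT.leaf cT1638))) (BT.node 1642 (BT.node 1640 (BT.node 1639 (BT.leaf cT1639) (BT.leaf cT1640)) (BT.node 1641 (BT.leaf cT1641) (BT.leaf cT1642))) (BT.node 1644 (BT.node 1643 (BT.leaf cT1643) (BT.leaf cT1644)) (BT.leaf cT1645)))) (BT.node 1652 (BT.node 1649 (BT.node 1647 (BT.node 1646 (BT.leaf cT1646) (BT.leaf cT1647)) (BT.node 1648 (BT.leaf cT1648) (BT.leaf cT1649))) (BT.node 1651 (BT.node 1650 (BT.leaf cT1650) (BT.leaf cT1651)) (BT.leaf cT1652))) (BT.node 1656 (BT.node 1654 (BT.node 1653 (BT.leaf cT1653) (BT.leaf cT1654)) (BT.node 1655 (BT.leaf cT1655) (BT.leaf cT1656))) (BT.node 1658 (BT.node 1657 (BT.leaf cT1657) (BT.leaf cT1658)) (BT.leaf cT1659))))) (BT.node 1673 (BT.node 1666 (BT.node 1663 (BT.node 1661 (BT.node 1660 (BT.leaf cT1660) (BT.leaf cT1661)) (BT.node 1662 (BT.leaf cT1662) (BT.leaf cT1663))) (BT.node 1665 (BT.node 1664 (BT.leaf cT1664) (BT.leaf cT1665)) (BT.leaf cT1666))) (BT.node 1670 (BT.node 1668 (BT.node 1667 (BT.leaf cT1667) (BT.leaf cT1668)) (BT.node 1669 (BT.leaf cT1669) (BT.leaf cT1670))) (BT.node 1672 (BT.node 1671 (BT.leaf cT1671) (BT.leaf cT1672)) (BT.leaf cT1673)))) (BT.node 1680 (BT.node 1677 (BT.node 1675 (BT.node 1674 (BT.leaf cT1674) (BT.leaf cT1675)) (BT.node 1676 (BT.leaf cT1676) (BT.leaf cT1677))) (BT.node 1679 (BT.node 1678 (BT.leaf cT1678) (BT.leaf cT1679)) (BT.leaf cT1680))) (BT.node 1684 (BT.node 1682 (BT.node 1681 (BT.leaf cT1681) (BT.leaf cT1682)) (BT.node 1683 (BT.leaf cT1683) (BT.leaf cT1684))) (BT.node 1686 (BT.node 1685 (BT.leaf cT1685) (BT.leaf cT1686)) (BT.leaf cT1687))))))) (BT.node 1743 (BT.node 1715 (BT.node 1701 (BT.node 1694 (BT.node 1691 (BT.node 1689 (BT.node 1688 (BT.leaf cT1688) (BT.leaf cT1689)) (BT.node 1690 (BT.leaf cT1690) (BT.leaf cT1691))) (BT.node 1693 (BT.node 1692 (BT.leaf cT1692) (BT.leaf cT1693)) (BT.leaf cT1694))) (BT.node 1698 (BT.node 1696 (BT.node 1695 (BT.leaf cT1695) (BT.leaf cT1696)) (BT.node 1697 (BT.leaf cT1697) (BT.leaf cT1698))) (BT.node 1700 (BT.node 1699 (BT.leaf cT1699) (BT.leaf cT1700)) (BT.leaf cT1701)))) (BT.node 1708 (BT.node 1705 (BT.node 1703 (BT.node 1702 (BT.leaf cT1702) (BT.leaf cT1703)) (BT.node 1704 (BT.leaf cT1704) (BT.leaf cT1705))) (BT.node 1707 (BT.node 1706 (BT.leaf cT1706) (BT.leaf cT1707)) (BT.leaf cT1708))) (BT.node 1712 (BT.node 1710 (BT.node 1709 (BT.leaf cT1709) (BT.leaf cT1710)) (BT.node 1711 (BT.leaf cT1711) (BT.leaf cT1712))) (BT.node 1714 (BT.node 1713 (BT.leaf cT1713) (BT.leaf cT1714)) (BT.leaf cT1715))))) (BT.node 1729 (BT.node 1722 (BT.node 1719 (BT.node 1717 (BT.node 1716 (BT.leaf cT1716) (BT.leaf cT1717)) (BT.node 1718 (BT.leaf cT1718) (BT.leaf cT1719))) (BT.node 1721 (BT.node 1720 (BT.leaf cT1720) (BT.leaf cT1721)) (BT.leaf cT1722))) (BT.node 1726 (BT.node 1724 (BT.node 1723 (BT.leaf cT1723) (BT.leaf cT1724)) (BT.node 1725 (BT.leaf cT1725) (BT.leaf cT1726))) (BT.node 1728 (BT.node 1727 (BT.leaf cT1727) (BT.leaf cT1728)) (BT.leaf cT1729)))) (BT.node 1736 (BT.node 1733 (BT.node 1731 (BT.node 1730 (BT.leaf cT1730) (BT.leaf cT1731)) (BT.node 1732 (BT.leaf cT1732) (BT.leaf cT1733))) (BT.node 1735 (BT.node 1734 (BT.leaf cT1734) (BT.leaf cT1735)) (BT.leaf cT1736))) (BT.node 1740 (BT.node 1738 (BT.node 1737 (BT.leaf cT1737) (BT.leaf cT1738)) (BT.node 1739 (BT.leaf cT1739) (BT.leaf cT1740))) (BT.node 1742 (BT.node 1741 (BT.leaf cT1741) (BT.leaf cT1742)) (BT.leaf cT1743)))))) (BT.node 1771 (BT.node 1757 (BT.node 1750 (BT.node 1747 (BT.node 1745 (BT.node 1744 (BT.leaf cT1744) (BT.leaf cT1745)) (BT.node 1746 (BT.leaf cT1746) (BT.leaf cT1747))) (BT.node 1749 (BT.node 1748 (BT.leaf cT1748) (BT.leaf cT1749)) (BT.leaf cT1750))) (BT.node 1754 (BT.node 1752 (BT.node 1751 (BT.leaf cT1751) (BT.leaf cT1752)) (BT.node 1753 (BT.leaf cT1753) (BT.leaf cT1754))) (BT.node 1756 (BT.node 1755 (BT.leaf cT1755) (BT.leaf cT1756)) (BT.leaf cT1757)))) (BT.node 1764 (BT.node 1761 (BT.node 1759 (BT.node 1758 (BT.leaf cT1758) (BT.leaf cT1759)) (BT.node 1760 (BT.leaf cT1760) (BT.leaf cT1761))) (BT.node 1763 (BT.node 1762 (BT.leaf cT1762) (BT.leaf cT1763)) (BT.leaf cT1764))) (BT.node 1768 (BT.node 1766 (BT.node 1765 (BT.leaf cT1765) (BT.leaf cT1766)) (BT.node 1767 (BT.leaf cT1767) (BT.leaf cT1768))) (BT.node 1770 (BT.node 1769 (BT.leaf cT1769) (BT.leaf cT1770)) (BT.leaf cT1771))))) (BT.node 1785 (BT.node 1778 (BT.node 1775 (BT.node 1773 (BT.node 1772 (BT.leaf cT1772) (BT.leaf cT1773)) (BT.node 1774 (BT.leaf cT1774) (BT.leaf cT1775))) (BT.node 1777 (BT.node 1776 (BT.leaf cT1776) (BT.leaf cT1777)) (BT.leaf cT1778))) (BT.node 1782 (BT.node 1780 (BT.node 1779 (BT.leaf cT1779) (BT.leaf cT1780)) (BT.node 1781 (BT.leaf cT1781) (BT.leaf cT1782))) (BT.node 1784 (BT.node 1783 (BT.leaf cT1783) (BT.leaf cT1784)) (BT.leaf cT1785)))) (BT.node 1792 (BT.node 1789 (BT.node 1787 (BT.node 1786 (BT.leaf cT1786) (BT.leaf cT1787)) (BT.node 1788 (BT.leaf cT1788) (BT.leaf cT1789))) (BT.node 1791 (BT.node 1790 (BT.leaf cT1790) (BT.leaf cT1791)) (BT.leaf cT1792))) (BT.node 1796 (BT.node 1794 (BT.node 1793 (BT.leaf cT1793) (BT.leaf cT1794)) (BT.node 1795 (BT.leaf cT1795) (BT.leaf cT1796))) (BT.node 1798 (BT.node 1797 (BT.leaf cT1797) (BT.leaf cT1798)) (BT.leaf cT1799))))))))))) (BT.node 2699 (BT.node 2249 (BT.node 2024 (BT.node 1912 (BT.node 1856 (BT.node 1828 (BT.node 1814 (BT.node 1807 (BT.node 1803 (BT.node 1801 (BT.node 1800 (BT.leaf cT1800) (BT.leaf cT1801)) (BT.node 1802 (BT.leaf cT1802) (BT.leaf cT1803))) (BT.node 1805 (BT.node 1804 (BT.leaf cT1804) (BT.leaf cT1805)) (BT.node 1806 (BT.leaf cT1806) (BT.leaf cT1807)))) (BT.node 1811 (BT.node 1809 (BT.node 1808 (BT.leaf cT1808) (BT.leaf cT1809)) (BT.node 1810 (BT.leaf cT1810) (BT.leaf cT1811))) (BT.node 1813 (BT.node 1812 (BT.leaf cT1812) (BT.leaf cT1813)) (BT.leaf cT1814)))) (BT.node 1821 (BT.node 1818 (BT.node 1816 (BT.node 1815 (BT.leaf cT1815) (BT.leaf cT1816)) (BT.node 1817 (BT.leaf cT1817) (BT.leaf cT1818))) (BT.node 1820 (BT.node 1819 (BT.leaf cT1819) (BT.leaf cT1820)) (BT.leaf cT1821))) (BT.node 1825 (BT.node 1823 (BT.node 1822 (BT.leaf cT1822) (BT.leaf cT1823)) (BT.node 1824 (BT.leaf cT1824) (BT.leaf cT1825))) (BT.node 1827 (BT.node 1826 (BT.leaf cT1826) (BT.leaf cT1827)) (BT.leaf cT1828))))) (BT.node 1842 (BT.node 1835 (BT.node 1832 (BT.node 1830 (BT.node 1829 (BT.leaf cT1829) (BT.leaf cT1830)) (BT.node 1831 (BT.leaf cT1831) (BT.leaf cT1832))) (BT.node 1834 (BT.node 1833 (BT.leaf cT1833) (BT.leaf cT1834)) (BT.leaf cT1835))) (BT.node 1839 (BT.node 1837 (BT.node 1836 (BT.leaf cT1836) (BT.leaf cT1837)) (BT.node 1838 (BT.leaf cT1838) (BT.leaf cT1839))) (BT.node 1841 (BT.node 1840 (BT.leaf cT1840) (BT.leaf cT1841)) (BT.leaf cT1842)))) (BT.node 1849 (BT.node 1846 (BT.node 1844 (BT.node 1843 (BT.leaf cT1843) (BT.leaf cT1844)) (BT.node 1845 (BT.leaf cT1845) (BT.leaf cT1846))) (BT.node 1848 (BT.node 1847 (BT.leaf cT1847) (BT.leaf cT1848)) (BT.leaf cT1849))) (BT.node 1853 (BT.node 1851 (BT.node 1850 (BT.leaf cT1850) (BT.leaf cT1851)) (BT.node 1852 (BT.leaf cT1852) (BT.leaf cT1853))) (BT.node 1855 (BT.node 1854 (BT.leaf cT1854) (BT.leaf cT1855)) (BT.leaf cT1856)))))) (BT.node 1884 (BT.node 1870 (BT.node 1863 (BT.node 1860 (BT.node 1858 (BT.node 1857 (BT.leaf cT1857) (BT.leaf cT1858)) (BT.node 1859 (BT.leaf cT1859) (BT.leaf cT1860))) (BT.node 1862 (BT.node 1861 (BT.leaf cT1861) (BT.leaf cT1862)) (BT.leaf cT1863))) (BT.node 1867 (BT.node 1865 (BT.node 1864 (BT.leaf cT1864) (BT.leaf cT1865)) (BT.node 1866 (BT.leaf cT1866) (BT.leaf cT1867))) (BT.node 1869 (BT.node 1868 (BT.leaf cT1868) (BT.leaf cT1869)) (BT.leaf cT1870)))) (BT.node 1877 (BT.node 1874 (BT.node 1872 (BT.node 1871 (BT.leaf cT1871) (BT.leaf cT1872)) (BT.node 1873 (BT.leaf cT1873) (BT.leaf cT1874))) (BT.node 1876 (BT.node 1875 (BT.leaf cT1875) (BT.leaf cT1876)) (BT.leaf cT1877))) (BT.node 1881 (BT.node 1879 (BT.node 1878 (BT.leaf cT1878) (BT.leaf cT1879)) (BT.node 1880 (BT.leaf cT1880) (BT.leaf cT1881))) (BT.node 1883 (BT.node 1882 (BT.leaf cT1882) (BT.leaf cT1883)) (BT.leaf cT1884))))) (BT.node 1898 (BT.node 1891 (BT.node 1888 (BT.node 1886 (BT.node 1885 (BT.leaf cT1885) (BT.leaf cT1886)) (BT.node 1887 (BT.leaf cT1887) (BT.leaf cT1888))) (BT.node 1890 (BT.node 1889 (BT.leaf cT1889) (BT.leaf cT1890)) (BT.leaf cT1891))) (BT.node 1895 (BT.node 1893 (BT.node 1892 (BT.leaf cT1892) (BT.leaf cT1893)) (BT.node 1894 (BT.leaf cT1894) (BT.leaf cT1895))) (BT.node 1897 (BT.node 1896 (BT.leaf cT1896) (BT.leaf cT1897)) (BT.leaf cT1898)))) (BT.node 1905 (BT.node 1902 (BT.node 1900 (BT.node 1899 (BT.leaf cT1899) (BT.leaf cT1900)) (BT.node 1901 (BT.leaf cT1901) (BT.leaf cT1902))) (BT.node 1904 (BT.node 1903 (BT.leaf cT1903) (BT.leaf cT1904)) (BT.leaf cT1905))) (BT.node 1909 (BT.node 1907 (BT.node 1906 (BT.leaf cT1906) (BT.leaf cT1907)) (BT.node 1908 (BT.leaf cT1908) (BT.leaf cT1909))) (BT.node 1911 (BT.node 1910 (BT.leaf cT1910) (BT.leaf cT1911)) (BT.leaf cT1912))))))) (BT.node 1968 (BT.node 1940 (BT.node 1926 (BT.node 1919 (BT.node 1916 (BT.node 1914 (BT.node 1913 (BT.leaf cT1913) (BT.leaf cT1914)) (BT.node 1915 (BT.leaf cT1915) (BT.leaf cT1916))) (BT.node 1918 (BT.node 1917 (BT.leaf cT1917) (BT.leaf cT1918)) (BT.leaf cT1919))) (BT.node 1923 (BT.node 1921 (BT.node 1920 (BT.leaf cT1920) (BT.leaf cT1921)) (BT.node 1922 (BT.leaf cT1922) (BT.leaf cT1923))) (BT.node 1925 (BT.node 1924 (BT.leaf cT1924) (BT.leaf cT1925)) (BT.leaf cT1926)))) (BT.node 1933 (BT.node 1930 (BT.node 1928 (BT.node 1927 (BT.leaf cT1927) (BT.leaf cT1928)) (BT.node 1929 (BT.leaf cT1929) (BT.leaf cT1930))) (BT.node 1932 (BT.node 1931 (BT.leaf cT1931) (BT.leaf cT1932)) (BT.leaf cT1933))) (BT.node 1937 (BT.node 1935 (BT.node 1934 (BT.leaf cT1934) (BT.leaf cT1935)) (BT.node 1936 (BT.leaf cT1936) (BT.leaf cT1937))) (BT.node 1939 (BT.node 1938 (BT.leaf cT1938) (BT.leaf cT1939)) (BT.leaf cT1940))))) (BT.node 1954 (BT.node 1947 (BT.node 1944 (BT.node 1942 (BT.node 1941 (BT.leaf cT1941) (BT.leaf cT1942)) (BT.node 1943 (BT.leaf cT1943) (BT.leaf cT1944))) (BT.node 1946 (BT.node 1945 (BT.leaf cT1945) (BT.leaf cT1946)) (BT.leaf cT1947))) (BT.node 1951 (BT.node 1949 (BT.node 1948 (BT.leaf cT1948) (BT.leaf cT1949)) (BT.node 1950 (BT.leaf cT1950) (BT.leaf cT1951))) (BT.node 1953 (BT.node 1952 (BT.leaf cT1952) (BT.leaf cT1953)) (BT.leaf cT1954)))) (BT.node 1961 (BT.node 1958 (BT.node 1956 (BT.node 1955 (BT.leaf cT1955) (BT.leaf cT1956)) (BT.node 1957 (BT.leaf cT1957) (BT.leaf cT1958))) (BT.node 1960 (BT.node 1959 (BT.leaf cT1959) (BT.leaf cT1960)) (BT.leaf cT1961))) (BT.node 1965 (BT.node 1963 (BT.node 1962 (BT.leaf cT1962) (BT.leaf cT1963)) (BT.node 1964 (BT.leaf cT1964) (BT.leaf cT1965))) (BT.node 1967 (BT.node 1966 (BT.leaf cT1966) (BT.leaf cT1967)) (BT.leaf cT1968)))))) (BT.node 1996 (BT.node 1982 (BT.node 1975 (BT.node 1972 (BT.node 1970 (BT.node 1969 (BT.leaf cT1969) (BT.leaf cT1970)) (BT.node 1971 (BT.leaf cT1971) (BT.leaf cT1972))) (BT.node 1974 (BT.node 1973 (BT.leaf cT1973) (BT.leaf cT1974)) (BT.leaf cT1975))) (BT.node 1979 (BT.node 1977 (BT.node 1976 (BT.leaf cT1976) (BT.leaf cT1977)) (BT.node 1978 (BT.leaf cT1978) (BT.leaf cT1979))) (BT.node 1981 (BT.node 1980 (BT.leaf cT1980) (BT.leaf cT1981)) (BT.leaf cT1982)))) (BT.node 1989 (BT.node 1986 (BT.node 1984 (BT.node 1983 (BT.leaf cT1983) (BT.leaf cT1984)) (BT.node 1985 (BT.leaf cT1985) (BT.leaf cT1986))) (BT.node 1988 (BT.node 1987 (BT.leaf cT1987) (BT.leaf cT1988)) (BT.leaf cT1989))) (BT.node 1993 (BT.node 1991 (BT.node 1990 (BT.leaf cT1990) (BT.leaf cT1991)) (BT.node 1992 (BT.leaf cT1992) (BT.leaf cT1993))) (BT.node 1995 (BT.node 1994 (BT.leaf cT1994) (BT.leaf cT1995)) (BT.leaf cT1996))))) (BT.node 2010 (BT.node 2003 (BT.node 2000 (BT.node 1998 (BT.node 1997 (BT.leaf cT1997) (BT.leaf cT1998)) (BT.node 1999 (BT.leaf cT1999) (BT.leaf cT2000))) (BT.node 2002 (BT.node 2001 (BT.leaf cT2001) (BT.leaf cT2002)) (BT.leaf cT2003))) (BT.node 2007 (BT.node 2005 (BT.node 2004 (BT.leaf cT2004) (BT.leaf cT2005)) (BT.node 2006 (BT.leaf cT2006) (BT.leaf cT2007))) (BT.node 2009 (BT.node 2008 (BT.leaf cT2008) (BT.leaf cT2009)) (BT.leaf cT2010)))) (BT.node 2017 (BT.node 2014 (BT.node 2012 (BT.node 2011 (BT.leaf cT2011) (BT.leaf cT2012)) (BT.node 2013 (BT.leaf cT2013) (BT.leaf cT2014))) (BT.node 2016 (BT.node 2015 (BT.leaf cT2015) (BT.leaf cT2016)) (BT.leaf cT2017))) (BT.node 2021 (BT.node 2019 (BT.node 2018 (BT.leaf cT2018) (BT.leaf cT2019)) (BT.node 2020 (BT.leaf cT2020) (BT.leaf cT2021))) (BT.node 2023 (BT.node 2022 (BT.leaf cT2022) (BT.leaf cT2023)) (BT.leaf cT2024)))))))) (BT.node 2137 (BT.node 2081 (BT.node 2053 (BT.node 2039 (BT.node 2032 (BT.node 2028 (BT.node 2026 (BT.node 2025 (BT.leaf cT2025) (BT.leaf cT2026)) (BT.node 2027 (BT.leaf cT2027) (BT.leaf cT2028))) (BT.node 2030 (BT.node 2029 (BT.leaf cT2029) (BT.leaf cT2030)) (BT.node 2031 (BT.leaf cT2031) (BT.leaf cT2032)))) (BT.node 2036 (BT.node 2034 (BT.node 2033 (BT.leaf cT2033) (BT.leaf cT2034)) (BT.node 2035 (BT.leaf cT2035) (BT.leaf cT2036))) (BT.node 2038 (BT.node 2037 (BT.leaf cT2037) (BT.leaf cT2038)) (BT.leaf cT2039)))) (BT.node 2046 (BT.node 2043 (BT.node 2041 (BT.node 2040 (BT.leaf cT2040) (BT.leaf cT2041)) (BT.node 2042 (BT.leaf cT2042) (BT.leaf cT2043))) (BT.node 2045 (BT.node 2044 (BT.leaf cT2044) (BT.leaf cT2045)) (BT.leaf cT2046))) (BT.node 2050 (BT.node 2048 (BT.node 2047 (BT.leaf cT2047) (BT.leaf cT2048)) (BT.node 2049 (BT.leaf cT2049) (BT.leaf cT2050))) (BT.node 2052 (BT.node 2051 (BT.leaf cT2051) (BT.leaf cT2052)) (BT.leaf cT2053))))) (BT.node 2067 (BT.node 2060 (BT.node 2057 (BT.node 2055 (BT.node 2054 (BT.leaf cT2054) (BT.leaf cT2055)) (BT.node 2056 (BT.leaf cT2056) (BT.leaf cT2057))) (BT.node 2059 (BT.node 2058 (BT.leaf cT2058) (BT.leaf cT2059)) (BT.leaf cT2060))) (BT.node 2064 (BT.node 2062 (BT.node 2061 (BT.leaf cT2061) (BT.leaf cT2062)) (BT.node 2063 (BT.leaf cT2063) (BT.leaf cT2064))) (BT.node 2066 (BT.node 2065 (BT.leaf cT2065) (BT.leaf cT2066)) (BT.leaf cT2067)))) (BT.node 2074 (BT.node 2071 (BT.node 2069 (BT.node 2068 (BT.leaf cT2068) (BT.leaf cT2069)) (BT.node 2070 (BT.leaf cT2070) (BT.leaf cT2071))) (BT.node 2073 (BT.node 2072 (BT.leaf cT2072) (BT.leaf cT2073)) (BT.leaf cT2074))) (BT.node 2078 (BT.node 2076 (BT.node 2075 (BT.leaf cT2075) (BT.leaf cT2076)) (BT.node 2077 (BT.leaf cT2077) (BT.leaf cT2078))) (BT.node 2080 (BT.node 2079 (BT.leaf cT2079) (BT.leaf cT2080)) (BT.leaf cT2081)))))) (BT.node 2109 (BT.node 2095 (BT.node 2088 (BT.node 2085 (BT.node 2083 (BT.node 2082 (BT.leaf cT2082) (BT.leaf cT2083)) (BT.node 2084 (BT.leaf cT2084) (BT.leaf cT2085))) (BT.node 2087 (BT.node 2086 (BT.leaf cT2086) (BT.leaf cT2087)) (BT.leaf cT2088))) (BT.node 2092 (BT.node 2090 (BT.node 2089 (BT.leaf cT2089) (BT.leaf cT2090)) (BT.node 2091 (BT.leaf cT2091) (BT.leaf cT2092))) (BT.node 2094 (BT.node 2093 (BT.leaf cT2093) (BT.leaf cT2094)) (BT.leaf cT2095)))) (BT.node 2102 (BT.node 2099 (BT.node 2097 (BT.node 2096 (BT.leaf cT2096) (BT.leaf cT2097)) (BT.node 2098 (BT.leaf cT2098) (BT.leaf cT2099))) (BT.node 2101 (BT.node 2100 (BT.leaf cT2100) (BT.leaf cT2101)) (BT.leaf cT2102))) (BT.node 2106 (BT.node 2104 (BT.node 2103 (BT.leaf cT2103) (BT.leaf cT2104)) (BT.node 2105 (BT.leaf cT2105) (BT.leaf cT2106))) (BT.node 2108 (BT.node 2107 (BT.leaf cT2107) (BT.leaf cT2108)) (BT.leaf cT2109))))) (BT.node 2123 (BT.node 2116 (BT.node 2113 (BT.node 2111 (BT.node 2110 (BT.leaf cT2110) (BT.leaf cT2111)) (BT.node 2112 (BT.leaf cT2112) (BT.leaf cT2113))) (BT.node 2115 (BT.node 2114 (BT.leaf cT2114) (BT.leaf cT2115)) (BT.leaf cT2116))) (BT.node 2120 (BT.node 2118 (BT.node 2117 (BT.leaf cT2117) (BT.leaf cT2118)) (BT.node 2119 (BT.leaf cT2119) (BT.leaf cT2120))) (BT.node 2122 (BT.node 2121 (BT.leaf cT2121) (BT.leaf cT2122)) (BT.leaf cT2123)))) (BT.node 2130 (BT.node 2127 (BT.node 2125 (BT.node 2124 (BT.leaf cT2124) (BT.leaf cT2125)) (BT.node 2126 (BT.leaf cT2126) (BT.leaf cT2127))) (BT.node 2129 (BT.node 2128 (BT.leaf cT2128) (BT.leaf cT2129)) (BT.leaf cT2130))) (BT.node 2134 (BT.node 2132 (BT.node 2131 (BT.leaf cT2131) (BT.leaf cT2132)) (BT.node 2133 (BT.leaf cT2133) (BT.leaf cT2134))) (BT.node 2136 (BT.node 2135 (BT.leaf cT2135) (BT.leaf cT2136)) (BT.leaf cT2137))))))) (BT.node 2193 (BT.node 2165 (BT.node 2151 (BT.node 2144 (BT.node 2141 (BT.node 2139 (BT.node 2138 (BT.leaf cT2138) (BT.leaf cT2139)) (BT.node 2140 (BT.leaf cT2140) (BT.leaf cT2141))) (BT.node 2143 (BT.node 2142 (BT.leaf cT2142) (BT.leaf cT2143)) (BT.leaf cT2144))) (BT.node 2148 (BT.node 2146 (BT.node 2145 (BT.leaf cT2145) (BT.leaf cT2146)) (BT.node 2147 (BT.leaf cT2147) (BT.leaf cT2148))) (BT.node 2150 (BT.node 2149 (BT.leaf cT2149) (BT.leaf cT2150)) (BT.leaf cT2151)))) (BT.node 2158 (BT.node 2155 (BT.node 2153 (BT.node 2152 (BT.leaf cT2152) (BT.leaf cT2153)) (BT.node 2154 (BT.leaf cT2154) (BT.leaf cT2155))) (BT.node 2157 (BT.node 2156 (BT.leaf cT2156) (BT.leaf cT2157)) (BT.leaf cT2158))) (BT.node 2162 (BT.node 2160 (BT.node 2159 (BT.leaf cT2159) (BT.leaf cT2160)) (BT.node 2161 (BT.leaf cT2161) (BT.leaf cT2162))) (BT.node 2164 (BT.node 2163 (BT.leaf cT2163) (BT.leaf cT2164)) (BT.leaf cT2165))))) (BT.node 2179 (BT.node 2172 (BT.node 2169 (BT.node 2167 (BT.node 2166 (BT.leaf cT2166) (BT.leaf cT2167)) (BT.node 2168 (BT.leaf cT2168) (BT.leaf cT2169))) (BT.node 2171 (BT.node 2170 (BT.leaf cT2170) (BT.leaf cT2171)) (BT.leaf cT2172))) (BT.node 2176 (BT.node 2174 (BT.node 2173 (BT.leaf cT2173) (BT.leaf cT2174)) (BT.node 2175 (BT.leaf cT2175) (BT.leaf cT2176))) (BT.node 2178 (BT.node 2177 (BT.leaf cT2177) (BT.leaf cT2178)) (BT.leaf cT2179)))) (BT.node 2186 (BT.node 2183 (BT.node 2181 (BT.node 2180 (BT.leaf cT2180) (BT.leaf cT2181)) (BT.node 2182 (BT.leaf cT2182) (BT.leaf cT2183))) (BT.node 2185 (BT.node 2184 (BT.leaf cT2184) (BT.leaf cT2185)) (BT.leaf cT2186))) (BT.node 2190 (BT.node 2188 (BT.node 2187 (BT.leaf cT2187) (BT.leaf cT2188)) (BT.node 2189 (BT.leaf cT2189) (BT.leaf cT2190))) (BT.node 2192 (BT.node 2191 (BT.leaf cT2191) (BT.leaf cT2192)) (BT.leaf cT2193)))))) (BT.node 2221 (BT.node 2207 (BT.node 2200 (BT.node 2197 (BT.node 2195 (BT.node 2194 (BT.leaf cT2194) (BT.leaf cT2195)) (BT.node 2196 (BT.leaf cT2196) (BT.leaf cT2197))) (BT.node 2199 (BT.node 2198 (BT.leaf cT2198) (BT.leaf cT2199)) (BT.leaf cT2200))) (BT.node 2204 (BT.node 2202 (BT.node 2201 (BT.leaf cT2201) (BT.leaf cT2202)) (BT.node 2203 (BT.leaf cT2203) (BT.leaf cT2204))) (BT.node 2206 (BT.node 2205 (BT.leaf cT2205) (BT.leaf cT2206)) (BT.leaf cT2207)))) (BT.node 2214 (BT.node 2211 (BT.node 2209 (BT.node 2208 (BT.leaf cT2208) (BT.leaf cT2209)) (BT.node 2210 (BT.leaf cT2210) (BT.leaf cT2211))) (BT.node 2213 (BT.node 2212 (BT.leaf cT2212) (BT.leaf cT2213)) (BT.leaf cT2214))) (BT.node 2218 (BT.node 2216 (BT.node 2215 (BT.leaf cT2215) (BT.leaf cT2216)) (BT.node 2217 (BT.leaf cT2217) (BT.leaf cT2218))) (BT.node 2220 (BT.node 2219 (BT.leaf cT2219) (BT.leaf cT2220)) (BT.leaf cT2221))))) (BT.node 2235 (BT.node 2228 (BT.node 2225 (BT.node 2223 (BT.node 2222 (BT.leaf cT2222) (BT.leaf cT2223)) (BT.node 2224 (BT.leaf cT2224) (BT.leaf cT2225))) (BT.node 2227 (BT.node 2226 (BT.leaf cT2226) (BT.leaf cT2227)) (BT.leaf cT2228))) (BT.node 2232 (BT.node 2230 (BT.node 2229 (BT.leaf cT2229) (BT.leaf cT2230)) (BT.node 2231 (BT.leaf cT2231) (BT.leaf cT2232))) (BT.node 2234 (BT.node 2233 (BT.leaf cT2233) (BT.leaf cT2234)) (BT.leaf cT2235)))) (BT.node 2242 (BT.node 2239 (BT.node 2237 (BT.node 2236 (BT.leaf cT2236) (BT.leaf cT2237)) (BT.node 2238 (BT.leaf cT2238) (BT.leaf cT2239))) (BT.node 2241 (BT.node 2240 (BT.leaf cT2240) (BT.leaf cT2241)) (BT.leaf cT2242))) (BT.node 2246 (BT.node 2244 (BT.node 2243 (BT.leaf cT2243) (BT.leaf cT2244)) (BT.node 2245 (BT.leaf cT2245) (BT.leaf cT2246))) (BT.node 2248 (BT.node 2247 (BT.leaf cT2247) (BT.leaf cT2248)) (BT.leaf cT2249))))))))) (BT.node 2474 (BT.node 2362 (BT.node 2306 (BT.node 2278 (BT.node 2264 (BT.node 2257 (BT.node 2253 (BT.node 2251 (BT.node 2250 (BT.leaf cT2250) (BT.leaf cT2251)) (BT.node 2252 (BT.leaf cT2252) (BT.leaf cT2253))) (BT.node 2255 (BT.node 2254 (BT.leaf cT2254) (BT.leaf cT2255)) (BT.node 2256 (BT.leaf cT2256) (BT.leaf cT2257)))) (BT.node 2261 (BT.node 2259 (BT.node 2258 (BT.leaf cT2258) (BT.leaf cT2259)) (BT.node 2260 (BT.leaf cT2260) (BT.leaf cT2261))) (BT.node 2263 (BT.node 2262 (BT.leaf cT2262) (BT.leaf cT2263)) (BT.leaf cT2264)))) (BT.node 2271 (BT.node 2268 (BT.node 2266 (BT.node 2265 (BT.leaf cT2265) (BT.leaf cT2266)) (BT.node 2267 (BT.leaf cT2267) (BT.leaf cT2268))) (BT.node 2270 (BT.node 2269 (BT.leaf cT2269) (BT.leaf cT2270)) (BT.leaf cT2271))) (BT.node 2275 (BT.node 2273 (BT.node 2272 (BT.leaf cT2272) (BT.leaf cT2273)) (BT.node 2274 (BT.leaf cT2274) (BT.leaf cT2275))) (BT.node 2277 (BT.node 2276 (BT.leaf cT2276) (BT.leaf cT2277)) (BT.leaf cT2278))))) (BT.node 2292 (BT.node 2285 (BT.node 2282 (BT.node 2280 (BT.node 2279 (BT.leaf cT2279) (BT.leaf cT2280)) (BT.node 2281 (BT.leaf cT2281) (BT.leaf cT2282))) (BT.node 2284 (BT.node 2283 (BT.leaf cT2283) (BT.leaf cT2284)) (BT.leaf cT2285))) (BT.node 2289 (BT.node 2287 (BT.node 2286 (BT.leaf cT2286) (BT.leaf cT2287)) (BT.node 2288 (BT.leaf cT2288) (BT.leaf cT2289))) (BT.node 2291 (BT.node 2290 (BT.leaf cT2290) (BT.leaf cT2291)) (BT.leaf cT2292)))) (BT.node 2299 (BT.node 2296 (BT.node 2294 (BT.node 2293 (BT.leaf cT2293) (BT.leaf cT2294)) (BT.node 2295 (BT.leaf cT2295) (BT.leaf cT2296))) (BT.node 2298 (BT.node 2297 (BT.leaf cT2297) (BT.leaf cT2298)) (BT.leaf cT2299))) (BT.node 2303 (BT.node 2301 (BT.node 2300 (BT.leaf cT2300) (BT.leaf cT2301)) (BT.node 2302 (BT.leaf cT2302) (BT.leaf cT2303))) (BT.node 2305 (BT.node 2304 (BT.leaf cT2304) (BT.leaf cT2305)) (BT.leaf cT2306)))))) (BT.node 2334 (BT.node 2320 (BT.node 2313 (BT.node 2310 (BT.node 2308 (BT.node 2307 (BT.leaf cT2307) (BT.leaf cT2308)) (BT.node 2309 (BT.leaf cT2309) (BT.leaf cT2310))) (BT.node 2312 (BT.node 2311 (BT.leaf cT2311) (BT.leaf cT2312)) (BT.leaf cT2313))) (BT.node 2317 (BT.node 2315 (BT.node 2314 (BT.leaf cT2314) (BT.leaf cT2315)) (BT.node 2316 (BT.leaf cT2316) (BT.leaf cT2317))) (BT.node 2319 (BT.node 2318 (BT.leaf cT2318) (BT.leaf cT2319)) (BT.leaf cT2320)))) (BT.node 2327 (BT.node 2324 (BT.node 2322 (BT.node 2321 (BT.leaf cT2321) (BT.leaf cT2322)) (BT.node 2323 (BT.leaf cT2323) (BT.leaf cT2324))) (BT.node 2326 (BT.node 2325 (BT.leaf cT2325) (BT.leaf cT2326)) (BT.leaf cT2327))) (BT.node 2331 (BT.node 2329 (BT.node 2328 (BT.leaf cT2328) (BT.leaf cT2329)) (BT.node 2330 (BT.leaf cT2330) (BT.leaf cT2331))) (BT.node 2333 (BT.node 2332 (BT.leaf cT2332) (BT.leaf cT2333)) (BT.leaf cT2334))))) (BT.node 2348 (BT.node 2341 (BT.node 2338 (BT.node 2336 (BT.node 2335 (BT.leaf cT2335) (BT.leaf cT2336)) (BT.node 2337 (BT.leaf cT2337) (BT.leaf cT2338))) (BT.node 2340 (BT.node 2339 (BT.leaf cT2339) (BT.leaf cT2340)) (BT.leaf cT2341))) (BT.node 2345 (BT.node 2343 (BT.node 2342 (BT.leaf cT2342) (BT.leaf cT2343)) (BT.node 2344 (BT.leaf cT2344) (BT.leaf cT2345))) (BT.node 2347 (BT.node 2346 (BT.leaf cT2346) (BT.leaf cT2347)) (BT.leaf cT2348)))) (BT.node 2355 (BT.node 2352 (BT.node 2350 (BT.node 2349 (BT.leaf cT2349) (BT.leaf cT2350)) (BT.node 2351 (BT.leaf cT2351) (BT.leaf cT2352))) (BT.node 2354 (BT.node 2353 (BT.leaf cT2353) (BT.leaf cT2354)) (BT.leaf cT2355))) (BT.node 2359 (BT.node 2357 (BT.node 2356 (BT.leaf cT2356) (BT.leaf cT2357)) (BT.node 2358 (BT.leaf cT2358) (BT.leaf cT2359))) (BT.node 2361 (BT.node 2360 (BT.leaf cT2360) (BT.leaf cT2361)) (BT.leaf cT2362))))))) (BT.node 2418 (BT.node 2390 (BT.node 2376 (BT.node 2369 (BT.node 2366 (BT.node 2364 (BT.node 2363 (BT.leaf cT2363) (BT.leaf cT2364)) (BT.node 2365 (BT.leaf cT2365) (BT.leaf cT2366))) (BT.node 2368 (BT.node 2367 (BT.leaf cT2367) (BT.leaf cT2368)) (BT.leaf cT2369))) (BT.node 2373 (BT.node 2371 (BT.node 2370 (BT.leaf cT2370) (BT.leaf cT2371)) (BT.node 2372 (BT.leaf cT2372) (BT.leaf cT2373))) (BT.node 2375 (BT.node 2374 (BT.leaf cT2374) (BT.leaf cT2375)) (BT.leaf cT2376)))) (BT.node 2383 (BT.node 2380 (BT.node 2378 (BT.node 2377 (BT.leaf cT2377) (BT.leaf cT2378)) (BT.node 2379 (BT.leaf cT2379) (BT.leaf cT2380))) (BT.node 2382 (BT.node 2381 (BT.leaf cT2381) (BT.leaf cT2382)) (BT.leaf cT2383))) (BT.node 2387 (BT.node 2385 (BT.node 2384 (BT.leaf cT2384) (BT.leaf cT2385)) (BT.node 2386 (BT.leaf cT2386) (BT.leaf cT2387))) (BT.node 2389 (BT.node 2388 (BT.leaf cT2388) (BT.leaf cT2389)) (BT.leaf cT2390))))) (BT.node 2404 (BT.node 2397 (BT.node 2394 (BT.node 2392 (BT.node 2391 (BT.leaf cT2391) (BT.leaf cT2392)) (BT.node 2393 (BT.leaf cT2393) (BT.leaf cT2394))) (BT.node 2396 (BT.node 2395 (BT.leaf cT2395) (BT.leaf cT2396)) (BT.leaf cT2397))) (BT.node 2401 (BT.node 2399 (BT.node 2398 (BT.leaf cT2398) (BT.leaf cT2399)) (BT.node 2400 (BT.leaf cT2400) (BT.leaf cT2401))) (BT.node 2403 (BT.node 2402 (BT.leaf cT2402) (BT.leaf cT2403)) (BT.leaf cT2404)))) (BT.node 2411 (BT.node 2408 (BT.node 2406 (BT.node 2405 (BT.leaf cT2405) (BT.leaf cT2406)) (BT.node 2407 (BT.leaf cT2407) (BT.leaf cT2408))) (BT.node 2410 (BT.node 2409 (BT.leaf cT2409) (BT.leaf cT2410)) (BT.leaf cT2411))) (BT.node 2415 (BT.node 2413 (BT.node 2412 (BT.leaf cT2412) (BT.leaf cT2413)) (BT.node 2414 (BT.leaf cT2414) (BT.leaf cT2415))) (BT.node 2417 (BT.node 2416 (BT.leaf cT2416) (BT.leaf cT2417)) (BT.leaf cT2418)))))) (BT.node 2446 (BT.node 2432 (BT.node 2425 (BT.node 2422 (BT.node 2420 (BT.node 2419 (BT.leaf cT2419) (BT.leaf cT2420)) (BT.node 2421 (BT.leaf cT2421) (BT.leaf cT2422))) (BT.node 2424 (BT.node 2423 (BT.leaf cT2423) (BT.leaf cT2424)) (BT.leaf cT2425))) (BT.node 2429 (BT.node 2427 (BT.node 2426 (BT.leaf cT2426) (BT.leaf cT2427)) (BT.node 2428 (BT.leaf cT2428) (BT.leaf cT2429))) (BT.node 2431 (BT.node 2430 (BT.leaf cT2430) (BT.leaf cT2431)) (BT.leaf cT2432)))) (BT.node 2439 (BT.node 2436 (BT.node 2434 (BT.node 2433 (BT.leaf cT2433) (BT.leaf cT2434)) (BT.node 2435 (BT.leaf cT2435) (BT.leaf cT2436))) (BT.node 2438 (BT.node 2437 (BT.leaf cT2437) (BT.leaf cT2438)) (BT.leaf cT2439))) (BT.node 2443 (BT.node 2441 (BT.node 2440 (BT.leaf cT2440) (BT.leaf cT2441)) (BT.node 2442 (BT.leaf cT2442) (BT.leaf cT2443))) (BT.node 2445 (BT.node 2444 (BT.leaf cT2444) (BT.leaf cT2445)) (BT.leaf cT2446))))) (BT.node 2460 (BT.node 2453 (BT.node 2450 (BT.node 2448 (BT.node 2447 (BT.leaf cT2447) (BT.leaf cT2448)) (BT.node 2449 (BT.leaf cT2449) (BT.leaf cT2450))) (BT.node 2452 (BT.node 2451 (BT.leaf cT2451) (BT.leaf cT2452)) (BT.leaf cT2453))) (BT.node 2457 (BT.node 2455 (BT.node 2454 (BT.leaf cT2454) (BT.leaf cT2455)) (BT.node 2456 (BT.leaf cT2456) (BT.leaf cT2457))) (BT.node 2459 (BT.node 2458 (BT.leaf cT2458) (BT.leaf cT2459)) (BT.leaf cT2460)))) (BT.node 2467 (BT.node 2464 (BT.node 2462 (BT.node 2461 (BT.leaf cT2461) (BT.leaf cT2462)) (BT.node 2463 (BT.leaf cT2463) (BT.leaf cT2464))) (BT.node 2466 (BT.node 2465 (BT.leaf cT2465) (BT.leaf cT2466)) (BT.leaf cT2467))) (BT.node 2471 (BT.node 2469 (BT.node 2468 (BT.leaf cT2468) (BT.leaf cT2469)) (BT.node 2470 (BT.leaf cT2470) (BT.leaf cT2471))) (BT.node 2473 (BT.node 2472 (BT.leaf cT2472) (BT.leaf cT2473)) (BT.leaf cT2474)))))))) (BT.node 2587 (BT.node 2531 (BT.node 2503 (BT.node 2489 (BT.node 2482 (BT.node 2478 (BT.node 2476 (BT.node 2475 (BT.leaf cT2475) (BT.leaf cT2476)) (BT.node 2477 (BT.leaf cT2477) (BT.leaf cT2478))) (BT.node 2480 (BT.node 2479 (BT.leaf cT2479) (BT.leaf cT2480)) (BT.node 2481 (BT.leaf cT2481) (BT.leaf cT2482)))) (BT.node 2486 (BT.node 2484 (BT.node 2483 (BT.leaf cT2483) (BT.leaf cT2484)) (BT.node 2485 (BT.leaf cT2485) (BT.leaf cT2486))) (BT.node 2488 (BT.node 2487 (BT.leaf cT2487) (BT.leaf cT2488)) (BT.leaf cT2489)))) (BT.node 2496 (BT.node 2493 (BT.node 2491 (BT.node 2490 (BT.leaf cT2490) (BT.leaf cT2491)) (BT.node 2492 (BT.leaf cT2492) (BT.leaf cT2493))) (BT.node 2495 (BT.node 2494 (BT.leaf cT2494) (BT.leaf cT2495)) (BT.leaf cT2496))) (BT.node 2500 (BT.node 2498 (BT.node 2497 (BT.leaf cT2497) (BT.leaf cT2498)) (BT.node 2499 (BT.leaf cT2499) (BT.leaf cT2500))) (BT.node 2502 (BT.node 2501 (BT.leaf cT2501) (BT.leaf cT2502)) (BT.leaf cT2503))))) (BT.node 2517 (BT.node 2510 (BT.node 2507 (BT.node 2505 (BT.node 2504 (BT.leaf cT2504) (BT.leaf cT2505)) (BT.node 2506 (BT.leaf cT2506) (BT.leaf cT2507))) (BT.node 2509 (BT.node 2508 (BT.leaf cT2508) (BT.leaf cT2509)) (BT.leaf cT2510))) (BT.node 2514 (BT.node 2512 (BT.node 2511 (BT.leaf cT2511) (BT.leaf cT2512)) (BT.node 2513 (BT.leaf cT2513) (BT.leaf cT2514))) (BT.node 2516 (BT.node 2515 (BT.leaf cT2515) (BT.leaf cT2516)) (BT.leaf cT2517)))) (BT.node 2524 (BT.node 2521 (BT.node 2519 (BT.node 2518 (BT.leaf cT2518) (BT.leaf cT2519)) (BT.node 2520 (BT.leaf cT2520) (BT.leaf cT2521))) (BT.node 2523 (BT.node 2522 (BT.leaf cT2522) (BT.leaf cT2523)) (BT.leaf cT2524))) (BT.node 2528 (BT.node 2526 (BT.node 2525 (BT.leaf cT2525) (BT.leaf cT2526)) (BT.node 2527 (BT.leaf cT2527) (BT.leaf cT2528))) (BT.node 2530 (BT.node 2529 (BT.leaf cT2529) (BT.leaf cT2530)) (BT.leaf cT2531)))))) (BT.node 2559 (BT.node 2545 (BT.node 2538 (BT.node 2535 (BT.node 2533 (BT.node 2532 (BT.leaf cT2532) (BT.leaf cT2533)) (BT.node 2534 (BT.leaf cT2534) (BT.leaf cT2535))) (BT.node 2537 (BT.node 2536 (BT.leaf cT2536) (BT.leaf cT2537)) (BT.leaf cT2538))) (BT.node 2542 (BT.node 2540 (BT.node 2539 (BT.leaf cT2539) (BT.leaf cT2540)) (BT.node 2541 (BT.leaf cT2541) (BT.leaf cT2542))) (BT.node 2544 (BT.node 2543 (BT.leaf cT2543) (BT.leaf cT2544)) (BT.leaf cT2545)))) (BT.node 2552 (BT.node 2549 (BT.node 2547 (BT.node 2546 (BT.leaf cT2546) (BT.leaf cT2547)) (BT.node 2548 (BT.leaf cT2548) (BT.leaf cT2549))) (BT.node 2551 (BT.node 2550 (BT.leaf cT2550) (BT.leaf cT2551)) (BT.leaf cT2552))) (BT.node 2556 (BT.node 2554 (BT.node 2553 (BT.leaf cT2553) (BT.leaf cT2554)) (BT.node 2555 (BT.leaf cT2555) (BT.leaf cT2556))) (BT.node 2558 (BT.node 2557 (BT.leaf cT2557) (BT.leaf cT2558)) (BT.leaf cT2559))))) (BT.node 2573 (BT.node 2566 (BT.node 2563 (BT.node 2561 (BT.node 2560 (BT.leaf cT2560) (BT.leaf cT2561)) (BT.node 2562 (BT.leaf cT2562) (BT.leaf cT2563))) (BT.node 2565 (BT.node 2564 (BT.leaf cT2564) (BT.leaf cT2565)) (BT.leaf cT2566))) (BT.node 2570 (BT.node 2568 (BT.node 2567 (BT.leaf cT2567) (BT.leaf cT2568)) (BT.node 2569 (BT.leaf cT2569) (BT.leaf cT2570))) (BT.node 2572 (BT.node 2571 (BT.leaf cT2571) (BT.leaf cT2572)) (BT.leaf cT2573)))) (BT.node 2580 (BT.node 2577 (BT.node 2575 (BT.node 2574 (BT.leaf cT2574) (BT.leaf cT2575)) (BT.node 2576 (BT.leaf cT2576) (BT.leaf cT2577))) (BT.node 2579 (BT.node 2578 (BT.leaf cT2578) (BT.leaf cT2579)) (BT.leaf cT2580))) (BT.node 2584 (BT.node 2582 (BT.node 2581 (BT.leaf cT2581) (BT.leaf cT2582)) (BT.node 2583 (BT.leaf cT2583) (BT.leaf cT2584))) (BT.node 2586 (BT.node 2585 (BT.leaf cT2585) (BT.leaf cT2586)) (BT.leaf cT2587))))))) (BT.node 2643 (BT.node 2615 (BT.node 2601 (BT.node 2594 (BT.node 2591 (BT.node 2589 (BT.node 2588 (BT.leaf cT2588) (BT.leaf cT2589)) (BT.node 2590 (BT.leaf cT2590) (BT.leaf cT2591))) (BT.node 2593 (BT.node 2592 (BT.leaf cT2592) (BT.leaf cT2593)) (BT.leaf cT2594))) (BT.node 2598 (BT.node 2596 (BT.node 2595 (BT.leaf cT2595) (BT.leaf cT2596)) (BT.node 2597 (BT.leaf cT2597) (BT.leaf cT2598))) (BT.node 2600 (BT.node 2599 (BT.leaf cT2599) (BT.leaf cT2600)) (BT.leaf cT2601)))) (BT.node 2608 (BT.node 2605 (BT.node 2603 (BT.node 2602 (BT.leaf cT2602) (BT.leaf cT2603)) (BT.node 2604 (BT.leaf cT2604) (BT.leaf cT2605))) (BT.node 2607 (BT.node 2606 (BT.leaf cT2606) (BT.leaf cT2607)) (BT.leaf cT2608))) (BT.node 2612 (BT.node 2610 (BT.node 2609 (BT.leaf cT2609) (BT.leaf cT2610)) (BT.node 2611 (BT.leaf cT2611) (BT.leaf cT2612))) (BT.node 2614 (BT.node 2613 (BT.leaf cT2613) (BT.leaf cT2614)) (BT.leaf cT2615))))) (BT.node 2629 (BT.node 2622 (BT.node 2619 (BT.node 2617 (BT.node 2616 (BT.leaf cT2616) (BT.leaf cT2617)) (BT.node 2618 (BT.leaf cT2618) (BT.leaf cT2619))) (BT.node 2621 (BT.node 2620 (BT.leaf cT2620) (BT.leaf cT2621)) (BT.leaf cT2622))) (BT.node 2626 (BT.node 2624 (BT.node 2623 (BT.leaf cT2623) (BT.leaf cT2624)) (BT.node 2625 (BT.leaf cT2625) (BT.leaf cT2626))) (BT.node 2628 (BT.node 2627 (BT.leaf cT2627) (BT.leaf cT2628)) (BT.leaf cT2629)))) (BT.node 2636 (BT.node 2633 (BT.node 2631 (BT.node 2630 (BT.leaf cT2630) (BT.leaf cT2631)) (BT.node 2632 (BT.leaf cT2632) (BT.leaf cT2633))) (BT.node 2635 (BT.node 2634 (BT.leaf cT2634) (BT.leaf cT2635)) (BT.leaf cT2636))) (BT.node 2640 (BT.node 2638 (BT.node 2637 (BT.leaf cT2637) (BT.leaf cT2638)) (BT.node 2639 (BT.leaf cT2639) (BT.leaf cT2640))) (BT.node 2642 (BT.node 2641 (BT.leaf cT2641) (BT.leaf cT2642)) (BT.leaf cT2643)))))) (BT.node 2671 (BT.node 2657 (BT.node 2650 (BT.node 2647 (BT.node 2645 (BT.node 2644 (BT.leaf cT2644) (BT.leaf cT2645)) (BT.node 2646 (BT.leaf cT2646) (BT.leaf cT2647))) (BT.node 2649 (BT.node 2648 (BT.leaf cT2648) (BT.leaf cT2649)) (BT.leaf cT2650))) (BT.node 2654 (BT.node 2652 (BT.node 2651 (BT.leaf cT2651) (BT.leaf cT2652)) (BT.node 2653 (BT.leaf cT2653) (BT.leaf cT2654))) (BT.node 2656 (BT.node 2655 (BT.leaf cT2655) (BT.leaf cT2656)) (BT.leaf cT2657)))) (BT.node 2664 (BT.node 2661 (BT.node 2659 (BT.node 2658 (BT.leaf cT2658) (BT.leaf cT2659)) (BT.node 2660 (BT.leaf cT2660) (BT.leaf cT2661))) (BT.node 2663 (BT.node 2662 (BT.leaf cT2662) (BT.leaf cT2663)) (BT.leaf cT2664))) (BT.node 2668 (BT.node 2666 (BT.node 2665 (BT.leaf cT2665) (BT.leaf cT2666)) (BT.node 2667 (BT.leaf cT2667) (BT.leaf cT2668))) (BT.node 2670 (BT.node 2669 (BT.leaf cT2669) (BT.leaf cT2670)) (BT.leaf cT2671))))) (BT.node 2685 (BT.node 2678 (BT.node 2675 (BT.node 2673 (BT.node 2672 (BT.leaf cT2672) (BT.leaf cT2673)) (BT.node 2674 (BT.leaf cT2674) (BT.leaf cT2675))) (BT.node 2677 (BT.node 2676 (BT.leaf cT2676) (BT.leaf cT2677)) (BT.leaf cT2678))) (BT.node 2682 (BT.node 2680 (BT.node 2679 (BT.leaf cT2679) (BT.leaf cT2680)) (BT.node 2681 (BT.leaf cT2681) (BT.leaf cT2682))) (BT.node 2684 (BT.node 2683 (BT.leaf cT2683) (BT.leaf cT2684)) (BT.leaf cT2685)))) (BT.node 2692 (BT.node 2689 (BT.node 2687 (BT.node 2686 (BT.leaf cT2686) (BT.leaf cT2687)) (BT.node 2688 (BT.leaf cT2688) (BT.leaf cT2689))) (BT.node 2691 (BT.node 2690 (BT.leaf cT2690) (BT.leaf cT2691)) (BT.leaf cT2692))) (BT.node 2696 (BT.node 2694 (BT.node 2693 (BT.leaf cT2693) (BT.leaf cT2694)) (BT.node 2695 (BT.leaf cT2695) (BT.leaf cT2696))) (BT.node 2698 (BT.node 2697 (BT.leaf cT2697) (BT.leaf cT2698)) (BT.leaf cT2699)))))))))) (BT.node 3149 (BT.node 2924 (BT.node 2812 (BT.node 2756 (BT.node 2728 (BT.node 2714 (BT.node 2707 (BT.node 2703 (BT.node 2701 (BT.node 2700 (BT.leaf cT2700) (BT.leaf cT2701)) (BT.node 2702 (BT.leaf cT2702) (BT.leaf cT2703))) (BT.node 2705 (BT.node 2704 (BT.leaf cT2704) (BT.leaf cT2705)) (BT.node 2706 (BT.leaf cT2706) (BT.leaf cT2707)))) (BT.node 2711 (BT.node 2709 (BT.node 2708 (BT.leaf cT2708) (BT.leaf cT2709)) (BT.node 2710 (BT.leaf cT2710) (BT.leaf cT2711))) (BT.node 2713 (BT.node 2712 (BT.leaf cT2712) (BT.leaf cT2713)) (BT.leaf cT2714)))) (BT.node 2721 (BT.node 2718 (BT.node 2716 (BT.node 2715 (BT.leaf cT2715) (BT.leaf cT2716)) (BT.node 2717 (BT.leaf cT2717) (BT.leaf cT2718))) (BT.node 2720 (BT.node 2719 (BT.leaf cT2719) (BT.leaf cT2720)) (BT.leaf cT2721))) (BT.node 2725 (BT.node 2723 (BT.node 2722 (BT.leaf cT2722) (BT.leaf cT2723)) (BT.node 2724 (BT.leaf cT2724) (BT.leaf cT2725))) (BT.node 2727 (BT.node 2726 (BT.leaf cT2726) (BT.leaf cT2727)) (BT.leaf cT2728))))) (BT.node 2742 (BT.node 2735 (BT.node 2732 (BT.node 2730 (BT.node 2729 (BT.leaf cT2729) (BT.leaf cT2730)) (BT.node 2731 (BT.leaf cT2731) (BT.leaf cT2732))) (BT.node 2734 (BT.node 2733 (BT.leaf cT2733) (BT.leaf cT2734)) (BT.leaf cT2735))) (BT.node 2739 (BT.node 2737 (BT.node 2736 (BT.leaf cT2736) (BT.leaf cT2737)) (BT.node 2738 (BT.leaf cT2738) (BT.leaf cT2739))) (BT.node 2741 (BT.node 2740 (BT.leaf cT2740) (BT.leaf cT2741)) (BT.leaf cT2742)))) (BT.node 2749 (BT.node 2746 (BT.node 2744 (BT.node 2743 (BT.leaf cT2743) (BT.leaf cT2744)) (BT.node 2745 (BT.leaf cT2745) (BT.leaf cT2746))) (BT.node 2748 (BT.node 2747 (BT.leaf cT2747) (BT.leaf cT2748)) (BT.leaf cT2749))) (BT.node 2753 (BT.node 2751 (BT.node 2750 (BT.leaf cT2750) (BT.leaf cT2751)) (BT.node 2752 (BT.leaf cT2752) (BT.leaf cT2753))) (BT.node 2755 (BT.node 2754 (BT.leaf cT2754) (BT.leaf cT2755)) (BT.leaf cT2756)))))) (BT.node 2784 (BT.node 2770 (BT.node 2763 (BT.node 2760 (BT.node 2758 (BT.node 2757 (BT.leaf cT2757) (BT.leaf cT2758)) (BT.node 2759 (BT.leaf cT2759) (BT.leaf cT2760))) (BT.node 2762 (BT.node 2761 (BT.leaf cT2761) (BT.leaf cT2762)) (BT.leaf cT2763))) (BT.node 2767 (BT.node 2765 (BT.node 2764 (BT.leaf cT2764) (BT.leaf cT2765)) (BT.node 2766 (BT.leaf cT2766) (BT.leaf cT2767))) (BT.node 2769 (BT.node 2768 (BT.leaf cT2768) (BT.leaf cT2769)) (BT.leaf cT2770)))) (BT.node 2777 (BT.node 2774 (BT.node 2772 (BT.node 2771 (BT.leaf cT2771) (BT.leaf cT2772)) (BT.node 2773 (BT.leaf cT2773) (BT.leaf cT2774))) (BT.node 2776 (BT.node 2775 (BT.leaf cT2775) (BT.leaf cT2776)) (BT.leaf cT2777))) (BT.node 2781 (BT.node 2779 (BT.node 2778 (BT.leaf cT2778) (BT.leaf cT2779)) (BT.node 2780 (BT.leaf cT2780) (BT.leaf cT2781))) (BT.node 2783 (BT.node 2782 (BT.leaf cT2782) (BT.leaf cT2783)) (BT.leaf cT2784))))) (BT.node 2798 (BT.node 2791 (BT.node 2788 (BT.node 2786 (BT.node 2785 (BT.leaf cT2785) (BT.leaf cT2786)) (BT.node 2787 (BT.leaf cT2787) (BT.leaf cT2788))) (BT.node 2790 (BT.node 2789 (BT.leaf cT2789) (BT.leaf cT2790)) (BT.leaf cT2791))) (BT.node 2795 (BT.node 2793 (BT.node 2792 (BT.leaf cT2792) (BT.leaf cT2793)) (BT.node 2794 (BT.leaf cT2794) (BT.leaf cT2795))) (BT.node 2797 (BT.node 2796 (BT.leaf cT2796) (BT.leaf cT2797)) (BT.leaf cT2798)))) (BT.node 2805 (BT.node 2802 (BT.node 2800 (BT.node 2799 (BT.leaf cT2799) (BT.leaf cT2800)) (BT.node 2801 (BT.leaf cT2801) (BT.leaf cT2802))) (BT.node 2804 (BT.node 2803 (BT.leaf cT2803) (BT.leaf cT2804)) (BT.leaf cT2805))) (BT.node 2809 (BT.node 2807 (BT.node 2806 (BT.leaf cT2806) (BT.leaf cT2807)) (BT.node 2808 (BT.leaf cT2808) (BT.leaf cT2809))) (BT.node 2811 (BT.node 2810 (BT.leaf cT2810) (BT.leaf cT2811)) (BT.leaf cT2812))))))) (BT.node 2868 (BT.node 2840 (BT.node 2826 (BT.node 2819 (BT.node 2816 (BT.node 2814 (BT.node 2813 (BT.leaf cT2813) (BT.leaf cT2814)) (BT.node 2815 (BT.leaf cT2815) (BT.leaf cT2816))) (BT.node 2818 (BT.node 2817 (BT.leaf cT2817) (BT.leaf cT2818)) (BT.leaf cT2819))) (BT.node 2823 (BT.node 2821 (BT.node 2820 (BT.leaf cT2820) (BT.leaf cT2821)) (BT.node 2822 (BT.leaf cT2822) (BT.leaf cT2823))) (BT.node 2825 (BT.node 2824 (BT.leaf cT2824) (BT.leaf cT2825)) (BT.leaf cT2826)))) (BT.node 2833 (BT.node 2830 (BT.node 2828 (BT.node 2827 (BT.leaf cT2827) (BT.leaf cT2828)) (BT.node 2829 (BT.leaf cT2829) (BT.leaf cT2830))) (BT.node 2832 (BT.node 2831 (BT.leaf cT2831) (BT.leaf cT2832)) (BT.leaf cT2833))) (BT.node 2837 (BT.node 2835 (BT.node 2834 (BT.leaf cT2834) (BT.leaf cT2835)) (BT.node 2836 (BT.leaf cT2836) (BT.leaf cT2837))) (BT.node 2839 (BT.node 2838 (BT.leaf cT2838) (BT.leaf cT2839)) (BT.leaf cT2840))))) (BT.node 2854 (BT.node 2847 (BT.node 2844 (BT.node 2842 (BT.node 2841 (BT.leaf cT2841) (BT.leaf cT2842)) (BT.node 2843 (BT.leaf cT2843) (BT.leaf cT2844))) (BT.node 2846 (BT.node 2845 (BT.leaf cT2845) (BT.leaf cT2846)) (BT.leaf cT2847))) (BT.node 2851 (BT.node 2849 (BT.node 2848 (BT.leaf cT2848) (BT.leaf cT2849)) (BT.node 2850 (BT.leaf cT2850) (BT.leaf cT2851))) (BT.node 2853 (BT.node 2852 (BT.leaf cT2852) (BT.leaf cT2853)) (BT.leaf cT2854)))) (BT.node 2861 (BT.node 2858 (BT.node 2856 (BT.node 2855 (BT.leaf cT2855) (BT.leaf cT2856)) (BT.node 2857 (BT.leaf cT2857) (BT.leaf cT2858))) (BT.node 2860 (BT.node 2859 (BT.leaf cT2859) (BT.leaf cT2860)) (BT.leaf cT2861))) (BT.node 2865 (BT.node 2863 (BT.node 2862 (BT.leaf cT2862) (BT.leaf cT2863)) (BT.node 2864 (BT.leaf cT2864) (BT.leaf cT2865))) (BT.node 2867 (BT.node 2866 (BT.leaf cT2866) (BT.leaf cT2867)) (BT.leaf cT2868)))))) (BT.node 2896 (BT.node 2882 (BT.node 2875 (BT.node 2872 (BT.node 2870 (BT.node 2869 (BT.leaf cT2869) (BT.leaf cT2870)) (BT.node 2871 (BT.leaf cT2871) (BT.leaf cT2872))) (BT.node 2874 (BT.node 2873 (BT.leaf cT2873) (BT.leaf cT2874)) (BT.leaf cT2875))) (BT.node 2879 (BT.node 2877 (BT.node 2876 (BT.leaf cT2876) (BT.leaf cT2877)) (BT.node 2878 (BT.leaf cT2878) (BT.leaf cT2879))) (BT.node 2881 (BT.node 2880 (BT.leaf cT2880) (BT.leaf cT2881)) (BT.leaf cT2882)))) (BT.node 2889 (BT.node 2886 (BT.node 2884 (BT.node 2883 (BT.leaf cT2883) (BT.leaf cT2884)) (BT.node 2885 (BT.leaf cT2885) (BT.leaf cT2886))) (BT.node 2888 (BT.node 2887 (BT.leaf cT2887) (BT.leaf cT2888)) (BT.leaf cT2889))) (BT.node 2893 (BT.node 2891 (BT.node 2890 (BT.leaf cT2890) (BT.leaf cT2891)) (BT.node 2892 (BT.leaf cT2892) (BT.leaf cT2893))) (BT.node 2895 (BT.node 2894 (BT.leaf cT2894) (BT.leaf cT2895)) (BT.leaf cT2896))))) (BT.node 2910 (BT.node 2903 (BT.node 2900 (BT.node 2898 (BT.node 2897 (BT.leaf cT2897) (BT.leaf cT2898)) (BT.node 2899 (BT.leaf cT2899) (BT.leaf cT2900))) (BT.node 2902 (BT.node 2901 (BT.leaf cT2901) (BT.leaf cT2902)) (BT.leaf cT2903))) (BT.node 2907 (BT.node 2905 (BT.node 2904 (BT.leaf cT2904) (BT.leaf cT2905)) (BT.node 2906 (BT.leaf cT2906) (BT.leaf cT2907))) (BT.node 2909 (BT.node 2908 (BT.leaf cT2908) (BT.leaf cT2909)) (BT.leaf cT2910)))) (BT.node 2917 (BT.node 2914 (BT.node 2912 (BT.node 2911 (BT.leaf cT2911) (BT.leaf cT2912)) (BT.node 2913 (BT.leaf cT2913) (BT.leaf cT2914))) (BT.node 2916 (BT.node 2915 (BT.leaf cT2915) (BT.leaf cT2916)) (BT.leaf cT2917))) (BT.node 2921 (BT.node 2919 (BT.node 2918 (BT.leaf cT2918) (BT.leaf cT2919)) (BT.node 2920 (BT.leaf cT2920) (BT.leaf cT2921))) (BT.node 2923 (BT.node 2922 (BT.leaf cT2922) (BT.leaf cT2923)) (BT.leaf cT2924)))))))) (BT.node 3037 (BT.node 2981 (BT.node 2953 (BT.node 2939 (BT.node 2932 (BT.node 2928 (BT.node 2926 (BT.node 2925 (BT.leaf cT2925) (BT.leaf cT2926)) (BT.node 2927 (BT.leaf cT2927) (BT.leaf cT2928))) (BT.node 2930 (BT.node 2929 (BT.leaf cT2929) (BT.leaf cT2930)) (BT.node 2931 (BT.leaf cT2931) (BT.leaf cT2932)))) (BT.node 2936 (BT.node 2934 (BT.node 2933 (BT.leaf cT2933) (BT.leaf cT2934)) (BT.node 2935 (BT.leaf cT2935) (BT.leaf cT2936))) (BT.node 2938 (BT.node 2937 (BT.leaf cT2937) (BT.leaf cT2938)) (BT.leaf cT2939)))) (BT.node 2946 (BT.node 2943 (BT.node 2941 (BT.node 2940 (BT.leaf cT2940) (BT.leaf cT2941)) (BT.node 2942 (BT.leaf cT2942) (BT.leaf cT2943))) (BT.node 2945 (BT.node 2944 (BT.leaf cT2944) (BT.leaf cT2945)) (BT.leaf cT2946))) (BT.node 2950 (BT.node 2948 (BT.node 2947 (BT.leaf cT2947) (BT.leaf cT2948)) (BT.node 2949 (BT.leaf cT2949) (BT.leaf cT2950))) (BT.node 2952 (BT.node 2951 (BT.leaf cT2951) (BT.leaf cT2952)) (BT.leaf cT2953))))) (BT.node 2967 (BT.node 2960 (BT.node 2957 (BT.node 2955 (BT.node 2954 (BT.leaf cT2954) (BT.leaf cT2955)) (BT.node 2956 (BT.leaf cT2956) (BT.leaf cT2957))) (BT.node 2959 (BT.node 2958 (BT.leaf cT2958) (BT.leaf cT2959)) (BT.leaf cT2960))) (BT.node 2964 (BT.node 2962 (BT.node 2961 (BT.leaf cT2961) (BT.leaf cT2962)) (BT.node 2963 (BT.leaf cT2963) (BT.leaf cT2964))) (BT.node 2966 (BT.node 2965 (BT.leaf cT2965) (BT.leaf cT2966)) (BT.leaf cT2967)))) (BT.node 2974 (BT.node 2971 (BT.node 2969 (BT.node 2968 (BT.leaf cT2968) (BT.leaf cT2969)) (BT.node 2970 (BT.leaf cT2970) (BT.leaf cT2971))) (BT.node 2973 (BT.node 2972 (BT.leaf cT2972) (BT.leaf cT2973)) (BT.leaf cT2974))) (BT.node 2978 (BT.node 2976 (BT.node 2975 (BT.leaf cT2975) (BT.leaf cT2976)) (BT.node 2977 (BT.leaf cT2977) (BT.leaf cT2978))) (BT.node 2980 (BT.node 2979 (BT.leaf cT2979) (BT.leaf cT2980)) (BT.leaf cT2981)))))) (BT.node 3009 (BT.node 2995 (BT.node 2988 (BT.node 2985 (BT.node 2983 (BT.node 2982 (BT.leaf cT2982) (BT.leaf cT2983)) (BT.node 2984 (BT.leaf cT2984) (BT.leaf cT2985))) (BT.node 2987 (BT.node 2986 (BT.leaf cT2986) (BT.leaf cT2987)) (BT.leaf cT2988))) (BT.node 2992 (BT.node 2990 (BT.node 2989 (BT.leaf cT2989) (BT.leaf cT2990)) (BT.node 2991 (BT.leaf cT2991) (BT.leaf cT2992))) (BT.node 2994 (BT.node 2993 (BT.leaf cT2993) (BT.leaf cT2994)) (BT.leaf cT2995)))) (BT.node 3002 (BT.node 2999 (BT.node 2997 (BT.node 2996 (BT.leaf cT2996) (BT.leaf cT2997)) (BT.node 2998 (BT.leaf cT2998) (BT.leaf cT2999))) (BT.node 3001 (BT.node 3000 (BT.leaf cT3000) (BT.leaf cT3001)) (BT.leaf cT3002))) (BT.node 3006 (BT.node 3004 (BT.node 3003 (BT.leaf cT3003) (BT.leaf cT3004)) (BT.node 3005 (BT.leaf cT3005) (BT.leaf cT3006))) (BT.node 3008 (BT.node 3007 (BT.leaf cT3007) (BT.leaf cT3008)) (BT.leaf cT3009))))) (BT.node 3023 (BT.node 3016 (BT.node 3013 (BT.node 3011 (BT.node 3010 (BT.leaf cT3010) (BT.leaf cT3011)) (BT.node 3012 (BT.leaf cT3012) (BT.leaf cT3013))) (BT.node 3015 (BT.node 3014 (BT.leaf cT3014) (BT.leaf cT3015)) (BT.leaf cT3016))) (BT.node 3020 (BT.node 3018 (BT.node 3017 (BT.leaf cT3017) (BT.leaf cT3018)) (BT.node 3019 (BT.leaf cT3019) (BT.leaf cT3020))) (BT.node 3022 (BT.node 3021 (BT.leaf cT3021) (BT.leaf cT3022)) (BT.leaf cT3023)))) (BT.node 3030 (BT.node 3027 (BT.node 3025 (BT.node 3024 (BT.leaf cT3024) (BT.leaf cT3025)) (BT.node 3026 (BT.leaf cT3026) (BT.leaf cT3027))) (BT.node 3029 (BT.node 3028 (BT.leaf cT3028) (BT.leaf cT3029)) (BT.leaf cT3030))) (BT.node 3034 (BT.node 3032 (BT.node 3031 (BT.leaf cT3031) (BT.leaf cT3032)) (BT.node 3033 (BT.leaf cT3033) (BT.leaf cT3034))) (BT.node 3036 (BT.node 3035 (BT.leaf cT3035) (BT.leaf cT3036)) (BT.leaf cT3037))))))) (BT.node 3093 (BT.node 3065 (BT.node 3051 (BT.node 3044 (BT.node 3041 (BT.node 3039 (BT.node 3038 (BT.leaf cT3038) (BT.leaf cT3039)) (BT.node 3040 (BT.leaf cT3040) (BT.leaf cT3041))) (BT.node 3043 (BT.node 3042 (BT.leaf cT3042) (BT.leaf cT3043)) (BT.leaf cT3044))) (BT.node 3048 (BT.node 3046 (BT.node 3045 (BT.leaf cT3045) (BT.leaf cT3046)) (BT.node 3047 (BT.leaf cT3047) (BT.leaf cT3048))) (BT.node 3050 (BT.node 3049 (BT.leaf cT3049) (BT.leaf cT3050)) (BT.leaf cT3051)))) (BT.node 3058 (BT.node 3055 (BT.node 3053 (BT.node 3052 (BT.leaf cT3052) (BT.leaf cT3053)) (BT.node 3054 (BT.leaf cT3054) (BT.leaf cT3055))) (BT.node 3057 (BT.node 3056 (BT.leaf cT3056) (BT.leaf cT3057)) (BT.leaf cT3058))) (BT.node 3062 (BT.node 3060 (BT.node 3059 (BT.leaf cT3059) (BT.leaf cT3060)) (BT.node 3061 (BT.leaf cT3061) (BT.leaf cT3062))) (BT.node 3064 (BT.node 3063 (BT.leaf cT3063) (BT.leaf cT3064)) (BT.leaf cT3065))))) (BT.node 3079 (BT.node 3072 (BT.node 3069 (BT.node 3067 (BT.node 3066 (BT.leaf cT3066) (BT.leaf cT3067)) (BT.node 3068 (BT.leaf cT3068) (BT.leaf cT3069))) (BT.node 3071 (BT.node 3070 (BT.leaf cT3070) (BT.leaf cT3071)) (BT.leaf cT3072))) (BT.node 3076 (BT.node 3074 (BT.node 3073 (BT.leaf cT3073) (BT.leaf cT3074)) (BT.node 3075 (BT.leaf cT3075) (BT.leaf cT3076))) (BT.node 3078 (BT.node 3077 (BT.leaf cT3077) (BT.leaf cT3078)) (BT.leaf cT3079)))) (BT.node 3086 (BT.node 3083 (BT.node 3081 (BT.node 3080 (BT.leaf cT3080) (BT.leaf cT3081)) (BT.node 3082 (BT.leaf cT3082) (BT.leaf cT3083))) (BT.node 3085 (BT.node 3084 (BT.leaf cT3084) (BT.leaf cT3085)) (BT.leaf cT3086))) (BT.node 3090 (BT.node 3088 (BT.node 3087 (BT.leaf cT3087) (BT.leaf cT3088)) (BT.node 3089 (BT.leaf cT3089) (BT.leaf cT3090))) (BT.node 3092 (BT.node 3091 (BT.leaf cT3091) (BT.leaf cT3092)) (BT.leaf cT3093)))))) (BT.node 3121 (BT.node 3107 (BT.node 3100 (BT.node 3097 (BT.node 3095 (BT.node 3094 (BT.leaf cT3094) (BT.leaf cT3095)) (BT.node 3096 (BT.leaf cT3096) (BT.leaf cT3097))) (BT.node 3099 (BT.node 3098 (BT.leaf cT3098) (BT.leaf cT3099)) (BT.leaf cT3100))) (BT.node 3104 (BT.node 3102 (BT.node 3101 (BT.leaf cT3101) (BT.leaf cT3102)) (BT.node 3103 (BT.leaf cT3103) (BT.leaf cT3104))) (BT.node 3106 (BT.node 3105 (BT.leaf cT3105) (BT.leaf cT3106)) (BT.leaf cT3107)))) (BT.node 3114 (BT.node 3111 (BT.node 3109 (BT.node 3108 (BT.leaf cT3108) (BT.leaf cT3109)) (BT.node 3110 (BT.leaf cT3110) (BT.leaf cT3111))) (BT.node 3113 (BT.node 3112 (BT.leaf cT3112) (BT.leaf cT3113)) (BT.leaf cT3114))) (BT.node 3118 (BT.node 3116 (BT.node 3115 (BT.leaf cT3115) (BT.leaf cT3116)) (BT.node 3117 (BT.leaf cT3117) (BT.leaf cT3118))) (BT.node 3120 (BT.node 3119 (BT.leaf cT3119) (BT.leaf cT3120)) (BT.leaf cT3121))))) (BT.node 3135 (BT.node 3128 (BT.node 3125 (BT.node 3123 (BT.node 3122 (BT.leaf cT3122) (BT.leaf cT3123)) (BT.node 3124 (BT.leaf cT3124) (BT.leaf cT3125))) (BT.node 3127 (BT.node 3126 (BT.leaf cT3126) (BT.leaf cT3127)) (BT.leaf cT3128))) (BT.node 3132 (BT.node 3130 (BT.node 3129 (BT.leaf cT3129) (BT.leaf cT3130)) (BT.node 3131 (BT.leaf cT3131) (BT.leaf cT3132))) (BT.node 3134 (BT.node 3133 (BT.leaf cT3133) (BT.leaf cT3134)) (BT.leaf cT3135)))) (BT.node 3142 (BT.node 3139 (BT.node 3137 (BT.node 3136 (BT.leaf cT3136) (BT.leaf cT3137)) (BT.node 3138 (BT.leaf cT3138) (BT.leaf cT3139))) (BT.node 3141 (BT.node 3140 (BT.leaf cT3140) (BT.leaf cT3141)) (BT.leaf cT3142))) (BT.node 3146 (BT.node 3144 (BT.node 3143 (BT.leaf cT3143) (BT.leaf cT3144)) (BT.node 3145 (BT.leaf cT3145) (BT.leaf cT3146))) (BT.node 3148 (BT.node 3147 (BT.leaf cT3147) (BT.leaf cT3148)) (BT.leaf cT3149))))))))) (BT.node 3374 (BT.node 3262 (BT.node 3206 (BT.node 3178 (BT.node 3164 (BT.node 3157 (BT.node 3153 (BT.node 3151 (BT.node 3150 (BT.leaf cT3150) (BT.leaf cT3151)) (BT.node 3152 (BT.leaf cT3152) (BT.leaf cT3153))) (BT.node 3155 (BT.node 3154 (BT.leaf cT3154) (BT.leaf cT3155)) (BT.node 3156 (BT.leaf cT3156) (BT.leaf cT3157)))) (BT.node 3161 (BT.node 3159 (BT.node 3158 (BT.leaf cT3158) (BT.leaf cT3159)) (BT.node 3160 (BT.leaf cT3160) (BT.leaf cT3161))) (BT.node 3163 (BT.node 3162 (BT.leaf cT3162) (BT.leaf cT3163)) (BT.leaf cT3164)))) (BT.node 3171 (BT.node 3168 (BT.node 3166 (BT.node 3165 (BT.leaf cT3165) (BT.leaf cT3166)) (BT.node 3167 (BT.leaf cT3167) (BT.leaf cT3168))) (BT.node 3170 (BT.node 3169 (BT.leaf cT3169) (BT.leaf cT3170)) (BT.leaf cT3171))) (BT.node 3175 (BT.node 3173 (BT.node 3172 (BT.leaf cT3172) (BT.leaf cT3173)) (BT.node 3174 (BT.leaf cT3174) (BT.leaf cT3175))) (BT.node 3177 (BT.node 3176 (BT.leaf cT3176) (BT.leaf cT3177)) (BT.leaf cT3178))))) (BT.node 3192 (BT.node 3185 (BT.node 3182 (BT.node 3180 (BT.node 3179 (BT.leaf cT3179) (BT.leaf cT3180)) (BT.node 3181 (BT.leaf cT3181) (BT.leaf cT3182))) (BT.node 3184 (BT.node 3183 (BT.leaf cT3183) (BT.leaf cT3184)) (BT.leaf cT3185))) (BT.node 3189 (BT.node 3187 (BT.node 3186 (BT.leaf cT3186) (BT.leaf cT3187)) (BT.node 3188 (BT.leaf cT3188) (BT.leaf cT3189))) (BT.node 3191 (BT.node 3190 (BT.leaf cT3190) (BT.leaf cT3191)) (BT.leaf cT3192)))) (BT.node 3199 (BT.node 3196 (BT.node 3194 (BT.node 3193 (BT.leaf cT3193) (BT.leaf cT3194)) (BT.node 3195 (BT.leaf cT3195) (BT.leaf cT3196))) (BT.node 3198 (BT.node 3197 (BT.leaf cT3197) (BT.leaf cT3198)) (BT.leaf cT3199))) (BT.node 3203 (BT.node 3201 (BT.node 3200 (BT.leaf cT3200) (BT.leaf cT3201)) (BT.node 3202 (BT.leaf cT3202) (BT.leaf cT3203))) (BT.node 3205 (BT.node 3204 (BT.leaf cT3204) (BT.leaf cT3205)) (BT.leaf cT3206)))))) (BT.node 3234 (BT.node 3220 (BT.node 3213 (BT.node 3210 (BT.node 3208 (BT.node 3207 (BT.leaf cT3207) (BT.leaf cT3208)) (BT.node 3209 (BT.leaf cT3209) (BT.leaf cT3210))) (BT.node 3212 (BT.node 3211 (BT.leaf cT3211) (BT.leaf cT3212)) (BT.leaf cT3213))) (BT.node 3217 (BT.node 3215 (BT.node 3214 (BT.leaf cT3214) (BT.leaf cT3215)) (BT.node 3216 (BT.leaf cT3216) (BT.leaf cT3217))) (BT.node 3219 (BT.node 3218 (BT.leaf cT3218) (BT.leaf cT3219)) (BT.leaf cT3220)))) (BT.node 3227 (BT.node 3224 (BT.node 3222 (BT.node 3221 (BT.leaf cT3221) (BT.leaf cT3222)) (BT.node 3223 (BT.leaf cT3223) (BT.leaf cT3224))) (BT.node 3226 (BT.node 3225 (BT.leaf cT3225) (BT.leaf cT3226)) (BT.leaf cT3227))) (BT.node 3231 (BT.node 3229 (BT.node 3228 (BT.leaf cT3228) (BT.leaf cT3229)) (BT.node 3230 (BT.leaf cT3230) (BT.leaf cT3231))) (BT.node 3233 (BT.node 3232 (BT.leaf cT3232) (BT.leaf cT3233)) (BT.leaf cT3234))))) (BT.node 3248 (BT.node 3241 (BT.node 3238 (BT.node 3236 (BT.node 3235 (BT.leaf cT3235) (BT.leaf cT3236)) (BT.node 3237 (BT.leaf cT3237) (BT.leaf cT3238))) (BT.node 3240 (BT.node 3239 (BT.leaf cT3239) (BT.leaf cT3240)) (BT.leaf cT3241))) (BT.node 3245 (BT.node 3243 (BT.node 3242 (BT.leaf cT3242) (BT.leaf cT3243)) (BT.node 3244 (BT.leaf cT3244) (BT.leaf cT3245))) (BT.node 3247 (BT.node 3246 (BT.leaf cT3246) (BT.leaf cT3247)) (BT.leaf cT3248)))) (BT.node 3255 (BT.node 3252 (BT.node 3250 (BT.node 3249 (BT.leaf cT3249) (BT.leaf cT3250)) (BT.node 3251 (BT.leaf cT3251) (BT.leaf cT3252))) (BT.node 3254 (BT.node 3253 (BT.leaf cT3253) (BT.leaf cT3254)) (BT.leaf cT3255))) (BT.node 3259 (BT.node 3257 (BT.node 3256 (BT.leaf cT3256) (BT.leaf cT3257)) (BT.node 3258 (BT.leaf cT3258) (BT.leaf cT3259))) (BT.node 3261 (BT.node 3260 (BT.leaf cT3260) (BT.leaf cT3261)) (BT.leaf cT3262))))))) (BT.node 3318 (BT.node 3290 (BT.node 3276 (BT.node 3269 (BT.node 3266 (BT.node 3264 (BT.node 3263 (BT.leaf cT3263) (BT.leaf cT3264)) (BT.node 3265 (BT.leaf cT3265) (BT.leaf cT3266))) (BT.node 3268 (BT.node 3267 (BT.leaf cT3267) (BT.leaf cT3268)) (BT.leaf cT3269))) (BT.node 3273 (BT.node 3271 (BT.node 3270 (BT.leaf cT3270) (BT.leaf cT3271)) (BT.node 3272 (BT.leaf cT3272) (BT.leaf cT3273))) (BT.node 3275 (BT.node 3274 (BT.leaf cT3274) (BT.leaf cT3275)) (BT.leaf cT3276)))) (BT.node 3283 (BT.node 3280 (BT.node 3278 (BT.node 3277 (BT.leaf cT3277) (BT.leaf cT3278)) (BT.node 3279 (BT.leaf cT3279) (BT.leaf cT3280))) (BT.node 3282 (BT.node 3281 (BT.leaf cT3281) (BT.leaf cT3282)) (BT.leaf cT3283))) (BT.node 3287 (BT.node 3285 (BT.node 3284 (BT.leaf cT3284) (BT.leaf cT3285)) (BT.node 3286 (BT.leaf cT3286) (BT.leaf cT3287))) (BT.node 3289 (BT.node 3288 (BT.leaf cT3288) (BT.leaf cT3289)) (BT.leaf cT3290))))) (BT.node 3304 (BT.node 3297 (BT.node 3294 (BT.node 3292 (BT.node 3291 (BT.leaf cT3291) (BT.leaf cT3292)) (BT.node 3293 (BT.leaf cT3293) (BT.leaf cT3294))) (BT.node 3296 (BT.node 3295 (BT.leaf cT3295) (BT.leaf cT3296)) (BT.leaf cT3297))) (BT.node 3301 (BT.node 3299 (BT.node 3298 (BT.leaf cT3298) (BT.leaf cT3299)) (BT.node 3300 (BT.leaf cT3300) (BT.leaf cT3301))) (BT.node 3303 (BT.node 3302 (BT.leaf cT3302) (BT.leaf cT3303)) (BT.leaf cT3304)))) (BT.node 3311 (BT.node 3308 (BT.node 3306 (BT.node 3305 (BT.leaf cT3305) (BT.leaf cT3306)) (BT.node 3307 (BT.leaf cT3307) (BT.leaf cT3308))) (BT.node 3310 (BT.node 3309 (BT.leaf cT3309) (BT.leaf cT3310)) (BT.leaf cT3311))) (BT.node 3315 (BT.node 3313 (BT.node 3312 (BT.leaf cT3312) (BT.leaf cT3313)) (BT.node 3314 (BT.leaf cT3314) (BT.leaf cT3315))) (BT.node 3317 (BT.node 3316 (BT.leaf cT3316) (BT.leaf cT3317)) (BT.leaf cT3318)))))) (BT.node 3346 (BT.node 3332 (BT.node 3325 (BT.node 3322 (BT.node 3320 (BT.node 3319 (BT.leaf cT3319) (BT.leaf cT3320)) (BT.node 3321 (BT.leaf cT3321) (BT.leaf cT3322))) (BT.node 3324 (BT.node 3323 (BT.leaf cT3323) (BT.leaf cT3324)) (BT.leaf cT3325))) (BT.node 3329 (BT.node 3327 (BT.node 3326 (BT.leaf cT3326) (BT.leaf cT3327)) (BT.node 3328 (BT.leaf cT3328) (BT.leaf cT3329))) (BT.node 3331 (BT.node 3330 (BT.leaf cT3330) (BT.leaf cT3331)) (BT.leaf cT3332)))) (BT.node 3339 (BT.node 3336 (BT.node 3334 (BT.node 3333 (BT.leaf cT3333) (BT.leaf cT3334)) (BT.node 3335 (BT.leaf cT3335) (BT.leaf cT3336))) (BT.node 3338 (BT.node 3337 (BT.leaf cT3337) (BT.leaf cT3338)) (BT.leaf cT3339))) (BT.node 3343 (BT.node 3341 (BT.node 3340 (BT.leaf cT3340) (BT.leaf cT3341)) (BT.node 3342 (BT.leaf cT3342) (BT.leaf cT3343))) (BT.node 3345 (BT.node 3344 (BT.leaf cT3344) (BT.leaf cT3345)) (BT.leaf cT3346))))) (BT.node 3360 (BT.node 3353 (BT.node 3350 (BT.node 3348 (BT.node 3347 (BT.leaf cT3347) (BT.leaf cT3348)) (BT.node 3349 (BT.leaf cT3349) (BT.leaf cT3350))) (BT.node 3352 (BT.node 3351 (BT.leaf cT3351) (BT.leaf cT3352)) (BT.leaf cT3353))) (BT.node 3357 (BT.node 3355 (BT.node 3354 (BT.leaf cT3354) (BT.leaf cT3355)) (BT.node 3356 (BT.leaf cT3356) (BT.leaf cT3357))) (BT.node 3359 (BT.node 3358 (BT.leaf cT3358) (BT.leaf cT3359)) (BT.leaf cT3360)))) (BT.node 3367 (BT.node 3364 (BT.node 3362 (BT.node 3361 (BT.leaf cT3361) (BT.leaf cT3362)) (BT.node 3363 (BT.leaf cT3363) (BT.leaf cT3364))) (BT.node 3366 (BT.node 3365 (BT.leaf cT3365) (BT.leaf cT3366)) (BT.leaf cT3367))) (BT.node 3371 (BT.node 3369 (BT.node 3368 (BT.leaf cT3368) (BT.leaf cT3369)) (BT.node 3370 (BT.leaf cT3370) (BT.leaf cT3371))) (BT.node 3373 (BT.node 3372 (BT.leaf cT3372) (BT.leaf cT3373)) (BT.leaf cT3374)))))))) (BT.node 3487 (BT.node 3431 (BT.node 3403 (BT.node 3389 (BT.node 3382 (BT.node 3378 (BT.node 3376 (BT.node 3375 (BT.leaf cT3375) (BT.leaf cT3376)) (BT.node 3377 (BT.leaf cT3377) (BT.leaf cT3378))) (BT.node 3380 (BT.node 3379 (BT.leaf cT3379) (BT.leaf cT3380)) (BT.node 3381 (BT.leaf cT3381) (BT.leaf cT3382)))) (BT.node 3386 (BT.node 3384 (BT.node 3383 (BT.leaf cT3383) (BT.leaf cT3384)) (BT.node 3385 (BT.leaf cT3385) (BT.leaf cT3386))) (BT.node 3388 (BT.node 3387 (BT.leaf cT3387) (BT.leaf cT3388)) (BT.leaf cT3389)))) (BT.node 3396 (BT.node 3393 (BT.node 3391 (BT.node 3390 (BT.leaf cT3390) (BT.leaf cT3391)) (BT.node 3392 (BT.leaf cT3392) (BT.leaf cT3393))) (BT.node 3395 (BT.node 3394 (BT.leaf cT3394) (BT.leaf cT3395)) (BT.leaf cT3396))) (BT.node 3400 (BT.node 3398 (BT.node 3397 (BT.leaf cT3397) (BT.leaf cT3398)) (BT.node 3399 (BT.leaf cT3399) (BT.leaf cT3400))) (BT.node 3402 (BT.node 3401 (BT.leaf cT3401) (BT.leaf cT3402)) (BT.leaf cT3403))))) (BT.node 3417 (BT.node 3410 (BT.node 3407 (BT.node 3405 (BT.node 3404 (BT.leaf cT3404) (BT.leaf cT3405)) (BT.node 3406 (BT.leaf cT3406) (BT.leaf cT3407))) (BT.node 3409 (BT.node 3408 (BT.leaf cT3408) (BT.leaf cT3409)) (BT.leaf cT3410))) (BT.node 3414 (BT.node 3412 (BT.node 3411 (BT.leaf cT3411) (BT.leaf cT3412)) (BT.node 3413 (BT.leaf cT3413) (BT.leaf cT3414))) (BT.node 3416 (BT.node 3415 (BT.leaf cT3415) (BT.leaf cT3416)) (BT.leaf cT3417)))) (BT.node 3424 (BT.node 3421 (BT.node 3419 (BT.node 3418 (BT.leaf cT3418) (BT.leaf cT3419)) (BT.node 3420 (BT.leaf cT3420) (BT.leaf cT3421))) (BT.node 3423 (BT.node 3422 (BT.leaf cT3422) (BT.leaf cT3423)) (BT.leaf cT3424))) (BT.node 3428 (BT.node 3426 (BT.node 3425 (BT.leaf cT3425) (BT.leaf cT3426)) (BT.node 3427 (BT.leaf cT3427) (BT.leaf cT3428))) (BT.node 3430 (BT.node 3429 (BT.leaf cT3429) (BT.leaf cT3430)) (BT.leaf cT3431)))))) (BT.node 3459 (BT.node 3445 (BT.node 3438 (BT.node 3435 (BT.node 3433 (BT.node 3432 (BT.leaf cT3432) (BT.leaf cT3433)) (BT.node 3434 (BT.leaf cT3434) (BT.leaf cT3435))) (BT.node 3437 (BT.node 3436 (BT.leaf cT3436) (BT.leaf cT3437)) (BT.leaf cT3438))) (BT.node 3442 (BT.node 3440 (BT.node 3439 (BT.leaf cT3439) (BT.leaf cT3440)) (BT.node 3441 (BT.leaf cT3441) (BT.leaf cT3442))) (BT.node 3444 (BT.node 3443 (BT.leaf cT3443) (BT.leaf cT3444)) (BT.leaf cT3445)))) (BT.node 3452 (BT.node 3449 (BT.node 3447 (BT.node 3446 (BT.leaf cT3446) (BT.leaf cT3447)) (BT.node 3448 (BT.leaf cT3448) (BT.leaf cT3449))) (BT.node 3451 (BT.node 3450 (BT.leaf cT3450) (BT.leaf cT3451)) (BT.leaf cT3452))) (BT.node 3456 (BT.node 3454 (BT.node 3453 (BT.leaf cT3453) (BT.leaf cT3454)) (BT.node 3455 (BT.leaf cT3455) (BT.leaf cT3456))) (BT.node 3458 (BT.node 3457 (BT.leaf cT3457) (BT.leaf cT3458)) (BT.leaf cT3459))))) (BT.node 3473 (BT.node 3466 (BT.node 3463 (BT.node 3461 (BT.node 3460 (BT.leaf cT3460) (BT.leaf cT3461)) (BT.node 3462 (BT.leaf cT3462) (BT.leaf cT3463))) (BT.node 3465 (BT.node 3464 (BT.leaf cT3464) (BT.leaf cT3465)) (BT.leaf cT3466))) (BT.node 3470 (BT.node 3468 (BT.node 3467 (BT.leaf cT3467) (BT.leaf cT3468)) (BT.node 3469 (BT.leaf cT3469) (BT.leaf cT3470))) (BT.node 3472 (BT.node 3471 (BT.leaf cT3471) (BT.leaf cT3472)) (BT.leaf cT3473)))) (BT.node 3480 (BT.node 3477 (BT.node 3475 (BT.node 3474 (BT.leaf cT3474) (BT.leaf cT3475)) (BT.node 3476 (BT.leaf cT3476) (BT.leaf cT3477))) (BT.node 3479 (BT.node 3478 (BT.leaf cT3478) (BT.leaf cT3479)) (BT.leaf cT3480))) (BT.node 3484 (BT.node 3482 (BT.node 3481 (BT.leaf cT3481) (BT.leaf cT3482)) (BT.node 3483 (BT.leaf cT3483) (BT.leaf cT3484))) (BT.node 3486 (BT.node 3485 (BT.leaf cT3485) (BT.leaf cT3486)) (BT.leaf cT3487))))))) (BT.node 3543 (BT.node 3515 (BT.node 3501 (BT.node 3494 (BT.node 3491 (BT.node 3489 (BT.node 3488 (BT.leaf cT3488) (BT.leaf cT3489)) (BT.node 3490 (BT.leaf cT3490) (BT.leaf cT3491))) (BT.node 3493 (BT.node 3492 (BT.leaf cT3492) (BT.leaf cT3493)) (BT.leaf cT3494))) (BT.node 3498 (BT.node 3496 (BT.node 3495 (BT.leaf cT3495) (BT.leaf cT3496)) (BT.node 3497 (BT.leaf cT3497) (BT.leaf cT3498))) (BT.node 3500 (BT.node 3499 (BT.leaf cT3499) (BT.leaf cT3500)) (BT.leaf cT3501)))) (BT.node 3508 (BT.node 3505 (BT.node 3503 (BT.node 3502 (BT.leaf cT3502) (BT.leaf cT3503)) (BT.node 3504 (BT.leaf cT3504) (BT.leaf cT3505))) (BT.node 3507 (BT.node 3506 (BT.leaf cT3506) (BT.leaf cT3507)) (BT.leaf cT3508))) (BT.node 3512 (BT.node 3510 (BT.node 3509 (BT.leaf cT3509) (BT.leaf cT3510)) (BT.node 3511 (BT.leaf cT3511) (BT.leaf cT3512))) (BT.node 3514 (BT.node 3513 (BT.leaf cT3513) (BT.leaf cT3514)) (BT.leaf cT3515))))) (BT.node 3529 (BT.node 3522 (BT.node 3519 (BT.node 3517 (BT.node 3516 (BT.leaf cT3516) (BT.leaf cT3517)) (BT.node 3518 (BT.leaf cT3518) (BT.leaf cT3519))) (BT.node 3521 (BT.node 3520 (BT.leaf cT3520) (BT.leaf cT3521)) (BT.leaf cT3522))) (BT.node 3526 (BT.node 3524 (BT.node 3523 (BT.leaf cT3523) (BT.leaf cT3524)) (BT.node 3525 (BT.leaf cT3525) (BT.leaf cT3526))) (BT.node 3528 (BT.node 3527 (BT.leaf cT3527) (BT.leaf cT3528)) (BT.leaf cT3529)))) (BT.node 3536 (BT.node 3533 (BT.node 3531 (BT.node 3530 (BT.leaf cT3530) (BT.leaf cT3531)) (BT.node 3532 (BT.leaf cT3532) (BT.leaf cT3533))) (BT.node 3535 (BT.node 3534 (BT.leaf cT3534) (BT.leaf cT3535)) (BT.leaf cT3536))) (BT.node 3540 (BT.node 3538 (BT.node 3537 (BT.leaf cT3537) (BT.leaf cT3538)) (BT.node 3539 (BT.leaf cT3539) (BT.leaf cT3540))) (BT.node 3542 (BT.node 3541 (BT.leaf cT3541) (BT.leaf cT3542)) (BT.leaf cT3543)))))) (BT.node 3571 (BT.node 3557 (BT.node 3550 (BT.node 3547 (BT.node 3545 (BT.node 3544 (BT.leaf cT3544) (BT.leaf cT3545)) (BT.node 3546 (BT.leaf cT3546) (BT.leaf cT3547))) (BT.node 3549 (BT.node 3548 (BT.leaf cT3548) (BT.leaf cT3549)) (BT.leaf cT3550))) (BT.node 3554 (BT.node 3552 (BT.node 3551 (BT.leaf cT3551) (BT.leaf cT3552)) (BT.node 3553 (BT.leaf cT3553) (BT.leaf cT3554))) (BT.node 3556 (BT.node 3555 (BT.leaf cT3555) (BT.leaf cT3556)) (BT.leaf cT3557)))) (BT.node 3564 (BT.node 3561 (BT.node 3559 (BT.node 3558 (BT.leaf cT3558) (BT.leaf cT3559)) (BT.node 3560 (BT.leaf cT3560) (BT.leaf cT3561))) (BT.node 3563 (BT.node 3562 (BT.leaf cT3562) (BT.leaf cT3563)) (BT.leaf cT3564))) (BT.node 3568 (BT.node 3566 (BT.node 3565 (BT.leaf cT3565) (BT.leaf cT3566)) (BT.node 3567 (BT.leaf cT3567) (BT.leaf cT3568))) (BT.node 3570 (BT.node 3569 (BT.leaf cT3569) (BT.leaf cT3570)) (BT.leaf cT3571))))) (BT.node 3585 (BT.node 3578 (BT.node 3575 (BT.node 3573 (BT.node 3572 (BT.leaf cT3572) (BT.leaf cT3573)) (BT.node 3574 (BT.leaf cT3574) (BT.leaf cT3575))) (BT.node 3577 (BT.node 3576 (BT.leaf cT3576) (BT.leaf cT3577)) (BT.leaf cT3578))) (BT.node 3582 (BT.node 3580 (BT.node 3579 (BT.leaf cT3579) (BT.leaf cT3580)) (BT.node 3581 (BT.leaf cT3581) (BT.leaf cT3582))) (BT.node 3584 (BT.node 3583 (BT.leaf cT3583) (BT.leaf cT3584)) (BT.leaf cT3585)))) (BT.node 3592 (BT.node 3589 (BT.node 3587 (BT.node 3586 (BT.leaf cT3586) (BT.leaf cT3587)) (BT.node 3588 (BT.leaf cT3588) (BT.leaf cT3589))) (BT.node 3591 (BT.node 3590 (BT.leaf cT3590) (BT.leaf cT3591)) (BT.leaf cT3592))) (BT.node 3596 (BT.node 3594 (BT.node 3593 (BT.leaf cT3593) (BT.leaf cT3594)) (BT.node 3595 (BT.leaf cT3595) (BT.leaf cT3596))) (BT.node 3598 (BT.node 3597 (BT.leaf cT3597) (BT.leaf cT3598)) (BT.leaf cT3599))))))))))))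
/-- spanning tree chunks -/
def treeT : BT ℕ := (BT.node 149 (BT.node 74 (BT.node 37 (BT.node 18 (BT.node 9 (BT.node 4 (BT.node 2 (BT.node 1 (BT.node 0 (BT.leaf cR0) (BT.leaf cR1)) (BT.leaf cR2)) (BT.node 3 (BT.leaf cR3) (BT.leaf cR4))) (BT.node 7 (BT.node 6 (BT.node 5 (BT.leaf cR5) (BT.leaf cR6)) (BT.leaf cR7)) (BT.node 8 (BT.leaf cR8) (BT.leaf cR9)))) (BT.node 14 (BT.node 12 (BT.node 11 (BT.node 10 (BT.leaf cR10) (BT.leaf cR11)) (BT.leaf cR12)) (BT.node 13 (BT.leaf cR13) (BT.leaf cR14))) (BT.node 16 (BT.node 15 (BT.leaf cR15) (BT.leaf cR16)) (BT.node 17 (BT.leaf cR17) (BT.leaf cR18))))) (BT.node 28 (BT.node 23 (BT.node 21 (BT.node 20 (BT.node 19 (BT.leaf cR19) (BT.leaf cR20)) (BT.leaf cR21)) (BT.node 22 (BT.leaf cR22) (BT.leaf cR23))) (BT.node 26 (BT.node 25 (BT.node 24 (BT.leaf cR24) (BT.leaf cR25)) (BT.leaf cR26)) (BT.node 27 (BT.leaf cR27) (BT.leaf cR28)))) (BT.node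 33 (BT.node 31 (BT.node 30 (BT.node 29 (BT.leaf cR29) (BT.leaf cR30)) (BT.leaf cR31)) (BT.node 32 (BT.leaf cR32) (BT.leaf cR33))) (BT.node 35 (BT.node 34 (BT.leaf cR34) (BT.leaf cR35)) (BT.node 36 (BT.leaf cR36) (BT.leaf cR37)))))) (BT.node 56 (BT.node 47 (BT.node 42 (BT.node 40 (BT.node 39 (BT.node 38 (BT.leaf cR38) (BT.leaf cR39)) (BT.leaf cR40)) (BT.node 41 (BT.leaf cR41) (BT.leaf cR42))) (BT.node 45 (BT.node 44 (BT.node 43 (BT.leaf cR43) (BT.leaf cR44)) (BT.leaf cR45)) (BT.node 46 (BT.leaf cR46) (BT.leaf cR47)))) (BT.node 52 (BT.node 50 (BT.node 49 (BT.node 48 (BT.leaf cR48) (BT.leaf cR49)) (BT.leaf cR50)) (BT.node 51 (BT.leaf cR51) (BT.leaf cR52))) (BT.node 54 (BT.node 53 (BT.leaf cR53) (BT.leaf cR54)) (BT.node 55 (BT.leaf cR55) (BT.leaf cR56))))) (BT.node 65 (BT.node 61 (BT.node 59 (BT.node 58 (BT.node 57 (BT.leaf cR57) (BT.leaf cR58)) (BT.leaf cR59)) (BT.node 60 (BT.leaf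 cR60) (BT.leaf cR61))) (BT.node 63 (BT.node 62 (BT.leaf cR62) (BT.leaf cR63)) (BT.node 64 (BT.leaf cR64) (BT.leaf cR65)))) (BT.node 70 (BT.node 68 (BT.node 67 (BT.node 66 (BT.leaf cR66) (BT.leaf cR67)) (BT.leaf cR68)) (BT.node 69 (BT.leaf cR69) (BT.leaf cR70))) (BT.node 72 (BT.node 71 (BT.leaf cR71) (BT.leaf cR72)) (BT.node 73 (BT.leaf cR73) (BT.leaf cR74))))))) (BT.node 112 (BT.node 93 (BT.node 84 (BT.node 79 (BT.node 77 (BT.node 76 (BT.node 75 (BT.leaf cR75) (BT.leaf cR76)) (BT.leaf cR77)) (BT.node 78 (BT.leaf cR78) (BT.leaf cR79))) (BT.node 82 (BT.node 81 (BT.node 80 (BT.leaf cR80) (BT.leaf cR81)) (BT.leaf cR82)) (BT.node 83 (BT.leaf cR83) (BT.leaf cR84)))) (BT.node 89 (BT.node 87 (BT.node 86 (BT.node 85 (BT.leaf cR85) (BT.leaf cR86)) (BT.leaf cR87)) (BT.node 88 (BT.leaf cR88) (BT.leaf cR89))) (BT.node 91 (BT.node 90 (BT.leaf cR90) (BT.leaf cR91)) (BT.node 92 (BT.leaf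 cR92) (BT.leaf cR93))))) (BT.node 103 (BT.node 98 (BT.node 96 (BT.node 95 (BT.node 94 (BT.leaf cR94) (BT.leaf cR95)) (BT.leaf cR96)) (BT.node 97 (BT.leaf cR97) (BT.leaf cR98))) (BT.node 101 (BT.node 100 (BT.node 99 (BT.leaf cR99) (BT.leaf cR100)) (BT.leaf cR101)) (BT.node 102 (BT.leaf cR102) (BT.leaf cR103)))) (BT.node 108 (BT.node 106 (BT.node 105 (BT.node 104 (BT.leaf cR104) (BT.leaf cR105)) (BT.leaf cR106)) (BT.node 107 (BT.leaf cR107) (BT.leaf cR108))) (BT.node 110 (BT.node 109 (BT.leaf cR109) (BT.leaf cR110)) (BT.node 111 (BT.leaf cR111) (BT.leaf cR112)))))) (BT.node 131 (BT.node 122 (BT.node 117 (BT.node 115 (BT.node 114 (BT.node 113 (BT.leaf cR113) (BT.leaf cR114)) (BT.leaf cR115)) (BT.node 116 (BT.leaf cR116) (BT.leaf cR117))) (BT.node 120 (BT.node 119 (BT.node 118 (BT.leaf cR118) (BT.leaf cR119)) (BT.leaf cR120)) (BT.node 121 (BT.leaf cR121) (BT.leaf cR122)))) (BT.node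 127 (BT.node 125 (BT.node 124 (BT.node 123 (BT.leaf cR123) (BT.leaf cR124)) (BT.leaf cR125)) (BT.node 126 (BT.leaf cR126) (BT.leaf cR127))) (BT.node 129 (BT.node 128 (BT.leaf cR128) (BT.leaf cR129)) (BT.node 130 (BT.leaf cR130) (BT.leaf cR131))))) (BT.node 140 (BT.node 136 (BT.node 134 (BT.node 133 (BT.node 132 (BT.leaf cR132) (BT.leaf cR133)) (BT.leaf cR134)) (BT.node 135 (BT.leaf cR135) (BT.leaf cR136))) (BT.node 138 (BT.node 137 (BT.leaf cR137) (BT.leaf cR138)) (BT.node 139 (BT.leaf cR139) (BT.leaf cR140)))) (BT.node 145 (BT.node 143 (BT.node 142 (BT.node 141 (BT.leaf cR141) (BT.leaf cR142)) (BT.leaf cR143)) (BT.node 144 (BT.leaf cR144) (BT.leaf cR145))) (BT.node 147 (BT.node 146 (BT.leaf cR146) (BT.leaf cR147)) (BT.node 148 (BT.leaf cR148) (BT.leaf cR149)))))))) (BT.node 224 (BT.node 187 (BT.node 168 (BT.node 159 (BT.node 154 (BT.node 152 (BT.node 151 (BT.node 150 (BT.leaf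 cR150) (BT.leaf cR151)) (BT.leaf cR152)) (BT.node 153 (BT.leaf cR153) (BT.leaf cR154))) (BT.node 157 (BT.node 156 (BT.node 155 (BT.leaf cR155) (BT.leaf cR156)) (BT.leaf cR157)) (BT.node 158 (BT.leaf cR158) (BT.leaf cR159)))) (BT.node 164 (BT.node 162 (BT.node 161 (BT.node 160 (BT.leaf cR160) (BT.leaf cR161)) (BT.leaf cR162)) (BT.node 163 (BT.leaf cR163) (BT.leaf cR164))) (BT.node 166 (BT.node 165 (BT.leaf cR165) (BT.leaf cR166)) (BT.node 167 (BT.leaf cR167) (BT.leaf cR168))))) (BT.node 178 (BT.node 173 (BT.node 171 (BT.node 170 (BT.node 169 (BT.leaf cR169) (BT.leaf cR170)) (BT.leaf cR171)) (BT.node 172 (BT.leaf cR172) (BT.leaf cR173))) (BT.node 176 (BT.node 175 (BT.node 174 (BT.leaf cR174) (BT.leaf cR175)) (BT.leaf cR176)) (BT.node 177 (BT.leaf cR177) (BT.leaf cR178)))) (BT.node 183 (BT.node 181 (BT.node 180 (BT.node 179 (BT.leaf cR179) (BT.leaf cR180)) (BT.leaf cR181))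 (BT.node 182 (BT.leaf cR182) (BT.leaf cR183))) (BT.node 185 (BT.node 184 (BT.leaf cR184) (BT.leaf cR185)) (BT.node 186 (BT.leaf cR186) (BT.leaf cR187)))))) (BT.node 206 (BT.node 197 (BT.node 192 (BT.node 190 (BT.node 189 (BT.node 188 (BT.leaf cR188) (BT.leaf cR189)) (BT.leaf cR190)) (BT.node 191 (BT.leaf cR191) (BT.leaf cR192))) (BT.node 195 (BT.node 194 (BT.node 193 (BT.leaf cR193) (BT.leaf cR194)) (BT.leaf cR195)) (BT.node 196 (BT.leaf cR196) (BT.leaf cR197)))) (BT.node 202 (BT.node 200 (BT.node 199 (BT.node 198 (BT.leaf cR198) (BT.leaf cR199)) (BT.leaf cR200)) (BT.node 201 (BT.leaf cR201) (BT.leaf cR202))) (BT.node 204 (BT.node 203 (BT.leaf cR203) (BT.leaf cR204)) (BT.node 205 (BT.leaf cR205) (BT.leaf cR206))))) (BT.node 215 (BT.node 211 (BT.node 209 (BT.node 208 (BT.node 207 (BT.leaf cR207) (BT.leaf cR208)) (BT.leaf cR209)) (BT.node 210 (BT.leaf cR210) (BT.leaf cR211)))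 (BT.node 213 (BT.node 212 (BT.leaf cR212) (BT.leaf cR213)) (BT.node 214 (BT.leaf cR214) (BT.leaf cR215)))) (BT.node 220 (BT.node 218 (BT.node 217 (BT.node 216 (BT.leaf cR216) (BT.leaf cR217)) (BT.leaf cR218)) (BT.node 219 (BT.leaf cR219) (BT.leaf cR220))) (BT.node 222 (BT.node 221 (BT.leaf cR221) (BT.leaf cR222)) (BT.node 223 (BT.leaf cR223) (BT.leaf cR224))))))) (BT.node 262 (BT.node 243 (BT.node 234 (BT.node 229 (BT.node 227 (BT.node 226 (BT.node 225 (BT.leaf cR225) (BT.leaf cR226)) (BT.leaf cR227)) (BT.node 228 (BT.leaf cR228) (BT.leaf cR229))) (BT.node 232 (BT.node 231 (BT.node 230 (BT.leaf cR230) (BT.leaf cR231)) (BT.leaf cR232)) (BT.node 233 (BT.leaf cR233) (BT.leaf cR234)))) (BT.node 239 (BT.node 237 (BT.node 236 (BT.node 235 (BT.leaf cR235) (BT.leaf cR236)) (BT.leaf cR237)) (BT.node 238 (BT.leaf cR238) (BT.leaf cR239))) (BT.node 241 (BT.node 240 (BT.leaf cR240) (BT.leaf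 cR241)) (BT.node 242 (BT.leaf cR242) (BT.leaf cR243))))) (BT.node 253 (BT.node 248 (BT.node 246 (BT.node 245 (BT.node 244 (BT.leaf cR244) (BT.leaf cR245)) (BT.leaf cR246)) (BT.node 247 (BT.leaf cR247) (BT.leaf cR248))) (BT.node 251 (BT.node 250 (BT.node 249 (BT.leaf cR249) (BT.leaf cR250)) (BT.leaf cR251)) (BT.node 252 (BT.leaf cR252) (BT.leaf cR253)))) (BT.node 258 (BT.node 256 (BT.node 255 (BT.node 254 (BT.leaf cR254) (BT.leaf cR255)) (BT.leaf cR256)) (BT.node 257 (BT.leaf cR257) (BT.leaf cR258))) (BT.node 260 (BT.node 259 (BT.leaf cR259) (BT.leaf cR260)) (BT.node 261 (BT.leaf cR261) (BT.leaf cR262)))))) (BT.node 281 (BT.node 272 (BT.node 267 (BT.node 265 (BT.node 264 (BT.node 263 (BT.leaf cR263) (BT.leaf cR264)) (BT.leaf cR265)) (BT.node 266 (BT.leaf cR266) (BT.leaf cR267))) (BT.node 270 (BT.node 269 (BT.node 268 (BT.leaf cR268) (BT.leaf cR269)) (BT.leaf cR270)) (BT.node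 271 (BT.leaf cR271) (BT.leaf cR272)))) (BT.node 277 (BT.node 275 (BT.node 274 (BT.node 273 (BT.leaf cR273) (BT.leaf cR274)) (BT.leaf cR275)) (BT.node 276 (BT.leaf cR276) (BT.leaf cR277))) (BT.node 279 (BT.node 278 (BT.leaf cR278) (BT.leaf cR279)) (BT.node 280 (BT.leaf cR280) (BT.leaf cR281))))) (BT.node 290 (BT.node 286 (BT.node 284 (BT.node 283 (BT.node 282 (BT.leaf cR282) (BT.leaf cR283)) (BT.leaf cR284)) (BT.node 285 (BT.leaf cR285) (BT.leaf cR286))) (BT.node 288 (BT.node 287 (BT.leaf cR287) (BT.leaf cR288)) (BT.node 289 (BT.leaf cR289) (BT.leaf cR290)))) (BT.node 295 (BT.node 293 (BT.node 292 (BT.node 291 (BT.leaf cR291) (BT.leaf cR292)) (BT.leaf cR293)) (BT.node 294 (BT.leaf cR294) (BT.leaf cR295))) (BT.node 297 (BT.node 296 (BT.leaf cR296) (BT.leaf cR297)) (BT.node 298 (BT.leaf cR298) (BT.leaf cR299)))))))))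
/-- relator paths -/
def relPaths : List (List ℕ) := [[0, 0], [1, 0, 1, 0, 1, 0], [2, 0, 2, 0], [3, 0, 3, 0], [4, 0, 4, 0], [5, 0, 5, 0], [6, 0, 6, 0], [7, 0, 7, 0], [8, 0, 8, 0], [10, 0, 10, 0], [9, 0, 9, 0], [11, 0, 11, 0], [0, 1, 0, 1, 0, 1], [1, 1], [2, 1, 2, 1, 2, 1], [3, 1, 3, 1], [4, 1, 4, 1], [5, 1, 5, 1], [6, 1, 6, 1], [7, 1, 7, 1], [8, 1, 8, 1], [10, 1, 10, 1], [9, 1, 9, 1], [11, 1, 11, 1], [0, 2, 0, 2], [1, 2, 1, 2, 1, 2], [2, 2], [3, 2, 3, 2, 3, 2], [4, 2, 4, 2], [5, 2, 5, 2], [6, 2, 6, 2], [7, 2, 7, 2], [8, 2, 8, 2], [10, 2, 10, 2], [9, 2, 9, 2], [11, 2, 11, 2], [0, 3, 0, 3], [1, 3, 1, 3], [2, 3, 2, 3, 2, 3], [3, 3], [4, 3, 4, 3, 4, 3], [5, 3, 5, 3], [6, 3, 6, 3], [7, 3, 7, 3], [8, 3, 8, 3], [10, 3, 10, 3], [9, 3, 9, 3], [11, 3, 11, 3], [0, 4, 0, 4], [1, 4, 1, 4], [2, 4, 2, 4], [3, 4, 3, 4, 3, 4], [4, 4], [5, 4, 5, 4, 5, 4], [6, 4, 6, 4], [7, 4, 7, 4], [8, 4,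 8, 4], [10, 4, 10, 4], [9, 4, 9, 4], [11, 4, 11, 4], [0, 5, 0, 5], [1, 5, 1, 5], [2, 5, 2, 5], [3, 5, 3, 5], [4, 5, 4, 5, 4, 5], [5, 5], [6, 5, 6, 5, 6, 5], [7, 5, 7, 5], [8, 5, 8, 5], [10, 5, 10, 5, 10, 5], [9, 5, 9, 5], [11, 5, 11, 5], [0, 6, 0, 6], [1, 6, 1, 6], [2, 6, 2, 6], [3, 6, 3, 6], [4, 6, 4, 6], [5, 6, 5, 6, 5, 6], [6, 6], [7, 6, 7, 6, 7, 6], [8, 6, 8, 6], [10, 6, 10, 6], [9, 6, 9, 6], [11, 6, 11, 6], [0, 7, 0, 7], [1, 7, 1, 7], [2, 7, 2, 7], [3, 7, 3, 7], [4, 7, 4, 7], [5, 7, 5, 7], [6, 7, 6, 7, 6, 7], [7, 7], [8, 7, 8, 7, 8, 7], [10, 7, 10, 7], [9, 7, 9, 7], [11, 7, 11, 7], [0, 8, 0, 8], [1, 8, 1, 8], [2, 8, 2, 8], [3, 8, 3, 8], [4, 8, 4, 8], [5, 8, 5, 8], [6, 8, 6, 8], [7, 8, 7, 8, 7, 8], [8, 8], [10, 8, 10, 8], [9, 8, 9, 8, 9, 8], [11, 8, 11, 8], [0, 10, 0, 10], [1, 10, 1, 10], [2, 10, 2, 10], [3, 10, 3, 10], [4, 10, 4, 10], [5, 10, 5, 10, 5, 10], [6, 10,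 6, 10], [7, 10, 7, 10], [8, 10, 8, 10], [10, 10], [9, 10, 9, 10], [11, 10, 11, 10, 11, 10], [0, 9, 0, 9], [1, 9, 1, 9], [2, 9, 2, 9], [3, 9, 3, 9], [4, 9, 4, 9], [5, 9, 5, 9], [6, 9, 6, 9], [7, 9, 7, 9], [8, 9, 8, 9, 8, 9], [10, 9, 10, 9], [9, 9], [11, 9, 11, 9], [0, 11, 0, 11], [1, 11, 1, 11], [2, 11, 2, 11], [3, 11, 3, 11], [4, 11, 4, 11], [5, 11, 5, 11], [6, 11, 6, 11], [7, 11, 7, 11], [8, 11, 8, 11], [10, 11, 10, 11, 10, 11], [9, 11, 9, 11], [11, 11], [2, 3, 4, 5, 6, 7, 10, 2, 3, 4, 5, 6, 7, 10, 2, 3, 4, 5, 6, 7, 10, 2, 3, 4, 5, 6, 7, 10, 2, 3, 4, 5, 6, 7, 10, 2, 3, 4, 5, 6, 7, 10, 2, 3, 4, 5, 6, 7, 10, 2, 3, 4, 5, 6, 7, 10, 2, 3, 4, 5, 6, 7, 10, 0], [11, 10, 5, 9, 8, 7, 6, 5, 0, 1, 2, 3, 4, 5, 11, 10, 5, 9, 8, 7, 6, 5, 0, 1, 2, 3, 4, 5, 11, 10, 5, 9, 8, 7, 6, 5, 0, 1, 2, 3, 4, 5, 11, 10, 5, 9, 8, 7, 6, 5, 0, 1, 2, 3, 4, 5, 11, 10, 5, 9, 8, 7, 6, 5, 0, 1, 2, 3, 4, 5,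 11, 10, 5, 9, 8, 7, 6, 5, 0, 1, 2, 3, 4, 5, 11, 10, 5, 9, 8, 7, 6, 5, 0, 1, 2, 3, 4, 5, 11, 10, 5, 9, 8, 7, 6, 5, 0, 1, 2, 3, 4, 5, 11, 10, 5, 9, 8, 7, 6, 5, 0, 1, 2, 3, 4, 5, 11, 10, 5, 9, 8, 7, 6, 5, 0, 1, 2, 3, 4, 5, 11, 10, 5, 9, 8, 7, 6, 5, 0, 1, 2, 3, 4, 5, 11, 10, 5, 9, 8, 7, 6, 5, 0, 1, 2, 3, 4, 5, 11, 10, 5, 9, 8, 7, 6, 5, 0, 1, 2, 3, 4, 5, 11, 10, 5, 9, 8, 7, 6, 5, 0, 1, 2, 3, 4, 5, 11, 10, 5, 9, 8, 7, 6, 5, 0, 1, 2, 3, 4, 5, 11, 10, 5, 9, 8, 7, 6, 5, 0, 1, 2, 3, 4, 5, 11, 10, 5, 9, 8, 7, 6, 5, 0, 1, 2, 3, 4, 5]]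
/-- subgroup generator paths -/
def subPaths : List (List ℕ) := [[2], [3], [4], [5], [6], [7], [8], [10], [11], [9], [0]]
/-- the relator paths that are checked directly -/
def chkPaths : List (List ℕ) := [[1, 0, 1, 0, 1, 0], [2, 0, 2, 0], [3, 0, 3, 0], [4, 0, 4, 0], [5, 0, 5, 0], [6, 0, 6, 0], [7, 0, 7, 0], [8, 0, 8, 0], [10, 0, 10, 0], [9, 0, 9, 0], [11, 0, 11, 0], [2, 1, 2, 1, 2, 1], [3, 1, 3, 1], [4, 1, 4, 1], [5, 1, 5, 1], [6, 1, 6, 1], [7, 1, 7, 1], [8, 1, 8, 1], [10, 1, 10, 1], [9, 1, 9, 1], [11, 1, 11, 1], [3, 2, 3, 2, 3, 2], [4, 2, 4, 2], [5, 2, 5, 2], [6, 2, 6, 2], [7, 2, 7, 2], [8, 2, 8, 2], [10, 2, 10, 2], [9, 2, 9, 2], [11, 2, 11, 2], [4, 3, 4, 3, 4, 3], [5, 3, 5, 3], [6, 3, 6, 3], [7, 3, 7, 3], [8, 3, 8, 3], [10, 3, 10, 3], [9, 3, 9, 3], [11, 3, 11, 3], [5, 4, 5, 4, 5, 4], [6, 4, 6, 4], [7, 4, 7, 4], [8, 4, 8, 4], [10, 4, 10, 4], [9, 4, 9, 4], [11, 4, 11, 4],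 [6, 5, 6, 5, 6, 5], [7, 5, 7, 5], [8, 5, 8, 5], [10, 5, 10, 5, 10, 5], [9, 5, 9, 5], [11, 5, 11, 5], [7, 6, 7, 6, 7, 6], [8, 6, 8, 6], [10, 6, 10, 6], [9, 6, 9, 6], [11, 6, 11, 6], [8, 7, 8, 7, 8, 7], [10, 7, 10, 7], [9, 7, 9, 7], [11, 7, 11, 7], [10, 8, 10, 8], [9, 8, 9, 8, 9, 8], [11, 8, 11, 8], [9, 10, 9, 10], [11, 10, 11, 10, 11, 10], [11, 9, 11, 9], [2, 3, 4, 5, 6, 7, 10, 2, 3, 4, 5, 6, 7, 10, 2, 3, 4, 5, 6, 7, 10, 2, 3, 4, 5, 6, 7, 10, 2, 3, 4, 5, 6, 7, 10, 2, 3, 4, 5, 6, 7, 10, 2, 3, 4, 5, 6, 7, 10, 2, 3, 4, 5, 6, 7, 10, 2, 3, 4, 5, 6, 7, 10, 0], [11, 10, 5, 9, 8, 7, 6, 5, 0, 1, 2, 3, 4, 5, 11, 10, 5, 9, 8, 7, 6, 5, 0, 1, 2, 3, 4, 5, 11, 10, 5, 9, 8, 7, 6, 5, 0, 1, 2, 3, 4, 5, 11, 10, 5, 9, 8, 7, 6, 5, 0, 1, 2, 3, 4, 5, 11, 10, 5, 9, 8, 7, 6, 5, 0, 1, 2, 3, 4, 5, 11, 10, 5, 9, 8, 7, 6, 5, 0, 1, 2, 3, 4, 5, 11, 10, 5, 9, 8, 7, 6, 5, 0, 1, 2, 3, 4, 5, 11, 10, 5, 9,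 8, 7, 6, 5, 0, 1, 2, 3, 4, 5, 11, 10, 5, 9, 8, 7, 6, 5, 0, 1, 2, 3, 4, 5, 11, 10, 5, 9, 8, 7, 6, 5, 0, 1, 2, 3, 4, 5, 11, 10, 5, 9, 8, 7, 6, 5, 0, 1, 2, 3, 4, 5, 11, 10, 5, 9, 8, 7, 6, 5, 0, 1, 2, 3, 4, 5, 11, 10, 5, 9, 8, 7, 6, 5, 0, 1, 2, 3, 4, 5, 11, 10, 5, 9, 8, 7, 6, 5, 0, 1, 2, 3, 4, 5, 11, 10, 5, 9, 8, 7, 6, 5, 0, 1, 2, 3, 4, 5, 11, 10, 5, 9, 8, 7, 6, 5, 0, 1, 2, 3, 4, 5, 11, 10, 5, 9, 8, 7, 6, 5, 0, 1, 2, 3, 4, 5]]
/-- the coset table -/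
def table : Table where
  n := 306936
  k := 12
  w := 19
  M := 524288
  CH := 1024
  NCH := 300
  col := colTT
  inv := (BT.node 6 (BT.node 3 (BT.node 1 (BT.node 0 (BT.leaf 0) (BT.leaf 1)) (BT.node 2 (BT.leaf 2) (BT.leaf 3))) (BT.node 5 (BT.node 4 (BT.leaf 4) (BT.leaf 5)) (BT.leaf 6))) (BT.node 9 (BT.node 8 (BT.node 7 (BT.leaf 7) (BT.leaf 8)) (BT.leaf 9)) (BT.node 11 (BT.node 10 (BT.leaf 10) (BT.leaf 11)) (BT.leaf 12))))
  tw := 27
  TM := 134217728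
  tree := treeT

end Cfsg.Agent.Lib.Helper28.TCFi24Table
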