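import Cfsg.Agent.Lib.Helper28.TC2Orbit
import Cfsg.Agent.Lib.Helper28.TC2Range
import Cfsg.Agent.Lib.Helper28.StabLib
set_option autoImplicit false

/-!
# Lower bounds for the order of a permutation group given by a coset table

The table may have further letters, each defined by a word in earlier letters; a chain of
stabilisers with explicit generators and orbit trees bounds the order of the group generated by
the first letters from below.
-/

namespace Cfsg.Agent.Lib.Helper28.TC2Bsgs
open Cfsg.Agent.Lib.Helper28.TC2Upper Cfsg.Agent.Lib.Helper28.TC2Lower Cfsg.Agent.Lib.Helper28.TC2Orbit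
open Cfsg.Agent.Lib.Helper28.TC2Range Cfsg.Agent.Lib.Helper28.StabLib

/-! ### Derived letters -/

section Derived
variable {T : Table} (hT : T.OK) (k0 : ℕ) (defs : BT (List ℕ))

/-- the group generated by the first `k0` letters -/
noncomputable def baseGroup : Subgroup (Equiv.Perm (Fin T.n)) :=
  Subgroup.closure {π | ∃ l, l < k0 ∧ π = Table.sigma hT l}

/-- the letter `e` acts as its defining word on the points `lo, …, lo + cnt - 1` -/
noncomputable def defRange (T : Table) (defs : BT (List ℕ)) (e lo cnt : ℕ) : Bool :=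
  allLoop (fun i => Nat.beq (T.walkT (defs.look e) (Nat.add lo i)) (T.tau e (Nat.add lo i))) cnt

theorem defRange_iff (e lo cnt : ℕ) :
    defRange T defs e lo cnt = true ↔
      ∀ p, lo ≤ p → p < lo + cnt → T.walkT (defs.look e) p = T.tau e p := by
  unfold defRange
  rw [allLoop_add_iff (fun v => Nat.beq (T.walkT (defs.look e) v) (T.tau e v))]
  constructor
  · intro h p h1 h2; exact (Data.nbeq_iff _ _).mp (h p h1 h2)
  · intro h p h1 h2; exact (Data.nbeq_iff _ _).mpr (h p h1 h2)

/-- the defining words use earlier letters only -/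
noncomputable def defsLt (k0 k : ℕ) (defs : BT (List ℕ)) : Bool :=
  allLoop (fun i => (defs.look (Nat.add k0 i)).all fun l => Nat.blt l (Nat.add k0 i)) (Nat.sub k k0)

theorem pathProd_mem {K : Type*} [Group K] (Γ : Subgroup K) (γ : ℕ → K) (w : List ℕ)
    (h : ∀ l ∈ w, γ l ∈ Γ) : pathProd γ w ∈ Γ := by
  induction w with
  | nil => exact Γ.one_mem
  | cons l ls ih =>
    show pathProd γ ls * γ l ∈ Γ
    exact Γ.mul_mem (ih fun x hx => h x (List.mem_cons_of_mem _ hx)) (h l List.mem_cons_self)

theorem sigma_mem_baseGroup (hlt : defsLt k0 T.k defs = true)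
    (hdef : ∀ e, k0 ≤ e → e < T.k → ∀ p, p < T.n → T.walkT (defs.look e) p = T.tau e p) :
    ∀ e, e < T.k → Table.sigma hT e ∈ baseGroup hT k0 := by
  unfold defsLt at hlt
  rw [allLoop_eq_true] at hlt
  intro e
  induction e using Nat.strong_induction_on with
  | _ e ih =>
    intro he
    rcases Nat.lt_or_ge e k0 with h | h
    · exact Subgroup.subset_closure ⟨e, h, rfl⟩
    · have h1 := hlt (e - k0) (by show e - k0 < Nat.sub T.k k0; simp only [Nat.sub_eq]; omega)
      have e1 : Nat.add k0 (e - k0) = e := by simp only [Nat.add_eq]; omega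
      rw [e1, List.all_eq_true] at h1
      have hlt' : ∀ l ∈ defs.look e, l < e := by
        intro l hl
        have := h1 l hl
        simpa [Nat.blt_eq] using this
      have hword : Table.sigma hT e = pathProd (Table.sigma hT) (defs.look e) := by
        ext p
        rw [Table.pathProd_sigma_apply hT _ (fun l hl => lt_trans (hlt' l hl) he),
          Table.sigma_apply hT he, hdef e h he p p.2]
      rw [hword]
      exact pathProd_mem _ _ _ fun l hl => ih l (hlt' l hl) (lt_trans (hlt' l hl) he)

end Derived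

/-! ### The class of an orbit tree -/

namespace OrbData
variable (O : TC2Orbit.OrbData)

/-- the points of class `c` among `lo, …, lo + cnt - 1` are the root or have a parent of class `c` -/
noncomputable def connOKc (T : Table) (c lo cnt : ℕ) : Bool :=
  allLoop (fun i => cond (Nat.beq (O.oid (Nat.add lo i)) c)
    (cond (Nat.beq (O.depth (Nat.add lo i)) 0)
      (Nat.beq (O.roots.look c) (Nat.add lo i))
      (and (and (Nat.ble (Nat.succ (O.parent (Nat.add lo i))) T.n)
        (Nat.beq (O.oid (O.parent (Nat.add lo i))) c))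
        (and (Nat.beq (Nat.succ (O.depth (O.parent (Nat.add lo i)))) (O.depth (Nat.add lo i)))
          (Nat.beq (T.walkT (O.gens.look (O.gen (Nat.add lo i))) (O.parent (Nat.add lo i))) (Nat.add lo i)))))
    true) cnt

theorem connOKc_iff (T : Table) (c lo cnt : ℕ) :
    connOKc O T c lo cnt = true ↔ ∀ p, lo ≤ p → p < lo + cnt → O.oid p = c →
      (O.depth p = 0 ∧ O.roots.look c = p) ∨
      (O.depth p ≠ 0 ∧ O.parent p < T.n ∧ O.oid (O.parent p) = c ∧
        O.depth (O.parent p) + 1 = O.depth p ∧ T.walkT (O.gens.look (O.gen p)) (O.parent p) = p) := by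
  unfold connOKc
  rw [allLoop_add_iff (fun v => cond (Nat.beq (O.oid v) c)
    (cond (Nat.beq (O.depth v) 0)
      (Nat.beq (O.roots.look c) v)
      (and (and (Nat.ble (Nat.succ (O.parent v)) T.n)
        (Nat.beq (O.oid (O.parent v)) c))
        (and (Nat.beq (Nat.succ (O.depth (O.parent v))) (O.depth v))
          (Nat.beq (T.walkT (O.gens.look (O.gen v)) (O.parent v)) v))))
    true)]
  have key : ∀ q : ℕ, cond (Nat.beq (O.oid q) c)
      (cond (Nat.beq (O.depth q) 0)
        (Nat.beq (O.roots.look c) q)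
        (and (and (Nat.ble (Nat.succ (O.parent q)) T.n)
          (Nat.beq (O.oid (O.parent q)) c))
          (and (Nat.beq (Nat.succ (O.depth (O.parent q))) (O.depth q))
            (Nat.beq (T.walkT (O.gens.look (O.gen q)) (O.parent q)) q))))
      true = true ↔ (O.oid q = c →
      (O.depth q = 0 ∧ O.roots.look c = q) ∨
      (O.depth q ≠ 0 ∧ O.parent q < T.n ∧ O.oid (O.parent q) = c ∧
        O.depth (O.parent q) + 1 = O.depth q ∧ T.walkT (O.gens.look (O.gen q)) (O.parent q) = q)) := by
    intro q
    cases hc : Nat.beq (O.oid q) c with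
    | false =>
      have hc' : O.oid q ≠ c := by
        intro e
        have := (Data.nbeq_iff _ _).mpr e
        rw [hc] at this
        exact absurd this (by simp)
      simp only [cond_false, true_iff]
      intro e; exact absurd e hc'
    | true =>
      rw [Data.nbeq_iff] at hc
      simp only [cond_true]
      cases h : Nat.beq (O.depth q) 0 with
      | true =>
        rw [Data.nbeq_iff] at h
        simp only [cond_true, Data.nbeq_iff, h]
        constructor
        · intro e _; exact Or.inl ⟨trivial, e⟩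
        · intro e
          rcases e hc with ⟨_, e2⟩ | ⟨e1, _⟩
          · exact e2
          · exact absurd rfl e1
      | false =>
        have h' : O.depth q ≠ 0 := by
          intro e
          have := (Data.nbeq_iff _ _).mpr e
          rw [h] at this
          exact absurd this (by simp)
        simp only [cond_false, Bool.and_eq_true, Data.nbeq_iff, Nat.ble_eq]
        constructor
        · rintro ⟨⟨a, b⟩, d, e⟩ _
          exact Or.inr ⟨h', a, b, d, e⟩
        · intro e
          rcases e hc with ⟨a, _⟩ | ⟨_, a, b, d, e⟩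
          · exact absurd a h'
          · exact ⟨⟨a, b⟩, d, e⟩
  constructor
  · intro h p h1 h2; exact (key p).mp (h p h1 h2)
  · intro h p h1 h2; exact (key p).mpr (h p h1 h2)

end OrbData

section Orb
variable {T : Table} (hT : T.OK) {O : TC2Orbit.OrbData} {subs : List (List ℕ)}

theorem mem_orbit_root_c (c : ℕ) (hlt : ∀ s ∈ subs, ∀ l ∈ s, l < T.k)
    (hgens : BT.All (fun s => s ∈ subs) O.gens)
    (hconn : ∀ p, p < T.n → O.oid p = c →
      (O.depth p = 0 ∧ O.roots.look c = p) ∨
      (O.depth p ≠ 0 ∧ O.parent p < T.n ∧ O.oid (O.parent p) = c ∧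
        O.depth (O.parent p) + 1 = O.depth p ∧ T.walkT (O.gens.look (O.gen p)) (O.parent p) = p))
    (hr : O.roots.look c < T.n) (p : Fin T.n) (hp : O.oid p.val = c) :
    ∃ π : Equiv.Perm (Fin T.n), π ∈ permGroup hT subs ∧ π ⟨O.roots.look c, hr⟩ = p := by
  have key : ∀ d : ℕ, ∀ p : Fin T.n, O.oid p.val = c → O.depth p.val = d →
      ∃ π : Equiv.Perm (Fin T.n), π ∈ permGroup hT subs ∧ π ⟨O.roots.look c, hr⟩ = p := by
    intro d
    induction d with
    | zero =>
      intro p hc hd
      rcases hconn p.val p.2 hc with ⟨_, h2⟩ | ⟨h1, _⟩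
      · exact ⟨1, Subgroup.one_mem _, by
          apply Fin.ext
          show O.roots.look c = p.val
          exact h2⟩
      · exact absurd hd h1
    | succ d ih =>
      intro p hc hd
      rcases hconn p.val p.2 hc with ⟨h1, _⟩ | ⟨_, h2, h3, h4, h5⟩
      · rw [hd] at h1; exact absurd h1 (by omega)
      · obtain ⟨π, hπ, hπr⟩ := ih ⟨O.parent p.val, h2⟩ h3 (by simp only; omega)
        have hs := BT.look_of_all O.gens hgens (O.gen p.val)
        refine ⟨pathProd (Table.sigma hT) (O.gens.look (O.gen p.val)) * π, ?_, ?_⟩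
        · exact Subgroup.mul_mem _ (Subgroup.subset_closure ⟨_, hs, rfl⟩) hπ
        · rw [Equiv.Perm.mul_apply, hπr]
          apply Fin.ext
          rw [Table.pathProd_sigma_apply hT _ (hlt _ hs)]
          exact h5
  exact key _ p hp rfl

end Orb

/-! ### Chains of stabilisers -/

section Chain
variable {X : Type*}

/-- pointwise stabiliser of a list of points -/
def pstab (Γ : Subgroup (Equiv.Perm X)) : List X → Subgroup (Equiv.Perm X)
  | [] => Γ
  | b :: bs => pstab Γ bs ⊓ MulAction.stabilizer (Equiv.Perm X) b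

theorem mem_pstab (Γ : Subgroup (Equiv.Perm X)) (bs : List X) (π : Equiv.Perm X) :
    π ∈ pstab Γ bs ↔ π ∈ Γ ∧ ∀ b ∈ bs, π b = b := by
  induction bs with
  | nil => simp [pstab]
  | cons b bs ih =>
    show π ∈ pstab Γ bs ⊓ MulAction.stabilizer (Equiv.Perm X) b ↔ _
    rw [Subgroup.mem_inf, ih, MulAction.mem_stabilizer_iff]
    simp only [List.mem_cons, forall_eq_or_imp, Equiv.Perm.smul_def]
    tauto

/-- one step of a stabiliser chain: an orbit of a subgroup of the stabiliser bounds the index -/
theorem step_le [Finite X] (Γ : Subgroup (Equiv.Perm X)) (bs : List X) (b : X)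
    (Λ : Subgroup (Equiv.Perm X)) (hΛ : Λ ≤ pstab Γ bs) (s : Set X)
    (hs : ∀ q ∈ s, ∃ π ∈ Λ, π b = q) :
    s.ncard * Nat.card (pstab Γ (b :: bs)) ≤ Nat.card (pstab Γ bs) := by
  have h := card_orbit_mul_card_inf (pstab Γ bs) b
  show s.ncard * Nat.card ↥(pstab Γ bs ⊓ MulAction.stabilizer (Equiv.Perm X) b) ≤ _
  rw [← h]
  apply Nat.mul_le_mul_right
  have hsub : s ⊆ MulAction.orbit (pstab Γ bs) b := by
    intro q hq
    obtain ⟨π, hπ, rfl⟩ := hs q hq
    exact ⟨⟨π, hΛ hπ⟩, rfl⟩
  rw [Nat.card_coe_set_eq (MulAction.orbit (↥(pstab Γ bs)) b)]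
  exact Set.ncard_le_ncard hsub (Set.toFinite _)

theorem chain_step {Γ : Subgroup (Equiv.Perm X)} {bs : List X} {b : X} {a M : ℕ}
    (h1 : a * Nat.card (pstab Γ (b :: bs)) ≤ Nat.card (pstab Γ bs))
    (h2 : M ≤ Nat.card (pstab Γ (b :: bs))) : a * M ≤ Nat.card (pstab Γ bs) :=
  le_trans (Nat.mul_le_mul_left a h2) h1

theorem chain_stepN {a M x y : ℕ} (h1 : a * x ≤ y) (h2 : M ≤ x) : a * M ≤ y :=
  le_trans (Nat.mul_le_mul_left a h2) h1

theorem one_le_card [Finite X] (Γ : Subgroup (Equiv.Perm X)) (bs : List X) :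
    1 ≤ Nat.card (pstab Γ bs) := Nat.card_pos

end Chain

/-! ### One level of a chain, from a table -/

section Level
variable {T : Table} (hT : T.OK)

theorem level_bound (Γ : Subgroup (Equiv.Perm (Fin T.n))) (bs : List (Fin T.n)) (A : List ℕ)
    (O : TC2Orbit.OrbData) (c : ℕ) (hr : O.roots.look c < T.n)
    (hA : ∀ l ∈ A, l < T.k ∧ Table.sigma hT l ∈ Γ ∧ ∀ q ∈ bs, T.tau l q.val = q.val)
    (hgens : BT.All (fun s => s ∈ A.map fun l => [l]) O.gens)
    (hconn : ∀ p, p < T.n → O.oid p = c →
      (O.depth p = 0 ∧ O.roots.look c = p) ∨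
      (O.depth p ≠ 0 ∧ O.parent p < T.n ∧ O.oid (O.parent p) = c ∧
        O.depth (O.parent p) + 1 = O.depth p ∧ T.walkT (O.gens.look (O.gen p)) (O.parent p) = p)) :
    O.count T.n c * Nat.card (pstab Γ ((⟨O.roots.look c, hr⟩ : Fin T.n) :: bs)) ≤ Nat.card (pstab Γ bs) := by
  have hlt : ∀ s ∈ A.map (fun l => [l]), ∀ l ∈ s, l < T.k := by
    intro s hs l hl
    rw [List.mem_map] at hs
    obtain ⟨l', hl', rfl⟩ := hs
    rw [List.mem_singleton] at hl
    rw [hl]; exact (hA l' hl').1
  have hΛ : permGroup hT (A.map fun l => [l]) ≤ pstab Γ bs := by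
    unfold permGroup
    rw [Subgroup.closure_le]
    rintro π ⟨s, hs, rfl⟩
    rw [List.mem_map] at hs
    obtain ⟨l, hl, rfl⟩ := hs
    have e : pathProd (Table.sigma hT) [l] = Table.sigma hT l := by
      show 1 * Table.sigma hT l = _
      rw [one_mul]
    rw [SetLike.mem_coe, e, mem_pstab]
    refine ⟨(hA l hl).2.1, fun q hq => ?_⟩
    apply Fin.ext
    rw [Table.sigma_apply hT (hA l hl).1]
    exact (hA l hl).2.2 q hq
  rw [← ncard_class O T.n c]
  apply step_le Γ bs _ _ hΛ
  intro q hq
  exact mem_orbit_root_c hT c hlt hgens hconn hr q hq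

end Level

/-! ### Base points given by natural numbers -/

section Nat
variable {T : Table} (hT : T.OK)

/-- the points `< n` of a list of natural numbers -/
def toFin (n : ℕ) (bs : List ℕ) : List (Fin n) :=
  bs.filterMap fun b => if h : b < n then some ⟨b, h⟩ else none

theorem toFin_cons {n b : ℕ} (h : b < n) (bs : List ℕ) : toFin n (b :: bs) = ⟨b, h⟩ :: toFin n bs := by
  unfold toFin
  rw [List.filterMap_cons, dif_pos h]

theorem val_mem_of_mem_toFin {n : ℕ} {bs : List ℕ} {q : Fin n} (h : q ∈ toFin n bs) : q.val ∈ bs := by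
  unfold toFin at h
  rw [List.mem_filterMap] at h
  obtain ⟨b, hb, hq⟩ := h
  by_cases hlt : b < n
  · rw [dif_pos hlt, Option.some.injEq] at hq
    rw [← hq]; exact hb
  · rw [dif_neg hlt] at hq
    exact absurd hq (by simp)

/-- one level of a chain, with base points and sizes as numerals -/
theorem level_boundN (Γ : Subgroup (Equiv.Perm (Fin T.n))) (bs : List ℕ) (A : List ℕ)
    (O : TC2Orbit.OrbData) (c b s : ℕ) (hb : O.roots.look c = b) (hr : b < T.n) (hcnt : O.count T.n c = s)
    (hΓ : ∀ l, l < T.k → Table.sigma hT l ∈ Γ)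
    (hA : ∀ l ∈ A, l < T.k ∧ ∀ q ∈ bs, T.tau l q = q)
    (hgens : BT.All (fun s => s ∈ A.map fun l => [l]) O.gens)
    (hconn : ∀ p, p < T.n → O.oid p = c →
      (O.depth p = 0 ∧ O.roots.look c = p) ∨
      (O.depth p ≠ 0 ∧ O.parent p < T.n ∧ O.oid (O.parent p) = c ∧
        O.depth (O.parent p) + 1 = O.depth p ∧ T.walkT (O.gens.look (O.gen p)) (O.parent p) = p)) :
    s * Nat.card (pstab Γ (toFin T.n (b :: bs))) ≤ Nat.card (pstab Γ (toFin T.n bs)) := by
  subst hb
  subst hcnt
  rw [toFin_cons hr]
  apply level_bound hT Γ (toFin T.n bs) A O c hr _ hgens hconn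
  intro l hl
  exact ⟨(hA l hl).1, hΓ l (hA l hl).1, fun q hq => (hA l hl).2 q.val (val_mem_of_mem_toFin hq)⟩

/-- two tables agree on the first `k0` letters for the points `lo, …, lo + cnt - 1` -/
noncomputable def agreeRange (T T' : Table) (k0 lo cnt : ℕ) : Bool :=
  allLoop (fun i => allLoop (fun l => Nat.beq (T'.tau l (Nat.add lo i)) (T.tau l (Nat.add lo i))) k0) cnt

theorem agreeRange_iff (T T' : Table) (k0 lo cnt : ℕ) :
    agreeRange T T' k0 lo cnt = true ↔
      ∀ p, lo ≤ p → p < lo + cnt → ∀ l, l < k0 → T'.tau l p = T.tau l p := by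
  unfold agreeRange
  rw [allLoop_add_iff (fun v => allLoop (fun l => Nat.beq (T'.tau l v) (T.tau l v)) k0)]
  constructor
  · intro h p h1 h2 l hl
    have := h p h1 h2
    rw [allLoop_eq_true] at this
    exact (Data.nbeq_iff _ _).mp (this l hl)
  · intro h p h1 h2
    rw [allLoop_eq_true]
    intro l hl
    exact (Data.nbeq_iff _ _).mpr (h p h1 h2 l hl)

/-- the group generated by the first letters of an extended table, inside another group -/
theorem card_baseGroup_le {T' : Table} (hT' : T'.OK) (hn : T'.n = T.n) (hk : T.k ≤ T'.k)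
    (hagree : ∀ p, p < T.n → ∀ l, l < T.k → T'.tau l p = T.tau l p)
    (Λ : Subgroup (Equiv.Perm (Fin T.n))) (hΛ : ∀ l, l < T.k → Table.sigma hT l ∈ Λ) :
    Nat.card (baseGroup hT' T.k) ≤ Nat.card Λ := by
  obtain ⟨n', k', w', M', CH', NCH', col', inv', tw', TM', tree'⟩ := T'
  simp only at hn
  subst hn
  have hle : baseGroup hT' T.k ≤ Λ := by
    unfold baseGroup
    rw [Subgroup.closure_le]
    rintro π ⟨l, hl, rfl⟩
    have e : Table.sigma hT' l = Table.sigma hT l := by
      apply Equiv.ext
      intro p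
      apply Fin.ext
      rw [Table.sigma_apply hT' (lt_of_lt_of_le hl hk), Table.sigma_apply hT hl]
      exact hagree p.val p.2 l hl
    rw [SetLike.mem_coe, e]
    exact hΛ l hl
  exact Nat.card_le_card_of_injective _ (Subgroup.inclusion_injective hle)

end Nat

end Cfsg.Agent.Lib.Helper28.TC2Bsgs
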