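import Cfsg.Agent.Lib.Helper28.TC2Lower
set_option autoImplicit false

/-!
# Verified coset enumeration: orbits of a subgroup on the points of a coset table

Every point `p` carries an orbit number, a depth, a parent and a generator index:
`slot = oid + 16 * (depth + 256 * (gen + 256 * parent))`.
-/

namespace Cfsg.Agent.Lib.Helper28.TC2Orbit
open Cfsg.Agent.Lib.Helper28.TC2Upper Cfsg.Agent.Lib.Helper28.TC2Lower

/-- orbit data -/
structure OrbData where
  /-- slot width and modulus -/
  ow : ℕ
  OM : ℕ
  /-- slots per chunk; the chunk of the point `p` has index `p / CH` -/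
  CH : ℕ
  col : BT ℕ
  /-- generator paths by index -/
  gens : BT (List ℕ)
  /-- roots by orbit number -/
  roots : BT ℕ

namespace OrbData
variable (O : OrbData)

/-- the slot of a point -/
noncomputable def raw (p : ℕ) : ℕ :=
  force (Nat.div p O.CH) (fun j => slot O.ow O.OM (O.col.look j) (Nat.mod p O.CH))
/-- orbit number of a point -/
noncomputable def oid (p : ℕ) : ℕ := Nat.mod (O.raw p) 16
/-- depth of a point in its orbit tree -/
noncomputable def depth (p : ℕ) : ℕ := Nat.mod (Nat.div (O.raw p) 16) 256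
/-- generator leading from the parent to the point -/
noncomputable def gen (p : ℕ) : ℕ := Nat.mod (Nat.div (O.raw p) 4096) 256
/-- parent of a point in its orbit tree -/
noncomputable def parent (p : ℕ) : ℕ := Nat.div (O.raw p) 1048576

/-- the generators preserve the orbit numbers of the points `lo, …, lo + cnt - 1` -/
noncomputable def closedOK (T : Table) (subs : List (List ℕ)) (lo cnt : ℕ) : Bool :=
  allLoop (fun i => @List.rec (List ℕ) (fun _ => Bool) true
    (fun s _ ih => and (Nat.beq (O.oid (T.walkT s (Nat.add lo i))) (O.oid (Nat.add lo i))) ih) subs) cnt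

/-- every point is its orbit's root or the image of a point of smaller depth in the same orbit -/
noncomputable def connOK (T : Table) (lo cnt : ℕ) : Bool :=
  allLoop (fun i => cond (Nat.beq (O.depth (Nat.add lo i)) 0)
    (Nat.beq (O.roots.look (O.oid (Nat.add lo i))) (Nat.add lo i))
    (and (and (Nat.ble (Nat.succ (O.parent (Nat.add lo i))) T.n)
      (Nat.beq (O.oid (O.parent (Nat.add lo i))) (O.oid (Nat.add lo i))))
      (and (Nat.beq (Nat.succ (O.depth (O.parent (Nat.add lo i)))) (O.depth (Nat.add lo i)))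
        (Nat.beq (T.walkT (O.gens.look (O.gen (Nat.add lo i))) (O.parent (Nat.add lo i))) (Nat.add lo i))))) cnt

/-- number of points with orbit number `c` -/
noncomputable def count (n c : ℕ) : ℕ := sumLoop (fun p => cond (Nat.beq (O.oid p) c) 1 0) n

theorem closedOK_iff (T : Table) (subs : List (List ℕ)) (lo cnt : ℕ) :
    O.closedOK T subs lo cnt = true ↔
      ∀ p, lo ≤ p → p < lo + cnt → ∀ s ∈ subs, O.oid (T.walkT s p) = O.oid p := by
  unfold closedOK
  rw [allLoop_eq_true]
  have key : ∀ (q : ℕ) (rs : List (List ℕ)),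
      @List.rec (List ℕ) (fun _ => Bool) true
        (fun s _ ih => and (Nat.beq (O.oid (T.walkT s q)) (O.oid q)) ih) rs = true ↔
        ∀ s ∈ rs, O.oid (T.walkT s q) = O.oid q := by
    intro q rs
    induction rs with
    | nil => simp
    | cons r rs ih =>
      show (and (Nat.beq (O.oid (T.walkT r q)) (O.oid q)) _) = true ↔ _
      rw [Bool.and_eq_true, ih, Data.nbeq_iff]
      simp
  constructor
  · intro h p h1 h2 r hr
    have := (key _ _).mp (h (p - lo) (by omega)) r hr
    rwa [show Nat.add lo (p - lo) = p by simp only [Nat.add_eq]; omega] at this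
  · intro h i hi
    exact (key _ _).mpr (h _ (by simp only [Nat.add_eq]; omega) (by simp only [Nat.add_eq]; omega))

theorem connOK_iff (T : Table) (lo cnt : ℕ) :
    O.connOK T lo cnt = true ↔ ∀ p, lo ≤ p → p < lo + cnt →
      (O.depth p = 0 ∧ O.roots.look (O.oid p) = p) ∨
      (O.depth p ≠ 0 ∧ O.parent p < T.n ∧ O.oid (O.parent p) = O.oid p ∧
        O.depth (O.parent p) + 1 = O.depth p ∧ T.walkT (O.gens.look (O.gen p)) (O.parent p) = p) := by
  unfold connOK
  rw [allLoop_eq_true]
  have key : ∀ q : ℕ, cond (Nat.beq (O.depth q) 0)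
      (Nat.beq (O.roots.look (O.oid q)) q)
      (and (and (Nat.ble (Nat.succ (O.parent q)) T.n)
        (Nat.beq (O.oid (O.parent q)) (O.oid q)))
        (and (Nat.beq (Nat.succ (O.depth (O.parent q))) (O.depth q))
          (Nat.beq (T.walkT (O.gens.look (O.gen q)) (O.parent q)) q))) = true ↔
      ((O.depth q = 0 ∧ O.roots.look (O.oid q) = q) ∨
      (O.depth q ≠ 0 ∧ O.parent q < T.n ∧ O.oid (O.parent q) = O.oid q ∧
        O.depth (O.parent q) + 1 = O.depth q ∧ T.walkT (O.gens.look (O.gen q)) (O.parent q) = q)) := by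
    intro q
    cases h : Nat.beq (O.depth q) 0 with
    | true =>
      rw [Data.nbeq_iff] at h
      simp only [cond_true, Data.nbeq_iff, h]
      simp
    | false =>
      have h' : O.depth q ≠ 0 := by
        intro e
        have := (Data.nbeq_iff _ _).mpr e
        rw [h] at this
        exact absurd this (by simp)
      simp only [cond_false, Bool.and_eq_true, Data.nbeq_iff, Nat.ble_eq]
      constructor
      · rintro ⟨⟨a, b⟩, c, d⟩
        exact Or.inr ⟨h', a, b, c, d⟩
      · rintro (⟨a, _⟩ | ⟨_, a, b, c, d⟩)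
        · exact absurd a h'
        · exact ⟨⟨a, b⟩, c, d⟩
  constructor
  · intro h p h1 h2
    have := (key _).mp (h (p - lo) (by omega))
    rwa [show Nat.add lo (p - lo) = p by simp only [Nat.add_eq]; omega] at this
  · intro h i hi
    exact (key _).mpr (h _ (by simp only [Nat.add_eq]; omega) (by simp only [Nat.add_eq]; omega))

end OrbData

section Orb
variable {T : Table} (hT : T.OK) (O : OrbData) (subs : List (List ℕ))

/-- the group generated by the permutations of the generator paths -/
noncomputable def permGroup : Subgroup (Equiv.Perm (Fin T.n)) :=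
  Subgroup.closure {π | ∃ s ∈ subs, π = pathProd (Table.sigma hT) s}

variable {O subs}

theorem oid_perm (hlt : ∀ s ∈ subs, ∀ l ∈ s, l < T.k)
    (hclosed : ∀ p, p < T.n → ∀ s ∈ subs, O.oid (T.walkT s p) = O.oid p)
    (π : Equiv.Perm (Fin T.n)) (hπ : π ∈ permGroup hT subs) (p : Fin T.n) :
    O.oid (π p).val = O.oid p.val := by
  unfold permGroup at hπ
  induction hπ using Subgroup.closure_induction generalizing p with
  | mem x hx =>
    obtain ⟨s, hs, rfl⟩ := hx
    rw [Table.pathProd_sigma_apply hT s (hlt s hs)]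
    exact hclosed p.val p.2 s hs
  | one => rfl
  | mul x y _ _ hx hy => rw [Equiv.Perm.mul_apply, hx, hy]
  | inv x _ hx =>
    have := hx (x⁻¹ p)
    have e : x (x⁻¹ p) = p := by
      rw [← Equiv.Perm.mul_apply, mul_inv_cancel]; rfl
    rw [e] at this
    exact this.symm

theorem mem_orbit_root (hlt : ∀ s ∈ subs, ∀ l ∈ s, l < T.k)
    (hgens : BT.All (fun s => s ∈ subs) O.gens)
    (hconn : ∀ p, p < T.n →
      (O.depth p = 0 ∧ O.roots.look (O.oid p) = p) ∨
      (O.depth p ≠ 0 ∧ O.parent p < T.n ∧ O.oid (O.parent p) = O.oid p ∧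
        O.depth (O.parent p) + 1 = O.depth p ∧ T.walkT (O.gens.look (O.gen p)) (O.parent p) = p))
    (p : Fin T.n) :
    ∃ (hr : O.roots.look (O.oid p.val) < T.n) (π : Equiv.Perm (Fin T.n)), π ∈ permGroup hT subs ∧
      π ⟨O.roots.look (O.oid p.val), hr⟩ = p := by
  have key : ∀ d : ℕ, ∀ p : Fin T.n, O.depth p.val = d →
      ∃ (hr : O.roots.look (O.oid p.val) < T.n) (π : Equiv.Perm (Fin T.n)), π ∈ permGroup hT subs ∧
        π ⟨O.roots.look (O.oid p.val), hr⟩ = p := by
    intro d
    induction d with
    | zero =>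
      intro p hd
      rcases hconn p.val p.2 with ⟨_, h2⟩ | ⟨h1, _⟩
      · exact ⟨by rw [h2]; exact p.2, 1, Subgroup.one_mem _, by
          apply Fin.ext
          show O.roots.look (O.oid p.val) = p.val
          exact h2⟩
      · exact absurd hd h1
    | succ d ih =>
      intro p hd
      rcases hconn p.val p.2 with ⟨h1, _⟩ | ⟨_, h2, h3, h4, h5⟩
      · rw [hd] at h1; exact absurd h1 (by omega)
      · obtain ⟨hr, π, hπ, hπr⟩ := ih ⟨O.parent p.val, h2⟩ (by simp only; omega)
        simp only at hr hπr
        have hs := BT.look_of_all O.gens hgens (O.gen p.val)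
        refine ⟨by rw [← h3]; exact hr, pathProd (Table.sigma hT) (O.gens.look (O.gen p.val)) * π, ?_, ?_⟩
        · exact Subgroup.mul_mem _ (Subgroup.subset_closure ⟨_, hs, rfl⟩) hπ
        · rw [Equiv.Perm.mul_apply]
          have e : (⟨O.roots.look (O.oid p.val), by rw [← h3]; exact hr⟩ : Fin T.n) =
              ⟨O.roots.look (O.oid (O.parent p.val)), hr⟩ := by
            apply Fin.ext
            show O.roots.look (O.oid p.val) = O.roots.look (O.oid (O.parent p.val))
            rw [h3]
          rw [e, hπr]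
          apply Fin.ext
          rw [Table.pathProd_sigma_apply hT _ (hlt _ hs)]
          exact h5
  exact key _ p rfl

/-- the orbit of a point under the generated group is its class of orbit numbers -/
theorem orbit_eq (hlt : ∀ s ∈ subs, ∀ l ∈ s, l < T.k)
    (hclosed : ∀ p, p < T.n → ∀ s ∈ subs, O.oid (T.walkT s p) = O.oid p)
    (hgens : BT.All (fun s => s ∈ subs) O.gens)
    (hconn : ∀ p, p < T.n →
      (O.depth p = 0 ∧ O.roots.look (O.oid p) = p) ∨
      (O.depth p ≠ 0 ∧ O.parent p < T.n ∧ O.oid (O.parent p) = O.oid p ∧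
        O.depth (O.parent p) + 1 = O.depth p ∧ T.walkT (O.gens.look (O.gen p)) (O.parent p) = p))
    (p : Fin T.n) :
    {q : Fin T.n | ∃ π ∈ permGroup hT subs, q = π p} = {q : Fin T.n | O.oid q.val = O.oid p.val} := by
  ext q
  simp only [Set.mem_setOf_eq]
  constructor
  · rintro ⟨π, hπ, rfl⟩
    exact oid_perm hT hlt hclosed π hπ p
  · intro hq
    obtain ⟨hr1, π1, hπ1, e1⟩ := mem_orbit_root hT hlt hgens hconn p
    obtain ⟨hr2, π2, hπ2, e2⟩ := mem_orbit_root hT hlt hgens hconn q
    refine ⟨π2 * π1⁻¹, Subgroup.mul_mem _ hπ2 (Subgroup.inv_mem _ hπ1), ?_⟩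
    rw [Equiv.Perm.mul_apply, ← e2]
    congr 1
    have e3 : π1⁻¹ p = ⟨O.roots.look (O.oid p.val), hr1⟩ := by
      rw [Equiv.Perm.inv_eq_iff_eq]; exact e1.symm
    rw [e3]
    apply Fin.ext
    show O.roots.look (O.oid q.val) = O.roots.look (O.oid p.val)
    rw [hq]

theorem ncard_class (O : OrbData) (n c : ℕ) :
    {q : Fin n | O.oid q.val = c}.ncard = O.count n c := by
  classical
  unfold OrbData.count
  rw [sumLoop_eq]
  have : {q : Fin n | O.oid q.val = c} = ↑(Finset.univ.filter fun q : Fin n => O.oid q.val = c) := by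
    ext q; simp
  rw [this, Set.ncard_coe_finset, Finset.card_filter, ← Fin.sum_univ_eq_sum_range]
  apply Finset.sum_congr rfl
  intro q _
  by_cases h : O.oid q.val = c
  · rw [if_pos h, (Data.nbeq_iff _ _).mpr h]; rfl
  · rw [if_neg h]
    have : Nat.beq (O.oid q.val) c = false := by
      cases h' : Nat.beq (O.oid q.val) c with
      | false => rfl
      | true => exact absurd ((Data.nbeq_iff _ _).mp h') h
    rw [this]; rfl

end Orb

end Cfsg.Agent.Lib.Helper28.TC2Orbit
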