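import Cfsg.Agent.Lib.Helper28.TC2Upper
set_option autoImplicit false

/-!
# Verified coset enumeration: the permutation representation (lower bound)

A coset table on `n` points is given by packed columns.  We check that the letters act as
permutations, that the relator paths act trivially, that the subgroup generators fix the point `0`
and that the action is transitive.
-/

namespace Cfsg.Agent.Lib.Helper28.TC2Lower
open Cfsg.Agent.Lib.Helper28.TC2Upper

/-- product of a path: the first letter is the rightmost factor -/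
def pathProd {K : Type*} [Monoid K] (γ : ℕ → K) : List ℕ → K
  | [] => 1
  | l :: ls => pathProd γ ls * γ l

theorem pathAct_eq_pathProd {G : Type*} [Group G] {X : Type*} [MulAction G X] (γ : ℕ → G)
    (w : List ℕ) (x : X) : pathAct γ w x = pathProd γ w • x := by
  induction w generalizing x with
  | nil => simp [pathAct, pathProd]
  | cons l ls ih =>
    show pathAct γ ls (γ l • x) = (pathProd γ ls * γ l) • x
    rw [ih, mul_smul]

theorem pathProd_eq {K : Type*} [Monoid K] (γ : ℕ → K) (w : List ℕ) :
    pathProd γ w = (w.reverse.map γ).prod := by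
  induction w with
  | nil => rfl
  | cons l ls ih =>
    show pathProd γ ls * γ l = _
    rw [ih, List.reverse_cons, List.map_append, List.prod_append]
    simp

/-- static data of a coset table -/
structure Table where
  /-- number of points -/
  n : ℕ
  /-- number of letters -/
  k : ℕ
  /-- slot width and modulus -/
  w : ℕ
  M : ℕ
  /-- slots per chunk and chunks per column -/
  CH : ℕ
  NCH : ℕ
  /-- columns in chunks: the chunk of the letter `l` and the point `p` has index `l * NCH + p / CH` -/
  col : BT ℕ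
  /-- inverse letters -/
  inv : BT ℕ
  /-- tree: slot = parent + M * letter, width `tw`, modulus `TM`, in chunks (index `p / CH`) -/
  tw : ℕ
  TM : ℕ
  tree : BT ℕ

namespace Table
variable (T : Table)

/-- image of the point `p` under the letter `l` -/
noncomputable def tau (l p : ℕ) : ℕ :=
  force (Nat.add (Nat.mul l T.NCH) (Nat.div p T.CH)) (fun j => slot T.w T.M (T.col.look j) (Nat.mod p T.CH))
/-- tree slot of the point `p` -/
noncomputable def tslot (p : ℕ) : ℕ :=
  force (Nat.div p T.CH) (fun j => slot T.tw T.TM (T.tree.look j) (Nat.mod p T.CH))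
/-- inverse letter -/
noncomputable def invl (l : ℕ) : ℕ := T.inv.look l

/-- walk along a path -/
noncomputable def walkT (w : List ℕ) : ℕ → ℕ :=
  @List.rec ℕ (fun _ => ℕ → ℕ) (fun p => p) (fun l _ ih p => force (T.tau l p) ih) w

theorem walkT_nil (p : ℕ) : T.walkT [] p = p := rfl
theorem walkT_cons (l : ℕ) (ls : List ℕ) (p : ℕ) : T.walkT (l :: ls) p = T.walkT ls (T.tau l p) :=
  force_eq _ _

/-- the letters act as mutually inverse maps on `[0, n)` -/
noncomputable def permOK (lo cnt : ℕ) : Bool :=
  allLoop (fun i => allLoop (fun l => and (Nat.ble (Nat.succ (T.tau l (Nat.add lo i))) T.n)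
    (Nat.beq (T.tau (T.invl l) (T.tau l (Nat.add lo i))) (Nat.add lo i))) T.k) cnt

/-- the inverse letter map is an involution on `[0, k)` -/
noncomputable def invOK : Bool :=
  allLoop (fun l => and (Nat.ble (Nat.succ (T.invl l)) T.k) (Nat.beq (T.invl (T.invl l)) l)) T.k

/-- all paths of the list return to their start, for the points `lo, …, lo + cnt - 1` -/
noncomputable def relOK (rels : List (List ℕ)) (lo cnt : ℕ) : Bool :=
  allLoop (fun i => @List.rec (List ℕ) (fun _ => Bool) true
    (fun r _ ih => and (Nat.beq (T.walkT r (Nat.add lo i)) (Nat.add lo i)) ih) rels) cnt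

/-- all paths of the list fix the point `0` -/
noncomputable def subOK (subs : List (List ℕ)) : Bool :=
  @List.rec (List ℕ) (fun _ => Bool) true (fun r _ ih => and (Nat.beq (T.walkT r 0) 0) ih) subs

/-- every point other than `0` is the image of a smaller point under a letter -/
noncomputable def treeOK : Bool :=
  allLoop (fun i => and (and (Nat.ble (Nat.mod (T.tslot (Nat.succ i)) T.M) i)
    (Nat.ble (Nat.succ (Nat.div (T.tslot (Nat.succ i)) T.M)) T.k))
    (Nat.beq (T.tau (Nat.div (T.tslot (Nat.succ i)) T.M)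
      (Nat.mod (T.tslot (Nat.succ i)) T.M)) (Nat.succ i))) (Nat.pred T.n)

/-- the table consists of mutually inverse maps -/
structure OK : Prop where
  perm : ∀ p, p < T.n → ∀ l, l < T.k → T.tau l p < T.n ∧ T.tau (T.invl l) (T.tau l p) = p
  inv : ∀ l, l < T.k → T.invl l < T.k ∧ T.invl (T.invl l) = l

theorem ok_of_checks (hinv : T.invOK = true) (hperm : T.permOK 0 T.n = true) : T.OK := by
  unfold invOK at hinv
  unfold permOK at hperm
  rw [allLoop_eq_true] at hinv hperm
  constructor
  · intro p hp l hl
    have := hperm p hp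
    rw [allLoop_eq_true] at this
    have := this l hl
    rw [Bool.and_eq_true, Nat.ble_eq, Data.nbeq_iff] at this
    have e : Nat.add 0 p = p := by simp
    rw [e] at this
    exact ⟨this.1, this.2⟩
  · intro l hl
    have := hinv l hl
    rw [Bool.and_eq_true, Nat.ble_eq, Data.nbeq_iff] at this
    exact ⟨this.1, this.2⟩

variable {T}

/-- the permutation of `Fin n` given by the letter `l` (the identity for `l ≥ k`) -/
noncomputable def sigma (h : T.OK) (l : ℕ) : Equiv.Perm (Fin T.n) :=
  if hl : l < T.k then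
    { toFun := fun p => ⟨T.tau l p, (h.perm p p.2 l hl).1⟩
      invFun := fun p => ⟨T.tau (T.invl l) p, (h.perm p p.2 _ (h.inv l hl).1).1⟩
      left_inv := fun p => Fin.ext (h.perm p p.2 l hl).2
      right_inv := fun p => Fin.ext (by
        have := (h.perm p p.2 _ (h.inv l hl).1).2
        rwa [(h.inv l hl).2] at this) }
  else 1

theorem sigma_apply (h : T.OK) {l : ℕ} (hl : l < T.k) (p : Fin T.n) :
    (sigma h l p).val = T.tau l p.val := by
  unfold sigma
  rw [dif_pos hl]
  rfl

theorem sigma_inv (h : T.OK) {l : ℕ} (hl : l < T.k) : sigma h (T.invl l) = (sigma h l)⁻¹ := by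
  ext p
  rw [sigma_apply h (h.inv l hl).1]
  have : (sigma h l)⁻¹ p = (sigma h l).symm p := rfl
  rw [this]
  unfold sigma
  rw [dif_pos hl]
  rfl

theorem pathProd_sigma_apply (h : T.OK) (w : List ℕ) (hw : ∀ l ∈ w, l < T.k) (p : Fin T.n) :
    (pathProd (sigma h) w p).val = T.walkT w p.val := by
  induction w generalizing p with
  | nil => rfl
  | cons l ls ih =>
    rw [walkT_cons]
    show (pathProd (sigma h) ls (sigma h l p)).val = T.walkT ls (T.tau l p.val)
    rw [ih (fun x hx => hw x (List.mem_cons_of_mem _ hx)), sigma_apply h (hw l List.mem_cons_self)]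

theorem relOK_iff (rels : List (List ℕ)) (lo cnt : ℕ) :
    T.relOK rels lo cnt = true ↔ ∀ p, lo ≤ p → p < lo + cnt → ∀ r ∈ rels, T.walkT r p = p := by
  unfold relOK
  rw [allLoop_eq_true]
  have key : ∀ (q : ℕ) (rs : List (List ℕ)),
      @List.rec (List ℕ) (fun _ => Bool) true
        (fun r _ ih => and (Nat.beq (T.walkT r q) q) ih) rs = true ↔ ∀ r ∈ rs, T.walkT r q = q := by
    intro q rs
    induction rs with
    | nil => simp
    | cons r rs ih =>
      show (and (Nat.beq (T.walkT r q) q) _) = true ↔ _
      rw [Bool.and_eq_true, ih, Data.nbeq_iff]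
      simp
  constructor
  · intro h p h1 h2 r hr
    have := (key _ _).mp (h (p - lo) (by omega)) r hr
    rwa [show Nat.add lo (p - lo) = p by simp only [Nat.add_eq]; omega] at this
  · intro h i hi
    exact (key _ _).mpr (h _ (by simp only [Nat.add_eq]; omega) (by simp only [Nat.add_eq]; omega))

theorem subOK_iff (subs : List (List ℕ)) :
    T.subOK subs = true ↔ ∀ r ∈ subs, T.walkT r 0 = 0 := by
  unfold subOK
  induction subs with
  | nil => simp
  | cons r rs ih =>
    show (and (Nat.beq (T.walkT r 0) 0) _) = true ↔ _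
    rw [Bool.and_eq_true, ih, Data.nbeq_iff]
    simp

theorem pathProd_sigma_eq_one (h : T.OK) (w : List ℕ) (hw : ∀ l ∈ w, l < T.k)
    (hfix : ∀ p, p < T.n → T.walkT w p = p) : pathProd (sigma h) w = 1 := by
  ext p
  rw [pathProd_sigma_apply h w hw, hfix p p.2]
  rfl

end Table

/-! ### The orbit map -/

section Orbit
variable {G : Type*} [Group G] (H : Subgroup G) {T : Table} (hT : T.OK) (hn : 0 < T.n)
  (φ : G →* Equiv.Perm (Fin T.n)) (γ : ℕ → G)

/-- the orbit map `g H ↦ φ g 0` -/
noncomputable def orbitMap (hH : ∀ h ∈ H, φ h ⟨0, hn⟩ = ⟨0, hn⟩) : G ⧸ H → Fin T.n :=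
  Quotient.lift (fun g : G => φ g ⟨0, hn⟩) (by
    intro a b hab
    have hab' : a⁻¹ * b ∈ H := QuotientGroup.leftRel_apply.mp hab
    have := hH _ hab'
    show φ a ⟨0, hn⟩ = φ b ⟨0, hn⟩
    have e : b = a * (a⁻¹ * b) := by group
    rw [e, map_mul, Equiv.Perm.mul_apply, this])

theorem orbitMap_mk (hH : ∀ h ∈ H, φ h ⟨0, hn⟩ = ⟨0, hn⟩) (g : G) :
    orbitMap H hn φ hH (QuotientGroup.mk g) = φ g ⟨0, hn⟩ := rfl

theorem orbitMap_smul (hH : ∀ h ∈ H, φ h ⟨0, hn⟩ = ⟨0, hn⟩) (g : G) (q : G ⧸ H) :
    orbitMap H hn φ hH (g • q) = φ g (orbitMap H hn φ hH q) := by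
  induction q using QuotientGroup.induction_on with
  | H a =>
    show orbitMap H hn φ hH (QuotientGroup.mk (g * a)) = _
    rw [orbitMap_mk, orbitMap_mk, map_mul, Equiv.Perm.mul_apply]

theorem orbitMap_surjective (hH : ∀ h ∈ H, φ h ⟨0, hn⟩ = ⟨0, hn⟩)
    (hφ : ∀ l, l < T.k → φ (γ l) = Table.sigma hT l) (htree : T.treeOK = true) :
    Function.Surjective (orbitMap H hn φ hH) := by
  unfold Table.treeOK at htree
  rw [allLoop_eq_true] at htree
  have key : ∀ m : ℕ, ∀ p : ℕ, p ≤ m → ∀ hp : p < T.n, ∃ g : G, φ g ⟨0, hn⟩ = ⟨p, hp⟩ := by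
    intro m
    induction m with
    | zero =>
      intro p hp0 hp
      have : p = 0 := by omega
      subst this
      exact ⟨1, by simp⟩
    | succ m ih =>
      intro p hpm hp
      rcases Nat.lt_or_ge p (m + 1) with h | h
      · exact ih p (by omega) hp
      · have hpe : p = m + 1 := by omega
        subst hpe
        have := htree m (by
          have : m + 1 < T.n := hp
          show m < Nat.pred T.n
          rw [Nat.pred_eq_sub_one]; omega)
        rw [Bool.and_eq_true, Bool.and_eq_true, Nat.ble_eq, Nat.ble_eq, Data.nbeq_iff] at this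
        obtain ⟨⟨h1, h2⟩, h3⟩ := this
        set par := Nat.mod (T.tslot (Nat.succ m)) T.M with hpar
        set lt := Nat.div (T.tslot (Nat.succ m)) T.M with hlt
        obtain ⟨g, hg⟩ := ih par h1 (by omega)
        refine ⟨γ lt * g, ?_⟩
        rw [map_mul, Equiv.Perm.mul_apply, hg, hφ lt h2]
        apply Fin.ext
        rw [Table.sigma_apply hT h2]
        exact h3
  intro p
  obtain ⟨g, hg⟩ := key p.val p.val le_rfl p.2
  exact ⟨QuotientGroup.mk g, by rw [orbitMap_mk, hg]⟩

end Orbit

end Cfsg.Agent.Lib.Helper28.TC2Lower
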