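import Cfsg.Agent.Lib.Helper28.SchurFoxB
import Cfsg.Agent.Lib.Helper28.TC2Lower

set_option autoImplicit false

/-!
# Fox calculus on a coset space, for central extensions

A retraction of the preimage of a point stabiliser onto the kernel gives a cocycle `c γ ω` with values
in the kernel.  The value of a relator on lifts of the generators is the product of the cocycle values
along the walk of the relator from any point.
-/

namespace Cfsg.Agent.Lib.Helper28.SchurFox

open Subgroup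
open scoped IsMulCommutative
open Cfsg.Agent.Lib.Helper28.TC2Lower (pathProd)

/-- a cocycle with values in the kernel of the central extension `σ` -/
structure Cocycle {Γ G : Type*} [Group Γ] [Group G] (σ : Γ →* G) (Ω : Type*) [MulAction G Ω] where
  /-- the cocycle -/
  c : Γ → Ω → ↥(center Γ)
  mem_ker : ∀ γ ω, ((c γ ω : ↥(center Γ)) : Γ) ∈ σ.ker
  map_mul : ∀ γ γ' ω, c (γ * γ') ω = c γ (σ γ' • ω) * c γ' ω
  id_ker : ∀ a ∈ σ.ker, ∀ ω, ((c a ω : ↥(center Γ)) : Γ) = a

theorem exists_cocycle {Γ G : Type*} [Group Γ] [Group G] (σ : Γ →* G) (hs : Function.Surjective σ)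
    (hc : σ.ker ≤ center Γ) {Ω : Type*} [MulAction G Ω] [MulAction.IsPretransitive G Ω] (ω₀ : Ω)
    (V : Subgroup Γ) (hV : ∀ γ, γ ∈ V ↔ σ γ • ω₀ = ω₀) (R : Retraction σ V) :
    Nonempty (Cocycle σ Ω) := by
  have hτ : ∀ ω : Ω, ∃ t : Γ, σ t • ω₀ = ω := by
    intro ω
    obtain ⟨g, hg⟩ := MulAction.exists_smul_eq G ω₀ ω
    obtain ⟨t, rfl⟩ := hs g
    exact ⟨t, hg⟩
  choose τ hτ using hτ
  have hmem : ∀ γ ω, (τ (σ γ • ω))⁻¹ * γ * τ ω ∈ V := by
    intro γ ω
    rw [hV, map_mul, map_mul, map_inv, mul_smul, mul_smul, hτ ω, inv_smul_eq_iff, hτ]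
  let elt : Γ → Ω → ↥V := fun γ ω => ⟨_, hmem γ ω⟩
  have helt : ∀ γ γ' ω, elt (γ * γ') ω = elt γ (σ γ' • ω) * elt γ' ω := by
    intro γ γ' ω
    apply Subtype.ext
    show (τ (σ (γ * γ') • ω))⁻¹ * (γ * γ') * τ ω =
      ((τ (σ γ • (σ γ' • ω)))⁻¹ * γ * τ (σ γ' • ω)) * ((τ (σ γ' • ω))⁻¹ * γ' * τ ω)
    rw [map_mul, mul_smul]
    group
  refine ⟨⟨fun γ ω => R.π (elt γ ω), fun γ ω => R.mem_ker _, fun γ γ' ω => by rw [helt, map_mul], ?_⟩⟩
  intro a ha ω
  have h1 : σ a • ω = ω := by rw [MonoidHom.mem_ker.mp ha, one_smul]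
  have h2 : ((elt a ω : ↥V) : Γ) = a := by
    show (τ (σ a • ω))⁻¹ * a * τ ω = a
    rw [h1, mul_assoc, ← mem_center_iff.mp (hc ha) (τ ω), inv_mul_cancel_left]
  have haV : a ∈ V := by rw [hV, MonoidHom.mem_ker.mp ha, one_smul]
  have h3 : elt a ω = ⟨a, haV⟩ := Subtype.ext h2
  show ((R.π (elt a ω) : ↥(center Γ)) : Γ) = a
  rw [h3]
  exact R.id_ker a ha haV

section Walk
variable {Γ G : Type*} [Group Γ] [Group G] {σ : Γ →* G} {Ω : Type*} [MulAction G Ω]
variable (C : Cocycle σ Ω)

theorem Cocycle.c_one (ω : Ω) : C.c 1 ω = 1 := Subtype.ext (C.id_ker 1 (one_mem _) ω)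

theorem Cocycle.c_inv (γ : Γ) (ω : Ω) : C.c γ⁻¹ ω = (C.c γ (σ γ⁻¹ • ω))⁻¹ := by
  have h := C.map_mul γ γ⁻¹ ω
  rw [mul_inv_cancel, C.c_one] at h
  exact eq_inv_of_mul_eq_one_right h.symm

/-- the product of the cocycle values along a path -/
def walkC (γl : ℕ → Γ) : List ℕ → Ω → ↥(center Γ)
  | [], _ => 1
  | l :: ls, ω => walkC γl ls (σ (γl l) • ω) * C.c (γl l) ω

theorem c_pathProd (γl : ℕ → Γ) (w : List ℕ) (ω : Ω) : C.c (pathProd γl w) ω = walkC C γl w ω := by
  induction w generalizing ω with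
  | nil => exact C.c_one ω
  | cons l ls ih =>
    show C.c (pathProd γl ls * γl l) ω = _
    rw [C.map_mul, ih]
    rfl

/-- the value of the letter `l`: the letters `2 x` and `2 x + 1` are the generator `x` and its inverse -/
def letG (γx : ℕ → Γ) (l : ℕ) : Γ := if l % 2 = 0 then γx (l / 2) else (γx (l / 2))⁻¹

/-- the product along a path in a table -/
def walkF {A : Type*} [CommGroup A] (F : ℕ → ℕ → A) (nxt : ℕ → ℕ → ℕ) : List ℕ → ℕ → A
  | [], _ => 1
  | l :: ls, i => walkF F nxt ls (nxt l i) *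
      (if l % 2 = 0 then F i (l / 2) else (F (nxt l i) (l / 2))⁻¹)

theorem walkC_eq_walkF (γx : ℕ → Γ) (pts : ℕ → Ω) (nxt : ℕ → ℕ → ℕ) (n d : ℕ)
    (hnxt : ∀ l < 2 * d, ∀ i < n, nxt l i < n ∧ σ (letG γx l) • pts i = pts (nxt l i))
    (w : List ℕ) (hw : ∀ l ∈ w, l < 2 * d) (i : ℕ) (hi : i < n) :
    walkC C (letG γx) w (pts i) = walkF (fun i x => C.c (γx x) (pts i)) nxt w i := by
  induction w generalizing i with
  | nil => rfl
  | cons l ls ih =>
    have hl : l < 2 * d := hw l List.mem_cons_self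
    obtain ⟨h1, h2⟩ := hnxt l hl i hi
    show walkC C (letG γx) ls (σ (letG γx l) • pts i) * C.c (letG γx l) (pts i) =
      walkF _ nxt ls (nxt l i) * _
    rw [h2, ih (fun l' hl' => hw l' (List.mem_cons_of_mem _ hl')) _ h1]
    congr 1
    by_cases hpar : l % 2 = 0
    · rw [if_pos hpar]
      simp only [letG, if_pos hpar]
    · rw [if_neg hpar]
      have e : letG γx l = (γx (l / 2))⁻¹ := by simp only [letG, if_neg hpar]
      rw [e, C.c_inv, ← e, h2]

/-- the value of a relator is the product along its walk from any point -/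
theorem relator_eq_walkF (γx : ℕ → Γ) (pts : ℕ → Ω) (nxt : ℕ → ℕ → ℕ) (n d : ℕ)
    (hnxt : ∀ l < 2 * d, ∀ i < n, nxt l i < n ∧ σ (letG γx l) • pts i = pts (nxt l i))
    (w : List ℕ) (hw : ∀ l ∈ w, l < 2 * d) (hrel : σ (pathProd (letG γx) w) = 1) (i : ℕ) (hi : i < n) :
    pathProd (letG γx) w = ((walkF (fun i x => C.c (γx x) (pts i)) nxt w i : ↥(center Γ)) : Γ) := by
  rw [← walkC_eq_walkF C γx pts nxt n d hnxt w hw i hi, ← c_pathProd]
  exact (C.id_ker _ (MonoidHom.mem_ker.mpr hrel) (pts i)).symm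

end Walk

section Adjust
variable {Γ : Type*} [Group Γ]

/-- the value of the letter `l` for central elements -/
def letA (a : ℕ → ↥(center Γ)) (l : ℕ) : ↥(center Γ) := if l % 2 = 0 then a (l / 2) else (a (l / 2))⁻¹

theorem letG_mul (γx : ℕ → Γ) (a : ℕ → ↥(center Γ)) (l : ℕ) :
    letG (fun x => γx x * (a x : Γ)) l = letG γx l * ((letA a l : ↥(center Γ)) : Γ) := by
  by_cases hpar : l % 2 = 0
  · simp only [letG, letA, if_pos hpar]
  · simp only [letG, letA, if_neg hpar]
    rw [mul_inv_rev, Subgroup.coe_inv]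
    exact (mem_center_iff.mp (inv_mem (a (l / 2)).2) _).symm

theorem pathProd_mul (γx : ℕ → Γ) (a : ℕ → ↥(center Γ)) (w : List ℕ) :
    pathProd (letG (fun x => γx x * (a x : Γ))) w =
      pathProd (letG γx) w * (((w.map (letA a)).prod : ↥(center Γ)) : Γ) := by
  induction w with
  | nil => simp [pathProd]
  | cons l ls ih =>
    show pathProd _ ls * letG _ l = pathProd (letG γx) ls * letG γx l * _
    rw [ih, letG_mul, List.map_cons, List.prod_cons, Subgroup.coe_mul]
    have hc := mem_center_iff.mp ((ls.map (letA a)).prod : ↥(center Γ)).2 (letG γx l)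
    set A : Γ := (((ls.map (letA a)).prod : ↥(center Γ)) : Γ)
    set b : Γ := ((letA a l : ↥(center Γ)) : Γ)
    have hb := mem_center_iff.mp (letA a l : ↥(center Γ)).2 A
    calc pathProd (letG γx) ls * A * (letG γx l * b)
        = pathProd (letG γx) ls * (A * letG γx l) * b := by group
      _ = pathProd (letG γx) ls * (letG γx l * A) * b := by rw [hc]
      _ = pathProd (letG γx) ls * letG γx l * (A * b) := by group
      _ = pathProd (letG γx) ls * letG γx l * (b * A) := by rw [hb]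

/-- exponent of the generator `x` in a path, modulo `p` -/
def expo (p : ℕ) (w : List ℕ) (x : ℕ) : ℕ :=
  (w.map (fun l => if l = 2 * x then 1 else if l = 2 * x + 1 then p - 1 else 0)).sum

theorem expo_cons (p : ℕ) (l : ℕ) (ls : List ℕ) (x : ℕ) :
    expo p (l :: ls) x = (if l = 2 * x then 1 else if l = 2 * x + 1 then p - 1 else 0) + expo p ls x := by
  simp [expo]

theorem prod_letA {A : Type*} [CommGroup A] (p : ℕ) (hp : 0 < p) (a : ℕ → A) (ha : ∀ x, a x ^ p = 1)
    (d : ℕ) (w : List ℕ) (hw : ∀ l ∈ w, l < 2 * d) :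
    (w.map (fun l => if l % 2 = 0 then a (l / 2) else (a (l / 2))⁻¹)).prod =
      ∏ x ∈ Finset.range d, a x ^ expo p w x := by
  induction w with
  | nil => simp [expo]
  | cons l ls ih =>
    rw [List.map_cons, List.prod_cons, ih (fun l' hl' => hw l' (List.mem_cons_of_mem _ hl'))]
    have hl : l < 2 * d := hw l List.mem_cons_self
    simp only [expo_cons, pow_add, Finset.prod_mul_distrib]
    congr 1
    rw [Finset.prod_eq_single (l / 2)]
    · by_cases hpar : l % 2 = 0
      · rw [if_pos hpar, if_pos (by omega), pow_one]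
      · rw [if_neg hpar, if_neg (by omega), if_pos (by omega)]
        have h1 : a (l / 2) ^ (p - 1) * a (l / 2) = 1 := by
          rw [← pow_succ, Nat.sub_add_cancel hp, ha]
        exact (eq_inv_of_mul_eq_one_left h1).symm
    · intro x _ hx
      rw [if_neg (by omega), if_neg (by omega), pow_zero]
    · intro h
      exact absurd (Finset.mem_range.mpr (by omega)) h

end Adjust

/-- the linear algebra: the relator values are in the image of the exponent matrix -/
theorem la_lemma {A : Type*} [CommGroup A] (p m d K : ℕ) (z : ℕ → A) (hz : ∀ j, z j ^ p = 1)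
    (E S T Λ : ℕ → ℕ → ℕ)
    (hΛ : ∀ k < K, ∏ j ∈ Finset.range m, z j ^ Λ k j = 1)
    (hid : ∀ j < m, ∀ i < m,
      (∑ x ∈ Finset.range d, E j x * S x i + ∑ k ∈ Finset.range K, T j k * Λ k i) % p =
        (if j = i then 1 else 0) % p)
    (j : ℕ) (hj : j < m) :
    z j = ∏ x ∈ Finset.range d, (∏ i ∈ Finset.range m, z i ^ S x i) ^ E j x := by
  have hmod : ∀ (i : ℕ) (u v : ℕ), u % p = v % p → z i ^ u = z i ^ v := by
    intro i u v huv
    rw [pow_eq_pow_mod u (hz i), pow_eq_pow_mod v (hz i), huv]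
  have h1 : z j = ∏ i ∈ Finset.range m, z i ^ (if j = i then 1 else 0) := by
    rw [Finset.prod_eq_single j]
    · simp
    · intro i _ hi
      rw [if_neg (Ne.symm hi), pow_zero]
    · intro h
      exact absurd (Finset.mem_range.mpr hj) h
  have h2 : ∏ i ∈ Finset.range m, z i ^ (if j = i then 1 else 0) =
      ∏ i ∈ Finset.range m, z i ^ (∑ x ∈ Finset.range d, E j x * S x i +
        ∑ k ∈ Finset.range K, T j k * Λ k i) := by
    apply Finset.prod_congr rfl
    intro i hi
    exact hmod i _ _ (hid j hj i (Finset.mem_range.mp hi)).symm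
  rw [h1, h2]
  simp only [pow_add, Finset.prod_mul_distrib, ← Finset.prod_pow_eq_pow_sum]
  have h3 : ∏ i ∈ Finset.range m, ∏ k ∈ Finset.range K, z i ^ (T j k * Λ k i) = 1 := by
    rw [Finset.prod_comm]
    apply Finset.prod_eq_one
    intro k hk
    have : ∏ i ∈ Finset.range m, z i ^ (T j k * Λ k i) = (∏ i ∈ Finset.range m, z i ^ Λ k i) ^ T j k := by
      rw [← Finset.prod_pow]
      apply Finset.prod_congr rfl
      intro i _
      rw [mul_comm, pow_mul]
    rw [this, hΛ k (Finset.mem_range.mp hk), one_pow]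
  rw [h3, mul_one, Finset.prod_comm]
  apply Finset.prod_congr rfl
  intro x _
  rw [← Finset.prod_pow]
  apply Finset.prod_congr rfl
  intro i _
  rw [mul_comm, pow_mul]

/-- lifts of the generators that satisfy the relators split the extension -/
theorem ker_eq_bot_of_lifts {α : Type*} (rels : Set (FreeGroup α)) {Γ : Type*} [Group Γ]
    (σ : Γ →* PresentedGroup rels) (hσ : Cfsg.IsStemExtension σ) (γ : α → Γ)
    (hγ : ∀ x, σ (γ x) = PresentedGroup.of x) (hrel : ∀ r ∈ rels, FreeGroup.lift γ r = 1) :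
    σ.ker = ⊥ := by
  let ψ : PresentedGroup rels →* Γ := PresentedGroup.toGroup hrel
  have hψ : σ.comp ψ = MonoidHom.id _ := by
    apply PresentedGroup.ext
    intro x
    show σ (ψ (PresentedGroup.of x)) = PresentedGroup.of x
    rw [show ψ (PresentedGroup.of x) = γ x from PresentedGroup.toGroup.of hrel, hγ]
  have hψ' : ∀ u, σ (ψ u) = u := fun u => congrArg (fun f : PresentedGroup rels →* PresentedGroup rels => f u) hψ
  have htop : (⊤ : Subgroup Γ) ≤ ψ.range ⊔ σ.ker := by
    intro g _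
    have h1 : (ψ (σ g))⁻¹ * g ∈ σ.ker := by
      rw [MonoidHom.mem_ker, map_mul, map_inv, hψ', inv_mul_cancel]
    have : g = ψ (σ g) * ((ψ (σ g))⁻¹ * g) := by group
    rw [this]
    exact Subgroup.mul_mem_sup ⟨_, rfl⟩ h1
  have hcomm : commutator Γ ≤ ψ.range := by
    rw [commutator_def]
    refine (Subgroup.commutator_mono htop htop).trans
      ((Cfsg.Agent.Lib.Helper3.SchurM.comm_sup_central_le ψ.range σ.ker hσ.2.1).trans ?_)
    rw [Subgroup.commutator_le]
    intro x hx y hy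
    exact ψ.range.mul_mem (ψ.range.mul_mem (ψ.range.mul_mem hx hy) (ψ.range.inv_mem hx)) (ψ.range.inv_mem hy)
  rw [eq_bot_iff]
  intro a ha
  obtain ⟨u, rfl⟩ := hcomm (hσ.2.2 ha)
  rw [MonoidHom.mem_ker, hψ'] at ha
  rw [Subgroup.mem_bot, ha, map_one]

end Cfsg.Agent.Lib.Helper28.SchurFox
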