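import Cfsg.Agent.Lib.Helper28.TCONBTable
import Cfsg.Agent.Lib.Helper28.TCONTable
import Cfsg.Agent.Lib.Helper28.TCONBChk1
set_option autoImplicit false
set_option maxRecDepth 100000
set_option maxHeartbeats 0

namespace Cfsg.Agent.Lib.Helper28.TCONBChk4
open Cfsg.Agent.Lib.Helper28.TC2Upper Cfsg.Agent.Lib.Helper28.TC2Lower Cfsg.Agent.Lib.Helper28.TC2Orbit Cfsg.Agent.Lib.Helper28.TC2Range Cfsg.Agent.Lib.Helper28.TC2Bsgs Cfsg.Agent.Lib.Helper28.TCONBTable

theorem agr2 : agreeRange Cfsg.Agent.Lib.Helper28.TCONTable.table btable 8 31250 15625 = true := by decide +kernel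
theorem agr3 : agreeRange Cfsg.Agent.Lib.Helper28.TCONTable.table btable 8 46875 15625 = true := by decide +kernel
theorem agr4 : agreeRange Cfsg.Agent.Lib.Helper28.TCONTable.table btable 8 62500 15625 = true := by decide +kernel
theorem agr5 : agreeRange Cfsg.Agent.Lib.Helper28.TCONTable.table btable 8 78125 15625 = true := by decide +kernel
theorem agr6 : agreeRange Cfsg.Agent.Lib.Helper28.TCONTable.table btable 8 93750 15625 = true := by decide +kernel

end Cfsg.Agent.Lib.Helper28.TCONBChk4
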