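import Cfsg.Agent.Lib.Helper28.TCONBTable
import Cfsg.Agent.Lib.Helper28.TCONTable
import Cfsg.Agent.Lib.Helper28.TCONBChk3
set_option autoImplicit false
set_option maxRecDepth 100000
set_option maxHeartbeats 0

namespace Cfsg.Agent.Lib.Helper28.TCONBChk6
open Cfsg.Agent.Lib.Helper28.TC2Upper Cfsg.Agent.Lib.Helper28.TC2Lower Cfsg.Agent.Lib.Helper28.TC2Orbit Cfsg.Agent.Lib.Helper28.TC2Range Cfsg.Agent.Lib.Helper28.TC2Bsgs Cfsg.Agent.Lib.Helper28.TCONBTable

theorem def9_0 : defRange btable defs 9 0 31250 = true := by decide +kernel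
theorem def9_1 : defRange btable defs 9 31250 31250 = true := by decide +kernel
theorem def9_2 : defRange btable defs 9 62500 31250 = true := by decide +kernel
theorem def9_3 : defRange btable defs 9 93750 29010 = true := by decide +kernel
theorem def10_0 : defRange btable defs 10 0 10416 = true := by decide +kernel

end Cfsg.Agent.Lib.Helper28.TCONBChk6
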