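import Cfsg.Agent.Lib.Helper28.TCONBTable
import Cfsg.Agent.Lib.Helper28.TCONTable
set_option autoImplicit false
set_option maxRecDepth 100000
set_option maxHeartbeats 0

namespace Cfsg.Agent.Lib.Helper28.TCONBChk2
open Cfsg.Agent.Lib.Helper28.TC2Upper Cfsg.Agent.Lib.Helper28.TC2Lower Cfsg.Agent.Lib.Helper28.TC2Orbit Cfsg.Agent.Lib.Helper28.TC2Range Cfsg.Agent.Lib.Helper28.TC2Bsgs Cfsg.Agent.Lib.Helper28.TCONBTable

theorem prm10 : Table.permRange btable 69440 6944 = true := by decide +kernel
theorem prm11 : Table.permRange btable 76384 6944 = true := by decide +kernel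
theorem prm12 : Table.permRange btable 83328 6944 = true := by decide +kernel
theorem prm13 : Table.permRange btable 90272 6944 = true := by decide +kernel
theorem prm14 : Table.permRange btable 97216 6944 = true := by decide +kernel

end Cfsg.Agent.Lib.Helper28.TCONBChk2
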