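import Cfsg.Agent.Lib.Helper28.TCONBTable
import Cfsg.Agent.Lib.Helper28.TCONTable
import Cfsg.Agent.Lib.Helper28.TCONBChk8
set_option autoImplicit false
set_option maxRecDepth 100000
set_option maxHeartbeats 0

namespace Cfsg.Agent.Lib.Helper28.TCONBChk11
open Cfsg.Agent.Lib.Helper28.TC2Upper Cfsg.Agent.Lib.Helper28.TC2Lower Cfsg.Agent.Lib.Helper28.TC2Orbit Cfsg.Agent.Lib.Helper28.TC2Range Cfsg.Agent.Lib.Helper28.TC2Bsgs Cfsg.Agent.Lib.Helper28.TCONBTable

theorem def11_9 : defRange btable defs 11 93744 10416 = true := by decide +kernel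
theorem def11_10 : defRange btable defs 11 104160 10416 = true := by decide +kernel
theorem def11_11 : defRange btable defs 11 114576 8184 = true := by decide +kernel
theorem def12_0 : defRange btable defs 12 0 6756 = true := by decide +kernel
theorem def12_1 : defRange btable defs 12 6756 6756 = true := by decide +kernel

end Cfsg.Agent.Lib.Helper28.TCONBChk11
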