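import Cfsg.Agent.Lib.Helper28.TCONBTable
import Cfsg.Agent.Lib.Helper28.TCONTable
import Cfsg.Agent.Lib.Helper28.TCONBChk13
set_option autoImplicit false
set_option maxRecDepth 100000
set_option maxHeartbeats 0

namespace Cfsg.Agent.Lib.Helper28.TCONBChk16
open Cfsg.Agent.Lib.Helper28.TC2Upper Cfsg.Agent.Lib.Helper28.TC2Lower Cfsg.Agent.Lib.Helper28.TC2Orbit Cfsg.Agent.Lib.Helper28.TC2Range Cfsg.Agent.Lib.Helper28.TC2Bsgs Cfsg.Agent.Lib.Helper28.TCONBTable

theorem def13_3 : defRange btable defs 13 20268 6756 = true := by decide +kernel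
theorem def13_4 : defRange btable defs 13 27024 6756 = true := by decide +kernel
theorem def13_5 : defRange btable defs 13 33780 6756 = true := by decide +kernel
theorem def13_6 : defRange btable defs 13 40536 6756 = true := by decide +kernel
theorem def13_7 : defRange btable defs 13 47292 6756 = true := by decide +kernel

end Cfsg.Agent.Lib.Helper28.TCONBChk16
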