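import Cfsg.Agent.Lib.Helper28.TCONBTable
import Cfsg.Agent.Lib.Helper28.TCONTable
import Cfsg.Agent.Lib.Helper28.TCONBChk14
set_option autoImplicit false
set_option maxRecDepth 100000
set_option maxHeartbeats 0

namespace Cfsg.Agent.Lib.Helper28.TCONBChk17
open Cfsg.Agent.Lib.Helper28.TC2Upper Cfsg.Agent.Lib.Helper28.TC2Lower Cfsg.Agent.Lib.Helper28.TC2Orbit Cfsg.Agent.Lib.Helper28.TC2Range Cfsg.Agent.Lib.Helper28.TC2Bsgs Cfsg.Agent.Lib.Helper28.TCONBTable

theorem def13_8 : defRange btable defs 13 54048 6756 = true := by decide +kernel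
theorem def13_9 : defRange btable defs 13 60804 6756 = true := by decide +kernel
theorem def13_10 : defRange btable defs 13 67560 6756 = true := by decide +kernel
theorem def13_11 : defRange btable defs 13 74316 6756 = true := by decide +kernel
theorem def13_12 : defRange btable defs 13 81072 6756 = true := by decide +kernel

end Cfsg.Agent.Lib.Helper28.TCONBChk17
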