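import Cfsg.Agent.Lib.Helper28.TCONBTable
import Cfsg.Agent.Lib.Helper28.TCONTable
import Cfsg.Agent.Lib.Helper28.TCONBChk16
set_option autoImplicit false
set_option maxRecDepth 100000
set_option maxHeartbeats 0

namespace Cfsg.Agent.Lib.Helper28.TCONBChk19
open Cfsg.Agent.Lib.Helper28.TC2Upper Cfsg.Agent.Lib.Helper28.TC2Lower Cfsg.Agent.Lib.Helper28.TC2Orbit Cfsg.Agent.Lib.Helper28.TC2Range Cfsg.Agent.Lib.Helper28.TC2Bsgs Cfsg.Agent.Lib.Helper28.TCONBTable

theorem def13_18 : defRange btable defs 13 121608 1152 = true := by decide +kernel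
theorem def14_0 : defRange btable defs 14 0 13157 = true := by decide +kernel
theorem def14_1 : defRange btable defs 14 13157 13157 = true := by decide +kernel
theorem def14_2 : defRange btable defs 14 26314 13157 = true := by decide +kernel
theorem def14_3 : defRange btable defs 14 39471 13157 = true := by decide +kernel

end Cfsg.Agent.Lib.Helper28.TCONBChk19
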