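import Cfsg.Agent.Lib.Helper28.TCONBTable
import Cfsg.Agent.Lib.Helper28.TCONTable
import Cfsg.Agent.Lib.Helper28.TCONBChk19
set_option autoImplicit false
set_option maxRecDepth 100000
set_option maxHeartbeats 0

namespace Cfsg.Agent.Lib.Helper28.TCONBChk22
open Cfsg.Agent.Lib.Helper28.TC2Upper Cfsg.Agent.Lib.Helper28.TC2Lower Cfsg.Agent.Lib.Helper28.TC2Orbit Cfsg.Agent.Lib.Helper28.TC2Range Cfsg.Agent.Lib.Helper28.TC2Bsgs Cfsg.Agent.Lib.Helper28.TCONBTable

theorem def15_4 : defRange btable defs 15 52628 13157 = true := by decide +kernel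
theorem def15_5 : defRange btable defs 15 65785 13157 = true := by decide +kernel
theorem def15_6 : defRange btable defs 15 78942 13157 = true := by decide +kernel
theorem def15_7 : defRange btable defs 15 92099 13157 = true := by decide +kernel
theorem def15_8 : defRange btable defs 15 105256 13157 = true := by decide +kernel

end Cfsg.Agent.Lib.Helper28.TCONBChk22
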