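import Cfsg.Agent.Lib.Helper28.TCONBTable
import Cfsg.Agent.Lib.Helper28.TCONTable
import Cfsg.Agent.Lib.Helper28.TCONBChk25
set_option autoImplicit false
set_option maxRecDepth 100000
set_option maxHeartbeats 0

namespace Cfsg.Agent.Lib.Helper28.TCONBChk28
open Cfsg.Agent.Lib.Helper28.TC2Upper Cfsg.Agent.Lib.Helper28.TC2Lower Cfsg.Agent.Lib.Helper28.TC2Orbit Cfsg.Agent.Lib.Helper28.TC2Range Cfsg.Agent.Lib.Helper28.TC2Bsgs Cfsg.Agent.Lib.Helper28.TCONBTable

theorem def17_10 : defRange btable defs 17 89280 8928 = true := by decide +kernel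
theorem def17_11 : defRange btable defs 17 98208 8928 = true := by decide +kernel
theorem def17_12 : defRange btable defs 17 107136 8928 = true := by decide +kernel
theorem def17_13 : defRange btable defs 17 116064 6696 = true := by decide +kernel
theorem conn0_0 : OrbData.connOKc orb0 btable 1 0 31250 = true := by decide +kernel

end Cfsg.Agent.Lib.Helper28.TCONBChk28
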