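import Cfsg.Agent.Lib.Helper28.TCONBTable
import Cfsg.Agent.Lib.Helper28.TCONTable
import Cfsg.Agent.Lib.Helper28.TCONBChk26
set_option autoImplicit false
set_option maxRecDepth 100000
set_option maxHeartbeats 0

namespace Cfsg.Agent.Lib.Helper28.TCONBChk29
open Cfsg.Agent.Lib.Helper28.TC2Upper Cfsg.Agent.Lib.Helper28.TC2Lower Cfsg.Agent.Lib.Helper28.TC2Orbit Cfsg.Agent.Lib.Helper28.TC2Range Cfsg.Agent.Lib.Helper28.TC2Bsgs Cfsg.Agent.Lib.Helper28.TCONBTable

theorem conn0_1 : OrbData.connOKc orb0 btable 1 31250 31250 = true := by decide +kernel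
theorem conn0_2 : OrbData.connOKc orb0 btable 1 62500 31250 = true := by decide +kernel
theorem conn0_3 : OrbData.connOKc orb0 btable 1 93750 29010 = true := by decide +kernel
theorem cnt0 : orb0.count 122760 1 = 122760 := by decide +kernel
theorem hgens0 : BT.all (fun s => decide (s ∈ A0.map fun l => [l])) orb0.gens = true := by decide +kernel

end Cfsg.Agent.Lib.Helper28.TCONBChk29
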