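import Cfsg.Agent.Lib.Helper28.TCONBTable
import Cfsg.Agent.Lib.Helper28.TCONTable
import Cfsg.Agent.Lib.Helper28.TCONBChk27
set_option autoImplicit false
set_option maxRecDepth 100000
set_option maxHeartbeats 0

namespace Cfsg.Agent.Lib.Helper28.TCONBChk30
open Cfsg.Agent.Lib.Helper28.TC2Upper Cfsg.Agent.Lib.Helper28.TC2Lower Cfsg.Agent.Lib.Helper28.TC2Orbit Cfsg.Agent.Lib.Helper28.TC2Range Cfsg.Agent.Lib.Helper28.TC2Bsgs Cfsg.Agent.Lib.Helper28.TCONBTable

theorem hA0 : ∀ l ∈ A0, l < btable.k ∧ ∀ q ∈ ([] : List ℕ), btable.tau l q = q := by decide +kernel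
theorem conn1_0 : OrbData.connOKc orb1 btable 1 0 31250 = true := by decide +kernel
theorem conn1_1 : OrbData.connOKc orb1 btable 1 31250 31250 = true := by decide +kernel
theorem conn1_2 : OrbData.connOKc orb1 btable 1 62500 31250 = true := by decide +kernel
theorem conn1_3 : OrbData.connOKc orb1 btable 1 93750 29010 = true := by decide +kernel

end Cfsg.Agent.Lib.Helper28.TCONBChk30
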