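import Cfsg.Agent.Lib.Helper28.TCONBChk0
import Cfsg.Agent.Lib.Helper28.TCONBChk1
import Cfsg.Agent.Lib.Helper28.TCONBChk2
import Cfsg.Agent.Lib.Helper28.TCONBChk3
import Cfsg.Agent.Lib.Helper28.TCONBChk4
import Cfsg.Agent.Lib.Helper28.TCONBChk5
import Cfsg.Agent.Lib.Helper28.TCONBChk6
import Cfsg.Agent.Lib.Helper28.TCONBChk7
import Cfsg.Agent.Lib.Helper28.TCONBChk8
import Cfsg.Agent.Lib.Helper28.TCONBChk9
import Cfsg.Agent.Lib.Helper28.TCONBChk10
import Cfsg.Agent.Lib.Helper28.TCONBChk11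
import Cfsg.Agent.Lib.Helper28.TCONBChk12
import Cfsg.Agent.Lib.Helper28.TCONBChk13
import Cfsg.Agent.Lib.Helper28.TCONBChk14
import Cfsg.Agent.Lib.Helper28.TCONBChk15
import Cfsg.Agent.Lib.Helper28.TCONBChk16
import Cfsg.Agent.Lib.Helper28.TCONBChk17
import Cfsg.Agent.Lib.Helper28.TCONBChk18
import Cfsg.Agent.Lib.Helper28.TCONBChk19
import Cfsg.Agent.Lib.Helper28.TCONBChk20
import Cfsg.Agent.Lib.Helper28.TCONBChk21
import Cfsg.Agent.Lib.Helper28.TCONBChk22
import Cfsg.Agent.Lib.Helper28.TCONBChk23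
import Cfsg.Agent.Lib.Helper28.TCONBChk24
import Cfsg.Agent.Lib.Helper28.TCONBChk25
import Cfsg.Agent.Lib.Helper28.TCONBChk26
import Cfsg.Agent.Lib.Helper28.TCONBChk27
import Cfsg.Agent.Lib.Helper28.TCONBChk28
import Cfsg.Agent.Lib.Helper28.TCONBChk29
import Cfsg.Agent.Lib.Helper28.TCONBChk30
import Cfsg.Agent.Lib.Helper28.TCONBChk31
import Cfsg.Agent.Lib.Helper28.TCONBChk32
import Cfsg.Agent.Lib.Helper28.TCONBChk33
import Cfsg.Agent.Lib.Helper28.TCONBChk34

set_option autoImplicit false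
set_option maxRecDepth 100000

namespace Cfsg.Agent.Lib.Helper28.TCONBMain
open Cfsg.Agent.Lib.Helper28.TC2Upper Cfsg.Agent.Lib.Helper28.TC2Lower Cfsg.Agent.Lib.Helper28.TC2Orbit Cfsg.Agent.Lib.Helper28.TC2Range Cfsg.Agent.Lib.Helper28.TC2Bsgs Cfsg.Agent.Lib.Helper28.TCONBTable

theorem hpermAll : ∀ p, p < btable.n → Table.permRow btable p = true := by
  intro p hp
  have hp' : p < 122760 := hp
  rcases Nat.lt_or_ge p 6944 with h0 | h0
  · exact (Table.permRange_iff btable 0 6944).mp Cfsg.Agent.Lib.Helper28.TCONBChk0.prm0 p (by omega) (by omega)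
  rcases Nat.lt_or_ge p 13888 with h1 | h1
  · exact (Table.permRange_iff btable 6944 6944).mp Cfsg.Agent.Lib.Helper28.TCONBChk0.prm1 p (by omega) (by omega)
  rcases Nat.lt_or_ge p 20832 with h2 | h2
  · exact (Table.permRange_iff btable 13888 6944).mp Cfsg.Agent.Lib.Helper28.TCONBChk0.prm2 p (by omega) (by omega)
  rcases Nat.lt_or_ge p 27776 with h3 | h3
  · exact (Table.permRange_iff btable 20832 6944).mp Cfsg.Agent.Lib.Helper28.TCONBChk0.prm3 p (by omega) (by omega)
  rcases Nat.lt_or_ge p 34720 with h4 | h4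
  · exact (Table.permRange_iff btable 27776 6944).mp Cfsg.Agent.Lib.Helper28.TCONBChk0.prm4 p (by omega) (by omega)
  rcases Nat.lt_or_ge p 41664 with h5 | h5
  · exact (Table.permRange_iff btable 34720 6944).mp Cfsg.Agent.Lib.Helper28.TCONBChk1.prm5 p (by omega) (by omega)
  rcases Nat.lt_or_ge p 48608 with h6 | h6
  · exact (Table.permRange_iff btable 41664 6944).mp Cfsg.Agent.Lib.Helper28.TCONBChk1.prm6 p (by omega) (by omega)
  rcases Nat.lt_or_ge p 55552 with h7 | h7
  · exact (Table.permRange_iff btable 48608 6944).mp Cfsg.Agent.Lib.Helper28.TCONBChk1.prm7 p (by omega) (by omega)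
  rcases Nat.lt_or_ge p 62496 with h8 | h8
  · exact (Table.permRange_iff btable 55552 6944).mp Cfsg.Agent.Lib.Helper28.TCONBChk1.prm8 p (by omega) (by omega)
  rcases Nat.lt_or_ge p 69440 with h9 | h9
  · exact (Table.permRange_iff btable 62496 6944).mp Cfsg.Agent.Lib.Helper28.TCONBChk1.prm9 p (by omega) (by omega)
  rcases Nat.lt_or_ge p 76384 with h10 | h10
  · exact (Table.permRange_iff btable 69440 6944).mp Cfsg.Agent.Lib.Helper28.TCONBChk2.prm10 p (by omega) (by omega)
  rcases Nat.lt_or_ge p 83328 with h11 | h11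
  · exact (Table.permRange_iff btable 76384 6944).mp Cfsg.Agent.Lib.Helper28.TCONBChk2.prm11 p (by omega) (by omega)
  rcases Nat.lt_or_ge p 90272 with h12 | h12
  · exact (Table.permRange_iff btable 83328 6944).mp Cfsg.Agent.Lib.Helper28.TCONBChk2.prm12 p (by omega) (by omega)
  rcases Nat.lt_or_ge p 97216 with h13 | h13
  · exact (Table.permRange_iff btable 90272 6944).mp Cfsg.Agent.Lib.Helper28.TCONBChk2.prm13 p (by omega) (by omega)
  rcases Nat.lt_or_ge p 104160 with h14 | h14
  · exact (Table.permRange_iff btable 97216 6944).mp Cfsg.Agent.Lib.Helper28.TCONBChk2.prm14 p (by omega) (by omega)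
  rcases Nat.lt_or_ge p 111104 with h15 | h15
  · exact (Table.permRange_iff btable 104160 6944).mp Cfsg.Agent.Lib.Helper28.TCONBChk3.prm15 p (by omega) (by omega)
  rcases Nat.lt_or_ge p 118048 with h16 | h16
  · exact (Table.permRange_iff btable 111104 6944).mp Cfsg.Agent.Lib.Helper28.TCONBChk3.prm16 p (by omega) (by omega)
  exact (Table.permRange_iff btable 118048 4712).mp Cfsg.Agent.Lib.Helper28.TCONBChk3.prm17 p (by omega) (by omega)

theorem hTB : btable.OK := Table.ok_of_rows btable Cfsg.Agent.Lib.Helper28.TCONBChk34.hinvOK hpermAll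

theorem hagree : ∀ p, p < Cfsg.Agent.Lib.Helper28.TCONTable.table.n → ∀ l, l < Cfsg.Agent.Lib.Helper28.TCONTable.table.k →
    btable.tau l p = Cfsg.Agent.Lib.Helper28.TCONTable.table.tau l p := by
  intro p hp
  have hp' : p < 122760 := hp
  rcases Nat.lt_or_ge p 15625 with h0 | h0
  · exact (agreeRange_iff _ btable 8 0 15625).mp Cfsg.Agent.Lib.Helper28.TCONBChk3.agr0 p (by omega) (by omega)
  rcases Nat.lt_or_ge p 31250 with h1 | h1
  · exact (agreeRange_iff _ btable 8 15625 15625).mp Cfsg.Agent.Lib.Helper28.TCONBChk3.agr1 p (by omega) (by omega)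
  rcases Nat.lt_or_ge p 46875 with h2 | h2
  · exact (agreeRange_iff _ btable 8 31250 15625).mp Cfsg.Agent.Lib.Helper28.TCONBChk4.agr2 p (by omega) (by omega)
  rcases Nat.lt_or_ge p 62500 with h3 | h3
  · exact (agreeRange_iff _ btable 8 46875 15625).mp Cfsg.Agent.Lib.Helper28.TCONBChk4.agr3 p (by omega) (by omega)
  rcases Nat.lt_or_ge p 78125 with h4 | h4
  · exact (agreeRange_iff _ btable 8 62500 15625).mp Cfsg.Agent.Lib.Helper28.TCONBChk4.agr4 p (by omega) (by omega)
  rcases Nat.lt_or_ge p 93750 with h5 | h5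
  · exact (agreeRange_iff _ btable 8 78125 15625).mp Cfsg.Agent.Lib.Helper28.TCONBChk4.agr5 p (by omega) (by omega)
  rcases Nat.lt_or_ge p 109375 with h6 | h6
  · exact (agreeRange_iff _ btable 8 93750 15625).mp Cfsg.Agent.Lib.Helper28.TCONBChk4.agr6 p (by omega) (by omega)
  exact (agreeRange_iff _ btable 8 109375 13385).mp Cfsg.Agent.Lib.Helper28.TCONBChk5.agr7 p (by omega) (by omega)

theorem hdef8 : ∀ p, p < btable.n → btable.walkT (defs.look 8) p = btable.tau 8 p := by
  intro p hp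
  have hp' : p < 122760 := hp
  rcases Nat.lt_or_ge p 31250 with h0 | h0
  · exact (defRange_iff defs 8 0 31250).mp Cfsg.Agent.Lib.Helper28.TCONBChk5.def8_0 p (by omega) (by omega)
  rcases Nat.lt_or_ge p 62500 with h1 | h1
  · exact (defRange_iff defs 8 31250 31250).mp Cfsg.Agent.Lib.Helper28.TCONBChk5.def8_1 p (by omega) (by omega)
  rcases Nat.lt_or_ge p 93750 with h2 | h2
  · exact (defRange_iff defs 8 62500 31250).mp Cfsg.Agent.Lib.Helper28.TCONBChk5.def8_2 p (by omega) (by omega)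
  exact (defRange_iff defs 8 93750 29010).mp Cfsg.Agent.Lib.Helper28.TCONBChk5.def8_3 p (by omega) (by omega)

theorem hdef9 : ∀ p, p < btable.n → btable.walkT (defs.look 9) p = btable.tau 9 p := by
  intro p hp
  have hp' : p < 122760 := hp
  rcases Nat.lt_or_ge p 31250 with h0 | h0
  · exact (defRange_iff defs 9 0 31250).mp Cfsg.Agent.Lib.Helper28.TCONBChk6.def9_0 p (by omega) (by omega)
  rcases Nat.lt_or_ge p 62500 with h1 | h1
  · exact (defRange_iff defs 9 31250 31250).mp Cfsg.Agent.Lib.Helper28.TCONBChk6.def9_1 p (by omega) (by omega)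
  rcases Nat.lt_or_ge p 93750 with h2 | h2
  · exact (defRange_iff defs 9 62500 31250).mp Cfsg.Agent.Lib.Helper28.TCONBChk6.def9_2 p (by omega) (by omega)
  exact (defRange_iff defs 9 93750 29010).mp Cfsg.Agent.Lib.Helper28.TCONBChk6.def9_3 p (by omega) (by omega)

theorem hdef10 : ∀ p, p < btable.n → btable.walkT (defs.look 10) p = btable.tau 10 p := by
  intro p hp
  have hp' : p < 122760 := hp
  rcases Nat.lt_or_ge p 10416 with h0 | h0
  · exact (defRange_iff defs 10 0 10416).mp Cfsg.Agent.Lib.Helper28.TCONBChk6.def10_0 p (by omega) (by omega)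
  rcases Nat.lt_or_ge p 20832 with h1 | h1
  · exact (defRange_iff defs 10 10416 10416).mp Cfsg.Agent.Lib.Helper28.TCONBChk7.def10_1 p (by omega) (by omega)
  rcases Nat.lt_or_ge p 31248 with h2 | h2
  · exact (defRange_iff defs 10 20832 10416).mp Cfsg.Agent.Lib.Helper28.TCONBChk7.def10_2 p (by omega) (by omega)
  rcases Nat.lt_or_ge p 41664 with h3 | h3
  · exact (defRange_iff defs 10 31248 10416).mp Cfsg.Agent.Lib.Helper28.TCONBChk7.def10_3 p (by omega) (by omega)
  rcases Nat.lt_or_ge p 52080 with h4 | h4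
  · exact (defRange_iff defs 10 41664 10416).mp Cfsg.Agent.Lib.Helper28.TCONBChk7.def10_4 p (by omega) (by omega)
  rcases Nat.lt_or_ge p 62496 with h5 | h5
  · exact (defRange_iff defs 10 52080 10416).mp Cfsg.Agent.Lib.Helper28.TCONBChk7.def10_5 p (by omega) (by omega)
  rcases Nat.lt_or_ge p 72912 with h6 | h6
  · exact (defRange_iff defs 10 62496 10416).mp Cfsg.Agent.Lib.Helper28.TCONBChk8.def10_6 p (by omega) (by omega)
  rcases Nat.lt_or_ge p 83328 with h7 | h7
  · exact (defRange_iff defs 10 72912 10416).mp Cfsg.Agent.Lib.Helper28.TCONBChk8.def10_7 p (by omega) (by omega)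
  rcases Nat.lt_or_ge p 93744 with h8 | h8
  · exact (defRange_iff defs 10 83328 10416).mp Cfsg.Agent.Lib.Helper28.TCONBChk8.def10_8 p (by omega) (by omega)
  rcases Nat.lt_or_ge p 104160 with h9 | h9
  · exact (defRange_iff defs 10 93744 10416).mp Cfsg.Agent.Lib.Helper28.TCONBChk8.def10_9 p (by omega) (by omega)
  rcases Nat.lt_or_ge p 114576 with h10 | h10
  · exact (defRange_iff defs 10 104160 10416).mp Cfsg.Agent.Lib.Helper28.TCONBChk8.def10_10 p (by omega) (by omega)
  exact (defRange_iff defs 10 114576 8184).mp Cfsg.Agent.Lib.Helper28.TCONBChk9.def10_11 p (by omega) (by omega)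

theorem hdef11 : ∀ p, p < btable.n → btable.walkT (defs.look 11) p = btable.tau 11 p := by
  intro p hp
  have hp' : p < 122760 := hp
  rcases Nat.lt_or_ge p 10416 with h0 | h0
  · exact (defRange_iff defs 11 0 10416).mp Cfsg.Agent.Lib.Helper28.TCONBChk9.def11_0 p (by omega) (by omega)
  rcases Nat.lt_or_ge p 20832 with h1 | h1
  · exact (defRange_iff defs 11 10416 10416).mp Cfsg.Agent.Lib.Helper28.TCONBChk9.def11_1 p (by omega) (by omega)
  rcases Nat.lt_or_ge p 31248 with h2 | h2
  · exact (defRange_iff defs 11 20832 10416).mp Cfsg.Agent.Lib.Helper28.TCONBChk9.def11_2 p (by omega) (by omega)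
  rcases Nat.lt_or_ge p 41664 with h3 | h3
  · exact (defRange_iff defs 11 31248 10416).mp Cfsg.Agent.Lib.Helper28.TCONBChk9.def11_3 p (by omega) (by omega)
  rcases Nat.lt_or_ge p 52080 with h4 | h4
  · exact (defRange_iff defs 11 41664 10416).mp Cfsg.Agent.Lib.Helper28.TCONBChk10.def11_4 p (by omega) (by omega)
  rcases Nat.lt_or_ge p 62496 with h5 | h5
  · exact (defRange_iff defs 11 52080 10416).mp Cfsg.Agent.Lib.Helper28.TCONBChk10.def11_5 p (by omega) (by omega)
  rcases Nat.lt_or_ge p 72912 with h6 | h6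
  · exact (defRange_iff defs 11 62496 10416).mp Cfsg.Agent.Lib.Helper28.TCONBChk10.def11_6 p (by omega) (by omega)
  rcases Nat.lt_or_ge p 83328 with h7 | h7
  · exact (defRange_iff defs 11 72912 10416).mp Cfsg.Agent.Lib.Helper28.TCONBChk10.def11_7 p (by omega) (by omega)
  rcases Nat.lt_or_ge p 93744 with h8 | h8
  · exact (defRange_iff defs 11 83328 10416).mp Cfsg.Agent.Lib.Helper28.TCONBChk10.def11_8 p (by omega) (by omega)
  rcases Nat.lt_or_ge p 104160 with h9 | h9
  · exact (defRange_iff defs 11 93744 10416).mp Cfsg.Agent.Lib.Helper28.TCONBChk11.def11_9 p (by omega) (by omega)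
  rcases Nat.lt_or_ge p 114576 with h10 | h10
  · exact (defRange_iff defs 11 104160 10416).mp Cfsg.Agent.Lib.Helper28.TCONBChk11.def11_10 p (by omega) (by omega)
  exact (defRange_iff defs 11 114576 8184).mp Cfsg.Agent.Lib.Helper28.TCONBChk11.def11_11 p (by omega) (by omega)

theorem hdef12 : ∀ p, p < btable.n → btable.walkT (defs.look 12) p = btable.tau 12 p := by
  intro p hp
  have hp' : p < 122760 := hp
  rcases Nat.lt_or_ge p 6756 with h0 | h0
  · exact (defRange_iff defs 12 0 6756).mp Cfsg.Agent.Lib.Helper28.TCONBChk11.def12_0 p (by omega) (by omega)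
  rcases Nat.lt_or_ge p 13512 with h1 | h1
  · exact (defRange_iff defs 12 6756 6756).mp Cfsg.Agent.Lib.Helper28.TCONBChk11.def12_1 p (by omega) (by omega)
  rcases Nat.lt_or_ge p 20268 with h2 | h2
  · exact (defRange_iff defs 12 13512 6756).mp Cfsg.Agent.Lib.Helper28.TCONBChk12.def12_2 p (by omega) (by omega)
  rcases Nat.lt_or_ge p 27024 with h3 | h3
  · exact (defRange_iff defs 12 20268 6756).mp Cfsg.Agent.Lib.Helper28.TCONBChk12.def12_3 p (by omega) (by omega)
  rcases Nat.lt_or_ge p 33780 with h4 | h4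
  · exact (defRange_iff defs 12 27024 6756).mp Cfsg.Agent.Lib.Helper28.TCONBChk12.def12_4 p (by omega) (by omega)
  rcases Nat.lt_or_ge p 40536 with h5 | h5
  · exact (defRange_iff defs 12 33780 6756).mp Cfsg.Agent.Lib.Helper28.TCONBChk12.def12_5 p (by omega) (by omega)
  rcases Nat.lt_or_ge p 47292 with h6 | h6
  · exact (defRange_iff defs 12 40536 6756).mp Cfsg.Agent.Lib.Helper28.TCONBChk12.def12_6 p (by omega) (by omega)
  rcases Nat.lt_or_ge p 54048 with h7 | h7
  · exact (defRange_iff defs 12 47292 6756).mp Cfsg.Agent.Lib.Helper28.TCONBChk13.def12_7 p (by omega) (by omega)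
  rcases Nat.lt_or_ge p 60804 with h8 | h8
  · exact (defRange_iff defs 12 54048 6756).mp Cfsg.Agent.Lib.Helper28.TCONBChk13.def12_8 p (by omega) (by omega)
  rcases Nat.lt_or_ge p 67560 with h9 | h9
  · exact (defRange_iff defs 12 60804 6756).mp Cfsg.Agent.Lib.Helper28.TCONBChk13.def12_9 p (by omega) (by omega)
  rcases Nat.lt_or_ge p 74316 with h10 | h10
  · exact (defRange_iff defs 12 67560 6756).mp Cfsg.Agent.Lib.Helper28.TCONBChk13.def12_10 p (by omega) (by omega)
  rcases Nat.lt_or_ge p 81072 with h11 | h11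
  · exact (defRange_iff defs 12 74316 6756).mp Cfsg.Agent.Lib.Helper28.TCONBChk13.def12_11 p (by omega) (by omega)
  rcases Nat.lt_or_ge p 87828 with h12 | h12
  · exact (defRange_iff defs 12 81072 6756).mp Cfsg.Agent.Lib.Helper28.TCONBChk14.def12_12 p (by omega) (by omega)
  rcases Nat.lt_or_ge p 94584 with h13 | h13
  · exact (defRange_iff defs 12 87828 6756).mp Cfsg.Agent.Lib.Helper28.TCONBChk14.def12_13 p (by omega) (by omega)
  rcases Nat.lt_or_ge p 101340 with h14 | h14
  · exact (defRange_iff defs 12 94584 6756).mp Cfsg.Agent.Lib.Helper28.TCONBChk14.def12_14 p (by omega) (by omega)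
  rcases Nat.lt_or_ge p 108096 with h15 | h15
  · exact (defRange_iff defs 12 101340 6756).mp Cfsg.Agent.Lib.Helper28.TCONBChk14.def12_15 p (by omega) (by omega)
  rcases Nat.lt_or_ge p 114852 with h16 | h16
  · exact (defRange_iff defs 12 108096 6756).mp Cfsg.Agent.Lib.Helper28.TCONBChk14.def12_16 p (by omega) (by omega)
  rcases Nat.lt_or_ge p 121608 with h17 | h17
  · exact (defRange_iff defs 12 114852 6756).mp Cfsg.Agent.Lib.Helper28.TCONBChk15.def12_17 p (by omega) (by omega)
  exact (defRange_iff defs 12 121608 1152).mp Cfsg.Agent.Lib.Helper28.TCONBChk15.def12_18 p (by omega) (by omega)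

theorem hdef13 : ∀ p, p < btable.n → btable.walkT (defs.look 13) p = btable.tau 13 p := by
  intro p hp
  have hp' : p < 122760 := hp
  rcases Nat.lt_or_ge p 6756 with h0 | h0
  · exact (defRange_iff defs 13 0 6756).mp Cfsg.Agent.Lib.Helper28.TCONBChk15.def13_0 p (by omega) (by omega)
  rcases Nat.lt_or_ge p 13512 with h1 | h1
  · exact (defRange_iff defs 13 6756 6756).mp Cfsg.Agent.Lib.Helper28.TCONBChk15.def13_1 p (by omega) (by omega)
  rcases Nat.lt_or_ge p 20268 with h2 | h2
  · exact (defRange_iff defs 13 13512 6756).mp Cfsg.Agent.Lib.Helper28.TCONBChk15.def13_2 p (by omega) (by omega)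
  rcases Nat.lt_or_ge p 27024 with h3 | h3
  · exact (defRange_iff defs 13 20268 6756).mp Cfsg.Agent.Lib.Helper28.TCONBChk16.def13_3 p (by omega) (by omega)
  rcases Nat.lt_or_ge p 33780 with h4 | h4
  · exact (defRange_iff defs 13 27024 6756).mp Cfsg.Agent.Lib.Helper28.TCONBChk16.def13_4 p (by omega) (by omega)
  rcases Nat.lt_or_ge p 40536 with h5 | h5
  · exact (defRange_iff defs 13 33780 6756).mp Cfsg.Agent.Lib.Helper28.TCONBChk16.def13_5 p (by omega) (by omega)
  rcases Nat.lt_or_ge p 47292 with h6 | h6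
  · exact (defRange_iff defs 13 40536 6756).mp Cfsg.Agent.Lib.Helper28.TCONBChk16.def13_6 p (by omega) (by omega)
  rcases Nat.lt_or_ge p 54048 with h7 | h7
  · exact (defRange_iff defs 13 47292 6756).mp Cfsg.Agent.Lib.Helper28.TCONBChk16.def13_7 p (by omega) (by omega)
  rcases Nat.lt_or_ge p 60804 with h8 | h8
  · exact (defRange_iff defs 13 54048 6756).mp Cfsg.Agent.Lib.Helper28.TCONBChk17.def13_8 p (by omega) (by omega)
  rcases Nat.lt_or_ge p 67560 with h9 | h9
  · exact (defRange_iff defs 13 60804 6756).mp Cfsg.Agent.Lib.Helper28.TCONBChk17.def13_9 p (by omega) (by omega)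
  rcases Nat.lt_or_ge p 74316 with h10 | h10
  · exact (defRange_iff defs 13 67560 6756).mp Cfsg.Agent.Lib.Helper28.TCONBChk17.def13_10 p (by omega) (by omega)
  rcases Nat.lt_or_ge p 81072 with h11 | h11
  · exact (defRange_iff defs 13 74316 6756).mp Cfsg.Agent.Lib.Helper28.TCONBChk17.def13_11 p (by omega) (by omega)
  rcases Nat.lt_or_ge p 87828 with h12 | h12
  · exact (defRange_iff defs 13 81072 6756).mp Cfsg.Agent.Lib.Helper28.TCONBChk17.def13_12 p (by omega) (by omega)
  rcases Nat.lt_or_ge p 94584 with h13 | h13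
  · exact (defRange_iff defs 13 87828 6756).mp Cfsg.Agent.Lib.Helper28.TCONBChk18.def13_13 p (by omega) (by omega)
  rcases Nat.lt_or_ge p 101340 with h14 | h14
  · exact (defRange_iff defs 13 94584 6756).mp Cfsg.Agent.Lib.Helper28.TCONBChk18.def13_14 p (by omega) (by omega)
  rcases Nat.lt_or_ge p 108096 with h15 | h15
  · exact (defRange_iff defs 13 101340 6756).mp Cfsg.Agent.Lib.Helper28.TCONBChk18.def13_15 p (by omega) (by omega)
  rcases Nat.lt_or_ge p 114852 with h16 | h16
  · exact (defRange_iff defs 13 108096 6756).mp Cfsg.Agent.Lib.Helper28.TCONBChk18.def13_16 p (by omega) (by omega)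
  rcases Nat.lt_or_ge p 121608 with h17 | h17
  · exact (defRange_iff defs 13 114852 6756).mp Cfsg.Agent.Lib.Helper28.TCONBChk18.def13_17 p (by omega) (by omega)
  exact (defRange_iff defs 13 121608 1152).mp Cfsg.Agent.Lib.Helper28.TCONBChk19.def13_18 p (by omega) (by omega)

theorem hdef14 : ∀ p, p < btable.n → btable.walkT (defs.look 14) p = btable.tau 14 p := by
  intro p hp
  have hp' : p < 122760 := hp
  rcases Nat.lt_or_ge p 13157 with h0 | h0
  · exact (defRange_iff defs 14 0 13157).mp Cfsg.Agent.Lib.Helper28.TCONBChk19.def14_0 p (by omega) (by omega)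
  rcases Nat.lt_or_ge p 26314 with h1 | h1
  · exact (defRange_iff defs 14 13157 13157).mp Cfsg.Agent.Lib.Helper28.TCONBChk19.def14_1 p (by omega) (by omega)
  rcases Nat.lt_or_ge p 39471 with h2 | h2
  · exact (defRange_iff defs 14 26314 13157).mp Cfsg.Agent.Lib.Helper28.TCONBChk19.def14_2 p (by omega) (by omega)
  rcases Nat.lt_or_ge p 52628 with h3 | h3
  · exact (defRange_iff defs 14 39471 13157).mp Cfsg.Agent.Lib.Helper28.TCONBChk19.def14_3 p (by omega) (by omega)
  rcases Nat.lt_or_ge p 65785 with h4 | h4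
  · exact (defRange_iff defs 14 52628 13157).mp Cfsg.Agent.Lib.Helper28.TCONBChk20.def14_4 p (by omega) (by omega)
  rcases Nat.lt_or_ge p 78942 with h5 | h5
  · exact (defRange_iff defs 14 65785 13157).mp Cfsg.Agent.Lib.Helper28.TCONBChk20.def14_5 p (by omega) (by omega)
  rcases Nat.lt_or_ge p 92099 with h6 | h6
  · exact (defRange_iff defs 14 78942 13157).mp Cfsg.Agent.Lib.Helper28.TCONBChk20.def14_6 p (by omega) (by omega)
  rcases Nat.lt_or_ge p 105256 with h7 | h7
  · exact (defRange_iff defs 14 92099 13157).mp Cfsg.Agent.Lib.Helper28.TCONBChk20.def14_7 p (by omega) (by omega)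
  rcases Nat.lt_or_ge p 118413 with h8 | h8
  · exact (defRange_iff defs 14 105256 13157).mp Cfsg.Agent.Lib.Helper28.TCONBChk20.def14_8 p (by omega) (by omega)
  exact (defRange_iff defs 14 118413 4347).mp Cfsg.Agent.Lib.Helper28.TCONBChk21.def14_9 p (by omega) (by omega)

theorem hdef15 : ∀ p, p < btable.n → btable.walkT (defs.look 15) p = btable.tau 15 p := by
  intro p hp
  have hp' : p < 122760 := hp
  rcases Nat.lt_or_ge p 13157 with h0 | h0
  · exact (defRange_iff defs 15 0 13157).mp Cfsg.Agent.Lib.Helper28.TCONBChk21.def15_0 p (by omega) (by omega)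
  rcases Nat.lt_or_ge p 26314 with h1 | h1
  · exact (defRange_iff defs 15 13157 13157).mp Cfsg.Agent.Lib.Helper28.TCONBChk21.def15_1 p (by omega) (by omega)
  rcases Nat.lt_or_ge p 39471 with h2 | h2
  · exact (defRange_iff defs 15 26314 13157).mp Cfsg.Agent.Lib.Helper28.TCONBChk21.def15_2 p (by omega) (by omega)
  rcases Nat.lt_or_ge p 52628 with h3 | h3
  · exact (defRange_iff defs 15 39471 13157).mp Cfsg.Agent.Lib.Helper28.TCONBChk21.def15_3 p (by omega) (by omega)
  rcases Nat.lt_or_ge p 65785 with h4 | h4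
  · exact (defRange_iff defs 15 52628 13157).mp Cfsg.Agent.Lib.Helper28.TCONBChk22.def15_4 p (by omega) (by omega)
  rcases Nat.lt_or_ge p 78942 with h5 | h5
  · exact (defRange_iff defs 15 65785 13157).mp Cfsg.Agent.Lib.Helper28.TCONBChk22.def15_5 p (by omega) (by omega)
  rcases Nat.lt_or_ge p 92099 with h6 | h6
  · exact (defRange_iff defs 15 78942 13157).mp Cfsg.Agent.Lib.Helper28.TCONBChk22.def15_6 p (by omega) (by omega)
  rcases Nat.lt_or_ge p 105256 with h7 | h7
  · exact (defRange_iff defs 15 92099 13157).mp Cfsg.Agent.Lib.Helper28.TCONBChk22.def15_7 p (by omega) (by omega)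
  rcases Nat.lt_or_ge p 118413 with h8 | h8
  · exact (defRange_iff defs 15 105256 13157).mp Cfsg.Agent.Lib.Helper28.TCONBChk22.def15_8 p (by omega) (by omega)
  exact (defRange_iff defs 15 118413 4347).mp Cfsg.Agent.Lib.Helper28.TCONBChk23.def15_9 p (by omega) (by omega)

theorem hdef16 : ∀ p, p < btable.n → btable.walkT (defs.look 16) p = btable.tau 16 p := by
  intro p hp
  have hp' : p < 122760 := hp
  rcases Nat.lt_or_ge p 8928 with h0 | h0
  · exact (defRange_iff defs 16 0 8928).mp Cfsg.Agent.Lib.Helper28.TCONBChk23.def16_0 p (by omega) (by omega)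
  rcases Nat.lt_or_ge p 17856 with h1 | h1
  · exact (defRange_iff defs 16 8928 8928).mp Cfsg.Agent.Lib.Helper28.TCONBChk23.def16_1 p (by omega) (by omega)
  rcases Nat.lt_or_ge p 26784 with h2 | h2
  · exact (defRange_iff defs 16 17856 8928).mp Cfsg.Agent.Lib.Helper28.TCONBChk23.def16_2 p (by omega) (by omega)
  rcases Nat.lt_or_ge p 35712 with h3 | h3
  · exact (defRange_iff defs 16 26784 8928).mp Cfsg.Agent.Lib.Helper28.TCONBChk23.def16_3 p (by omega) (by omega)
  rcases Nat.lt_or_ge p 44640 with h4 | h4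
  · exact (defRange_iff defs 16 35712 8928).mp Cfsg.Agent.Lib.Helper28.TCONBChk24.def16_4 p (by omega) (by omega)
  rcases Nat.lt_or_ge p 53568 with h5 | h5
  · exact (defRange_iff defs 16 44640 8928).mp Cfsg.Agent.Lib.Helper28.TCONBChk24.def16_5 p (by omega) (by omega)
  rcases Nat.lt_or_ge p 62496 with h6 | h6
  · exact (defRange_iff defs 16 53568 8928).mp Cfsg.Agent.Lib.Helper28.TCONBChk24.def16_6 p (by omega) (by omega)
  rcases Nat.lt_or_ge p 71424 with h7 | h7
  · exact (defRange_iff defs 16 62496 8928).mp Cfsg.Agent.Lib.Helper28.TCONBChk24.def16_7 p (by omega) (by omega)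
  rcases Nat.lt_or_ge p 80352 with h8 | h8
  · exact (defRange_iff defs 16 71424 8928).mp Cfsg.Agent.Lib.Helper28.TCONBChk24.def16_8 p (by omega) (by omega)
  rcases Nat.lt_or_ge p 89280 with h9 | h9
  · exact (defRange_iff defs 16 80352 8928).mp Cfsg.Agent.Lib.Helper28.TCONBChk25.def16_9 p (by omega) (by omega)
  rcases Nat.lt_or_ge p 98208 with h10 | h10
  · exact (defRange_iff defs 16 89280 8928).mp Cfsg.Agent.Lib.Helper28.TCONBChk25.def16_10 p (by omega) (by omega)
  rcases Nat.lt_or_ge p 107136 with h11 | h11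
  · exact (defRange_iff defs 16 98208 8928).mp Cfsg.Agent.Lib.Helper28.TCONBChk25.def16_11 p (by omega) (by omega)
  rcases Nat.lt_or_ge p 116064 with h12 | h12
  · exact (defRange_iff defs 16 107136 8928).mp Cfsg.Agent.Lib.Helper28.TCONBChk25.def16_12 p (by omega) (by omega)
  exact (defRange_iff defs 16 116064 6696).mp Cfsg.Agent.Lib.Helper28.TCONBChk25.def16_13 p (by omega) (by omega)

theorem hdef17 : ∀ p, p < btable.n → btable.walkT (defs.look 17) p = btable.tau 17 p := by
  intro p hp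
  have hp' : p < 122760 := hp
  rcases Nat.lt_or_ge p 8928 with h0 | h0
  · exact (defRange_iff defs 17 0 8928).mp Cfsg.Agent.Lib.Helper28.TCONBChk26.def17_0 p (by omega) (by omega)
  rcases Nat.lt_or_ge p 17856 with h1 | h1
  · exact (defRange_iff defs 17 8928 8928).mp Cfsg.Agent.Lib.Helper28.TCONBChk26.def17_1 p (by omega) (by omega)
  rcases Nat.lt_or_ge p 26784 with h2 | h2
  · exact (defRange_iff defs 17 17856 8928).mp Cfsg.Agent.Lib.Helper28.TCONBChk26.def17_2 p (by omega) (by omega)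
  rcases Nat.lt_or_ge p 35712 with h3 | h3
  · exact (defRange_iff defs 17 26784 8928).mp Cfsg.Agent.Lib.Helper28.TCONBChk26.def17_3 p (by omega) (by omega)
  rcases Nat.lt_or_ge p 44640 with h4 | h4
  · exact (defRange_iff defs 17 35712 8928).mp Cfsg.Agent.Lib.Helper28.TCONBChk26.def17_4 p (by omega) (by omega)
  rcases Nat.lt_or_ge p 53568 with h5 | h5
  · exact (defRange_iff defs 17 44640 8928).mp Cfsg.Agent.Lib.Helper28.TCONBChk27.def17_5 p (by omega) (by omega)
  rcases Nat.lt_or_ge p 62496 with h6 | h6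
  · exact (defRange_iff defs 17 53568 8928).mp Cfsg.Agent.Lib.Helper28.TCONBChk27.def17_6 p (by omega) (by omega)
  rcases Nat.lt_or_ge p 71424 with h7 | h7
  · exact (defRange_iff defs 17 62496 8928).mp Cfsg.Agent.Lib.Helper28.TCONBChk27.def17_7 p (by omega) (by omega)
  rcases Nat.lt_or_ge p 80352 with h8 | h8
  · exact (defRange_iff defs 17 71424 8928).mp Cfsg.Agent.Lib.Helper28.TCONBChk27.def17_8 p (by omega) (by omega)
  rcases Nat.lt_or_ge p 89280 with h9 | h9
  · exact (defRange_iff defs 17 80352 8928).mp Cfsg.Agent.Lib.Helper28.TCONBChk27.def17_9 p (by omega) (by omega)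
  rcases Nat.lt_or_ge p 98208 with h10 | h10
  · exact (defRange_iff defs 17 89280 8928).mp Cfsg.Agent.Lib.Helper28.TCONBChk28.def17_10 p (by omega) (by omega)
  rcases Nat.lt_or_ge p 107136 with h11 | h11
  · exact (defRange_iff defs 17 98208 8928).mp Cfsg.Agent.Lib.Helper28.TCONBChk28.def17_11 p (by omega) (by omega)
  rcases Nat.lt_or_ge p 116064 with h12 | h12
  · exact (defRange_iff defs 17 107136 8928).mp Cfsg.Agent.Lib.Helper28.TCONBChk28.def17_12 p (by omega) (by omega)
  exact (defRange_iff defs 17 116064 6696).mp Cfsg.Agent.Lib.Helper28.TCONBChk28.def17_13 p (by omega) (by omega)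

theorem hdef : ∀ e, 8 ≤ e → e < btable.k → ∀ p, p < btable.n → btable.walkT (defs.look e) p = btable.tau e p := by
  intro e h1 h2 p hp
  have h2' : e < 18 := h2
  interval_cases e
  · exact hdef8 p hp
  · exact hdef9 p hp
  · exact hdef10 p hp
  · exact hdef11 p hp
  · exact hdef12 p hp
  · exact hdef13 p hp
  · exact hdef14 p hp
  · exact hdef15 p hp
  · exact hdef16 p hp
  · exact hdef17 p hp

theorem hΓ : ∀ l, l < btable.k → Table.sigma hTB l ∈ baseGroup hTB 8 :=
  sigma_mem_baseGroup hTB 8 defs Cfsg.Agent.Lib.Helper28.TCONBChk34.dlt hdef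

theorem hconn0 : ∀ p, p < btable.n → orb0.oid p = 1 →
    (orb0.depth p = 0 ∧ orb0.roots.look 1 = p) ∨
    (orb0.depth p ≠ 0 ∧ orb0.parent p < btable.n ∧ orb0.oid (orb0.parent p) = 1 ∧
      orb0.depth (orb0.parent p) + 1 = orb0.depth p ∧
      btable.walkT (orb0.gens.look (orb0.gen p)) (orb0.parent p) = p) := by
  intro p hp
  have hp' : p < 122760 := hp
  rcases Nat.lt_or_ge p 31250 with h0 | h0
  · exact (OrbData.connOKc_iff orb0 btable 1 0 31250).mp Cfsg.Agent.Lib.Helper28.TCONBChk28.conn0_0 p (by omega) (by omega)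
  rcases Nat.lt_or_ge p 62500 with h1 | h1
  · exact (OrbData.connOKc_iff orb0 btable 1 31250 31250).mp Cfsg.Agent.Lib.Helper28.TCONBChk29.conn0_1 p (by omega) (by omega)
  rcases Nat.lt_or_ge p 93750 with h2 | h2
  · exact (OrbData.connOKc_iff orb0 btable 1 62500 31250).mp Cfsg.Agent.Lib.Helper28.TCONBChk29.conn0_2 p (by omega) (by omega)
  exact (OrbData.connOKc_iff orb0 btable 1 93750 29010).mp Cfsg.Agent.Lib.Helper28.TCONBChk29.conn0_3 p (by omega) (by omega)

theorem lev0 : 122760 * Nat.card (pstab (baseGroup hTB 8) (toFin btable.n [0])) ≤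
    Nat.card (pstab (baseGroup hTB 8) (toFin btable.n [])) :=
  level_boundN hTB _ [] A0 orb0 1 0 122760 rfl (by decide) Cfsg.Agent.Lib.Helper28.TCONBChk29.cnt0 hΓ Cfsg.Agent.Lib.Helper28.TCONBChk30.hA0
    (BT.All_of_all (fun _ h => of_decide_eq_true h) _ Cfsg.Agent.Lib.Helper28.TCONBChk29.hgens0) hconn0

theorem hconn1 : ∀ p, p < btable.n → orb1.oid p = 1 →
    (orb1.depth p = 0 ∧ orb1.roots.look 1 = p) ∨
    (orb1.depth p ≠ 0 ∧ orb1.parent p < btable.n ∧ orb1.oid (orb1.parent p) = 1 ∧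
      orb1.depth (orb1.parent p) + 1 = orb1.depth p ∧
      btable.walkT (orb1.gens.look (orb1.gen p)) (orb1.parent p) = p) := by
  intro p hp
  have hp' : p < 122760 := hp
  rcases Nat.lt_or_ge p 31250 with h0 | h0
  · exact (OrbData.connOKc_iff orb1 btable 1 0 31250).mp Cfsg.Agent.Lib.Helper28.TCONBChk30.conn1_0 p (by omega) (by omega)
  rcases Nat.lt_or_ge p 62500 with h1 | h1
  · exact (OrbData.connOKc_iff orb1 btable 1 31250 31250).mp Cfsg.Agent.Lib.Helper28.TCONBChk30.conn1_1 p (by omega) (by omega)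
  rcases Nat.lt_or_ge p 93750 with h2 | h2
  · exact (OrbData.connOKc_iff orb1 btable 1 62500 31250).mp Cfsg.Agent.Lib.Helper28.TCONBChk30.conn1_2 p (by omega) (by omega)
  exact (OrbData.connOKc_iff orb1 btable 1 93750 29010).mp Cfsg.Agent.Lib.Helper28.TCONBChk30.conn1_3 p (by omega) (by omega)

theorem lev1 : 58653 * Nat.card (pstab (baseGroup hTB 8) (toFin btable.n [1, 0])) ≤
    Nat.card (pstab (baseGroup hTB 8) (toFin btable.n [0])) :=
  level_boundN hTB _ [0] A1 orb1 1 1 58653 rfl (by decide) Cfsg.Agent.Lib.Helper28.TCONBChk31.cnt1 hΓ Cfsg.Agent.Lib.Helper28.TCONBChk31.hA1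
    (BT.All_of_all (fun _ h => of_decide_eq_true h) _ Cfsg.Agent.Lib.Helper28.TCONBChk31.hgens1) hconn1

theorem hconn2 : ∀ p, p < btable.n → orb2.oid p = 1 →
    (orb2.depth p = 0 ∧ orb2.roots.look 1 = p) ∨
    (orb2.depth p ≠ 0 ∧ orb2.parent p < btable.n ∧ orb2.oid (orb2.parent p) = 1 ∧
      orb2.depth (orb2.parent p) + 1 = orb2.depth p ∧
      btable.walkT (orb2.gens.look (orb2.gen p)) (orb2.parent p) = p) := by
  intro p hp
  have hp' : p < 122760 := hp
  rcases Nat.lt_or_ge p 31250 with h0 | h0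
  · exact (OrbData.connOKc_iff orb2 btable 1 0 31250).mp Cfsg.Agent.Lib.Helper28.TCONBChk31.conn2_0 p (by omega) (by omega)
  rcases Nat.lt_or_ge p 62500 with h1 | h1
  · exact (OrbData.connOKc_iff orb2 btable 1 31250 31250).mp Cfsg.Agent.Lib.Helper28.TCONBChk31.conn2_1 p (by omega) (by omega)
  rcases Nat.lt_or_ge p 93750 with h2 | h2
  · exact (OrbData.connOKc_iff orb2 btable 1 62500 31250).mp Cfsg.Agent.Lib.Helper28.TCONBChk32.conn2_2 p (by omega) (by omega)
  exact (OrbData.connOKc_iff orb2 btable 1 93750 29010).mp Cfsg.Agent.Lib.Helper28.TCONBChk32.conn2_3 p (by omega) (by omega)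

theorem lev2 : 32 * Nat.card (pstab (baseGroup hTB 8) (toFin btable.n [2, 1, 0])) ≤
    Nat.card (pstab (baseGroup hTB 8) (toFin btable.n [1, 0])) :=
  level_boundN hTB _ [1, 0] A2 orb2 1 2 32 rfl (by decide) Cfsg.Agent.Lib.Helper28.TCONBChk32.cnt2 hΓ Cfsg.Agent.Lib.Helper28.TCONBChk32.hA2
    (BT.All_of_all (fun _ h => of_decide_eq_true h) _ Cfsg.Agent.Lib.Helper28.TCONBChk32.hgens2) hconn2

theorem hconn3 : ∀ p, p < btable.n → orb3.oid p = 1 →
    (orb3.depth p = 0 ∧ orb3.roots.look 1 = p) ∨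
    (orb3.depth p ≠ 0 ∧ orb3.parent p < btable.n ∧ orb3.oid (orb3.parent p) = 1 ∧
      orb3.depth (orb3.parent p) + 1 = orb3.depth p ∧
      btable.walkT (orb3.gens.look (orb3.gen p)) (orb3.parent p) = p) := by
  intro p hp
  have hp' : p < 122760 := hp
  rcases Nat.lt_or_ge p 31250 with h0 | h0
  · exact (OrbData.connOKc_iff orb3 btable 1 0 31250).mp Cfsg.Agent.Lib.Helper28.TCONBChk33.conn3_0 p (by omega) (by omega)
  rcases Nat.lt_or_ge p 62500 with h1 | h1
  · exact (OrbData.connOKc_iff orb3 btable 1 31250 31250).mp Cfsg.Agent.Lib.Helper28.TCONBChk33.conn3_1 p (by omega) (by omega)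
  rcases Nat.lt_or_ge p 93750 with h2 | h2
  · exact (OrbData.connOKc_iff orb3 btable 1 62500 31250).mp Cfsg.Agent.Lib.Helper28.TCONBChk33.conn3_2 p (by omega) (by omega)
  exact (OrbData.connOKc_iff orb3 btable 1 93750 29010).mp Cfsg.Agent.Lib.Helper28.TCONBChk33.conn3_3 p (by omega) (by omega)

theorem lev3 : 2 * Nat.card (pstab (baseGroup hTB 8) (toFin btable.n [5, 2, 1, 0])) ≤
    Nat.card (pstab (baseGroup hTB 8) (toFin btable.n [2, 1, 0])) :=
  level_boundN hTB _ [2, 1, 0] A3 orb3 1 5 2 rfl (by decide) Cfsg.Agent.Lib.Helper28.TCONBChk33.cnt3 hΓ Cfsg.Agent.Lib.Helper28.TCONBChk34.hA3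
    (BT.All_of_all (fun _ h => of_decide_eq_true h) _ Cfsg.Agent.Lib.Helper28.TCONBChk34.hgens3) hconn3

/-- the order of the group generated by the letters of the coset table -/
theorem card_base : 460815505920 ≤ Nat.card (baseGroup hTB 8) := by
  have h : 122760 * (58653 * (32 * (2 * 1))) ≤ Nat.card (pstab (baseGroup hTB 8) (toFin btable.n [])) :=
    chain_stepN lev0 (chain_stepN lev1 (chain_stepN lev2 (chain_stepN lev3 (one_le_card _ _))))
  have e : (460815505920 : ℕ) = 122760 * (58653 * (32 * (2 * 1))) := by norm_num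
  rw [e]
  exact h

end Cfsg.Agent.Lib.Helper28.TCONBMain
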