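import Cfsg.Agent.Lib.Helper28.TCONFinalW
set_option autoImplicit false
set_option maxRecDepth 100000
set_option maxHeartbeats 0

namespace Cfsg.Agent.Lib.Helper28.TCONFinalC1
open Cfsg.Agent.Lib.Helper28.TC2Upper Cfsg.Agent.Lib.Helper28.TC2Lower Cfsg.Agent.Lib.Helper28.TC2Orbit Cfsg.Agent.Lib.Helper28.TC2Glue Cfsg.Agent.Lib.Helper28.TC2Simple Cfsg.Agent.Lib.Helper28.TCONTable Cfsg.Agent.Lib.Helper28.TCONLink Cfsg.Agent.Lib.Helper28.TCONOrb

open Cfsg.Agent.Lib.Helper28.TCONFinalW

theorem tp5 : table.relOK [tPath] 62500 12500 = true := by decide +kernel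
theorem tp6 : table.relOK [tPath] 75000 12500 = true := by decide +kernel
theorem tp7 : table.relOK [tPath] 87500 12500 = true := by decide +kernel
theorem tp8 : table.relOK [tPath] 100000 12500 = true := by decide +kernel
theorem tp9 : table.relOK [tPath] 112500 10260 = true := by decide +kernel

end Cfsg.Agent.Lib.Helper28.TCONFinalC1
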