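import Cfsg.Agent.Lib.Helper28.TCONFinalW
set_option autoImplicit false
set_option maxRecDepth 100000
set_option maxHeartbeats 0

namespace Cfsg.Agent.Lib.Helper28.TCONFinalC2
open Cfsg.Agent.Lib.Helper28.TC2Upper Cfsg.Agent.Lib.Helper28.TC2Lower Cfsg.Agent.Lib.Helper28.TC2Orbit Cfsg.Agent.Lib.Helper28.TC2Glue Cfsg.Agent.Lib.Helper28.TC2Simple Cfsg.Agent.Lib.Helper28.TCONTable Cfsg.Agent.Lib.Helper28.TCONLink Cfsg.Agent.Lib.Helper28.TCONOrb

open Cfsg.Agent.Lib.Helper28.TCONFinalW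

theorem cl0 : clsOK orbData 5 0 122760 = true := by decide +kernel

end Cfsg.Agent.Lib.Helper28.TCONFinalC2
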