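import Cfsg.Agent.Lib.Helper28.TCONFinalC0
import Cfsg.Agent.Lib.Helper28.TCONFinalC1
import Cfsg.Agent.Lib.Helper28.TCONFinalC2
set_option autoImplicit false
set_option maxRecDepth 100000
set_option maxHeartbeats 0

namespace Cfsg.Agent.Lib.Helper28.TCONFinalChk
open Cfsg.Agent.Lib.Helper28.TC2Upper Cfsg.Agent.Lib.Helper28.TC2Lower Cfsg.Agent.Lib.Helper28.TC2Orbit Cfsg.Agent.Lib.Helper28.TC2Glue Cfsg.Agent.Lib.Helper28.TC2Simple Cfsg.Agent.Lib.Helper28.TCONTable Cfsg.Agent.Lib.Helper28.TCONLink Cfsg.Agent.Lib.Helper28.TCONOrb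

open Cfsg.Agent.Lib.Helper28.TCONFinalW

theorem htfix : ∀ p, p < table.n → table.walkT tPath p = p := by
  intro p hp
  have hp' : p < 122760 := hp
  rcases Nat.lt_or_ge p 12500 with h0 | h0
  · exact (Table.relOK_iff [tPath] 0 12500).mp Cfsg.Agent.Lib.Helper28.TCONFinalC0.tp0 p (by omega) (by omega) _ (List.mem_singleton.mpr rfl)
  rcases Nat.lt_or_ge p 25000 with h1 | h1
  · exact (Table.relOK_iff [tPath] 12500 12500).mp Cfsg.Agent.Lib.Helper28.TCONFinalC0.tp1 p (by omega) (by omega) _ (List.mem_singleton.mpr rfl)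
  rcases Nat.lt_or_ge p 37500 with h2 | h2
  · exact (Table.relOK_iff [tPath] 25000 12500).mp Cfsg.Agent.Lib.Helper28.TCONFinalC0.tp2 p (by omega) (by omega) _ (List.mem_singleton.mpr rfl)
  rcases Nat.lt_or_ge p 50000 with h3 | h3
  · exact (Table.relOK_iff [tPath] 37500 12500).mp Cfsg.Agent.Lib.Helper28.TCONFinalC0.tp3 p (by omega) (by omega) _ (List.mem_singleton.mpr rfl)
  rcases Nat.lt_or_ge p 62500 with h4 | h4
  · exact (Table.relOK_iff [tPath] 50000 12500).mp Cfsg.Agent.Lib.Helper28.TCONFinalC0.tp4 p (by omega) (by omega) _ (List.mem_singleton.mpr rfl)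
  rcases Nat.lt_or_ge p 75000 with h5 | h5
  · exact (Table.relOK_iff [tPath] 62500 12500).mp Cfsg.Agent.Lib.Helper28.TCONFinalC1.tp5 p (by omega) (by omega) _ (List.mem_singleton.mpr rfl)
  rcases Nat.lt_or_ge p 87500 with h6 | h6
  · exact (Table.relOK_iff [tPath] 75000 12500).mp Cfsg.Agent.Lib.Helper28.TCONFinalC1.tp6 p (by omega) (by omega) _ (List.mem_singleton.mpr rfl)
  rcases Nat.lt_or_ge p 100000 with h7 | h7
  · exact (Table.relOK_iff [tPath] 87500 12500).mp Cfsg.Agent.Lib.Helper28.TCONFinalC1.tp7 p (by omega) (by omega) _ (List.mem_singleton.mpr rfl)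
  rcases Nat.lt_or_ge p 112500 with h8 | h8
  · exact (Table.relOK_iff [tPath] 100000 12500).mp Cfsg.Agent.Lib.Helper28.TCONFinalC1.tp8 p (by omega) (by omega) _ (List.mem_singleton.mpr rfl)
  exact (Table.relOK_iff [tPath] 112500 10260).mp Cfsg.Agent.Lib.Helper28.TCONFinalC1.tp9 p (by omega) (by omega) _ (List.mem_singleton.mpr rfl)

theorem hclsAll : ∀ p, p < table.n → orbData.oid p < 5 := by
  intro p hp
  have hp' : p < 122760 := hp
  exact (clsOK_iff orbData 5 0 122760).mp Cfsg.Agent.Lib.Helper28.TCONFinalC2.cl0 p (by omega) (by omega)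

end Cfsg.Agent.Lib.Helper28.TCONFinalChk
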