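import Cfsg.Agent.Lib.Helper28.TCONOrb
set_option autoImplicit false
set_option maxRecDepth 100000
set_option maxHeartbeats 0

namespace Cfsg.Agent.Lib.Helper28.TCONOrbChk0
open Cfsg.Agent.Lib.Helper28.TC2Upper Cfsg.Agent.Lib.Helper28.TC2Lower Cfsg.Agent.Lib.Helper28.TC2Orbit Cfsg.Agent.Lib.Helper28.TCONTable Cfsg.Agent.Lib.Helper28.TCONOrb

theorem clo0 : orbData.closedOK table subPaths 0 17857 = true := by decide +kernel
theorem clo1 : orbData.closedOK table subPaths 17857 17857 = true := by decide +kernel
theorem clo2 : orbData.closedOK table subPaths 35714 17857 = true := by decide +kernel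
theorem clo3 : orbData.closedOK table subPaths 53571 17857 = true := by decide +kernel
theorem clo4 : orbData.closedOK table subPaths 71428 17857 = true := by decide +kernel

end Cfsg.Agent.Lib.Helper28.TCONOrbChk0
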