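import Cfsg.Agent.Lib.Helper28.TCONOrb
set_option autoImplicit false
set_option maxRecDepth 100000
set_option maxHeartbeats 0

namespace Cfsg.Agent.Lib.Helper28.TCONOrbChk1
open Cfsg.Agent.Lib.Helper28.TC2Upper Cfsg.Agent.Lib.Helper28.TC2Lower Cfsg.Agent.Lib.Helper28.TC2Orbit Cfsg.Agent.Lib.Helper28.TCONTable Cfsg.Agent.Lib.Helper28.TCONOrb

theorem clo5 : orbData.closedOK table subPaths 89285 17857 = true := by decide +kernel
theorem clo6 : orbData.closedOK table subPaths 107142 15618 = true := by decide +kernel
theorem conn0 : orbData.connOK table 0 31250 = true := by decide +kernel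
theorem conn1 : orbData.connOK table 31250 31250 = true := by decide +kernel
theorem conn2 : orbData.connOK table 62500 31250 = true := by decide +kernel

end Cfsg.Agent.Lib.Helper28.TCONOrbChk1
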