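import Cfsg.Agent.Lib.Helper28.TCONOrb
set_option autoImplicit false
set_option maxRecDepth 100000
set_option maxHeartbeats 0

namespace Cfsg.Agent.Lib.Helper28.TCONOrbChk2
open Cfsg.Agent.Lib.Helper28.TC2Upper Cfsg.Agent.Lib.Helper28.TC2Lower Cfsg.Agent.Lib.Helper28.TC2Orbit Cfsg.Agent.Lib.Helper28.TCONTable Cfsg.Agent.Lib.Helper28.TCONOrb

theorem conn3 : orbData.connOK table 93750 29010 = true := by decide +kernel
theorem hgens : BT.all (fun s => decide (s ∈ subPaths)) orbData.gens = true := by decide +kernel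
theorem cntc0 : orbData.count table.n 0 = 1 := by decide +kernel

end Cfsg.Agent.Lib.Helper28.TCONOrbChk2
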