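import Cfsg.Agent.S1692
import Cfsg.Agent.Lib.Helper28.TC2GlueOrb
import Cfsg.Agent.Lib.Helper28.TCONOrbChk0
import Cfsg.Agent.Lib.Helper28.TCONOrbChk1
import Cfsg.Agent.Lib.Helper28.TCONOrbChk2

set_option autoImplicit false
set_option maxRecDepth 100000

namespace Cfsg.Agent.Lib.Helper28.TCONMain
open Cfsg.Agent.Lib.Helper28.TC2Upper Cfsg.Agent.Lib.Helper28.TC2Lower Cfsg.Agent.Lib.Helper28.TC2Glue Cfsg.Agent.Lib.Helper28.TC2GlueOrb Cfsg.Agent.Lib.Helper28.TC2Orbit
open Cfsg.Agent.Lib.Helper28.TCONData Cfsg.Agent.Lib.Helper28.TCONTable Cfsg.Agent.Lib.Helper28.TCONLink Cfsg.Agent.Lib.Helper28.TCONM Cfsg.Agent.Lib.Helper28.TCONOrb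

theorem hT : table.OK := Table.ok_of_checks table hinvOK hperm

theorem hn : 0 < table.n := by decide

theorem main : ((Subgroup.closure S).map (PresentedGroup.mk rels)).index = table.n ∧
    ∃ φ : PresentedGroup rels →* Equiv.Perm (Fin table.n),
      (∀ x, φ (PresentedGroup.of x) = Table.sigma hT (lw (x, true))) ∧
      ∃ f : PresentedGroup rels ⧸ (Subgroup.closure S).map (PresentedGroup.mk rels) → Fin table.n,
        Function.Bijective f ∧ (∀ g q, f (g • q) = φ g (f q)) ∧ f (QuotientGroup.mk 1) = ⟨0, hn⟩ :=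
  index_eq link Cfsg.Agent.S1692.hchk hfin hcount hT hn Cfsg.Agent.S1692.hrelT Cfsg.Agent.S1692.hsubT htree

theorem hclosed : ∀ p, p < table.n → ∀ s ∈ subPaths, orbData.oid (table.walkT s p) = orbData.oid p := by
  intro p hp
  have hp' : p < 122760 := hp
  rcases Nat.lt_or_ge p 17857 with h0 | h0
  · exact (orbData.closedOK_iff table subPaths 0 17857).mp Cfsg.Agent.Lib.Helper28.TCONOrbChk0.clo0 p (by omega) (by omega)
  rcases Nat.lt_or_ge p 35714 with h1 | h1
  · exact (orbData.closedOK_iff table subPaths 17857 17857).mp Cfsg.Agent.Lib.Helper28.TCONOrbChk0.clo1 p (by omega) (by omega)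
  rcases Nat.lt_or_ge p 53571 with h2 | h2
  · exact (orbData.closedOK_iff table subPaths 35714 17857).mp Cfsg.Agent.Lib.Helper28.TCONOrbChk0.clo2 p (by omega) (by omega)
  rcases Nat.lt_or_ge p 71428 with h3 | h3
  · exact (orbData.closedOK_iff table subPaths 53571 17857).mp Cfsg.Agent.Lib.Helper28.TCONOrbChk0.clo3 p (by omega) (by omega)
  rcases Nat.lt_or_ge p 89285 with h4 | h4
  · exact (orbData.closedOK_iff table subPaths 71428 17857).mp Cfsg.Agent.Lib.Helper28.TCONOrbChk0.clo4 p (by omega) (by omega)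
  rcases Nat.lt_or_ge p 107142 with h5 | h5
  · exact (orbData.closedOK_iff table subPaths 89285 17857).mp Cfsg.Agent.Lib.Helper28.TCONOrbChk1.clo5 p (by omega) (by omega)
  exact (orbData.closedOK_iff table subPaths 107142 15618).mp Cfsg.Agent.Lib.Helper28.TCONOrbChk1.clo6 p (by omega) (by omega)

theorem hconn : ∀ p, p < table.n →
    (orbData.depth p = 0 ∧ orbData.roots.look (orbData.oid p) = p) ∨
    (orbData.depth p ≠ 0 ∧ orbData.parent p < table.n ∧ orbData.oid (orbData.parent p) = orbData.oid p ∧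
      orbData.depth (orbData.parent p) + 1 = orbData.depth p ∧
      table.walkT (orbData.gens.look (orbData.gen p)) (orbData.parent p) = p) := by
  intro p hp
  have hp' : p < 122760 := hp
  rcases Nat.lt_or_ge p 31250 with h0 | h0
  · exact (orbData.connOK_iff table 0 31250).mp Cfsg.Agent.Lib.Helper28.TCONOrbChk1.conn0 p (by omega) (by omega)
  rcases Nat.lt_or_ge p 62500 with h1 | h1
  · exact (orbData.connOK_iff table 31250 31250).mp Cfsg.Agent.Lib.Helper28.TCONOrbChk1.conn1 p (by omega) (by omega)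
  rcases Nat.lt_or_ge p 93750 with h2 | h2
  · exact (orbData.connOK_iff table 62500 31250).mp Cfsg.Agent.Lib.Helper28.TCONOrbChk1.conn2 p (by omega) (by omega)
  exact (orbData.connOK_iff table 93750 29010).mp Cfsg.Agent.Lib.Helper28.TCONOrbChk2.conn3 p (by omega) (by omega)

theorem hgens : BT.all (fun s => decide (s ∈ subPaths)) orbData.gens = true := Cfsg.Agent.Lib.Helper28.TCONOrbChk2.hgens
theorem cntc0 : orbData.count table.n 0 = 1 := Cfsg.Agent.Lib.Helper28.TCONOrbChk2.cntc0

end Cfsg.Agent.Lib.Helper28.TCONMain
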