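set_option autoImplicit false

namespace Cfsg.Agent.Lib.Helper28.TCONW2Data

def cE0 : Nat := 0x29ecbc8b6f69bcb2856e999029a42a63c850810
def cE1 : Nat := 0x2a6ccc8d6fa9c4b3858e9d90a9b42c640858820
def cE2 : Nat := 0x27e50d8350adabaf6692c20f21f524444c38061
def cE3 : Nat := 0x28ec9c812ee1fdbca52a9194399428634461030
def cE4 : Nat := 0x275c8a9bb1f1b4b1854e958e998238a5d040840
def cE5 : Nat := 0x296cac872e9e25ae57348d16c22626638848850
def cE6 : Nat := 0x0
def cJ0 : Nat := 0x10000b000143000010000a000143000010000900013300001000070001530000100007000123000010000500015300001000050001330000100004000153000010000300014300001000020001430000900003000103000010000100013300001000000001230000000000000004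
def cJ1 : Nat := 0xd800000000000000c800000000000000b800000000000000a80000000000000098000000000000008800000000000000780000000000000068000000000000005800000000000000480000000000000038000000000000002800000000000000180000000000000008
def cJ2 : Nat := 0x10000b00002300000000020000d8000020000700010300000000020000b80000000000000002000010000500003300000000000000010000000002000088000010000300002300000000020000580000000000000002000000000000000100000000000000020000000000000001
def cJ3 : Nat := 0x10000b000063000010000a00006300000000000000020000100007000073000000000000000100000000030000a800000000000000020000100004000073000000000000000100001000020000630000100002000103000000000000000200000000000000010000000000000014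
def cJ4 : Nat := 0x2000000000000000200000000000000010000000000000001000020000700002300001000050000b3000020000300006300001000040000b3000000000000000200000000000000020000000000000001000000000000000100002000000000230000000000000024
def cJ5 : Nat := 0x2000090000b300002000070000b30000800009000103000000000000000200000000050000b8000000000000000200000000000000010000000000000002000000000000000100000000000000010000200002000033000020000100007300002000000000330000000000000034
def cJ6 : Nat := 0x0
def cP0 : Nat := 0x209704a81cc15e04f05581ac15208704281140c6041000

end Cfsg.Agent.Lib.Helper28.TCONW2Data
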