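import Cfsg.Agent.Lib.Helper28.TC2Orbit
set_option autoImplicit false
set_option maxRecDepth 100000

namespace Cfsg.Agent.Lib.Helper28.TCONW2Table
open Cfsg.Agent.Lib.Helper28.TC2Upper Cfsg.Agent.Lib.Helper28.TC2Lower Cfsg.Agent.Lib.Helper28.TC2Orbit

def cT0 : ℕ := 0xdcba9876543210
def cT1 : ℕ := 0xdcba9876543210
def cT2 : ℕ := 0xcdab7698452301
def cT3 : ℕ := 0xdc98ba56743120
def cT4 : ℕ := 0xbadc9876325410
def cT5 : ℕ := 0xdc97b5a4863210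
def cR0 : ℕ := 0x4b04a039057027055035054043042022031020000
/-- table chunks -/
def colTT : BT ℕ := (BT.node 2 (BT.node 1 (BT.node 0 (BT.leaf cT0) (BT.leaf cT1)) (BT.leaf cT2)) (BT.node 4 (BT.node 3 (BT.leaf cT3) (BT.leaf cT4)) (BT.leaf cT5)))
/-- spanning tree chunks -/
def treeT : BT ℕ := (BT.leaf cR0)
/-- relator paths -/
def relPaths : List (List ℕ) := [[2, 2], [3, 2, 3, 2, 3, 2, 3, 2, 3, 2, 3, 2, 3, 2, 3, 2], [4, 2, 4, 2], [5, 2, 5, 2], [2, 3, 2, 3, 2, 3, 2, 3, 2, 3, 2, 3, 2, 3, 2, 3], [3, 3], [4, 3, 4, 3, 4, 3], [5, 3, 5, 3], [2, 4, 2, 4], [3, 4, 3, 4, 3, 4], [4, 4], [5, 4, 5, 4, 5, 4], [2, 5, 2, 5], [3, 5, 3, 5], [4, 5, 4, 5, 4, 5], [5, 5], [2, 3, 2, 3, 2, 3, 2, 3, 5, 0], [0, 0], [2, 0, 2, 0], [3, 0, 3, 0], [4, 0, 4, 0], [5, 0, 5, 0]]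
/-- subgroup generator paths -/
def subPaths : List (List ℕ) := [[0], [3], [4], [5]]
/-- the relator paths that are checked directly -/
def chkPaths : List (List ℕ) := [[3, 2, 3, 2, 3, 2, 3, 2, 3, 2, 3, 2, 3, 2, 3, 2], [4, 2, 4, 2], [5, 2, 5, 2], [4, 3, 4, 3, 4, 3], [5, 3, 5, 3], [5, 4, 5, 4, 5, 4], [2, 3, 2, 3, 2, 3, 2, 3, 5, 0], [0, 0], [2, 0, 2, 0], [3, 0, 3, 0], [4, 0, 4, 0], [5, 0, 5, 0]]
/-- the coset table -/
def table : Table where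
  n := 14
  k := 6
  w := 4
  M := 16
  CH := 1024
  NCH := 1
  col := colTT
  inv := (BT.node 3 (BT.node 1 (BT.node 0 (BT.leaf 1) (BT.leaf 0)) (BT.node 2 (BT.leaf 2) (BT.leaf 3))) (BT.node 5 (BT.node 4 (BT.leaf 4) (BT.leaf 5)) (BT.leaf 6)))
  tw := 12
  TM := 4096
  tree := treeT

end Cfsg.Agent.Lib.Helper28.TCONW2Table
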