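import Cfsg.Agent.Lib.Helper28.TC2Orbit
set_option autoImplicit false
set_option maxRecDepth 100000

namespace Cfsg.Agent.Lib.Helper28.TCONW3Table
open Cfsg.Agent.Lib.Helper28.TC2Upper Cfsg.Agent.Lib.Helper28.TC2Lower Cfsg.Agent.Lib.Helper28.TC2Orbit

def cT0 : ℕ := 0xbafaa9a2db2b8a181f7a79a59235d65544d275c6da65830b28921140f38d103087185001
def cT1 : ℕ := 0xbafaa9a2db2b8a181f7a79a59235d65544d275c6da65830b28921140f38d103087185001
def cT2 : ℕ := 0xae89a4be17ee72d6ac656a94a534674258cd3222e078875b18761754311238f049280142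
def cT3 : ℕ := 0xb299ef8e2b9eb5b759aea5574e895098e90f80b8497ca1dc61a14459250244134c008183
def cT4 : ℕ := 0xb6abe59ae82176bb1a617a295129d13e436388c29f21e7066c56560d50930503802c91c4
def cR0 : ℕ := 0x2ac0a802980a4038c0a1027c0de02700db02680d904600960354094034c11202440d0043c0ce043408d02300cb04280c90420088031c106021810503140c4040c08304080c204040c1020410003000800000000
/-- table chunks -/
def colTT : BT ℕ := (BT.node 2 (BT.node 1 (BT.node 0 (BT.leaf cT0) (BT.leaf cT1)) (BT.leaf cT2)) (BT.node 3 (BT.leaf cT3) (BT.leaf cT4)))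
/-- spanning tree chunks -/
def treeT : BT ℕ := (BT.leaf cR0)
/-- relator paths -/
def relPaths : List (List ℕ) := [[2, 2], [3, 2, 3, 2, 3, 2], [4, 2, 4, 2], [2, 3, 2, 3, 2, 3], [3, 3], [4, 3, 4, 3, 4, 3], [2, 4, 2, 4], [3, 4, 3, 4, 3, 4], [4, 4], [0, 0], [2, 0, 2, 0], [3, 0, 3, 0], [4, 0, 4, 0]]
/-- subgroup generator paths -/
def subPaths : List (List ℕ) := [[]]
/-- the relator paths that are checked directly -/
def chkPaths : List (List ℕ) := [[3, 2, 3, 2, 3, 2], [4, 2, 4, 2], [4, 3, 4, 3, 4, 3], [0, 0], [2, 0, 2, 0], [3, 0, 3, 0], [4, 0, 4, 0]]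
/-- the coset table -/
def table : Table where
  n := 48
  k := 5
  w := 6
  M := 64
  CH := 1024
  NCH := 1
  col := colTT
  inv := (BT.node 2 (BT.node 1 (BT.node 0 (BT.leaf 1) (BT.leaf 0)) (BT.leaf 2)) (BT.node 4 (BT.node 3 (BT.leaf 3) (BT.leaf 4)) (BT.leaf 5)))
  tw := 14
  TM := 16384
  tree := treeT

end Cfsg.Agent.Lib.Helper28.TCONW3Table
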