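import Cfsg.Prelude.Def_SporCoxeter
import Cfsg.Prelude.Def_Spor_ON
set_option autoImplicit false

namespace Cfsg.Agent.Lib.Helper28.TCONWCDef

/-- the generators -/
abbrev Gen : Type := Cfsg.Spor.ON.Gen

/-- the Coxeter graph -/
def edges : List (Gen × ℕ × Gen) := Cfsg.Spor.ON.edges

/-- the further relators -/
def extra : List (FreeGroup Gen) := Cfsg.Spor.ON.extra ++ [
  FreeGroup.mk [(.e, true), (.g, true), (.d, true), (.g, false)] ]

end Cfsg.Agent.Lib.Helper28.TCONWCDef
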