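import Mathlib
import Cfsg.Prelude.Def_Classical
import Cfsg.Prelude.Def_ClassicalGeometry
import Cfsg.Prelude.Def_GeometricClasses
import Cfsg.Agent.Lib.Helper5.SUMax
import Cfsg.Agent.Lib.Helper22.C3LDefs
import Cfsg.Agent.Lib.Helper22.C3LTool
import Cfsg.Agent.Lib.Helper16.C3uDefs

/-!
Unitary C3 (cubic) market (helper16, `notes/C3u_leaves.lean`): leaf Cc `double_commutator`, CORE form:
the leaf F2 `tau_nondeg` is a hypothesis.  `[t, [m, kt v₀ a]]` is a unitary transvection with centre `π v₀`.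
-/

set_option autoImplicit false
set_option linter.unusedSectionVars false
set_option linter.unusedVariables false

namespace Cfsg.Agent.Lib.Helper28.C3uCc
open Cfsg Matrix Module Cfsg.Agent.Lib.Helper5.SpMax Cfsg.Agent.Lib.Helper5.SUMax
  Cfsg.Agent.Lib.Helper22.C3L Cfsg.Agent.Lib.Helper16.C3u

universe u
variable {F : Type u} [Field F] [Fintype F] {n q : ℕ} {E : Type u} [Field E] [Algebra F E]

local notation "𝕍" => (Fin n → F)
local notation "𝕄" => Matrix (Fin n) (Fin n) F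
local notation "ℍ" => (Cfsg.GU n F q ⊓ Cfsg.Geo.specialLinear (Fin n) F)

/-- an isometry acting on the base line `E v₀` as a transvection with centre `π v₀` -/
structure LineTv (S : KU n q F E) (v₀ : 𝕍) (π ν : E) (X : GL (Fin n) F) : Prop where
  mem : X ∈ Cfsg.GU n F q
  act : ∀ e : E, (X : 𝕄) *ᵥ act S.ρ e v₀ = act S.ρ e v₀ + S.τ (e * S.st ν) • act S.ρ π v₀

variable (S : KU n q F E)

include S in
lemma herm_symm (x y : 𝕍) : Cfsg.hermForm n F q y x = (Cfsg.hermForm n F q x y) ^ q := by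
  rw [S.form_eq', S.form_eq', S.herm x y, S.τ_st]

include S in
lemma form_add_left (x x' y : 𝕍) :
    Cfsg.hermForm n F q (x + x') y = Cfsg.hermForm n F q x y + Cfsg.hermForm n F q x' y := by
  rw [S.form_eq', S.form_eq', S.form_eq', S.add_left, map_add]

include S in
lemma form_smul_left (c : F) (x y : 𝕍) :
    Cfsg.hermForm n F q (c • x) y = c * Cfsg.hermForm n F q x y := by
  rw [S.form_eq', S.form_eq', S.fE_fsmul_left, map_smul, smul_eq_mul]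

lemma inv_mul_mulVec (X : GL (Fin n) F) (y : 𝕍) :
    (X : 𝕄) *ᵥ (((X⁻¹ : GL (Fin n) F) : 𝕄) *ᵥ y) = y := by
  rw [Matrix.mulVec_mulVec, ← Units.val_mul, mul_inv_cancel, Units.val_one, Matrix.one_mulVec]

lemma lineTv_one (v₀ : 𝕍) (π : E) : LineTv S v₀ π 0 (1 : GL (Fin n) F) := by
  refine ⟨one_mem _, fun e => ?_⟩
  rw [Units.val_one, Matrix.one_mulVec, map_zero, mul_zero, map_zero, zero_smul, add_zero]

lemma lineTv_mul {v₀ : 𝕍} {π ν ν' : E} {X Y : GL (Fin n) F} (hX : LineTv S v₀ π ν X)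
    (hY : LineTv S v₀ π ν' Y) (hπ : S.τ (π * S.st ν) = 0) : LineTv S v₀ π (ν + ν') (X * Y) := by
  refine ⟨mul_mem hX.mem hY.mem, fun e => ?_⟩
  rw [Units.val_mul, ← Matrix.mulVec_mulVec, hY.act, Matrix.mulVec_add, Matrix.mulVec_smul, hX.act, hX.act,
    hπ, zero_smul, add_zero, map_add, mul_add, map_add, add_smul, add_assoc]

/-- the key: `ξ (X⁻¹ y) = ξ y + f(y, p) ν` -/
lemma xi_inv (htau : ∀ a : E, (∀ b, S.τ (a * b) = 0) → a = 0) {v₀ : 𝕍} (hiso : S.fE v₀ v₀ = 0)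
    {π ν : E} {X : GL (Fin n) F} (hX : LineTv S v₀ π ν X) (y : 𝕍) :
    S.fE (((X⁻¹ : GL (Fin n) F) : 𝕄) *ᵥ y) v₀ =
      S.fE y v₀ + Cfsg.hermForm n F q y (act S.ρ π v₀) • ν := by
  set c := Cfsg.hermForm n F q y (act S.ρ π v₀) with hc
  set y' := ((X⁻¹ : GL (Fin n) F) : 𝕄) *ᵥ y with hy'
  have hkey : ∀ e : E, S.τ (S.st (S.fE y' v₀ - (S.fE y v₀ + c • ν)) * e) = 0 := by
    intro e
    have h1 : Cfsg.hermForm n F q (act S.ρ e v₀) y' =
        Cfsg.hermForm n F q ((X : 𝕄) *ᵥ act S.ρ e v₀) y := by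
      have := (mem_GU.mp hX.mem) (act S.ρ e v₀) y'
      rw [hy', inv_mul_mulVec] at this
      rw [hy']
      exact this.symm
    rw [hX.act, form_add_left S, form_smul_left S,
      S.form_act_left, S.form_act_left, herm_symm S y (act S.ρ π v₀), ← hc] at h1
    have hst : S.st (S.fE y' v₀ - (S.fE y v₀ + c • ν)) =
        S.fE v₀ y' - (S.fE v₀ y + (c ^ q) • S.st ν) := by
      rw [map_sub, map_add, ← S.herm y' v₀, ← S.herm y v₀, Algebra.smul_def, map_mul, S.st_alg,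
        ← Algebra.smul_def]
    rw [hst]
    have hexp : (S.fE v₀ y' - (S.fE v₀ y + (c ^ q) • S.st ν)) * e =
        e * S.fE v₀ y' - (e * S.fE v₀ y + (c ^ q) • (e * S.st ν)) := by
      rw [sub_mul, add_mul, smul_mul_assoc, mul_comm _ e, mul_comm _ e, mul_comm (S.st ν) e]
    rw [hexp, map_sub, map_add, map_smul, smul_eq_mul, h1]
    ring
  have h0 := htau _ hkey
  have h0' : S.fE y' v₀ - (S.fE y v₀ + c • ν) = 0 := by
    have := congrArg S.st h0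
    rwa [S.st_st, map_zero] at this
  exact sub_eq_zero.mp h0'

/-- the conjugate `X A X⁻¹` of the nilpotent part of `kt v₀ a` -/
lemma conj_mulVec (htau : ∀ a : E, (∀ b, S.τ (a * b) = 0) → a = 0) {v₀ : 𝕍} (hiso : S.fE v₀ v₀ = 0)
    {π ν : E} {X : GL (Fin n) F} (hX : LineTv S v₀ π ν X) (a : E) (y : 𝕍) :
    ((X : 𝕄) * S.ktMat v₀ a * ((X⁻¹ : GL (Fin n) F) : 𝕄)) *ᵥ y =
      act S.ρ (a * S.fE y v₀) v₀ + Cfsg.hermForm n F q y (act S.ρ π v₀) • act S.ρ (a * ν) v₀ +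
        (S.τ (a * S.fE y v₀ * S.st ν) +
          Cfsg.hermForm n F q y (act S.ρ π v₀) * S.τ (a * ν * S.st ν)) • act S.ρ π v₀ := by
  rw [← Matrix.mulVec_mulVec, ← Matrix.mulVec_mulVec, S.ktMat_mulVec, hX.act, xi_inv S htau hiso hX]
  set c := Cfsg.hermForm n F q y (act S.ρ π v₀) with hc
  have e1 : a * (S.fE y v₀ + c • ν) = a * S.fE y v₀ + c • (a * ν) := by
    rw [mul_add, mul_smul_comm]
  have e2 : S.τ (a * (S.fE y v₀ + c • ν) * S.st ν) =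
      S.τ (a * S.fE y v₀ * S.st ν) + c * S.τ (a * ν * S.st ν) := by
    rw [e1, add_mul, map_add, smul_mul_assoc, map_smul, smul_eq_mul]
  rw [e2, e1, act_add, act_smul]

/-- `X A X⁻¹` kills the base line -/
lemma conj_mulVec_line (htau : ∀ a : E, (∀ b, S.τ (a * b) = 0) → a = 0) {v₀ : 𝕍}
    (hiso : S.fE v₀ v₀ = 0) {π ν : E} {X : GL (Fin n) F} (hX : LineTv S v₀ π ν X) (a e : E) :
    ((X : 𝕄) * S.ktMat v₀ a * ((X⁻¹ : GL (Fin n) F) : 𝕄)) *ᵥ act S.ρ e v₀ = 0 := by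
  rw [conj_mulVec S htau hiso hX, S.fE_act_left, hiso, S.form_act_left, S.fE_act_right, hiso]
  simp only [mul_zero, zero_mul, map_zero, act_zero, zero_smul, add_zero]

/-- the image of `X A X⁻¹` lies in the base line -/
lemma conj_mulVec_mem (htau : ∀ a : E, (∀ b, S.τ (a * b) = 0) → a = 0) {v₀ : 𝕍}
    (hiso : S.fE v₀ v₀ = 0) {π ν : E} {X : GL (Fin n) F} (hX : LineTv S v₀ π ν X) (a : E) (y : 𝕍) :
    ∃ e : E, ((X : 𝕄) * S.ktMat v₀ a * ((X⁻¹ : GL (Fin n) F) : 𝕄)) *ᵥ y = act S.ρ e v₀ := by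
  rw [conj_mulVec S htau hiso hX]
  refine ⟨a * S.fE y v₀ + Cfsg.hermForm n F q y (act S.ρ π v₀) • (a * ν) +
    (S.τ (a * S.fE y v₀ * S.st ν) +
      Cfsg.hermForm n F q y (act S.ρ π v₀) * S.τ (a * ν * S.st ν)) • π, ?_⟩
  rw [act_add, act_add, act_smul, act_smul]

/-- products of two conjugates vanish -/
lemma conj_mul_conj (htau : ∀ a : E, (∀ b, S.τ (a * b) = 0) → a = 0) {v₀ : 𝕍}
    (hiso : S.fE v₀ v₀ = 0) {π ν ν' : E} {X Y : GL (Fin n) F} (hX : LineTv S v₀ π ν X)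
    (hY : LineTv S v₀ π ν' Y) (a : E) :
    ((X : 𝕄) * S.ktMat v₀ a * ((X⁻¹ : GL (Fin n) F) : 𝕄)) *
      ((Y : 𝕄) * S.ktMat v₀ a * ((Y⁻¹ : GL (Fin n) F) : 𝕄)) = 0 := by
  apply mat_eq_of_mulVec
  intro y
  rw [← Matrix.mulVec_mulVec, Matrix.zero_mulVec]
  obtain ⟨e, he⟩ := conj_mulVec_mem S htau hiso hY a y
  rw [he, conj_mulVec_line S htau hiso hX]

/-- the ring identity behind `[t, [m, 1 + A]] = 1 + A - C_m + C_tm - C_t` -/
lemma comm_identity {R : Type*} [Ring R] (T T' Mm Mm' A Cm Ct Ctm : R) (hT : T * T' = 1)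
    (hM : Mm * Mm' = 1) (hCm : Cm = Mm * A * Mm') (hCt : Ct = T * A * T')
    (hCtm : Ctm = T * Mm * A * (Mm' * T'))
    (z1 : Cm * A = 0) (z2 : A * Cm = 0) (z3 : Ctm * Cm = 0) (z4 : Ctm * A = 0) (z5 : Ct * Cm = 0)
    (z6 : Ct * A = 0) :
    T * (Mm * (1 + A) * Mm' * (1 - A)) * T' * ((1 + A) * Mm * (1 - A) * Mm') =
      1 + A - Cm + Ctm - Ct := by
  have s1 : Mm * (1 + A) * Mm' = 1 + Cm := by
    rw [mul_add, add_mul, mul_one, hM, ← hCm]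
  have s2 : (1 + Cm) * (1 - A) = 1 + Cm - A := by
    have : (1 + Cm) * (1 - A) = 1 + Cm - A - Cm * A := by noncomm_ring
    rw [this, z1, sub_zero]
  have s3 : (1 + A) * Mm * (1 - A) * Mm' = 1 + A - Cm := by
    have e1 : (1 + A) * Mm * (1 - A) * Mm' = (1 + A) * (Mm * Mm' - Mm * A * Mm') := by noncomm_ring
    rw [e1, hM, ← hCm]
    have : (1 + A) * (1 - Cm) = 1 + A - Cm - A * Cm := by noncomm_ring
    rw [this, z2, sub_zero]
  have s4 : T * (1 + Cm - A) * T' = 1 + Ctm - Ct := by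
    have e1 : T * (1 + Cm - A) * T' = T * T' + T * Cm * T' - T * A * T' := by noncomm_ring
    have e2 : T * Cm * T' = Ctm := by
      rw [hCm, hCtm]
      noncomm_ring
    rw [e1, hT, e2, ← hCt]
  rw [s1, s2, s3, s4]
  have s5 : (1 + Ctm - Ct) * (1 + A - Cm) =
      1 + A - Cm + Ctm + Ctm * A - Ctm * Cm - Ct - Ct * A + Ct * Cm := by noncomm_ring
  rw [s5, z3, z4, z5, z6]
  noncomm_ring

/-- Cc, core form (`tau_nondeg` as a hypothesis) -/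
theorem double_commutator_core (htau : ∀ a : E, (∀ b, S.τ (a * b) = 0) → a = 0)
    (M : Subgroup (GL (Fin n) F)) (hMS : M ≤ ℍ)
    (hM : ∀ g ∈ ℍ, (∀ e : E, (g : 𝕄) * S.ρ e = S.ρ e * (g : 𝕄)) → g ∈ M)
    {v₀ : 𝕍} (hiso : S.fE v₀ v₀ = 0) {π ν₁ ν₃ : E}
    (h1 : S.τ (π * S.st ν₁) = 0)
    {t m : GL (Fin n) F} (ht : t ∈ M) (hm : m ∈ M)
    (htL : ∀ e : E, (t : 𝕄) *ᵥ act S.ρ e v₀ =
      act S.ρ e v₀ + S.τ (e * S.st ν₁) • act S.ρ π v₀)
    (hmL : ∀ e : E, (m : 𝕄) *ᵥ act S.ρ e v₀ =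
      act S.ρ e v₀ + S.τ (e * S.st ν₃) • act S.ρ π v₀)
    {a : E} (ha : S.st a = -a) :
    ∃ y ∈ M, ∀ x : 𝕍, (y : 𝕄) *ᵥ x = x +
      ((S.τ (a * ν₃ * S.st ν₁) - S.τ (a * ν₃ * S.st ν₁) ^ q) *
        Cfsg.hermForm n F q x (act S.ρ π v₀)) • act S.ρ π v₀ := by
  have hT : LineTv S v₀ π ν₁ t := ⟨(hMS ht).1, htL⟩
  have hMm : LineTv S v₀ π ν₃ m := ⟨(hMS hm).1, hmL⟩
  have hTM : LineTv S v₀ π (ν₁ + ν₃) (t * m) := lineTv_mul S hT hMm h1
  have hOne : LineTv S v₀ π 0 (1 : GL (Fin n) F) := lineTv_one S v₀ π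
  set u : GL (Fin n) F := S.kt v₀ a hiso with hu
  have huM : u ∈ M := hM u (S.kt_mem hiso ha) (S.kt_comm hiso a)
  set A : 𝕄 := S.ktMat v₀ a with hA
  have huval : (u : 𝕄) = 1 + A := rfl
  have huinv : ((u⁻¹ : GL (Fin n) F) : 𝕄) = 1 - A := rfl
  have hA1 : ((1 : GL (Fin n) F) : 𝕄) * A * (((1 : GL (Fin n) F)⁻¹ : GL (Fin n) F) : 𝕄) = A := by
    rw [inv_one, Units.val_one, one_mul, mul_one]
  set Cm : 𝕄 := (m : 𝕄) * A * ((m⁻¹ : GL (Fin n) F) : 𝕄) with hCm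
  set Ct : 𝕄 := (t : 𝕄) * A * ((t⁻¹ : GL (Fin n) F) : 𝕄) with hCt
  set Ctm : 𝕄 := ((t * m : GL (Fin n) F) : 𝕄) * A * (((t * m)⁻¹ : GL (Fin n) F) : 𝕄) with hCtm
  have z1 : Cm * A = 0 := by
    have := conj_mul_conj S htau hiso hMm hOne a
    rwa [hA1] at this
  have z2 : A * Cm = 0 := by
    have := conj_mul_conj S htau hiso hOne hMm a
    rwa [hA1] at this
  have z3 : Ctm * Cm = 0 := conj_mul_conj S htau hiso hTM hMm a
  have z4 : Ctm * A = 0 := by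
    have := conj_mul_conj S htau hiso hTM hOne a
    rwa [hA1] at this
  have z5 : Ct * Cm = 0 := conj_mul_conj S htau hiso hT hMm a
  have z6 : Ct * A = 0 := by
    have := conj_mul_conj S htau hiso hT hOne a
    rwa [hA1] at this
  have htt : (t : 𝕄) * ((t⁻¹ : GL (Fin n) F) : 𝕄) = 1 := by
    rw [← Units.val_mul, mul_inv_cancel, Units.val_one]
  have hmm : (m : 𝕄) * ((m⁻¹ : GL (Fin n) F) : 𝕄) = 1 := by
    rw [← Units.val_mul, mul_inv_cancel, Units.val_one]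
  have hCtm' : Ctm = (t : 𝕄) * (m : 𝕄) * A * (((m⁻¹ : GL (Fin n) F) : 𝕄) * ((t⁻¹ : GL (Fin n) F) : 𝕄)) := by
    rw [hCtm, _root_.mul_inv_rev, Units.val_mul, Units.val_mul]
  set cm : GL (Fin n) F := m * u * m⁻¹ * u⁻¹ with hcm
  have hcmM : cm ∈ M := mul_mem (mul_mem (mul_mem hm huM) (inv_mem hm)) (inv_mem huM)
  have hcminv : cm⁻¹ = u * m * u⁻¹ * m⁻¹ := by
    rw [hcm]
    group
  refine ⟨t * cm * t⁻¹ * cm⁻¹, mul_mem (mul_mem (mul_mem ht hcmM) (inv_mem ht)) (inv_mem hcmM), ?_⟩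
  intro x
  have hval : ((t * cm * t⁻¹ * cm⁻¹ : GL (Fin n) F) : 𝕄) = 1 + A - Cm + Ctm - Ct := by
    rw [hcminv]
    simp only [Units.val_mul, hcm, huval, huinv]
    exact comm_identity (t : 𝕄) _ (m : 𝕄) _ A Cm Ct Ctm htt hmm hCm hCt hCtm' z1 z2 z3 z4 z5 z6
  rw [hval]
  simp only [Matrix.add_mulVec, Matrix.sub_mulVec, Matrix.one_mulVec]
  rw [hCm, hCt, hCtm, conj_mulVec S htau hiso hMm, conj_mulVec S htau hiso hTM,
    conj_mulVec S htau hiso hT, hA, S.ktMat_mulVec]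
  set c := Cfsg.hermForm n F q x (act S.ρ π v₀) with hc
  set ξ := S.fE x v₀ with hξ
  -- the `κ` relation
  have hκ : S.τ (a * ν₁ * S.st ν₃) = - (S.τ (a * ν₃ * S.st ν₁)) ^ q := by
    have : a * ν₁ * S.st ν₃ = - S.st (a * ν₃ * S.st ν₁) := by
      rw [map_mul, map_mul, S.st_st, ha]
      ring
    rw [this, map_neg, S.τ_st]
  have e1 : act S.ρ (a * (ν₁ + ν₃)) v₀ = act S.ρ (a * ν₁) v₀ + act S.ρ (a * ν₃) v₀ := by
    rw [mul_add, act_add]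
  have e2 : S.τ (a * ξ * S.st (ν₁ + ν₃)) = S.τ (a * ξ * S.st ν₁) + S.τ (a * ξ * S.st ν₃) := by
    rw [map_add, mul_add, map_add]
  have e3 : S.τ (a * (ν₁ + ν₃) * S.st (ν₁ + ν₃)) =
      S.τ (a * ν₁ * S.st ν₁) + S.τ (a * ν₁ * S.st ν₃) + S.τ (a * ν₃ * S.st ν₁) +
        S.τ (a * ν₃ * S.st ν₃) := by
    have : a * (ν₁ + ν₃) * S.st (ν₁ + ν₃) =
        a * ν₁ * S.st ν₁ + a * ν₁ * S.st ν₃ + a * ν₃ * S.st ν₁ + a * ν₃ * S.st ν₃ := by
      rw [map_add]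
      ring
    rw [this, map_add, map_add, map_add]
  rw [e1, e2, e3, hκ]
  module

end Cfsg.Agent.Lib.Helper28.C3uCc
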