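import Mathlib
import Cfsg.Prelude.Def_Classical
import Cfsg.Prelude.Def_ClassicalGeometry
import Cfsg.Prelude.Def_GeometricClasses
import Cfsg.Agent.Lib.Helper5.SUMax
import Cfsg.Agent.Lib.Helper22.C3LDefs
import Cfsg.Agent.Lib.Helper22.C3LTool
import Cfsg.Agent.Lib.Helper16.C3uDefs
import Cfsg.Agent.Lib.Helper12.C3uF
import Cfsg.Agent.Lib.Helper28.C3uCccore

/-!
Unitary C3 (cubic) market (helper16): leaf Cc `double_commutator`, exact signature of `notes/C3u_leaves.lean`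
(core `Cfsg.Agent.Lib.Helper28.C3uCc.double_commutator_core` + helper12's F2 `tau_nondeg`).
-/

set_option autoImplicit false
set_option linter.unusedSectionVars false
set_option linter.unusedVariables false

namespace Cfsg.Agent.Lib.Helper28.C3uLeaf
open Cfsg Matrix Module Cfsg.Agent.Lib.Helper5.SpMax Cfsg.Agent.Lib.Helper5.SUMax
  Cfsg.Agent.Lib.Helper22.C3L Cfsg.Agent.Lib.Helper16.C3u

universe u
variable {F : Type u} [Field F] [Fintype F] {n q : ℕ} {E : Type u} [Field E] [Algebra F E]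

local notation "𝕍" => (Fin n → F)
local notation "𝕄" => Matrix (Fin n) (Fin n) F
local notation "ℍ" => (Cfsg.GU n F q ⊓ Cfsg.Geo.specialLinear (Fin n) F)

/-- Cc: the double commutator `[t, [m, kt v₀ a]]` is a unitary transvection with centre `π v₀` -/
theorem double_commutator (S : KU n q F E) (hF : Fintype.card F = q ^ 2) (hn : 0 < n)
    (M : Subgroup (GL (Fin n) F)) (hMS : M ≤ ℍ)
    (hM : ∀ g ∈ ℍ, (∀ e : E, (g : 𝕄) * S.ρ e = S.ρ e * (g : 𝕄)) → g ∈ M)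
    {v₀ : 𝕍} (hv₀ : v₀ ≠ 0) (hiso : S.fE v₀ v₀ = 0) {π ν₁ ν₃ : E}
    (h1 : S.τ (π * S.st ν₁) = 0) (h3 : S.τ (π * S.st ν₃) = 0)
    {t m : GL (Fin n) F} (ht : t ∈ M) (hm : m ∈ M)
    (htL : ∀ e : E, (t : 𝕄) *ᵥ act S.ρ e v₀ =
      act S.ρ e v₀ + S.τ (e * S.st ν₁) • act S.ρ π v₀)
    (hmL : ∀ e : E, (m : 𝕄) *ᵥ act S.ρ e v₀ =
      act S.ρ e v₀ + S.τ (e * S.st ν₃) • act S.ρ π v₀)
    {a : E} (ha : S.st a = -a) :
    ∃ y ∈ M, ∀ x : 𝕍, (y : 𝕄) *ᵥ x = x +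
      ((S.τ (a * ν₃ * S.st ν₁) - S.τ (a * ν₃ * S.st ν₁) ^ q) *
        Cfsg.hermForm n F q x (act S.ρ π v₀)) • act S.ρ π v₀ :=
  Cfsg.Agent.Lib.Helper28.C3uCc.double_commutator_core S
    (fun a h => Cfsg.Agent.Lib.Helper12.C3uLeaf.tau_nondeg S hF hn h)
    M hMS hM hiso h1 ht hm htL hmL ha

end Cfsg.Agent.Lib.Helper28.C3uLeaf
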