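/-
helper28: the rank one relations for `slBN` (S4538, part B2): `hsUs`, `hrank1`, `hrank1_one`, `hHgen`.
With `s = sOfSL n F i` (block `[[0,1],[-1,0]]` on rows/columns `i, i+1`), `x(t) = xSL i (i+1) t`:
`s x(t) s⁻¹ = x(-t⁻¹) h_i(t⁻¹) s x(-t⁻¹)`, `h_i(λ) = diag(…, λ, λ⁻¹, …)`.
-/
import Mathlib
import Cfsg.Agent.Lib.Helper28.SLBNX

set_option autoImplicit false
set_option linter.unusedSimpArgs false

namespace Cfsg.Agent.Lib.Helper28.SLBN

open Matrix Equiv Cfsg.Agent.Lib.Helper6.GLBN Cfsg.Agent.Lib.Helper18.PSLnAut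

variable {n : ℕ} {F : Type*} [Field F]

/-- `x(t⁻¹) y(-t) x(t⁻¹)` is monomial -/
theorem three_transvections {k k' : Fin n} (hkk' : k ≠ k') {t : F} (ht : t ≠ 0) :
    transvection k k' t⁻¹ * transvection k' k (-t) * transvection k k' t⁻¹ =
      mono (swap k k') (fun j => if j = k then -t else if j = k' then t⁻¹ else 1) := by
  ext i j
  rw [mul_transvection_apply', transvection_mul_apply', transvection_mul_apply',
    transvection_apply', transvection_apply', transvection_apply', transvection_apply', mono_apply]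
  by_cases hjk : j = k
  · subst hjk
    rw [swap_apply_left]
    by_cases hik : i = j
    · subst hik
      simp [hkk', hkk'.symm]
      field_simp
      ring
    · by_cases hik' : i = k'
      · subst hik'
        simp [hkk', hkk'.symm]
      · simp [hik, hik', hkk', hkk'.symm, Ne.symm hik, Ne.symm hik']
  · by_cases hjk' : j = k'
    · subst hjk'
      rw [swap_apply_right]
      by_cases hik : i = k
      · subst hik
        simp [hkk', hkk'.symm]
        right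
        rw [inv_mul_cancel₀ ht]; ring
      · by_cases hik' : i = j
        · subst hik'
          simp [hkk', hkk'.symm, hik]
          field_simp
          ring
        · simp [hik, hik', hkk', hkk'.symm, Ne.symm hik, Ne.symm hik']
    · rw [swap_apply_of_ne_of_ne hjk hjk']
      by_cases hij : i = j
      · subst hij
        simp [hjk, hjk', hkk', hkk'.symm]
      · simp [hij, hjk, hjk', hkk', hkk'.symm, Ne.symm hjk, Ne.symm hjk']

theorem xGL_congr {p q p' q' : Fin n} (hpq : p ≠ q) (hpq' : p' ≠ q') (hp : p = p') (hq : q = q')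
    {t t' : F} (ht : t = t') : xGL p q hpq t = xGL p' q' hpq' t' := by
  subst hp hq ht; rfl

/-- the coefficient vector of the coroot element `h(λ) = diag(…, λ, λ⁻¹, …)` -/
def hco (k k' : Fin n) (l : Fˣ) : Fin n → Fˣ :=
  fun j => if j = k then l else if j = k' then l⁻¹ else 1

/-- the monomial matrix of the signed transposition -/
abbrev mGL (k k' : Fin n) : GL (Fin n) F := monoGL (swap k k') (oneAt k (-1 : Fˣ))

/-- `y(t') m = m x(-t')` -/
theorem lower_mul_mGL {k k' : Fin n} (hkk' : k ≠ k') (t' : F) :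
    xGL k' k hkk'.symm t' * mGL k k' = mGL (F := F) k k' * xGL k k' hkk' (-t') := by
  rw [xGL_mul_monoGL]
  congr 1
  apply xGL_congr
  · rw [swap_inv, swap_apply_right]
  · rw [swap_inv, swap_apply_left]
  · rw [swap_inv, swap_apply_left, swap_apply_right, oneAt_self, oneAt_of_ne hkk'.symm]
    simp [div_neg]

/-- `m x(t) m⁻¹ = y(-t)` -/
theorem mGL_conj {k k' : Fin n} (hkk' : k ≠ k') (t : F) :
    mGL (F := F) k k' * xGL k k' hkk' t * (mGL k k')⁻¹ = xGL k' k hkk'.symm (-t) := by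
  have := lower_mul_mGL (F := F) hkk' (-t)
  rw [neg_neg] at this
  rw [← this, mul_inv_cancel_right]

/-- `x(t⁻¹) y(-t) x(t⁻¹) = h(t⁻¹) m` -/
theorem three_xGL {k k' : Fin n} (hkk' : k ≠ k') {t : F} (ht : t ≠ 0) :
    xGL k k' hkk' t⁻¹ * xGL k' k hkk'.symm (-t) * xGL k k' hkk' t⁻¹ =
      monoGL 1 (hco k k' (Units.mk0 t⁻¹ (inv_ne_zero ht))) * mGL k k' := by
  apply Units.ext
  rw [Units.val_mul, Units.val_mul, coe_xGL, coe_xGL, three_transvections hkk' ht, monoGL_mul,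
    coe_monoGL, one_mul]
  congr 1
  funext j
  unfold hco
  by_cases hjk : j = k
  · subst hjk
    rw [if_pos rfl, swap_apply_left, if_neg hkk'.symm, if_pos rfl, oneAt_self]
    simp
  · by_cases hjk' : j = k'
    · subst hjk'
      rw [if_neg hjk, if_pos rfl, swap_apply_right, if_pos rfl, oneAt_of_ne hjk]
      simp
    · rw [if_neg hjk, if_neg hjk', swap_apply_of_ne_of_ne hjk hjk', if_neg hjk, if_neg hjk',
        oneAt_of_ne hjk]
      simp

/-- the rank one relation in `GL_n` -/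
theorem rank_one_GL {k k' : Fin n} (hkk' : k ≠ k') {t : F} (ht : t ≠ 0) :
    mGL (F := F) k k' * xGL k k' hkk' t * (mGL k k')⁻¹ =
      xGL k k' hkk' (-t⁻¹) * monoGL 1 (hco k k' (Units.mk0 t⁻¹ (inv_ne_zero ht))) * mGL k k' *
        xGL k k' hkk' (-t⁻¹) := by
  rw [mGL_conj, mul_assoc (xGL k k' hkk' (-t⁻¹)), ← three_xGL hkk' ht]
  have h1 : xGL k k' hkk' (-t⁻¹) * xGL k k' hkk' t⁻¹ = (1 : GL (Fin n) F) := by
    rw [xGL_mul, neg_add_cancel, xGL_zero]
  have h2 : xGL k k' hkk' t⁻¹ * xGL k k' hkk' (-t⁻¹) = (1 : GL (Fin n) F) := by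
    rw [xGL_mul, add_neg_cancel, xGL_zero]
  calc xGL k' k hkk'.symm (-t)
      = (xGL k k' hkk' (-t⁻¹) * xGL k k' hkk' t⁻¹) * xGL k' k hkk'.symm (-t) *
          (xGL k k' hkk' t⁻¹ * xGL k k' hkk' (-t⁻¹)) := by rw [h1, h2, one_mul, mul_one]
    _ = _ := by simp only [mul_assoc]

variable (hn : 0 < n)

/-- **the rank one relation in `SL_n`** (`hrank1`, with the torus element identified) -/
theorem rank_one_SL (i : Fin (n - 1)) {t : F} (ht : t ≠ 0) :
    ∃ h : Matrix.SpecialLinearGroup (Fin n) F,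
      Matrix.SpecialLinearGroup.toGL h =
        monoGL 1 (hco (lo i) (hi i) (Units.mk0 t⁻¹ (inv_ne_zero ht))) ∧
      sOfSL n F i * xSL (lo i) (hi i) (lo_ne_hi i) t * (sOfSL n F i)⁻¹ =
        xSL (lo i) (hi i) (lo_ne_hi i) (-t⁻¹) * h * sOfSL n F i *
          xSL (lo i) (hi i) (lo_ne_hi i) (-t⁻¹) := by
  set s := sOfSL n F i with hs
  set u := xSL (lo i) (hi i) (lo_ne_hi i) (-t⁻¹) with hu
  set x := xSL (lo i) (hi i) (lo_ne_hi i) t with hx
  refine ⟨u⁻¹ * (s * x * s⁻¹) * u⁻¹ * s⁻¹, ?_, by group⟩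
  have hsGL : Matrix.SpecialLinearGroup.toGL s = mGL (lo i) (hi i) := by
    rw [hs, sOfSL_eq]
    exact toGL_sSL' (lo_ne_hi i)
  rw [map_mul, map_mul, map_mul, map_inv, map_inv, map_mul, map_mul, map_inv, hsGL, hu, hx,
    toGL_xSL, toGL_xSL, rank_one_GL (lo_ne_hi i) ht]
  group

/-- coroot elements lie in `T` -/
theorem mem_T_of_toGL_eq {h : Matrix.SpecialLinearGroup (Fin n) F} {d : Fin n → Fˣ}
    (hh : Matrix.SpecialLinearGroup.toGL h = monoGL 1 d) :
    h ∈ (slBN (F := F) hn).B ⊓ (slBN (F := F) hn).N :=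
  (mem_slBN_T hn h).mpr ⟨d, hh⟩

variable [Finite F]

/-- `hrank1` -/
theorem rank1 (i : Fin (n - 1)) {x : Matrix.SpecialLinearGroup (Fin n) F} (hx : x ∈ Xsl n F i)
    (hx1 : x ≠ 1) :
    ∃ u₁ ∈ unitri n F, ∃ h ∈ (slBN (F := F) hn).B ⊓ (slBN (F := F) hn).N, ∃ u₂ ∈ unitri n F,
      sOfSL n F i * x * (sOfSL n F i)⁻¹ = u₁ * h * sOfSL n F i * u₂ := by
  obtain ⟨t, rfl⟩ := hx
  have ht : t ≠ 0 := by
    rintro rfl
    exact hx1 (xSL_zero _ _ _)
  obtain ⟨h, hh, hrel⟩ := rank_one_SL i ht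
  exact ⟨_, isUni_xSL (lo_lt_hi i) _, h, mem_T_of_toGL_eq hn hh, _, isUni_xSL (lo_lt_hi i) _, hrel⟩

omit [Finite F] in
theorem xSL_one_ne_one (i : Fin (n - 1)) : xSL (F := F) (lo i) (hi i) (lo_ne_hi i) 1 ≠ 1 := by
  intro h
  have := xSL_injective (F := F) (lo i) (hi i) (lo_ne_hi i) (h.trans (xSL_zero _ _ _).symm)
  exact one_ne_zero this

/-- `hrank1_one` -/
theorem rank1_one (i : Fin (n - 1)) :
    ∃ x ∈ Xsl n F i, x ≠ 1 ∧ ∃ u₁ ∈ unitri n F, ∃ u₂ ∈ unitri n F,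
      sOfSL n F i * x * (sOfSL n F i)⁻¹ = u₁ * sOfSL n F i * u₂ := by
  obtain ⟨h, hh, hrel⟩ := rank_one_SL (F := F) i (one_ne_zero)
  have h1 : h = 1 := by
    apply Matrix.SpecialLinearGroup.toGL_injective
    rw [hh, map_one, ← monoGL_one]
    congr 1
    funext j
    unfold hco
    split_ifs <;> simp
  rw [h1, mul_one] at hrel
  exact ⟨_, ⟨1, rfl⟩, xSL_one_ne_one i, _, isUni_xSL (lo_lt_hi i) _, _, isUni_xSL (lo_lt_hi i) _, hrel⟩

/-- the generators of `T` coming from the rank one relations -/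
def Hgen : Set (Matrix.SpecialLinearGroup (Fin n) F) :=
  {h | h ∈ (slBN (F := F) hn).B ⊓ (slBN (F := F) hn).N ∧ ∃ i : Fin (n - 1), ∃ x ∈ Xsl n F i, x ≠ 1 ∧
    ∃ u₁ ∈ unitri n F, ∃ u₂ ∈ unitri n F,
      sOfSL n F i * x * (sOfSL n F i)⁻¹ = u₁ * h * sOfSL n F i * u₂}

/-- every coroot element `h_i(λ)` is one of the generators -/
theorem coroot_mem_Hgen (i : Fin (n - 1)) (l : Fˣ) :
    ∃ h ∈ Hgen (F := F) hn, Matrix.SpecialLinearGroup.toGL h = monoGL 1 (hco (lo i) (hi i) l) := by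
  have ht : ((l⁻¹ : Fˣ) : F) ≠ 0 := (l⁻¹).ne_zero
  obtain ⟨h, hh, hrel⟩ := rank_one_SL (F := F) i ht
  have hl : Units.mk0 (((l⁻¹ : Fˣ) : F))⁻¹ (inv_ne_zero ht) = l := by
    apply Units.ext
    simp
  rw [hl] at hh
  refine ⟨h, ⟨mem_T_of_toGL_eq hn hh, i, _, ⟨_, rfl⟩, ?_, _, isUni_xSL (lo_lt_hi i) _, _,
    isUni_xSL (lo_lt_hi i) _, hrel⟩, hh⟩
  intro h0
  have := xSL_injective (F := F) (lo i) (hi i) (lo_ne_hi i) (h0.trans (xSL_zero _ _ _).symm)
  exact ht this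

end Cfsg.Agent.Lib.Helper28.SLBN
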