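import Cfsg.Agent.Lib.Helper17.SLMDefs
import Cfsg.Agent.Lib.Helper28.SLMDec
import Cfsg.Agent.Lib.Helper1.SLMTools

/-!
# SLnMax (helper17's market), P4 `not_sl_le_tensor` (helper28): EXACT signature of `notes/SLnMax_leaves.lean`,
on helper1's T1 `exists_sl_map_vec`.
-/

set_option autoImplicit false
set_option linter.unusedSectionVars false
set_option linter.unusedVariables false

namespace Cfsg.Agent.Lib.Helper28.SLMLeaf

open Cfsg.Geo Matrix Module Cfsg.Agent.Lib.Helper17.SLM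

variable {n : ℕ} {F : Type*} [Field F] [Fintype F]

theorem t1Stmt (hn : 2 ≤ n) : T1Stmt n F :=
  fun hu hv => Cfsg.Agent.Lib.Helper1.SLMLeaf.exists_sl_map_vec hn hu hv

/-- P4. -/
theorem not_sl_le_tensor {n₁ n₂ : ℕ} (e : Fin n ≃ Fin n₁ × Fin n₂) (P : GL (Fin n) F) (h1 : 2 ≤ n₁) (h2 : 2 ≤ n₂) :
    ¬ specialLinear (Fin n) F ≤ tensorProductSubgroup n₁ n₂ e P := by
  have hn : 2 ≤ n := by
    have := Fintype.card_congr e
    rw [Fintype.card_fin, Fintype.card_prod, Fintype.card_fin, Fintype.card_fin] at this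
    rw [this]
    nlinarith
  exact not_sl_le_tensor_core (t1Stmt hn) e P h1 h2

end Cfsg.Agent.Lib.Helper28.SLMLeaf
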