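import Cfsg.Agent.Lib.Helper17.SLMDefs
import Cfsg.Agent.Lib.Helper28.SLMP7core
import Cfsg.Agent.Lib.Helper28.SLMP4

/-!
# SLnMax (helper17's market), P7 `not_sl_le_tensorWreath` (helper28): EXACT signature of `notes/SLnMax_leaves.lean`,
on helper1's T1 `exists_sl_map_vec`.
-/

set_option autoImplicit false
set_option linter.unusedSectionVars false
set_option linter.unusedVariables false

namespace Cfsg.Agent.Lib.Helper28.SLMLeaf

open Cfsg.Geo Matrix Module Cfsg.Agent.Lib.Helper17.SLM

variable {n : ℕ} {F : Type*} [Field F] [Fintype F]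

/-- P7. -/
theorem not_sl_le_tensorWreath {m t : ℕ} (e : Fin n ≃ (Fin t → Fin m)) (P : GL (Fin n) F) (hm : 2 ≤ m) (ht : 2 ≤ t) :
    ¬ specialLinear (Fin n) F ≤ tensorWreathSubgroup m t e P := by
  have hn : 2 ≤ n := by
    have := Fintype.card_congr e
    rw [Fintype.card_fin, Fintype.card_fun, Fintype.card_fin, Fintype.card_fin] at this
    rw [this]
    calc 2 ≤ m := hm
      _ = m ^ 1 := (pow_one m).symm
      _ ≤ m ^ t := Nat.pow_le_pow_right (by omega) (by omega)
  exact not_sl_le_tensorWreath_core (t1Stmt hn) e P hm ht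

end Cfsg.Agent.Lib.Helper28.SLMLeaf
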