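import Cfsg.Agent.Lib.Helper17.SLMDefs

/-!
# SLnMax (helper17's market), block P8 (helper28): `SL_n` is not contained in the similarity group of a form — core form
against T2 (`exists_sl_map_pair`) as a hypothesis.
-/

set_option autoImplicit false
set_option linter.unusedSectionVars false
set_option linter.unusedVariables false

namespace Cfsg.Agent.Lib.Helper28.SLMLeaf

open Cfsg.Geo Matrix Module Cfsg.Agent.Lib.Helper17.SLM

variable {n : ℕ} {F : Type*} [Field F] [Fintype F]

/-- the statement of T2 -/
def T2Stmt (n : ℕ) (F : Type*) [Field F] [Fintype F] : Prop :=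
  ∀ {u v u' v' : Fin n → F}, LinearIndependent F ![u, v] → LinearIndependent F ![u', v'] →
    ∃ g ∈ specialLinear (Fin n) F, (g : Matrix (Fin n) (Fin n) F) *ᵥ u = u' ∧
      (g : Matrix (Fin n) (Fin n) F) *ᵥ v = v'

lemma linearIndependent_pair_of_not_mem_span {w u : Fin n → F} (hu : u ≠ 0)
    (hw : w ∉ Submodule.span F ({u} : Set (Fin n → F))) : LinearIndependent F ![w, u] := by
  rw [LinearIndependent.pair_iff]
  intro s t hst
  have hs : s = 0 := by
    by_contra hs
    apply hw
    have : w = (-(s⁻¹ * t)) • u := by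
      have h1 : s • w = -(t • u) := eq_neg_of_add_eq_zero_left hst
      have h2 : w = s⁻¹ • (s • w) := by rw [smul_smul, inv_mul_cancel₀ hs, one_smul]
      rw [h2, h1, smul_neg, smul_smul, neg_smul]
    rw [this]
    exact Submodule.smul_mem _ _ (Submodule.mem_span_singleton_self u)
  refine ⟨hs, ?_⟩
  rw [hs, zero_smul, zero_add] at hst
  rcases smul_eq_zero.1 hst with h | h
  · exact h
  · exact absurd h hu

/-- the core: a form which is linear in the first variable and non-degenerate in the first variable is not preserved up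
to scalars by `SL_n`, `n ≥ 3`. -/
theorem not_sl_le_sim_core (hn : 3 ≤ n) (hT2 : T2Stmt n F)
    {f : (Fin n → F) → (Fin n → F) → F}
    (hadd : ∀ x y v, f (x + y) v = f x v + f y v)
    (hsmul : ∀ (c : F) (x v : Fin n → F), f (c • x) v = c * f x v)
    (hnd : ∀ v : Fin n → F, v ≠ 0 → ∃ x, f x v ≠ 0) :
    ¬ specialLinear (Fin n) F ≤ similarityGroup f := by
  intro hle
  -- a non-zero vector
  let i0 : Fin n := ⟨0, by omega⟩
  let u : Fin n → F := Pi.single i0 1
  have hu : u ≠ 0 := by
    intro h
    have := congrFun h i0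
    simp [u] at this
  -- the linear functional `x ↦ f x u`
  let φ : (Fin n → F) →ₗ[F] F :=
    { toFun := fun x => f x u
      map_add' := fun x y => hadd x y u
      map_smul' := fun c x => by simp only [RingHom.id_apply, smul_eq_mul]; exact hsmul c x u }
  have hker : 2 ≤ finrank F (LinearMap.ker φ) := by
    have h1 := LinearMap.finrank_range_add_finrank_ker φ
    have h2 : finrank F (LinearMap.range φ) ≤ 1 := by
      have := Submodule.finrank_le (LinearMap.range φ)
      rwa [finrank_self] at this
    have h3 : finrank F (Fin n → F) = n := by simp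
    omega
  -- a vector of the kernel outside `span {u}`
  obtain ⟨v, hvker, hvspan⟩ : ∃ v, v ∈ LinearMap.ker φ ∧ v ∉ Submodule.span F ({u} : Set (Fin n → F)) := by
    by_contra hcon
    have hle' : LinearMap.ker φ ≤ Submodule.span F ({u} : Set (Fin n → F)) := by
      intro w hw
      by_contra hws
      exact hcon ⟨w, hw, hws⟩
    have h1 := Submodule.finrank_mono hle'
    have h2 : finrank F (Submodule.span F ({u} : Set (Fin n → F))) ≤ 1 := by
      have := finrank_span_le_card (R := F) ({u} : Set (Fin n → F))
      simpa using this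
    omega
  have hfvu : f v u = 0 := hvker
  -- a non-orthogonal vector outside `span {u}`
  obtain ⟨x', hx'span, hx'f⟩ : ∃ x', x' ∉ Submodule.span F ({u} : Set (Fin n → F)) ∧ f x' u ≠ 0 := by
    obtain ⟨x, hx⟩ := hnd u hu
    by_cases hxs : x ∈ Submodule.span F ({u} : Set (Fin n → F))
    · refine ⟨x + v, ?_, ?_⟩
      · intro h
        apply hvspan
        have := Submodule.sub_mem _ h hxs
        simpa using this
      · rw [hadd, hfvu, add_zero]
        exact hx
    · exact ⟨x, hxs, hx⟩
  obtain ⟨g, hg, hgv, hgu⟩ := hT2 (linearIndependent_pair_of_not_mem_span hu hvspan)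
    (linearIndependent_pair_of_not_mem_span hu hx'span)
  obtain ⟨c, hc⟩ := hle hg
  have := hc v u
  rw [hgv, hgu, hfvu, mul_zero] at this
  exact hx'f this

/-- P8s, core form -/
theorem not_sl_le_symp_core (hn : 3 ≤ n) (hT2 : T2Stmt n F) {f : (Fin n → F) → (Fin n → F) → F}
    (hf : IsSymplecticForm f) : ¬ specialLinear (Fin n) F ≤ similarityGroup f :=
  not_sl_le_sim_core hn hT2 hf.bilinear.add_left hf.bilinear.smul_left
    (fun v hv => (hf.nondegenerate v hv).1)

/-- P8u, core form -/
theorem not_sl_le_unitary_core (hn : 3 ≤ n) (hT2 : T2Stmt n F) {σ : F ≃+* F}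
    {f : (Fin n → F) → (Fin n → F) → F} (hf : IsUnitaryForm σ f) :
    ¬ specialLinear (Fin n) F ≤ similarityGroup f :=
  not_sl_le_sim_core hn hT2 hf.add_left hf.smul_left (fun v hv => (hf.nondegenerate v hv).1)

/-- a similarity of `Q` is a similarity of its polar form -/
theorem quadSimilarityGroup_le_polar (Q : (Fin n → F) → F) :
    quadSimilarityGroup Q ≤ similarityGroup (QuadraticMap.polar Q) := by
  rintro g ⟨c, hc⟩
  refine ⟨c, fun u v => ?_⟩
  unfold QuadraticMap.polar
  rw [← Matrix.mulVec_add, hc, hc, hc]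
  ring

/-- P8q, core form -/
theorem not_sl_le_quad_core (hn : 3 ≤ n) (hT2 : T2Stmt n F) {Q : (Fin n → F) → F}
    (hQ : IsNondegenerateQuadraticForm Q) : ¬ specialLinear (Fin n) F ≤ quadSimilarityGroup Q := by
  intro hle
  exact not_sl_le_sim_core hn hT2 hQ.polar_bilinear.add_left hQ.polar_bilinear.smul_left
    (fun v hv => (hQ.nondegenerate v hv).1) (hle.trans (quadSimilarityGroup_le_polar Q))

end Cfsg.Agent.Lib.Helper28.SLMLeaf
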