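import Cfsg.Agent.Lib.Helper17.SLMDefs
import Cfsg.Agent.Lib.Helper28.SLMP8core
import Cfsg.Agent.Lib.Helper1.SLMTools

/-!
# SLnMax (helper17's market), block P8 (helper28): EXACT signatures of `notes/SLnMax_leaves.lean`
(`not_sl_le_symp`, `not_sl_le_unitary`, `not_sl_le_quad`), on helper1's T2 `exists_sl_map_pair`.
-/

set_option autoImplicit false
set_option linter.unusedSectionVars false
set_option linter.unusedVariables false

namespace Cfsg.Agent.Lib.Helper28.SLMLeaf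

open Cfsg.Geo Matrix Module Cfsg.Agent.Lib.Helper17.SLM

variable {n : ℕ} {F : Type*} [Field F] [Fintype F]

theorem t2Stmt (hn : 3 ≤ n) : T2Stmt n F :=
  fun h h' => Cfsg.Agent.Lib.Helper1.SLMLeaf.exists_sl_map_pair hn h h'

/-- P8s. -/
theorem not_sl_le_symp (hn : 3 ≤ n) {f : (Fin n → F) → (Fin n → F) → F} (hf : IsSymplecticForm f) :
    ¬ specialLinear (Fin n) F ≤ similarityGroup f :=
  not_sl_le_symp_core hn (t2Stmt hn) hf

/-- P8u. -/
theorem not_sl_le_unitary (hn : 3 ≤ n) {σ : F ≃+* F} {f : (Fin n → F) → (Fin n → F) → F}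
    (hf : IsUnitaryForm σ f) : ¬ specialLinear (Fin n) F ≤ similarityGroup f :=
  not_sl_le_unitary_core hn (t2Stmt hn) hf

/-- P8q. -/
theorem not_sl_le_quad (hn : 3 ≤ n) {Q : (Fin n → F) → F} (hQ : IsNondegenerateQuadraticForm Q) :
    ¬ specialLinear (Fin n) F ≤ quadSimilarityGroup Q :=
  not_sl_le_quad_core hn (t2Stmt hn) hQ

end Cfsg.Agent.Lib.Helper28.SLMLeaf
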