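import Mathlib
import Cfsg.Agent.Lib.Helper18.UDenseDefs
import Cfsg.Agent.Lib.Helper18.UDenseComb
import Cfsg.Agent.Lib.Helper23.UDenseK2b
import Cfsg.Agent.Lib.Helper28.UDenseF6

/-!
helper28, S5801 (3) frames 6x1, dense case (helper2's plan notes/S5801_frames6_dense_helper2.md), glue leaf **A1**:
* `exists_comb6` = `Helper18.UDense.exists_comb` at `6 ≤ n` (fusion by `Helper28.UDenseF6.isMono_of_conj_isMono6`);
* `hb6`: hypothesis `hb` of `Helper2.UDense6.exists_split` for the rows `ρ s := ![g s a, g s b, g s c]`.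
-/

set_option autoImplicit false

namespace Cfsg.Agent.Lib.Helper28.UDense6
open Matrix Cfsg.Agent.Lib.Helper11.Mono Cfsg.Agent.Lib.Helper15.MonoLeaf Cfsg.Agent.Lib.Helper18.UDense

variable {F : Type*} [Field F] [Fintype F] {ι : Type} [Fintype ι] [DecidableEq ι]

/-- (*) at `6 ≤ n`: for every 2-set `{k,l}` the column `c` of `g` is, off `{k, l, i}`, a combination of the columns `a, b`. -/
theorem exists_comb6 (h6 : 6 ≤ Fintype.card ι) (L : Subgroup (GL ι F)) (hD : ColDense L)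
    (ζ : Fˣ) (r : ℕ) (hr : r.Prime) (hζ : orderOf ζ = r)
    (hz : ∀ k l : ι, k ≠ l → dg (tcc k l ζ) ∈ L) (g : GL ι F) (hg : g ∈ L)
    (a b c : ι) (hab : a ≠ b) (hca : c ≠ a) (hcb : c ≠ b) (k l : ι) (hkl : k ≠ l) :
    ∃ (α β : F) (i : ι), ∀ x, x ≠ k → x ≠ l → x ≠ i →
      (g : Matrix ι ι F) x c = α * (g : Matrix ι ι F) x a + β * (g : Matrix ι ι F) x b := by
  have hζr : ζ ^ r = 1 := by rw [← hζ]; exact pow_orderOf_eq_one ζ
  have hζ1 : ζ ≠ 1 := by
    intro h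
    rw [h, orderOf_one] at hζ
    exact hr.ne_one hζ.symm
  exact exists_comb_core L ζ r hζr hz
    (fun k l hkl h hh hy =>
      Cfsg.Agent.Lib.Helper28.UDenseF6.isMono_of_conj_isMono6 h6 L hD ζ hζ1 k l hkl h hh hy)
    (fun N z z' g hz hz' hzN h1 h2 =>
      Cfsg.Agent.Lib.Helper23.UDenseLeaf.exists_mem_closure_coset N z z' g r hr hz hz' hzN h1 h2)
    g hg a b c hab k l hkl

/-- **A1**: hypothesis `hb` of `Helper2.UDense6.exists_split` for the rows of a column triple of `g ∈ L`. -/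
theorem hb6 (h6 : 6 ≤ Fintype.card ι) (L : Subgroup (GL ι F)) (hD : ColDense L)
    (ζ : Fˣ) (r : ℕ) (hr : r.Prime) (hζ : orderOf ζ = r)
    (hz : ∀ k l : ι, k ≠ l → dg (tcc k l ζ) ∈ L) (g : GL ι F) (hg : g ∈ L)
    (a b c : ι) (hab : a ≠ b) (hca : c ≠ a) (hcb : c ≠ b) :
    ∀ k l : ι, k ≠ l → ∃ x : Fin 3 → F, x ≠ 0 ∧ ∃ i : ι, ∀ s, s ≠ k → s ≠ l → s ≠ i →
      ![(g : Matrix ι ι F) s a, (g : Matrix ι ι F) s b, (g : Matrix ι ι F) s c] ⬝ᵥ x = 0 := by
  intro k l hkl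
  obtain ⟨α, β, i, h⟩ := exists_comb6 h6 L hD ζ r hr hζ hz g hg a b c hab hca hcb k l hkl
  refine ⟨![-α, -β, 1], ?_, i, ?_⟩
  · intro h0
    have := congrFun h0 2
    simp at this
  · intro s hsk hsl hsi
    rw [h s hsk hsl hsi]
    simp [dotProduct, Fin.sum_univ_three]
    ring

end Cfsg.Agent.Lib.Helper28.UDense6
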