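import Mathlib
import Cfsg.Agent.Lib.Helper18.UDenseDefs

/-!
helper28, S5801 (3) frames 6x1, dense case (helper2's plan notes/S5801_frames6_dense_helper2.md), glue leaf **A2**:
`ha6`: for `g ∈ L` non-monomial and a column triple `a, b, c`, no non-zero `x : Fin 3 → F` is orthogonal to all the rows
`ρ s := ![g s a, g s b, g s c]` but one  (else a column of `g⁻¹` is supported on `{a, b, c}`, against (D) for `g⁻¹`; `5 ≤ n`).
-/

set_option autoImplicit false

namespace Cfsg.Agent.Lib.Helper28.UDense6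
open Matrix Cfsg.Agent.Lib.Helper11.Mono Cfsg.Agent.Lib.Helper15.MonoLeaf Cfsg.Agent.Lib.Helper18.UDense

variable {F : Type*} [Field F] [Fintype F] {ι : Type} [Fintype ι] [DecidableEq ι]

lemma dot3 (u v w : F) (x : Fin 3 → F) : ![u, v, w] ⬝ᵥ x = u * x 0 + v * x 1 + w * x 2 := by
  simp [dotProduct, Fin.sum_univ_three]

/-- **A2** -/
theorem ha6 (h5 : 5 ≤ Fintype.card ι) (L : Subgroup (GL ι F)) (hD : ColDense L)
    (g : GL ι F) (hg : g ∈ L) (hnm : ¬ IsMono (g : Matrix ι ι F))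
    (a b c : ι) (hab : a ≠ b) (hca : c ≠ a) (hcb : c ≠ b) :
    ∀ x : Fin 3 → F, x ≠ 0 → ∀ i : ι, ∃ s, s ≠ i ∧
      ![(g : Matrix ι ι F) s a, (g : Matrix ι ι F) s b, (g : Matrix ι ι F) s c] ⬝ᵥ x ≠ 0 := by
  classical
  intro x hx i
  by_contra hcon
  push Not at hcon
  obtain ⟨Hi, hHi⟩ : ∃ Hi : Matrix ι ι F, Hi = ((g⁻¹ : GL ι F) : Matrix ι ι F) := ⟨_, rfl⟩
  obtain ⟨Hm, hHm⟩ : ∃ Hm : Matrix ι ι F, Hm = (g : Matrix ι ι F) := ⟨_, rfl⟩
  have hHiHm : Hi * Hm = 1 := by
    rw [hHi, hHm, ← Units.val_mul, inv_mul_cancel, Units.val_one]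
  rw [← hHm] at hcon
  obtain ⟨κ, hκ⟩ : ∃ κ : F, κ = ![Hm i a, Hm i b, Hm i c] ⬝ᵥ x := ⟨_, rfl⟩
  -- the key identity
  have key : ∀ t, Hi t i * κ =
      (1 : Matrix ι ι F) t a * x 0 + (1 : Matrix ι ι F) t b * x 1 + (1 : Matrix ι ι F) t c * x 2 := by
    intro t
    have e1 : ∑ s, Hi t s * (![Hm s a, Hm s b, Hm s c] ⬝ᵥ x) = Hi t i * κ := by
      rw [hκ]
      apply Finset.sum_eq_single i
      · intro s _ hs
        rw [hcon s hs, mul_zero]
      · intro h
        exact absurd (Finset.mem_univ i) h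
    rw [← e1, ← hHiHm, Matrix.mul_apply, Matrix.mul_apply, Matrix.mul_apply, Finset.sum_mul,
      Finset.sum_mul, Finset.sum_mul, ← Finset.sum_add_distrib, ← Finset.sum_add_distrib]
    apply Finset.sum_congr rfl
    intro s _
    rw [dot3]
    ring
  -- `κ ≠ 0`
  have hκ0 : κ ≠ 0 := by
    intro h0
    apply hx
    have ha0 := key a
    have hb0 := key b
    have hc0 := key c
    rw [h0, mul_zero, Matrix.one_apply_eq, Matrix.one_apply_ne hab, Matrix.one_apply_ne hca.symm] at ha0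
    rw [h0, mul_zero, Matrix.one_apply_eq, Matrix.one_apply_ne hab.symm,
      Matrix.one_apply_ne hcb.symm] at hb0
    rw [h0, mul_zero, Matrix.one_apply_eq, Matrix.one_apply_ne hca, Matrix.one_apply_ne hcb] at hc0
    funext j
    fin_cases j
    · simp only [Fin.zero_eta, Pi.zero_apply]
      rw [ha0]; ring
    · simp only [Fin.mk_one, Pi.zero_apply]
      rw [hb0]; ring
    · simp only [Fin.reduceFinMk, Pi.zero_apply]
      rw [hc0]; ring
  -- column `i` of `g⁻¹` vanishes off `{a, b, c}`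
  have hzero : ∀ t, t ≠ a → t ≠ b → t ≠ c → Hi t i = 0 := by
    intro t hta htb htc
    have h1 := key t
    rw [Matrix.one_apply_ne hta, Matrix.one_apply_ne htb, Matrix.one_apply_ne htc] at h1
    have h2 : Hi t i * κ = 0 := by rw [h1]; ring
    exact (mul_eq_zero.1 h2).resolve_right hκ0
  -- two rows off `{a, b, c}`
  have hcompl : 2 ≤ (Finset.univ \ ({a, b, c} : Finset ι)).card := by
    have h1 : (Finset.univ \ ({a, b, c} : Finset ι)).card = Fintype.card ι - ({a, b, c} : Finset ι).card := by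
      rw [Finset.card_sdiff_of_subset (Finset.subset_univ _), Finset.card_univ]
    have h2 : ({a, b, c} : Finset ι).card ≤ 3 := Finset.card_le_three
    omega
  obtain ⟨t, ht, t', ht', htt'⟩ := Finset.one_lt_card.1 hcompl
  simp only [Finset.mem_sdiff, Finset.mem_univ, true_and, Finset.mem_insert, Finset.mem_singleton,
    not_or] at ht ht'
  have hinvnm : ¬ IsMono ((g⁻¹ : GL ι F) : Matrix ι ι F) := by
    intro h
    apply hnm
    have := isMono_inv g⁻¹ h
    rwa [inv_inv] at this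
  apply hD g⁻¹ (L.inv_mem hg) hinvnm i t t' htt'
  · rw [← hHi]; exact hzero t ht.1 ht.2.1 ht.2.2
  · rw [← hHi]; exact hzero t' ht'.1 ht'.2.1 ht'.2.2

end Cfsg.Agent.Lib.Helper28.UDense6
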