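import Mathlib
import Cfsg.Agent.Lib.Helper18.UDenseDefs

/-!
helper28, S5801 (3) frames 6x1, dense case (helper2's plan notes/S5801_frames6_dense_helper2.md), leaf **T** (torus):
* `dg_mem_of_hasTorus`: under `HasTorus Θ L`, every diagonal matrix with entries in `Θ` and product one lies in `L`;
* `exists_split_torus6`: for `card ι = 6`, `4 ≤ |Θ|` and a subset `P` with `2 ≤ |P|`, `2 ≤ |Pᶜ|` there are `ε₁ ≠ ε₂`
  with `diag(ε₁ on P, ε₂ off P) ∈ L`.
-/

set_option autoImplicit false

namespace Cfsg.Agent.Lib.Helper28.UDense6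
open Matrix Cfsg.Agent.Lib.Helper11.Mono Cfsg.Agent.Lib.Helper15.MonoLeaf Cfsg.Agent.Lib.Helper18.UDense

variable {F : Type*} [Field F] [Fintype F] {ι : Type} [Fintype ι] [DecidableEq ι]

theorem dg_mem_of_hasTorus_aux {Θ : Subgroup Fˣ} {L : Subgroup (GL ι F)} (hT : HasTorus Θ L)
    (S : Finset ι) : ∀ d : ι → Fˣ, (∀ i, d i ∈ Θ) → (∀ i, i ∉ S → d i = 1) → ∏ i, d i = 1 →
      dg d ∈ L := by
  classical
  induction S using Finset.induction_on with
  | empty =>
    intro d _ h1 _
    have h2 : d = 1 := funext fun i => h1 i (Finset.notMem_empty i)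
    rw [h2, dg_one]
    exact L.one_mem
  | insert a S' ha ih =>
    intro d hd h1 hp
    by_cases hS' : S' = ∅
    · have hda : d a = 1 := by
        rw [← hp]
        symm
        apply Finset.prod_eq_single a
        · intro b _ hb
          apply h1
          rw [hS']
          simp [hb]
        · intro h
          exact absurd (Finset.mem_univ a) h
      have h2 : d = 1 := by
        funext i
        by_cases hi : i = a
        · rw [hi, hda]
          rfl
        · apply h1
          rw [hS']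
          simp [hi]
      rw [h2, dg_one]
      exact L.one_mem
    · obtain ⟨b, hb⟩ := Finset.nonempty_iff_ne_empty.2 hS'
      have hab : a ≠ b := fun h => ha (h ▸ hb)
      obtain ⟨d', hd'⟩ : ∃ d' : ι → Fˣ, d' = fun i => d i * (tcc a b (d a) i)⁻¹ := ⟨_, rfl⟩
      have e : dg d = dg (tcc a b (d a)) * dg d' := by
        rw [dg_mul]
        congr 1
        funext i
        rw [hd', Pi.mul_apply]
        show d i = tcc a b (d a) i * (d i * (tcc a b (d a) i)⁻¹)
        rw [mul_comm (d i), ← mul_assoc, mul_inv_cancel, one_mul]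
      rw [e]
      apply L.mul_mem (hT a b hab (d a) (hd a))
      apply ih d'
      · intro i
        rw [hd']
        simp only
        apply Θ.mul_mem (hd i)
        apply Θ.inv_mem
        by_cases hia : i = a
        · rw [hia, tcc_same]
          exact hd a
        · by_cases hib : i = b
          · rw [hib, tcc_other hab]
            exact Θ.inv_mem (hd a)
          · rw [tcc_off hia hib]
            exact Θ.one_mem
      · intro i hi
        rw [hd']
        simp only
        by_cases hia : i = a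
        · rw [hia, tcc_same, mul_inv_cancel]
        · have hib : i ≠ b := fun h => hi (h ▸ hb)
          rw [tcc_off hia hib, inv_one, mul_one]
          apply h1
          rw [Finset.mem_insert, not_or]
          exact ⟨hia, hi⟩
      · rw [hd', Finset.prod_mul_distrib, hp, one_mul, Finset.prod_inv_distrib, tcc_prod hab, inv_one]

/-- **T1**: under `HasTorus Θ L`, a diagonal matrix with entries in `Θ` and product one lies in `L` -/
theorem dg_mem_of_hasTorus {Θ : Subgroup Fˣ} {L : Subgroup (GL ι F)} (hT : HasTorus Θ L)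
    (d : ι → Fˣ) (hd : ∀ i, d i ∈ Θ) (hprod : ∏ i, d i = 1) : dg d ∈ L :=
  dg_mem_of_hasTorus_aux hT Finset.univ d hd (fun i hi => absurd (Finset.mem_univ i) hi) hprod

/-- in a subgroup of `Fˣ` with at least four elements some element has `x ^ m ≠ 1` (`m = 2, 3`) -/
theorem exists_pow_ne_one (Θ : Subgroup Fˣ) (hΘ : 4 ≤ Nat.card Θ) (m : ℕ) (hm0 : 0 < m) (hm : m ≤ 3) :
    ∃ x ∈ Θ, x ^ m ≠ 1 := by
  classical
  by_contra hcon
  push Not at hcon
  have hfin : Finite Θ := Nat.finite_of_card_ne_zero (by omega)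
  have : Fintype Θ := Fintype.ofFinite Θ
  -- all elements of `Θ` are roots of `X ^ m - 1`
  have hsub : (Finset.univ.image (fun x : Θ => ((x : Fˣ) : F))) ⊆
      (Polynomial.nthRootsFinset m (1 : F)) := by
    intro y hy
    obtain ⟨x, _, rfl⟩ := Finset.mem_image.1 hy
    rw [Polynomial.mem_nthRootsFinset hm0]
    have := hcon x x.2
    rw [← Units.val_pow_eq_pow_val, this, Units.val_one]
  have hcard : (Finset.univ.image (fun x : Θ => ((x : Fˣ) : F))).card = Fintype.card Θ := by
    rw [Finset.card_image_of_injective, Finset.card_univ]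
    intro x y hxy
    exact Subtype.ext (Units.ext hxy)
  have h1 := Finset.card_le_card hsub
  have h2 : (Polynomial.nthRootsFinset m (1 : F)).card ≤ m := by
    unfold Polynomial.nthRootsFinset
    exact (Multiset.toFinset_card_le _).trans (Polynomial.card_nthRoots m 1)
  rw [hcard, ← Nat.card_eq_fintype_card] at h1
  omega

/-- **T2**: the split torus element for `card ι = 6` -/
theorem exists_split_torus6 (h6 : Fintype.card ι = 6) (Θ : Subgroup Fˣ) (hΘ : 4 ≤ Nat.card Θ)
    (L : Subgroup (GL ι F)) (hT : HasTorus Θ L) (P : Finset ι) (hP : 2 ≤ P.card)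
    (hR : 2 ≤ Pᶜ.card) :
    ∃ ε₁ ε₂ : Fˣ, ε₁ ≠ ε₂ ∧ dg (fun i => if i ∈ P then ε₁ else ε₂) ∈ L := by
  classical
  have hPR : P.card + Pᶜ.card = 6 := by
    rw [Finset.card_add_card_compl, h6]
  have hprodf : ∀ ε₁ ε₂ : Fˣ, ∏ i, (if i ∈ P then ε₁ else ε₂) = ε₁ ^ P.card * ε₂ ^ Pᶜ.card := by
    intro ε₁ ε₂
    rw [Finset.prod_ite, Finset.prod_const, Finset.prod_const]
    congr 2
    · congr 1
      ext i
      simp
    · congr 1
      ext i
      simp
  have key : ∀ ε₁ ε₂ : Fˣ, ε₁ ∈ Θ → ε₂ ∈ Θ → ε₁ ^ P.card * ε₂ ^ Pᶜ.card = 1 →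
      dg (fun i => if i ∈ P then ε₁ else ε₂) ∈ L := by
    intro ε₁ ε₂ h1 h2 h3
    apply dg_mem_of_hasTorus hT
    · intro i
      by_cases hi : i ∈ P
      · rw [if_pos hi]; exact h1
      · rw [if_neg hi]; exact h2
    · rw [hprodf, h3]
  have hcases : P.card = 2 ∨ P.card = 3 ∨ P.card = 4 := by omega
  rcases hcases with hc | hc | hc
  · -- (λ⁻², λ)
    obtain ⟨l, hl, hl3⟩ := exists_pow_ne_one Θ hΘ 3 (by norm_num) le_rfl
    refine ⟨(l ^ 2)⁻¹, l, ?_, ?_⟩
    · intro h
      apply hl3
      have : l ^ 3 = l ^ 2 * l := pow_succ l 2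
      rw [this]
      exact mul_eq_one_iff_inv_eq.2 h
    · apply key _ _ (Θ.inv_mem (Θ.pow_mem hl 2)) hl
      have hc' : Pᶜ.card = 4 := by omega
      rw [hc, hc', inv_pow, ← pow_mul]
      exact inv_mul_cancel _
  · -- (ε, ε⁻¹)
    obtain ⟨e, he, he2⟩ := exists_pow_ne_one Θ hΘ 2 (by norm_num) (by norm_num)
    refine ⟨e, e⁻¹, ?_, ?_⟩
    · intro h
      apply he2
      rw [pow_two]
      exact mul_eq_one_iff_eq_inv.2 h
    · apply key _ _ he (Θ.inv_mem he)
      have hc' : Pᶜ.card = 3 := by omega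
      rw [hc, hc', inv_pow]
      exact mul_inv_cancel _
  · -- (λ, λ⁻²)
    obtain ⟨l, hl, hl3⟩ := exists_pow_ne_one Θ hΘ 3 (by norm_num) le_rfl
    refine ⟨l, (l ^ 2)⁻¹, ?_, ?_⟩
    · intro h
      apply hl3
      have : l ^ 3 = l ^ 2 * l := pow_succ l 2
      rw [this]
      exact mul_eq_one_iff_inv_eq.2 h.symm
    · apply key _ _ hl (Θ.inv_mem (Θ.pow_mem hl 2))
      have hc' : Pᶜ.card = 2 := by omega
      rw [hc, hc', inv_pow, ← pow_mul]
      exact mul_inv_cancel _

end Cfsg.Agent.Lib.Helper28.UDense6
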