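import Mathlib
import Cfsg.Agent.Lib.Helper20.AschDefs
import Cfsg.Agent.Lib.Helper18.AschA89Defs

/-!
S5630 (Aschbacher), block (A89), leaf IRR `irr_units_of_cfam` (helper28), EXACT signature of
`notes/S5630_A89_leaves.lean`.
-/

set_option autoImplicit false
set_option linter.unusedSectionVars false
set_option linter.unusedVariables false

namespace Cfsg.Agent.Lib.Helper28.AschLeaf
open Matrix Cfsg.Geo Cfsg.Agent.Lib.Helper20.Asch Cfsg.Agent.Lib.Helper18.AschA89
open scoped Kronecker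

variable {F : Type*} [Field F] [Fintype F] {n : ℕ} {H N : Subgroup (GL (Fin n) F)}

/-- IRR: a subspace invariant under all the units is invariant under every `Env (Nf i)`, hence under `N = ⨆ Nf i`. -/
theorem irr_units_of_cfam {r s : ℕ} {Nf : Fin r → Subgroup (GL (Fin n) F)} (hfam : CFam H N r Nf)
    (hirrN : Irr N) (E : Fin r → Fin s → Fin s → Matrix (Fin n) (Fin n) F)
    (hspan : ∀ i, ∀ T ∈ Env (Nf i), ∃ A : Matrix (Fin s) (Fin s) F, T = ∑ a, ∑ b, A a b • E i a b) :
    ∀ W : Submodule F (Fin n → F), (∀ i a b, W.map (Matrix.toLin' (E i a b)) ≤ W) → W = ⊥ ∨ W = ⊤ := by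
  intro W hW
  apply hirrN W
  -- invariance under each `Nf i`
  have hNf : ∀ i, ∀ x ∈ Nf i, W.map (Matrix.toLin' (x : Matrix (Fin n) (Fin n) F)) ≤ W := by
    intro i x hx
    have hxE : (x : Matrix (Fin n) (Fin n) F) ∈ Env (Nf i) :=
      Algebra.subset_adjoin ⟨x, hx, rfl⟩
    obtain ⟨A, hA⟩ := hspan i _ hxE
    rintro _ ⟨w, hw, rfl⟩
    rw [hA, map_sum, LinearMap.sum_apply]
    refine Submodule.sum_mem _ fun a _ => ?_
    rw [map_sum, LinearMap.sum_apply]
    refine Submodule.sum_mem _ fun b _ => ?_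
    rw [map_smul, LinearMap.smul_apply]
    exact Submodule.smul_mem _ _ (hW i a b ⟨w, hw, rfl⟩)
  -- invariance under `N = ⨆ Nf i`
  have hN : ∀ x ∈ N, W.map (Matrix.toLin' (x : Matrix (Fin n) (Fin n) F)) ≤ W := by
    intro x hx
    rw [← hfam.sup] at hx
    refine Subgroup.iSup_induction Nf
      (C := fun x => W.map (Matrix.toLin' (x : Matrix (Fin n) (Fin n) F)) ≤ W) hx ?_ ?_ ?_
    · intro i x hx
      exact hNf i x hx
    · rintro _ ⟨w, hw, rfl⟩
      simpa using hw
    · intro x y hx hy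
      rintro _ ⟨w, hw, rfl⟩
      rw [Units.val_mul, Matrix.toLin'_mul, LinearMap.comp_apply]
      exact hx ⟨_, hy ⟨w, hw, rfl⟩, rfl⟩
  rintro _ ⟨x, hx, rfl⟩
  exact hN x hx

end Cfsg.Agent.Lib.Helper28.AschLeaf
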