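import Mathlib
import Cfsg.Agent.Lib.Helper29.SOT4A3

/-!
# S4004 leaf A3 (helper28): element orders in `{1, r, r'}`, an abelian normal `r`-subgroup `V ≠ 1`: the Sylow `r'`-subgroups have
order `r'`

Otherwise a Sylow `r'`-subgroup `R` contains `z ∈ Z(R)`, `z ≠ 1`, and `y ∈ R \ ⟨z⟩`; `z` and all `y w` (`w ∈ ⟨z⟩`) have order `r'`
and act fixed-point-freely on `V` (a fixed `v ≠ 1` would give an element of order `r r'`), so `A3_abs` gives `v ^ r' = 1` on `V`,
hence `V = 1`.
-/

set_option autoImplicit false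
set_option linter.style.haveILetI false

namespace Cfsg.Agent.Lib.Helper28.SOT4

/-- an element of order `r'` fixing (by conjugation) an element `a ≠ 1` with `a ^ r = 1` produces an element of order `r' * r` -/
theorem orderOf_mul_of_fix {G : Type*} [Group G] (r r' : ℕ) (hr : r.Prime) (hr' : r'.Prime) (hne : r ≠ r')
    (g a : G) (hg : orderOf g = r') (ha : a ^ r = 1) (ha1 : a ≠ 1) (hfix : g * a * g⁻¹ = a) :
    orderOf (g * a) = r' * r := by
  haveI : Fact r.Prime := ⟨hr⟩
  have hoa : orderOf a = r := orderOf_eq_prime ha ha1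
  have hc : Commute g a := by
    show g * a = a * g
    calc g * a = g * a * g⁻¹ * g := by group
      _ = a * g := by rw [hfix]
  rw [hc.orderOf_mul_eq_mul_orderOf_of_coprime, hg, hoa]
  rw [hg, hoa]
  exact (Nat.coprime_primes hr' hr).mpr (Ne.symm hne)

/-- **A3**: the Sylow `r'`-subgroups have order `r'` -/
theorem A3_sylow_card {G : Type*} [Group G] [Finite G] (r r' : ℕ) (hr : r.Prime) [Fact r'.Prime] (hne : r ≠ r')
    (hord : ∀ g : G, orderOf g = 1 ∨ orderOf g = r ∨ orderOf g = r')
    (V : Subgroup G) [V.Normal] (hVc : ∀ a ∈ V, ∀ b ∈ V, a * b = b * a) (hVr : ∀ v ∈ V, v ^ r = 1) (hV : V ≠ ⊥)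
    (R : Sylow r' G) (hR : r' ∣ Nat.card G) : Nat.card (R : Subgroup G) = r' := by
  classical
  have hr' : r'.Prime := Fact.out
  have hr2 := hr.two_le
  have hr'2 := hr'.two_le
  by_contra hcard
  have hRcard : Nat.card (R : Subgroup G) = r' ^ (Nat.card G).factorization r' := R.card_eq_multiplicity
  have hk : 1 ≤ (Nat.card G).factorization r' :=
    (Nat.Prime.factorization_pos_of_dvd hr' Nat.card_pos.ne' hR)
  -- a product of an element of order `r'` with a fixed `a ≠ 1` of `V` is impossible
  have hfpf : ∀ g : G, orderOf g = r' → ∀ a : G, a ∈ V → g * a * g⁻¹ = a → a = 1 := by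
    intro g hg a haV hfix
    by_contra ha1
    have ho := orderOf_mul_of_fix r r' hr hr' hne g a hg (hVr a haV) ha1 hfix
    rcases hord (g * a) with h1 | h1 | h1
    · rw [ho] at h1
      nlinarith
    · rw [ho] at h1
      nlinarith
    · rw [ho] at h1
      nlinarith
  -- nontrivial elements of `R` have order `r'`
  have hordR : ∀ g : G, g ∈ (R : Subgroup G) → g ≠ 1 → orderOf g = r' := by
    intro g hgR hg1
    rcases hord g with h1 | h1 | h1
    · exact absurd (orderOf_eq_one_iff.mp h1) hg1
    · exfalso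
      have hd : orderOf (⟨g, hgR⟩ : (R : Subgroup G)) ∣ Nat.card (R : Subgroup G) := orderOf_dvd_natCard _
      rw [Subgroup.orderOf_mk, h1, hRcard] at hd
      exact hne ((Nat.prime_dvd_prime_iff_eq hr hr').mp (hr.dvd_of_dvd_pow hd))
    · exact h1
  -- a central element `z ≠ 1` of `R`
  haveI : Nontrivial (R : Subgroup G) := by
    rw [← Finite.one_lt_card_iff_nontrivial, hRcard]
    exact Nat.one_lt_pow (by omega) hr'.one_lt
  haveI := (R.isPGroup').center_nontrivial
  obtain ⟨z0, hz0⟩ := exists_ne (1 : Subgroup.center (R : Subgroup G))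
  set z : G := ((z0 : (R : Subgroup G)) : G) with hzdef
  have hzR : z ∈ (R : Subgroup G) := (z0 : (R : Subgroup G)).2
  have hz1 : z ≠ 1 := by
    intro h1
    apply hz0
    apply Subtype.ext
    apply Subtype.ext
    exact h1
  have hzo : orderOf z = r' := hordR z hzR hz1
  have hzcomm : ∀ g : G, g ∈ (R : Subgroup G) → Commute g z := by
    intro g hgR
    have := (Subgroup.mem_center_iff.mp z0.2) ⟨g, hgR⟩
    show g * z = z * g
    exact congrArg Subtype.val this
  -- an element `y` of `R` outside `⟨z⟩`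
  have hzle : Subgroup.zpowers z ≤ (R : Subgroup G) := by
    rw [Subgroup.zpowers_le]; exact hzR
  obtain ⟨y, hyR, hyz⟩ : ∃ y, y ∈ (R : Subgroup G) ∧ y ∉ Subgroup.zpowers z := by
    by_contra hno
    push Not at hno
    have : (R : Subgroup G) = Subgroup.zpowers z := le_antisymm hno hzle
    apply hcard
    rw [this, Nat.card_zpowers, hzo]
  have hy1 : y ≠ 1 := fun h1 => hyz (h1 ▸ Subgroup.one_mem _)
  have hyo : orderOf y = r' := hordR y hyR hy1
  have hywo : ∀ w ∈ Subgroup.zpowers z, orderOf (y * w) = r' := by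
    intro w hw
    apply hordR _ (mul_mem hyR (hzle hw))
    intro h1
    apply hyz
    have : y = w⁻¹ := eq_inv_of_mul_eq_one_left h1
    rw [this]
    exact inv_mem hw
  -- apply `A3_abs` to the conjugation action on `V`
  letI : CommGroup ↥V :=
    { (inferInstance : Group ↥V) with mul_comm := fun a b => Subtype.ext (hVc a a.2 b b.2) }
  have key : ∀ a : ↥V, a ^ r' = 1 := by
    apply Cfsg.Agent.Lib.Helper29.SOT4.A3_abs (H := G) (A := ↥V) (MulAut.conjNormal (H := V)) r' hr' y z hyo hzo
      (hzcomm y hyR)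
    · intro a ha
      apply Subtype.ext
      apply hfpf z hzo (a : G) a.2
      have := congrArg Subtype.val ha
      rwa [MulAut.conjNormal_apply] at this
    · intro w hw a ha
      apply Subtype.ext
      apply hfpf (y * w) (hywo w hw) (a : G) a.2
      have := congrArg Subtype.val ha
      rwa [MulAut.conjNormal_apply] at this
  -- so `V = ⊥`
  apply hV
  rw [Subgroup.eq_bot_iff_forall]
  intro v hv
  have h1 : v ^ r' = 1 := by
    have := congrArg Subtype.val (key ⟨v, hv⟩)
    exact this
  have h2 : v ^ r = 1 := hVr v hv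
  have hcop : Nat.Coprime r' r := (Nat.coprime_primes hr' hr).mpr (Ne.symm hne)
  have hd1 : orderOf v ∣ r' := orderOf_dvd_of_pow_eq_one h1
  have hd2 : orderOf v ∣ r := orderOf_dvd_of_pow_eq_one h2
  have : orderOf v = 1 := Nat.eq_one_of_dvd_coprimes hcop hd1 hd2
  exact orderOf_eq_one_iff.mp this

end Cfsg.Agent.Lib.Helper28.SOT4
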