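import Mathlib
import Cfsg.Agent.Lib.Lead.CharBurnside

/-!
# S3996 leaf P (helper28): a finite group whose order has at most two prime divisors is solvable

Burnside's `p^a q^b` theorem (`Cfsg.Agent.CharLib.isSolvable_of_card_pq`) after writing the order as the product of its
prime powers.
-/

set_option autoImplicit false

namespace Cfsg.Agent.Lib.Helper28.SOT

/-- **P** (S-M): at most two prime divisors: solvable (Burnside) -/
theorem P_solvable {G : Type*} [Group G] [Finite G] (h : (Nat.card G).primeFactors.card ≤ 2) :
    Group.IsSolvable G := by
  have hN : Nat.card G ≠ 0 := Nat.card_pos.ne'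
  have key : ∏ p ∈ (Nat.card G).primeFactors, p ^ (Nat.card G).factorization p = Nat.card G := by
    have := Nat.prod_factorization_pow_eq_self hN
    rwa [Finsupp.prod, Nat.support_factorization] at this
  have hcases : (Nat.card G).primeFactors.card = 0 ∨ (Nat.card G).primeFactors.card = 1 ∨
      (Nat.card G).primeFactors.card = 2 := by omega
  rcases hcases with h0 | h1 | h2
  · rw [Finset.card_eq_zero] at h0
    rw [h0, Finset.prod_empty] at key
    exact Cfsg.Agent.CharLib.isSolvable_of_card_pq 2 3 0 0 Nat.prime_two Nat.prime_three (by rw [← key]; norm_num)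
  · obtain ⟨p, hp⟩ := Finset.card_eq_one.mp h1
    have hpp : p.Prime := by
      have : p ∈ (Nat.card G).primeFactors := by rw [hp]; exact Finset.mem_singleton_self p
      exact Nat.prime_of_mem_primeFactors this
    rw [hp, Finset.prod_singleton] at key
    exact Cfsg.Agent.CharLib.isSolvable_of_card_pq p 2 ((Nat.card G).factorization p) 0 hpp Nat.prime_two
      (by rw [pow_zero, mul_one]; exact key.symm)
  · obtain ⟨p, q, hpq, hS⟩ := Finset.card_eq_two.mp h2
    have hpp : p.Prime := by
      have : p ∈ (Nat.card G).primeFactors := by rw [hS]; exact Finset.mem_insert_self p _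
      exact Nat.prime_of_mem_primeFactors this
    have hqp : q.Prime := by
      have : q ∈ (Nat.card G).primeFactors := by
        rw [hS]; exact Finset.mem_insert_of_mem (Finset.mem_singleton_self q)
      exact Nat.prime_of_mem_primeFactors this
    rw [hS, Finset.prod_pair hpq] at key
    exact Cfsg.Agent.CharLib.isSolvable_of_card_pq p q ((Nat.card G).factorization p)
      ((Nat.card G).factorization q) hpp hqp key.symm

end Cfsg.Agent.Lib.Helper28.SOT
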