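import Mathlib
import Cfsg.Agent.Lib.Helper12.NseA

/-!
# S3996 leaf B (helper28): same-order counts with a single value for `d ≥ 3` allow at most one odd prime

Pure arithmetic over helper12's `NseSys`: Frobenius at `p`, at `q` and at `p q`.
-/

set_option autoImplicit false

namespace Cfsg.Agent.Lib.Helper28.SOT
open Cfsg.Agent.Lib.Helper12.Nse

/-- the divisor sum over a product of coprime numbers -/
theorem sum_divisors_mul_coprime28 {a b : ℕ} (hab : a.Coprime b) (f : ℕ → ℕ) :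
    ∑ d ∈ (a * b).divisors, f d = ∑ x ∈ a.divisors, ∑ y ∈ b.divisors, f (x * y) := by
  rw [hab.divisors_mul, Finset.sum_map]
  show ∑ x ∈ (a.divisors ×ˢ b.divisors).attach, f (x.1.1 * x.1.2) = _
  rw [Finset.sum_attach (a.divisors ×ˢ b.divisors) (fun p => f (p.1 * p.2)), Finset.sum_product]

/-- Frobenius at a prime -/
theorem nse_frob_prime {N : ℕ} {s : ℕ → ℕ} (h : NseSys N s) {p : ℕ} (hp : p.Prime) (hpN : p ∣ N) :
    p ∣ 1 + s p := by
  have := h.frob p hpN
  rw [Nat.Prime.sum_divisors hp, h.m_one, add_comm] at this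
  exact this

/-- Frobenius at a product of two distinct primes -/
theorem nse_frob_pq {N : ℕ} {s : ℕ → ℕ} (h : NseSys N s) {p q : ℕ} (hp : p.Prime) (hq : q.Prime)
    (hpq : p ≠ q) (hpN : p ∣ N) (hqN : q ∣ N) :
    p * q ∣ 1 + s p + s q + s (p * q) := by
  have hcop : p.Coprime q := (Nat.coprime_primes hp hq).mpr hpq
  have := h.frob (p * q) (hcop.mul_dvd_of_dvd_of_dvd hpN hqN)
  rw [sum_divisors_mul_coprime28 hcop, Nat.Prime.sum_divisors hp] at this
  simp only [Nat.Prime.sum_divisors hq, one_mul, mul_one, h.m_one] at this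
  have e : s (p * q) + s p + (s q + 1) = 1 + s p + s q + s (p * q) := by ring
  rwa [e] at this

/-- **B** (S, arithmetic): one value for all `d ≥ 3`: at most one odd prime -/
theorem B_one_value {N : ℕ} {s : ℕ → ℕ} (h : NseSys N s) (n : ℕ)
    (hV : ∀ d, 3 ≤ d → s d = 0 ∨ s d = n)
    (p q : ℕ) (hp : p.Prime) (hq : q.Prime) (hp2 : p ≠ 2) (hq2 : q ≠ 2) (hpq : p ≠ q)
    (hpN : p ∣ N) (hqN : q ∣ N) : False := by
  have hp3 : 3 ≤ p := by
    have := hp.two_le
    omega
  have hq3 : 3 ≤ q := by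
    have := hq.two_le
    omega
  have hsp : s p = n := by
    rcases hV p hp3 with h0 | h0
    · exact absurd h0 (h.cauchy p hp hpN)
    · exact h0
  have hsq : s q = n := by
    rcases hV q hq3 with h0 | h0
    · exact absurd h0 (h.cauchy q hq hqN)
    · exact h0
  have h1 : p ∣ 1 + n := hsp ▸ nse_frob_prime h hp hpN
  have h2 : p ∣ 1 + s p + s q + s (p * q) :=
    Dvd.dvd.trans (Dvd.intro _ rfl) (nse_frob_pq h hp hq hpq hpN hqN)
  rw [hsp, hsq] at h2
  have hpq3 : 3 ≤ p * q := by nlinarith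
  rcases hV (p * q) hpq3 with h0 | h0
  · rw [h0] at h2
    -- p ∣ 1 + n + n, p ∣ 1 + n ⇒ p ∣ n ⇒ p ∣ 1
    have h3 : p ∣ n := by
      have : 1 + n + n + 0 = (1 + n) + n := by ring
      rw [this] at h2
      exact (Nat.dvd_add_right h1).mp h2
    have h4 : p ∣ 1 := (Nat.dvd_add_left h3).mp h1
    exact hp.one_lt.ne' (Nat.dvd_one.mp h4)
  · rw [h0] at h2
    -- p ∣ 1 + 3 n and p ∣ 3 (1 + n) = (1 + 3 n) + 2 ⇒ p ∣ 2
    have h3 : p ∣ (1 + n + n + n) + 2 := by
      have : (1 + n + n + n) + 2 = 3 * (1 + n) := by ring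
      rw [this]
      exact Dvd.dvd.mul_left h1 3
    have h4 : p ∣ 2 := (Nat.dvd_add_right h2).mp h3
    exact hp2 ((Nat.prime_dvd_prime_iff_eq hp Nat.prime_two).mp h4)

end Cfsg.Agent.Lib.Helper28.SOT
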