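import Mathlib

/-!
# S4004 leaf L1 (helper28): if every element of order `p` commutes with some element of order `q` (`q ≥ 3`), then
`2 * #{order p} ≤ #{order p q}`

Injection `(x, i) ↦ x * (y_x)^(i+1)`; `x` is recovered as a power (Chinese remainder exponent), then `y ≠ y^2`.
-/

set_option autoImplicit false

namespace Cfsg.Agent.Lib.Helper28.SOT4

/-- recover the `p`-part of a product of commuting elements of coprime orders as a fixed power -/
theorem pow_crt_eq {G : Type*} [Group G] (p q e : ℕ) (hp1 : 1 < p) (he1 : e ≡ 1 [MOD p]) (he0 : e ≡ 0 [MOD q])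
    (x z : G) (hx : orderOf x = p) (hz : z ^ q = 1) (hc : Commute x z) : (x * z) ^ e = x := by
  rw [hc.mul_pow]
  have h1 : x ^ e = x := by
    rw [← pow_mod_orderOf, hx, he1, Nat.mod_eq_of_lt hp1, pow_one]
  have h2 : z ^ e = 1 := by
    obtain ⟨k, hk⟩ := (Nat.modEq_zero_iff_dvd.mp he0)
    rw [hk, pow_mul, hz, one_pow]
  rw [h1, h2, mul_one]

/-- **L1**: injection `(x, i) ↦ x * (y_x)^i`, `i = 1, 2`, from `{o = p} × Fin 2` into `{o = p q}` -/
theorem L1_two_mul_le {G : Type*} [Group G] [Finite G] (p q : ℕ) (hp : p.Prime) (hq : q.Prime) (hpq : p ≠ q) (hq3 : 3 ≤ q)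
    (h : ∀ x : G, orderOf x = p → ∃ y : G, orderOf y = q ∧ Commute x y) :
    2 * Nat.card {g : G // orderOf g = p} ≤ Nat.card {g : G // orderOf g = p * q} := by
  classical
  choose! Y hY using h
  have hcop : p.Coprime q := (Nat.coprime_primes hp hq).mpr hpq
  obtain ⟨e, he1, he0⟩ := Nat.chineseRemainder hcop 1 0
  -- the powers `y`, `y^2` of an element of order `q`
  have hordpow : ∀ (y : G) (i : Fin 2), orderOf y = q → orderOf (y ^ ((i : ℕ) + 1)) = q := by
    intro y i hy
    have hc : Nat.Coprime (orderOf y) ((i : ℕ) + 1) := by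
      rw [hy]
      apply (Nat.Prime.coprime_iff_not_dvd hq).mpr
      intro hd
      have := Nat.le_of_dvd (Nat.succ_pos _) hd
      have := i.2
      omega
    rw [Nat.Coprime.orderOf_pow hc, hy]
  let f : {g : G // orderOf g = p} × Fin 2 → {g : G // orderOf g = p * q} := fun xi =>
    ⟨xi.1.1 * (Y xi.1.1) ^ ((xi.2 : ℕ) + 1), by
      have hy := hY xi.1.1 xi.1.2
      have hcm : Commute xi.1.1 ((Y xi.1.1) ^ ((xi.2 : ℕ) + 1)) := hy.2.pow_right _
      rw [hcm.orderOf_mul_eq_mul_orderOf_of_coprime, xi.1.2, hordpow _ _ hy.1]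
      rw [xi.1.2, hordpow _ _ hy.1]
      exact hcop⟩
  have hf : Function.Injective f := by
    rintro ⟨⟨x, hx⟩, i⟩ ⟨⟨x', hx'⟩, i'⟩ hff
    have hval : x * (Y x) ^ ((i : ℕ) + 1) = x' * (Y x') ^ ((i' : ℕ) + 1) := congrArg Subtype.val hff
    have hy := hY x hx
    have hy' := hY x' hx'
    have hzq : ∀ (y : G) (k : ℕ), orderOf y = q → (y ^ k) ^ q = 1 := by
      intro y k hyq
      rw [← pow_mul, mul_comm, pow_mul, ← hyq, pow_orderOf_eq_one, one_pow]
    have e1 := pow_crt_eq p q e hp.one_lt he1 he0 x ((Y x) ^ ((i : ℕ) + 1)) hx (hzq _ _ hy.1) (hy.2.pow_right _)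
    have e2 := pow_crt_eq p q e hp.one_lt he1 he0 x' ((Y x') ^ ((i' : ℕ) + 1)) hx' (hzq _ _ hy'.1)
      (hy'.2.pow_right _)
    have hxx : x = x' := by rw [← e1, ← e2, hval]
    subst hxx
    have hpw : (Y x) ^ ((i : ℕ) + 1) = (Y x) ^ ((i' : ℕ) + 1) := mul_left_cancel hval
    have hii : i = i' := by
      by_contra hne
      -- then `y = y^2`, so `y = 1`
      have hy1 : Y x = 1 := by
        have hi := i.2
        have hi' := i'.2
        have hne' : (i : ℕ) ≠ (i' : ℕ) := fun h0 => hne (Fin.ext h0)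
        rcases Nat.lt_or_gt_of_ne hne' with hlt | hlt
        · have a0 : (i : ℕ) = 0 := by omega
          have a1 : (i' : ℕ) = 1 := by omega
          rw [a0, a1, zero_add, pow_one, pow_two] at hpw
          exact (mul_eq_left.mp hpw.symm)
        · have a0 : (i' : ℕ) = 0 := by omega
          have a1 : (i : ℕ) = 1 := by omega
          rw [a0, a1, zero_add, pow_one, pow_two] at hpw
          exact (mul_eq_left.mp hpw)
      have := hy.1
      rw [hy1, orderOf_one] at this
      omega
    rw [hii]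
  have hle := Nat.card_le_card_of_injective f hf
  rwa [Nat.card_prod, Nat.card_eq_fintype_card (α := Fin 2), Fintype.card_fin, mul_comm] at hle

end Cfsg.Agent.Lib.Helper28.SOT4
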