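import Mathlib
import Cfsg.Agent.Lib.Helper18.UNdDefs
import Cfsg.Agent.Lib.Helper18.UDenseMain
import Cfsg.Agent.Lib.Helper14.Unitary2

/-!
S5655 (SU_n C2), k = 1, q ≥ 3, NON-DENSE chain (helper18's market): leaf UT `tv_of_rank_one`.
-/

set_option autoImplicit false

namespace Cfsg.Agent.Lib.Helper28.UNdLeaf
open Cfsg Matrix Cfsg.Agent.Lib.Helper11.Mono Cfsg.Agent.Lib.Helper15.MonoLeaf
  Cfsg.Agent.Lib.Helper2.MonoLeaf Cfsg.Agent.Lib.Helper5.SUMax Cfsg.Agent.Lib.Helper5.HermBridge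
  Cfsg.Agent.Lib.Helper5.UForm Cfsg.Agent.Lib.Helper18.UNd

variable {F : Type*} [Field F] [Fintype F] {n q : ℕ}

/-- UT: a unitary matrix of the shape `x ↦ x + φ(x) z` fixing `z` and different from `1` is a unitary transvection:
`z` is isotropic and `φ(x) = c f(x,z)` with `c ≠ 0` skew.  (Expand `f(tx,ty) = f(x,y)`; `y = z` gives `f(z,z) = 0`;
`y = y₀` with `f(z,y₀) ≠ 0` gives `φ(x) = c f(x,z)`, `c = -φ(y₀)^q / f(z,y₀)`; `x = y₀` gives `c^q = -c`.) -/
theorem tv_of_rank_one (hF : Fintype.card F = q ^ 2) (t : GL (Fin n) F) (ht : t ∈ Cfsg.GU n F q)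
    (z : Fin n → F) (φ : (Fin n → F) → F)
    (htx : ∀ x : Fin n → F, (t : Matrix (Fin n) (Fin n) F) *ᵥ x = x + φ x • z)
    (htz : (t : Matrix (Fin n) (Fin n) F) *ᵥ z = z) (ht1 : t ≠ 1) :
    Cfsg.hermForm n F q z z = 0 ∧ ∃ c : F, c ≠ 0 ∧ frobQ hF c = -c ∧
      ∀ x : Fin n → F, (t : Matrix (Fin n) (Fin n) F) *ᵥ x = x + (c * Cfsg.hermForm n F q x z) • z := by
  classical
  have hq := Cfsg.Agent.Lib.Helper14.herm_two_le hF
  have hq0 : q ≠ 0 := by omega
  -- the expanded isometry condition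
  have hexp : ∀ x y : Fin n → F, φ y ^ q * Cfsg.hermForm n F q x z + φ x * Cfsg.hermForm n F q z y
      + φ x * φ y ^ q * Cfsg.hermForm n F q z z = 0 := by
    intro x y
    have h1 := (Cfsg.Agent.Lib.Helper14.mem_GU_iff t).1 ht x y
    rw [htx x, htx y, Cfsg.Agent.Lib.Helper14.hermForm_add_left,
      Cfsg.Agent.Lib.Helper14.hermForm_smul_left,
      Cfsg.Agent.Lib.Helper14.hermForm_add_right hF, Cfsg.Agent.Lib.Helper14.hermForm_add_right hF,
      Cfsg.Agent.Lib.Helper14.hermForm_smul_right, Cfsg.Agent.Lib.Helper14.hermForm_smul_right] at h1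
    linear_combination h1
  -- `t = 1` as soon as `φ` vanishes or `z = 0`
  have hone : (∀ x : Fin n → F, φ x • z = 0) → False := by
    intro h0
    apply ht1
    apply Units.ext
    rw [Units.val_one]
    apply Matrix.mulVec_injective
    funext x
    rw [htx x, h0 x, add_zero, Matrix.one_mulVec]
  have hz0 : z ≠ 0 := by
    intro hz
    exact hone (fun x => by rw [hz, smul_zero])
  obtain ⟨x₀, hx₀⟩ : ∃ x₀ : Fin n → F, φ x₀ ≠ 0 := by
    by_contra hcon
    push Not at hcon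
    exact hone (fun x => by rw [hcon x, zero_smul])
  have hφz : φ z = 0 := by
    have h1 := htx z
    rw [htz] at h1
    have h2 : φ z • z = 0 := by
      have h3 : z + φ z • z = z + 0 := by rw [add_zero]; exact h1.symm
      exact add_left_cancel h3
    rcases smul_eq_zero.1 h2 with h3 | h3
    · exact h3
    · exact absurd h3 hz0
  have hzz : Cfsg.hermForm n F q z z = 0 := by
    have h1 := hexp x₀ z
    rw [hφz, zero_pow hq0] at h1
    have h2 : φ x₀ * Cfsg.hermForm n F q z z = 0 := by linear_combination h1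
    rcases mul_eq_zero.1 h2 with h3 | h3
    · exact absurd h3 hx₀
    · exact h3
  refine ⟨hzz, ?_⟩
  obtain ⟨i, hi⟩ := Function.ne_iff.mp hz0
  obtain ⟨y₀, hy₀⟩ : ∃ y₀ : Fin n → F, y₀ = Pi.single i (1 : F) := ⟨_, rfl⟩
  obtain ⟨d, hd⟩ : ∃ d : F, d = Cfsg.hermForm n F q z y₀ := ⟨_, rfl⟩
  have hd0 : d ≠ 0 := by
    rw [hd, hy₀, herm_single_right hq0]
    exact hi
  obtain ⟨c, hc⟩ : ∃ c : F, c = -(φ y₀) ^ q / d := ⟨_, rfl⟩
  have hcd : c * d = -(φ y₀) ^ q := by
    rw [hc, div_mul_cancel₀ _ hd0]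
  have hφ : ∀ x : Fin n → F, φ x = c * Cfsg.hermForm n F q x z := by
    intro x
    have h1 := hexp x y₀
    rw [hzz, ← hd] at h1
    apply mul_right_cancel₀ hd0
    linear_combination h1 - Cfsg.hermForm n F q x z * hcd
  have hc0 : c ≠ 0 := by
    intro h
    apply hx₀
    rw [hφ x₀, h, zero_mul]
  have hcq : c ^ q = -c := by
    have h1 := hφ y₀
    have h2 : Cfsg.hermForm n F q y₀ z = d ^ q := by
      rw [hd, Cfsg.Agent.Lib.Helper14.hermForm_conj hF]
    rw [h2] at h1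
    have h3 : (d ^ q) ^ q = d := by
      rw [← pow_mul, ← sq, Cfsg.Agent.Lib.Helper14.herm_pow_card hF]
    have h4 : (c + c ^ q) * d = 0 := by
      have h5 : (φ y₀) ^ q = c ^ q * d := by rw [h1, mul_pow, h3]
      linear_combination hcd - h5
    rcases mul_eq_zero.1 h4 with h5 | h5
    · linear_combination h5
    · exact absurd h5 hd0
  refine ⟨c, hc0, ?_, ?_⟩
  · rw [frobQ_apply]
    exact hcq
  · intro x
    rw [htx x, hφ x]

end Cfsg.Agent.Lib.Helper28.UNdLeaf
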