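import Cfsg.Agent.Lib.Helper28.TC2Upper
import Cfsg.Agent.Lib.Helper28.TCFi24DataC0
import Cfsg.Agent.Lib.Helper28.TCFi24DataC1
import Cfsg.Agent.Lib.Helper28.TCFi24DataC2
import Cfsg.Agent.Lib.Helper28.TCFi24DataC3
import Cfsg.Agent.Lib.Helper28.TCFi24DataC4
import Cfsg.Agent.Lib.Helper28.TCFi24DataC5
import Cfsg.Agent.Lib.Helper28.TCFi24DataC6
import Cfsg.Agent.Lib.Helper28.TCFi24DataC7
import Cfsg.Agent.Lib.Helper28.TCFi24DataC8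
import Cfsg.Agent.Lib.Helper28.TCFi24DataC9
import Cfsg.Agent.Lib.Helper28.TCFi24DataC10
import Cfsg.Agent.Lib.Helper28.TCFi24DataC11
import Cfsg.Agent.Lib.Helper28.TCFi24DataC12
import Cfsg.Agent.Lib.Helper28.TCFi24DataC13
import Cfsg.Agent.Lib.Helper28.TCFi24DataC14
import Cfsg.Agent.Lib.Helper28.TCFi24DataC15
import Cfsg.Agent.Lib.Helper28.TCFi24DataC16
import Cfsg.Agent.Lib.Helper28.TCFi24DataC17
import Cfsg.Agent.Lib.Helper28.TCFi24DataC18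
import Cfsg.Agent.Lib.Helper28.TCFi24DataC19
import Cfsg.Agent.Lib.Helper28.TCFi24DataC20
import Cfsg.Agent.Lib.Helper28.TCFi24DataC21
set_option autoImplicit false
set_option maxRecDepth 100000

namespace Cfsg.Agent.Lib.Helper28.TCFi24Data
open Cfsg.Agent.Lib.Helper28.TC2Upper

/-- relators -/
def relT : BT (ℕ × List ℕ × List ℕ) := (BT.node 72 (BT.node 36 (BT.node 18 (BT.node 9 (BT.node 4 (BT.node 2 (BT.node 1 (BT.node 0 (BT.leaf (2, [0, 0], [0, 0])) (BT.leaf (6, [1, 0, 1, 0, 1, 0], [0, 1, 0, 1, 0, 1]))) (BT.leaf (4, [2, 0, 2, 0], [0, 2, 0, 2]))) (BT.node 3 (BT.leaf (4, [3, 0, 3, 0], [0, 3, 0, 3])) (BT.leaf (4, [4, 0, 4, 0], [0, 4, 0, 4])))) (BT.node 7 (BT.node 6 (BT.node 5 (BT.leaf (4, [5, 0, 5, 0], [0, 5, 0, 5])) (BT.leaf (4, [6, 0, 6, 0], [0, 6, 0, 6]))) (BT.leaf (4, [7, 0, 7, 0], [0, 7, 0, 7]))) (BT.node 8 (BT.leaf (4, [8, 0, 8, 0], [0, 8, 0, 8]))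 (BT.leaf (4, [10, 0, 10, 0], [0, 10, 0, 10]))))) (BT.node 14 (BT.node 12 (BT.node 11 (BT.node 10 (BT.leaf (4, [9, 0, 9, 0], [0, 9, 0, 9])) (BT.leaf (4, [11, 0, 11, 0], [0, 11, 0, 11]))) (BT.leaf (6, [0, 1, 0, 1, 0, 1], [1, 0, 1, 0, 1, 0]))) (BT.node 13 (BT.leaf (2, [1, 1], [1, 1])) (BT.leaf (6, [2, 1, 2, 1, 2, 1], [1, 2, 1, 2, 1, 2])))) (BT.node 16 (BT.node 15 (BT.leaf (4, [3, 1, 3, 1], [1, 3, 1, 3])) (BT.leaf (4, [4, 1, 4, 1], [1, 4, 1, 4]))) (BT.node 17 (BT.leaf (4, [5, 1, 5, 1], [1, 5, 1, 5])) (BT.leaf (4, [6, 1, 6, 1], [1, 6, 1, 6])))))) (BT.node 27 (BT.node 23 (BT.node 21 (BT.node 20 (BT.node 19 (BT.leaf (4, [7, 1, 7, 1], [1, 7, 1, 7])) (BT.leaf (4, [8, 1, 8, 1], [1, 8, 1, 8]))) (BT.leaf (4, [10, 1, 10, 1], [1, 10, 1, 10]))) (BT.node 22 (BT.leaf (4, [9, 1, 9, 1], [1, 9, 1, 9])) (BT.leaf (4, [11, 1, 11, 1], [1, 11, 1, 11])))) (BT.node 25 (BT.node 24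 (BT.leaf (4, [0, 2, 0, 2], [2, 0, 2, 0])) (BT.leaf (6, [1, 2, 1, 2, 1, 2], [2, 1, 2, 1, 2, 1]))) (BT.node 26 (BT.leaf (2, [2, 2], [2, 2])) (BT.leaf (6, [3, 2, 3, 2, 3, 2], [2, 3, 2, 3, 2, 3]))))) (BT.node 32 (BT.node 30 (BT.node 29 (BT.node 28 (BT.leaf (4, [4, 2, 4, 2], [2, 4, 2, 4])) (BT.leaf (4, [5, 2, 5, 2], [2, 5, 2, 5]))) (BT.leaf (4, [6, 2, 6, 2], [2, 6, 2, 6]))) (BT.node 31 (BT.leaf (4, [7, 2, 7, 2], [2, 7, 2, 7])) (BT.leaf (4, [8, 2, 8, 2], [2, 8, 2, 8])))) (BT.node 34 (BT.node 33 (BT.leaf (4, [10, 2, 10, 2], [2, 10, 2, 10])) (BT.leaf (4, [9, 2, 9, 2], [2, 9, 2, 9]))) (BT.node 35 (BT.leaf (4, [11, 2, 11, 2], [2, 11, 2, 11])) (BT.leaf (4, [0, 3, 0, 3], [3, 0, 3, 0]))))))) (BT.node 54 (BT.node 45 (BT.node 41 (BT.node 39 (BT.node 38 (BT.node 37 (BT.leaf (4, [1, 3, 1, 3], [3, 1, 3, 1])) (BT.leaf (6, [2, 3, 2, 3, 2, 3], [3, 2, 3, 2, 3, 2]))) (BT.leaf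 (2, [3, 3], [3, 3]))) (BT.node 40 (BT.leaf (6, [4, 3, 4, 3, 4, 3], [3, 4, 3, 4, 3, 4])) (BT.leaf (4, [5, 3, 5, 3], [3, 5, 3, 5])))) (BT.node 43 (BT.node 42 (BT.leaf (4, [6, 3, 6, 3], [3, 6, 3, 6])) (BT.leaf (4, [7, 3, 7, 3], [3, 7, 3, 7]))) (BT.node 44 (BT.leaf (4, [8, 3, 8, 3], [3, 8, 3, 8])) (BT.leaf (4, [10, 3, 10, 3], [3, 10, 3, 10]))))) (BT.node 50 (BT.node 48 (BT.node 47 (BT.node 46 (BT.leaf (4, [9, 3, 9, 3], [3, 9, 3, 9])) (BT.leaf (4, [11, 3, 11, 3], [3, 11, 3, 11]))) (BT.leaf (4, [0, 4, 0, 4], [4, 0, 4, 0]))) (BT.node 49 (BT.leaf (4, [1, 4, 1, 4], [4, 1, 4, 1])) (BT.leaf (4, [2, 4, 2, 4], [4, 2, 4, 2])))) (BT.node 52 (BT.node 51 (BT.leaf (6, [3, 4, 3, 4, 3, 4], [4, 3, 4, 3, 4, 3])) (BT.leaf (2, [4, 4], [4, 4]))) (BT.node 53 (BT.leaf (6, [5, 4, 5, 4, 5, 4], [4, 5, 4, 5, 4, 5])) (BT.leaf (4, [6, 4, 6, 4], [4, 6, 4, 6])))))) (BT.node 63 (BT.node 59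 (BT.node 57 (BT.node 56 (BT.node 55 (BT.leaf (4, [7, 4, 7, 4], [4, 7, 4, 7])) (BT.leaf (4, [8, 4, 8, 4], [4, 8, 4, 8]))) (BT.leaf (4, [10, 4, 10, 4], [4, 10, 4, 10]))) (BT.node 58 (BT.leaf (4, [9, 4, 9, 4], [4, 9, 4, 9])) (BT.leaf (4, [11, 4, 11, 4], [4, 11, 4, 11])))) (BT.node 61 (BT.node 60 (BT.leaf (4, [0, 5, 0, 5], [5, 0, 5, 0])) (BT.leaf (4, [1, 5, 1, 5], [5, 1, 5, 1]))) (BT.node 62 (BT.leaf (4, [2, 5, 2, 5], [5, 2, 5, 2])) (BT.leaf (4, [3, 5, 3, 5], [5, 3, 5, 3]))))) (BT.node 68 (BT.node 66 (BT.node 65 (BT.node 64 (BT.leaf (6, [4, 5, 4, 5, 4, 5], [5, 4, 5, 4, 5, 4])) (BT.leaf (2, [5, 5], [5, 5]))) (BT.leaf (6, [6, 5, 6, 5, 6, 5], [5, 6, 5, 6, 5, 6]))) (BT.node 67 (BT.leaf (4, [7, 5, 7, 5], [5, 7, 5, 7])) (BT.leaf (4, [8, 5, 8, 5], [5, 8, 5, 8])))) (BT.node 70 (BT.node 69 (BT.leaf (6, [10, 5, 10, 5, 10, 5], [5, 10, 5, 10, 5, 10])) (BT.leaf (4, [9,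 5, 9, 5], [5, 9, 5, 9]))) (BT.node 71 (BT.leaf (4, [11, 5, 11, 5], [5, 11, 5, 11])) (BT.leaf (4, [0, 6, 0, 6], [6, 0, 6, 0])))))))) (BT.node 109 (BT.node 91 (BT.node 82 (BT.node 77 (BT.node 75 (BT.node 74 (BT.node 73 (BT.leaf (4, [1, 6, 1, 6], [6, 1, 6, 1])) (BT.leaf (4, [2, 6, 2, 6], [6, 2, 6, 2]))) (BT.leaf (4, [3, 6, 3, 6], [6, 3, 6, 3]))) (BT.node 76 (BT.leaf (4, [4, 6, 4, 6], [6, 4, 6, 4])) (BT.leaf (6, [5, 6, 5, 6, 5, 6], [6, 5, 6, 5, 6, 5])))) (BT.node 80 (BT.node 79 (BT.node 78 (BT.leaf (2, [6, 6], [6, 6])) (BT.leaf (6, [7, 6, 7, 6, 7, 6], [6, 7, 6, 7, 6, 7]))) (BT.leaf (4, [8, 6, 8, 6], [6, 8, 6, 8]))) (BT.node 81 (BT.leaf (4, [10, 6, 10, 6], [6, 10, 6, 10])) (BT.leaf (4, [9, 6, 9, 6], [6, 9, 6, 9]))))) (BT.node 87 (BT.node 85 (BT.node 84 (BT.node 83 (BT.leaf (4, [11, 6, 11, 6], [6, 11, 6, 11])) (BT.leaf (4, [0, 7, 0, 7], [7, 0, 7, 0]))) (BT.leaf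 (4, [1, 7, 1, 7], [7, 1, 7, 1]))) (BT.node 86 (BT.leaf (4, [2, 7, 2, 7], [7, 2, 7, 2])) (BT.leaf (4, [3, 7, 3, 7], [7, 3, 7, 3])))) (BT.node 89 (BT.node 88 (BT.leaf (4, [4, 7, 4, 7], [7, 4, 7, 4])) (BT.leaf (4, [5, 7, 5, 7], [7, 5, 7, 5]))) (BT.node 90 (BT.leaf (6, [6, 7, 6, 7, 6, 7], [7, 6, 7, 6, 7, 6])) (BT.leaf (2, [7, 7], [7, 7])))))) (BT.node 100 (BT.node 96 (BT.node 94 (BT.node 93 (BT.node 92 (BT.leaf (6, [8, 7, 8, 7, 8, 7], [7, 8, 7, 8, 7, 8])) (BT.leaf (4, [10, 7, 10, 7], [7, 10, 7, 10]))) (BT.leaf (4, [9, 7, 9, 7], [7, 9, 7, 9]))) (BT.node 95 (BT.leaf (4, [11, 7, 11, 7], [7, 11, 7, 11])) (BT.leaf (4, [0, 8, 0, 8], [8, 0, 8, 0])))) (BT.node 98 (BT.node 97 (BT.leaf (4, [1, 8, 1, 8], [8, 1, 8, 1])) (BT.leaf (4, [2, 8, 2, 8], [8, 2, 8, 2]))) (BT.node 99 (BT.leaf (4, [3, 8, 3, 8], [8, 3, 8, 3])) (BT.leaf (4, [4, 8, 4, 8], [8, 4, 8, 4]))))) (BT.node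 105 (BT.node 103 (BT.node 102 (BT.node 101 (BT.leaf (4, [5, 8, 5, 8], [8, 5, 8, 5])) (BT.leaf (4, [6, 8, 6, 8], [8, 6, 8, 6]))) (BT.leaf (6, [7, 8, 7, 8, 7, 8], [8, 7, 8, 7, 8, 7]))) (BT.node 104 (BT.leaf (2, [8, 8], [8, 8])) (BT.leaf (4, [10, 8, 10, 8], [8, 10, 8, 10])))) (BT.node 107 (BT.node 106 (BT.leaf (6, [9, 8, 9, 8, 9, 8], [8, 9, 8, 9, 8, 9])) (BT.leaf (4, [11, 8, 11, 8], [8, 11, 8, 11]))) (BT.node 108 (BT.leaf (4, [0, 10, 0, 10], [10, 0, 10, 0])) (BT.leaf (4, [1, 10, 1, 10], [10, 1, 10, 1]))))))) (BT.node 127 (BT.node 118 (BT.node 114 (BT.node 112 (BT.node 111 (BT.node 110 (BT.leaf (4, [2, 10, 2, 10], [10, 2, 10, 2])) (BT.leaf (4, [3, 10, 3, 10], [10, 3, 10, 3]))) (BT.leaf (4, [4, 10, 4, 10], [10, 4, 10, 4]))) (BT.node 113 (BT.leaf (6, [5, 10, 5, 10, 5, 10], [10, 5, 10, 5, 10, 5])) (BT.leaf (4, [6, 10, 6, 10], [10, 6, 10, 6])))) (BT.node 116 (BT.node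 115 (BT.leaf (4, [7, 10, 7, 10], [10, 7, 10, 7])) (BT.leaf (4, [8, 10, 8, 10], [10, 8, 10, 8]))) (BT.node 117 (BT.leaf (2, [10, 10], [10, 10])) (BT.leaf (4, [9, 10, 9, 10], [10, 9, 10, 9]))))) (BT.node 123 (BT.node 121 (BT.node 120 (BT.node 119 (BT.leaf (6, [11, 10, 11, 10, 11, 10], [10, 11, 10, 11, 10, 11])) (BT.leaf (4, [0, 9, 0, 9], [9, 0, 9, 0]))) (BT.leaf (4, [1, 9, 1, 9], [9, 1, 9, 1]))) (BT.node 122 (BT.leaf (4, [2, 9, 2, 9], [9, 2, 9, 2])) (BT.leaf (4, [3, 9, 3, 9], [9, 3, 9, 3])))) (BT.node 125 (BT.node 124 (BT.leaf (4, [4, 9, 4, 9], [9, 4, 9, 4])) (BT.leaf (4, [5, 9, 5, 9], [9, 5, 9, 5]))) (BT.node 126 (BT.leaf (4, [6, 9, 6, 9], [9, 6, 9, 6])) (BT.leaf (4, [7, 9, 7, 9], [9, 7, 9, 7])))))) (BT.node 136 (BT.node 132 (BT.node 130 (BT.node 129 (BT.node 128 (BT.leaf (6, [8, 9, 8, 9, 8, 9], [9, 8, 9, 8, 9, 8])) (BT.leaf (4, [10, 9, 10, 9], [9, 10, 9,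 10]))) (BT.leaf (2, [9, 9], [9, 9]))) (BT.node 131 (BT.leaf (4, [11, 9, 11, 9], [9, 11, 9, 11])) (BT.leaf (4, [0, 11, 0, 11], [11, 0, 11, 0])))) (BT.node 134 (BT.node 133 (BT.leaf (4, [1, 11, 1, 11], [11, 1, 11, 1])) (BT.leaf (4, [2, 11, 2, 11], [11, 2, 11, 2]))) (BT.node 135 (BT.leaf (4, [3, 11, 3, 11], [11, 3, 11, 3])) (BT.leaf (4, [4, 11, 4, 11], [11, 4, 11, 4]))))) (BT.node 141 (BT.node 139 (BT.node 138 (BT.node 137 (BT.leaf (4, [5, 11, 5, 11], [11, 5, 11, 5])) (BT.leaf (4, [6, 11, 6, 11], [11, 6, 11, 6]))) (BT.leaf (4, [7, 11, 7, 11], [11, 7, 11, 7]))) (BT.node 140 (BT.leaf (4, [8, 11, 8, 11], [11, 8, 11, 8])) (BT.leaf (6, [10, 11, 10, 11, 10, 11], [11, 10, 11, 10, 11, 10])))) (BT.node 143 (BT.node 142 (BT.leaf (4, [9, 11, 9, 11], [11, 9, 11, 9])) (BT.leaf (2, [11, 11], [11, 11]))) (BT.node 144 (BT.leaf (64, [2, 3, 4, 5, 6, 7, 10, 2, 3, 4, 5, 6, 7,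 10, 2, 3, 4, 5, 6, 7, 10, 2, 3, 4, 5, 6, 7, 10, 2, 3, 4, 5, 6, 7, 10, 2, 3, 4, 5, 6, 7, 10, 2, 3, 4, 5, 6, 7, 10, 2, 3, 4, 5, 6, 7, 10, 2, 3, 4, 5, 6, 7, 10, 0], [0, 10, 7, 6, 5, 4, 3, 2, 10, 7, 6, 5, 4, 3, 2, 10, 7, 6, 5, 4, 3, 2, 10, 7, 6, 5, 4, 3, 2, 10, 7, 6, 5, 4, 3, 2, 10, 7, 6, 5, 4, 3, 2, 10, 7, 6, 5, 4, 3, 2, 10, 7, 6, 5, 4, 3, 2, 10, 7, 6, 5, 4, 3, 2])) (BT.leaf (238, [11, 10, 5, 9, 8, 7, 6, 5, 0, 1, 2, 3, 4, 5, 11, 10, 5, 9, 8, 7, 6, 5, 0, 1, 2, 3, 4, 5, 11, 10, 5, 9, 8, 7, 6, 5, 0, 1, 2, 3, 4, 5, 11, 10, 5, 9, 8, 7, 6, 5, 0, 1, 2, 3, 4, 5, 11, 10, 5, 9, 8, 7, 6, 5, 0, 1, 2, 3, 4, 5, 11, 10, 5, 9, 8, 7, 6, 5, 0, 1, 2, 3, 4, 5, 11, 10, 5, 9, 8, 7, 6, 5, 0, 1, 2, 3, 4, 5, 11, 10, 5, 9, 8, 7, 6, 5, 0, 1, 2, 3, 4, 5, 11, 10, 5, 9, 8, 7, 6, 5, 0, 1, 2, 3, 4, 5, 11, 10, 5, 9, 8, 7, 6, 5, 0, 1, 2, 3, 4, 5, 11, 10, 5, 9, 8, 7, 6, 5, 0, 1, 2, 3, 4, 5,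 11, 10, 5, 9, 8, 7, 6, 5, 0, 1, 2, 3, 4, 5, 11, 10, 5, 9, 8, 7, 6, 5, 0, 1, 2, 3, 4, 5, 11, 10, 5, 9, 8, 7, 6, 5, 0, 1, 2, 3, 4, 5, 11, 10, 5, 9, 8, 7, 6, 5, 0, 1, 2, 3, 4, 5, 11, 10, 5, 9, 8, 7, 6, 5, 0, 1, 2, 3, 4, 5, 11, 10, 5, 9, 8, 7, 6, 5, 0, 1, 2, 3, 4, 5], [5, 4, 3, 2, 1, 0, 5, 6, 7, 8, 9, 5, 10, 11, 5, 4, 3, 2, 1, 0, 5, 6, 7, 8, 9, 5, 10, 11, 5, 4, 3, 2, 1, 0, 5, 6, 7, 8, 9, 5, 10, 11, 5, 4, 3, 2, 1, 0, 5, 6, 7, 8, 9, 5, 10, 11, 5, 4, 3, 2, 1, 0, 5, 6, 7, 8, 9, 5, 10, 11, 5, 4, 3, 2, 1, 0, 5, 6, 7, 8, 9, 5, 10, 11, 5, 4, 3, 2, 1, 0, 5, 6, 7, 8, 9, 5, 10, 11, 5, 4, 3, 2, 1, 0, 5, 6, 7, 8, 9, 5, 10, 11, 5, 4, 3, 2, 1, 0, 5, 6, 7, 8, 9, 5, 10, 11, 5, 4, 3, 2, 1, 0, 5, 6, 7, 8, 9, 5, 10, 11, 5, 4, 3, 2, 1, 0, 5, 6, 7, 8, 9, 5, 10, 11, 5, 4, 3, 2, 1, 0, 5, 6, 7, 8, 9, 5, 10, 11, 5, 4, 3, 2, 1, 0, 5, 6, 7, 8, 9, 5, 10, 11, 5, 4, 3, 2, 1, 0, 5, 6, 7,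 8, 9, 5, 10, 11, 5, 4, 3, 2, 1, 0, 5, 6, 7, 8, 9, 5, 10, 11, 5, 4, 3, 2, 1, 0, 5, 6, 7, 8, 9, 5, 10, 11, 5, 4, 3, 2, 1, 0, 5, 6, 7, 8, 9, 5, 10, 11])))))))))
/-- subgroup generators -/
def subT : BT (ℕ × List ℕ × List ℕ) := (BT.node 5 (BT.node 2 (BT.node 1 (BT.node 0 (BT.leaf (1, [2], [2])) (BT.leaf (1, [3], [3]))) (BT.leaf (1, [4], [4]))) (BT.node 4 (BT.node 3 (BT.leaf (1, [5], [5])) (BT.leaf (1, [6], [6]))) (BT.leaf (1, [7], [7])))) (BT.node 8 (BT.node 7 (BT.node 6 (BT.leaf (1, [8], [8])) (BT.leaf (1, [10], [10]))) (BT.leaf (1, [11], [11]))) (BT.node 9 (BT.leaf (1, [9], [9])) (BT.leaf (1, [0], [0])))))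
/-- fact chunks -/
def colET : BT ℕ := (BT.node 5011 (BT.node 2505 (BT.node 1252 (BT.node 626 (BT.node 313 (BT.node 156 (BT.node 78 (BT.node 39 (BT.node 19 (BT.node 9 (BT.node 4 (BT.node 2 (BT.node 1 (BT.node 0 (BT.leaf cE0) (BT.leaf cE1)) (BT.leaf cE2)) (BT.node 3 (BT.leaf cE3) (BT.leaf cE4))) (BT.node 7 (BT.node 6 (BT.node 5 (BT.leaf cE5) (BT.leaf cE6)) (BT.leaf cE7)) (BT.node 8 (BT.leaf cE8) (BT.leaf cE9)))) (BT.node 14 (BT.node 12 (BT.node 11 (BT.node 10 (BT.leaf cE10) (BT.leaf cE11)) (BT.leaf cE12)) (BT.node 13 (BT.leaf cE13) (BT.leaf cE14))) (BT.node 17 (BT.node 16 (BT.node 15 (BT.leaf cE15) (BT.leaf cE16)) (BT.leaf cE17)) (BT.node 18 (BT.leaf cE18) (BT.leaf cE19))))) (BT.node 29 (BT.node 24 (BT.node 22 (BT.node 21 (BT.node 20 (BT.leaf cE20) (BT.leaf cE21)) (BT.leaf cE22)) (BT.node 23 (BT.leaf cE23) (BT.leaf cE24))) (BT.node 27 (BT.node 26 (BT.node 25 (BT.leaf cE25) (BT.leaf cE26)) (BT.leaf cE27)) (BT.node 28 (BT.leaf cE28) (BT.leaf cE29)))) (BT.node 34 (BT.node 32 (BT.node 31 (BT.node 30 (BT.leaf cE30) (BT.leaf cE31)) (BT.leaf cE32)) (BT.node 33 (BT.leaf cE33) (BT.leaf cE34))) (BT.node 37 (BT.node 36 (BT.node 35 (BT.leaf cE35) (BT.leaf cE36)) (BT.leaf cE37)) (BT.node 38 (BT.leaf cE38) (BT.leaf cE39)))))) (BT.node 59 (BT.node 49 (BT.node 44 (BT.node 42 (BT.node 41 (BT.node 40 (BT.leaf cE40) (BT.leaf cE41)) (BT.leaf cE42)) (BT.node 43 (BT.leaf cE43) (BT.leaf cE44))) (BT.node 47 (BT.node 46 (BT.node 45 (BT.leaf cE45) (BT.leaf cE46)) (BT.leaf cE47)) (BT.node 48 (BT.leaf cE48) (BT.leaf cE49)))) (BT.node 54 (BT.node 52 (BT.node 51 (BT.node 50 (BT.leaf cE50) (BT.leaf cE51)) (BT.leaf cE52)) (BT.node 53 (BT.leaf cE53) (BT.leaf cE54))) (BT.node 57 (BT.node 56 (BT.node 55 (BT.leaf cE55) (BT.leaf cE56)) (BT.leaf cE57)) (BT.node 58 (BT.leaf cE58) (BT.leaf cE59))))) (BT.node 69 (BT.node 64 (BT.node 62 (BT.node 61 (BT.node 60 (BT.leaf cE60) (BT.leaf cE61)) (BT.leaf cE62)) (BT.node 63 (BT.leaf cE63) (BT.leaf cE64))) (BT.node 67 (BT.node 66 (BT.node 65 (BT.leaf cE65) (BT.leaf cE66)) (BT.leaf cE67)) (BT.node 68 (BT.leaf cE68) (BT.leaf cE69)))) (BT.node 74 (BT.node 72 (BT.node 71 (BT.node 70 (BT.leaf cE70) (BT.leaf cE71)) (BT.leaf cE72)) (BT.node 73 (BT.leaf cE73) (BT.leaf cE74))) (BT.node 76 (BT.node 75 (BT.leaf cE75) (BT.leaf cE76)) (BT.node 77 (BT.leaf cE77) (BT.leaf cE78))))))) (BT.node 117 (BT.node 98 (BT.node 88 (BT.node 83 (BT.node 81 (BT.node 80 (BT.node 79 (BT.leaf cE79) (BT.leaf cE80)) (BT.leaf cE81)) (BT.node 82 (BT.leaf cE82) (BT.leaf cE83))) (BT.node 86 (BT.node 85 (BT.node 84 (BT.leaf cE84) (BT.leaf cE85)) (BT.leaf cE86)) (BT.node 87 (BT.leaf cE87) (BT.leaf cE88)))) (BT.node 93 (BT.node 91 (BT.node 90 (BT.node 89 (BT.leaf cE89) (BT.leaf cE90)) (BT.leaf cE91)) (BT.node 92 (BT.leaf cE92) (BT.leaf cE93))) (BT.node 96 (BT.node 95 (BT.node 94 (BT.leaf cE94) (BT.leaf cE95)) (BT.leaf cE96)) (BT.node 97 (BT.leaf cE97) (BT.leaf cE98))))) (BT.node 108 (BT.node 103 (BT.node 101 (BT.node 100 (BT.node 99 (BT.leaf cE99) (BT.leaf cE100)) (BT.leaf cE101)) (BT.node 102 (BT.leaf cE102) (BT.leaf cE103))) (BT.node 106 (BT.node 105 (BT.node 104 (BT.leaf cE104) (BT.leaf cE105)) (BT.leaf cE106)) (BT.node 107 (BT.leaf cE107) (BT.leaf cE108)))) (BT.node 113 (BT.node 111 (BT.node 110 (BT.node 109 (BT.leaf cE109) (BT.leaf cE110)) (BT.leaf cE111)) (BT.node 112 (BT.leaf cE112) (BT.leaf cE113))) (BT.node 115 (BT.node 114 (BT.leaf cE114) (BT.leaf cE115)) (BT.node 116 (BT.leaf cE116) (BT.leaf cE117)))))) (BT.node 137 (BT.node 127 (BT.node 122 (BT.node 120 (BT.node 119 (BT.node 118 (BT.leaf cE118) (BT.leaf cE119)) (BT.leaf cE120)) (BT.node 121 (BT.leaf cE121) (BT.leaf cE122))) (BT.node 125 (BT.node 124 (BT.node 123 (BT.leaf cE123) (BT.leaf cE124)) (BT.leaf cE125)) (BT.node 126 (BT.leaf cE126) (BT.leaf cE127)))) (BT.node 132 (BT.node 130 (BT.node 129 (BT.node 128 (BT.leaf cE128) (BT.leaf cE129)) (BT.leaf cE130)) (BT.node 131 (BT.leaf cE131) (BT.leaf cE132))) (BT.node 135 (BT.node 134 (BT.node 133 (BT.leaf cE133) (BT.leaf cE134)) (BT.leaf cE135)) (BT.node 136 (BT.leaf cE136) (BT.leaf cE137))))) (BT.node 147 (BT.node 142 (BT.node 140 (BT.node 139 (BT.node 138 (BT.leaf cE138) (BT.leaf cE139)) (BT.leaf cE140)) (BT.node 141 (BT.leaf cE141) (BT.leaf cE142))) (BT.node 145 (BT.node 144 (BT.node 143 (BT.leaf cE143) (BT.leaf cE144)) (BT.leaf cE145)) (BT.node 146 (BT.leaf cE146) (BT.leaf cE147)))) (BT.node 152 (BT.node 150 (BT.node 149 (BT.node 148 (BT.leaf cE148) (BT.leaf cE149)) (BT.leaf cE150)) (BT.node 151 (BT.leaf cE151) (BT.leaf cE152))) (BT.node 154 (BT.node 153 (BT.leaf cE153) (BT.leaf cE154)) (BT.node 155 (BT.leaf cE155) (BT.leaf cE156)))))))) (BT.node 235 (BT.node 196 (BT.node 176 (BT.node 166 (BT.node 161 (BT.node 159 (BT.node 158 (BT.node 157 (BT.leaf cE157) (BT.leaf cE158)) (BT.leaf cE159)) (BT.node 160 (BT.leaf cE160) (BT.leaf cE161))) (BT.node 164 (BT.node 163 (BT.node 162 (BT.leaf cE162) (BT.leaf cE163)) (BT.leaf cE164)) (BT.node 165 (BT.leaf cE165) (BT.leaf cE166)))) (BT.node 171 (BT.node 169 (BT.node 168 (BT.node 167 (BT.leaf cE167) (BT.leaf cE168)) (BT.leaf cE169)) (BT.node 170 (BT.leaf cE170) (BT.leaf cE171))) (BT.node 174 (BT.node 173 (BT.node 172 (BT.leaf cE172) (BT.leaf cE173)) (BT.leaf cE174)) (BT.node 175 (BT.leaf cE175) (BT.leaf cE176))))) (BT.node 186 (BT.node 181 (BT.node 179 (BT.node 178 (BT.node 177 (BT.leaf cE177) (BT.leaf cE178)) (BT.leaf cE179)) (BT.node 180 (BT.leaf cE180) (BT.leaf cE181))) (BT.node 184 (BT.node 183 (BT.node 182 (BT.leaf cE182) (BT.leaf cE183)) (BT.leaf cE184)) (BT.node 185 (BT.leaf cE185) (BT.leaf cE186)))) (BT.node 191 (BT.node 189 (BT.node 188 (BT.node 187 (BT.leaf cE187) (BT.leaf cE188)) (BT.leaf cE189)) (BT.node 190 (BT.leaf cE190) (BT.leaf cE191))) (BT.node 194 (BT.node 193 (BT.node 192 (BT.leaf cE192) (BT.leaf cE193)) (BT.leaf cE194)) (BT.node 195 (BT.leaf cE195) (BT.leaf cE196)))))) (BT.node 216 (BT.node 206 (BT.node 201 (BT.node 199 (BT.node 198 (BT.node 197 (BT.leaf cE197) (BT.leaf cE198)) (BT.leaf cE199)) (BT.node 200 (BT.leaf cE200) (BT.leaf cE201))) (BT.node 204 (BT.node 203 (BT.node 202 (BT.leaf cE202) (BT.leaf cE203)) (BT.leaf cE204)) (BT.node 205 (BT.leaf cE205) (BT.leaf cE206)))) (BT.node 211 (BT.node 209 (BT.node 208 (BT.node 207 (BT.leaf cE207) (BT.leaf cE208)) (BT.leaf cE209)) (BT.node 210 (BT.leaf cE210) (BT.leaf cE211))) (BT.node 214 (BT.node 213 (BT.node 212 (BT.leaf cE212) (BT.leaf cE213)) (BT.leaf cE214)) (BT.node 215 (BT.leaf cE215) (BT.leaf cE216))))) (BT.node 226 (BT.node 221 (BT.node 219 (BT.node 218 (BT.node 217 (BT.leaf cE217) (BT.leaf cE218)) (BT.leaf cE219)) (BT.node 220 (BT.leaf cE220) (BT.leaf cE221))) (BT.node 224 (BT.node 223 (BT.node 222 (BT.leaf cE222) (BT.leaf cE223)) (BT.leaf cE224)) (BT.node 225 (BT.leaf cE225) (BT.leaf cE226)))) (BT.node 231 (BT.node 229 (BT.node 228 (BT.node 227 (BT.leaf cE227) (BT.leaf cE228)) (BT.leaf cE229)) (BT.node 230 (BT.leaf cE230) (BT.leaf cE231))) (BT.node 233 (BT.node 232 (BT.leaf cE232) (BT.leaf cE233)) (BT.node 234 (BT.leaf cE234) (BT.leaf cE235))))))) (BT.node 274 (BT.node 255 (BT.node 245 (BT.node 240 (BT.node 238 (BT.node 237 (BT.node 236 (BT.leaf cE236) (BT.leaf cE237)) (BT.leaf cE238)) (BT.node 239 (BT.leaf cE239) (BT.leaf cE240))) (BT.node 243 (BT.node 242 (BT.node 241 (BT.leaf cE241) (BT.leaf cE242)) (BT.leaf cE243)) (BT.node 244 (BT.leaf cE244) (BT.leaf cE245)))) (BT.node 250 (BT.node 248 (BT.node 247 (BT.node 246 (BT.leaf cE246) (BT.leaf cE247)) (BT.leaf cE248)) (BT.node 249 (BT.leaf cE249) (BT.leaf cE250))) (BT.node 253 (BT.node 252 (BT.node 251 (BT.leaf cE251) (BT.leaf cE252)) (BT.leaf cE253)) (BT.node 254 (BT.leaf cE254) (BT.leaf cE255))))) (BT.node 265 (BT.node 260 (BT.node 258 (BT.node 257 (BT.node 256 (BT.leaf cE256) (BT.leaf cE257)) (BT.leaf cE258)) (BT.node 259 (BT.leaf cE259) (BT.leaf cE260))) (BT.node 263 (BT.node 262 (BT.node 261 (BT.leaf cE261) (BT.leaf cE262)) (BT.leaf cE263)) (BT.node 264 (BT.leaf cE264) (BT.leaf cE265)))) (BT.node 270 (BT.node 268 (BT.node 267 (BT.node 266 (BT.leaf cE266) (BT.leaf cE267)) (BT.leaf cE268)) (BT.node 269 (BT.leaf cE269) (BT.leaf cE270))) (BT.node 272 (BT.node 271 (BT.leaf cE271) (BT.leaf cE272)) (BT.node 273 (BT.leaf cE273) (BT.leaf cE274)))))) (BT.node 294 (BT.node 284 (BT.node 279 (BT.node 277 (BT.node 276 (BT.node 275 (BT.leaf cE275) (BT.leaf cE276)) (BT.leaf cE277)) (BT.node 278 (BT.leaf cE278) (BT.leaf cE279))) (BT.node 282 (BT.node 281 (BT.node 280 (BT.leaf cE280) (BT.leaf cE281)) (BT.leaf cE282)) (BT.node 283 (BT.leaf cE283) (BT.leaf cE284)))) (BT.node 289 (BT.node 287 (BT.node 286 (BT.node 285 (BT.leaf cE285) (BT.leaf cE286)) (BT.leaf cE287)) (BT.node 288 (BT.leaf cE288) (BT.leaf cE289))) (BT.node 292 (BT.node 291 (BT.node 290 (BT.leaf cE290) (BT.leaf cE291)) (BT.leaf cE292)) (BT.node 293 (BT.leaf cE293) (BT.leaf cE294))))) (BT.node 304 (BT.node 299 (BT.node 297 (BT.node 296 (BT.node 295 (BT.leaf cE295) (BT.leaf cE296)) (BT.leaf cE297)) (BT.node 298 (BT.leaf cE298) (BT.leaf cE299))) (BT.node 302 (BT.node 301 (BT.node 300 (BT.leaf cE300) (BT.leaf cE301)) (BT.leaf cE302)) (BT.node 303 (BT.leaf cE303) (BT.leaf cE304)))) (BT.node 309 (BT.node 307 (BT.node 306 (BT.node 305 (BT.leaf cE305) (BT.leaf cE306)) (BT.leaf cE307)) (BT.node 308 (BT.leaf cE308) (BT.leaf cE309))) (BT.node 311 (BT.node 310 (BT.leaf cE310) (BT.leaf cE311)) (BT.node 312 (BT.leaf cE312) (BT.leaf cE313))))))))) (BT.node 470 (BT.node 392 (BT.node 353 (BT.node 333 (BT.node 323 (BT.node 318 (BT.node 316 (BT.node 315 (BT.node 314 (BT.leaf cE314) (BT.leaf cE315)) (BT.leaf cE316)) (BT.node 317 (BT.leaf cE317) (BT.leaf cE318))) (BT.node 321 (BT.node 320 (BT.node 319 (BT.leaf cE319) (BT.leaf cE320)) (BT.leaf cE321)) (BT.node 322 (BT.leaf cE322) (BT.leaf cE323)))) (BT.node 328 (BT.node 326 (BT.node 325 (BT.node 324 (BT.leaf cE324) (BT.leaf cE325)) (BT.leaf cE326)) (BT.node 327 (BT.leaf cE327) (BT.leaf cE328))) (BT.node 331 (BT.node 330 (BT.node 329 (BT.leaf cE329) (BT.leaf cE330)) (BT.leaf cE331)) (BT.node 332 (BT.leaf cE332) (BT.leaf cE333))))) (BT.node 343 (BT.node 338 (BT.node 336 (BT.node 335 (BT.node 334 (BT.leaf cE334) (BT.leaf cE335)) (BT.leaf cE336)) (BT.node 337 (BT.leaf cE337) (BT.leaf cE338))) (BT.node 341 (BT.node 340 (BT.node 339 (BT.leaf cE339) (BT.leaf cE340)) (BT.leaf cE341)) (BT.node 342 (BT.leaf cE342) (BT.leaf cE343)))) (BT.node 348 (BT.node 346 (BT.node 345 (BT.node 344 (BT.leaf cE344) (BT.leaf cE345)) (BT.leaf cE346)) (BT.node 347 (BT.leaf cE347) (BT.leaf cE348))) (BT.node 351 (BT.node 350 (BT.node 349 (BT.leaf cE349) (BT.leaf cE350)) (BT.leaf cE351)) (BT.node 352 (BT.leaf cE352) (BT.leaf cE353)))))) (BT.node 373 (BT.node 363 (BT.node 358 (BT.node 356 (BT.node 355 (BT.node 354 (BT.leaf cE354) (BT.leaf cE355)) (BT.leaf cE356)) (BT.node 357 (BT.leaf cE357) (BT.leaf cE358))) (BT.node 361 (BT.node 360 (BT.node 359 (BT.leaf cE359) (BT.leaf cE360)) (BT.leaf cE361)) (BT.node 362 (BT.leaf cE362) (BT.leaf cE363)))) (BT.node 368 (BT.node 366 (BT.node 365 (BT.node 364 (BT.leaf cE364) (BT.leaf cE365)) (BT.leaf cE366)) (BT.node 367 (BT.leaf cE367) (BT.leaf cE368))) (BT.node 371 (BT.node 370 (BT.node 369 (BT.leaf cE369) (BT.leaf cE370)) (BT.leaf cE371)) (BT.node 372 (BT.leaf cE372) (BT.leaf cE373))))) (BT.node 383 (BT.node 378 (BT.node 376 (BT.node 375 (BT.node 374 (BT.leaf cE374) (BT.leaf cE375)) (BT.leaf cE376)) (BT.node 377 (BT.leaf cE377) (BT.leaf cE378))) (BT.node 381 (BT.node 380 (BT.node 379 (BT.leaf cE379) (BT.leaf cE380)) (BT.leaf cE381)) (BT.node 382 (BT.leaf cE382) (BT.leaf cE383)))) (BT.node 388 (BT.node 386 (BT.node 385 (BT.node 384 (BT.leaf cE384) (BT.leaf cE385)) (BT.leaf cE386)) (BT.node 387 (BT.leaf cE387) (BT.leaf cE388))) (BT.node 390 (BT.node 389 (BT.leaf cE389) (BT.leaf cE390)) (BT.node 391 (BT.leaf cE391) (BT.leaf cE392))))))) (BT.node 431 (BT.node 412 (BT.node 402 (BT.node 397 (BT.node 395 (BT.node 394 (BT.node 393 (BT.leaf cE393) (BT.leaf cE394)) (BT.leaf cE395)) (BT.node 396 (BT.leaf cE396) (BT.leaf cE397))) (BT.node 400 (BT.node 399 (BT.node 398 (BT.leaf cE398) (BT.leaf cE399)) (BT.leaf cE400)) (BT.node 401 (BT.leaf cE401) (BT.leaf cE402)))) (BT.node 407 (BT.node 405 (BT.node 404 (BT.node 403 (BT.leaf cE403) (BT.leaf cE404)) (BT.leaf cE405)) (BT.node 406 (BT.leaf cE406) (BT.leaf cE407))) (BT.node 410 (BT.node 409 (BT.node 408 (BT.leaf cE408) (BT.leaf cE409)) (BT.leaf cE410)) (BT.node 411 (BT.leaf cE411) (BT.leaf cE412))))) (BT.node 422 (BT.node 417 (BT.node 415 (BT.node 414 (BT.node 413 (BT.leaf cE413) (BT.leaf cE414)) (BT.leaf cE415)) (BT.node 416 (BT.leaf cE416) (BT.leaf cE417))) (BT.node 420 (BT.node 419 (BT.node 418 (BT.leaf cE418) (BT.leaf cE419)) (BT.leaf cE420)) (BT.node 421 (BT.leaf cE421) (BT.leaf cE422)))) (BT.node 427 (BT.node 425 (BT.node 424 (BT.node 423 (BT.leaf cE423) (BT.leaf cE424)) (BT.leaf cE425)) (BT.node 426 (BT.leaf cE426) (BT.leaf cE427))) (BT.node 429 (BT.node 428 (BT.leaf cE428) (BT.leaf cE429)) (BT.node 430 (BT.leaf cE430) (BT.leaf cE431)))))) (BT.node 451 (BT.node 441 (BT.node 436 (BT.node 434 (BT.node 433 (BT.node 432 (BT.leaf cE432) (BT.leaf cE433)) (BT.leaf cE434)) (BT.node 435 (BT.leaf cE435) (BT.leaf cE436))) (BT.node 439 (BT.node 438 (BT.node 437 (BT.leaf cE437) (BT.leaf cE438)) (BT.leaf cE439)) (BT.node 440 (BT.leaf cE440) (BT.leaf cE441)))) (BT.node 446 (BT.node 444 (BT.node 443 (BT.node 442 (BT.leaf cE442) (BT.leaf cE443)) (BT.leaf cE444)) (BT.node 445 (BT.leaf cE445) (BT.leaf cE446))) (BT.node 449 (BT.node 448 (BT.node 447 (BT.leaf cE447) (BT.leaf cE448)) (BT.leaf cE449)) (BT.node 450 (BT.leaf cE450) (BT.leaf cE451))))) (BT.node 461 (BT.node 456 (BT.node 454 (BT.node 453 (BT.node 452 (BT.leaf cE452) (BT.leaf cE453)) (BT.leaf cE454)) (BT.node 455 (BT.leaf cE455) (BT.leaf cE456))) (BT.node 459 (BT.node 458 (BT.node 457 (BT.leaf cE457) (BT.leaf cE458)) (BT.leaf cE459)) (BT.node 460 (BT.leaf cE460) (BT.leaf cE461)))) (BT.node 466 (BT.node 464 (BT.node 463 (BT.node 462 (BT.leaf cE462) (BT.leaf cE463)) (BT.leaf cE464)) (BT.node 465 (BT.leaf cE465) (BT.leaf cE466))) (BT.node 468 (BT.node 467 (BT.leaf cE467) (BT.leaf cE468)) (BT.node 469 (BT.leaf cE469) (BT.leaf cE470)))))))) (BT.node 548 (BT.node 509 (BT.node 490 (BT.node 480 (BT.node 475 (BT.node 473 (BT.node 472 (BT.node 471 (BT.leaf cE471) (BT.leaf cE472)) (BT.leaf cE473)) (BT.node 474 (BT.leaf cE474) (BT.leaf cE475))) (BT.node 478 (BT.node 477 (BT.node 476 (BT.leaf cE476) (BT.leaf cE477)) (BT.leaf cE478)) (BT.node 479 (BT.leaf cE479) (BT.leaf cE480)))) (BT.node 485 (BT.node 483 (BT.node 482 (BT.node 481 (BT.leaf cE481) (BT.leaf cE482)) (BT.leaf cE483)) (BT.node 484 (BT.leaf cE484) (BT.leaf cE485))) (BT.node 488 (BT.node 487 (BT.node 486 (BT.leaf cE486) (BT.leaf cE487)) (BT.leaf cE488)) (BT.node 489 (BT.leaf cE489) (BT.leaf cE490))))) (BT.node 500 (BT.node 495 (BT.node 493 (BT.node 492 (BT.node 491 (BT.leaf cE491) (BT.leaf cE492)) (BT.leaf cE493)) (BT.node 494 (BT.leaf cE494) (BT.leaf cE495))) (BT.node 498 (BT.node 497 (BT.node 496 (BT.leaf cE496) (BT.leaf cE497)) (BT.leaf cE498)) (BT.node 499 (BT.leaf cE499) (BT.leaf cE500)))) (BT.node 505 (BT.node 503 (BT.node 502 (BT.node 501 (BT.leaf cE501) (BT.leaf cE502)) (BT.leaf cE503)) (BT.node 504 (BT.leaf cE504) (BT.leaf cE505))) (BT.node 507 (BT.node 506 (BT.leaf cE506) (BT.leaf cE507)) (BT.node 508 (BT.leaf cE508) (BT.leaf cE509)))))) (BT.node 529 (BT.node 519 (BT.node 514 (BT.node 512 (BT.node 511 (BT.node 510 (BT.leaf cE510) (BT.leaf cE511)) (BT.leaf cE512)) (BT.node 513 (BT.leaf cE513) (BT.leaf cE514))) (BT.node 517 (BT.node 516 (BT.node 515 (BT.leaf cE515) (BT.leaf cE516)) (BT.leaf cE517)) (BT.node 518 (BT.leaf cE518) (BT.leaf cE519)))) (BT.node 524 (BT.node 522 (BT.node 521 (BT.node 520 (BT.leaf cE520) (BT.leaf cE521)) (BT.leaf cE522)) (BT.node 523 (BT.leaf cE523) (BT.leaf cE524))) (BT.node 527 (BT.node 526 (BT.node 525 (BT.leaf cE525) (BT.leaf cE526)) (BT.leaf cE527)) (BT.node 528 (BT.leaf cE528) (BT.leaf cE529))))) (BT.node 539 (BT.node 534 (BT.node 532 (BT.node 531 (BT.node 530 (BT.leaf cE530) (BT.leaf cE531)) (BT.leaf cE532)) (BT.node 533 (BT.leaf cE533) (BT.leaf cE534))) (BT.node 537 (BT.node 536 (BT.node 535 (BT.leaf cE535) (BT.leaf cE536)) (BT.leaf cE537)) (BT.node 538 (BT.leaf cE538) (BT.leaf cE539)))) (BT.node 544 (BT.node 542 (BT.node 541 (BT.node 540 (BT.leaf cE540) (BT.leaf cE541)) (BT.leaf cE542)) (BT.node 543 (BT.leaf cE543) (BT.leaf cE544))) (BT.node 546 (BT.node 545 (BT.leaf cE545) (BT.leaf cE546)) (BT.node 547 (BT.leaf cE547) (BT.leaf cE548))))))) (BT.node 587 (BT.node 568 (BT.node 558 (BT.node 553 (BT.node 551 (BT.node 550 (BT.node 549 (BT.leaf cE549) (BT.leaf cE550)) (BT.leaf cE551)) (BT.node 552 (BT.leaf cE552) (BT.leaf cE553))) (BT.node 556 (BT.node 555 (BT.node 554 (BT.leaf cE554) (BT.leaf cE555)) (BT.leaf cE556)) (BT.node 557 (BT.leaf cE557) (BT.leaf cE558)))) (BT.node 563 (BT.node 561 (BT.node 560 (BT.node 559 (BT.leaf cE559) (BT.leaf cE560)) (BT.leaf cE561)) (BT.node 562 (BT.leaf cE562) (BT.leaf cE563))) (BT.node 566 (BT.node 565 (BT.node 564 (BT.leaf cE564) (BT.leaf cE565)) (BT.leaf cE566)) (BT.node 567 (BT.leaf cE567) (BT.leaf cE568))))) (BT.node 578 (BT.node 573 (BT.node 571 (BT.node 570 (BT.node 569 (BT.leaf cE569) (BT.leaf cE570)) (BT.leaf cE571)) (BT.node 572 (BT.leaf cE572) (BT.leaf cE573))) (BT.node 576 (BT.node 575 (BT.node 574 (BT.leaf cE574) (BT.leaf cE575)) (BT.leaf cE576)) (BT.node 577 (BT.leaf cE577) (BT.leaf cE578)))) (BT.node 583 (BT.node 581 (BT.node 580 (BT.node 579 (BT.leaf cE579) (BT.leaf cE580)) (BT.leaf cE581)) (BT.node 582 (BT.leaf cE582) (BT.leaf cE583))) (BT.node 585 (BT.node 584 (BT.leaf cE584) (BT.leaf cE585)) (BT.node 586 (BT.leaf cE586) (BT.leaf cE587)))))) (BT.node 607 (BT.node 597 (BT.node 592 (BT.node 590 (BT.node 589 (BT.node 588 (BT.leaf cE588) (BT.leaf cE589)) (BT.leaf cE590)) (BT.node 591 (BT.leaf cE591) (BT.leaf cE592))) (BT.node 595 (BT.node 594 (BT.node 593 (BT.leaf cE593) (BT.leaf cE594)) (BT.leaf cE595)) (BT.node 596 (BT.leaf cE596) (BT.leaf cE597)))) (BT.node 602 (BT.node 600 (BT.node 599 (BT.node 598 (BT.leaf cE598) (BT.leaf cE599)) (BT.leaf cE600)) (BT.node 601 (BT.leaf cE601) (BT.leaf cE602))) (BT.node 605 (BT.node 604 (BT.node 603 (BT.leaf cE603) (BT.leaf cE604)) (BT.leaf cE605)) (BT.node 606 (BT.leaf cE606) (BT.leaf cE607))))) (BT.node 617 (BT.node 612 (BT.node 610 (BT.node 609 (BT.node 608 (BT.leaf cE608) (BT.leaf cE609)) (BT.leaf cE610)) (BT.node 611 (BT.leaf cE611) (BT.leaf cE612))) (BT.node 615 (BT.node 614 (BT.node 613 (BT.leaf cE613) (BT.leaf cE614)) (BT.leaf cE615)) (BT.node 616 (BT.leaf cE616) (BT.leaf cE617)))) (BT.node 622 (BT.node 620 (BT.node 619 (BT.node 618 (BT.leaf cE618) (BT.leaf cE619)) (BT.leaf cE620)) (BT.node 621 (BT.leaf cE621) (BT.leaf cE622))) (BT.node 624 (BT.node 623 (BT.leaf cE623) (BT.leaf cE624)) (BT.node 625 (BT.leaf cE625) (BT.leaf cE626)))))))))) (BT.node 939 (BT.node 783 (BT.node 705 (BT.node 666 (BT.node 646 (BT.node 636 (BT.node 631 (BT.node 629 (BT.node 628 (BT.node 627 (BT.leaf cE627) (BT.leaf cE628)) (BT.leaf cE629)) (BT.node 630 (BT.leaf cE630) (BT.leaf cE631))) (BT.node 634 (BT.node 633 (BT.node 632 (BT.leaf cE632) (BT.leaf cE633)) (BT.leaf cE634)) (BT.node 635 (BT.leaf cE635) (BT.leaf cE636)))) (BT.node 641 (BT.node 639 (BT.node 638 (BT.node 637 (BT.leaf cE637) (BT.leaf cE638)) (BT.leaf cE639)) (BT.node 640 (BT.leaf cE640) (BT.leaf cE641))) (BT.node 644 (BT.node 643 (BT.node 642 (BT.leaf cE642) (BT.leaf cE643)) (BT.leaf cE644)) (BT.node 645 (BT.leaf cE645) (BT.leaf cE646))))) (BT.node 656 (BT.node 651 (BT.node 649 (BT.node 648 (BT.node 647 (BT.leaf cE647) (BT.leaf cE648)) (BT.leaf cE649)) (BT.node 650 (BT.leaf cE650) (BT.leaf cE651))) (BT.node 654 (BT.node 653 (BT.node 652 (BT.leaf cE652) (BT.leaf cE653)) (BT.leaf cE654)) (BT.node 655 (BT.leaf cE655) (BT.leaf cE656)))) (BT.node 661 (BT.node 659 (BT.node 658 (BT.node 657 (BT.leaf cE657) (BT.leaf cE658)) (BT.leaf cE659)) (BT.node 660 (BT.leaf cE660) (BT.leaf cE661))) (BT.node 664 (BT.node 663 (BT.node 662 (BT.leaf cE662) (BT.leaf cE663)) (BT.leaf cE664)) (BT.node 665 (BT.leaf cE665) (BT.leaf cE666)))))) (BT.node 686 (BT.node 676 (BT.node 671 (BT.node 669 (BT.node 668 (BT.node 667 (BT.leaf cE667) (BT.leaf cE668)) (BT.leaf cE669)) (BT.node 670 (BT.leaf cE670) (BT.leaf cE671))) (BT.node 674 (BT.node 673 (BT.node 672 (BT.leaf cE672) (BT.leaf cE673)) (BT.leaf cE674)) (BT.node 675 (BT.leaf cE675) (BT.leaf cE676)))) (BT.node 681 (BT.node 679 (BT.node 678 (BT.node 677 (BT.leaf cE677) (BT.leaf cE678)) (BT.leaf cE679)) (BT.node 680 (BT.leaf cE680) (BT.leaf cE681))) (BT.node 684 (BT.node 683 (BT.node 682 (BT.leaf cE682) (BT.leaf cE683)) (BT.leaf cE684)) (BT.node 685 (BT.leaf cE685) (BT.leaf cE686))))) (BT.node 696 (BT.node 691 (BT.node 689 (BT.node 688 (BT.node 687 (BT.leaf cE687) (BT.leaf cE688)) (BT.leaf cE689)) (BT.node 690 (BT.leaf cE690) (BT.leaf cE691))) (BT.node 694 (BT.node 693 (BT.node 692 (BT.leaf cE692) (BT.leaf cE693)) (BT.leaf cE694)) (BT.node 695 (BT.leaf cE695) (BT.leaf cE696)))) (BT.node 701 (BT.node 699 (BT.node 698 (BT.node 697 (BT.leaf cE697) (BT.leaf cE698)) (BT.leaf cE699)) (BT.node 700 (BT.leaf cE700) (BT.leaf cE701))) (BT.node 703 (BT.node 702 (BT.leaf cE702) (BT.leaf cE703)) (BT.node 704 (BT.leaf cE704) (BT.leaf cE705))))))) (BT.node 744 (BT.node 725 (BT.node 715 (BT.node 710 (BT.node 708 (BT.node 707 (BT.node 706 (BT.leaf cE706) (BT.leaf cE707)) (BT.leaf cE708)) (BT.node 709 (BT.leaf cE709) (BT.leaf cE710))) (BT.node 713 (BT.node 712 (BT.node 711 (BT.leaf cE711) (BT.leaf cE712)) (BT.leaf cE713)) (BT.node 714 (BT.leaf cE714) (BT.leaf cE715)))) (BT.node 720 (BT.node 718 (BT.node 717 (BT.node 716 (BT.leaf cE716) (BT.leaf cE717)) (BT.leaf cE718)) (BT.node 719 (BT.leaf cE719) (BT.leaf cE720))) (BT.node 723 (BT.node 722 (BT.node 721 (BT.leaf cE721) (BT.leaf cE722)) (BT.leaf cE723)) (BT.node 724 (BT.leaf cE724) (BT.leaf cE725))))) (BT.node 735 (BT.node 730 (BT.node 728 (BT.node 727 (BT.node 726 (BT.leaf cE726) (BT.leaf cE727)) (BT.leaf cE728)) (BT.node 729 (BT.leaf cE729) (BT.leaf cE730))) (BT.node 733 (BT.node 732 (BT.node 731 (BT.leaf cE731) (BT.leaf cE732)) (BT.leaf cE733)) (BT.node 734 (BT.leaf cE734) (BT.leaf cE735)))) (BT.node 740 (BT.node 738 (BT.node 737 (BT.node 736 (BT.leaf cE736) (BT.leaf cE737)) (BT.leaf cE738)) (BT.node 739 (BT.leaf cE739) (BT.leaf cE740))) (BT.node 742 (BT.node 741 (BT.leaf cE741) (BT.leaf cE742)) (BT.node 743 (BT.leaf cE743) (BT.leaf cE744)))))) (BT.node 764 (BT.node 754 (BT.node 749 (BT.node 747 (BT.node 746 (BT.node 745 (BT.leaf cE745) (BT.leaf cE746)) (BT.leaf cE747)) (BT.node 748 (BT.leaf cE748) (BT.leaf cE749))) (BT.node 752 (BT.node 751 (BT.node 750 (BT.leaf cE750) (BT.leaf cE751)) (BT.leaf cE752)) (BT.node 753 (BT.leaf cE753) (BT.leaf cE754)))) (BT.node 759 (BT.node 757 (BT.node 756 (BT.node 755 (BT.leaf cE755) (BT.leaf cE756)) (BT.leaf cE757)) (BT.node 758 (BT.leaf cE758) (BT.leaf cE759))) (BT.node 762 (BT.node 761 (BT.node 760 (BT.leaf cE760) (BT.leaf cE761)) (BT.leaf cE762)) (BT.node 763 (BT.leaf cE763) (BT.leaf cE764))))) (BT.node 774 (BT.node 769 (BT.node 767 (BT.node 766 (BT.node 765 (BT.leaf cE765) (BT.leaf cE766)) (BT.leaf cE767)) (BT.node 768 (BT.leaf cE768) (BT.leaf cE769))) (BT.node 772 (BT.node 771 (BT.node 770 (BT.leaf cE770) (BT.leaf cE771)) (BT.leaf cE772)) (BT.node 773 (BT.leaf cE773) (BT.leaf cE774)))) (BT.node 779 (BT.node 777 (BT.node 776 (BT.node 775 (BT.leaf cE775) (BT.leaf cE776)) (BT.leaf cE777)) (BT.node 778 (BT.leaf cE778) (BT.leaf cE779))) (BT.node 781 (BT.node 780 (BT.leaf cE780) (BT.leaf cE781)) (BT.node 782 (BT.leaf cE782) (BT.leaf cE783)))))))) (BT.node 861 (BT.node 822 (BT.node 803 (BT.node 793 (BT.node 788 (BT.node 786 (BT.node 785 (BT.node 784 (BT.leaf cE784) (BT.leaf cE785)) (BT.leaf cE786)) (BT.node 787 (BT.leaf cE787) (BT.leaf cE788))) (BT.node 791 (BT.node 790 (BT.node 789 (BT.leaf cE789) (BT.leaf cE790)) (BT.leaf cE791)) (BT.node 792 (BT.leaf cE792) (BT.leaf cE793)))) (BT.node 798 (BT.node 796 (BT.node 795 (BT.node 794 (BT.leaf cE794) (BT.leaf cE795)) (BT.leaf cE796)) (BT.node 797 (BT.leaf cE797) (BT.leaf cE798))) (BT.node 801 (BT.node 800 (BT.node 799 (BT.leaf cE799) (BT.leaf cE800)) (BT.leaf cE801)) (BT.node 802 (BT.leaf cE802) (BT.leaf cE803))))) (BT.node 813 (BT.node 808 (BT.node 806 (BT.node 805 (BT.node 804 (BT.leaf cE804) (BT.leaf cE805)) (BT.leaf cE806)) (BT.node 807 (BT.leaf cE807) (BT.leaf cE808))) (BT.node 811 (BT.node 810 (BT.node 809 (BT.leaf cE809) (BT.leaf cE810)) (BT.leaf cE811)) (BT.node 812 (BT.leaf cE812) (BT.leaf cE813)))) (BT.node 818 (BT.node 816 (BT.node 815 (BT.node 814 (BT.leaf cE814) (BT.leaf cE815)) (BT.leaf cE816)) (BT.node 817 (BT.leaf cE817) (BT.leaf cE818))) (BT.node 820 (BT.node 819 (BT.leaf cE819) (BT.leaf cE820)) (BT.node 821 (BT.leaf cE821) (BT.leaf cE822)))))) (BT.node 842 (BT.node 832 (BT.node 827 (BT.node 825 (BT.node 824 (BT.node 823 (BT.leaf cE823) (BT.leaf cE824)) (BT.leaf cE825)) (BT.node 826 (BT.leaf cE826) (BT.leaf cE827))) (BT.node 830 (BT.node 829 (BT.node 828 (BT.leaf cE828) (BT.leaf cE829)) (BT.leaf cE830)) (BT.node 831 (BT.leaf cE831) (BT.leaf cE832)))) (BT.node 837 (BT.node 835 (BT.node 834 (BT.node 833 (BT.leaf cE833) (BT.leaf cE834)) (BT.leaf cE835)) (BT.node 836 (BT.leaf cE836) (BT.leaf cE837))) (BT.node 840 (BT.node 839 (BT.node 838 (BT.leaf cE838) (BT.leaf cE839)) (BT.leaf cE840)) (BT.node 841 (BT.leaf cE841) (BT.leaf cE842))))) (BT.node 852 (BT.node 847 (BT.node 845 (BT.node 844 (BT.node 843 (BT.leaf cE843) (BT.leaf cE844)) (BT.leaf cE845)) (BT.node 846 (BT.leaf cE846) (BT.leaf cE847))) (BT.node 850 (BT.node 849 (BT.node 848 (BT.leaf cE848) (BT.leaf cE849)) (BT.leaf cE850)) (BT.node 851 (BT.leaf cE851) (BT.leaf cE852)))) (BT.node 857 (BT.node 855 (BT.node 854 (BT.node 853 (BT.leaf cE853) (BT.leaf cE854)) (BT.leaf cE855)) (BT.node 856 (BT.leaf cE856) (BT.leaf cE857))) (BT.node 859 (BT.node 858 (BT.leaf cE858) (BT.leaf cE859)) (BT.node 860 (BT.leaf cE860) (BT.leaf cE861))))))) (BT.node 900 (BT.node 881 (BT.node 871 (BT.node 866 (BT.node 864 (BT.node 863 (BT.node 862 (BT.leaf cE862) (BT.leaf cE863)) (BT.leaf cE864)) (BT.node 865 (BT.leaf cE865) (BT.leaf cE866))) (BT.node 869 (BT.node 868 (BT.node 867 (BT.leaf cE867) (BT.leaf cE868)) (BT.leaf cE869)) (BT.node 870 (BT.leaf cE870) (BT.leaf cE871)))) (BT.node 876 (BT.node 874 (BT.node 873 (BT.node 872 (BT.leaf cE872) (BT.leaf cE873)) (BT.leaf cE874)) (BT.node 875 (BT.leaf cE875) (BT.leaf cE876))) (BT.node 879 (BT.node 878 (BT.node 877 (BT.leaf cE877) (BT.leaf cE878)) (BT.leaf cE879)) (BT.node 880 (BT.leaf cE880) (BT.leaf cE881))))) (BT.node 891 (BT.node 886 (BT.node 884 (BT.node 883 (BT.node 882 (BT.leaf cE882) (BT.leaf cE883)) (BT.leaf cE884)) (BT.node 885 (BT.leaf cE885) (BT.leaf cE886))) (BT.node 889 (BT.node 888 (BT.node 887 (BT.leaf cE887) (BT.leaf cE888)) (BT.leaf cE889)) (BT.node 890 (BT.leaf cE890) (BT.leaf cE891)))) (BT.node 896 (BT.node 894 (BT.node 893 (BT.node 892 (BT.leaf cE892) (BT.leaf cE893)) (BT.leaf cE894)) (BT.node 895 (BT.leaf cE895) (BT.leaf cE896))) (BT.node 898 (BT.node 897 (BT.leaf cE897) (BT.leaf cE898)) (BT.node 899 (BT.leaf cE899) (BT.leaf cE900)))))) (BT.node 920 (BT.node 910 (BT.node 905 (BT.node 903 (BT.node 902 (BT.node 901 (BT.leaf cE901) (BT.leaf cE902)) (BT.leaf cE903)) (BT.node 904 (BT.leaf cE904) (BT.leaf cE905))) (BT.node 908 (BT.node 907 (BT.node 906 (BT.leaf cE906) (BT.leaf cE907)) (BT.leaf cE908)) (BT.node 909 (BT.leaf cE909) (BT.leaf cE910)))) (BT.node 915 (BT.node 913 (BT.node 912 (BT.node 911 (BT.leaf cE911) (BT.leaf cE912)) (BT.leaf cE913)) (BT.node 914 (BT.leaf cE914) (BT.leaf cE915))) (BT.node 918 (BT.node 917 (BT.node 916 (BT.leaf cE916) (BT.leaf cE917)) (BT.leaf cE918)) (BT.node 919 (BT.leaf cE919) (BT.leaf cE920))))) (BT.node 930 (BT.node 925 (BT.node 923 (BT.node 922 (BT.node 921 (BT.leaf cE921) (BT.leaf cE922)) (BT.leaf cE923)) (BT.node 924 (BT.leaf cE924) (BT.leaf cE925))) (BT.node 928 (BT.node 927 (BT.node 926 (BT.leaf cE926) (BT.leaf cE927)) (BT.leaf cE928)) (BT.node 929 (BT.leaf cE929) (BT.leaf cE930)))) (BT.node 935 (BT.node 933 (BT.node 932 (BT.node 931 (BT.leaf cE931) (BT.leaf cE932)) (BT.leaf cE933)) (BT.node 934 (BT.leaf cE934) (BT.leaf cE935))) (BT.node 937 (BT.node 936 (BT.leaf cE936) (BT.leaf cE937)) (BT.node 938 (BT.leaf cE938) (BT.leaf cE939))))))))) (BT.node 1096 (BT.node 1018 (BT.node 979 (BT.node 959 (BT.node 949 (BT.node 944 (BT.node 942 (BT.node 941 (BT.node 940 (BT.leaf cE940) (BT.leaf cE941)) (BT.leaf cE942)) (BT.node 943 (BT.leaf cE943) (BT.leaf cE944))) (BT.node 947 (BT.node 946 (BT.node 945 (BT.leaf cE945) (BT.leaf cE946)) (BT.leaf cE947)) (BT.node 948 (BT.leaf cE948) (BT.leaf cE949)))) (BT.node 954 (BT.node 952 (BT.node 951 (BT.node 950 (BT.leaf cE950) (BT.leaf cE951)) (BT.leaf cE952)) (BT.node 953 (BT.leaf cE953) (BT.leaf cE954))) (BT.node 957 (BT.node 956 (BT.node 955 (BT.leaf cE955) (BT.leaf cE956)) (BT.leaf cE957)) (BT.node 958 (BT.leaf cE958) (BT.leaf cE959))))) (BT.node 969 (BT.node 964 (BT.node 962 (BT.node 961 (BT.node 960 (BT.leaf cE960) (BT.leaf cE961)) (BT.leaf cE962)) (BT.node 963 (BT.leaf cE963) (BT.leaf cE964))) (BT.node 967 (BT.node 966 (BT.node 965 (BT.leaf cE965) (BT.leaf cE966)) (BT.leaf cE967)) (BT.node 968 (BT.leaf cE968) (BT.leaf cE969)))) (BT.node 974 (BT.node 972 (BT.node 971 (BT.node 970 (BT.leaf cE970) (BT.leaf cE971)) (BT.leaf cE972)) (BT.node 973 (BT.leaf cE973) (BT.leaf cE974))) (BT.node 977 (BT.node 976 (BT.node 975 (BT.leaf cE975) (BT.leaf cE976)) (BT.leaf cE977)) (BT.node 978 (BT.leaf cE978) (BT.leaf cE979)))))) (BT.node 999 (BT.node 989 (BT.node 984 (BT.node 982 (BT.node 981 (BT.node 980 (BT.leaf cE980) (BT.leaf cE981)) (BT.leaf cE982)) (BT.node 983 (BT.leaf cE983) (BT.leaf cE984))) (BT.node 987 (BT.node 986 (BT.node 985 (BT.leaf cE985) (BT.leaf cE986)) (BT.leaf cE987)) (BT.node 988 (BT.leaf cE988) (BT.leaf cE989)))) (BT.node 994 (BT.node 992 (BT.node 991 (BT.node 990 (BT.leaf cE990) (BT.leaf cE991)) (BT.leaf cE992)) (BT.node 993 (BT.leaf cE993) (BT.leaf cE994))) (BT.node 997 (BT.node 996 (BT.node 995 (BT.leaf cE995) (BT.leaf cE996)) (BT.leaf cE997)) (BT.node 998 (BT.leaf cE998) (BT.leaf cE999))))) (BT.node 1009 (BT.node 1004 (BT.node 1002 (BT.node 1001 (BT.node 1000 (BT.leaf cE1000) (BT.leaf cE1001)) (BT.leaf cE1002)) (BT.node 1003 (BT.leaf cE1003) (BT.leaf cE1004))) (BT.node 1007 (BT.node 1006 (BT.node 1005 (BT.leaf cE1005) (BT.leaf cE1006)) (BT.leaf cE1007)) (BT.node 1008 (BT.leaf cE1008) (BT.leaf cE1009)))) (BT.node 1014 (BT.node 1012 (BT.node 1011 (BT.node 1010 (BT.leaf cE1010) (BT.leaf cE1011)) (BT.leaf cE1012)) (BT.node 1013 (BT.leaf cE1013) (BT.leaf cE1014))) (BT.node 1016 (BT.node 1015 (BT.leaf cE1015) (BT.leaf cE1016)) (BT.node 1017 (BT.leaf cE1017) (BT.leaf cE1018))))))) (BT.node 1057 (BT.node 1038 (BT.node 1028 (BT.node 1023 (BT.node 1021 (BT.node 1020 (BT.node 1019 (BT.leaf cE1019) (BT.leaf cE1020)) (BT.leaf cE1021)) (BT.node 1022 (BT.leaf cE1022) (BT.leaf cE1023))) (BT.node 1026 (BT.node 1025 (BT.node 1024 (BT.leaf cE1024) (BT.leaf cE1025)) (BT.leaf cE1026)) (BT.node 1027 (BT.leaf cE1027) (BT.leaf cE1028)))) (BT.node 1033 (BT.node 1031 (BT.node 1030 (BT.node 1029 (BT.leaf cE1029) (BT.leaf cE1030)) (BT.leaf cE1031)) (BT.node 1032 (BT.leaf cE1032) (BT.leaf cE1033))) (BT.node 1036 (BT.node 1035 (BT.node 1034 (BT.leaf cE1034) (BT.leaf cE1035)) (BT.leaf cE1036)) (BT.node 1037 (BT.leaf cE1037) (BT.leaf cE1038))))) (BT.node 1048 (BT.node 1043 (BT.node 1041 (BT.node 1040 (BT.node 1039 (BT.leaf cE1039) (BT.leaf cE1040)) (BT.leaf cE1041)) (BT.node 1042 (BT.leaf cE1042) (BT.leaf cE1043))) (BT.node 1046 (BT.node 1045 (BT.node 1044 (BT.leaf cE1044) (BT.leaf cE1045)) (BT.leaf cE1046)) (BT.node 1047 (BT.leaf cE1047) (BT.leaf cE1048)))) (BT.node 1053 (BT.node 1051 (BT.node 1050 (BT.node 1049 (BT.leaf cE1049) (BT.leaf cE1050)) (BT.leaf cE1051)) (BT.node 1052 (BT.leaf cE1052) (BT.leaf cE1053))) (BT.node 1055 (BT.node 1054 (BT.leaf cE1054) (BT.leaf cE1055)) (BT.node 1056 (BT.leaf cE1056) (BT.leaf cE1057)))))) (BT.node 1077 (BT.node 1067 (BT.node 1062 (BT.node 1060 (BT.node 1059 (BT.node 1058 (BT.leaf cE1058) (BT.leaf cE1059)) (BT.leaf cE1060)) (BT.node 1061 (BT.leaf cE1061) (BT.leaf cE1062))) (BT.node 1065 (BT.node 1064 (BT.node 1063 (BT.leaf cE1063) (BT.leaf cE1064)) (BT.leaf cE1065)) (BT.node 1066 (BT.leaf cE1066) (BT.leaf cE1067)))) (BT.node 1072 (BT.node 1070 (BT.node 1069 (BT.node 1068 (BT.leaf cE1068) (BT.leaf cE1069)) (BT.leaf cE1070)) (BT.node 1071 (BT.leaf cE1071) (BT.leaf cE1072))) (BT.node 1075 (BT.node 1074 (BT.node 1073 (BT.leaf cE1073) (BT.leaf cE1074)) (BT.leaf cE1075)) (BT.node 1076 (BT.leaf cE1076) (BT.leaf cE1077))))) (BT.node 1087 (BT.node 1082 (BT.node 1080 (BT.node 1079 (BT.node 1078 (BT.leaf cE1078) (BT.leaf cE1079)) (BT.leaf cE1080)) (BT.node 1081 (BT.leaf cE1081) (BT.leaf cE1082))) (BT.node 1085 (BT.node 1084 (BT.node 1083 (BT.leaf cE1083) (BT.leaf cE1084)) (BT.leaf cE1085)) (BT.node 1086 (BT.leaf cE1086) (BT.leaf cE1087)))) (BT.node 1092 (BT.node 1090 (BT.node 1089 (BT.node 1088 (BT.leaf cE1088) (BT.leaf cE1089)) (BT.leaf cE1090)) (BT.node 1091 (BT.leaf cE1091) (BT.leaf cE1092))) (BT.node 1094 (BT.node 1093 (BT.leaf cE1093) (BT.leaf cE1094)) (BT.node 1095 (BT.leaf cE1095) (BT.leaf cE1096)))))))) (BT.node 1174 (BT.node 1135 (BT.node 1116 (BT.node 1106 (BT.node 1101 (BT.node 1099 (BT.node 1098 (BT.node 1097 (BT.leaf cE1097) (BT.leaf cE1098)) (BT.leaf cE1099)) (BT.node 1100 (BT.leaf cE1100) (BT.leaf cE1101))) (BT.node 1104 (BT.node 1103 (BT.node 1102 (BT.leaf cE1102) (BT.leaf cE1103)) (BT.leaf cE1104)) (BT.node 1105 (BT.leaf cE1105) (BT.leaf cE1106)))) (BT.node 1111 (BT.node 1109 (BT.node 1108 (BT.node 1107 (BT.leaf cE1107) (BT.leaf cE1108)) (BT.leaf cE1109)) (BT.node 1110 (BT.leaf cE1110) (BT.leaf cE1111))) (BT.node 1114 (BT.node 1113 (BT.node 1112 (BT.leaf cE1112) (BT.leaf cE1113)) (BT.leaf cE1114)) (BT.node 1115 (BT.leaf cE1115) (BT.leaf cE1116))))) (BT.node 1126 (BT.node 1121 (BT.node 1119 (BT.node 1118 (BT.node 1117 (BT.leaf cE1117) (BT.leaf cE1118)) (BT.leaf cE1119)) (BT.node 1120 (BT.leaf cE1120) (BT.leaf cE1121))) (BT.node 1124 (BT.node 1123 (BT.node 1122 (BT.leaf cE1122) (BT.leaf cE1123)) (BT.leaf cE1124)) (BT.node 1125 (BT.leaf cE1125) (BT.leaf cE1126)))) (BT.node 1131 (BT.node 1129 (BT.node 1128 (BT.node 1127 (BT.leaf cE1127) (BT.leaf cE1128)) (BT.leaf cE1129)) (BT.node 1130 (BT.leaf cE1130) (BT.leaf cE1131))) (BT.node 1133 (BT.node 1132 (BT.leaf cE1132) (BT.leaf cE1133)) (BT.node 1134 (BT.leaf cE1134) (BT.leaf cE1135)))))) (BT.node 1155 (BT.node 1145 (BT.node 1140 (BT.node 1138 (BT.node 1137 (BT.node 1136 (BT.leaf cE1136) (BT.leaf cE1137)) (BT.leaf cE1138)) (BT.node 1139 (BT.leaf cE1139) (BT.leaf cE1140))) (BT.node 1143 (BT.node 1142 (BT.node 1141 (BT.leaf cE1141) (BT.leaf cE1142)) (BT.leaf cE1143)) (BT.node 1144 (BT.leaf cE1144) (BT.leaf cE1145)))) (BT.node 1150 (BT.node 1148 (BT.node 1147 (BT.node 1146 (BT.leaf cE1146) (BT.leaf cE1147)) (BT.leaf cE1148)) (BT.node 1149 (BT.leaf cE1149) (BT.leaf cE1150))) (BT.node 1153 (BT.node 1152 (BT.node 1151 (BT.leaf cE1151) (BT.leaf cE1152)) (BT.leaf cE1153)) (BT.node 1154 (BT.leaf cE1154) (BT.leaf cE1155))))) (BT.node 1165 (BT.node 1160 (BT.node 1158 (BT.node 1157 (BT.node 1156 (BT.leaf cE1156) (BT.leaf cE1157)) (BT.leaf cE1158)) (BT.node 1159 (BT.leaf cE1159) (BT.leaf cE1160))) (BT.node 1163 (BT.node 1162 (BT.node 1161 (BT.leaf cE1161) (BT.leaf cE1162)) (BT.leaf cE1163)) (BT.node 1164 (BT.leaf cE1164) (BT.leaf cE1165)))) (BT.node 1170 (BT.node 1168 (BT.node 1167 (BT.node 1166 (BT.leaf cE1166) (BT.leaf cE1167)) (BT.leaf cE1168)) (BT.node 1169 (BT.leaf cE1169) (BT.leaf cE1170))) (BT.node 1172 (BT.node 1171 (BT.leaf cE1171) (BT.leaf cE1172)) (BT.node 1173 (BT.leaf cE1173) (BT.leaf cE1174))))))) (BT.node 1213 (BT.node 1194 (BT.node 1184 (BT.node 1179 (BT.node 1177 (BT.node 1176 (BT.node 1175 (BT.leaf cE1175) (BT.leaf cE1176)) (BT.leaf cE1177)) (BT.node 1178 (BT.leaf cE1178) (BT.leaf cE1179))) (BT.node 1182 (BT.node 1181 (BT.node 1180 (BT.leaf cE1180) (BT.leaf cE1181)) (BT.leaf cE1182)) (BT.node 1183 (BT.leaf cE1183) (BT.leaf cE1184)))) (BT.node 1189 (BT.node 1187 (BT.node 1186 (BT.node 1185 (BT.leaf cE1185) (BT.leaf cE1186)) (BT.leaf cE1187)) (BT.node 1188 (BT.leaf cE1188) (BT.leaf cE1189))) (BT.node 1192 (BT.node 1191 (BT.node 1190 (BT.leaf cE1190) (BT.leaf cE1191)) (BT.leaf cE1192)) (BT.node 1193 (BT.leaf cE1193) (BT.leaf cE1194))))) (BT.node 1204 (BT.node 1199 (BT.node 1197 (BT.node 1196 (BT.node 1195 (BT.leaf cE1195) (BT.leaf cE1196)) (BT.leaf cE1197)) (BT.node 1198 (BT.leaf cE1198) (BT.leaf cE1199))) (BT.node 1202 (BT.node 1201 (BT.node 1200 (BT.leaf cE1200) (BT.leaf cE1201)) (BT.leaf cE1202)) (BT.node 1203 (BT.leaf cE1203) (BT.leaf cE1204)))) (BT.node 1209 (BT.node 1207 (BT.node 1206 (BT.node 1205 (BT.leaf cE1205) (BT.leaf cE1206)) (BT.leaf cE1207)) (BT.node 1208 (BT.leaf cE1208) (BT.leaf cE1209))) (BT.node 1211 (BT.node 1210 (BT.leaf cE1210) (BT.leaf cE1211)) (BT.node 1212 (BT.leaf cE1212) (BT.leaf cE1213)))))) (BT.node 1233 (BT.node 1223 (BT.node 1218 (BT.node 1216 (BT.node 1215 (BT.node 1214 (BT.leaf cE1214) (BT.leaf cE1215)) (BT.leaf cE1216)) (BT.node 1217 (BT.leaf cE1217) (BT.leaf cE1218))) (BT.node 1221 (BT.node 1220 (BT.node 1219 (BT.leaf cE1219) (BT.leaf cE1220)) (BT.leaf cE1221)) (BT.node 1222 (BT.leaf cE1222) (BT.leaf cE1223)))) (BT.node 1228 (BT.node 1226 (BT.node 1225 (BT.node 1224 (BT.leaf cE1224) (BT.leaf cE1225)) (BT.leaf cE1226)) (BT.node 1227 (BT.leaf cE1227) (BT.leaf cE1228))) (BT.node 1231 (BT.node 1230 (BT.node 1229 (BT.leaf cE1229) (BT.leaf cE1230)) (BT.leaf cE1231)) (BT.node 1232 (BT.leaf cE1232) (BT.leaf cE1233))))) (BT.node 1243 (BT.node 1238 (BT.node 1236 (BT.node 1235 (BT.node 1234 (BT.leaf cE1234) (BT.leaf cE1235)) (BT.leaf cE1236)) (BT.node 1237 (BT.leaf cE1237) (BT.leaf cE1238))) (BT.node 1241 (BT.node 1240 (BT.node 1239 (BT.leaf cE1239) (BT.leaf cE1240)) (BT.leaf cE1241)) (BT.node 1242 (BT.leaf cE1242) (BT.leaf cE1243)))) (BT.node 1248 (BT.node 1246 (BT.node 1245 (BT.node 1244 (BT.leaf cE1244) (BT.leaf cE1245)) (BT.leaf cE1246)) (BT.node 1247 (BT.leaf cE1247) (BT.leaf cE1248))) (BT.node 1250 (BT.node 1249 (BT.leaf cE1249) (BT.leaf cE1250)) (BT.node 1251 (BT.leaf cE1251) (BT.leaf cE1252))))))))))) (BT.node 1879 (BT.node 1566 (BT.node 1409 (BT.node 1331 (BT.node 1292 (BT.node 1272 (BT.node 1262 (BT.node 1257 (BT.node 1255 (BT.node 1254 (BT.node 1253 (BT.leaf cE1253) (BT.leaf cE1254)) (BT.leaf cE1255)) (BT.node 1256 (BT.leaf cE1256) (BT.leaf cE1257))) (BT.node 1260 (BT.node 1259 (BT.node 1258 (BT.leaf cE1258) (BT.leaf cE1259)) (BT.leaf cE1260)) (BT.node 1261 (BT.leaf cE1261) (BT.leaf cE1262)))) (BT.node 1267 (BT.node 1265 (BT.node 1264 (BT.node 1263 (BT.leaf cE1263) (BT.leaf cE1264)) (BT.leaf cE1265)) (BT.node 1266 (BT.leaf cE1266) (BT.leaf cE1267))) (BT.node 1270 (BT.node 1269 (BT.node 1268 (BT.leaf cE1268) (BT.leaf cE1269)) (BT.leaf cE1270)) (BT.node 1271 (BT.leaf cE1271) (BT.leaf cE1272))))) (BT.node 1282 (BT.node 1277 (BT.node 1275 (BT.node 1274 (BT.node 1273 (BT.leaf cE1273) (BT.leaf cE1274)) (BT.leaf cE1275)) (BT.node 1276 (BT.leaf cE1276) (BT.leaf cE1277))) (BT.node 1280 (BT.node 1279 (BT.node 1278 (BT.leaf cE1278) (BT.leaf cE1279)) (BT.leaf cE1280)) (BT.node 1281 (BT.leaf cE1281) (BT.leaf cE1282)))) (BT.node 1287 (BT.node 1285 (BT.node 1284 (BT.node 1283 (BT.leaf cE1283) (BT.leaf cE1284)) (BT.leaf cE1285)) (BT.node 1286 (BT.leaf cE1286) (BT.leaf cE1287))) (BT.node 1290 (BT.node 1289 (BT.node 1288 (BT.leaf cE1288) (BT.leaf cE1289)) (BT.leaf cE1290)) (BT.node 1291 (BT.leaf cE1291) (BT.leaf cE1292)))))) (BT.node 1312 (BT.node 1302 (BT.node 1297 (BT.node 1295 (BT.node 1294 (BT.node 1293 (BT.leaf cE1293) (BT.leaf cE1294)) (BT.leaf cE1295)) (BT.node 1296 (BT.leaf cE1296) (BT.leaf cE1297))) (BT.node 1300 (BT.node 1299 (BT.node 1298 (BT.leaf cE1298) (BT.leaf cE1299)) (BT.leaf cE1300)) (BT.node 1301 (BT.leaf cE1301) (BT.leaf cE1302)))) (BT.node 1307 (BT.node 1305 (BT.node 1304 (BT.node 1303 (BT.leaf cE1303) (BT.leaf cE1304)) (BT.leaf cE1305)) (BT.node 1306 (BT.leaf cE1306) (BT.leaf cE1307))) (BT.node 1310 (BT.node 1309 (BT.node 1308 (BT.leaf cE1308) (BT.leaf cE1309)) (BT.leaf cE1310)) (BT.node 1311 (BT.leaf cE1311) (BT.leaf cE1312))))) (BT.node 1322 (BT.node 1317 (BT.node 1315 (BT.node 1314 (BT.node 1313 (BT.leaf cE1313) (BT.leaf cE1314)) (BT.leaf cE1315)) (BT.node 1316 (BT.leaf cE1316) (BT.leaf cE1317))) (BT.node 1320 (BT.node 1319 (BT.node 1318 (BT.leaf cE1318) (BT.leaf cE1319)) (BT.leaf cE1320)) (BT.node 1321 (BT.leaf cE1321) (BT.leaf cE1322)))) (BT.node 1327 (BT.node 1325 (BT.node 1324 (BT.node 1323 (BT.leaf cE1323) (BT.leaf cE1324)) (BT.leaf cE1325)) (BT.node 1326 (BT.leaf cE1326) (BT.leaf cE1327))) (BT.node 1329 (BT.node 1328 (BT.leaf cE1328) (BT.leaf cE1329)) (BT.node 1330 (BT.leaf cE1330) (BT.leaf cE1331))))))) (BT.node 1370 (BT.node 1351 (BT.node 1341 (BT.node 1336 (BT.node 1334 (BT.node 1333 (BT.node 1332 (BT.leaf cE1332) (BT.leaf cE1333)) (BT.leaf cE1334)) (BT.node 1335 (BT.leaf cE1335) (BT.leaf cE1336))) (BT.node 1339 (BT.node 1338 (BT.node 1337 (BT.leaf cE1337) (BT.leaf cE1338)) (BT.leaf cE1339)) (BT.node 1340 (BT.leaf cE1340) (BT.leaf cE1341)))) (BT.node 1346 (BT.node 1344 (BT.node 1343 (BT.node 1342 (BT.leaf cE1342) (BT.leaf cE1343)) (BT.leaf cE1344)) (BT.node 1345 (BT.leaf cE1345) (BT.leaf cE1346))) (BT.node 1349 (BT.node 1348 (BT.node 1347 (BT.leaf cE1347) (BT.leaf cE1348)) (BT.leaf cE1349)) (BT.node 1350 (BT.leaf cE1350) (BT.leaf cE1351))))) (BT.node 1361 (BT.node 1356 (BT.node 1354 (BT.node 1353 (BT.node 1352 (BT.leaf cE1352) (BT.leaf cE1353)) (BT.leaf cE1354)) (BT.node 1355 (BT.leaf cE1355) (BT.leaf cE1356))) (BT.node 1359 (BT.node 1358 (BT.node 1357 (BT.leaf cE1357) (BT.leaf cE1358)) (BT.leaf cE1359)) (BT.node 1360 (BT.leaf cE1360) (BT.leaf cE1361)))) (BT.node 1366 (BT.node 1364 (BT.node 1363 (BT.node 1362 (BT.leaf cE1362) (BT.leaf cE1363)) (BT.leaf cE1364)) (BT.node 1365 (BT.leaf cE1365) (BT.leaf cE1366))) (BT.node 1368 (BT.node 1367 (BT.leaf cE1367) (BT.leaf cE1368)) (BT.node 1369 (BT.leaf cE1369) (BT.leaf cE1370)))))) (BT.node 1390 (BT.node 1380 (BT.node 1375 (BT.node 1373 (BT.node 1372 (BT.node 1371 (BT.leaf cE1371) (BT.leaf cE1372)) (BT.leaf cE1373)) (BT.node 1374 (BT.leaf cE1374) (BT.leaf cE1375))) (BT.node 1378 (BT.node 1377 (BT.node 1376 (BT.leaf cE1376) (BT.leaf cE1377)) (BT.leaf cE1378)) (BT.node 1379 (BT.leaf cE1379) (BT.leaf cE1380)))) (BT.node 1385 (BT.node 1383 (BT.node 1382 (BT.node 1381 (BT.leaf cE1381) (BT.leaf cE1382)) (BT.leaf cE1383)) (BT.node 1384 (BT.leaf cE1384) (BT.leaf cE1385))) (BT.node 1388 (BT.node 1387 (BT.node 1386 (BT.leaf cE1386) (BT.leaf cE1387)) (BT.leaf cE1388)) (BT.node 1389 (BT.leaf cE1389) (BT.leaf cE1390))))) (BT.node 1400 (BT.node 1395 (BT.node 1393 (BT.node 1392 (BT.node 1391 (BT.leaf cE1391) (BT.leaf cE1392)) (BT.leaf cE1393)) (BT.node 1394 (BT.leaf cE1394) (BT.leaf cE1395))) (BT.node 1398 (BT.node 1397 (BT.node 1396 (BT.leaf cE1396) (BT.leaf cE1397)) (BT.leaf cE1398)) (BT.node 1399 (BT.leaf cE1399) (BT.leaf cE1400)))) (BT.node 1405 (BT.node 1403 (BT.node 1402 (BT.node 1401 (BT.leaf cE1401) (BT.leaf cE1402)) (BT.leaf cE1403)) (BT.node 1404 (BT.leaf cE1404) (BT.leaf cE1405))) (BT.node 1407 (BT.node 1406 (BT.leaf cE1406) (BT.leaf cE1407)) (BT.node 1408 (BT.leaf cE1408) (BT.leaf cE1409)))))))) (BT.node 1488 (BT.node 1449 (BT.node 1429 (BT.node 1419 (BT.node 1414 (BT.node 1412 (BT.node 1411 (BT.node 1410 (BT.leaf cE1410) (BT.leaf cE1411)) (BT.leaf cE1412)) (BT.node 1413 (BT.leaf cE1413) (BT.leaf cE1414))) (BT.node 1417 (BT.node 1416 (BT.node 1415 (BT.leaf cE1415) (BT.leaf cE1416)) (BT.leaf cE1417)) (BT.node 1418 (BT.leaf cE1418) (BT.leaf cE1419)))) (BT.node 1424 (BT.node 1422 (BT.node 1421 (BT.node 1420 (BT.leaf cE1420) (BT.leaf cE1421)) (BT.leaf cE1422)) (BT.node 1423 (BT.leaf cE1423) (BT.leaf cE1424))) (BT.node 1427 (BT.node 1426 (BT.node 1425 (BT.leaf cE1425) (BT.leaf cE1426)) (BT.leaf cE1427)) (BT.node 1428 (BT.leaf cE1428) (BT.leaf cE1429))))) (BT.node 1439 (BT.node 1434 (BT.node 1432 (BT.node 1431 (BT.node 1430 (BT.leaf cE1430) (BT.leaf cE1431)) (BT.leaf cE1432)) (BT.node 1433 (BT.leaf cE1433) (BT.leaf cE1434))) (BT.node 1437 (BT.node 1436 (BT.node 1435 (BT.leaf cE1435) (BT.leaf cE1436)) (BT.leaf cE1437)) (BT.node 1438 (BT.leaf cE1438) (BT.leaf cE1439)))) (BT.node 1444 (BT.node 1442 (BT.node 1441 (BT.node 1440 (BT.leaf cE1440) (BT.leaf cE1441)) (BT.leaf cE1442)) (BT.node 1443 (BT.leaf cE1443) (BT.leaf cE1444))) (BT.node 1447 (BT.node 1446 (BT.node 1445 (BT.leaf cE1445) (BT.leaf cE1446)) (BT.leaf cE1447)) (BT.node 1448 (BT.leaf cE1448) (BT.leaf cE1449)))))) (BT.node 1469 (BT.node 1459 (BT.node 1454 (BT.node 1452 (BT.node 1451 (BT.node 1450 (BT.leaf cE1450) (BT.leaf cE1451)) (BT.leaf cE1452)) (BT.node 1453 (BT.leaf cE1453) (BT.leaf cE1454))) (BT.node 1457 (BT.node 1456 (BT.node 1455 (BT.leaf cE1455) (BT.leaf cE1456)) (BT.leaf cE1457)) (BT.node 1458 (BT.leaf cE1458) (BT.leaf cE1459)))) (BT.node 1464 (BT.node 1462 (BT.node 1461 (BT.node 1460 (BT.leaf cE1460) (BT.leaf cE1461)) (BT.leaf cE1462)) (BT.node 1463 (BT.leaf cE1463) (BT.leaf cE1464))) (BT.node 1467 (BT.node 1466 (BT.node 1465 (BT.leaf cE1465) (BT.leaf cE1466)) (BT.leaf cE1467)) (BT.node 1468 (BT.leaf cE1468) (BT.leaf cE1469))))) (BT.node 1479 (BT.node 1474 (BT.node 1472 (BT.node 1471 (BT.node 1470 (BT.leaf cE1470) (BT.leaf cE1471)) (BT.leaf cE1472)) (BT.node 1473 (BT.leaf cE1473) (BT.leaf cE1474))) (BT.node 1477 (BT.node 1476 (BT.node 1475 (BT.leaf cE1475) (BT.leaf cE1476)) (BT.leaf cE1477)) (BT.node 1478 (BT.leaf cE1478) (BT.leaf cE1479)))) (BT.node 1484 (BT.node 1482 (BT.node 1481 (BT.node 1480 (BT.leaf cE1480) (BT.leaf cE1481)) (BT.leaf cE1482)) (BT.node 1483 (BT.leaf cE1483) (BT.leaf cE1484))) (BT.node 1486 (BT.node 1485 (BT.leaf cE1485) (BT.leaf cE1486)) (BT.node 1487 (BT.leaf cE1487) (BT.leaf cE1488))))))) (BT.node 1527 (BT.node 1508 (BT.node 1498 (BT.node 1493 (BT.node 1491 (BT.node 1490 (BT.node 1489 (BT.leaf cE1489) (BT.leaf cE1490)) (BT.leaf cE1491)) (BT.node 1492 (BT.leaf cE1492) (BT.leaf cE1493))) (BT.node 1496 (BT.node 1495 (BT.node 1494 (BT.leaf cE1494) (BT.leaf cE1495)) (BT.leaf cE1496)) (BT.node 1497 (BT.leaf cE1497) (BT.leaf cE1498)))) (BT.node 1503 (BT.node 1501 (BT.node 1500 (BT.node 1499 (BT.leaf cE1499) (BT.leaf cE1500)) (BT.leaf cE1501)) (BT.node 1502 (BT.leaf cE1502) (BT.leaf cE1503))) (BT.node 1506 (BT.node 1505 (BT.node 1504 (BT.leaf cE1504) (BT.leaf cE1505)) (BT.leaf cE1506)) (BT.node 1507 (BT.leaf cE1507) (BT.leaf cE1508))))) (BT.node 1518 (BT.node 1513 (BT.node 1511 (BT.node 1510 (BT.node 1509 (BT.leaf cE1509) (BT.leaf cE1510)) (BT.leaf cE1511)) (BT.node 1512 (BT.leaf cE1512) (BT.leaf cE1513))) (BT.node 1516 (BT.node 1515 (BT.node 1514 (BT.leaf cE1514) (BT.leaf cE1515)) (BT.leaf cE1516)) (BT.node 1517 (BT.leaf cE1517) (BT.leaf cE1518)))) (BT.node 1523 (BT.node 1521 (BT.node 1520 (BT.node 1519 (BT.leaf cE1519) (BT.leaf cE1520)) (BT.leaf cE1521)) (BT.node 1522 (BT.leaf cE1522) (BT.leaf cE1523))) (BT.node 1525 (BT.node 1524 (BT.leaf cE1524) (BT.leaf cE1525)) (BT.node 1526 (BT.leaf cE1526) (BT.leaf cE1527)))))) (BT.node 1547 (BT.node 1537 (BT.node 1532 (BT.node 1530 (BT.node 1529 (BT.node 1528 (BT.leaf cE1528) (BT.leaf cE1529)) (BT.leaf cE1530)) (BT.node 1531 (BT.leaf cE1531) (BT.leaf cE1532))) (BT.node 1535 (BT.node 1534 (BT.node 1533 (BT.leaf cE1533) (BT.leaf cE1534)) (BT.leaf cE1535)) (BT.node 1536 (BT.leaf cE1536) (BT.leaf cE1537)))) (BT.node 1542 (BT.node 1540 (BT.node 1539 (BT.node 1538 (BT.leaf cE1538) (BT.leaf cE1539)) (BT.leaf cE1540)) (BT.node 1541 (BT.leaf cE1541) (BT.leaf cE1542))) (BT.node 1545 (BT.node 1544 (BT.node 1543 (BT.leaf cE1543) (BT.leaf cE1544)) (BT.leaf cE1545)) (BT.node 1546 (BT.leaf cE1546) (BT.leaf cE1547))))) (BT.node 1557 (BT.node 1552 (BT.node 1550 (BT.node 1549 (BT.node 1548 (BT.leaf cE1548) (BT.leaf cE1549)) (BT.leaf cE1550)) (BT.node 1551 (BT.leaf cE1551) (BT.leaf cE1552))) (BT.node 1555 (BT.node 1554 (BT.node 1553 (BT.leaf cE1553) (BT.leaf cE1554)) (BT.leaf cE1555)) (BT.node 1556 (BT.leaf cE1556) (BT.leaf cE1557)))) (BT.node 1562 (BT.node 1560 (BT.node 1559 (BT.node 1558 (BT.leaf cE1558) (BT.leaf cE1559)) (BT.leaf cE1560)) (BT.node 1561 (BT.leaf cE1561) (BT.leaf cE1562))) (BT.node 1564 (BT.node 1563 (BT.leaf cE1563) (BT.leaf cE1564)) (BT.node 1565 (BT.leaf cE1565) (BT.leaf cE1566))))))))) (BT.node 1723 (BT.node 1645 (BT.node 1606 (BT.node 1586 (BT.node 1576 (BT.node 1571 (BT.node 1569 (BT.node 1568 (BT.node 1567 (BT.leaf cE1567) (BT.leaf cE1568)) (BT.leaf cE1569)) (BT.node 1570 (BT.leaf cE1570) (BT.leaf cE1571))) (BT.node 1574 (BT.node 1573 (BT.node 1572 (BT.leaf cE1572) (BT.leaf cE1573)) (BT.leaf cE1574)) (BT.node 1575 (BT.leaf cE1575) (BT.leaf cE1576)))) (BT.node 1581 (BT.node 1579 (BT.node 1578 (BT.node 1577 (BT.leaf cE1577) (BT.leaf cE1578)) (BT.leaf cE1579)) (BT.node 1580 (BT.leaf cE1580) (BT.leaf cE1581))) (BT.node 1584 (BT.node 1583 (BT.node 1582 (BT.leaf cE1582) (BT.leaf cE1583)) (BT.leaf cE1584)) (BT.node 1585 (BT.leaf cE1585) (BT.leaf cE1586))))) (BT.node 1596 (BT.node 1591 (BT.node 1589 (BT.node 1588 (BT.node 1587 (BT.leaf cE1587) (BT.leaf cE1588)) (BT.leaf cE1589)) (BT.node 1590 (BT.leaf cE1590) (BT.leaf cE1591))) (BT.node 1594 (BT.node 1593 (BT.node 1592 (BT.leaf cE1592) (BT.leaf cE1593)) (BT.leaf cE1594)) (BT.node 1595 (BT.leaf cE1595) (BT.leaf cE1596)))) (BT.node 1601 (BT.node 1599 (BT.node 1598 (BT.node 1597 (BT.leaf cE1597) (BT.leaf cE1598)) (BT.leaf cE1599)) (BT.node 1600 (BT.leaf cE1600) (BT.leaf cE1601))) (BT.node 1604 (BT.node 1603 (BT.node 1602 (BT.leaf cE1602) (BT.leaf cE1603)) (BT.leaf cE1604)) (BT.node 1605 (BT.leaf cE1605) (BT.leaf cE1606)))))) (BT.node 1626 (BT.node 1616 (BT.node 1611 (BT.node 1609 (BT.node 1608 (BT.node 1607 (BT.leaf cE1607) (BT.leaf cE1608)) (BT.leaf cE1609)) (BT.node 1610 (BT.leaf cE1610) (BT.leaf cE1611))) (BT.node 1614 (BT.node 1613 (BT.node 1612 (BT.leaf cE1612) (BT.leaf cE1613)) (BT.leaf cE1614)) (BT.node 1615 (BT.leaf cE1615) (BT.leaf cE1616)))) (BT.node 1621 (BT.node 1619 (BT.node 1618 (BT.node 1617 (BT.leaf cE1617) (BT.leaf cE1618)) (BT.leaf cE1619)) (BT.node 1620 (BT.leaf cE1620) (BT.leaf cE1621))) (BT.node 1624 (BT.node 1623 (BT.node 1622 (BT.leaf cE1622) (BT.leaf cE1623)) (BT.leaf cE1624)) (BT.node 1625 (BT.leaf cE1625) (BT.leaf cE1626))))) (BT.node 1636 (BT.node 1631 (BT.node 1629 (BT.node 1628 (BT.node 1627 (BT.leaf cE1627) (BT.leaf cE1628)) (BT.leaf cE1629)) (BT.node 1630 (BT.leaf cE1630) (BT.leaf cE1631))) (BT.node 1634 (BT.node 1633 (BT.node 1632 (BT.leaf cE1632) (BT.leaf cE1633)) (BT.leaf cE1634)) (BT.node 1635 (BT.leaf cE1635) (BT.leaf cE1636)))) (BT.node 1641 (BT.node 1639 (BT.node 1638 (BT.node 1637 (BT.leaf cE1637) (BT.leaf cE1638)) (BT.leaf cE1639)) (BT.node 1640 (BT.leaf cE1640) (BT.leaf cE1641))) (BT.node 1643 (BT.node 1642 (BT.leaf cE1642) (BT.leaf cE1643)) (BT.node 1644 (BT.leaf cE1644) (BT.leaf cE1645))))))) (BT.node 1684 (BT.node 1665 (BT.node 1655 (BT.node 1650 (BT.node 1648 (BT.node 1647 (BT.node 1646 (BT.leaf cE1646) (BT.leaf cE1647)) (BT.leaf cE1648)) (BT.node 1649 (BT.leaf cE1649) (BT.leaf cE1650))) (BT.node 1653 (BT.node 1652 (BT.node 1651 (BT.leaf cE1651) (BT.leaf cE1652)) (BT.leaf cE1653)) (BT.node 1654 (BT.leaf cE1654) (BT.leaf cE1655)))) (BT.node 1660 (BT.node 1658 (BT.node 1657 (BT.node 1656 (BT.leaf cE1656) (BT.leaf cE1657)) (BT.leaf cE1658)) (BT.node 1659 (BT.leaf cE1659) (BT.leaf cE1660))) (BT.node 1663 (BT.node 1662 (BT.node 1661 (BT.leaf cE1661) (BT.leaf cE1662)) (BT.leaf cE1663)) (BT.node 1664 (BT.leaf cE1664) (BT.leaf cE1665))))) (BT.node 1675 (BT.node 1670 (BT.node 1668 (BT.node 1667 (BT.node 1666 (BT.leaf cE1666) (BT.leaf cE1667)) (BT.leaf cE1668)) (BT.node 1669 (BT.leaf cE1669) (BT.leaf cE1670))) (BT.node 1673 (BT.node 1672 (BT.node 1671 (BT.leaf cE1671) (BT.leaf cE1672)) (BT.leaf cE1673)) (BT.node 1674 (BT.leaf cE1674) (BT.leaf cE1675)))) (BT.node 1680 (BT.node 1678 (BT.node 1677 (BT.node 1676 (BT.leaf cE1676) (BT.leaf cE1677)) (BT.leaf cE1678)) (BT.node 1679 (BT.leaf cE1679) (BT.leaf cE1680))) (BT.node 1682 (BT.node 1681 (BT.leaf cE1681) (BT.leaf cE1682)) (BT.node 1683 (BT.leaf cE1683) (BT.leaf cE1684)))))) (BT.node 1704 (BT.node 1694 (BT.node 1689 (BT.node 1687 (BT.node 1686 (BT.node 1685 (BT.leaf cE1685) (BT.leaf cE1686)) (BT.leaf cE1687)) (BT.node 1688 (BT.leaf cE1688) (BT.leaf cE1689))) (BT.node 1692 (BT.node 1691 (BT.node 1690 (BT.leaf cE1690) (BT.leaf cE1691)) (BT.leaf cE1692)) (BT.node 1693 (BT.leaf cE1693) (BT.leaf cE1694)))) (BT.node 1699 (BT.node 1697 (BT.node 1696 (BT.node 1695 (BT.leaf cE1695) (BT.leaf cE1696)) (BT.leaf cE1697)) (BT.node 1698 (BT.leaf cE1698) (BT.leaf cE1699))) (BT.node 1702 (BT.node 1701 (BT.node 1700 (BT.leaf cE1700) (BT.leaf cE1701)) (BT.leaf cE1702)) (BT.node 1703 (BT.leaf cE1703) (BT.leaf cE1704))))) (BT.node 1714 (BT.node 1709 (BT.node 1707 (BT.node 1706 (BT.node 1705 (BT.leaf cE1705) (BT.leaf cE1706)) (BT.leaf cE1707)) (BT.node 1708 (BT.leaf cE1708) (BT.leaf cE1709))) (BT.node 1712 (BT.node 1711 (BT.node 1710 (BT.leaf cE1710) (BT.leaf cE1711)) (BT.leaf cE1712)) (BT.node 1713 (BT.leaf cE1713) (BT.leaf cE1714)))) (BT.node 1719 (BT.node 1717 (BT.node 1716 (BT.node 1715 (BT.leaf cE1715) (BT.leaf cE1716)) (BT.leaf cE1717)) (BT.node 1718 (BT.leaf cE1718) (BT.leaf cE1719))) (BT.node 1721 (BT.node 1720 (BT.leaf cE1720) (BT.leaf cE1721)) (BT.node 1722 (BT.leaf cE1722) (BT.leaf cE1723)))))))) (BT.node 1801 (BT.node 1762 (BT.node 1743 (BT.node 1733 (BT.node 1728 (BT.node 1726 (BT.node 1725 (BT.node 1724 (BT.leaf cE1724) (BT.leaf cE1725)) (BT.leaf cE1726)) (BT.node 1727 (BT.leaf cE1727) (BT.leaf cE1728))) (BT.node 1731 (BT.node 1730 (BT.node 1729 (BT.leaf cE1729) (BT.leaf cE1730)) (BT.leaf cE1731)) (BT.node 1732 (BT.leaf cE1732) (BT.leaf cE1733)))) (BT.node 1738 (BT.node 1736 (BT.node 1735 (BT.node 1734 (BT.leaf cE1734) (BT.leaf cE1735)) (BT.leaf cE1736)) (BT.node 1737 (BT.leaf cE1737) (BT.leaf cE1738))) (BT.node 1741 (BT.node 1740 (BT.node 1739 (BT.leaf cE1739) (BT.leaf cE1740)) (BT.leaf cE1741)) (BT.node 1742 (BT.leaf cE1742) (BT.leaf cE1743))))) (BT.node 1753 (BT.node 1748 (BT.node 1746 (BT.node 1745 (BT.node 1744 (BT.leaf cE1744) (BT.leaf cE1745)) (BT.leaf cE1746)) (BT.node 1747 (BT.leaf cE1747) (BT.leaf cE1748))) (BT.node 1751 (BT.node 1750 (BT.node 1749 (BT.leaf cE1749) (BT.leaf cE1750)) (BT.leaf cE1751)) (BT.node 1752 (BT.leaf cE1752) (BT.leaf cE1753)))) (BT.node 1758 (BT.node 1756 (BT.node 1755 (BT.node 1754 (BT.leaf cE1754) (BT.leaf cE1755)) (BT.leaf cE1756)) (BT.node 1757 (BT.leaf cE1757) (BT.leaf cE1758))) (BT.node 1760 (BT.node 1759 (BT.leaf cE1759) (BT.leaf cE1760)) (BT.node 1761 (BT.leaf cE1761) (BT.leaf cE1762)))))) (BT.node 1782 (BT.node 1772 (BT.node 1767 (BT.node 1765 (BT.node 1764 (BT.node 1763 (BT.leaf cE1763) (BT.leaf cE1764)) (BT.leaf cE1765)) (BT.node 1766 (BT.leaf cE1766) (BT.leaf cE1767))) (BT.node 1770 (BT.node 1769 (BT.node 1768 (BT.leaf cE1768) (BT.leaf cE1769)) (BT.leaf cE1770)) (BT.node 1771 (BT.leaf cE1771) (BT.leaf cE1772)))) (BT.node 1777 (BT.node 1775 (BT.node 1774 (BT.node 1773 (BT.leaf cE1773) (BT.leaf cE1774)) (BT.leaf cE1775)) (BT.node 1776 (BT.leaf cE1776) (BT.leaf cE1777))) (BT.node 1780 (BT.node 1779 (BT.node 1778 (BT.leaf cE1778) (BT.leaf cE1779)) (BT.leaf cE1780)) (BT.node 1781 (BT.leaf cE1781) (BT.leaf cE1782))))) (BT.node 1792 (BT.node 1787 (BT.node 1785 (BT.node 1784 (BT.node 1783 (BT.leaf cE1783) (BT.leaf cE1784)) (BT.leaf cE1785)) (BT.node 1786 (BT.leaf cE1786) (BT.leaf cE1787))) (BT.node 1790 (BT.node 1789 (BT.node 1788 (BT.leaf cE1788) (BT.leaf cE1789)) (BT.leaf cE1790)) (BT.node 1791 (BT.leaf cE1791) (BT.leaf cE1792)))) (BT.node 1797 (BT.node 1795 (BT.node 1794 (BT.node 1793 (BT.leaf cE1793) (BT.leaf cE1794)) (BT.leaf cE1795)) (BT.node 1796 (BT.leaf cE1796) (BT.leaf cE1797))) (BT.node 1799 (BT.node 1798 (BT.leaf cE1798) (BT.leaf cE1799)) (BT.node 1800 (BT.leaf cE1800) (BT.leaf cE1801))))))) (BT.node 1840 (BT.node 1821 (BT.node 1811 (BT.node 1806 (BT.node 1804 (BT.node 1803 (BT.node 1802 (BT.leaf cE1802) (BT.leaf cE1803)) (BT.leaf cE1804)) (BT.node 1805 (BT.leaf cE1805) (BT.leaf cE1806))) (BT.node 1809 (BT.node 1808 (BT.node 1807 (BT.leaf cE1807) (BT.leaf cE1808)) (BT.leaf cE1809)) (BT.node 1810 (BT.leaf cE1810) (BT.leaf cE1811)))) (BT.node 1816 (BT.node 1814 (BT.node 1813 (BT.node 1812 (BT.leaf cE1812) (BT.leaf cE1813)) (BT.leaf cE1814)) (BT.node 1815 (BT.leaf cE1815) (BT.leaf cE1816))) (BT.node 1819 (BT.node 1818 (BT.node 1817 (BT.leaf cE1817) (BT.leaf cE1818)) (BT.leaf cE1819)) (BT.node 1820 (BT.leaf cE1820) (BT.leaf cE1821))))) (BT.node 1831 (BT.node 1826 (BT.node 1824 (BT.node 1823 (BT.node 1822 (BT.leaf cE1822) (BT.leaf cE1823)) (BT.leaf cE1824)) (BT.node 1825 (BT.leaf cE1825) (BT.leaf cE1826))) (BT.node 1829 (BT.node 1828 (BT.node 1827 (BT.leaf cE1827) (BT.leaf cE1828)) (BT.leaf cE1829)) (BT.node 1830 (BT.leaf cE1830) (BT.leaf cE1831)))) (BT.node 1836 (BT.node 1834 (BT.node 1833 (BT.node 1832 (BT.leaf cE1832) (BT.leaf cE1833)) (BT.leaf cE1834)) (BT.node 1835 (BT.leaf cE1835) (BT.leaf cE1836))) (BT.node 1838 (BT.node 1837 (BT.leaf cE1837) (BT.leaf cE1838)) (BT.node 1839 (BT.leaf cE1839) (BT.leaf cE1840)))))) (BT.node 1860 (BT.node 1850 (BT.node 1845 (BT.node 1843 (BT.node 1842 (BT.node 1841 (BT.leaf cE1841) (BT.leaf cE1842)) (BT.leaf cE1843)) (BT.node 1844 (BT.leaf cE1844) (BT.leaf cE1845))) (BT.node 1848 (BT.node 1847 (BT.node 1846 (BT.leaf cE1846) (BT.leaf cE1847)) (BT.leaf cE1848)) (BT.node 1849 (BT.leaf cE1849) (BT.leaf cE1850)))) (BT.node 1855 (BT.node 1853 (BT.node 1852 (BT.node 1851 (BT.leaf cE1851) (BT.leaf cE1852)) (BT.leaf cE1853)) (BT.node 1854 (BT.leaf cE1854) (BT.leaf cE1855))) (BT.node 1858 (BT.node 1857 (BT.node 1856 (BT.leaf cE1856) (BT.leaf cE1857)) (BT.leaf cE1858)) (BT.node 1859 (BT.leaf cE1859) (BT.leaf cE1860))))) (BT.node 1870 (BT.node 1865 (BT.node 1863 (BT.node 1862 (BT.node 1861 (BT.leaf cE1861) (BT.leaf cE1862)) (BT.leaf cE1863)) (BT.node 1864 (BT.leaf cE1864) (BT.leaf cE1865))) (BT.node 1868 (BT.node 1867 (BT.node 1866 (BT.leaf cE1866) (BT.leaf cE1867)) (BT.leaf cE1868)) (BT.node 1869 (BT.leaf cE1869) (BT.leaf cE1870)))) (BT.node 1875 (BT.node 1873 (BT.node 1872 (BT.node 1871 (BT.leaf cE1871) (BT.leaf cE1872)) (BT.leaf cE1873)) (BT.node 1874 (BT.leaf cE1874) (BT.leaf cE1875))) (BT.node 1877 (BT.node 1876 (BT.leaf cE1876) (BT.leaf cE1877)) (BT.node 1878 (BT.leaf cE1878) (BT.leaf cE1879)))))))))) (BT.node 2192 (BT.node 2036 (BT.node 1958 (BT.node 1919 (BT.node 1899 (BT.node 1889 (BT.node 1884 (BT.node 1882 (BT.node 1881 (BT.node 1880 (BT.leaf cE1880) (BT.leaf cE1881)) (BT.leaf cE1882)) (BT.node 1883 (BT.leaf cE1883) (BT.leaf cE1884))) (BT.node 1887 (BT.node 1886 (BT.node 1885 (BT.leaf cE1885) (BT.leaf cE1886)) (BT.leaf cE1887)) (BT.node 1888 (BT.leaf cE1888) (BT.leaf cE1889)))) (BT.node 1894 (BT.node 1892 (BT.node 1891 (BT.node 1890 (BT.leaf cE1890) (BT.leaf cE1891)) (BT.leaf cE1892)) (BT.node 1893 (BT.leaf cE1893) (BT.leaf cE1894))) (BT.node 1897 (BT.node 1896 (BT.node 1895 (BT.leaf cE1895) (BT.leaf cE1896)) (BT.leaf cE1897)) (BT.node 1898 (BT.leaf cE1898) (BT.leaf cE1899))))) (BT.node 1909 (BT.node 1904 (BT.node 1902 (BT.node 1901 (BT.node 1900 (BT.leaf cE1900) (BT.leaf cE1901)) (BT.leaf cE1902)) (BT.node 1903 (BT.leaf cE1903) (BT.leaf cE1904))) (BT.node 1907 (BT.node 1906 (BT.node 1905 (BT.leaf cE1905) (BT.leaf cE1906)) (BT.leaf cE1907)) (BT.node 1908 (BT.leaf cE1908) (BT.leaf cE1909)))) (BT.node 1914 (BT.node 1912 (BT.node 1911 (BT.node 1910 (BT.leaf cE1910) (BT.leaf cE1911)) (BT.leaf cE1912)) (BT.node 1913 (BT.leaf cE1913) (BT.leaf cE1914))) (BT.node 1917 (BT.node 1916 (BT.node 1915 (BT.leaf cE1915) (BT.leaf cE1916)) (BT.leaf cE1917)) (BT.node 1918 (BT.leaf cE1918) (BT.leaf cE1919)))))) (BT.node 1939 (BT.node 1929 (BT.node 1924 (BT.node 1922 (BT.node 1921 (BT.node 1920 (BT.leaf cE1920) (BT.leaf cE1921)) (BT.leaf cE1922)) (BT.node 1923 (BT.leaf cE1923) (BT.leaf cE1924))) (BT.node 1927 (BT.node 1926 (BT.node 1925 (BT.leaf cE1925) (BT.leaf cE1926)) (BT.leaf cE1927)) (BT.node 1928 (BT.leaf cE1928) (BT.leaf cE1929)))) (BT.node 1934 (BT.node 1932 (BT.node 1931 (BT.node 1930 (BT.leaf cE1930) (BT.leaf cE1931)) (BT.leaf cE1932)) (BT.node 1933 (BT.leaf cE1933) (BT.leaf cE1934))) (BT.node 1937 (BT.node 1936 (BT.node 1935 (BT.leaf cE1935) (BT.leaf cE1936)) (BT.leaf cE1937)) (BT.node 1938 (BT.leaf cE1938) (BT.leaf cE1939))))) (BT.node 1949 (BT.node 1944 (BT.node 1942 (BT.node 1941 (BT.node 1940 (BT.leaf cE1940) (BT.leaf cE1941)) (BT.leaf cE1942)) (BT.node 1943 (BT.leaf cE1943) (BT.leaf cE1944))) (BT.node 1947 (BT.node 1946 (BT.node 1945 (BT.leaf cE1945) (BT.leaf cE1946)) (BT.leaf cE1947)) (BT.node 1948 (BT.leaf cE1948) (BT.leaf cE1949)))) (BT.node 1954 (BT.node 1952 (BT.node 1951 (BT.node 1950 (BT.leaf cE1950) (BT.leaf cE1951)) (BT.leaf cE1952)) (BT.node 1953 (BT.leaf cE1953) (BT.leaf cE1954))) (BT.node 1956 (BT.node 1955 (BT.leaf cE1955) (BT.leaf cE1956)) (BT.node 1957 (BT.leaf cE1957) (BT.leaf cE1958))))))) (BT.node 1997 (BT.node 1978 (BT.node 1968 (BT.node 1963 (BT.node 1961 (BT.node 1960 (BT.node 1959 (BT.leaf cE1959) (BT.leaf cE1960)) (BT.leaf cE1961)) (BT.node 1962 (BT.leaf cE1962) (BT.leaf cE1963))) (BT.node 1966 (BT.node 1965 (BT.node 1964 (BT.leaf cE1964) (BT.leaf cE1965)) (BT.leaf cE1966)) (BT.node 1967 (BT.leaf cE1967) (BT.leaf cE1968)))) (BT.node 1973 (BT.node 1971 (BT.node 1970 (BT.node 1969 (BT.leaf cE1969) (BT.leaf cE1970)) (BT.leaf cE1971)) (BT.node 1972 (BT.leaf cE1972) (BT.leaf cE1973))) (BT.node 1976 (BT.node 1975 (BT.node 1974 (BT.leaf cE1974) (BT.leaf cE1975)) (BT.leaf cE1976)) (BT.node 1977 (BT.leaf cE1977) (BT.leaf cE1978))))) (BT.node 1988 (BT.node 1983 (BT.node 1981 (BT.node 1980 (BT.node 1979 (BT.leaf cE1979) (BT.leaf cE1980)) (BT.leaf cE1981)) (BT.node 1982 (BT.leaf cE1982) (BT.leaf cE1983))) (BT.node 1986 (BT.node 1985 (BT.node 1984 (BT.leaf cE1984) (BT.leaf cE1985)) (BT.leaf cE1986)) (BT.node 1987 (BT.leaf cE1987) (BT.leaf cE1988)))) (BT.node 1993 (BT.node 1991 (BT.node 1990 (BT.node 1989 (BT.leaf cE1989) (BT.leaf cE1990)) (BT.leaf cE1991)) (BT.node 1992 (BT.leaf cE1992) (BT.leaf cE1993))) (BT.node 1995 (BT.node 1994 (BT.leaf cE1994) (BT.leaf cE1995)) (BT.node 1996 (BT.leaf cE1996) (BT.leaf cE1997)))))) (BT.node 2017 (BT.node 2007 (BT.node 2002 (BT.node 2000 (BT.node 1999 (BT.node 1998 (BT.leaf cE1998) (BT.leaf cE1999)) (BT.leaf cE2000)) (BT.node 2001 (BT.leaf cE2001) (BT.leaf cE2002))) (BT.node 2005 (BT.node 2004 (BT.node 2003 (BT.leaf cE2003) (BT.leaf cE2004)) (BT.leaf cE2005)) (BT.node 2006 (BT.leaf cE2006) (BT.leaf cE2007)))) (BT.node 2012 (BT.node 2010 (BT.node 2009 (BT.node 2008 (BT.leaf cE2008) (BT.leaf cE2009)) (BT.leaf cE2010)) (BT.node 2011 (BT.leaf cE2011) (BT.leaf cE2012))) (BT.node 2015 (BT.node 2014 (BT.node 2013 (BT.leaf cE2013) (BT.leaf cE2014)) (BT.leaf cE2015)) (BT.node 2016 (BT.leaf cE2016) (BT.leaf cE2017))))) (BT.node 2027 (BT.node 2022 (BT.node 2020 (BT.node 2019 (BT.node 2018 (BT.leaf cE2018) (BT.leaf cE2019)) (BT.leaf cE2020)) (BT.node 2021 (BT.leaf cE2021) (BT.leaf cE2022))) (BT.node 2025 (BT.node 2024 (BT.node 2023 (BT.leaf cE2023) (BT.leaf cE2024)) (BT.leaf cE2025)) (BT.node 2026 (BT.leaf cE2026) (BT.leaf cE2027)))) (BT.node 2032 (BT.node 2030 (BT.node 2029 (BT.node 2028 (BT.leaf cE2028) (BT.leaf cE2029)) (BT.leaf cE2030)) (BT.node 2031 (BT.leaf cE2031) (BT.leaf cE2032))) (BT.node 2034 (BT.node 2033 (BT.leaf cE2033) (BT.leaf cE2034)) (BT.node 2035 (BT.leaf cE2035) (BT.leaf cE2036)))))))) (BT.node 2114 (BT.node 2075 (BT.node 2056 (BT.node 2046 (BT.node 2041 (BT.node 2039 (BT.node 2038 (BT.node 2037 (BT.leaf cE2037) (BT.leaf cE2038)) (BT.leaf cE2039)) (BT.node 2040 (BT.leaf cE2040) (BT.leaf cE2041))) (BT.node 2044 (BT.node 2043 (BT.node 2042 (BT.leaf cE2042) (BT.leaf cE2043)) (BT.leaf cE2044)) (BT.node 2045 (BT.leaf cE2045) (BT.leaf cE2046)))) (BT.node 2051 (BT.node 2049 (BT.node 2048 (BT.node 2047 (BT.leaf cE2047) (BT.leaf cE2048)) (BT.leaf cE2049)) (BT.node 2050 (BT.leaf cE2050) (BT.leaf cE2051))) (BT.node 2054 (BT.node 2053 (BT.node 2052 (BT.leaf cE2052) (BT.leaf cE2053)) (BT.leaf cE2054)) (BT.node 2055 (BT.leaf cE2055) (BT.leaf cE2056))))) (BT.node 2066 (BT.node 2061 (BT.node 2059 (BT.node 2058 (BT.node 2057 (BT.leaf cE2057) (BT.leaf cE2058)) (BT.leaf cE2059)) (BT.node 2060 (BT.leaf cE2060) (BT.leaf cE2061))) (BT.node 2064 (BT.node 2063 (BT.node 2062 (BT.leaf cE2062) (BT.leaf cE2063)) (BT.leaf cE2064)) (BT.node 2065 (BT.leaf cE2065) (BT.leaf cE2066)))) (BT.node 2071 (BT.node 2069 (BT.node 2068 (BT.node 2067 (BT.leaf cE2067) (BT.leaf cE2068)) (BT.leaf cE2069)) (BT.node 2070 (BT.leaf cE2070) (BT.leaf cE2071))) (BT.node 2073 (BT.node 2072 (BT.leaf cE2072) (BT.leaf cE2073)) (BT.node 2074 (BT.leaf cE2074) (BT.leaf cE2075)))))) (BT.node 2095 (BT.node 2085 (BT.node 2080 (BT.node 2078 (BT.node 2077 (BT.node 2076 (BT.leaf cE2076) (BT.leaf cE2077)) (BT.leaf cE2078)) (BT.node 2079 (BT.leaf cE2079) (BT.leaf cE2080))) (BT.node 2083 (BT.node 2082 (BT.node 2081 (BT.leaf cE2081) (BT.leaf cE2082)) (BT.leaf cE2083)) (BT.node 2084 (BT.leaf cE2084) (BT.leaf cE2085)))) (BT.node 2090 (BT.node 2088 (BT.node 2087 (BT.node 2086 (BT.leaf cE2086) (BT.leaf cE2087)) (BT.leaf cE2088)) (BT.node 2089 (BT.leaf cE2089) (BT.leaf cE2090))) (BT.node 2093 (BT.node 2092 (BT.node 2091 (BT.leaf cE2091) (BT.leaf cE2092)) (BT.leaf cE2093)) (BT.node 2094 (BT.leaf cE2094) (BT.leaf cE2095))))) (BT.node 2105 (BT.node 2100 (BT.node 2098 (BT.node 2097 (BT.node 2096 (BT.leaf cE2096) (BT.leaf cE2097)) (BT.leaf cE2098)) (BT.node 2099 (BT.leaf cE2099) (BT.leaf cE2100))) (BT.node 2103 (BT.node 2102 (BT.node 2101 (BT.leaf cE2101) (BT.leaf cE2102)) (BT.leaf cE2103)) (BT.node 2104 (BT.leaf cE2104) (BT.leaf cE2105)))) (BT.node 2110 (BT.node 2108 (BT.node 2107 (BT.node 2106 (BT.leaf cE2106) (BT.leaf cE2107)) (BT.leaf cE2108)) (BT.node 2109 (BT.leaf cE2109) (BT.leaf cE2110))) (BT.node 2112 (BT.node 2111 (BT.leaf cE2111) (BT.leaf cE2112)) (BT.node 2113 (BT.leaf cE2113) (BT.leaf cE2114))))))) (BT.node 2153 (BT.node 2134 (BT.node 2124 (BT.node 2119 (BT.node 2117 (BT.node 2116 (BT.node 2115 (BT.leaf cE2115) (BT.leaf cE2116)) (BT.leaf cE2117)) (BT.node 2118 (BT.leaf cE2118) (BT.leaf cE2119))) (BT.node 2122 (BT.node 2121 (BT.node 2120 (BT.leaf cE2120) (BT.leaf cE2121)) (BT.leaf cE2122)) (BT.node 2123 (BT.leaf cE2123) (BT.leaf cE2124)))) (BT.node 2129 (BT.node 2127 (BT.node 2126 (BT.node 2125 (BT.leaf cE2125) (BT.leaf cE2126)) (BT.leaf cE2127)) (BT.node 2128 (BT.leaf cE2128) (BT.leaf cE2129))) (BT.node 2132 (BT.node 2131 (BT.node 2130 (BT.leaf cE2130) (BT.leaf cE2131)) (BT.leaf cE2132)) (BT.node 2133 (BT.leaf cE2133) (BT.leaf cE2134))))) (BT.node 2144 (BT.node 2139 (BT.node 2137 (BT.node 2136 (BT.node 2135 (BT.leaf cE2135) (BT.leaf cE2136)) (BT.leaf cE2137)) (BT.node 2138 (BT.leaf cE2138) (BT.leaf cE2139))) (BT.node 2142 (BT.node 2141 (BT.node 2140 (BT.leaf cE2140) (BT.leaf cE2141)) (BT.leaf cE2142)) (BT.node 2143 (BT.leaf cE2143) (BT.leaf cE2144)))) (BT.node 2149 (BT.node 2147 (BT.node 2146 (BT.node 2145 (BT.leaf cE2145) (BT.leaf cE2146)) (BT.leaf cE2147)) (BT.node 2148 (BT.leaf cE2148) (BT.leaf cE2149))) (BT.node 2151 (BT.node 2150 (BT.leaf cE2150) (BT.leaf cE2151)) (BT.node 2152 (BT.leaf cE2152) (BT.leaf cE2153)))))) (BT.node 2173 (BT.node 2163 (BT.node 2158 (BT.node 2156 (BT.node 2155 (BT.node 2154 (BT.leaf cE2154) (BT.leaf cE2155)) (BT.leaf cE2156)) (BT.node 2157 (BT.leaf cE2157) (BT.leaf cE2158))) (BT.node 2161 (BT.node 2160 (BT.node 2159 (BT.leaf cE2159) (BT.leaf cE2160)) (BT.leaf cE2161)) (BT.node 2162 (BT.leaf cE2162) (BT.leaf cE2163)))) (BT.node 2168 (BT.node 2166 (BT.node 2165 (BT.node 2164 (BT.leaf cE2164) (BT.leaf cE2165)) (BT.leaf cE2166)) (BT.node 2167 (BT.leaf cE2167) (BT.leaf cE2168))) (BT.node 2171 (BT.node 2170 (BT.node 2169 (BT.leaf cE2169) (BT.leaf cE2170)) (BT.leaf cE2171)) (BT.node 2172 (BT.leaf cE2172) (BT.leaf cE2173))))) (BT.node 2183 (BT.node 2178 (BT.node 2176 (BT.node 2175 (BT.node 2174 (BT.leaf cE2174) (BT.leaf cE2175)) (BT.leaf cE2176)) (BT.node 2177 (BT.leaf cE2177) (BT.leaf cE2178))) (BT.node 2181 (BT.node 2180 (BT.node 2179 (BT.leaf cE2179) (BT.leaf cE2180)) (BT.leaf cE2181)) (BT.node 2182 (BT.leaf cE2182) (BT.leaf cE2183)))) (BT.node 2188 (BT.node 2186 (BT.node 2185 (BT.node 2184 (BT.leaf cE2184) (BT.leaf cE2185)) (BT.leaf cE2186)) (BT.node 2187 (BT.leaf cE2187) (BT.leaf cE2188))) (BT.node 2190 (BT.node 2189 (BT.leaf cE2189) (BT.leaf cE2190)) (BT.node 2191 (BT.leaf cE2191) (BT.leaf cE2192))))))))) (BT.node 2349 (BT.node 2271 (BT.node 2232 (BT.node 2212 (BT.node 2202 (BT.node 2197 (BT.node 2195 (BT.node 2194 (BT.node 2193 (BT.leaf cE2193) (BT.leaf cE2194)) (BT.leaf cE2195)) (BT.node 2196 (BT.leaf cE2196) (BT.leaf cE2197))) (BT.node 2200 (BT.node 2199 (BT.node 2198 (BT.leaf cE2198) (BT.leaf cE2199)) (BT.leaf cE2200)) (BT.node 2201 (BT.leaf cE2201) (BT.leaf cE2202)))) (BT.node 2207 (BT.node 2205 (BT.node 2204 (BT.node 2203 (BT.leaf cE2203) (BT.leaf cE2204)) (BT.leaf cE2205)) (BT.node 2206 (BT.leaf cE2206) (BT.leaf cE2207))) (BT.node 2210 (BT.node 2209 (BT.node 2208 (BT.leaf cE2208) (BT.leaf cE2209)) (BT.leaf cE2210)) (BT.node 2211 (BT.leaf cE2211) (BT.leaf cE2212))))) (BT.node 2222 (BT.node 2217 (BT.node 2215 (BT.node 2214 (BT.node 2213 (BT.leaf cE2213) (BT.leaf cE2214)) (BT.leaf cE2215)) (BT.node 2216 (BT.leaf cE2216) (BT.leaf cE2217))) (BT.node 2220 (BT.node 2219 (BT.node 2218 (BT.leaf cE2218) (BT.leaf cE2219)) (BT.leaf cE2220)) (BT.node 2221 (BT.leaf cE2221) (BT.leaf cE2222)))) (BT.node 2227 (BT.node 2225 (BT.node 2224 (BT.node 2223 (BT.leaf cE2223) (BT.leaf cE2224)) (BT.leaf cE2225)) (BT.node 2226 (BT.leaf cE2226) (BT.leaf cE2227))) (BT.node 2230 (BT.node 2229 (BT.node 2228 (BT.leaf cE2228) (BT.leaf cE2229)) (BT.leaf cE2230)) (BT.node 2231 (BT.leaf cE2231) (BT.leaf cE2232)))))) (BT.node 2252 (BT.node 2242 (BT.node 2237 (BT.node 2235 (BT.node 2234 (BT.node 2233 (BT.leaf cE2233) (BT.leaf cE2234)) (BT.leaf cE2235)) (BT.node 2236 (BT.leaf cE2236) (BT.leaf cE2237))) (BT.node 2240 (BT.node 2239 (BT.node 2238 (BT.leaf cE2238) (BT.leaf cE2239)) (BT.leaf cE2240)) (BT.node 2241 (BT.leaf cE2241) (BT.leaf cE2242)))) (BT.node 2247 (BT.node 2245 (BT.node 2244 (BT.node 2243 (BT.leaf cE2243) (BT.leaf cE2244)) (BT.leaf cE2245)) (BT.node 2246 (BT.leaf cE2246) (BT.leaf cE2247))) (BT.node 2250 (BT.node 2249 (BT.node 2248 (BT.leaf cE2248) (BT.leaf cE2249)) (BT.leaf cE2250)) (BT.node 2251 (BT.leaf cE2251) (BT.leaf cE2252))))) (BT.node 2262 (BT.node 2257 (BT.node 2255 (BT.node 2254 (BT.node 2253 (BT.leaf cE2253) (BT.leaf cE2254)) (BT.leaf cE2255)) (BT.node 2256 (BT.leaf cE2256) (BT.leaf cE2257))) (BT.node 2260 (BT.node 2259 (BT.node 2258 (BT.leaf cE2258) (BT.leaf cE2259)) (BT.leaf cE2260)) (BT.node 2261 (BT.leaf cE2261) (BT.leaf cE2262)))) (BT.node 2267 (BT.node 2265 (BT.node 2264 (BT.node 2263 (BT.leaf cE2263) (BT.leaf cE2264)) (BT.leaf cE2265)) (BT.node 2266 (BT.leaf cE2266) (BT.leaf cE2267))) (BT.node 2269 (BT.node 2268 (BT.leaf cE2268) (BT.leaf cE2269)) (BT.node 2270 (BT.leaf cE2270) (BT.leaf cE2271))))))) (BT.node 2310 (BT.node 2291 (BT.node 2281 (BT.node 2276 (BT.node 2274 (BT.node 2273 (BT.node 2272 (BT.leaf cE2272) (BT.leaf cE2273)) (BT.leaf cE2274)) (BT.node 2275 (BT.leaf cE2275) (BT.leaf cE2276))) (BT.node 2279 (BT.node 2278 (BT.node 2277 (BT.leaf cE2277) (BT.leaf cE2278)) (BT.leaf cE2279)) (BT.node 2280 (BT.leaf cE2280) (BT.leaf cE2281)))) (BT.node 2286 (BT.node 2284 (BT.node 2283 (BT.node 2282 (BT.leaf cE2282) (BT.leaf cE2283)) (BT.leaf cE2284)) (BT.node 2285 (BT.leaf cE2285) (BT.leaf cE2286))) (BT.node 2289 (BT.node 2288 (BT.node 2287 (BT.leaf cE2287) (BT.leaf cE2288)) (BT.leaf cE2289)) (BT.node 2290 (BT.leaf cE2290) (BT.leaf cE2291))))) (BT.node 2301 (BT.node 2296 (BT.node 2294 (BT.node 2293 (BT.node 2292 (BT.leaf cE2292) (BT.leaf cE2293)) (BT.leaf cE2294)) (BT.node 2295 (BT.leaf cE2295) (BT.leaf cE2296))) (BT.node 2299 (BT.node 2298 (BT.node 2297 (BT.leaf cE2297) (BT.leaf cE2298)) (BT.leaf cE2299)) (BT.node 2300 (BT.leaf cE2300) (BT.leaf cE2301)))) (BT.node 2306 (BT.node 2304 (BT.node 2303 (BT.node 2302 (BT.leaf cE2302) (BT.leaf cE2303)) (BT.leaf cE2304)) (BT.node 2305 (BT.leaf cE2305) (BT.leaf cE2306))) (BT.node 2308 (BT.node 2307 (BT.leaf cE2307) (BT.leaf cE2308)) (BT.node 2309 (BT.leaf cE2309) (BT.leaf cE2310)))))) (BT.node 2330 (BT.node 2320 (BT.node 2315 (BT.node 2313 (BT.node 2312 (BT.node 2311 (BT.leaf cE2311) (BT.leaf cE2312)) (BT.leaf cE2313)) (BT.node 2314 (BT.leaf cE2314) (BT.leaf cE2315))) (BT.node 2318 (BT.node 2317 (BT.node 2316 (BT.leaf cE2316) (BT.leaf cE2317)) (BT.leaf cE2318)) (BT.node 2319 (BT.leaf cE2319) (BT.leaf cE2320)))) (BT.node 2325 (BT.node 2323 (BT.node 2322 (BT.node 2321 (BT.leaf cE2321) (BT.leaf cE2322)) (BT.leaf cE2323)) (BT.node 2324 (BT.leaf cE2324) (BT.leaf cE2325))) (BT.node 2328 (BT.node 2327 (BT.node 2326 (BT.leaf cE2326) (BT.leaf cE2327)) (BT.leaf cE2328)) (BT.node 2329 (BT.leaf cE2329) (BT.leaf cE2330))))) (BT.node 2340 (BT.node 2335 (BT.node 2333 (BT.node 2332 (BT.node 2331 (BT.leaf cE2331) (BT.leaf cE2332)) (BT.leaf cE2333)) (BT.node 2334 (BT.leaf cE2334) (BT.leaf cE2335))) (BT.node 2338 (BT.node 2337 (BT.node 2336 (BT.leaf cE2336) (BT.leaf cE2337)) (BT.leaf cE2338)) (BT.node 2339 (BT.leaf cE2339) (BT.leaf cE2340)))) (BT.node 2345 (BT.node 2343 (BT.node 2342 (BT.node 2341 (BT.leaf cE2341) (BT.leaf cE2342)) (BT.leaf cE2343)) (BT.node 2344 (BT.leaf cE2344) (BT.leaf cE2345))) (BT.node 2347 (BT.node 2346 (BT.leaf cE2346) (BT.leaf cE2347)) (BT.node 2348 (BT.leaf cE2348) (BT.leaf cE2349)))))))) (BT.node 2427 (BT.node 2388 (BT.node 2369 (BT.node 2359 (BT.node 2354 (BT.node 2352 (BT.node 2351 (BT.node 2350 (BT.leaf cE2350) (BT.leaf cE2351)) (BT.leaf cE2352)) (BT.node 2353 (BT.leaf cE2353) (BT.leaf cE2354))) (BT.node 2357 (BT.node 2356 (BT.node 2355 (BT.leaf cE2355) (BT.leaf cE2356)) (BT.leaf cE2357)) (BT.node 2358 (BT.leaf cE2358) (BT.leaf cE2359)))) (BT.node 2364 (BT.node 2362 (BT.node 2361 (BT.node 2360 (BT.leaf cE2360) (BT.leaf cE2361)) (BT.leaf cE2362)) (BT.node 2363 (BT.leaf cE2363) (BT.leaf cE2364))) (BT.node 2367 (BT.node 2366 (BT.node 2365 (BT.leaf cE2365) (BT.leaf cE2366)) (BT.leaf cE2367)) (BT.node 2368 (BT.leaf cE2368) (BT.leaf cE2369))))) (BT.node 2379 (BT.node 2374 (BT.node 2372 (BT.node 2371 (BT.node 2370 (BT.leaf cE2370) (BT.leaf cE2371)) (BT.leaf cE2372)) (BT.node 2373 (BT.leaf cE2373) (BT.leaf cE2374))) (BT.node 2377 (BT.node 2376 (BT.node 2375 (BT.leaf cE2375) (BT.leaf cE2376)) (BT.leaf cE2377)) (BT.node 2378 (BT.leaf cE2378) (BT.leaf cE2379)))) (BT.node 2384 (BT.node 2382 (BT.node 2381 (BT.node 2380 (BT.leaf cE2380) (BT.leaf cE2381)) (BT.leaf cE2382)) (BT.node 2383 (BT.leaf cE2383) (BT.leaf cE2384))) (BT.node 2386 (BT.node 2385 (BT.leaf cE2385) (BT.leaf cE2386)) (BT.node 2387 (BT.leaf cE2387) (BT.leaf cE2388)))))) (BT.node 2408 (BT.node 2398 (BT.node 2393 (BT.node 2391 (BT.node 2390 (BT.node 2389 (BT.leaf cE2389) (BT.leaf cE2390)) (BT.leaf cE2391)) (BT.node 2392 (BT.leaf cE2392) (BT.leaf cE2393))) (BT.node 2396 (BT.node 2395 (BT.node 2394 (BT.leaf cE2394) (BT.leaf cE2395)) (BT.leaf cE2396)) (BT.node 2397 (BT.leaf cE2397) (BT.leaf cE2398)))) (BT.node 2403 (BT.node 2401 (BT.node 2400 (BT.node 2399 (BT.leaf cE2399) (BT.leaf cE2400)) (BT.leaf cE2401)) (BT.node 2402 (BT.leaf cE2402) (BT.leaf cE2403))) (BT.node 2406 (BT.node 2405 (BT.node 2404 (BT.leaf cE2404) (BT.leaf cE2405)) (BT.leaf cE2406)) (BT.node 2407 (BT.leaf cE2407) (BT.leaf cE2408))))) (BT.node 2418 (BT.node 2413 (BT.node 2411 (BT.node 2410 (BT.node 2409 (BT.leaf cE2409) (BT.leaf cE2410)) (BT.leaf cE2411)) (BT.node 2412 (BT.leaf cE2412) (BT.leaf cE2413))) (BT.node 2416 (BT.node 2415 (BT.node 2414 (BT.leaf cE2414) (BT.leaf cE2415)) (BT.leaf cE2416)) (BT.node 2417 (BT.leaf cE2417) (BT.leaf cE2418)))) (BT.node 2423 (BT.node 2421 (BT.node 2420 (BT.node 2419 (BT.leaf cE2419) (BT.leaf cE2420)) (BT.leaf cE2421)) (BT.node 2422 (BT.leaf cE2422) (BT.leaf cE2423))) (BT.node 2425 (BT.node 2424 (BT.leaf cE2424) (BT.leaf cE2425)) (BT.node 2426 (BT.leaf cE2426) (BT.leaf cE2427))))))) (BT.node 2466 (BT.node 2447 (BT.node 2437 (BT.node 2432 (BT.node 2430 (BT.node 2429 (BT.node 2428 (BT.leaf cE2428) (BT.leaf cE2429)) (BT.leaf cE2430)) (BT.node 2431 (BT.leaf cE2431) (BT.leaf cE2432))) (BT.node 2435 (BT.node 2434 (BT.node 2433 (BT.leaf cE2433) (BT.leaf cE2434)) (BT.leaf cE2435)) (BT.node 2436 (BT.leaf cE2436) (BT.leaf cE2437)))) (BT.node 2442 (BT.node 2440 (BT.node 2439 (BT.node 2438 (BT.leaf cE2438) (BT.leaf cE2439)) (BT.leaf cE2440)) (BT.node 2441 (BT.leaf cE2441) (BT.leaf cE2442))) (BT.node 2445 (BT.node 2444 (BT.node 2443 (BT.leaf cE2443) (BT.leaf cE2444)) (BT.leaf cE2445)) (BT.node 2446 (BT.leaf cE2446) (BT.leaf cE2447))))) (BT.node 2457 (BT.node 2452 (BT.node 2450 (BT.node 2449 (BT.node 2448 (BT.leaf cE2448) (BT.leaf cE2449)) (BT.leaf cE2450)) (BT.node 2451 (BT.leaf cE2451) (BT.leaf cE2452))) (BT.node 2455 (BT.node 2454 (BT.node 2453 (BT.leaf cE2453) (BT.leaf cE2454)) (BT.leaf cE2455)) (BT.node 2456 (BT.leaf cE2456) (BT.leaf cE2457)))) (BT.node 2462 (BT.node 2460 (BT.node 2459 (BT.node 2458 (BT.leaf cE2458) (BT.leaf cE2459)) (BT.leaf cE2460)) (BT.node 2461 (BT.leaf cE2461) (BT.leaf cE2462))) (BT.node 2464 (BT.node 2463 (BT.leaf cE2463) (BT.leaf cE2464)) (BT.node 2465 (BT.leaf cE2465) (BT.leaf cE2466)))))) (BT.node 2486 (BT.node 2476 (BT.node 2471 (BT.node 2469 (BT.node 2468 (BT.node 2467 (BT.leaf cE2467) (BT.leaf cE2468)) (BT.leaf cE2469)) (BT.node 2470 (BT.leaf cE2470) (BT.leaf cE2471))) (BT.node 2474 (BT.node 2473 (BT.node 2472 (BT.leaf cE2472) (BT.leaf cE2473)) (BT.leaf cE2474)) (BT.node 2475 (BT.leaf cE2475) (BT.leaf cE2476)))) (BT.node 2481 (BT.node 2479 (BT.node 2478 (BT.node 2477 (BT.leaf cE2477) (BT.leaf cE2478)) (BT.leaf cE2479)) (BT.node 2480 (BT.leaf cE2480) (BT.leaf cE2481))) (BT.node 2484 (BT.node 2483 (BT.node 2482 (BT.leaf cE2482) (BT.leaf cE2483)) (BT.leaf cE2484)) (BT.node 2485 (BT.leaf cE2485) (BT.leaf cE2486))))) (BT.node 2496 (BT.node 2491 (BT.node 2489 (BT.node 2488 (BT.node 2487 (BT.leaf cE2487) (BT.leaf cE2488)) (BT.leaf cE2489)) (BT.node 2490 (BT.leaf cE2490) (BT.leaf cE2491))) (BT.node 2494 (BT.node 2493 (BT.node 2492 (BT.leaf cE2492) (BT.leaf cE2493)) (BT.leaf cE2494)) (BT.node 2495 (BT.leaf cE2495) (BT.leaf cE2496)))) (BT.node 2501 (BT.node 2499 (BT.node 2498 (BT.node 2497 (BT.leaf cE2497) (BT.leaf cE2498)) (BT.leaf cE2499)) (BT.node 2500 (BT.leaf cE2500) (BT.leaf cE2501))) (BT.node 2503 (BT.node 2502 (BT.leaf cE2502) (BT.leaf cE2503)) (BT.node 2504 (BT.leaf cE2504) (BT.leaf cE2505)))))))))))) (BT.node 3758 (BT.node 3132 (BT.node 2819 (BT.node 2662 (BT.node 2584 (BT.node 2545 (BT.node 2525 (BT.node 2515 (BT.node 2510 (BT.node 2508 (BT.node 2507 (BT.node 2506 (BT.leaf cE2506) (BT.leaf cE2507)) (BT.leaf cE2508)) (BT.node 2509 (BT.leaf cE2509) (BT.leaf cE2510))) (BT.node 2513 (BT.node 2512 (BT.node 2511 (BT.leaf cE2511) (BT.leaf cE2512)) (BT.leaf cE2513)) (BT.node 2514 (BT.leaf cE2514) (BT.leaf cE2515)))) (BT.node 2520 (BT.node 2518 (BT.node 2517 (BT.node 2516 (BT.leaf cE2516) (BT.leaf cE2517)) (BT.leaf cE2518)) (BT.node 2519 (BT.leaf cE2519) (BT.leaf cE2520))) (BT.node 2523 (BT.node 2522 (BT.node 2521 (BT.leaf cE2521) (BT.leaf cE2522)) (BT.leaf cE2523)) (BT.node 2524 (BT.leaf cE2524) (BT.leaf cE2525))))) (BT.node 2535 (BT.node 2530 (BT.node 2528 (BT.node 2527 (BT.node 2526 (BT.leaf cE2526) (BT.leaf cE2527)) (BT.leaf cE2528)) (BT.node 2529 (BT.leaf cE2529) (BT.leaf cE2530))) (BT.node 2533 (BT.node 2532 (BT.node 2531 (BT.leaf cE2531) (BT.leaf cE2532)) (BT.leaf cE2533)) (BT.node 2534 (BT.leaf cE2534) (BT.leaf cE2535)))) (BT.node 2540 (BT.node 2538 (BT.node 2537 (BT.node 2536 (BT.leaf cE2536) (BT.leaf cE2537)) (BT.leaf cE2538)) (BT.node 2539 (BT.leaf cE2539) (BT.leaf cE2540))) (BT.node 2543 (BT.node 2542 (BT.node 2541 (BT.leaf cE2541) (BT.leaf cE2542)) (BT.leaf cE2543)) (BT.node 2544 (BT.leaf cE2544) (BT.leaf cE2545)))))) (BT.node 2565 (BT.node 2555 (BT.node 2550 (BT.node 2548 (BT.node 2547 (BT.node 2546 (BT.leaf cE2546) (BT.leaf cE2547)) (BT.leaf cE2548)) (BT.node 2549 (BT.leaf cE2549) (BT.leaf cE2550))) (BT.node 2553 (BT.node 2552 (BT.node 2551 (BT.leaf cE2551) (BT.leaf cE2552)) (BT.leaf cE2553)) (BT.node 2554 (BT.leaf cE2554) (BT.leaf cE2555)))) (BT.node 2560 (BT.node 2558 (BT.node 2557 (BT.node 2556 (BT.leaf cE2556) (BT.leaf cE2557)) (BT.leaf cE2558)) (BT.node 2559 (BT.leaf cE2559) (BT.leaf cE2560))) (BT.node 2563 (BT.node 2562 (BT.node 2561 (BT.leaf cE2561) (BT.leaf cE2562)) (BT.leaf cE2563)) (BT.node 2564 (BT.leaf cE2564) (BT.leaf cE2565))))) (BT.node 2575 (BT.node 2570 (BT.node 2568 (BT.node 2567 (BT.node 2566 (BT.leaf cE2566) (BT.leaf cE2567)) (BT.leaf cE2568)) (BT.node 2569 (BT.leaf cE2569) (BT.leaf cE2570))) (BT.node 2573 (BT.node 2572 (BT.node 2571 (BT.leaf cE2571) (BT.leaf cE2572)) (BT.leaf cE2573)) (BT.node 2574 (BT.leaf cE2574) (BT.leaf cE2575)))) (BT.node 2580 (BT.node 2578 (BT.node 2577 (BT.node 2576 (BT.leaf cE2576) (BT.leaf cE2577)) (BT.leaf cE2578)) (BT.node 2579 (BT.leaf cE2579) (BT.leaf cE2580))) (BT.node 2582 (BT.node 2581 (BT.leaf cE2581) (BT.leaf cE2582)) (BT.node 2583 (BT.leaf cE2583) (BT.leaf cE2584))))))) (BT.node 2623 (BT.node 2604 (BT.node 2594 (BT.node 2589 (BT.node 2587 (BT.node 2586 (BT.node 2585 (BT.leaf cE2585) (BT.leaf cE2586)) (BT.leaf cE2587)) (BT.node 2588 (BT.leaf cE2588) (BT.leaf cE2589))) (BT.node 2592 (BT.node 2591 (BT.node 2590 (BT.leaf cE2590) (BT.leaf cE2591)) (BT.leaf cE2592)) (BT.node 2593 (BT.leaf cE2593) (BT.leaf cE2594)))) (BT.node 2599 (BT.node 2597 (BT.node 2596 (BT.node 2595 (BT.leaf cE2595) (BT.leaf cE2596)) (BT.leaf cE2597)) (BT.node 2598 (BT.leaf cE2598) (BT.leaf cE2599))) (BT.node 2602 (BT.node 2601 (BT.node 2600 (BT.leaf cE2600) (BT.leaf cE2601)) (BT.leaf cE2602)) (BT.node 2603 (BT.leaf cE2603) (BT.leaf cE2604))))) (BT.node 2614 (BT.node 2609 (BT.node 2607 (BT.node 2606 (BT.node 2605 (BT.leaf cE2605) (BT.leaf cE2606)) (BT.leaf cE2607)) (BT.node 2608 (BT.leaf cE2608) (BT.leaf cE2609))) (BT.node 2612 (BT.node 2611 (BT.node 2610 (BT.leaf cE2610) (BT.leaf cE2611)) (BT.leaf cE2612)) (BT.node 2613 (BT.leaf cE2613) (BT.leaf cE2614)))) (BT.node 2619 (BT.node 2617 (BT.node 2616 (BT.node 2615 (BT.leaf cE2615) (BT.leaf cE2616)) (BT.leaf cE2617)) (BT.node 2618 (BT.leaf cE2618) (BT.leaf cE2619))) (BT.node 2621 (BT.node 2620 (BT.leaf cE2620) (BT.leaf cE2621)) (BT.node 2622 (BT.leaf cE2622) (BT.leaf cE2623)))))) (BT.node 2643 (BT.node 2633 (BT.node 2628 (BT.node 2626 (BT.node 2625 (BT.node 2624 (BT.leaf cE2624) (BT.leaf cE2625)) (BT.leaf cE2626)) (BT.node 2627 (BT.leaf cE2627) (BT.leaf cE2628))) (BT.node 2631 (BT.node 2630 (BT.node 2629 (BT.leaf cE2629) (BT.leaf cE2630)) (BT.leaf cE2631)) (BT.node 2632 (BT.leaf cE2632) (BT.leaf cE2633)))) (BT.node 2638 (BT.node 2636 (BT.node 2635 (BT.node 2634 (BT.leaf cE2634) (BT.leaf cE2635)) (BT.leaf cE2636)) (BT.node 2637 (BT.leaf cE2637) (BT.leaf cE2638))) (BT.node 2641 (BT.node 2640 (BT.node 2639 (BT.leaf cE2639) (BT.leaf cE2640)) (BT.leaf cE2641)) (BT.node 2642 (BT.leaf cE2642) (BT.leaf cE2643))))) (BT.node 2653 (BT.node 2648 (BT.node 2646 (BT.node 2645 (BT.node 2644 (BT.leaf cE2644) (BT.leaf cE2645)) (BT.leaf cE2646)) (BT.node 2647 (BT.leaf cE2647) (BT.leaf cE2648))) (BT.node 2651 (BT.node 2650 (BT.node 2649 (BT.leaf cE2649) (BT.leaf cE2650)) (BT.leaf cE2651)) (BT.node 2652 (BT.leaf cE2652) (BT.leaf cE2653)))) (BT.node 2658 (BT.node 2656 (BT.node 2655 (BT.node 2654 (BT.leaf cE2654) (BT.leaf cE2655)) (BT.leaf cE2656)) (BT.node 2657 (BT.leaf cE2657) (BT.leaf cE2658))) (BT.node 2660 (BT.node 2659 (BT.leaf cE2659) (BT.leaf cE2660)) (BT.node 2661 (BT.leaf cE2661) (BT.leaf cE2662)))))))) (BT.node 2741 (BT.node 2702 (BT.node 2682 (BT.node 2672 (BT.node 2667 (BT.node 2665 (BT.node 2664 (BT.node 2663 (BT.leaf cE2663) (BT.leaf cE2664)) (BT.leaf cE2665)) (BT.node 2666 (BT.leaf cE2666) (BT.leaf cE2667))) (BT.node 2670 (BT.node 2669 (BT.node 2668 (BT.leaf cE2668) (BT.leaf cE2669)) (BT.leaf cE2670)) (BT.node 2671 (BT.leaf cE2671) (BT.leaf cE2672)))) (BT.node 2677 (BT.node 2675 (BT.node 2674 (BT.node 2673 (BT.leaf cE2673) (BT.leaf cE2674)) (BT.leaf cE2675)) (BT.node 2676 (BT.leaf cE2676) (BT.leaf cE2677))) (BT.node 2680 (BT.node 2679 (BT.node 2678 (BT.leaf cE2678) (BT.leaf cE2679)) (BT.leaf cE2680)) (BT.node 2681 (BT.leaf cE2681) (BT.leaf cE2682))))) (BT.node 2692 (BT.node 2687 (BT.node 2685 (BT.node 2684 (BT.node 2683 (BT.leaf cE2683) (BT.leaf cE2684)) (BT.leaf cE2685)) (BT.node 2686 (BT.leaf cE2686) (BT.leaf cE2687))) (BT.node 2690 (BT.node 2689 (BT.node 2688 (BT.leaf cE2688) (BT.leaf cE2689)) (BT.leaf cE2690)) (BT.node 2691 (BT.leaf cE2691) (BT.leaf cE2692)))) (BT.node 2697 (BT.node 2695 (BT.node 2694 (BT.node 2693 (BT.leaf cE2693) (BT.leaf cE2694)) (BT.leaf cE2695)) (BT.node 2696 (BT.leaf cE2696) (BT.leaf cE2697))) (BT.node 2700 (BT.node 2699 (BT.node 2698 (BT.leaf cE2698) (BT.leaf cE2699)) (BT.leaf cE2700)) (BT.node 2701 (BT.leaf cE2701) (BT.leaf cE2702)))))) (BT.node 2722 (BT.node 2712 (BT.node 2707 (BT.node 2705 (BT.node 2704 (BT.node 2703 (BT.leaf cE2703) (BT.leaf cE2704)) (BT.leaf cE2705)) (BT.node 2706 (BT.leaf cE2706) (BT.leaf cE2707))) (BT.node 2710 (BT.node 2709 (BT.node 2708 (BT.leaf cE2708) (BT.leaf cE2709)) (BT.leaf cE2710)) (BT.node 2711 (BT.leaf cE2711) (BT.leaf cE2712)))) (BT.node 2717 (BT.node 2715 (BT.node 2714 (BT.node 2713 (BT.leaf cE2713) (BT.leaf cE2714)) (BT.leaf cE2715)) (BT.node 2716 (BT.leaf cE2716) (BT.leaf cE2717))) (BT.node 2720 (BT.node 2719 (BT.node 2718 (BT.leaf cE2718) (BT.leaf cE2719)) (BT.leaf cE2720)) (BT.node 2721 (BT.leaf cE2721) (BT.leaf cE2722))))) (BT.node 2732 (BT.node 2727 (BT.node 2725 (BT.node 2724 (BT.node 2723 (BT.leaf cE2723) (BT.leaf cE2724)) (BT.leaf cE2725)) (BT.node 2726 (BT.leaf cE2726) (BT.leaf cE2727))) (BT.node 2730 (BT.node 2729 (BT.node 2728 (BT.leaf cE2728) (BT.leaf cE2729)) (BT.leaf cE2730)) (BT.node 2731 (BT.leaf cE2731) (BT.leaf cE2732)))) (BT.node 2737 (BT.node 2735 (BT.node 2734 (BT.node 2733 (BT.leaf cE2733) (BT.leaf cE2734)) (BT.leaf cE2735)) (BT.node 2736 (BT.leaf cE2736) (BT.leaf cE2737))) (BT.node 2739 (BT.node 2738 (BT.leaf cE2738) (BT.leaf cE2739)) (BT.node 2740 (BT.leaf cE2740) (BT.leaf cE2741))))))) (BT.node 2780 (BT.node 2761 (BT.node 2751 (BT.node 2746 (BT.node 2744 (BT.node 2743 (BT.node 2742 (BT.leaf cE2742) (BT.leaf cE2743)) (BT.leaf cE2744)) (BT.node 2745 (BT.leaf cE2745) (BT.leaf cE2746))) (BT.node 2749 (BT.node 2748 (BT.node 2747 (BT.leaf cE2747) (BT.leaf cE2748)) (BT.leaf cE2749)) (BT.node 2750 (BT.leaf cE2750) (BT.leaf cE2751)))) (BT.node 2756 (BT.node 2754 (BT.node 2753 (BT.node 2752 (BT.leaf cE2752) (BT.leaf cE2753)) (BT.leaf cE2754)) (BT.node 2755 (BT.leaf cE2755) (BT.leaf cE2756))) (BT.node 2759 (BT.node 2758 (BT.node 2757 (BT.leaf cE2757) (BT.leaf cE2758)) (BT.leaf cE2759)) (BT.node 2760 (BT.leaf cE2760) (BT.leaf cE2761))))) (BT.node 2771 (BT.node 2766 (BT.node 2764 (BT.node 2763 (BT.node 2762 (BT.leaf cE2762) (BT.leaf cE2763)) (BT.leaf cE2764)) (BT.node 2765 (BT.leaf cE2765) (BT.leaf cE2766))) (BT.node 2769 (BT.node 2768 (BT.node 2767 (BT.leaf cE2767) (BT.leaf cE2768)) (BT.leaf cE2769)) (BT.node 2770 (BT.leaf cE2770) (BT.leaf cE2771)))) (BT.node 2776 (BT.node 2774 (BT.node 2773 (BT.node 2772 (BT.leaf cE2772) (BT.leaf cE2773)) (BT.leaf cE2774)) (BT.node 2775 (BT.leaf cE2775) (BT.leaf cE2776))) (BT.node 2778 (BT.node 2777 (BT.leaf cE2777) (BT.leaf cE2778)) (BT.node 2779 (BT.leaf cE2779) (BT.leaf cE2780)))))) (BT.node 2800 (BT.node 2790 (BT.node 2785 (BT.node 2783 (BT.node 2782 (BT.node 2781 (BT.leaf cE2781) (BT.leaf cE2782)) (BT.leaf cE2783)) (BT.node 2784 (BT.leaf cE2784) (BT.leaf cE2785))) (BT.node 2788 (BT.node 2787 (BT.node 2786 (BT.leaf cE2786) (BT.leaf cE2787)) (BT.leaf cE2788)) (BT.node 2789 (BT.leaf cE2789) (BT.leaf cE2790)))) (BT.node 2795 (BT.node 2793 (BT.node 2792 (BT.node 2791 (BT.leaf cE2791) (BT.leaf cE2792)) (BT.leaf cE2793)) (BT.node 2794 (BT.leaf cE2794) (BT.leaf cE2795))) (BT.node 2798 (BT.node 2797 (BT.node 2796 (BT.leaf cE2796) (BT.leaf cE2797)) (BT.leaf cE2798)) (BT.node 2799 (BT.leaf cE2799) (BT.leaf cE2800))))) (BT.node 2810 (BT.node 2805 (BT.node 2803 (BT.node 2802 (BT.node 2801 (BT.leaf cE2801) (BT.leaf cE2802)) (BT.leaf cE2803)) (BT.node 2804 (BT.leaf cE2804) (BT.leaf cE2805))) (BT.node 2808 (BT.node 2807 (BT.node 2806 (BT.leaf cE2806) (BT.leaf cE2807)) (BT.leaf cE2808)) (BT.node 2809 (BT.leaf cE2809) (BT.leaf cE2810)))) (BT.node 2815 (BT.node 2813 (BT.node 2812 (BT.node 2811 (BT.leaf cE2811) (BT.leaf cE2812)) (BT.leaf cE2813)) (BT.node 2814 (BT.leaf cE2814) (BT.leaf cE2815))) (BT.node 2817 (BT.node 2816 (BT.leaf cE2816) (BT.leaf cE2817)) (BT.node 2818 (BT.leaf cE2818) (BT.leaf cE2819))))))))) (BT.node 2976 (BT.node 2898 (BT.node 2859 (BT.node 2839 (BT.node 2829 (BT.node 2824 (BT.node 2822 (BT.node 2821 (BT.node 2820 (BT.leaf cE2820) (BT.leaf cE2821)) (BT.leaf cE2822)) (BT.node 2823 (BT.leaf cE2823) (BT.leaf cE2824))) (BT.node 2827 (BT.node 2826 (BT.node 2825 (BT.leaf cE2825) (BT.leaf cE2826)) (BT.leaf cE2827)) (BT.node 2828 (BT.leaf cE2828) (BT.leaf cE2829)))) (BT.node 2834 (BT.node 2832 (BT.node 2831 (BT.node 2830 (BT.leaf cE2830) (BT.leaf cE2831)) (BT.leaf cE2832)) (BT.node 2833 (BT.leaf cE2833) (BT.leaf cE2834))) (BT.node 2837 (BT.node 2836 (BT.node 2835 (BT.leaf cE2835) (BT.leaf cE2836)) (BT.leaf cE2837)) (BT.node 2838 (BT.leaf cE2838) (BT.leaf cE2839))))) (BT.node 2849 (BT.node 2844 (BT.node 2842 (BT.node 2841 (BT.node 2840 (BT.leaf cE2840) (BT.leaf cE2841)) (BT.leaf cE2842)) (BT.node 2843 (BT.leaf cE2843) (BT.leaf cE2844))) (BT.node 2847 (BT.node 2846 (BT.node 2845 (BT.leaf cE2845) (BT.leaf cE2846)) (BT.leaf cE2847)) (BT.node 2848 (BT.leaf cE2848) (BT.leaf cE2849)))) (BT.node 2854 (BT.node 2852 (BT.node 2851 (BT.node 2850 (BT.leaf cE2850) (BT.leaf cE2851)) (BT.leaf cE2852)) (BT.node 2853 (BT.leaf cE2853) (BT.leaf cE2854))) (BT.node 2857 (BT.node 2856 (BT.node 2855 (BT.leaf cE2855) (BT.leaf cE2856)) (BT.leaf cE2857)) (BT.node 2858 (BT.leaf cE2858) (BT.leaf cE2859)))))) (BT.node 2879 (BT.node 2869 (BT.node 2864 (BT.node 2862 (BT.node 2861 (BT.node 2860 (BT.leaf cE2860) (BT.leaf cE2861)) (BT.leaf cE2862)) (BT.node 2863 (BT.leaf cE2863) (BT.leaf cE2864))) (BT.node 2867 (BT.node 2866 (BT.node 2865 (BT.leaf cE2865) (BT.leaf cE2866)) (BT.leaf cE2867)) (BT.node 2868 (BT.leaf cE2868) (BT.leaf cE2869)))) (BT.node 2874 (BT.node 2872 (BT.node 2871 (BT.node 2870 (BT.leaf cE2870) (BT.leaf cE2871)) (BT.leaf cE2872)) (BT.node 2873 (BT.leaf cE2873) (BT.leaf cE2874))) (BT.node 2877 (BT.node 2876 (BT.node 2875 (BT.leaf cE2875) (BT.leaf cE2876)) (BT.leaf cE2877)) (BT.node 2878 (BT.leaf cE2878) (BT.leaf cE2879))))) (BT.node 2889 (BT.node 2884 (BT.node 2882 (BT.node 2881 (BT.node 2880 (BT.leaf cE2880) (BT.leaf cE2881)) (BT.leaf cE2882)) (BT.node 2883 (BT.leaf cE2883) (BT.leaf cE2884))) (BT.node 2887 (BT.node 2886 (BT.node 2885 (BT.leaf cE2885) (BT.leaf cE2886)) (BT.leaf cE2887)) (BT.node 2888 (BT.leaf cE2888) (BT.leaf cE2889)))) (BT.node 2894 (BT.node 2892 (BT.node 2891 (BT.node 2890 (BT.leaf cE2890) (BT.leaf cE2891)) (BT.leaf cE2892)) (BT.node 2893 (BT.leaf cE2893) (BT.leaf cE2894))) (BT.node 2896 (BT.node 2895 (BT.leaf cE2895) (BT.leaf cE2896)) (BT.node 2897 (BT.leaf cE2897) (BT.leaf cE2898))))))) (BT.node 2937 (BT.node 2918 (BT.node 2908 (BT.node 2903 (BT.node 2901 (BT.node 2900 (BT.node 2899 (BT.leaf cE2899) (BT.leaf cE2900)) (BT.leaf cE2901)) (BT.node 2902 (BT.leaf cE2902) (BT.leaf cE2903))) (BT.node 2906 (BT.node 2905 (BT.node 2904 (BT.leaf cE2904) (BT.leaf cE2905)) (BT.leaf cE2906)) (BT.node 2907 (BT.leaf cE2907) (BT.leaf cE2908)))) (BT.node 2913 (BT.node 2911 (BT.node 2910 (BT.node 2909 (BT.leaf cE2909) (BT.leaf cE2910)) (BT.leaf cE2911)) (BT.node 2912 (BT.leaf cE2912) (BT.leaf cE2913))) (BT.node 2916 (BT.node 2915 (BT.node 2914 (BT.leaf cE2914) (BT.leaf cE2915)) (BT.leaf cE2916)) (BT.node 2917 (BT.leaf cE2917) (BT.leaf cE2918))))) (BT.node 2928 (BT.node 2923 (BT.node 2921 (BT.node 2920 (BT.node 2919 (BT.leaf cE2919) (BT.leaf cE2920)) (BT.leaf cE2921)) (BT.node 2922 (BT.leaf cE2922) (BT.leaf cE2923))) (BT.node 2926 (BT.node 2925 (BT.node 2924 (BT.leaf cE2924) (BT.leaf cE2925)) (BT.leaf cE2926)) (BT.node 2927 (BT.leaf cE2927) (BT.leaf cE2928)))) (BT.node 2933 (BT.node 2931 (BT.node 2930 (BT.node 2929 (BT.leaf cE2929) (BT.leaf cE2930)) (BT.leaf cE2931)) (BT.node 2932 (BT.leaf cE2932) (BT.leaf cE2933))) (BT.node 2935 (BT.node 2934 (BT.leaf cE2934) (BT.leaf cE2935)) (BT.node 2936 (BT.leaf cE2936) (BT.leaf cE2937)))))) (BT.node 2957 (BT.node 2947 (BT.node 2942 (BT.node 2940 (BT.node 2939 (BT.node 2938 (BT.leaf cE2938) (BT.leaf cE2939)) (BT.leaf cE2940)) (BT.node 2941 (BT.leaf cE2941) (BT.leaf cE2942))) (BT.node 2945 (BT.node 2944 (BT.node 2943 (BT.leaf cE2943) (BT.leaf cE2944)) (BT.leaf cE2945)) (BT.node 2946 (BT.leaf cE2946) (BT.leaf cE2947)))) (BT.node 2952 (BT.node 2950 (BT.node 2949 (BT.node 2948 (BT.leaf cE2948) (BT.leaf cE2949)) (BT.leaf cE2950)) (BT.node 2951 (BT.leaf cE2951) (BT.leaf cE2952))) (BT.node 2955 (BT.node 2954 (BT.node 2953 (BT.leaf cE2953) (BT.leaf cE2954)) (BT.leaf cE2955)) (BT.node 2956 (BT.leaf cE2956) (BT.leaf cE2957))))) (BT.node 2967 (BT.node 2962 (BT.node 2960 (BT.node 2959 (BT.node 2958 (BT.leaf cE2958) (BT.leaf cE2959)) (BT.leaf cE2960)) (BT.node 2961 (BT.leaf cE2961) (BT.leaf cE2962))) (BT.node 2965 (BT.node 2964 (BT.node 2963 (BT.leaf cE2963) (BT.leaf cE2964)) (BT.leaf cE2965)) (BT.node 2966 (BT.leaf cE2966) (BT.leaf cE2967)))) (BT.node 2972 (BT.node 2970 (BT.node 2969 (BT.node 2968 (BT.leaf cE2968) (BT.leaf cE2969)) (BT.leaf cE2970)) (BT.node 2971 (BT.leaf cE2971) (BT.leaf cE2972))) (BT.node 2974 (BT.node 2973 (BT.leaf cE2973) (BT.leaf cE2974)) (BT.node 2975 (BT.leaf cE2975) (BT.leaf cE2976)))))))) (BT.node 3054 (BT.node 3015 (BT.node 2996 (BT.node 2986 (BT.node 2981 (BT.node 2979 (BT.node 2978 (BT.node 2977 (BT.leaf cE2977) (BT.leaf cE2978)) (BT.leaf cE2979)) (BT.node 2980 (BT.leaf cE2980) (BT.leaf cE2981))) (BT.node 2984 (BT.node 2983 (BT.node 2982 (BT.leaf cE2982) (BT.leaf cE2983)) (BT.leaf cE2984)) (BT.node 2985 (BT.leaf cE2985) (BT.leaf cE2986)))) (BT.node 2991 (BT.node 2989 (BT.node 2988 (BT.node 2987 (BT.leaf cE2987) (BT.leaf cE2988)) (BT.leaf cE2989)) (BT.node 2990 (BT.leaf cE2990) (BT.leaf cE2991))) (BT.node 2994 (BT.node 2993 (BT.node 2992 (BT.leaf cE2992) (BT.leaf cE2993)) (BT.leaf cE2994)) (BT.node 2995 (BT.leaf cE2995) (BT.leaf cE2996))))) (BT.node 3006 (BT.node 3001 (BT.node 2999 (BT.node 2998 (BT.node 2997 (BT.leaf cE2997) (BT.leaf cE2998)) (BT.leaf cE2999)) (BT.node 3000 (BT.leaf cE3000) (BT.leaf cE3001))) (BT.node 3004 (BT.node 3003 (BT.node 3002 (BT.leaf cE3002) (BT.leaf cE3003)) (BT.leaf cE3004)) (BT.node 3005 (BT.leaf cE3005) (BT.leaf cE3006)))) (BT.node 3011 (BT.node 3009 (BT.node 3008 (BT.node 3007 (BT.leaf cE3007) (BT.leaf cE3008)) (BT.leaf cE3009)) (BT.node 3010 (BT.leaf cE3010) (BT.leaf cE3011))) (BT.node 3013 (BT.node 3012 (BT.leaf cE3012) (BT.leaf cE3013)) (BT.node 3014 (BT.leaf cE3014) (BT.leaf cE3015)))))) (BT.node 3035 (BT.node 3025 (BT.node 3020 (BT.node 3018 (BT.node 3017 (BT.node 3016 (BT.leaf cE3016) (BT.leaf cE3017)) (BT.leaf cE3018)) (BT.node 3019 (BT.leaf cE3019) (BT.leaf cE3020))) (BT.node 3023 (BT.node 3022 (BT.node 3021 (BT.leaf cE3021) (BT.leaf cE3022)) (BT.leaf cE3023)) (BT.node 3024 (BT.leaf cE3024) (BT.leaf cE3025)))) (BT.node 3030 (BT.node 3028 (BT.node 3027 (BT.node 3026 (BT.leaf cE3026) (BT.leaf cE3027)) (BT.leaf cE3028)) (BT.node 3029 (BT.leaf cE3029) (BT.leaf cE3030))) (BT.node 3033 (BT.node 3032 (BT.node 3031 (BT.leaf cE3031) (BT.leaf cE3032)) (BT.leaf cE3033)) (BT.node 3034 (BT.leaf cE3034) (BT.leaf cE3035))))) (BT.node 3045 (BT.node 3040 (BT.node 3038 (BT.node 3037 (BT.node 3036 (BT.leaf cE3036) (BT.leaf cE3037)) (BT.leaf cE3038)) (BT.node 3039 (BT.leaf cE3039) (BT.leaf cE3040))) (BT.node 3043 (BT.node 3042 (BT.node 3041 (BT.leaf cE3041) (BT.leaf cE3042)) (BT.leaf cE3043)) (BT.node 3044 (BT.leaf cE3044) (BT.leaf cE3045)))) (BT.node 3050 (BT.node 3048 (BT.node 3047 (BT.node 3046 (BT.leaf cE3046) (BT.leaf cE3047)) (BT.leaf cE3048)) (BT.node 3049 (BT.leaf cE3049) (BT.leaf cE3050))) (BT.node 3052 (BT.node 3051 (BT.leaf cE3051) (BT.leaf cE3052)) (BT.node 3053 (BT.leaf cE3053) (BT.leaf cE3054))))))) (BT.node 3093 (BT.node 3074 (BT.node 3064 (BT.node 3059 (BT.node 3057 (BT.node 3056 (BT.node 3055 (BT.leaf cE3055) (BT.leaf cE3056)) (BT.leaf cE3057)) (BT.node 3058 (BT.leaf cE3058) (BT.leaf cE3059))) (BT.node 3062 (BT.node 3061 (BT.node 3060 (BT.leaf cE3060) (BT.leaf cE3061)) (BT.leaf cE3062)) (BT.node 3063 (BT.leaf cE3063) (BT.leaf cE3064)))) (BT.node 3069 (BT.node 3067 (BT.node 3066 (BT.node 3065 (BT.leaf cE3065) (BT.leaf cE3066)) (BT.leaf cE3067)) (BT.node 3068 (BT.leaf cE3068) (BT.leaf cE3069))) (BT.node 3072 (BT.node 3071 (BT.node 3070 (BT.leaf cE3070) (BT.leaf cE3071)) (BT.leaf cE3072)) (BT.node 3073 (BT.leaf cE3073) (BT.leaf cE3074))))) (BT.node 3084 (BT.node 3079 (BT.node 3077 (BT.node 3076 (BT.node 3075 (BT.leaf cE3075) (BT.leaf cE3076)) (BT.leaf cE3077)) (BT.node 3078 (BT.leaf cE3078) (BT.leaf cE3079))) (BT.node 3082 (BT.node 3081 (BT.node 3080 (BT.leaf cE3080) (BT.leaf cE3081)) (BT.leaf cE3082)) (BT.node 3083 (BT.leaf cE3083) (BT.leaf cE3084)))) (BT.node 3089 (BT.node 3087 (BT.node 3086 (BT.node 3085 (BT.leaf cE3085) (BT.leaf cE3086)) (BT.leaf cE3087)) (BT.node 3088 (BT.leaf cE3088) (BT.leaf cE3089))) (BT.node 3091 (BT.node 3090 (BT.leaf cE3090) (BT.leaf cE3091)) (BT.node 3092 (BT.leaf cE3092) (BT.leaf cE3093)))))) (BT.node 3113 (BT.node 3103 (BT.node 3098 (BT.node 3096 (BT.node 3095 (BT.node 3094 (BT.leaf cE3094) (BT.leaf cE3095)) (BT.leaf cE3096)) (BT.node 3097 (BT.leaf cE3097) (BT.leaf cE3098))) (BT.node 3101 (BT.node 3100 (BT.node 3099 (BT.leaf cE3099) (BT.leaf cE3100)) (BT.leaf cE3101)) (BT.node 3102 (BT.leaf cE3102) (BT.leaf cE3103)))) (BT.node 3108 (BT.node 3106 (BT.node 3105 (BT.node 3104 (BT.leaf cE3104) (BT.leaf cE3105)) (BT.leaf cE3106)) (BT.node 3107 (BT.leaf cE3107) (BT.leaf cE3108))) (BT.node 3111 (BT.node 3110 (BT.node 3109 (BT.leaf cE3109) (BT.leaf cE3110)) (BT.leaf cE3111)) (BT.node 3112 (BT.leaf cE3112) (BT.leaf cE3113))))) (BT.node 3123 (BT.node 3118 (BT.node 3116 (BT.node 3115 (BT.node 3114 (BT.leaf cE3114) (BT.leaf cE3115)) (BT.leaf cE3116)) (BT.node 3117 (BT.leaf cE3117) (BT.leaf cE3118))) (BT.node 3121 (BT.node 3120 (BT.node 3119 (BT.leaf cE3119) (BT.leaf cE3120)) (BT.leaf cE3121)) (BT.node 3122 (BT.leaf cE3122) (BT.leaf cE3123)))) (BT.node 3128 (BT.node 3126 (BT.node 3125 (BT.node 3124 (BT.leaf cE3124) (BT.leaf cE3125)) (BT.leaf cE3126)) (BT.node 3127 (BT.leaf cE3127) (BT.leaf cE3128))) (BT.node 3130 (BT.node 3129 (BT.leaf cE3129) (BT.leaf cE3130)) (BT.node 3131 (BT.leaf cE3131) (BT.leaf cE3132)))))))))) (BT.node 3445 (BT.node 3289 (BT.node 3211 (BT.node 3172 (BT.node 3152 (BT.node 3142 (BT.node 3137 (BT.node 3135 (BT.node 3134 (BT.node 3133 (BT.leaf cE3133) (BT.leaf cE3134)) (BT.leaf cE3135)) (BT.node 3136 (BT.leaf cE3136) (BT.leaf cE3137))) (BT.node 3140 (BT.node 3139 (BT.node 3138 (BT.leaf cE3138) (BT.leaf cE3139)) (BT.leaf cE3140)) (BT.node 3141 (BT.leaf cE3141) (BT.leaf cE3142)))) (BT.node 3147 (BT.node 3145 (BT.node 3144 (BT.node 3143 (BT.leaf cE3143) (BT.leaf cE3144)) (BT.leaf cE3145)) (BT.node 3146 (BT.leaf cE3146) (BT.leaf cE3147))) (BT.node 3150 (BT.node 3149 (BT.node 3148 (BT.leaf cE3148) (BT.leaf cE3149)) (BT.leaf cE3150)) (BT.node 3151 (BT.leaf cE3151) (BT.leaf cE3152))))) (BT.node 3162 (BT.node 3157 (BT.node 3155 (BT.node 3154 (BT.node 3153 (BT.leaf cE3153) (BT.leaf cE3154)) (BT.leaf cE3155)) (BT.node 3156 (BT.leaf cE3156) (BT.leaf cE3157))) (BT.node 3160 (BT.node 3159 (BT.node 3158 (BT.leaf cE3158) (BT.leaf cE3159)) (BT.leaf cE3160)) (BT.node 3161 (BT.leaf cE3161) (BT.leaf cE3162)))) (BT.node 3167 (BT.node 3165 (BT.node 3164 (BT.node 3163 (BT.leaf cE3163) (BT.leaf cE3164)) (BT.leaf cE3165)) (BT.node 3166 (BT.leaf cE3166) (BT.leaf cE3167))) (BT.node 3170 (BT.node 3169 (BT.node 3168 (BT.leaf cE3168) (BT.leaf cE3169)) (BT.leaf cE3170)) (BT.node 3171 (BT.leaf cE3171) (BT.leaf cE3172)))))) (BT.node 3192 (BT.node 3182 (BT.node 3177 (BT.node 3175 (BT.node 3174 (BT.node 3173 (BT.leaf cE3173) (BT.leaf cE3174)) (BT.leaf cE3175)) (BT.node 3176 (BT.leaf cE3176) (BT.leaf cE3177))) (BT.node 3180 (BT.node 3179 (BT.node 3178 (BT.leaf cE3178) (BT.leaf cE3179)) (BT.leaf cE3180)) (BT.node 3181 (BT.leaf cE3181) (BT.leaf cE3182)))) (BT.node 3187 (BT.node 3185 (BT.node 3184 (BT.node 3183 (BT.leaf cE3183) (BT.leaf cE3184)) (BT.leaf cE3185)) (BT.node 3186 (BT.leaf cE3186) (BT.leaf cE3187))) (BT.node 3190 (BT.node 3189 (BT.node 3188 (BT.leaf cE3188) (BT.leaf cE3189)) (BT.leaf cE3190)) (BT.node 3191 (BT.leaf cE3191) (BT.leaf cE3192))))) (BT.node 3202 (BT.node 3197 (BT.node 3195 (BT.node 3194 (BT.node 3193 (BT.leaf cE3193) (BT.leaf cE3194)) (BT.leaf cE3195)) (BT.node 3196 (BT.leaf cE3196) (BT.leaf cE3197))) (BT.node 3200 (BT.node 3199 (BT.node 3198 (BT.leaf cE3198) (BT.leaf cE3199)) (BT.leaf cE3200)) (BT.node 3201 (BT.leaf cE3201) (BT.leaf cE3202)))) (BT.node 3207 (BT.node 3205 (BT.node 3204 (BT.node 3203 (BT.leaf cE3203) (BT.leaf cE3204)) (BT.leaf cE3205)) (BT.node 3206 (BT.leaf cE3206) (BT.leaf cE3207))) (BT.node 3209 (BT.node 3208 (BT.leaf cE3208) (BT.leaf cE3209)) (BT.node 3210 (BT.leaf cE3210) (BT.leaf cE3211))))))) (BT.node 3250 (BT.node 3231 (BT.node 3221 (BT.node 3216 (BT.node 3214 (BT.node 3213 (BT.node 3212 (BT.leaf cE3212) (BT.leaf cE3213)) (BT.leaf cE3214)) (BT.node 3215 (BT.leaf cE3215) (BT.leaf cE3216))) (BT.node 3219 (BT.node 3218 (BT.node 3217 (BT.leaf cE3217) (BT.leaf cE3218)) (BT.leaf cE3219)) (BT.node 3220 (BT.leaf cE3220) (BT.leaf cE3221)))) (BT.node 3226 (BT.node 3224 (BT.node 3223 (BT.node 3222 (BT.leaf cE3222) (BT.leaf cE3223)) (BT.leaf cE3224)) (BT.node 3225 (BT.leaf cE3225) (BT.leaf cE3226))) (BT.node 3229 (BT.node 3228 (BT.node 3227 (BT.leaf cE3227) (BT.leaf cE3228)) (BT.leaf cE3229)) (BT.node 3230 (BT.leaf cE3230) (BT.leaf cE3231))))) (BT.node 3241 (BT.node 3236 (BT.node 3234 (BT.node 3233 (BT.node 3232 (BT.leaf cE3232) (BT.leaf cE3233)) (BT.leaf cE3234)) (BT.node 3235 (BT.leaf cE3235) (BT.leaf cE3236))) (BT.node 3239 (BT.node 3238 (BT.node 3237 (BT.leaf cE3237) (BT.leaf cE3238)) (BT.leaf cE3239)) (BT.node 3240 (BT.leaf cE3240) (BT.leaf cE3241)))) (BT.node 3246 (BT.node 3244 (BT.node 3243 (BT.node 3242 (BT.leaf cE3242) (BT.leaf cE3243)) (BT.leaf cE3244)) (BT.node 3245 (BT.leaf cE3245) (BT.leaf cE3246))) (BT.node 3248 (BT.node 3247 (BT.leaf cE3247) (BT.leaf cE3248)) (BT.node 3249 (BT.leaf cE3249) (BT.leaf cE3250)))))) (BT.node 3270 (BT.node 3260 (BT.node 3255 (BT.node 3253 (BT.node 3252 (BT.node 3251 (BT.leaf cE3251) (BT.leaf cE3252)) (BT.leaf cE3253)) (BT.node 3254 (BT.leaf cE3254) (BT.leaf cE3255))) (BT.node 3258 (BT.node 3257 (BT.node 3256 (BT.leaf cE3256) (BT.leaf cE3257)) (BT.leaf cE3258)) (BT.node 3259 (BT.leaf cE3259) (BT.leaf cE3260)))) (BT.node 3265 (BT.node 3263 (BT.node 3262 (BT.node 3261 (BT.leaf cE3261) (BT.leaf cE3262)) (BT.leaf cE3263)) (BT.node 3264 (BT.leaf cE3264) (BT.leaf cE3265))) (BT.node 3268 (BT.node 3267 (BT.node 3266 (BT.leaf cE3266) (BT.leaf cE3267)) (BT.leaf cE3268)) (BT.node 3269 (BT.leaf cE3269) (BT.leaf cE3270))))) (BT.node 3280 (BT.node 3275 (BT.node 3273 (BT.node 3272 (BT.node 3271 (BT.leaf cE3271) (BT.leaf cE3272)) (BT.leaf cE3273)) (BT.node 3274 (BT.leaf cE3274) (BT.leaf cE3275))) (BT.node 3278 (BT.node 3277 (BT.node 3276 (BT.leaf cE3276) (BT.leaf cE3277)) (BT.leaf cE3278)) (BT.node 3279 (BT.leaf cE3279) (BT.leaf cE3280)))) (BT.node 3285 (BT.node 3283 (BT.node 3282 (BT.node 3281 (BT.leaf cE3281) (BT.leaf cE3282)) (BT.leaf cE3283)) (BT.node 3284 (BT.leaf cE3284) (BT.leaf cE3285))) (BT.node 3287 (BT.node 3286 (BT.leaf cE3286) (BT.leaf cE3287)) (BT.node 3288 (BT.leaf cE3288) (BT.leaf cE3289)))))))) (BT.node 3367 (BT.node 3328 (BT.node 3309 (BT.node 3299 (BT.node 3294 (BT.node 3292 (BT.node 3291 (BT.node 3290 (BT.leaf cE3290) (BT.leaf cE3291)) (BT.leaf cE3292)) (BT.node 3293 (BT.leaf cE3293) (BT.leaf cE3294))) (BT.node 3297 (BT.node 3296 (BT.node 3295 (BT.leaf cE3295) (BT.leaf cE3296)) (BT.leaf cE3297)) (BT.node 3298 (BT.leaf cE3298) (BT.leaf cE3299)))) (BT.node 3304 (BT.node 3302 (BT.node 3301 (BT.node 3300 (BT.leaf cE3300) (BT.leaf cE3301)) (BT.leaf cE3302)) (BT.node 3303 (BT.leaf cE3303) (BT.leaf cE3304))) (BT.node 3307 (BT.node 3306 (BT.node 3305 (BT.leaf cE3305) (BT.leaf cE3306)) (BT.leaf cE3307)) (BT.node 3308 (BT.leaf cE3308) (BT.leaf cE3309))))) (BT.node 3319 (BT.node 3314 (BT.node 3312 (BT.node 3311 (BT.node 3310 (BT.leaf cE3310) (BT.leaf cE3311)) (BT.leaf cE3312)) (BT.node 3313 (BT.leaf cE3313) (BT.leaf cE3314))) (BT.node 3317 (BT.node 3316 (BT.node 3315 (BT.leaf cE3315) (BT.leaf cE3316)) (BT.leaf cE3317)) (BT.node 3318 (BT.leaf cE3318) (BT.leaf cE3319)))) (BT.node 3324 (BT.node 3322 (BT.node 3321 (BT.node 3320 (BT.leaf cE3320) (BT.leaf cE3321)) (BT.leaf cE3322)) (BT.node 3323 (BT.leaf cE3323) (BT.leaf cE3324))) (BT.node 3326 (BT.node 3325 (BT.leaf cE3325) (BT.leaf cE3326)) (BT.node 3327 (BT.leaf cE3327) (BT.leaf cE3328)))))) (BT.node 3348 (BT.node 3338 (BT.node 3333 (BT.node 3331 (BT.node 3330 (BT.node 3329 (BT.leaf cE3329) (BT.leaf cE3330)) (BT.leaf cE3331)) (BT.node 3332 (BT.leaf cE3332) (BT.leaf cE3333))) (BT.node 3336 (BT.node 3335 (BT.node 3334 (BT.leaf cE3334) (BT.leaf cE3335)) (BT.leaf cE3336)) (BT.node 3337 (BT.leaf cE3337) (BT.leaf cE3338)))) (BT.node 3343 (BT.node 3341 (BT.node 3340 (BT.node 3339 (BT.leaf cE3339) (BT.leaf cE3340)) (BT.leaf cE3341)) (BT.node 3342 (BT.leaf cE3342) (BT.leaf cE3343))) (BT.node 3346 (BT.node 3345 (BT.node 3344 (BT.leaf cE3344) (BT.leaf cE3345)) (BT.leaf cE3346)) (BT.node 3347 (BT.leaf cE3347) (BT.leaf cE3348))))) (BT.node 3358 (BT.node 3353 (BT.node 3351 (BT.node 3350 (BT.node 3349 (BT.leaf cE3349) (BT.leaf cE3350)) (BT.leaf cE3351)) (BT.node 3352 (BT.leaf cE3352) (BT.leaf cE3353))) (BT.node 3356 (BT.node 3355 (BT.node 3354 (BT.leaf cE3354) (BT.leaf cE3355)) (BT.leaf cE3356)) (BT.node 3357 (BT.leaf cE3357) (BT.leaf cE3358)))) (BT.node 3363 (BT.node 3361 (BT.node 3360 (BT.node 3359 (BT.leaf cE3359) (BT.leaf cE3360)) (BT.leaf cE3361)) (BT.node 3362 (BT.leaf cE3362) (BT.leaf cE3363))) (BT.node 3365 (BT.node 3364 (BT.leaf cE3364) (BT.leaf cE3365)) (BT.node 3366 (BT.leaf cE3366) (BT.leaf cE3367))))))) (BT.node 3406 (BT.node 3387 (BT.node 3377 (BT.node 3372 (BT.node 3370 (BT.node 3369 (BT.node 3368 (BT.leaf cE3368) (BT.leaf cE3369)) (BT.leaf cE3370)) (BT.node 3371 (BT.leaf cE3371) (BT.leaf cE3372))) (BT.node 3375 (BT.node 3374 (BT.node 3373 (BT.leaf cE3373) (BT.leaf cE3374)) (BT.leaf cE3375)) (BT.node 3376 (BT.leaf cE3376) (BT.leaf cE3377)))) (BT.node 3382 (BT.node 3380 (BT.node 3379 (BT.node 3378 (BT.leaf cE3378) (BT.leaf cE3379)) (BT.leaf cE3380)) (BT.node 3381 (BT.leaf cE3381) (BT.leaf cE3382))) (BT.node 3385 (BT.node 3384 (BT.node 3383 (BT.leaf cE3383) (BT.leaf cE3384)) (BT.leaf cE3385)) (BT.node 3386 (BT.leaf cE3386) (BT.leaf cE3387))))) (BT.node 3397 (BT.node 3392 (BT.node 3390 (BT.node 3389 (BT.node 3388 (BT.leaf cE3388) (BT.leaf cE3389)) (BT.leaf cE3390)) (BT.node 3391 (BT.leaf cE3391) (BT.leaf cE3392))) (BT.node 3395 (BT.node 3394 (BT.node 3393 (BT.leaf cE3393) (BT.leaf cE3394)) (BT.leaf cE3395)) (BT.node 3396 (BT.leaf cE3396) (BT.leaf cE3397)))) (BT.node 3402 (BT.node 3400 (BT.node 3399 (BT.node 3398 (BT.leaf cE3398) (BT.leaf cE3399)) (BT.leaf cE3400)) (BT.node 3401 (BT.leaf cE3401) (BT.leaf cE3402))) (BT.node 3404 (BT.node 3403 (BT.leaf cE3403) (BT.leaf cE3404)) (BT.node 3405 (BT.leaf cE3405) (BT.leaf cE3406)))))) (BT.node 3426 (BT.node 3416 (BT.node 3411 (BT.node 3409 (BT.node 3408 (BT.node 3407 (BT.leaf cE3407) (BT.leaf cE3408)) (BT.leaf cE3409)) (BT.node 3410 (BT.leaf cE3410) (BT.leaf cE3411))) (BT.node 3414 (BT.node 3413 (BT.node 3412 (BT.leaf cE3412) (BT.leaf cE3413)) (BT.leaf cE3414)) (BT.node 3415 (BT.leaf cE3415) (BT.leaf cE3416)))) (BT.node 3421 (BT.node 3419 (BT.node 3418 (BT.node 3417 (BT.leaf cE3417) (BT.leaf cE3418)) (BT.leaf cE3419)) (BT.node 3420 (BT.leaf cE3420) (BT.leaf cE3421))) (BT.node 3424 (BT.node 3423 (BT.node 3422 (BT.leaf cE3422) (BT.leaf cE3423)) (BT.leaf cE3424)) (BT.node 3425 (BT.leaf cE3425) (BT.leaf cE3426))))) (BT.node 3436 (BT.node 3431 (BT.node 3429 (BT.node 3428 (BT.node 3427 (BT.leaf cE3427) (BT.leaf cE3428)) (BT.leaf cE3429)) (BT.node 3430 (BT.leaf cE3430) (BT.leaf cE3431))) (BT.node 3434 (BT.node 3433 (BT.node 3432 (BT.leaf cE3432) (BT.leaf cE3433)) (BT.leaf cE3434)) (BT.node 3435 (BT.leaf cE3435) (BT.leaf cE3436)))) (BT.node 3441 (BT.node 3439 (BT.node 3438 (BT.node 3437 (BT.leaf cE3437) (BT.leaf cE3438)) (BT.leaf cE3439)) (BT.node 3440 (BT.leaf cE3440) (BT.leaf cE3441))) (BT.node 3443 (BT.node 3442 (BT.leaf cE3442) (BT.leaf cE3443)) (BT.node 3444 (BT.leaf cE3444) (BT.leaf cE3445))))))))) (BT.node 3602 (BT.node 3524 (BT.node 3485 (BT.node 3465 (BT.node 3455 (BT.node 3450 (BT.node 3448 (BT.node 3447 (BT.node 3446 (BT.leaf cE3446) (BT.leaf cE3447)) (BT.leaf cE3448)) (BT.node 3449 (BT.leaf cE3449) (BT.leaf cE3450))) (BT.node 3453 (BT.node 3452 (BT.node 3451 (BT.leaf cE3451) (BT.leaf cE3452)) (BT.leaf cE3453)) (BT.node 3454 (BT.leaf cE3454) (BT.leaf cE3455)))) (BT.node 3460 (BT.node 3458 (BT.node 3457 (BT.node 3456 (BT.leaf cE3456) (BT.leaf cE3457)) (BT.leaf cE3458)) (BT.node 3459 (BT.leaf cE3459) (BT.leaf cE3460))) (BT.node 3463 (BT.node 3462 (BT.node 3461 (BT.leaf cE3461) (BT.leaf cE3462)) (BT.leaf cE3463)) (BT.node 3464 (BT.leaf cE3464) (BT.leaf cE3465))))) (BT.node 3475 (BT.node 3470 (BT.node 3468 (BT.node 3467 (BT.node 3466 (BT.leaf cE3466) (BT.leaf cE3467)) (BT.leaf cE3468)) (BT.node 3469 (BT.leaf cE3469) (BT.leaf cE3470))) (BT.node 3473 (BT.node 3472 (BT.node 3471 (BT.leaf cE3471) (BT.leaf cE3472)) (BT.leaf cE3473)) (BT.node 3474 (BT.leaf cE3474) (BT.leaf cE3475)))) (BT.node 3480 (BT.node 3478 (BT.node 3477 (BT.node 3476 (BT.leaf cE3476) (BT.leaf cE3477)) (BT.leaf cE3478)) (BT.node 3479 (BT.leaf cE3479) (BT.leaf cE3480))) (BT.node 3483 (BT.node 3482 (BT.node 3481 (BT.leaf cE3481) (BT.leaf cE3482)) (BT.leaf cE3483)) (BT.node 3484 (BT.leaf cE3484) (BT.leaf cE3485)))))) (BT.node 3505 (BT.node 3495 (BT.node 3490 (BT.node 3488 (BT.node 3487 (BT.node 3486 (BT.leaf cE3486) (BT.leaf cE3487)) (BT.leaf cE3488)) (BT.node 3489 (BT.leaf cE3489) (BT.leaf cE3490))) (BT.node 3493 (BT.node 3492 (BT.node 3491 (BT.leaf cE3491) (BT.leaf cE3492)) (BT.leaf cE3493)) (BT.node 3494 (BT.leaf cE3494) (BT.leaf cE3495)))) (BT.node 3500 (BT.node 3498 (BT.node 3497 (BT.node 3496 (BT.leaf cE3496) (BT.leaf cE3497)) (BT.leaf cE3498)) (BT.node 3499 (BT.leaf cE3499) (BT.leaf cE3500))) (BT.node 3503 (BT.node 3502 (BT.node 3501 (BT.leaf cE3501) (BT.leaf cE3502)) (BT.leaf cE3503)) (BT.node 3504 (BT.leaf cE3504) (BT.leaf cE3505))))) (BT.node 3515 (BT.node 3510 (BT.node 3508 (BT.node 3507 (BT.node 3506 (BT.leaf cE3506) (BT.leaf cE3507)) (BT.leaf cE3508)) (BT.node 3509 (BT.leaf cE3509) (BT.leaf cE3510))) (BT.node 3513 (BT.node 3512 (BT.node 3511 (BT.leaf cE3511) (BT.leaf cE3512)) (BT.leaf cE3513)) (BT.node 3514 (BT.leaf cE3514) (BT.leaf cE3515)))) (BT.node 3520 (BT.node 3518 (BT.node 3517 (BT.node 3516 (BT.leaf cE3516) (BT.leaf cE3517)) (BT.leaf cE3518)) (BT.node 3519 (BT.leaf cE3519) (BT.leaf cE3520))) (BT.node 3522 (BT.node 3521 (BT.leaf cE3521) (BT.leaf cE3522)) (BT.node 3523 (BT.leaf cE3523) (BT.leaf cE3524))))))) (BT.node 3563 (BT.node 3544 (BT.node 3534 (BT.node 3529 (BT.node 3527 (BT.node 3526 (BT.node 3525 (BT.leaf cE3525) (BT.leaf cE3526)) (BT.leaf cE3527)) (BT.node 3528 (BT.leaf cE3528) (BT.leaf cE3529))) (BT.node 3532 (BT.node 3531 (BT.node 3530 (BT.leaf cE3530) (BT.leaf cE3531)) (BT.leaf cE3532)) (BT.node 3533 (BT.leaf cE3533) (BT.leaf cE3534)))) (BT.node 3539 (BT.node 3537 (BT.node 3536 (BT.node 3535 (BT.leaf cE3535) (BT.leaf cE3536)) (BT.leaf cE3537)) (BT.node 3538 (BT.leaf cE3538) (BT.leaf cE3539))) (BT.node 3542 (BT.node 3541 (BT.node 3540 (BT.leaf cE3540) (BT.leaf cE3541)) (BT.leaf cE3542)) (BT.node 3543 (BT.leaf cE3543) (BT.leaf cE3544))))) (BT.node 3554 (BT.node 3549 (BT.node 3547 (BT.node 3546 (BT.node 3545 (BT.leaf cE3545) (BT.leaf cE3546)) (BT.leaf cE3547)) (BT.node 3548 (BT.leaf cE3548) (BT.leaf cE3549))) (BT.node 3552 (BT.node 3551 (BT.node 3550 (BT.leaf cE3550) (BT.leaf cE3551)) (BT.leaf cE3552)) (BT.node 3553 (BT.leaf cE3553) (BT.leaf cE3554)))) (BT.node 3559 (BT.node 3557 (BT.node 3556 (BT.node 3555 (BT.leaf cE3555) (BT.leaf cE3556)) (BT.leaf cE3557)) (BT.node 3558 (BT.leaf cE3558) (BT.leaf cE3559))) (BT.node 3561 (BT.node 3560 (BT.leaf cE3560) (BT.leaf cE3561)) (BT.node 3562 (BT.leaf cE3562) (BT.leaf cE3563)))))) (BT.node 3583 (BT.node 3573 (BT.node 3568 (BT.node 3566 (BT.node 3565 (BT.node 3564 (BT.leaf cE3564) (BT.leaf cE3565)) (BT.leaf cE3566)) (BT.node 3567 (BT.leaf cE3567) (BT.leaf cE3568))) (BT.node 3571 (BT.node 3570 (BT.node 3569 (BT.leaf cE3569) (BT.leaf cE3570)) (BT.leaf cE3571)) (BT.node 3572 (BT.leaf cE3572) (BT.leaf cE3573)))) (BT.node 3578 (BT.node 3576 (BT.node 3575 (BT.node 3574 (BT.leaf cE3574) (BT.leaf cE3575)) (BT.leaf cE3576)) (BT.node 3577 (BT.leaf cE3577) (BT.leaf cE3578))) (BT.node 3581 (BT.node 3580 (BT.node 3579 (BT.leaf cE3579) (BT.leaf cE3580)) (BT.leaf cE3581)) (BT.node 3582 (BT.leaf cE3582) (BT.leaf cE3583))))) (BT.node 3593 (BT.node 3588 (BT.node 3586 (BT.node 3585 (BT.node 3584 (BT.leaf cE3584) (BT.leaf cE3585)) (BT.leaf cE3586)) (BT.node 3587 (BT.leaf cE3587) (BT.leaf cE3588))) (BT.node 3591 (BT.node 3590 (BT.node 3589 (BT.leaf cE3589) (BT.leaf cE3590)) (BT.leaf cE3591)) (BT.node 3592 (BT.leaf cE3592) (BT.leaf cE3593)))) (BT.node 3598 (BT.node 3596 (BT.node 3595 (BT.node 3594 (BT.leaf cE3594) (BT.leaf cE3595)) (BT.leaf cE3596)) (BT.node 3597 (BT.leaf cE3597) (BT.leaf cE3598))) (BT.node 3600 (BT.node 3599 (BT.leaf cE3599) (BT.leaf cE3600)) (BT.node 3601 (BT.leaf cE3601) (BT.leaf cE3602)))))))) (BT.node 3680 (BT.node 3641 (BT.node 3622 (BT.node 3612 (BT.node 3607 (BT.node 3605 (BT.node 3604 (BT.node 3603 (BT.leaf cE3603) (BT.leaf cE3604)) (BT.leaf cE3605)) (BT.node 3606 (BT.leaf cE3606) (BT.leaf cE3607))) (BT.node 3610 (BT.node 3609 (BT.node 3608 (BT.leaf cE3608) (BT.leaf cE3609)) (BT.leaf cE3610)) (BT.node 3611 (BT.leaf cE3611) (BT.leaf cE3612)))) (BT.node 3617 (BT.node 3615 (BT.node 3614 (BT.node 3613 (BT.leaf cE3613) (BT.leaf cE3614)) (BT.leaf cE3615)) (BT.node 3616 (BT.leaf cE3616) (BT.leaf cE3617))) (BT.node 3620 (BT.node 3619 (BT.node 3618 (BT.leaf cE3618) (BT.leaf cE3619)) (BT.leaf cE3620)) (BT.node 3621 (BT.leaf cE3621) (BT.leaf cE3622))))) (BT.node 3632 (BT.node 3627 (BT.node 3625 (BT.node 3624 (BT.node 3623 (BT.leaf cE3623) (BT.leaf cE3624)) (BT.leaf cE3625)) (BT.node 3626 (BT.leaf cE3626) (BT.leaf cE3627))) (BT.node 3630 (BT.node 3629 (BT.node 3628 (BT.leaf cE3628) (BT.leaf cE3629)) (BT.leaf cE3630)) (BT.node 3631 (BT.leaf cE3631) (BT.leaf cE3632)))) (BT.node 3637 (BT.node 3635 (BT.node 3634 (BT.node 3633 (BT.leaf cE3633) (BT.leaf cE3634)) (BT.leaf cE3635)) (BT.node 3636 (BT.leaf cE3636) (BT.leaf cE3637))) (BT.node 3639 (BT.node 3638 (BT.leaf cE3638) (BT.leaf cE3639)) (BT.node 3640 (BT.leaf cE3640) (BT.leaf cE3641)))))) (BT.node 3661 (BT.node 3651 (BT.node 3646 (BT.node 3644 (BT.node 3643 (BT.node 3642 (BT.leaf cE3642) (BT.leaf cE3643)) (BT.leaf cE3644)) (BT.node 3645 (BT.leaf cE3645) (BT.leaf cE3646))) (BT.node 3649 (BT.node 3648 (BT.node 3647 (BT.leaf cE3647) (BT.leaf cE3648)) (BT.leaf cE3649)) (BT.node 3650 (BT.leaf cE3650) (BT.leaf cE3651)))) (BT.node 3656 (BT.node 3654 (BT.node 3653 (BT.node 3652 (BT.leaf cE3652) (BT.leaf cE3653)) (BT.leaf cE3654)) (BT.node 3655 (BT.leaf cE3655) (BT.leaf cE3656))) (BT.node 3659 (BT.node 3658 (BT.node 3657 (BT.leaf cE3657) (BT.leaf cE3658)) (BT.leaf cE3659)) (BT.node 3660 (BT.leaf cE3660) (BT.leaf cE3661))))) (BT.node 3671 (BT.node 3666 (BT.node 3664 (BT.node 3663 (BT.node 3662 (BT.leaf cE3662) (BT.leaf cE3663)) (BT.leaf cE3664)) (BT.node 3665 (BT.leaf cE3665) (BT.leaf cE3666))) (BT.node 3669 (BT.node 3668 (BT.node 3667 (BT.leaf cE3667) (BT.leaf cE3668)) (BT.leaf cE3669)) (BT.node 3670 (BT.leaf cE3670) (BT.leaf cE3671)))) (BT.node 3676 (BT.node 3674 (BT.node 3673 (BT.node 3672 (BT.leaf cE3672) (BT.leaf cE3673)) (BT.leaf cE3674)) (BT.node 3675 (BT.leaf cE3675) (BT.leaf cE3676))) (BT.node 3678 (BT.node 3677 (BT.leaf cE3677) (BT.leaf cE3678)) (BT.node 3679 (BT.leaf cE3679) (BT.leaf cE3680))))))) (BT.node 3719 (BT.node 3700 (BT.node 3690 (BT.node 3685 (BT.node 3683 (BT.node 3682 (BT.node 3681 (BT.leaf cE3681) (BT.leaf cE3682)) (BT.leaf cE3683)) (BT.node 3684 (BT.leaf cE3684) (BT.leaf cE3685))) (BT.node 3688 (BT.node 3687 (BT.node 3686 (BT.leaf cE3686) (BT.leaf cE3687)) (BT.leaf cE3688)) (BT.node 3689 (BT.leaf cE3689) (BT.leaf cE3690)))) (BT.node 3695 (BT.node 3693 (BT.node 3692 (BT.node 3691 (BT.leaf cE3691) (BT.leaf cE3692)) (BT.leaf cE3693)) (BT.node 3694 (BT.leaf cE3694) (BT.leaf cE3695))) (BT.node 3698 (BT.node 3697 (BT.node 3696 (BT.leaf cE3696) (BT.leaf cE3697)) (BT.leaf cE3698)) (BT.node 3699 (BT.leaf cE3699) (BT.leaf cE3700))))) (BT.node 3710 (BT.node 3705 (BT.node 3703 (BT.node 3702 (BT.node 3701 (BT.leaf cE3701) (BT.leaf cE3702)) (BT.leaf cE3703)) (BT.node 3704 (BT.leaf cE3704) (BT.leaf cE3705))) (BT.node 3708 (BT.node 3707 (BT.node 3706 (BT.leaf cE3706) (BT.leaf cE3707)) (BT.leaf cE3708)) (BT.node 3709 (BT.leaf cE3709) (BT.leaf cE3710)))) (BT.node 3715 (BT.node 3713 (BT.node 3712 (BT.node 3711 (BT.leaf cE3711) (BT.leaf cE3712)) (BT.leaf cE3713)) (BT.node 3714 (BT.leaf cE3714) (BT.leaf cE3715))) (BT.node 3717 (BT.node 3716 (BT.leaf cE3716) (BT.leaf cE3717)) (BT.node 3718 (BT.leaf cE3718) (BT.leaf cE3719)))))) (BT.node 3739 (BT.node 3729 (BT.node 3724 (BT.node 3722 (BT.node 3721 (BT.node 3720 (BT.leaf cE3720) (BT.leaf cE3721)) (BT.leaf cE3722)) (BT.node 3723 (BT.leaf cE3723) (BT.leaf cE3724))) (BT.node 3727 (BT.node 3726 (BT.node 3725 (BT.leaf cE3725) (BT.leaf cE3726)) (BT.leaf cE3727)) (BT.node 3728 (BT.leaf cE3728) (BT.leaf cE3729)))) (BT.node 3734 (BT.node 3732 (BT.node 3731 (BT.node 3730 (BT.leaf cE3730) (BT.leaf cE3731)) (BT.leaf cE3732)) (BT.node 3733 (BT.leaf cE3733) (BT.leaf cE3734))) (BT.node 3737 (BT.node 3736 (BT.node 3735 (BT.leaf cE3735) (BT.leaf cE3736)) (BT.leaf cE3737)) (BT.node 3738 (BT.leaf cE3738) (BT.leaf cE3739))))) (BT.node 3749 (BT.node 3744 (BT.node 3742 (BT.node 3741 (BT.node 3740 (BT.leaf cE3740) (BT.leaf cE3741)) (BT.leaf cE3742)) (BT.node 3743 (BT.leaf cE3743) (BT.leaf cE3744))) (BT.node 3747 (BT.node 3746 (BT.node 3745 (BT.leaf cE3745) (BT.leaf cE3746)) (BT.leaf cE3747)) (BT.node 3748 (BT.leaf cE3748) (BT.leaf cE3749)))) (BT.node 3754 (BT.node 3752 (BT.node 3751 (BT.node 3750 (BT.leaf cE3750) (BT.leaf cE3751)) (BT.leaf cE3752)) (BT.node 3753 (BT.leaf cE3753) (BT.leaf cE3754))) (BT.node 3756 (BT.node 3755 (BT.leaf cE3755) (BT.leaf cE3756)) (BT.node 3757 (BT.leaf cE3757) (BT.leaf cE3758))))))))))) (BT.node 4385 (BT.node 4072 (BT.node 3915 (BT.node 3837 (BT.node 3798 (BT.node 3778 (BT.node 3768 (BT.node 3763 (BT.node 3761 (BT.node 3760 (BT.node 3759 (BT.leaf cE3759) (BT.leaf cE3760)) (BT.leaf cE3761)) (BT.node 3762 (BT.leaf cE3762) (BT.leaf cE3763))) (BT.node 3766 (BT.node 3765 (BT.node 3764 (BT.leaf cE3764) (BT.leaf cE3765)) (BT.leaf cE3766)) (BT.node 3767 (BT.leaf cE3767) (BT.leaf cE3768)))) (BT.node 3773 (BT.node 3771 (BT.node 3770 (BT.node 3769 (BT.leaf cE3769) (BT.leaf cE3770)) (BT.leaf cE3771)) (BT.node 3772 (BT.leaf cE3772) (BT.leaf cE3773))) (BT.node 3776 (BT.node 3775 (BT.node 3774 (BT.leaf cE3774) (BT.leaf cE3775)) (BT.leaf cE3776)) (BT.node 3777 (BT.leaf cE3777) (BT.leaf cE3778))))) (BT.node 3788 (BT.node 3783 (BT.node 3781 (BT.node 3780 (BT.node 3779 (BT.leaf cE3779) (BT.leaf cE3780)) (BT.leaf cE3781)) (BT.node 3782 (BT.leaf cE3782) (BT.leaf cE3783))) (BT.node 3786 (BT.node 3785 (BT.node 3784 (BT.leaf cE3784) (BT.leaf cE3785)) (BT.leaf cE3786)) (BT.node 3787 (BT.leaf cE3787) (BT.leaf cE3788)))) (BT.node 3793 (BT.node 3791 (BT.node 3790 (BT.node 3789 (BT.leaf cE3789) (BT.leaf cE3790)) (BT.leaf cE3791)) (BT.node 3792 (BT.leaf cE3792) (BT.leaf cE3793))) (BT.node 3796 (BT.node 3795 (BT.node 3794 (BT.leaf cE3794) (BT.leaf cE3795)) (BT.leaf cE3796)) (BT.node 3797 (BT.leaf cE3797) (BT.leaf cE3798)))))) (BT.node 3818 (BT.node 3808 (BT.node 3803 (BT.node 3801 (BT.node 3800 (BT.node 3799 (BT.leaf cE3799) (BT.leaf cE3800)) (BT.leaf cE3801)) (BT.node 3802 (BT.leaf cE3802) (BT.leaf cE3803))) (BT.node 3806 (BT.node 3805 (BT.node 3804 (BT.leaf cE3804) (BT.leaf cE3805)) (BT.leaf cE3806)) (BT.node 3807 (BT.leaf cE3807) (BT.leaf cE3808)))) (BT.node 3813 (BT.node 3811 (BT.node 3810 (BT.node 3809 (BT.leaf cE3809) (BT.leaf cE3810)) (BT.leaf cE3811)) (BT.node 3812 (BT.leaf cE3812) (BT.leaf cE3813))) (BT.node 3816 (BT.node 3815 (BT.node 3814 (BT.leaf cE3814) (BT.leaf cE3815)) (BT.leaf cE3816)) (BT.node 3817 (BT.leaf cE3817) (BT.leaf cE3818))))) (BT.node 3828 (BT.node 3823 (BT.node 3821 (BT.node 3820 (BT.node 3819 (BT.leaf cE3819) (BT.leaf cE3820)) (BT.leaf cE3821)) (BT.node 3822 (BT.leaf cE3822) (BT.leaf cE3823))) (BT.node 3826 (BT.node 3825 (BT.node 3824 (BT.leaf cE3824) (BT.leaf cE3825)) (BT.leaf cE3826)) (BT.node 3827 (BT.leaf cE3827) (BT.leaf cE3828)))) (BT.node 3833 (BT.node 3831 (BT.node 3830 (BT.node 3829 (BT.leaf cE3829) (BT.leaf cE3830)) (BT.leaf cE3831)) (BT.node 3832 (BT.leaf cE3832) (BT.leaf cE3833))) (BT.node 3835 (BT.node 3834 (BT.leaf cE3834) (BT.leaf cE3835)) (BT.node 3836 (BT.leaf cE3836) (BT.leaf cE3837))))))) (BT.node 3876 (BT.node 3857 (BT.node 3847 (BT.node 3842 (BT.node 3840 (BT.node 3839 (BT.node 3838 (BT.leaf cE3838) (BT.leaf cE3839)) (BT.leaf cE3840)) (BT.node 3841 (BT.leaf cE3841) (BT.leaf cE3842))) (BT.node 3845 (BT.node 3844 (BT.node 3843 (BT.leaf cE3843) (BT.leaf cE3844)) (BT.leaf cE3845)) (BT.node 3846 (BT.leaf cE3846) (BT.leaf cE3847)))) (BT.node 3852 (BT.node 3850 (BT.node 3849 (BT.node 3848 (BT.leaf cE3848) (BT.leaf cE3849)) (BT.leaf cE3850)) (BT.node 3851 (BT.leaf cE3851) (BT.leaf cE3852))) (BT.node 3855 (BT.node 3854 (BT.node 3853 (BT.leaf cE3853) (BT.leaf cE3854)) (BT.leaf cE3855)) (BT.node 3856 (BT.leaf cE3856) (BT.leaf cE3857))))) (BT.node 3867 (BT.node 3862 (BT.node 3860 (BT.node 3859 (BT.node 3858 (BT.leaf cE3858) (BT.leaf cE3859)) (BT.leaf cE3860)) (BT.node 3861 (BT.leaf cE3861) (BT.leaf cE3862))) (BT.node 3865 (BT.node 3864 (BT.node 3863 (BT.leaf cE3863) (BT.leaf cE3864)) (BT.leaf cE3865)) (BT.node 3866 (BT.leaf cE3866) (BT.leaf cE3867)))) (BT.node 3872 (BT.node 3870 (BT.node 3869 (BT.node 3868 (BT.leaf cE3868) (BT.leaf cE3869)) (BT.leaf cE3870)) (BT.node 3871 (BT.leaf cE3871) (BT.leaf cE3872))) (BT.node 3874 (BT.node 3873 (BT.leaf cE3873) (BT.leaf cE3874)) (BT.node 3875 (BT.leaf cE3875) (BT.leaf cE3876)))))) (BT.node 3896 (BT.node 3886 (BT.node 3881 (BT.node 3879 (BT.node 3878 (BT.node 3877 (BT.leaf cE3877) (BT.leaf cE3878)) (BT.leaf cE3879)) (BT.node 3880 (BT.leaf cE3880) (BT.leaf cE3881))) (BT.node 3884 (BT.node 3883 (BT.node 3882 (BT.leaf cE3882) (BT.leaf cE3883)) (BT.leaf cE3884)) (BT.node 3885 (BT.leaf cE3885) (BT.leaf cE3886)))) (BT.node 3891 (BT.node 3889 (BT.node 3888 (BT.node 3887 (BT.leaf cE3887) (BT.leaf cE3888)) (BT.leaf cE3889)) (BT.node 3890 (BT.leaf cE3890) (BT.leaf cE3891))) (BT.node 3894 (BT.node 3893 (BT.node 3892 (BT.leaf cE3892) (BT.leaf cE3893)) (BT.leaf cE3894)) (BT.node 3895 (BT.leaf cE3895) (BT.leaf cE3896))))) (BT.node 3906 (BT.node 3901 (BT.node 3899 (BT.node 3898 (BT.node 3897 (BT.leaf cE3897) (BT.leaf cE3898)) (BT.leaf cE3899)) (BT.node 3900 (BT.leaf cE3900) (BT.leaf cE3901))) (BT.node 3904 (BT.node 3903 (BT.node 3902 (BT.leaf cE3902) (BT.leaf cE3903)) (BT.leaf cE3904)) (BT.node 3905 (BT.leaf cE3905) (BT.leaf cE3906)))) (BT.node 3911 (BT.node 3909 (BT.node 3908 (BT.node 3907 (BT.leaf cE3907) (BT.leaf cE3908)) (BT.leaf cE3909)) (BT.node 3910 (BT.leaf cE3910) (BT.leaf cE3911))) (BT.node 3913 (BT.node 3912 (BT.leaf cE3912) (BT.leaf cE3913)) (BT.node 3914 (BT.leaf cE3914) (BT.leaf cE3915)))))))) (BT.node 3994 (BT.node 3955 (BT.node 3935 (BT.node 3925 (BT.node 3920 (BT.node 3918 (BT.node 3917 (BT.node 3916 (BT.leaf cE3916) (BT.leaf cE3917)) (BT.leaf cE3918)) (BT.node 3919 (BT.leaf cE3919) (BT.leaf cE3920))) (BT.node 3923 (BT.node 3922 (BT.node 3921 (BT.leaf cE3921) (BT.leaf cE3922)) (BT.leaf cE3923)) (BT.node 3924 (BT.leaf cE3924) (BT.leaf cE3925)))) (BT.node 3930 (BT.node 3928 (BT.node 3927 (BT.node 3926 (BT.leaf cE3926) (BT.leaf cE3927)) (BT.leaf cE3928)) (BT.node 3929 (BT.leaf cE3929) (BT.leaf cE3930))) (BT.node 3933 (BT.node 3932 (BT.node 3931 (BT.leaf cE3931) (BT.leaf cE3932)) (BT.leaf cE3933)) (BT.node 3934 (BT.leaf cE3934) (BT.leaf cE3935))))) (BT.node 3945 (BT.node 3940 (BT.node 3938 (BT.node 3937 (BT.node 3936 (BT.leaf cE3936) (BT.leaf cE3937)) (BT.leaf cE3938)) (BT.node 3939 (BT.leaf cE3939) (BT.leaf cE3940))) (BT.node 3943 (BT.node 3942 (BT.node 3941 (BT.leaf cE3941) (BT.leaf cE3942)) (BT.leaf cE3943)) (BT.node 3944 (BT.leaf cE3944) (BT.leaf cE3945)))) (BT.node 3950 (BT.node 3948 (BT.node 3947 (BT.node 3946 (BT.leaf cE3946) (BT.leaf cE3947)) (BT.leaf cE3948)) (BT.node 3949 (BT.leaf cE3949) (BT.leaf cE3950))) (BT.node 3953 (BT.node 3952 (BT.node 3951 (BT.leaf cE3951) (BT.leaf cE3952)) (BT.leaf cE3953)) (BT.node 3954 (BT.leaf cE3954) (BT.leaf cE3955)))))) (BT.node 3975 (BT.node 3965 (BT.node 3960 (BT.node 3958 (BT.node 3957 (BT.node 3956 (BT.leaf cE3956) (BT.leaf cE3957)) (BT.leaf cE3958)) (BT.node 3959 (BT.leaf cE3959) (BT.leaf cE3960))) (BT.node 3963 (BT.node 3962 (BT.node 3961 (BT.leaf cE3961) (BT.leaf cE3962)) (BT.leaf cE3963)) (BT.node 3964 (BT.leaf cE3964) (BT.leaf cE3965)))) (BT.node 3970 (BT.node 3968 (BT.node 3967 (BT.node 3966 (BT.leaf cE3966) (BT.leaf cE3967)) (BT.leaf cE3968)) (BT.node 3969 (BT.leaf cE3969) (BT.leaf cE3970))) (BT.node 3973 (BT.node 3972 (BT.node 3971 (BT.leaf cE3971) (BT.leaf cE3972)) (BT.leaf cE3973)) (BT.node 3974 (BT.leaf cE3974) (BT.leaf cE3975))))) (BT.node 3985 (BT.node 3980 (BT.node 3978 (BT.node 3977 (BT.node 3976 (BT.leaf cE3976) (BT.leaf cE3977)) (BT.leaf cE3978)) (BT.node 3979 (BT.leaf cE3979) (BT.leaf cE3980))) (BT.node 3983 (BT.node 3982 (BT.node 3981 (BT.leaf cE3981) (BT.leaf cE3982)) (BT.leaf cE3983)) (BT.node 3984 (BT.leaf cE3984) (BT.leaf cE3985)))) (BT.node 3990 (BT.node 3988 (BT.node 3987 (BT.node 3986 (BT.leaf cE3986) (BT.leaf cE3987)) (BT.leaf cE3988)) (BT.node 3989 (BT.leaf cE3989) (BT.leaf cE3990))) (BT.node 3992 (BT.node 3991 (BT.leaf cE3991) (BT.leaf cE3992)) (BT.node 3993 (BT.leaf cE3993) (BT.leaf cE3994))))))) (BT.node 4033 (BT.node 4014 (BT.node 4004 (BT.node 3999 (BT.node 3997 (BT.node 3996 (BT.node 3995 (BT.leaf cE3995) (BT.leaf cE3996)) (BT.leaf cE3997)) (BT.node 3998 (BT.leaf cE3998) (BT.leaf cE3999))) (BT.node 4002 (BT.node 4001 (BT.node 4000 (BT.leaf cE4000) (BT.leaf cE4001)) (BT.leaf cE4002)) (BT.node 4003 (BT.leaf cE4003) (BT.leaf cE4004)))) (BT.node 4009 (BT.node 4007 (BT.node 4006 (BT.node 4005 (BT.leaf cE4005) (BT.leaf cE4006)) (BT.leaf cE4007)) (BT.node 4008 (BT.leaf cE4008) (BT.leaf cE4009))) (BT.node 4012 (BT.node 4011 (BT.node 4010 (BT.leaf cE4010) (BT.leaf cE4011)) (BT.leaf cE4012)) (BT.node 4013 (BT.leaf cE4013) (BT.leaf cE4014))))) (BT.node 4024 (BT.node 4019 (BT.node 4017 (BT.node 4016 (BT.node 4015 (BT.leaf cE4015) (BT.leaf cE4016)) (BT.leaf cE4017)) (BT.node 4018 (BT.leaf cE4018) (BT.leaf cE4019))) (BT.node 4022 (BT.node 4021 (BT.node 4020 (BT.leaf cE4020) (BT.leaf cE4021)) (BT.leaf cE4022)) (BT.node 4023 (BT.leaf cE4023) (BT.leaf cE4024)))) (BT.node 4029 (BT.node 4027 (BT.node 4026 (BT.node 4025 (BT.leaf cE4025) (BT.leaf cE4026)) (BT.leaf cE4027)) (BT.node 4028 (BT.leaf cE4028) (BT.leaf cE4029))) (BT.node 4031 (BT.node 4030 (BT.leaf cE4030) (BT.leaf cE4031)) (BT.node 4032 (BT.leaf cE4032) (BT.leaf cE4033)))))) (BT.node 4053 (BT.node 4043 (BT.node 4038 (BT.node 4036 (BT.node 4035 (BT.node 4034 (BT.leaf cE4034) (BT.leaf cE4035)) (BT.leaf cE4036)) (BT.node 4037 (BT.leaf cE4037) (BT.leaf cE4038))) (BT.node 4041 (BT.node 4040 (BT.node 4039 (BT.leaf cE4039) (BT.leaf cE4040)) (BT.leaf cE4041)) (BT.node 4042 (BT.leaf cE4042) (BT.leaf cE4043)))) (BT.node 4048 (BT.node 4046 (BT.node 4045 (BT.node 4044 (BT.leaf cE4044) (BT.leaf cE4045)) (BT.leaf cE4046)) (BT.node 4047 (BT.leaf cE4047) (BT.leaf cE4048))) (BT.node 4051 (BT.node 4050 (BT.node 4049 (BT.leaf cE4049) (BT.leaf cE4050)) (BT.leaf cE4051)) (BT.node 4052 (BT.leaf cE4052) (BT.leaf cE4053))))) (BT.node 4063 (BT.node 4058 (BT.node 4056 (BT.node 4055 (BT.node 4054 (BT.leaf cE4054) (BT.leaf cE4055)) (BT.leaf cE4056)) (BT.node 4057 (BT.leaf cE4057) (BT.leaf cE4058))) (BT.node 4061 (BT.node 4060 (BT.node 4059 (BT.leaf cE4059) (BT.leaf cE4060)) (BT.leaf cE4061)) (BT.node 4062 (BT.leaf cE4062) (BT.leaf cE4063)))) (BT.node 4068 (BT.node 4066 (BT.node 4065 (BT.node 4064 (BT.leaf cE4064) (BT.leaf cE4065)) (BT.leaf cE4066)) (BT.node 4067 (BT.leaf cE4067) (BT.leaf cE4068))) (BT.node 4070 (BT.node 4069 (BT.leaf cE4069) (BT.leaf cE4070)) (BT.node 4071 (BT.leaf cE4071) (BT.leaf cE4072))))))))) (BT.node 4229 (BT.node 4151 (BT.node 4112 (BT.node 4092 (BT.node 4082 (BT.node 4077 (BT.node 4075 (BT.node 4074 (BT.node 4073 (BT.leaf cE4073) (BT.leaf cE4074)) (BT.leaf cE4075)) (BT.node 4076 (BT.leaf cE4076) (BT.leaf cE4077))) (BT.node 4080 (BT.node 4079 (BT.node 4078 (BT.leaf cE4078) (BT.leaf cE4079)) (BT.leaf cE4080)) (BT.node 4081 (BT.leaf cE4081) (BT.leaf cE4082)))) (BT.node 4087 (BT.node 4085 (BT.node 4084 (BT.node 4083 (BT.leaf cE4083) (BT.leaf cE4084)) (BT.leaf cE4085)) (BT.node 4086 (BT.leaf cE4086) (BT.leaf cE4087))) (BT.node 4090 (BT.node 4089 (BT.node 4088 (BT.leaf cE4088) (BT.leaf cE4089)) (BT.leaf cE4090)) (BT.node 4091 (BT.leaf cE4091) (BT.leaf cE4092))))) (BT.node 4102 (BT.node 4097 (BT.node 4095 (BT.node 4094 (BT.node 4093 (BT.leaf cE4093) (BT.leaf cE4094)) (BT.leaf cE4095)) (BT.node 4096 (BT.leaf cE4096) (BT.leaf cE4097))) (BT.node 4100 (BT.node 4099 (BT.node 4098 (BT.leaf cE4098) (BT.leaf cE4099)) (BT.leaf cE4100)) (BT.node 4101 (BT.leaf cE4101) (BT.leaf cE4102)))) (BT.node 4107 (BT.node 4105 (BT.node 4104 (BT.node 4103 (BT.leaf cE4103) (BT.leaf cE4104)) (BT.leaf cE4105)) (BT.node 4106 (BT.leaf cE4106) (BT.leaf cE4107))) (BT.node 4110 (BT.node 4109 (BT.node 4108 (BT.leaf cE4108) (BT.leaf cE4109)) (BT.leaf cE4110)) (BT.node 4111 (BT.leaf cE4111) (BT.leaf cE4112)))))) (BT.node 4132 (BT.node 4122 (BT.node 4117 (BT.node 4115 (BT.node 4114 (BT.node 4113 (BT.leaf cE4113) (BT.leaf cE4114)) (BT.leaf cE4115)) (BT.node 4116 (BT.leaf cE4116) (BT.leaf cE4117))) (BT.node 4120 (BT.node 4119 (BT.node 4118 (BT.leaf cE4118) (BT.leaf cE4119)) (BT.leaf cE4120)) (BT.node 4121 (BT.leaf cE4121) (BT.leaf cE4122)))) (BT.node 4127 (BT.node 4125 (BT.node 4124 (BT.node 4123 (BT.leaf cE4123) (BT.leaf cE4124)) (BT.leaf cE4125)) (BT.node 4126 (BT.leaf cE4126) (BT.leaf cE4127))) (BT.node 4130 (BT.node 4129 (BT.node 4128 (BT.leaf cE4128) (BT.leaf cE4129)) (BT.leaf cE4130)) (BT.node 4131 (BT.leaf cE4131) (BT.leaf cE4132))))) (BT.node 4142 (BT.node 4137 (BT.node 4135 (BT.node 4134 (BT.node 4133 (BT.leaf cE4133) (BT.leaf cE4134)) (BT.leaf cE4135)) (BT.node 4136 (BT.leaf cE4136) (BT.leaf cE4137))) (BT.node 4140 (BT.node 4139 (BT.node 4138 (BT.leaf cE4138) (BT.leaf cE4139)) (BT.leaf cE4140)) (BT.node 4141 (BT.leaf cE4141) (BT.leaf cE4142)))) (BT.node 4147 (BT.node 4145 (BT.node 4144 (BT.node 4143 (BT.leaf cE4143) (BT.leaf cE4144)) (BT.leaf cE4145)) (BT.node 4146 (BT.leaf cE4146) (BT.leaf cE4147))) (BT.node 4149 (BT.node 4148 (BT.leaf cE4148) (BT.leaf cE4149)) (BT.node 4150 (BT.leaf cE4150) (BT.leaf cE4151))))))) (BT.node 4190 (BT.node 4171 (BT.node 4161 (BT.node 4156 (BT.node 4154 (BT.node 4153 (BT.node 4152 (BT.leaf cE4152) (BT.leaf cE4153)) (BT.leaf cE4154)) (BT.node 4155 (BT.leaf cE4155) (BT.leaf cE4156))) (BT.node 4159 (BT.node 4158 (BT.node 4157 (BT.leaf cE4157) (BT.leaf cE4158)) (BT.leaf cE4159)) (BT.node 4160 (BT.leaf cE4160) (BT.leaf cE4161)))) (BT.node 4166 (BT.node 4164 (BT.node 4163 (BT.node 4162 (BT.leaf cE4162) (BT.leaf cE4163)) (BT.leaf cE4164)) (BT.node 4165 (BT.leaf cE4165) (BT.leaf cE4166))) (BT.node 4169 (BT.node 4168 (BT.node 4167 (BT.leaf cE4167) (BT.leaf cE4168)) (BT.leaf cE4169)) (BT.node 4170 (BT.leaf cE4170) (BT.leaf cE4171))))) (BT.node 4181 (BT.node 4176 (BT.node 4174 (BT.node 4173 (BT.node 4172 (BT.leaf cE4172) (BT.leaf cE4173)) (BT.leaf cE4174)) (BT.node 4175 (BT.leaf cE4175) (BT.leaf cE4176))) (BT.node 4179 (BT.node 4178 (BT.node 4177 (BT.leaf cE4177) (BT.leaf cE4178)) (BT.leaf cE4179)) (BT.node 4180 (BT.leaf cE4180) (BT.leaf cE4181)))) (BT.node 4186 (BT.node 4184 (BT.node 4183 (BT.node 4182 (BT.leaf cE4182) (BT.leaf cE4183)) (BT.leaf cE4184)) (BT.node 4185 (BT.leaf cE4185) (BT.leaf cE4186))) (BT.node 4188 (BT.node 4187 (BT.leaf cE4187) (BT.leaf cE4188)) (BT.node 4189 (BT.leaf cE4189) (BT.leaf cE4190)))))) (BT.node 4210 (BT.node 4200 (BT.node 4195 (BT.node 4193 (BT.node 4192 (BT.node 4191 (BT.leaf cE4191) (BT.leaf cE4192)) (BT.leaf cE4193)) (BT.node 4194 (BT.leaf cE4194) (BT.leaf cE4195))) (BT.node 4198 (BT.node 4197 (BT.node 4196 (BT.leaf cE4196) (BT.leaf cE4197)) (BT.leaf cE4198)) (BT.node 4199 (BT.leaf cE4199) (BT.leaf cE4200)))) (BT.node 4205 (BT.node 4203 (BT.node 4202 (BT.node 4201 (BT.leaf cE4201) (BT.leaf cE4202)) (BT.leaf cE4203)) (BT.node 4204 (BT.leaf cE4204) (BT.leaf cE4205))) (BT.node 4208 (BT.node 4207 (BT.node 4206 (BT.leaf cE4206) (BT.leaf cE4207)) (BT.leaf cE4208)) (BT.node 4209 (BT.leaf cE4209) (BT.leaf cE4210))))) (BT.node 4220 (BT.node 4215 (BT.node 4213 (BT.node 4212 (BT.node 4211 (BT.leaf cE4211) (BT.leaf cE4212)) (BT.leaf cE4213)) (BT.node 4214 (BT.leaf cE4214) (BT.leaf cE4215))) (BT.node 4218 (BT.node 4217 (BT.node 4216 (BT.leaf cE4216) (BT.leaf cE4217)) (BT.leaf cE4218)) (BT.node 4219 (BT.leaf cE4219) (BT.leaf cE4220)))) (BT.node 4225 (BT.node 4223 (BT.node 4222 (BT.node 4221 (BT.leaf cE4221) (BT.leaf cE4222)) (BT.leaf cE4223)) (BT.node 4224 (BT.leaf cE4224) (BT.leaf cE4225))) (BT.node 4227 (BT.node 4226 (BT.leaf cE4226) (BT.leaf cE4227)) (BT.node 4228 (BT.leaf cE4228) (BT.leaf cE4229)))))))) (BT.node 4307 (BT.node 4268 (BT.node 4249 (BT.node 4239 (BT.node 4234 (BT.node 4232 (BT.node 4231 (BT.node 4230 (BT.leaf cE4230) (BT.leaf cE4231)) (BT.leaf cE4232)) (BT.node 4233 (BT.leaf cE4233) (BT.leaf cE4234))) (BT.node 4237 (BT.node 4236 (BT.node 4235 (BT.leaf cE4235) (BT.leaf cE4236)) (BT.leaf cE4237)) (BT.node 4238 (BT.leaf cE4238) (BT.leaf cE4239)))) (BT.node 4244 (BT.node 4242 (BT.node 4241 (BT.node 4240 (BT.leaf cE4240) (BT.leaf cE4241)) (BT.leaf cE4242)) (BT.node 4243 (BT.leaf cE4243) (BT.leaf cE4244))) (BT.node 4247 (BT.node 4246 (BT.node 4245 (BT.leaf cE4245) (BT.leaf cE4246)) (BT.leaf cE4247)) (BT.node 4248 (BT.leaf cE4248) (BT.leaf cE4249))))) (BT.node 4259 (BT.node 4254 (BT.node 4252 (BT.node 4251 (BT.node 4250 (BT.leaf cE4250) (BT.leaf cE4251)) (BT.leaf cE4252)) (BT.node 4253 (BT.leaf cE4253) (BT.leaf cE4254))) (BT.node 4257 (BT.node 4256 (BT.node 4255 (BT.leaf cE4255) (BT.leaf cE4256)) (BT.leaf cE4257)) (BT.node 4258 (BT.leaf cE4258) (BT.leaf cE4259)))) (BT.node 4264 (BT.node 4262 (BT.node 4261 (BT.node 4260 (BT.leaf cE4260) (BT.leaf cE4261)) (BT.leaf cE4262)) (BT.node 4263 (BT.leaf cE4263) (BT.leaf cE4264))) (BT.node 4266 (BT.node 4265 (BT.leaf cE4265) (BT.leaf cE4266)) (BT.node 4267 (BT.leaf cE4267) (BT.leaf cE4268)))))) (BT.node 4288 (BT.node 4278 (BT.node 4273 (BT.node 4271 (BT.node 4270 (BT.node 4269 (BT.leaf cE4269) (BT.leaf cE4270)) (BT.leaf cE4271)) (BT.node 4272 (BT.leaf cE4272) (BT.leaf cE4273))) (BT.node 4276 (BT.node 4275 (BT.node 4274 (BT.leaf cE4274) (BT.leaf cE4275)) (BT.leaf cE4276)) (BT.node 4277 (BT.leaf cE4277) (BT.leaf cE4278)))) (BT.node 4283 (BT.node 4281 (BT.node 4280 (BT.node 4279 (BT.leaf cE4279) (BT.leaf cE4280)) (BT.leaf cE4281)) (BT.node 4282 (BT.leaf cE4282) (BT.leaf cE4283))) (BT.node 4286 (BT.node 4285 (BT.node 4284 (BT.leaf cE4284) (BT.leaf cE4285)) (BT.leaf cE4286)) (BT.node 4287 (BT.leaf cE4287) (BT.leaf cE4288))))) (BT.node 4298 (BT.node 4293 (BT.node 4291 (BT.node 4290 (BT.node 4289 (BT.leaf cE4289) (BT.leaf cE4290)) (BT.leaf cE4291)) (BT.node 4292 (BT.leaf cE4292) (BT.leaf cE4293))) (BT.node 4296 (BT.node 4295 (BT.node 4294 (BT.leaf cE4294) (BT.leaf cE4295)) (BT.leaf cE4296)) (BT.node 4297 (BT.leaf cE4297) (BT.leaf cE4298)))) (BT.node 4303 (BT.node 4301 (BT.node 4300 (BT.node 4299 (BT.leaf cE4299) (BT.leaf cE4300)) (BT.leaf cE4301)) (BT.node 4302 (BT.leaf cE4302) (BT.leaf cE4303))) (BT.node 4305 (BT.node 4304 (BT.leaf cE4304) (BT.leaf cE4305)) (BT.node 4306 (BT.leaf cE4306) (BT.leaf cE4307))))))) (BT.node 4346 (BT.node 4327 (BT.node 4317 (BT.node 4312 (BT.node 4310 (BT.node 4309 (BT.node 4308 (BT.leaf cE4308) (BT.leaf cE4309)) (BT.leaf cE4310)) (BT.node 4311 (BT.leaf cE4311) (BT.leaf cE4312))) (BT.node 4315 (BT.node 4314 (BT.node 4313 (BT.leaf cE4313) (BT.leaf cE4314)) (BT.leaf cE4315)) (BT.node 4316 (BT.leaf cE4316) (BT.leaf cE4317)))) (BT.node 4322 (BT.node 4320 (BT.node 4319 (BT.node 4318 (BT.leaf cE4318) (BT.leaf cE4319)) (BT.leaf cE4320)) (BT.node 4321 (BT.leaf cE4321) (BT.leaf cE4322))) (BT.node 4325 (BT.node 4324 (BT.node 4323 (BT.leaf cE4323) (BT.leaf cE4324)) (BT.leaf cE4325)) (BT.node 4326 (BT.leaf cE4326) (BT.leaf cE4327))))) (BT.node 4337 (BT.node 4332 (BT.node 4330 (BT.node 4329 (BT.node 4328 (BT.leaf cE4328) (BT.leaf cE4329)) (BT.leaf cE4330)) (BT.node 4331 (BT.leaf cE4331) (BT.leaf cE4332))) (BT.node 4335 (BT.node 4334 (BT.node 4333 (BT.leaf cE4333) (BT.leaf cE4334)) (BT.leaf cE4335)) (BT.node 4336 (BT.leaf cE4336) (BT.leaf cE4337)))) (BT.node 4342 (BT.node 4340 (BT.node 4339 (BT.node 4338 (BT.leaf cE4338) (BT.leaf cE4339)) (BT.leaf cE4340)) (BT.node 4341 (BT.leaf cE4341) (BT.leaf cE4342))) (BT.node 4344 (BT.node 4343 (BT.leaf cE4343) (BT.leaf cE4344)) (BT.node 4345 (BT.leaf cE4345) (BT.leaf cE4346)))))) (BT.node 4366 (BT.node 4356 (BT.node 4351 (BT.node 4349 (BT.node 4348 (BT.node 4347 (BT.leaf cE4347) (BT.leaf cE4348)) (BT.leaf cE4349)) (BT.node 4350 (BT.leaf cE4350) (BT.leaf cE4351))) (BT.node 4354 (BT.node 4353 (BT.node 4352 (BT.leaf cE4352) (BT.leaf cE4353)) (BT.leaf cE4354)) (BT.node 4355 (BT.leaf cE4355) (BT.leaf cE4356)))) (BT.node 4361 (BT.node 4359 (BT.node 4358 (BT.node 4357 (BT.leaf cE4357) (BT.leaf cE4358)) (BT.leaf cE4359)) (BT.node 4360 (BT.leaf cE4360) (BT.leaf cE4361))) (BT.node 4364 (BT.node 4363 (BT.node 4362 (BT.leaf cE4362) (BT.leaf cE4363)) (BT.leaf cE4364)) (BT.node 4365 (BT.leaf cE4365) (BT.leaf cE4366))))) (BT.node 4376 (BT.node 4371 (BT.node 4369 (BT.node 4368 (BT.node 4367 (BT.leaf cE4367) (BT.leaf cE4368)) (BT.leaf cE4369)) (BT.node 4370 (BT.leaf cE4370) (BT.leaf cE4371))) (BT.node 4374 (BT.node 4373 (BT.node 4372 (BT.leaf cE4372) (BT.leaf cE4373)) (BT.leaf cE4374)) (BT.node 4375 (BT.leaf cE4375) (BT.leaf cE4376)))) (BT.node 4381 (BT.node 4379 (BT.node 4378 (BT.node 4377 (BT.leaf cE4377) (BT.leaf cE4378)) (BT.leaf cE4379)) (BT.node 4380 (BT.leaf cE4380) (BT.leaf cE4381))) (BT.node 4383 (BT.node 4382 (BT.leaf cE4382) (BT.leaf cE4383)) (BT.node 4384 (BT.leaf cE4384) (BT.leaf cE4385)))))))))) (BT.node 4698 (BT.node 4542 (BT.node 4464 (BT.node 4425 (BT.node 4405 (BT.node 4395 (BT.node 4390 (BT.node 4388 (BT.node 4387 (BT.node 4386 (BT.leaf cE4386) (BT.leaf cE4387)) (BT.leaf cE4388)) (BT.node 4389 (BT.leaf cE4389) (BT.leaf cE4390))) (BT.node 4393 (BT.node 4392 (BT.node 4391 (BT.leaf cE4391) (BT.leaf cE4392)) (BT.leaf cE4393)) (BT.node 4394 (BT.leaf cE4394) (BT.leaf cE4395)))) (BT.node 4400 (BT.node 4398 (BT.node 4397 (BT.node 4396 (BT.leaf cE4396) (BT.leaf cE4397)) (BT.leaf cE4398)) (BT.node 4399 (BT.leaf cE4399) (BT.leaf cE4400))) (BT.node 4403 (BT.node 4402 (BT.node 4401 (BT.leaf cE4401) (BT.leaf cE4402)) (BT.leaf cE4403)) (BT.node 4404 (BT.leaf cE4404) (BT.leaf cE4405))))) (BT.node 4415 (BT.node 4410 (BT.node 4408 (BT.node 4407 (BT.node 4406 (BT.leaf cE4406) (BT.leaf cE4407)) (BT.leaf cE4408)) (BT.node 4409 (BT.leaf cE4409) (BT.leaf cE4410))) (BT.node 4413 (BT.node 4412 (BT.node 4411 (BT.leaf cE4411) (BT.leaf cE4412)) (BT.leaf cE4413)) (BT.node 4414 (BT.leaf cE4414) (BT.leaf cE4415)))) (BT.node 4420 (BT.node 4418 (BT.node 4417 (BT.node 4416 (BT.leaf cE4416) (BT.leaf cE4417)) (BT.leaf cE4418)) (BT.node 4419 (BT.leaf cE4419) (BT.leaf cE4420))) (BT.node 4423 (BT.node 4422 (BT.node 4421 (BT.leaf cE4421) (BT.leaf cE4422)) (BT.leaf cE4423)) (BT.node 4424 (BT.leaf cE4424) (BT.leaf cE4425)))))) (BT.node 4445 (BT.node 4435 (BT.node 4430 (BT.node 4428 (BT.node 4427 (BT.node 4426 (BT.leaf cE4426) (BT.leaf cE4427)) (BT.leaf cE4428)) (BT.node 4429 (BT.leaf cE4429) (BT.leaf cE4430))) (BT.node 4433 (BT.node 4432 (BT.node 4431 (BT.leaf cE4431) (BT.leaf cE4432)) (BT.leaf cE4433)) (BT.node 4434 (BT.leaf cE4434) (BT.leaf cE4435)))) (BT.node 4440 (BT.node 4438 (BT.node 4437 (BT.node 4436 (BT.leaf cE4436) (BT.leaf cE4437)) (BT.leaf cE4438)) (BT.node 4439 (BT.leaf cE4439) (BT.leaf cE4440))) (BT.node 4443 (BT.node 4442 (BT.node 4441 (BT.leaf cE4441) (BT.leaf cE4442)) (BT.leaf cE4443)) (BT.node 4444 (BT.leaf cE4444) (BT.leaf cE4445))))) (BT.node 4455 (BT.node 4450 (BT.node 4448 (BT.node 4447 (BT.node 4446 (BT.leaf cE4446) (BT.leaf cE4447)) (BT.leaf cE4448)) (BT.node 4449 (BT.leaf cE4449) (BT.leaf cE4450))) (BT.node 4453 (BT.node 4452 (BT.node 4451 (BT.leaf cE4451) (BT.leaf cE4452)) (BT.leaf cE4453)) (BT.node 4454 (BT.leaf cE4454) (BT.leaf cE4455)))) (BT.node 4460 (BT.node 4458 (BT.node 4457 (BT.node 4456 (BT.leaf cE4456) (BT.leaf cE4457)) (BT.leaf cE4458)) (BT.node 4459 (BT.leaf cE4459) (BT.leaf cE4460))) (BT.node 4462 (BT.node 4461 (BT.leaf cE4461) (BT.leaf cE4462)) (BT.node 4463 (BT.leaf cE4463) (BT.leaf cE4464))))))) (BT.node 4503 (BT.node 4484 (BT.node 4474 (BT.node 4469 (BT.node 4467 (BT.node 4466 (BT.node 4465 (BT.leaf cE4465) (BT.leaf cE4466)) (BT.leaf cE4467)) (BT.node 4468 (BT.leaf cE4468) (BT.leaf cE4469))) (BT.node 4472 (BT.node 4471 (BT.node 4470 (BT.leaf cE4470) (BT.leaf cE4471)) (BT.leaf cE4472)) (BT.node 4473 (BT.leaf cE4473) (BT.leaf cE4474)))) (BT.node 4479 (BT.node 4477 (BT.node 4476 (BT.node 4475 (BT.leaf cE4475) (BT.leaf cE4476)) (BT.leaf cE4477)) (BT.node 4478 (BT.leaf cE4478) (BT.leaf cE4479))) (BT.node 4482 (BT.node 4481 (BT.node 4480 (BT.leaf cE4480) (BT.leaf cE4481)) (BT.leaf cE4482)) (BT.node 4483 (BT.leaf cE4483) (BT.leaf cE4484))))) (BT.node 4494 (BT.node 4489 (BT.node 4487 (BT.node 4486 (BT.node 4485 (BT.leaf cE4485) (BT.leaf cE4486)) (BT.leaf cE4487)) (BT.node 4488 (BT.leaf cE4488) (BT.leaf cE4489))) (BT.node 4492 (BT.node 4491 (BT.node 4490 (BT.leaf cE4490) (BT.leaf cE4491)) (BT.leaf cE4492)) (BT.node 4493 (BT.leaf cE4493) (BT.leaf cE4494)))) (BT.node 4499 (BT.node 4497 (BT.node 4496 (BT.node 4495 (BT.leaf cE4495) (BT.leaf cE4496)) (BT.leaf cE4497)) (BT.node 4498 (BT.leaf cE4498) (BT.leaf cE4499))) (BT.node 4501 (BT.node 4500 (BT.leaf cE4500) (BT.leaf cE4501)) (BT.node 4502 (BT.leaf cE4502) (BT.leaf cE4503)))))) (BT.node 4523 (BT.node 4513 (BT.node 4508 (BT.node 4506 (BT.node 4505 (BT.node 4504 (BT.leaf cE4504) (BT.leaf cE4505)) (BT.leaf cE4506)) (BT.node 4507 (BT.leaf cE4507) (BT.leaf cE4508))) (BT.node 4511 (BT.node 4510 (BT.node 4509 (BT.leaf cE4509) (BT.leaf cE4510)) (BT.leaf cE4511)) (BT.node 4512 (BT.leaf cE4512) (BT.leaf cE4513)))) (BT.node 4518 (BT.node 4516 (BT.node 4515 (BT.node 4514 (BT.leaf cE4514) (BT.leaf cE4515)) (BT.leaf cE4516)) (BT.node 4517 (BT.leaf cE4517) (BT.leaf cE4518))) (BT.node 4521 (BT.node 4520 (BT.node 4519 (BT.leaf cE4519) (BT.leaf cE4520)) (BT.leaf cE4521)) (BT.node 4522 (BT.leaf cE4522) (BT.leaf cE4523))))) (BT.node 4533 (BT.node 4528 (BT.node 4526 (BT.node 4525 (BT.node 4524 (BT.leaf cE4524) (BT.leaf cE4525)) (BT.leaf cE4526)) (BT.node 4527 (BT.leaf cE4527) (BT.leaf cE4528))) (BT.node 4531 (BT.node 4530 (BT.node 4529 (BT.leaf cE4529) (BT.leaf cE4530)) (BT.leaf cE4531)) (BT.node 4532 (BT.leaf cE4532) (BT.leaf cE4533)))) (BT.node 4538 (BT.node 4536 (BT.node 4535 (BT.node 4534 (BT.leaf cE4534) (BT.leaf cE4535)) (BT.leaf cE4536)) (BT.node 4537 (BT.leaf cE4537) (BT.leaf cE4538))) (BT.node 4540 (BT.node 4539 (BT.leaf cE4539) (BT.leaf cE4540)) (BT.node 4541 (BT.leaf cE4541) (BT.leaf cE4542)))))))) (BT.node 4620 (BT.node 4581 (BT.node 4562 (BT.node 4552 (BT.node 4547 (BT.node 4545 (BT.node 4544 (BT.node 4543 (BT.leaf cE4543) (BT.leaf cE4544)) (BT.leaf cE4545)) (BT.node 4546 (BT.leaf cE4546) (BT.leaf cE4547))) (BT.node 4550 (BT.node 4549 (BT.node 4548 (BT.leaf cE4548) (BT.leaf cE4549)) (BT.leaf cE4550)) (BT.node 4551 (BT.leaf cE4551) (BT.leaf cE4552)))) (BT.node 4557 (BT.node 4555 (BT.node 4554 (BT.node 4553 (BT.leaf cE4553) (BT.leaf cE4554)) (BT.leaf cE4555)) (BT.node 4556 (BT.leaf cE4556) (BT.leaf cE4557))) (BT.node 4560 (BT.node 4559 (BT.node 4558 (BT.leaf cE4558) (BT.leaf cE4559)) (BT.leaf cE4560)) (BT.node 4561 (BT.leaf cE4561) (BT.leaf cE4562))))) (BT.node 4572 (BT.node 4567 (BT.node 4565 (BT.node 4564 (BT.node 4563 (BT.leaf cE4563) (BT.leaf cE4564)) (BT.leaf cE4565)) (BT.node 4566 (BT.leaf cE4566) (BT.leaf cE4567))) (BT.node 4570 (BT.node 4569 (BT.node 4568 (BT.leaf cE4568) (BT.leaf cE4569)) (BT.leaf cE4570)) (BT.node 4571 (BT.leaf cE4571) (BT.leaf cE4572)))) (BT.node 4577 (BT.node 4575 (BT.node 4574 (BT.node 4573 (BT.leaf cE4573) (BT.leaf cE4574)) (BT.leaf cE4575)) (BT.node 4576 (BT.leaf cE4576) (BT.leaf cE4577))) (BT.node 4579 (BT.node 4578 (BT.leaf cE4578) (BT.leaf cE4579)) (BT.node 4580 (BT.leaf cE4580) (BT.leaf cE4581)))))) (BT.node 4601 (BT.node 4591 (BT.node 4586 (BT.node 4584 (BT.node 4583 (BT.node 4582 (BT.leaf cE4582) (BT.leaf cE4583)) (BT.leaf cE4584)) (BT.node 4585 (BT.leaf cE4585) (BT.leaf cE4586))) (BT.node 4589 (BT.node 4588 (BT.node 4587 (BT.leaf cE4587) (BT.leaf cE4588)) (BT.leaf cE4589)) (BT.node 4590 (BT.leaf cE4590) (BT.leaf cE4591)))) (BT.node 4596 (BT.node 4594 (BT.node 4593 (BT.node 4592 (BT.leaf cE4592) (BT.leaf cE4593)) (BT.leaf cE4594)) (BT.node 4595 (BT.leaf cE4595) (BT.leaf cE4596))) (BT.node 4599 (BT.node 4598 (BT.node 4597 (BT.leaf cE4597) (BT.leaf cE4598)) (BT.leaf cE4599)) (BT.node 4600 (BT.leaf cE4600) (BT.leaf cE4601))))) (BT.node 4611 (BT.node 4606 (BT.node 4604 (BT.node 4603 (BT.node 4602 (BT.leaf cE4602) (BT.leaf cE4603)) (BT.leaf cE4604)) (BT.node 4605 (BT.leaf cE4605) (BT.leaf cE4606))) (BT.node 4609 (BT.node 4608 (BT.node 4607 (BT.leaf cE4607) (BT.leaf cE4608)) (BT.leaf cE4609)) (BT.node 4610 (BT.leaf cE4610) (BT.leaf cE4611)))) (BT.node 4616 (BT.node 4614 (BT.node 4613 (BT.node 4612 (BT.leaf cE4612) (BT.leaf cE4613)) (BT.leaf cE4614)) (BT.node 4615 (BT.leaf cE4615) (BT.leaf cE4616))) (BT.node 4618 (BT.node 4617 (BT.leaf cE4617) (BT.leaf cE4618)) (BT.node 4619 (BT.leaf cE4619) (BT.leaf cE4620))))))) (BT.node 4659 (BT.node 4640 (BT.node 4630 (BT.node 4625 (BT.node 4623 (BT.node 4622 (BT.node 4621 (BT.leaf cE4621) (BT.leaf cE4622)) (BT.leaf cE4623)) (BT.node 4624 (BT.leaf cE4624) (BT.leaf cE4625))) (BT.node 4628 (BT.node 4627 (BT.node 4626 (BT.leaf cE4626) (BT.leaf cE4627)) (BT.leaf cE4628)) (BT.node 4629 (BT.leaf cE4629) (BT.leaf cE4630)))) (BT.node 4635 (BT.node 4633 (BT.node 4632 (BT.node 4631 (BT.leaf cE4631) (BT.leaf cE4632)) (BT.leaf cE4633)) (BT.node 4634 (BT.leaf cE4634) (BT.leaf cE4635))) (BT.node 4638 (BT.node 4637 (BT.node 4636 (BT.leaf cE4636) (BT.leaf cE4637)) (BT.leaf cE4638)) (BT.node 4639 (BT.leaf cE4639) (BT.leaf cE4640))))) (BT.node 4650 (BT.node 4645 (BT.node 4643 (BT.node 4642 (BT.node 4641 (BT.leaf cE4641) (BT.leaf cE4642)) (BT.leaf cE4643)) (BT.node 4644 (BT.leaf cE4644) (BT.leaf cE4645))) (BT.node 4648 (BT.node 4647 (BT.node 4646 (BT.leaf cE4646) (BT.leaf cE4647)) (BT.leaf cE4648)) (BT.node 4649 (BT.leaf cE4649) (BT.leaf cE4650)))) (BT.node 4655 (BT.node 4653 (BT.node 4652 (BT.node 4651 (BT.leaf cE4651) (BT.leaf cE4652)) (BT.leaf cE4653)) (BT.node 4654 (BT.leaf cE4654) (BT.leaf cE4655))) (BT.node 4657 (BT.node 4656 (BT.leaf cE4656) (BT.leaf cE4657)) (BT.node 4658 (BT.leaf cE4658) (BT.leaf cE4659)))))) (BT.node 4679 (BT.node 4669 (BT.node 4664 (BT.node 4662 (BT.node 4661 (BT.node 4660 (BT.leaf cE4660) (BT.leaf cE4661)) (BT.leaf cE4662)) (BT.node 4663 (BT.leaf cE4663) (BT.leaf cE4664))) (BT.node 4667 (BT.node 4666 (BT.node 4665 (BT.leaf cE4665) (BT.leaf cE4666)) (BT.leaf cE4667)) (BT.node 4668 (BT.leaf cE4668) (BT.leaf cE4669)))) (BT.node 4674 (BT.node 4672 (BT.node 4671 (BT.node 4670 (BT.leaf cE4670) (BT.leaf cE4671)) (BT.leaf cE4672)) (BT.node 4673 (BT.leaf cE4673) (BT.leaf cE4674))) (BT.node 4677 (BT.node 4676 (BT.node 4675 (BT.leaf cE4675) (BT.leaf cE4676)) (BT.leaf cE4677)) (BT.node 4678 (BT.leaf cE4678) (BT.leaf cE4679))))) (BT.node 4689 (BT.node 4684 (BT.node 4682 (BT.node 4681 (BT.node 4680 (BT.leaf cE4680) (BT.leaf cE4681)) (BT.leaf cE4682)) (BT.node 4683 (BT.leaf cE4683) (BT.leaf cE4684))) (BT.node 4687 (BT.node 4686 (BT.node 4685 (BT.leaf cE4685) (BT.leaf cE4686)) (BT.leaf cE4687)) (BT.node 4688 (BT.leaf cE4688) (BT.leaf cE4689)))) (BT.node 4694 (BT.node 4692 (BT.node 4691 (BT.node 4690 (BT.leaf cE4690) (BT.leaf cE4691)) (BT.leaf cE4692)) (BT.node 4693 (BT.leaf cE4693) (BT.leaf cE4694))) (BT.node 4696 (BT.node 4695 (BT.leaf cE4695) (BT.leaf cE4696)) (BT.node 4697 (BT.leaf cE4697) (BT.leaf cE4698))))))))) (BT.node 4855 (BT.node 4777 (BT.node 4738 (BT.node 4718 (BT.node 4708 (BT.node 4703 (BT.node 4701 (BT.node 4700 (BT.node 4699 (BT.leaf cE4699) (BT.leaf cE4700)) (BT.leaf cE4701)) (BT.node 4702 (BT.leaf cE4702) (BT.leaf cE4703))) (BT.node 4706 (BT.node 4705 (BT.node 4704 (BT.leaf cE4704) (BT.leaf cE4705)) (BT.leaf cE4706)) (BT.node 4707 (BT.leaf cE4707) (BT.leaf cE4708)))) (BT.node 4713 (BT.node 4711 (BT.node 4710 (BT.node 4709 (BT.leaf cE4709) (BT.leaf cE4710)) (BT.leaf cE4711)) (BT.node 4712 (BT.leaf cE4712) (BT.leaf cE4713))) (BT.node 4716 (BT.node 4715 (BT.node 4714 (BT.leaf cE4714) (BT.leaf cE4715)) (BT.leaf cE4716)) (BT.node 4717 (BT.leaf cE4717) (BT.leaf cE4718))))) (BT.node 4728 (BT.node 4723 (BT.node 4721 (BT.node 4720 (BT.node 4719 (BT.leaf cE4719) (BT.leaf cE4720)) (BT.leaf cE4721)) (BT.node 4722 (BT.leaf cE4722) (BT.leaf cE4723))) (BT.node 4726 (BT.node 4725 (BT.node 4724 (BT.leaf cE4724) (BT.leaf cE4725)) (BT.leaf cE4726)) (BT.node 4727 (BT.leaf cE4727) (BT.leaf cE4728)))) (BT.node 4733 (BT.node 4731 (BT.node 4730 (BT.node 4729 (BT.leaf cE4729) (BT.leaf cE4730)) (BT.leaf cE4731)) (BT.node 4732 (BT.leaf cE4732) (BT.leaf cE4733))) (BT.node 4736 (BT.node 4735 (BT.node 4734 (BT.leaf cE4734) (BT.leaf cE4735)) (BT.leaf cE4736)) (BT.node 4737 (BT.leaf cE4737) (BT.leaf cE4738)))))) (BT.node 4758 (BT.node 4748 (BT.node 4743 (BT.node 4741 (BT.node 4740 (BT.node 4739 (BT.leaf cE4739) (BT.leaf cE4740)) (BT.leaf cE4741)) (BT.node 4742 (BT.leaf cE4742) (BT.leaf cE4743))) (BT.node 4746 (BT.node 4745 (BT.node 4744 (BT.leaf cE4744) (BT.leaf cE4745)) (BT.leaf cE4746)) (BT.node 4747 (BT.leaf cE4747) (BT.leaf cE4748)))) (BT.node 4753 (BT.node 4751 (BT.node 4750 (BT.node 4749 (BT.leaf cE4749) (BT.leaf cE4750)) (BT.leaf cE4751)) (BT.node 4752 (BT.leaf cE4752) (BT.leaf cE4753))) (BT.node 4756 (BT.node 4755 (BT.node 4754 (BT.leaf cE4754) (BT.leaf cE4755)) (BT.leaf cE4756)) (BT.node 4757 (BT.leaf cE4757) (BT.leaf cE4758))))) (BT.node 4768 (BT.node 4763 (BT.node 4761 (BT.node 4760 (BT.node 4759 (BT.leaf cE4759) (BT.leaf cE4760)) (BT.leaf cE4761)) (BT.node 4762 (BT.leaf cE4762) (BT.leaf cE4763))) (BT.node 4766 (BT.node 4765 (BT.node 4764 (BT.leaf cE4764) (BT.leaf cE4765)) (BT.leaf cE4766)) (BT.node 4767 (BT.leaf cE4767) (BT.leaf cE4768)))) (BT.node 4773 (BT.node 4771 (BT.node 4770 (BT.node 4769 (BT.leaf cE4769) (BT.leaf cE4770)) (BT.leaf cE4771)) (BT.node 4772 (BT.leaf cE4772) (BT.leaf cE4773))) (BT.node 4775 (BT.node 4774 (BT.leaf cE4774) (BT.leaf cE4775)) (BT.node 4776 (BT.leaf cE4776) (BT.leaf cE4777))))))) (BT.node 4816 (BT.node 4797 (BT.node 4787 (BT.node 4782 (BT.node 4780 (BT.node 4779 (BT.node 4778 (BT.leaf cE4778) (BT.leaf cE4779)) (BT.leaf cE4780)) (BT.node 4781 (BT.leaf cE4781) (BT.leaf cE4782))) (BT.node 4785 (BT.node 4784 (BT.node 4783 (BT.leaf cE4783) (BT.leaf cE4784)) (BT.leaf cE4785)) (BT.node 4786 (BT.leaf cE4786) (BT.leaf cE4787)))) (BT.node 4792 (BT.node 4790 (BT.node 4789 (BT.node 4788 (BT.leaf cE4788) (BT.leaf cE4789)) (BT.leaf cE4790)) (BT.node 4791 (BT.leaf cE4791) (BT.leaf cE4792))) (BT.node 4795 (BT.node 4794 (BT.node 4793 (BT.leaf cE4793) (BT.leaf cE4794)) (BT.leaf cE4795)) (BT.node 4796 (BT.leaf cE4796) (BT.leaf cE4797))))) (BT.node 4807 (BT.node 4802 (BT.node 4800 (BT.node 4799 (BT.node 4798 (BT.leaf cE4798) (BT.leaf cE4799)) (BT.leaf cE4800)) (BT.node 4801 (BT.leaf cE4801) (BT.leaf cE4802))) (BT.node 4805 (BT.node 4804 (BT.node 4803 (BT.leaf cE4803) (BT.leaf cE4804)) (BT.leaf cE4805)) (BT.node 4806 (BT.leaf cE4806) (BT.leaf cE4807)))) (BT.node 4812 (BT.node 4810 (BT.node 4809 (BT.node 4808 (BT.leaf cE4808) (BT.leaf cE4809)) (BT.leaf cE4810)) (BT.node 4811 (BT.leaf cE4811) (BT.leaf cE4812))) (BT.node 4814 (BT.node 4813 (BT.leaf cE4813) (BT.leaf cE4814)) (BT.node 4815 (BT.leaf cE4815) (BT.leaf cE4816)))))) (BT.node 4836 (BT.node 4826 (BT.node 4821 (BT.node 4819 (BT.node 4818 (BT.node 4817 (BT.leaf cE4817) (BT.leaf cE4818)) (BT.leaf cE4819)) (BT.node 4820 (BT.leaf cE4820) (BT.leaf cE4821))) (BT.node 4824 (BT.node 4823 (BT.node 4822 (BT.leaf cE4822) (BT.leaf cE4823)) (BT.leaf cE4824)) (BT.node 4825 (BT.leaf cE4825) (BT.leaf cE4826)))) (BT.node 4831 (BT.node 4829 (BT.node 4828 (BT.node 4827 (BT.leaf cE4827) (BT.leaf cE4828)) (BT.leaf cE4829)) (BT.node 4830 (BT.leaf cE4830) (BT.leaf cE4831))) (BT.node 4834 (BT.node 4833 (BT.node 4832 (BT.leaf cE4832) (BT.leaf cE4833)) (BT.leaf cE4834)) (BT.node 4835 (BT.leaf cE4835) (BT.leaf cE4836))))) (BT.node 4846 (BT.node 4841 (BT.node 4839 (BT.node 4838 (BT.node 4837 (BT.leaf cE4837) (BT.leaf cE4838)) (BT.leaf cE4839)) (BT.node 4840 (BT.leaf cE4840) (BT.leaf cE4841))) (BT.node 4844 (BT.node 4843 (BT.node 4842 (BT.leaf cE4842) (BT.leaf cE4843)) (BT.leaf cE4844)) (BT.node 4845 (BT.leaf cE4845) (BT.leaf cE4846)))) (BT.node 4851 (BT.node 4849 (BT.node 4848 (BT.node 4847 (BT.leaf cE4847) (BT.leaf cE4848)) (BT.leaf cE4849)) (BT.node 4850 (BT.leaf cE4850) (BT.leaf cE4851))) (BT.node 4853 (BT.node 4852 (BT.leaf cE4852) (BT.leaf cE4853)) (BT.node 4854 (BT.leaf cE4854) (BT.leaf cE4855)))))))) (BT.node 4933 (BT.node 4894 (BT.node 4875 (BT.node 4865 (BT.node 4860 (BT.node 4858 (BT.node 4857 (BT.node 4856 (BT.leaf cE4856) (BT.leaf cE4857)) (BT.leaf cE4858)) (BT.node 4859 (BT.leaf cE4859) (BT.leaf cE4860))) (BT.node 4863 (BT.node 4862 (BT.node 4861 (BT.leaf cE4861) (BT.leaf cE4862)) (BT.leaf cE4863)) (BT.node 4864 (BT.leaf cE4864) (BT.leaf cE4865)))) (BT.node 4870 (BT.node 4868 (BT.node 4867 (BT.node 4866 (BT.leaf cE4866) (BT.leaf cE4867)) (BT.leaf cE4868)) (BT.node 4869 (BT.leaf cE4869) (BT.leaf cE4870))) (BT.node 4873 (BT.node 4872 (BT.node 4871 (BT.leaf cE4871) (BT.leaf cE4872)) (BT.leaf cE4873)) (BT.node 4874 (BT.leaf cE4874) (BT.leaf cE4875))))) (BT.node 4885 (BT.node 4880 (BT.node 4878 (BT.node 4877 (BT.node 4876 (BT.leaf cE4876) (BT.leaf cE4877)) (BT.leaf cE4878)) (BT.node 4879 (BT.leaf cE4879) (BT.leaf cE4880))) (BT.node 4883 (BT.node 4882 (BT.node 4881 (BT.leaf cE4881) (BT.leaf cE4882)) (BT.leaf cE4883)) (BT.node 4884 (BT.leaf cE4884) (BT.leaf cE4885)))) (BT.node 4890 (BT.node 4888 (BT.node 4887 (BT.node 4886 (BT.leaf cE4886) (BT.leaf cE4887)) (BT.leaf cE4888)) (BT.node 4889 (BT.leaf cE4889) (BT.leaf cE4890))) (BT.node 4892 (BT.node 4891 (BT.leaf cE4891) (BT.leaf cE4892)) (BT.node 4893 (BT.leaf cE4893) (BT.leaf cE4894)))))) (BT.node 4914 (BT.node 4904 (BT.node 4899 (BT.node 4897 (BT.node 4896 (BT.node 4895 (BT.leaf cE4895) (BT.leaf cE4896)) (BT.leaf cE4897)) (BT.node 4898 (BT.leaf cE4898) (BT.leaf cE4899))) (BT.node 4902 (BT.node 4901 (BT.node 4900 (BT.leaf cE4900) (BT.leaf cE4901)) (BT.leaf cE4902)) (BT.node 4903 (BT.leaf cE4903) (BT.leaf cE4904)))) (BT.node 4909 (BT.node 4907 (BT.node 4906 (BT.node 4905 (BT.leaf cE4905) (BT.leaf cE4906)) (BT.leaf cE4907)) (BT.node 4908 (BT.leaf cE4908) (BT.leaf cE4909))) (BT.node 4912 (BT.node 4911 (BT.node 4910 (BT.leaf cE4910) (BT.leaf cE4911)) (BT.leaf cE4912)) (BT.node 4913 (BT.leaf cE4913) (BT.leaf cE4914))))) (BT.node 4924 (BT.node 4919 (BT.node 4917 (BT.node 4916 (BT.node 4915 (BT.leaf cE4915) (BT.leaf cE4916)) (BT.leaf cE4917)) (BT.node 4918 (BT.leaf cE4918) (BT.leaf cE4919))) (BT.node 4922 (BT.node 4921 (BT.node 4920 (BT.leaf cE4920) (BT.leaf cE4921)) (BT.leaf cE4922)) (BT.node 4923 (BT.leaf cE4923) (BT.leaf cE4924)))) (BT.node 4929 (BT.node 4927 (BT.node 4926 (BT.node 4925 (BT.leaf cE4925) (BT.leaf cE4926)) (BT.leaf cE4927)) (BT.node 4928 (BT.leaf cE4928) (BT.leaf cE4929))) (BT.node 4931 (BT.node 4930 (BT.leaf cE4930) (BT.leaf cE4931)) (BT.node 4932 (BT.leaf cE4932) (BT.leaf cE4933))))))) (BT.node 4972 (BT.node 4953 (BT.node 4943 (BT.node 4938 (BT.node 4936 (BT.node 4935 (BT.node 4934 (BT.leaf cE4934) (BT.leaf cE4935)) (BT.leaf cE4936)) (BT.node 4937 (BT.leaf cE4937) (BT.leaf cE4938))) (BT.node 4941 (BT.node 4940 (BT.node 4939 (BT.leaf cE4939) (BT.leaf cE4940)) (BT.leaf cE4941)) (BT.node 4942 (BT.leaf cE4942) (BT.leaf cE4943)))) (BT.node 4948 (BT.node 4946 (BT.node 4945 (BT.node 4944 (BT.leaf cE4944) (BT.leaf cE4945)) (BT.leaf cE4946)) (BT.node 4947 (BT.leaf cE4947) (BT.leaf cE4948))) (BT.node 4951 (BT.node 4950 (BT.node 4949 (BT.leaf cE4949) (BT.leaf cE4950)) (BT.leaf cE4951)) (BT.node 4952 (BT.leaf cE4952) (BT.leaf cE4953))))) (BT.node 4963 (BT.node 4958 (BT.node 4956 (BT.node 4955 (BT.node 4954 (BT.leaf cE4954) (BT.leaf cE4955)) (BT.leaf cE4956)) (BT.node 4957 (BT.leaf cE4957) (BT.leaf cE4958))) (BT.node 4961 (BT.node 4960 (BT.node 4959 (BT.leaf cE4959) (BT.leaf cE4960)) (BT.leaf cE4961)) (BT.node 4962 (BT.leaf cE4962) (BT.leaf cE4963)))) (BT.node 4968 (BT.node 4966 (BT.node 4965 (BT.node 4964 (BT.leaf cE4964) (BT.leaf cE4965)) (BT.leaf cE4966)) (BT.node 4967 (BT.leaf cE4967) (BT.leaf cE4968))) (BT.node 4970 (BT.node 4969 (BT.leaf cE4969) (BT.leaf cE4970)) (BT.node 4971 (BT.leaf cE4971) (BT.leaf cE4972)))))) (BT.node 4992 (BT.node 4982 (BT.node 4977 (BT.node 4975 (BT.node 4974 (BT.node 4973 (BT.leaf cE4973) (BT.leaf cE4974)) (BT.leaf cE4975)) (BT.node 4976 (BT.leaf cE4976) (BT.leaf cE4977))) (BT.node 4980 (BT.node 4979 (BT.node 4978 (BT.leaf cE4978) (BT.leaf cE4979)) (BT.leaf cE4980)) (BT.node 4981 (BT.leaf cE4981) (BT.leaf cE4982)))) (BT.node 4987 (BT.node 4985 (BT.node 4984 (BT.node 4983 (BT.leaf cE4983) (BT.leaf cE4984)) (BT.leaf cE4985)) (BT.node 4986 (BT.leaf cE4986) (BT.leaf cE4987))) (BT.node 4990 (BT.node 4989 (BT.node 4988 (BT.leaf cE4988) (BT.leaf cE4989)) (BT.leaf cE4990)) (BT.node 4991 (BT.leaf cE4991) (BT.leaf cE4992))))) (BT.node 5002 (BT.node 4997 (BT.node 4995 (BT.node 4994 (BT.node 4993 (BT.leaf cE4993) (BT.leaf cE4994)) (BT.leaf cE4995)) (BT.node 4996 (BT.leaf cE4996) (BT.leaf cE4997))) (BT.node 5000 (BT.node 4999 (BT.node 4998 (BT.leaf cE4998) (BT.leaf cE4999)) (BT.leaf cE5000)) (BT.node 5001 (BT.leaf cE5001) (BT.leaf cE5002)))) (BT.node 5007 (BT.node 5005 (BT.node 5004 (BT.node 5003 (BT.leaf cE5003) (BT.leaf cE5004)) (BT.leaf cE5005)) (BT.node 5006 (BT.leaf cE5006) (BT.leaf cE5007))) (BT.node 5009 (BT.node 5008 (BT.leaf cE5008) (BT.leaf cE5009)) (BT.node 5010 (BT.leaf cE5010) (BT.leaf cE5011))))))))))))) (BT.node 7517 (BT.node 6264 (BT.node 5638 (BT.node 5325 (BT.node 5168 (BT.node 5090 (BT.node 5051 (BT.node 5031 (BT.node 5021 (BT.node 5016 (BT.node 5014 (BT.node 5013 (BT.node 5012 (BT.leaf cE5012) (BT.leaf cE5013)) (BT.leaf cE5014)) (BT.node 5015 (BT.leaf cE5015) (BT.leaf cE5016))) (BT.node 5019 (BT.node 5018 (BT.node 5017 (BT.leaf cE5017) (BT.leaf cE5018)) (BT.leaf cE5019)) (BT.node 5020 (BT.leaf cE5020) (BT.leaf cE5021)))) (BT.node 5026 (BT.node 5024 (BT.node 5023 (BT.node 5022 (BT.leaf cE5022) (BT.leaf cE5023)) (BT.leaf cE5024)) (BT.node 5025 (BT.leaf cE5025) (BT.leaf cE5026))) (BT.node 5029 (BT.node 5028 (BT.node 5027 (BT.leaf cE5027) (BT.leaf cE5028)) (BT.leaf cE5029)) (BT.node 5030 (BT.leaf cE5030) (BT.leaf cE5031))))) (BT.node 5041 (BT.node 5036 (BT.node 5034 (BT.node 5033 (BT.node 5032 (BT.leaf cE5032) (BT.leaf cE5033)) (BT.leaf cE5034)) (BT.node 5035 (BT.leaf cE5035) (BT.leaf cE5036))) (BT.node 5039 (BT.node 5038 (BT.node 5037 (BT.leaf cE5037) (BT.leaf cE5038)) (BT.leaf cE5039)) (BT.node 5040 (BT.leaf cE5040) (BT.leaf cE5041)))) (BT.node 5046 (BT.node 5044 (BT.node 5043 (BT.node 5042 (BT.leaf cE5042) (BT.leaf cE5043)) (BT.leaf cE5044)) (BT.node 5045 (BT.leaf cE5045) (BT.leaf cE5046))) (BT.node 5049 (BT.node 5048 (BT.node 5047 (BT.leaf cE5047) (BT.leaf cE5048)) (BT.leaf cE5049)) (BT.node 5050 (BT.leaf cE5050) (BT.leaf cE5051)))))) (BT.node 5071 (BT.node 5061 (BT.node 5056 (BT.node 5054 (BT.node 5053 (BT.node 5052 (BT.leaf cE5052) (BT.leaf cE5053)) (BT.leaf cE5054)) (BT.node 5055 (BT.leaf cE5055) (BT.leaf cE5056))) (BT.node 5059 (BT.node 5058 (BT.node 5057 (BT.leaf cE5057) (BT.leaf cE5058)) (BT.leaf cE5059)) (BT.node 5060 (BT.leaf cE5060) (BT.leaf cE5061)))) (BT.node 5066 (BT.node 5064 (BT.node 5063 (BT.node 5062 (BT.leaf cE5062) (BT.leaf cE5063)) (BT.leaf cE5064)) (BT.node 5065 (BT.leaf cE5065) (BT.leaf cE5066))) (BT.node 5069 (BT.node 5068 (BT.node 5067 (BT.leaf cE5067) (BT.leaf cE5068)) (BT.leaf cE5069)) (BT.node 5070 (BT.leaf cE5070) (BT.leaf cE5071))))) (BT.node 5081 (BT.node 5076 (BT.node 5074 (BT.node 5073 (BT.node 5072 (BT.leaf cE5072) (BT.leaf cE5073)) (BT.leaf cE5074)) (BT.node 5075 (BT.leaf cE5075) (BT.leaf cE5076))) (BT.node 5079 (BT.node 5078 (BT.node 5077 (BT.leaf cE5077) (BT.leaf cE5078)) (BT.leaf cE5079)) (BT.node 5080 (BT.leaf cE5080) (BT.leaf cE5081)))) (BT.node 5086 (BT.node 5084 (BT.node 5083 (BT.node 5082 (BT.leaf cE5082) (BT.leaf cE5083)) (BT.leaf cE5084)) (BT.node 5085 (BT.leaf cE5085) (BT.leaf cE5086))) (BT.node 5088 (BT.node 5087 (BT.leaf cE5087) (BT.leaf cE5088)) (BT.node 5089 (BT.leaf cE5089) (BT.leaf cE5090))))))) (BT.node 5129 (BT.node 5110 (BT.node 5100 (BT.node 5095 (BT.node 5093 (BT.node 5092 (BT.node 5091 (BT.leaf cE5091) (BT.leaf cE5092)) (BT.leaf cE5093)) (BT.node 5094 (BT.leaf cE5094) (BT.leaf cE5095))) (BT.node 5098 (BT.node 5097 (BT.node 5096 (BT.leaf cE5096) (BT.leaf cE5097)) (BT.leaf cE5098)) (BT.node 5099 (BT.leaf cE5099) (BT.leaf cE5100)))) (BT.node 5105 (BT.node 5103 (BT.node 5102 (BT.node 5101 (BT.leaf cE5101) (BT.leaf cE5102)) (BT.leaf cE5103)) (BT.node 5104 (BT.leaf cE5104) (BT.leaf cE5105))) (BT.node 5108 (BT.node 5107 (BT.node 5106 (BT.leaf cE5106) (BT.leaf cE5107)) (BT.leaf cE5108)) (BT.node 5109 (BT.leaf cE5109) (BT.leaf cE5110))))) (BT.node 5120 (BT.node 5115 (BT.node 5113 (BT.node 5112 (BT.node 5111 (BT.leaf cE5111) (BT.leaf cE5112)) (BT.leaf cE5113)) (BT.node 5114 (BT.leaf cE5114) (BT.leaf cE5115))) (BT.node 5118 (BT.node 5117 (BT.node 5116 (BT.leaf cE5116) (BT.leaf cE5117)) (BT.leaf cE5118)) (BT.node 5119 (BT.leaf cE5119) (BT.leaf cE5120)))) (BT.node 5125 (BT.node 5123 (BT.node 5122 (BT.node 5121 (BT.leaf cE5121) (BT.leaf cE5122)) (BT.leaf cE5123)) (BT.node 5124 (BT.leaf cE5124) (BT.leaf cE5125))) (BT.node 5127 (BT.node 5126 (BT.leaf cE5126) (BT.leaf cE5127)) (BT.node 5128 (BT.leaf cE5128) (BT.leaf cE5129)))))) (BT.node 5149 (BT.node 5139 (BT.node 5134 (BT.node 5132 (BT.node 5131 (BT.node 5130 (BT.leaf cE5130) (BT.leaf cE5131)) (BT.leaf cE5132)) (BT.node 5133 (BT.leaf cE5133) (BT.leaf cE5134))) (BT.node 5137 (BT.node 5136 (BT.node 5135 (BT.leaf cE5135) (BT.leaf cE5136)) (BT.leaf cE5137)) (BT.node 5138 (BT.leaf cE5138) (BT.leaf cE5139)))) (BT.node 5144 (BT.node 5142 (BT.node 5141 (BT.node 5140 (BT.leaf cE5140) (BT.leaf cE5141)) (BT.leaf cE5142)) (BT.node 5143 (BT.leaf cE5143) (BT.leaf cE5144))) (BT.node 5147 (BT.node 5146 (BT.node 5145 (BT.leaf cE5145) (BT.leaf cE5146)) (BT.leaf cE5147)) (BT.node 5148 (BT.leaf cE5148) (BT.leaf cE5149))))) (BT.node 5159 (BT.node 5154 (BT.node 5152 (BT.node 5151 (BT.node 5150 (BT.leaf cE5150) (BT.leaf cE5151)) (BT.leaf cE5152)) (BT.node 5153 (BT.leaf cE5153) (BT.leaf cE5154))) (BT.node 5157 (BT.node 5156 (BT.node 5155 (BT.leaf cE5155) (BT.leaf cE5156)) (BT.leaf cE5157)) (BT.node 5158 (BT.leaf cE5158) (BT.leaf cE5159)))) (BT.node 5164 (BT.node 5162 (BT.node 5161 (BT.node 5160 (BT.leaf cE5160) (BT.leaf cE5161)) (BT.leaf cE5162)) (BT.node 5163 (BT.leaf cE5163) (BT.leaf cE5164))) (BT.node 5166 (BT.node 5165 (BT.leaf cE5165) (BT.leaf cE5166)) (BT.node 5167 (BT.leaf cE5167) (BT.leaf cE5168)))))))) (BT.node 5247 (BT.node 5208 (BT.node 5188 (BT.node 5178 (BT.node 5173 (BT.node 5171 (BT.node 5170 (BT.node 5169 (BT.leaf cE5169) (BT.leaf cE5170)) (BT.leaf cE5171)) (BT.node 5172 (BT.leaf cE5172) (BT.leaf cE5173))) (BT.node 5176 (BT.node 5175 (BT.node 5174 (BT.leaf cE5174) (BT.leaf cE5175)) (BT.leaf cE5176)) (BT.node 5177 (BT.leaf cE5177) (BT.leaf cE5178)))) (BT.node 5183 (BT.node 5181 (BT.node 5180 (BT.node 5179 (BT.leaf cE5179) (BT.leaf cE5180)) (BT.leaf cE5181)) (BT.node 5182 (BT.leaf cE5182) (BT.leaf cE5183))) (BT.node 5186 (BT.node 5185 (BT.node 5184 (BT.leaf cE5184) (BT.leaf cE5185)) (BT.leaf cE5186)) (BT.node 5187 (BT.leaf cE5187) (BT.leaf cE5188))))) (BT.node 5198 (BT.node 5193 (BT.node 5191 (BT.node 5190 (BT.node 5189 (BT.leaf cE5189) (BT.leaf cE5190)) (BT.leaf cE5191)) (BT.node 5192 (BT.leaf cE5192) (BT.leaf cE5193))) (BT.node 5196 (BT.node 5195 (BT.node 5194 (BT.leaf cE5194) (BT.leaf cE5195)) (BT.leaf cE5196)) (BT.node 5197 (BT.leaf cE5197) (BT.leaf cE5198)))) (BT.node 5203 (BT.node 5201 (BT.node 5200 (BT.node 5199 (BT.leaf cE5199) (BT.leaf cE5200)) (BT.leaf cE5201)) (BT.node 5202 (BT.leaf cE5202) (BT.leaf cE5203))) (BT.node 5206 (BT.node 5205 (BT.node 5204 (BT.leaf cE5204) (BT.leaf cE5205)) (BT.leaf cE5206)) (BT.node 5207 (BT.leaf cE5207) (BT.leaf cE5208)))))) (BT.node 5228 (BT.node 5218 (BT.node 5213 (BT.node 5211 (BT.node 5210 (BT.node 5209 (BT.leaf cE5209) (BT.leaf cE5210)) (BT.leaf cE5211)) (BT.node 5212 (BT.leaf cE5212) (BT.leaf cE5213))) (BT.node 5216 (BT.node 5215 (BT.node 5214 (BT.leaf cE5214) (BT.leaf cE5215)) (BT.leaf cE5216)) (BT.node 5217 (BT.leaf cE5217) (BT.leaf cE5218)))) (BT.node 5223 (BT.node 5221 (BT.node 5220 (BT.node 5219 (BT.leaf cE5219) (BT.leaf cE5220)) (BT.leaf cE5221)) (BT.node 5222 (BT.leaf cE5222) (BT.leaf cE5223))) (BT.node 5226 (BT.node 5225 (BT.node 5224 (BT.leaf cE5224) (BT.leaf cE5225)) (BT.leaf cE5226)) (BT.node 5227 (BT.leaf cE5227) (BT.leaf cE5228))))) (BT.node 5238 (BT.node 5233 (BT.node 5231 (BT.node 5230 (BT.node 5229 (BT.leaf cE5229) (BT.leaf cE5230)) (BT.leaf cE5231)) (BT.node 5232 (BT.leaf cE5232) (BT.leaf cE5233))) (BT.node 5236 (BT.node 5235 (BT.node 5234 (BT.leaf cE5234) (BT.leaf cE5235)) (BT.leaf cE5236)) (BT.node 5237 (BT.leaf cE5237) (BT.leaf cE5238)))) (BT.node 5243 (BT.node 5241 (BT.node 5240 (BT.node 5239 (BT.leaf cE5239) (BT.leaf cE5240)) (BT.leaf cE5241)) (BT.node 5242 (BT.leaf cE5242) (BT.leaf cE5243))) (BT.node 5245 (BT.node 5244 (BT.leaf cE5244) (BT.leaf cE5245)) (BT.node 5246 (BT.leaf cE5246) (BT.leaf cE5247))))))) (BT.node 5286 (BT.node 5267 (BT.node 5257 (BT.node 5252 (BT.node 5250 (BT.node 5249 (BT.node 5248 (BT.leaf cE5248) (BT.leaf cE5249)) (BT.leaf cE5250)) (BT.node 5251 (BT.leaf cE5251) (BT.leaf cE5252))) (BT.node 5255 (BT.node 5254 (BT.node 5253 (BT.leaf cE5253) (BT.leaf cE5254)) (BT.leaf cE5255)) (BT.node 5256 (BT.leaf cE5256) (BT.leaf cE5257)))) (BT.node 5262 (BT.node 5260 (BT.node 5259 (BT.node 5258 (BT.leaf cE5258) (BT.leaf cE5259)) (BT.leaf cE5260)) (BT.node 5261 (BT.leaf cE5261) (BT.leaf cE5262))) (BT.node 5265 (BT.node 5264 (BT.node 5263 (BT.leaf cE5263) (BT.leaf cE5264)) (BT.leaf cE5265)) (BT.node 5266 (BT.leaf cE5266) (BT.leaf cE5267))))) (BT.node 5277 (BT.node 5272 (BT.node 5270 (BT.node 5269 (BT.node 5268 (BT.leaf cE5268) (BT.leaf cE5269)) (BT.leaf cE5270)) (BT.node 5271 (BT.leaf cE5271) (BT.leaf cE5272))) (BT.node 5275 (BT.node 5274 (BT.node 5273 (BT.leaf cE5273) (BT.leaf cE5274)) (BT.leaf cE5275)) (BT.node 5276 (BT.leaf cE5276) (BT.leaf cE5277)))) (BT.node 5282 (BT.node 5280 (BT.node 5279 (BT.node 5278 (BT.leaf cE5278) (BT.leaf cE5279)) (BT.leaf cE5280)) (BT.node 5281 (BT.leaf cE5281) (BT.leaf cE5282))) (BT.node 5284 (BT.node 5283 (BT.leaf cE5283) (BT.leaf cE5284)) (BT.node 5285 (BT.leaf cE5285) (BT.leaf cE5286)))))) (BT.node 5306 (BT.node 5296 (BT.node 5291 (BT.node 5289 (BT.node 5288 (BT.node 5287 (BT.leaf cE5287) (BT.leaf cE5288)) (BT.leaf cE5289)) (BT.node 5290 (BT.leaf cE5290) (BT.leaf cE5291))) (BT.node 5294 (BT.node 5293 (BT.node 5292 (BT.leaf cE5292) (BT.leaf cE5293)) (BT.leaf cE5294)) (BT.node 5295 (BT.leaf cE5295) (BT.leaf cE5296)))) (BT.node 5301 (BT.node 5299 (BT.node 5298 (BT.node 5297 (BT.leaf cE5297) (BT.leaf cE5298)) (BT.leaf cE5299)) (BT.node 5300 (BT.leaf cE5300) (BT.leaf cE5301))) (BT.node 5304 (BT.node 5303 (BT.node 5302 (BT.leaf cE5302) (BT.leaf cE5303)) (BT.leaf cE5304)) (BT.node 5305 (BT.leaf cE5305) (BT.leaf cE5306))))) (BT.node 5316 (BT.node 5311 (BT.node 5309 (BT.node 5308 (BT.node 5307 (BT.leaf cE5307) (BT.leaf cE5308)) (BT.leaf cE5309)) (BT.node 5310 (BT.leaf cE5310) (BT.leaf cE5311))) (BT.node 5314 (BT.node 5313 (BT.node 5312 (BT.leaf cE5312) (BT.leaf cE5313)) (BT.leaf cE5314)) (BT.node 5315 (BT.leaf cE5315) (BT.leaf cE5316)))) (BT.node 5321 (BT.node 5319 (BT.node 5318 (BT.node 5317 (BT.leaf cE5317) (BT.leaf cE5318)) (BT.leaf cE5319)) (BT.node 5320 (BT.leaf cE5320) (BT.leaf cE5321))) (BT.node 5323 (BT.node 5322 (BT.leaf cE5322) (BT.leaf cE5323)) (BT.node 5324 (BT.leaf cE5324) (BT.leaf cE5325))))))))) (BT.node 5482 (BT.node 5404 (BT.node 5365 (BT.node 5345 (BT.node 5335 (BT.node 5330 (BT.node 5328 (BT.node 5327 (BT.node 5326 (BT.leaf cE5326) (BT.leaf cE5327)) (BT.leaf cE5328)) (BT.node 5329 (BT.leaf cE5329) (BT.leaf cE5330))) (BT.node 5333 (BT.node 5332 (BT.node 5331 (BT.leaf cE5331) (BT.leaf cE5332)) (BT.leaf cE5333)) (BT.node 5334 (BT.leaf cE5334) (BT.leaf cE5335)))) (BT.node 5340 (BT.node 5338 (BT.node 5337 (BT.node 5336 (BT.leaf cE5336) (BT.leaf cE5337)) (BT.leaf cE5338)) (BT.node 5339 (BT.leaf cE5339) (BT.leaf cE5340))) (BT.node 5343 (BT.node 5342 (BT.node 5341 (BT.leaf cE5341) (BT.leaf cE5342)) (BT.leaf cE5343)) (BT.node 5344 (BT.leaf cE5344) (BT.leaf cE5345))))) (BT.node 5355 (BT.node 5350 (BT.node 5348 (BT.node 5347 (BT.node 5346 (BT.leaf cE5346) (BT.leaf cE5347)) (BT.leaf cE5348)) (BT.node 5349 (BT.leaf cE5349) (BT.leaf cE5350))) (BT.node 5353 (BT.node 5352 (BT.node 5351 (BT.leaf cE5351) (BT.leaf cE5352)) (BT.leaf cE5353)) (BT.node 5354 (BT.leaf cE5354) (BT.leaf cE5355)))) (BT.node 5360 (BT.node 5358 (BT.node 5357 (BT.node 5356 (BT.leaf cE5356) (BT.leaf cE5357)) (BT.leaf cE5358)) (BT.node 5359 (BT.leaf cE5359) (BT.leaf cE5360))) (BT.node 5363 (BT.node 5362 (BT.node 5361 (BT.leaf cE5361) (BT.leaf cE5362)) (BT.leaf cE5363)) (BT.node 5364 (BT.leaf cE5364) (BT.leaf cE5365)))))) (BT.node 5385 (BT.node 5375 (BT.node 5370 (BT.node 5368 (BT.node 5367 (BT.node 5366 (BT.leaf cE5366) (BT.leaf cE5367)) (BT.leaf cE5368)) (BT.node 5369 (BT.leaf cE5369) (BT.leaf cE5370))) (BT.node 5373 (BT.node 5372 (BT.node 5371 (BT.leaf cE5371) (BT.leaf cE5372)) (BT.leaf cE5373)) (BT.node 5374 (BT.leaf cE5374) (BT.leaf cE5375)))) (BT.node 5380 (BT.node 5378 (BT.node 5377 (BT.node 5376 (BT.leaf cE5376) (BT.leaf cE5377)) (BT.leaf cE5378)) (BT.node 5379 (BT.leaf cE5379) (BT.leaf cE5380))) (BT.node 5383 (BT.node 5382 (BT.node 5381 (BT.leaf cE5381) (BT.leaf cE5382)) (BT.leaf cE5383)) (BT.node 5384 (BT.leaf cE5384) (BT.leaf cE5385))))) (BT.node 5395 (BT.node 5390 (BT.node 5388 (BT.node 5387 (BT.node 5386 (BT.leaf cE5386) (BT.leaf cE5387)) (BT.leaf cE5388)) (BT.node 5389 (BT.leaf cE5389) (BT.leaf cE5390))) (BT.node 5393 (BT.node 5392 (BT.node 5391 (BT.leaf cE5391) (BT.leaf cE5392)) (BT.leaf cE5393)) (BT.node 5394 (BT.leaf cE5394) (BT.leaf cE5395)))) (BT.node 5400 (BT.node 5398 (BT.node 5397 (BT.node 5396 (BT.leaf cE5396) (BT.leaf cE5397)) (BT.leaf cE5398)) (BT.node 5399 (BT.leaf cE5399) (BT.leaf cE5400))) (BT.node 5402 (BT.node 5401 (BT.leaf cE5401) (BT.leaf cE5402)) (BT.node 5403 (BT.leaf cE5403) (BT.leaf cE5404))))))) (BT.node 5443 (BT.node 5424 (BT.node 5414 (BT.node 5409 (BT.node 5407 (BT.node 5406 (BT.node 5405 (BT.leaf cE5405) (BT.leaf cE5406)) (BT.leaf cE5407)) (BT.node 5408 (BT.leaf cE5408) (BT.leaf cE5409))) (BT.node 5412 (BT.node 5411 (BT.node 5410 (BT.leaf cE5410) (BT.leaf cE5411)) (BT.leaf cE5412)) (BT.node 5413 (BT.leaf cE5413) (BT.leaf cE5414)))) (BT.node 5419 (BT.node 5417 (BT.node 5416 (BT.node 5415 (BT.leaf cE5415) (BT.leaf cE5416)) (BT.leaf cE5417)) (BT.node 5418 (BT.leaf cE5418) (BT.leaf cE5419))) (BT.node 5422 (BT.node 5421 (BT.node 5420 (BT.leaf cE5420) (BT.leaf cE5421)) (BT.leaf cE5422)) (BT.node 5423 (BT.leaf cE5423) (BT.leaf cE5424))))) (BT.node 5434 (BT.node 5429 (BT.node 5427 (BT.node 5426 (BT.node 5425 (BT.leaf cE5425) (BT.leaf cE5426)) (BT.leaf cE5427)) (BT.node 5428 (BT.leaf cE5428) (BT.leaf cE5429))) (BT.node 5432 (BT.node 5431 (BT.node 5430 (BT.leaf cE5430) (BT.leaf cE5431)) (BT.leaf cE5432)) (BT.node 5433 (BT.leaf cE5433) (BT.leaf cE5434)))) (BT.node 5439 (BT.node 5437 (BT.node 5436 (BT.node 5435 (BT.leaf cE5435) (BT.leaf cE5436)) (BT.leaf cE5437)) (BT.node 5438 (BT.leaf cE5438) (BT.leaf cE5439))) (BT.node 5441 (BT.node 5440 (BT.leaf cE5440) (BT.leaf cE5441)) (BT.node 5442 (BT.leaf cE5442) (BT.leaf cE5443)))))) (BT.node 5463 (BT.node 5453 (BT.node 5448 (BT.node 5446 (BT.node 5445 (BT.node 5444 (BT.leaf cE5444) (BT.leaf cE5445)) (BT.leaf cE5446)) (BT.node 5447 (BT.leaf cE5447) (BT.leaf cE5448))) (BT.node 5451 (BT.node 5450 (BT.node 5449 (BT.leaf cE5449) (BT.leaf cE5450)) (BT.leaf cE5451)) (BT.node 5452 (BT.leaf cE5452) (BT.leaf cE5453)))) (BT.node 5458 (BT.node 5456 (BT.node 5455 (BT.node 5454 (BT.leaf cE5454) (BT.leaf cE5455)) (BT.leaf cE5456)) (BT.node 5457 (BT.leaf cE5457) (BT.leaf cE5458))) (BT.node 5461 (BT.node 5460 (BT.node 5459 (BT.leaf cE5459) (BT.leaf cE5460)) (BT.leaf cE5461)) (BT.node 5462 (BT.leaf cE5462) (BT.leaf cE5463))))) (BT.node 5473 (BT.node 5468 (BT.node 5466 (BT.node 5465 (BT.node 5464 (BT.leaf cE5464) (BT.leaf cE5465)) (BT.leaf cE5466)) (BT.node 5467 (BT.leaf cE5467) (BT.leaf cE5468))) (BT.node 5471 (BT.node 5470 (BT.node 5469 (BT.leaf cE5469) (BT.leaf cE5470)) (BT.leaf cE5471)) (BT.node 5472 (BT.leaf cE5472) (BT.leaf cE5473)))) (BT.node 5478 (BT.node 5476 (BT.node 5475 (BT.node 5474 (BT.leaf cE5474) (BT.leaf cE5475)) (BT.leaf cE5476)) (BT.node 5477 (BT.leaf cE5477) (BT.leaf cE5478))) (BT.node 5480 (BT.node 5479 (BT.leaf cE5479) (BT.leaf cE5480)) (BT.node 5481 (BT.leaf cE5481) (BT.leaf cE5482)))))))) (BT.node 5560 (BT.node 5521 (BT.node 5502 (BT.node 5492 (BT.node 5487 (BT.node 5485 (BT.node 5484 (BT.node 5483 (BT.leaf cE5483) (BT.leaf cE5484)) (BT.leaf cE5485)) (BT.node 5486 (BT.leaf cE5486) (BT.leaf cE5487))) (BT.node 5490 (BT.node 5489 (BT.node 5488 (BT.leaf cE5488) (BT.leaf cE5489)) (BT.leaf cE5490)) (BT.node 5491 (BT.leaf cE5491) (BT.leaf cE5492)))) (BT.node 5497 (BT.node 5495 (BT.node 5494 (BT.node 5493 (BT.leaf cE5493) (BT.leaf cE5494)) (BT.leaf cE5495)) (BT.node 5496 (BT.leaf cE5496) (BT.leaf cE5497))) (BT.node 5500 (BT.node 5499 (BT.node 5498 (BT.leaf cE5498) (BT.leaf cE5499)) (BT.leaf cE5500)) (BT.node 5501 (BT.leaf cE5501) (BT.leaf cE5502))))) (BT.node 5512 (BT.node 5507 (BT.node 5505 (BT.node 5504 (BT.node 5503 (BT.leaf cE5503) (BT.leaf cE5504)) (BT.leaf cE5505)) (BT.node 5506 (BT.leaf cE5506) (BT.leaf cE5507))) (BT.node 5510 (BT.node 5509 (BT.node 5508 (BT.leaf cE5508) (BT.leaf cE5509)) (BT.leaf cE5510)) (BT.node 5511 (BT.leaf cE5511) (BT.leaf cE5512)))) (BT.node 5517 (BT.node 5515 (BT.node 5514 (BT.node 5513 (BT.leaf cE5513) (BT.leaf cE5514)) (BT.leaf cE5515)) (BT.node 5516 (BT.leaf cE5516) (BT.leaf cE5517))) (BT.node 5519 (BT.node 5518 (BT.leaf cE5518) (BT.leaf cE5519)) (BT.node 5520 (BT.leaf cE5520) (BT.leaf cE5521)))))) (BT.node 5541 (BT.node 5531 (BT.node 5526 (BT.node 5524 (BT.node 5523 (BT.node 5522 (BT.leaf cE5522) (BT.leaf cE5523)) (BT.leaf cE5524)) (BT.node 5525 (BT.leaf cE5525) (BT.leaf cE5526))) (BT.node 5529 (BT.node 5528 (BT.node 5527 (BT.leaf cE5527) (BT.leaf cE5528)) (BT.leaf cE5529)) (BT.node 5530 (BT.leaf cE5530) (BT.leaf cE5531)))) (BT.node 5536 (BT.node 5534 (BT.node 5533 (BT.node 5532 (BT.leaf cE5532) (BT.leaf cE5533)) (BT.leaf cE5534)) (BT.node 5535 (BT.leaf cE5535) (BT.leaf cE5536))) (BT.node 5539 (BT.node 5538 (BT.node 5537 (BT.leaf cE5537) (BT.leaf cE5538)) (BT.leaf cE5539)) (BT.node 5540 (BT.leaf cE5540) (BT.leaf cE5541))))) (BT.node 5551 (BT.node 5546 (BT.node 5544 (BT.node 5543 (BT.node 5542 (BT.leaf cE5542) (BT.leaf cE5543)) (BT.leaf cE5544)) (BT.node 5545 (BT.leaf cE5545) (BT.leaf cE5546))) (BT.node 5549 (BT.node 5548 (BT.node 5547 (BT.leaf cE5547) (BT.leaf cE5548)) (BT.leaf cE5549)) (BT.node 5550 (BT.leaf cE5550) (BT.leaf cE5551)))) (BT.node 5556 (BT.node 5554 (BT.node 5553 (BT.node 5552 (BT.leaf cE5552) (BT.leaf cE5553)) (BT.leaf cE5554)) (BT.node 5555 (BT.leaf cE5555) (BT.leaf cE5556))) (BT.node 5558 (BT.node 5557 (BT.leaf cE5557) (BT.leaf cE5558)) (BT.node 5559 (BT.leaf cE5559) (BT.leaf cE5560))))))) (BT.node 5599 (BT.node 5580 (BT.node 5570 (BT.node 5565 (BT.node 5563 (BT.node 5562 (BT.node 5561 (BT.leaf cE5561) (BT.leaf cE5562)) (BT.leaf cE5563)) (BT.node 5564 (BT.leaf cE5564) (BT.leaf cE5565))) (BT.node 5568 (BT.node 5567 (BT.node 5566 (BT.leaf cE5566) (BT.leaf cE5567)) (BT.leaf cE5568)) (BT.node 5569 (BT.leaf cE5569) (BT.leaf cE5570)))) (BT.node 5575 (BT.node 5573 (BT.node 5572 (BT.node 5571 (BT.leaf cE5571) (BT.leaf cE5572)) (BT.leaf cE5573)) (BT.node 5574 (BT.leaf cE5574) (BT.leaf cE5575))) (BT.node 5578 (BT.node 5577 (BT.node 5576 (BT.leaf cE5576) (BT.leaf cE5577)) (BT.leaf cE5578)) (BT.node 5579 (BT.leaf cE5579) (BT.leaf cE5580))))) (BT.node 5590 (BT.node 5585 (BT.node 5583 (BT.node 5582 (BT.node 5581 (BT.leaf cE5581) (BT.leaf cE5582)) (BT.leaf cE5583)) (BT.node 5584 (BT.leaf cE5584) (BT.leaf cE5585))) (BT.node 5588 (BT.node 5587 (BT.node 5586 (BT.leaf cE5586) (BT.leaf cE5587)) (BT.leaf cE5588)) (BT.node 5589 (BT.leaf cE5589) (BT.leaf cE5590)))) (BT.node 5595 (BT.node 5593 (BT.node 5592 (BT.node 5591 (BT.leaf cE5591) (BT.leaf cE5592)) (BT.leaf cE5593)) (BT.node 5594 (BT.leaf cE5594) (BT.leaf cE5595))) (BT.node 5597 (BT.node 5596 (BT.leaf cE5596) (BT.leaf cE5597)) (BT.node 5598 (BT.leaf cE5598) (BT.leaf cE5599)))))) (BT.node 5619 (BT.node 5609 (BT.node 5604 (BT.node 5602 (BT.node 5601 (BT.node 5600 (BT.leaf cE5600) (BT.leaf cE5601)) (BT.leaf cE5602)) (BT.node 5603 (BT.leaf cE5603) (BT.leaf cE5604))) (BT.node 5607 (BT.node 5606 (BT.node 5605 (BT.leaf cE5605) (BT.leaf cE5606)) (BT.leaf cE5607)) (BT.node 5608 (BT.leaf cE5608) (BT.leaf cE5609)))) (BT.node 5614 (BT.node 5612 (BT.node 5611 (BT.node 5610 (BT.leaf cE5610) (BT.leaf cE5611)) (BT.leaf cE5612)) (BT.node 5613 (BT.leaf cE5613) (BT.leaf cE5614))) (BT.node 5617 (BT.node 5616 (BT.node 5615 (BT.leaf cE5615) (BT.leaf cE5616)) (BT.leaf cE5617)) (BT.node 5618 (BT.leaf cE5618) (BT.leaf cE5619))))) (BT.node 5629 (BT.node 5624 (BT.node 5622 (BT.node 5621 (BT.node 5620 (BT.leaf cE5620) (BT.leaf cE5621)) (BT.leaf cE5622)) (BT.node 5623 (BT.leaf cE5623) (BT.leaf cE5624))) (BT.node 5627 (BT.node 5626 (BT.node 5625 (BT.leaf cE5625) (BT.leaf cE5626)) (BT.leaf cE5627)) (BT.node 5628 (BT.leaf cE5628) (BT.leaf cE5629)))) (BT.node 5634 (BT.node 5632 (BT.node 5631 (BT.node 5630 (BT.leaf cE5630) (BT.leaf cE5631)) (BT.leaf cE5632)) (BT.node 5633 (BT.leaf cE5633) (BT.leaf cE5634))) (BT.node 5636 (BT.node 5635 (BT.leaf cE5635) (BT.leaf cE5636)) (BT.node 5637 (BT.leaf cE5637) (BT.leaf cE5638)))))))))) (BT.node 5951 (BT.node 5795 (BT.node 5717 (BT.node 5678 (BT.node 5658 (BT.node 5648 (BT.node 5643 (BT.node 5641 (BT.node 5640 (BT.node 5639 (BT.leaf cE5639) (BT.leaf cE5640)) (BT.leaf cE5641)) (BT.node 5642 (BT.leaf cE5642) (BT.leaf cE5643))) (BT.node 5646 (BT.node 5645 (BT.node 5644 (BT.leaf cE5644) (BT.leaf cE5645)) (BT.leaf cE5646)) (BT.node 5647 (BT.leaf cE5647) (BT.leaf cE5648)))) (BT.node 5653 (BT.node 5651 (BT.node 5650 (BT.node 5649 (BT.leaf cE5649) (BT.leaf cE5650)) (BT.leaf cE5651)) (BT.node 5652 (BT.leaf cE5652) (BT.leaf cE5653))) (BT.node 5656 (BT.node 5655 (BT.node 5654 (BT.leaf cE5654) (BT.leaf cE5655)) (BT.leaf cE5656)) (BT.node 5657 (BT.leaf cE5657) (BT.leaf cE5658))))) (BT.node 5668 (BT.node 5663 (BT.node 5661 (BT.node 5660 (BT.node 5659 (BT.leaf cE5659) (BT.leaf cE5660)) (BT.leaf cE5661)) (BT.node 5662 (BT.leaf cE5662) (BT.leaf cE5663))) (BT.node 5666 (BT.node 5665 (BT.node 5664 (BT.leaf cE5664) (BT.leaf cE5665)) (BT.leaf cE5666)) (BT.node 5667 (BT.leaf cE5667) (BT.leaf cE5668)))) (BT.node 5673 (BT.node 5671 (BT.node 5670 (BT.node 5669 (BT.leaf cE5669) (BT.leaf cE5670)) (BT.leaf cE5671)) (BT.node 5672 (BT.leaf cE5672) (BT.leaf cE5673))) (BT.node 5676 (BT.node 5675 (BT.node 5674 (BT.leaf cE5674) (BT.leaf cE5675)) (BT.leaf cE5676)) (BT.node 5677 (BT.leaf cE5677) (BT.leaf cE5678)))))) (BT.node 5698 (BT.node 5688 (BT.node 5683 (BT.node 5681 (BT.node 5680 (BT.node 5679 (BT.leaf cE5679) (BT.leaf cE5680)) (BT.leaf cE5681)) (BT.node 5682 (BT.leaf cE5682) (BT.leaf cE5683))) (BT.node 5686 (BT.node 5685 (BT.node 5684 (BT.leaf cE5684) (BT.leaf cE5685)) (BT.leaf cE5686)) (BT.node 5687 (BT.leaf cE5687) (BT.leaf cE5688)))) (BT.node 5693 (BT.node 5691 (BT.node 5690 (BT.node 5689 (BT.leaf cE5689) (BT.leaf cE5690)) (BT.leaf cE5691)) (BT.node 5692 (BT.leaf cE5692) (BT.leaf cE5693))) (BT.node 5696 (BT.node 5695 (BT.node 5694 (BT.leaf cE5694) (BT.leaf cE5695)) (BT.leaf cE5696)) (BT.node 5697 (BT.leaf cE5697) (BT.leaf cE5698))))) (BT.node 5708 (BT.node 5703 (BT.node 5701 (BT.node 5700 (BT.node 5699 (BT.leaf cE5699) (BT.leaf cE5700)) (BT.leaf cE5701)) (BT.node 5702 (BT.leaf cE5702) (BT.leaf cE5703))) (BT.node 5706 (BT.node 5705 (BT.node 5704 (BT.leaf cE5704) (BT.leaf cE5705)) (BT.leaf cE5706)) (BT.node 5707 (BT.leaf cE5707) (BT.leaf cE5708)))) (BT.node 5713 (BT.node 5711 (BT.node 5710 (BT.node 5709 (BT.leaf cE5709) (BT.leaf cE5710)) (BT.leaf cE5711)) (BT.node 5712 (BT.leaf cE5712) (BT.leaf cE5713))) (BT.node 5715 (BT.node 5714 (BT.leaf cE5714) (BT.leaf cE5715)) (BT.node 5716 (BT.leaf cE5716) (BT.leaf cE5717))))))) (BT.node 5756 (BT.node 5737 (BT.node 5727 (BT.node 5722 (BT.node 5720 (BT.node 5719 (BT.node 5718 (BT.leaf cE5718) (BT.leaf cE5719)) (BT.leaf cE5720)) (BT.node 5721 (BT.leaf cE5721) (BT.leaf cE5722))) (BT.node 5725 (BT.node 5724 (BT.node 5723 (BT.leaf cE5723) (BT.leaf cE5724)) (BT.leaf cE5725)) (BT.node 5726 (BT.leaf cE5726) (BT.leaf cE5727)))) (BT.node 5732 (BT.node 5730 (BT.node 5729 (BT.node 5728 (BT.leaf cE5728) (BT.leaf cE5729)) (BT.leaf cE5730)) (BT.node 5731 (BT.leaf cE5731) (BT.leaf cE5732))) (BT.node 5735 (BT.node 5734 (BT.node 5733 (BT.leaf cE5733) (BT.leaf cE5734)) (BT.leaf cE5735)) (BT.node 5736 (BT.leaf cE5736) (BT.leaf cE5737))))) (BT.node 5747 (BT.node 5742 (BT.node 5740 (BT.node 5739 (BT.node 5738 (BT.leaf cE5738) (BT.leaf cE5739)) (BT.leaf cE5740)) (BT.node 5741 (BT.leaf cE5741) (BT.leaf cE5742))) (BT.node 5745 (BT.node 5744 (BT.node 5743 (BT.leaf cE5743) (BT.leaf cE5744)) (BT.leaf cE5745)) (BT.node 5746 (BT.leaf cE5746) (BT.leaf cE5747)))) (BT.node 5752 (BT.node 5750 (BT.node 5749 (BT.node 5748 (BT.leaf cE5748) (BT.leaf cE5749)) (BT.leaf cE5750)) (BT.node 5751 (BT.leaf cE5751) (BT.leaf cE5752))) (BT.node 5754 (BT.node 5753 (BT.leaf cE5753) (BT.leaf cE5754)) (BT.node 5755 (BT.leaf cE5755) (BT.leaf cE5756)))))) (BT.node 5776 (BT.node 5766 (BT.node 5761 (BT.node 5759 (BT.node 5758 (BT.node 5757 (BT.leaf cE5757) (BT.leaf cE5758)) (BT.leaf cE5759)) (BT.node 5760 (BT.leaf cE5760) (BT.leaf cE5761))) (BT.node 5764 (BT.node 5763 (BT.node 5762 (BT.leaf cE5762) (BT.leaf cE5763)) (BT.leaf cE5764)) (BT.node 5765 (BT.leaf cE5765) (BT.leaf cE5766)))) (BT.node 5771 (BT.node 5769 (BT.node 5768 (BT.node 5767 (BT.leaf cE5767) (BT.leaf cE5768)) (BT.leaf cE5769)) (BT.node 5770 (BT.leaf cE5770) (BT.leaf cE5771))) (BT.node 5774 (BT.node 5773 (BT.node 5772 (BT.leaf cE5772) (BT.leaf cE5773)) (BT.leaf cE5774)) (BT.node 5775 (BT.leaf cE5775) (BT.leaf cE5776))))) (BT.node 5786 (BT.node 5781 (BT.node 5779 (BT.node 5778 (BT.node 5777 (BT.leaf cE5777) (BT.leaf cE5778)) (BT.leaf cE5779)) (BT.node 5780 (BT.leaf cE5780) (BT.leaf cE5781))) (BT.node 5784 (BT.node 5783 (BT.node 5782 (BT.leaf cE5782) (BT.leaf cE5783)) (BT.leaf cE5784)) (BT.node 5785 (BT.leaf cE5785) (BT.leaf cE5786)))) (BT.node 5791 (BT.node 5789 (BT.node 5788 (BT.node 5787 (BT.leaf cE5787) (BT.leaf cE5788)) (BT.leaf cE5789)) (BT.node 5790 (BT.leaf cE5790) (BT.leaf cE5791))) (BT.node 5793 (BT.node 5792 (BT.leaf cE5792) (BT.leaf cE5793)) (BT.node 5794 (BT.leaf cE5794) (BT.leaf cE5795)))))))) (BT.node 5873 (BT.node 5834 (BT.node 5815 (BT.node 5805 (BT.node 5800 (BT.node 5798 (BT.node 5797 (BT.node 5796 (BT.leaf cE5796) (BT.leaf cE5797)) (BT.leaf cE5798)) (BT.node 5799 (BT.leaf cE5799) (BT.leaf cE5800))) (BT.node 5803 (BT.node 5802 (BT.node 5801 (BT.leaf cE5801) (BT.leaf cE5802)) (BT.leaf cE5803)) (BT.node 5804 (BT.leaf cE5804) (BT.leaf cE5805)))) (BT.node 5810 (BT.node 5808 (BT.node 5807 (BT.node 5806 (BT.leaf cE5806) (BT.leaf cE5807)) (BT.leaf cE5808)) (BT.node 5809 (BT.leaf cE5809) (BT.leaf cE5810))) (BT.node 5813 (BT.node 5812 (BT.node 5811 (BT.leaf cE5811) (BT.leaf cE5812)) (BT.leaf cE5813)) (BT.node 5814 (BT.leaf cE5814) (BT.leaf cE5815))))) (BT.node 5825 (BT.node 5820 (BT.node 5818 (BT.node 5817 (BT.node 5816 (BT.leaf cE5816) (BT.leaf cE5817)) (BT.leaf cE5818)) (BT.node 5819 (BT.leaf cE5819) (BT.leaf cE5820))) (BT.node 5823 (BT.node 5822 (BT.node 5821 (BT.leaf cE5821) (BT.leaf cE5822)) (BT.leaf cE5823)) (BT.node 5824 (BT.leaf cE5824) (BT.leaf cE5825)))) (BT.node 5830 (BT.node 5828 (BT.node 5827 (BT.node 5826 (BT.leaf cE5826) (BT.leaf cE5827)) (BT.leaf cE5828)) (BT.node 5829 (BT.leaf cE5829) (BT.leaf cE5830))) (BT.node 5832 (BT.node 5831 (BT.leaf cE5831) (BT.leaf cE5832)) (BT.node 5833 (BT.leaf cE5833) (BT.leaf cE5834)))))) (BT.node 5854 (BT.node 5844 (BT.node 5839 (BT.node 5837 (BT.node 5836 (BT.node 5835 (BT.leaf cE5835) (BT.leaf cE5836)) (BT.leaf cE5837)) (BT.node 5838 (BT.leaf cE5838) (BT.leaf cE5839))) (BT.node 5842 (BT.node 5841 (BT.node 5840 (BT.leaf cE5840) (BT.leaf cE5841)) (BT.leaf cE5842)) (BT.node 5843 (BT.leaf cE5843) (BT.leaf cE5844)))) (BT.node 5849 (BT.node 5847 (BT.node 5846 (BT.node 5845 (BT.leaf cE5845) (BT.leaf cE5846)) (BT.leaf cE5847)) (BT.node 5848 (BT.leaf cE5848) (BT.leaf cE5849))) (BT.node 5852 (BT.node 5851 (BT.node 5850 (BT.leaf cE5850) (BT.leaf cE5851)) (BT.leaf cE5852)) (BT.node 5853 (BT.leaf cE5853) (BT.leaf cE5854))))) (BT.node 5864 (BT.node 5859 (BT.node 5857 (BT.node 5856 (BT.node 5855 (BT.leaf cE5855) (BT.leaf cE5856)) (BT.leaf cE5857)) (BT.node 5858 (BT.leaf cE5858) (BT.leaf cE5859))) (BT.node 5862 (BT.node 5861 (BT.node 5860 (BT.leaf cE5860) (BT.leaf cE5861)) (BT.leaf cE5862)) (BT.node 5863 (BT.leaf cE5863) (BT.leaf cE5864)))) (BT.node 5869 (BT.node 5867 (BT.node 5866 (BT.node 5865 (BT.leaf cE5865) (BT.leaf cE5866)) (BT.leaf cE5867)) (BT.node 5868 (BT.leaf cE5868) (BT.leaf cE5869))) (BT.node 5871 (BT.node 5870 (BT.leaf cE5870) (BT.leaf cE5871)) (BT.node 5872 (BT.leaf cE5872) (BT.leaf cE5873))))))) (BT.node 5912 (BT.node 5893 (BT.node 5883 (BT.node 5878 (BT.node 5876 (BT.node 5875 (BT.node 5874 (BT.leaf cE5874) (BT.leaf cE5875)) (BT.leaf cE5876)) (BT.node 5877 (BT.leaf cE5877) (BT.leaf cE5878))) (BT.node 5881 (BT.node 5880 (BT.node 5879 (BT.leaf cE5879) (BT.leaf cE5880)) (BT.leaf cE5881)) (BT.node 5882 (BT.leaf cE5882) (BT.leaf cE5883)))) (BT.node 5888 (BT.node 5886 (BT.node 5885 (BT.node 5884 (BT.leaf cE5884) (BT.leaf cE5885)) (BT.leaf cE5886)) (BT.node 5887 (BT.leaf cE5887) (BT.leaf cE5888))) (BT.node 5891 (BT.node 5890 (BT.node 5889 (BT.leaf cE5889) (BT.leaf cE5890)) (BT.leaf cE5891)) (BT.node 5892 (BT.leaf cE5892) (BT.leaf cE5893))))) (BT.node 5903 (BT.node 5898 (BT.node 5896 (BT.node 5895 (BT.node 5894 (BT.leaf cE5894) (BT.leaf cE5895)) (BT.leaf cE5896)) (BT.node 5897 (BT.leaf cE5897) (BT.leaf cE5898))) (BT.node 5901 (BT.node 5900 (BT.node 5899 (BT.leaf cE5899) (BT.leaf cE5900)) (BT.leaf cE5901)) (BT.node 5902 (BT.leaf cE5902) (BT.leaf cE5903)))) (BT.node 5908 (BT.node 5906 (BT.node 5905 (BT.node 5904 (BT.leaf cE5904) (BT.leaf cE5905)) (BT.leaf cE5906)) (BT.node 5907 (BT.leaf cE5907) (BT.leaf cE5908))) (BT.node 5910 (BT.node 5909 (BT.leaf cE5909) (BT.leaf cE5910)) (BT.node 5911 (BT.leaf cE5911) (BT.leaf cE5912)))))) (BT.node 5932 (BT.node 5922 (BT.node 5917 (BT.node 5915 (BT.node 5914 (BT.node 5913 (BT.leaf cE5913) (BT.leaf cE5914)) (BT.leaf cE5915)) (BT.node 5916 (BT.leaf cE5916) (BT.leaf cE5917))) (BT.node 5920 (BT.node 5919 (BT.node 5918 (BT.leaf cE5918) (BT.leaf cE5919)) (BT.leaf cE5920)) (BT.node 5921 (BT.leaf cE5921) (BT.leaf cE5922)))) (BT.node 5927 (BT.node 5925 (BT.node 5924 (BT.node 5923 (BT.leaf cE5923) (BT.leaf cE5924)) (BT.leaf cE5925)) (BT.node 5926 (BT.leaf cE5926) (BT.leaf cE5927))) (BT.node 5930 (BT.node 5929 (BT.node 5928 (BT.leaf cE5928) (BT.leaf cE5929)) (BT.leaf cE5930)) (BT.node 5931 (BT.leaf cE5931) (BT.leaf cE5932))))) (BT.node 5942 (BT.node 5937 (BT.node 5935 (BT.node 5934 (BT.node 5933 (BT.leaf cE5933) (BT.leaf cE5934)) (BT.leaf cE5935)) (BT.node 5936 (BT.leaf cE5936) (BT.leaf cE5937))) (BT.node 5940 (BT.node 5939 (BT.node 5938 (BT.leaf cE5938) (BT.leaf cE5939)) (BT.leaf cE5940)) (BT.node 5941 (BT.leaf cE5941) (BT.leaf cE5942)))) (BT.node 5947 (BT.node 5945 (BT.node 5944 (BT.node 5943 (BT.leaf cE5943) (BT.leaf cE5944)) (BT.leaf cE5945)) (BT.node 5946 (BT.leaf cE5946) (BT.leaf cE5947))) (BT.node 5949 (BT.node 5948 (BT.leaf cE5948) (BT.leaf cE5949)) (BT.node 5950 (BT.leaf cE5950) (BT.leaf cE5951))))))))) (BT.node 6108 (BT.node 6030 (BT.node 5991 (BT.node 5971 (BT.node 5961 (BT.node 5956 (BT.node 5954 (BT.node 5953 (BT.node 5952 (BT.leaf cE5952) (BT.leaf cE5953)) (BT.leaf cE5954)) (BT.node 5955 (BT.leaf cE5955) (BT.leaf cE5956))) (BT.node 5959 (BT.node 5958 (BT.node 5957 (BT.leaf cE5957) (BT.leaf cE5958)) (BT.leaf cE5959)) (BT.node 5960 (BT.leaf cE5960) (BT.leaf cE5961)))) (BT.node 5966 (BT.node 5964 (BT.node 5963 (BT.node 5962 (BT.leaf cE5962) (BT.leaf cE5963)) (BT.leaf cE5964)) (BT.node 5965 (BT.leaf cE5965) (BT.leaf cE5966))) (BT.node 5969 (BT.node 5968 (BT.node 5967 (BT.leaf cE5967) (BT.leaf cE5968)) (BT.leaf cE5969)) (BT.node 5970 (BT.leaf cE5970) (BT.leaf cE5971))))) (BT.node 5981 (BT.node 5976 (BT.node 5974 (BT.node 5973 (BT.node 5972 (BT.leaf cE5972) (BT.leaf cE5973)) (BT.leaf cE5974)) (BT.node 5975 (BT.leaf cE5975) (BT.leaf cE5976))) (BT.node 5979 (BT.node 5978 (BT.node 5977 (BT.leaf cE5977) (BT.leaf cE5978)) (BT.leaf cE5979)) (BT.node 5980 (BT.leaf cE5980) (BT.leaf cE5981)))) (BT.node 5986 (BT.node 5984 (BT.node 5983 (BT.node 5982 (BT.leaf cE5982) (BT.leaf cE5983)) (BT.leaf cE5984)) (BT.node 5985 (BT.leaf cE5985) (BT.leaf cE5986))) (BT.node 5989 (BT.node 5988 (BT.node 5987 (BT.leaf cE5987) (BT.leaf cE5988)) (BT.leaf cE5989)) (BT.node 5990 (BT.leaf cE5990) (BT.leaf cE5991)))))) (BT.node 6011 (BT.node 6001 (BT.node 5996 (BT.node 5994 (BT.node 5993 (BT.node 5992 (BT.leaf cE5992) (BT.leaf cE5993)) (BT.leaf cE5994)) (BT.node 5995 (BT.leaf cE5995) (BT.leaf cE5996))) (BT.node 5999 (BT.node 5998 (BT.node 5997 (BT.leaf cE5997) (BT.leaf cE5998)) (BT.leaf cE5999)) (BT.node 6000 (BT.leaf cE6000) (BT.leaf cE6001)))) (BT.node 6006 (BT.node 6004 (BT.node 6003 (BT.node 6002 (BT.leaf cE6002) (BT.leaf cE6003)) (BT.leaf cE6004)) (BT.node 6005 (BT.leaf cE6005) (BT.leaf cE6006))) (BT.node 6009 (BT.node 6008 (BT.node 6007 (BT.leaf cE6007) (BT.leaf cE6008)) (BT.leaf cE6009)) (BT.node 6010 (BT.leaf cE6010) (BT.leaf cE6011))))) (BT.node 6021 (BT.node 6016 (BT.node 6014 (BT.node 6013 (BT.node 6012 (BT.leaf cE6012) (BT.leaf cE6013)) (BT.leaf cE6014)) (BT.node 6015 (BT.leaf cE6015) (BT.leaf cE6016))) (BT.node 6019 (BT.node 6018 (BT.node 6017 (BT.leaf cE6017) (BT.leaf cE6018)) (BT.leaf cE6019)) (BT.node 6020 (BT.leaf cE6020) (BT.leaf cE6021)))) (BT.node 6026 (BT.node 6024 (BT.node 6023 (BT.node 6022 (BT.leaf cE6022) (BT.leaf cE6023)) (BT.leaf cE6024)) (BT.node 6025 (BT.leaf cE6025) (BT.leaf cE6026))) (BT.node 6028 (BT.node 6027 (BT.leaf cE6027) (BT.leaf cE6028)) (BT.node 6029 (BT.leaf cE6029) (BT.leaf cE6030))))))) (BT.node 6069 (BT.node 6050 (BT.node 6040 (BT.node 6035 (BT.node 6033 (BT.node 6032 (BT.node 6031 (BT.leaf cE6031) (BT.leaf cE6032)) (BT.leaf cE6033)) (BT.node 6034 (BT.leaf cE6034) (BT.leaf cE6035))) (BT.node 6038 (BT.node 6037 (BT.node 6036 (BT.leaf cE6036) (BT.leaf cE6037)) (BT.leaf cE6038)) (BT.node 6039 (BT.leaf cE6039) (BT.leaf cE6040)))) (BT.node 6045 (BT.node 6043 (BT.node 6042 (BT.node 6041 (BT.leaf cE6041) (BT.leaf cE6042)) (BT.leaf cE6043)) (BT.node 6044 (BT.leaf cE6044) (BT.leaf cE6045))) (BT.node 6048 (BT.node 6047 (BT.node 6046 (BT.leaf cE6046) (BT.leaf cE6047)) (BT.leaf cE6048)) (BT.node 6049 (BT.leaf cE6049) (BT.leaf cE6050))))) (BT.node 6060 (BT.node 6055 (BT.node 6053 (BT.node 6052 (BT.node 6051 (BT.leaf cE6051) (BT.leaf cE6052)) (BT.leaf cE6053)) (BT.node 6054 (BT.leaf cE6054) (BT.leaf cE6055))) (BT.node 6058 (BT.node 6057 (BT.node 6056 (BT.leaf cE6056) (BT.leaf cE6057)) (BT.leaf cE6058)) (BT.node 6059 (BT.leaf cE6059) (BT.leaf cE6060)))) (BT.node 6065 (BT.node 6063 (BT.node 6062 (BT.node 6061 (BT.leaf cE6061) (BT.leaf cE6062)) (BT.leaf cE6063)) (BT.node 6064 (BT.leaf cE6064) (BT.leaf cE6065))) (BT.node 6067 (BT.node 6066 (BT.leaf cE6066) (BT.leaf cE6067)) (BT.node 6068 (BT.leaf cE6068) (BT.leaf cE6069)))))) (BT.node 6089 (BT.node 6079 (BT.node 6074 (BT.node 6072 (BT.node 6071 (BT.node 6070 (BT.leaf cE6070) (BT.leaf cE6071)) (BT.leaf cE6072)) (BT.node 6073 (BT.leaf cE6073) (BT.leaf cE6074))) (BT.node 6077 (BT.node 6076 (BT.node 6075 (BT.leaf cE6075) (BT.leaf cE6076)) (BT.leaf cE6077)) (BT.node 6078 (BT.leaf cE6078) (BT.leaf cE6079)))) (BT.node 6084 (BT.node 6082 (BT.node 6081 (BT.node 6080 (BT.leaf cE6080) (BT.leaf cE6081)) (BT.leaf cE6082)) (BT.node 6083 (BT.leaf cE6083) (BT.leaf cE6084))) (BT.node 6087 (BT.node 6086 (BT.node 6085 (BT.leaf cE6085) (BT.leaf cE6086)) (BT.leaf cE6087)) (BT.node 6088 (BT.leaf cE6088) (BT.leaf cE6089))))) (BT.node 6099 (BT.node 6094 (BT.node 6092 (BT.node 6091 (BT.node 6090 (BT.leaf cE6090) (BT.leaf cE6091)) (BT.leaf cE6092)) (BT.node 6093 (BT.leaf cE6093) (BT.leaf cE6094))) (BT.node 6097 (BT.node 6096 (BT.node 6095 (BT.leaf cE6095) (BT.leaf cE6096)) (BT.leaf cE6097)) (BT.node 6098 (BT.leaf cE6098) (BT.leaf cE6099)))) (BT.node 6104 (BT.node 6102 (BT.node 6101 (BT.node 6100 (BT.leaf cE6100) (BT.leaf cE6101)) (BT.leaf cE6102)) (BT.node 6103 (BT.leaf cE6103) (BT.leaf cE6104))) (BT.node 6106 (BT.node 6105 (BT.leaf cE6105) (BT.leaf cE6106)) (BT.node 6107 (BT.leaf cE6107) (BT.leaf cE6108)))))))) (BT.node 6186 (BT.node 6147 (BT.node 6128 (BT.node 6118 (BT.node 6113 (BT.node 6111 (BT.node 6110 (BT.node 6109 (BT.leaf cE6109) (BT.leaf cE6110)) (BT.leaf cE6111)) (BT.node 6112 (BT.leaf cE6112) (BT.leaf cE6113))) (BT.node 6116 (BT.node 6115 (BT.node 6114 (BT.leaf cE6114) (BT.leaf cE6115)) (BT.leaf cE6116)) (BT.node 6117 (BT.leaf cE6117) (BT.leaf cE6118)))) (BT.node 6123 (BT.node 6121 (BT.node 6120 (BT.node 6119 (BT.leaf cE6119) (BT.leaf cE6120)) (BT.leaf cE6121)) (BT.node 6122 (BT.leaf cE6122) (BT.leaf cE6123))) (BT.node 6126 (BT.node 6125 (BT.node 6124 (BT.leaf cE6124) (BT.leaf cE6125)) (BT.leaf cE6126)) (BT.node 6127 (BT.leaf cE6127) (BT.leaf cE6128))))) (BT.node 6138 (BT.node 6133 (BT.node 6131 (BT.node 6130 (BT.node 6129 (BT.leaf cE6129) (BT.leaf cE6130)) (BT.leaf cE6131)) (BT.node 6132 (BT.leaf cE6132) (BT.leaf cE6133))) (BT.node 6136 (BT.node 6135 (BT.node 6134 (BT.leaf cE6134) (BT.leaf cE6135)) (BT.leaf cE6136)) (BT.node 6137 (BT.leaf cE6137) (BT.leaf cE6138)))) (BT.node 6143 (BT.node 6141 (BT.node 6140 (BT.node 6139 (BT.leaf cE6139) (BT.leaf cE6140)) (BT.leaf cE6141)) (BT.node 6142 (BT.leaf cE6142) (BT.leaf cE6143))) (BT.node 6145 (BT.node 6144 (BT.leaf cE6144) (BT.leaf cE6145)) (BT.node 6146 (BT.leaf cE6146) (BT.leaf cE6147)))))) (BT.node 6167 (BT.node 6157 (BT.node 6152 (BT.node 6150 (BT.node 6149 (BT.node 6148 (BT.leaf cE6148) (BT.leaf cE6149)) (BT.leaf cE6150)) (BT.node 6151 (BT.leaf cE6151) (BT.leaf cE6152))) (BT.node 6155 (BT.node 6154 (BT.node 6153 (BT.leaf cE6153) (BT.leaf cE6154)) (BT.leaf cE6155)) (BT.node 6156 (BT.leaf cE6156) (BT.leaf cE6157)))) (BT.node 6162 (BT.node 6160 (BT.node 6159 (BT.node 6158 (BT.leaf cE6158) (BT.leaf cE6159)) (BT.leaf cE6160)) (BT.node 6161 (BT.leaf cE6161) (BT.leaf cE6162))) (BT.node 6165 (BT.node 6164 (BT.node 6163 (BT.leaf cE6163) (BT.leaf cE6164)) (BT.leaf cE6165)) (BT.node 6166 (BT.leaf cE6166) (BT.leaf cE6167))))) (BT.node 6177 (BT.node 6172 (BT.node 6170 (BT.node 6169 (BT.node 6168 (BT.leaf cE6168) (BT.leaf cE6169)) (BT.leaf cE6170)) (BT.node 6171 (BT.leaf cE6171) (BT.leaf cE6172))) (BT.node 6175 (BT.node 6174 (BT.node 6173 (BT.leaf cE6173) (BT.leaf cE6174)) (BT.leaf cE6175)) (BT.node 6176 (BT.leaf cE6176) (BT.leaf cE6177)))) (BT.node 6182 (BT.node 6180 (BT.node 6179 (BT.node 6178 (BT.leaf cE6178) (BT.leaf cE6179)) (BT.leaf cE6180)) (BT.node 6181 (BT.leaf cE6181) (BT.leaf cE6182))) (BT.node 6184 (BT.node 6183 (BT.leaf cE6183) (BT.leaf cE6184)) (BT.node 6185 (BT.leaf cE6185) (BT.leaf cE6186))))))) (BT.node 6225 (BT.node 6206 (BT.node 6196 (BT.node 6191 (BT.node 6189 (BT.node 6188 (BT.node 6187 (BT.leaf cE6187) (BT.leaf cE6188)) (BT.leaf cE6189)) (BT.node 6190 (BT.leaf cE6190) (BT.leaf cE6191))) (BT.node 6194 (BT.node 6193 (BT.node 6192 (BT.leaf cE6192) (BT.leaf cE6193)) (BT.leaf cE6194)) (BT.node 6195 (BT.leaf cE6195) (BT.leaf cE6196)))) (BT.node 6201 (BT.node 6199 (BT.node 6198 (BT.node 6197 (BT.leaf cE6197) (BT.leaf cE6198)) (BT.leaf cE6199)) (BT.node 6200 (BT.leaf cE6200) (BT.leaf cE6201))) (BT.node 6204 (BT.node 6203 (BT.node 6202 (BT.leaf cE6202) (BT.leaf cE6203)) (BT.leaf cE6204)) (BT.node 6205 (BT.leaf cE6205) (BT.leaf cE6206))))) (BT.node 6216 (BT.node 6211 (BT.node 6209 (BT.node 6208 (BT.node 6207 (BT.leaf cE6207) (BT.leaf cE6208)) (BT.leaf cE6209)) (BT.node 6210 (BT.leaf cE6210) (BT.leaf cE6211))) (BT.node 6214 (BT.node 6213 (BT.node 6212 (BT.leaf cE6212) (BT.leaf cE6213)) (BT.leaf cE6214)) (BT.node 6215 (BT.leaf cE6215) (BT.leaf cE6216)))) (BT.node 6221 (BT.node 6219 (BT.node 6218 (BT.node 6217 (BT.leaf cE6217) (BT.leaf cE6218)) (BT.leaf cE6219)) (BT.node 6220 (BT.leaf cE6220) (BT.leaf cE6221))) (BT.node 6223 (BT.node 6222 (BT.leaf cE6222) (BT.leaf cE6223)) (BT.node 6224 (BT.leaf cE6224) (BT.leaf cE6225)))))) (BT.node 6245 (BT.node 6235 (BT.node 6230 (BT.node 6228 (BT.node 6227 (BT.node 6226 (BT.leaf cE6226) (BT.leaf cE6227)) (BT.leaf cE6228)) (BT.node 6229 (BT.leaf cE6229) (BT.leaf cE6230))) (BT.node 6233 (BT.node 6232 (BT.node 6231 (BT.leaf cE6231) (BT.leaf cE6232)) (BT.leaf cE6233)) (BT.node 6234 (BT.leaf cE6234) (BT.leaf cE6235)))) (BT.node 6240 (BT.node 6238 (BT.node 6237 (BT.node 6236 (BT.leaf cE6236) (BT.leaf cE6237)) (BT.leaf cE6238)) (BT.node 6239 (BT.leaf cE6239) (BT.leaf cE6240))) (BT.node 6243 (BT.node 6242 (BT.node 6241 (BT.leaf cE6241) (BT.leaf cE6242)) (BT.leaf cE6243)) (BT.node 6244 (BT.leaf cE6244) (BT.leaf cE6245))))) (BT.node 6255 (BT.node 6250 (BT.node 6248 (BT.node 6247 (BT.node 6246 (BT.leaf cE6246) (BT.leaf cE6247)) (BT.leaf cE6248)) (BT.node 6249 (BT.leaf cE6249) (BT.leaf cE6250))) (BT.node 6253 (BT.node 6252 (BT.node 6251 (BT.leaf cE6251) (BT.leaf cE6252)) (BT.leaf cE6253)) (BT.node 6254 (BT.leaf cE6254) (BT.leaf cE6255)))) (BT.node 6260 (BT.node 6258 (BT.node 6257 (BT.node 6256 (BT.leaf cE6256) (BT.leaf cE6257)) (BT.leaf cE6258)) (BT.node 6259 (BT.leaf cE6259) (BT.leaf cE6260))) (BT.node 6262 (BT.node 6261 (BT.leaf cE6261) (BT.leaf cE6262)) (BT.node 6263 (BT.leaf cE6263) (BT.leaf cE6264))))))))))) (BT.node 6891 (BT.node 6578 (BT.node 6421 (BT.node 6343 (BT.node 6304 (BT.node 6284 (BT.node 6274 (BT.node 6269 (BT.node 6267 (BT.node 6266 (BT.node 6265 (BT.leaf cE6265) (BT.leaf cE6266)) (BT.leaf cE6267)) (BT.node 6268 (BT.leaf cE6268) (BT.leaf cE6269))) (BT.node 6272 (BT.node 6271 (BT.node 6270 (BT.leaf cE6270) (BT.leaf cE6271)) (BT.leaf cE6272)) (BT.node 6273 (BT.leaf cE6273) (BT.leaf cE6274)))) (BT.node 6279 (BT.node 6277 (BT.node 6276 (BT.node 6275 (BT.leaf cE6275) (BT.leaf cE6276)) (BT.leaf cE6277)) (BT.node 6278 (BT.leaf cE6278) (BT.leaf cE6279))) (BT.node 6282 (BT.node 6281 (BT.node 6280 (BT.leaf cE6280) (BT.leaf cE6281)) (BT.leaf cE6282)) (BT.node 6283 (BT.leaf cE6283) (BT.leaf cE6284))))) (BT.node 6294 (BT.node 6289 (BT.node 6287 (BT.node 6286 (BT.node 6285 (BT.leaf cE6285) (BT.leaf cE6286)) (BT.leaf cE6287)) (BT.node 6288 (BT.leaf cE6288) (BT.leaf cE6289))) (BT.node 6292 (BT.node 6291 (BT.node 6290 (BT.leaf cE6290) (BT.leaf cE6291)) (BT.leaf cE6292)) (BT.node 6293 (BT.leaf cE6293) (BT.leaf cE6294)))) (BT.node 6299 (BT.node 6297 (BT.node 6296 (BT.node 6295 (BT.leaf cE6295) (BT.leaf cE6296)) (BT.leaf cE6297)) (BT.node 6298 (BT.leaf cE6298) (BT.leaf cE6299))) (BT.node 6302 (BT.node 6301 (BT.node 6300 (BT.leaf cE6300) (BT.leaf cE6301)) (BT.leaf cE6302)) (BT.node 6303 (BT.leaf cE6303) (BT.leaf cE6304)))))) (BT.node 6324 (BT.node 6314 (BT.node 6309 (BT.node 6307 (BT.node 6306 (BT.node 6305 (BT.leaf cE6305) (BT.leaf cE6306)) (BT.leaf cE6307)) (BT.node 6308 (BT.leaf cE6308) (BT.leaf cE6309))) (BT.node 6312 (BT.node 6311 (BT.node 6310 (BT.leaf cE6310) (BT.leaf cE6311)) (BT.leaf cE6312)) (BT.node 6313 (BT.leaf cE6313) (BT.leaf cE6314)))) (BT.node 6319 (BT.node 6317 (BT.node 6316 (BT.node 6315 (BT.leaf cE6315) (BT.leaf cE6316)) (BT.leaf cE6317)) (BT.node 6318 (BT.leaf cE6318) (BT.leaf cE6319))) (BT.node 6322 (BT.node 6321 (BT.node 6320 (BT.leaf cE6320) (BT.leaf cE6321)) (BT.leaf cE6322)) (BT.node 6323 (BT.leaf cE6323) (BT.leaf cE6324))))) (BT.node 6334 (BT.node 6329 (BT.node 6327 (BT.node 6326 (BT.node 6325 (BT.leaf cE6325) (BT.leaf cE6326)) (BT.leaf cE6327)) (BT.node 6328 (BT.leaf cE6328) (BT.leaf cE6329))) (BT.node 6332 (BT.node 6331 (BT.node 6330 (BT.leaf cE6330) (BT.leaf cE6331)) (BT.leaf cE6332)) (BT.node 6333 (BT.leaf cE6333) (BT.leaf cE6334)))) (BT.node 6339 (BT.node 6337 (BT.node 6336 (BT.node 6335 (BT.leaf cE6335) (BT.leaf cE6336)) (BT.leaf cE6337)) (BT.node 6338 (BT.leaf cE6338) (BT.leaf cE6339))) (BT.node 6341 (BT.node 6340 (BT.leaf cE6340) (BT.leaf cE6341)) (BT.node 6342 (BT.leaf cE6342) (BT.leaf cE6343))))))) (BT.node 6382 (BT.node 6363 (BT.node 6353 (BT.node 6348 (BT.node 6346 (BT.node 6345 (BT.node 6344 (BT.leaf cE6344) (BT.leaf cE6345)) (BT.leaf cE6346)) (BT.node 6347 (BT.leaf cE6347) (BT.leaf cE6348))) (BT.node 6351 (BT.node 6350 (BT.node 6349 (BT.leaf cE6349) (BT.leaf cE6350)) (BT.leaf cE6351)) (BT.node 6352 (BT.leaf cE6352) (BT.leaf cE6353)))) (BT.node 6358 (BT.node 6356 (BT.node 6355 (BT.node 6354 (BT.leaf cE6354) (BT.leaf cE6355)) (BT.leaf cE6356)) (BT.node 6357 (BT.leaf cE6357) (BT.leaf cE6358))) (BT.node 6361 (BT.node 6360 (BT.node 6359 (BT.leaf cE6359) (BT.leaf cE6360)) (BT.leaf cE6361)) (BT.node 6362 (BT.leaf cE6362) (BT.leaf cE6363))))) (BT.node 6373 (BT.node 6368 (BT.node 6366 (BT.node 6365 (BT.node 6364 (BT.leaf cE6364) (BT.leaf cE6365)) (BT.leaf cE6366)) (BT.node 6367 (BT.leaf cE6367) (BT.leaf cE6368))) (BT.node 6371 (BT.node 6370 (BT.node 6369 (BT.leaf cE6369) (BT.leaf cE6370)) (BT.leaf cE6371)) (BT.node 6372 (BT.leaf cE6372) (BT.leaf cE6373)))) (BT.node 6378 (BT.node 6376 (BT.node 6375 (BT.node 6374 (BT.leaf cE6374) (BT.leaf cE6375)) (BT.leaf cE6376)) (BT.node 6377 (BT.leaf cE6377) (BT.leaf cE6378))) (BT.node 6380 (BT.node 6379 (BT.leaf cE6379) (BT.leaf cE6380)) (BT.node 6381 (BT.leaf cE6381) (BT.leaf cE6382)))))) (BT.node 6402 (BT.node 6392 (BT.node 6387 (BT.node 6385 (BT.node 6384 (BT.node 6383 (BT.leaf cE6383) (BT.leaf cE6384)) (BT.leaf cE6385)) (BT.node 6386 (BT.leaf cE6386) (BT.leaf cE6387))) (BT.node 6390 (BT.node 6389 (BT.node 6388 (BT.leaf cE6388) (BT.leaf cE6389)) (BT.leaf cE6390)) (BT.node 6391 (BT.leaf cE6391) (BT.leaf cE6392)))) (BT.node 6397 (BT.node 6395 (BT.node 6394 (BT.node 6393 (BT.leaf cE6393) (BT.leaf cE6394)) (BT.leaf cE6395)) (BT.node 6396 (BT.leaf cE6396) (BT.leaf cE6397))) (BT.node 6400 (BT.node 6399 (BT.node 6398 (BT.leaf cE6398) (BT.leaf cE6399)) (BT.leaf cE6400)) (BT.node 6401 (BT.leaf cE6401) (BT.leaf cE6402))))) (BT.node 6412 (BT.node 6407 (BT.node 6405 (BT.node 6404 (BT.node 6403 (BT.leaf cE6403) (BT.leaf cE6404)) (BT.leaf cE6405)) (BT.node 6406 (BT.leaf cE6406) (BT.leaf cE6407))) (BT.node 6410 (BT.node 6409 (BT.node 6408 (BT.leaf cE6408) (BT.leaf cE6409)) (BT.leaf cE6410)) (BT.node 6411 (BT.leaf cE6411) (BT.leaf cE6412)))) (BT.node 6417 (BT.node 6415 (BT.node 6414 (BT.node 6413 (BT.leaf cE6413) (BT.leaf cE6414)) (BT.leaf cE6415)) (BT.node 6416 (BT.leaf cE6416) (BT.leaf cE6417))) (BT.node 6419 (BT.node 6418 (BT.leaf cE6418) (BT.leaf cE6419)) (BT.node 6420 (BT.leaf cE6420) (BT.leaf cE6421)))))))) (BT.node 6500 (BT.node 6461 (BT.node 6441 (BT.node 6431 (BT.node 6426 (BT.node 6424 (BT.node 6423 (BT.node 6422 (BT.leaf cE6422) (BT.leaf cE6423)) (BT.leaf cE6424)) (BT.node 6425 (BT.leaf cE6425) (BT.leaf cE6426))) (BT.node 6429 (BT.node 6428 (BT.node 6427 (BT.leaf cE6427) (BT.leaf cE6428)) (BT.leaf cE6429)) (BT.node 6430 (BT.leaf cE6430) (BT.leaf cE6431)))) (BT.node 6436 (BT.node 6434 (BT.node 6433 (BT.node 6432 (BT.leaf cE6432) (BT.leaf cE6433)) (BT.leaf cE6434)) (BT.node 6435 (BT.leaf cE6435) (BT.leaf cE6436))) (BT.node 6439 (BT.node 6438 (BT.node 6437 (BT.leaf cE6437) (BT.leaf cE6438)) (BT.leaf cE6439)) (BT.node 6440 (BT.leaf cE6440) (BT.leaf cE6441))))) (BT.node 6451 (BT.node 6446 (BT.node 6444 (BT.node 6443 (BT.node 6442 (BT.leaf cE6442) (BT.leaf cE6443)) (BT.leaf cE6444)) (BT.node 6445 (BT.leaf cE6445) (BT.leaf cE6446))) (BT.node 6449 (BT.node 6448 (BT.node 6447 (BT.leaf cE6447) (BT.leaf cE6448)) (BT.leaf cE6449)) (BT.node 6450 (BT.leaf cE6450) (BT.leaf cE6451)))) (BT.node 6456 (BT.node 6454 (BT.node 6453 (BT.node 6452 (BT.leaf cE6452) (BT.leaf cE6453)) (BT.leaf cE6454)) (BT.node 6455 (BT.leaf cE6455) (BT.leaf cE6456))) (BT.node 6459 (BT.node 6458 (BT.node 6457 (BT.leaf cE6457) (BT.leaf cE6458)) (BT.leaf cE6459)) (BT.node 6460 (BT.leaf cE6460) (BT.leaf cE6461)))))) (BT.node 6481 (BT.node 6471 (BT.node 6466 (BT.node 6464 (BT.node 6463 (BT.node 6462 (BT.leaf cE6462) (BT.leaf cE6463)) (BT.leaf cE6464)) (BT.node 6465 (BT.leaf cE6465) (BT.leaf cE6466))) (BT.node 6469 (BT.node 6468 (BT.node 6467 (BT.leaf cE6467) (BT.leaf cE6468)) (BT.leaf cE6469)) (BT.node 6470 (BT.leaf cE6470) (BT.leaf cE6471)))) (BT.node 6476 (BT.node 6474 (BT.node 6473 (BT.node 6472 (BT.leaf cE6472) (BT.leaf cE6473)) (BT.leaf cE6474)) (BT.node 6475 (BT.leaf cE6475) (BT.leaf cE6476))) (BT.node 6479 (BT.node 6478 (BT.node 6477 (BT.leaf cE6477) (BT.leaf cE6478)) (BT.leaf cE6479)) (BT.node 6480 (BT.leaf cE6480) (BT.leaf cE6481))))) (BT.node 6491 (BT.node 6486 (BT.node 6484 (BT.node 6483 (BT.node 6482 (BT.leaf cE6482) (BT.leaf cE6483)) (BT.leaf cE6484)) (BT.node 6485 (BT.leaf cE6485) (BT.leaf cE6486))) (BT.node 6489 (BT.node 6488 (BT.node 6487 (BT.leaf cE6487) (BT.leaf cE6488)) (BT.leaf cE6489)) (BT.node 6490 (BT.leaf cE6490) (BT.leaf cE6491)))) (BT.node 6496 (BT.node 6494 (BT.node 6493 (BT.node 6492 (BT.leaf cE6492) (BT.leaf cE6493)) (BT.leaf cE6494)) (BT.node 6495 (BT.leaf cE6495) (BT.leaf cE6496))) (BT.node 6498 (BT.node 6497 (BT.leaf cE6497) (BT.leaf cE6498)) (BT.node 6499 (BT.leaf cE6499) (BT.leaf cE6500))))))) (BT.node 6539 (BT.node 6520 (BT.node 6510 (BT.node 6505 (BT.node 6503 (BT.node 6502 (BT.node 6501 (BT.leaf cE6501) (BT.leaf cE6502)) (BT.leaf cE6503)) (BT.node 6504 (BT.leaf cE6504) (BT.leaf cE6505))) (BT.node 6508 (BT.node 6507 (BT.node 6506 (BT.leaf cE6506) (BT.leaf cE6507)) (BT.leaf cE6508)) (BT.node 6509 (BT.leaf cE6509) (BT.leaf cE6510)))) (BT.node 6515 (BT.node 6513 (BT.node 6512 (BT.node 6511 (BT.leaf cE6511) (BT.leaf cE6512)) (BT.leaf cE6513)) (BT.node 6514 (BT.leaf cE6514) (BT.leaf cE6515))) (BT.node 6518 (BT.node 6517 (BT.node 6516 (BT.leaf cE6516) (BT.leaf cE6517)) (BT.leaf cE6518)) (BT.node 6519 (BT.leaf cE6519) (BT.leaf cE6520))))) (BT.node 6530 (BT.node 6525 (BT.node 6523 (BT.node 6522 (BT.node 6521 (BT.leaf cE6521) (BT.leaf cE6522)) (BT.leaf cE6523)) (BT.node 6524 (BT.leaf cE6524) (BT.leaf cE6525))) (BT.node 6528 (BT.node 6527 (BT.node 6526 (BT.leaf cE6526) (BT.leaf cE6527)) (BT.leaf cE6528)) (BT.node 6529 (BT.leaf cE6529) (BT.leaf cE6530)))) (BT.node 6535 (BT.node 6533 (BT.node 6532 (BT.node 6531 (BT.leaf cE6531) (BT.leaf cE6532)) (BT.leaf cE6533)) (BT.node 6534 (BT.leaf cE6534) (BT.leaf cE6535))) (BT.node 6537 (BT.node 6536 (BT.leaf cE6536) (BT.leaf cE6537)) (BT.node 6538 (BT.leaf cE6538) (BT.leaf cE6539)))))) (BT.node 6559 (BT.node 6549 (BT.node 6544 (BT.node 6542 (BT.node 6541 (BT.node 6540 (BT.leaf cE6540) (BT.leaf cE6541)) (BT.leaf cE6542)) (BT.node 6543 (BT.leaf cE6543) (BT.leaf cE6544))) (BT.node 6547 (BT.node 6546 (BT.node 6545 (BT.leaf cE6545) (BT.leaf cE6546)) (BT.leaf cE6547)) (BT.node 6548 (BT.leaf cE6548) (BT.leaf cE6549)))) (BT.node 6554 (BT.node 6552 (BT.node 6551 (BT.node 6550 (BT.leaf cE6550) (BT.leaf cE6551)) (BT.leaf cE6552)) (BT.node 6553 (BT.leaf cE6553) (BT.leaf cE6554))) (BT.node 6557 (BT.node 6556 (BT.node 6555 (BT.leaf cE6555) (BT.leaf cE6556)) (BT.leaf cE6557)) (BT.node 6558 (BT.leaf cE6558) (BT.leaf cE6559))))) (BT.node 6569 (BT.node 6564 (BT.node 6562 (BT.node 6561 (BT.node 6560 (BT.leaf cE6560) (BT.leaf cE6561)) (BT.leaf cE6562)) (BT.node 6563 (BT.leaf cE6563) (BT.leaf cE6564))) (BT.node 6567 (BT.node 6566 (BT.node 6565 (BT.leaf cE6565) (BT.leaf cE6566)) (BT.leaf cE6567)) (BT.node 6568 (BT.leaf cE6568) (BT.leaf cE6569)))) (BT.node 6574 (BT.node 6572 (BT.node 6571 (BT.node 6570 (BT.leaf cE6570) (BT.leaf cE6571)) (BT.leaf cE6572)) (BT.node 6573 (BT.leaf cE6573) (BT.leaf cE6574))) (BT.node 6576 (BT.node 6575 (BT.leaf cE6575) (BT.leaf cE6576)) (BT.node 6577 (BT.leaf cE6577) (BT.leaf cE6578))))))))) (BT.node 6735 (BT.node 6657 (BT.node 6618 (BT.node 6598 (BT.node 6588 (BT.node 6583 (BT.node 6581 (BT.node 6580 (BT.node 6579 (BT.leaf cE6579) (BT.leaf cE6580)) (BT.leaf cE6581)) (BT.node 6582 (BT.leaf cE6582) (BT.leaf cE6583))) (BT.node 6586 (BT.node 6585 (BT.node 6584 (BT.leaf cE6584) (BT.leaf cE6585)) (BT.leaf cE6586)) (BT.node 6587 (BT.leaf cE6587) (BT.leaf cE6588)))) (BT.node 6593 (BT.node 6591 (BT.node 6590 (BT.node 6589 (BT.leaf cE6589) (BT.leaf cE6590)) (BT.leaf cE6591)) (BT.node 6592 (BT.leaf cE6592) (BT.leaf cE6593))) (BT.node 6596 (BT.node 6595 (BT.node 6594 (BT.leaf cE6594) (BT.leaf cE6595)) (BT.leaf cE6596)) (BT.node 6597 (BT.leaf cE6597) (BT.leaf cE6598))))) (BT.node 6608 (BT.node 6603 (BT.node 6601 (BT.node 6600 (BT.node 6599 (BT.leaf cE6599) (BT.leaf cE6600)) (BT.leaf cE6601)) (BT.node 6602 (BT.leaf cE6602) (BT.leaf cE6603))) (BT.node 6606 (BT.node 6605 (BT.node 6604 (BT.leaf cE6604) (BT.leaf cE6605)) (BT.leaf cE6606)) (BT.node 6607 (BT.leaf cE6607) (BT.leaf cE6608)))) (BT.node 6613 (BT.node 6611 (BT.node 6610 (BT.node 6609 (BT.leaf cE6609) (BT.leaf cE6610)) (BT.leaf cE6611)) (BT.node 6612 (BT.leaf cE6612) (BT.leaf cE6613))) (BT.node 6616 (BT.node 6615 (BT.node 6614 (BT.leaf cE6614) (BT.leaf cE6615)) (BT.leaf cE6616)) (BT.node 6617 (BT.leaf cE6617) (BT.leaf cE6618)))))) (BT.node 6638 (BT.node 6628 (BT.node 6623 (BT.node 6621 (BT.node 6620 (BT.node 6619 (BT.leaf cE6619) (BT.leaf cE6620)) (BT.leaf cE6621)) (BT.node 6622 (BT.leaf cE6622) (BT.leaf cE6623))) (BT.node 6626 (BT.node 6625 (BT.node 6624 (BT.leaf cE6624) (BT.leaf cE6625)) (BT.leaf cE6626)) (BT.node 6627 (BT.leaf cE6627) (BT.leaf cE6628)))) (BT.node 6633 (BT.node 6631 (BT.node 6630 (BT.node 6629 (BT.leaf cE6629) (BT.leaf cE6630)) (BT.leaf cE6631)) (BT.node 6632 (BT.leaf cE6632) (BT.leaf cE6633))) (BT.node 6636 (BT.node 6635 (BT.node 6634 (BT.leaf cE6634) (BT.leaf cE6635)) (BT.leaf cE6636)) (BT.node 6637 (BT.leaf cE6637) (BT.leaf cE6638))))) (BT.node 6648 (BT.node 6643 (BT.node 6641 (BT.node 6640 (BT.node 6639 (BT.leaf cE6639) (BT.leaf cE6640)) (BT.leaf cE6641)) (BT.node 6642 (BT.leaf cE6642) (BT.leaf cE6643))) (BT.node 6646 (BT.node 6645 (BT.node 6644 (BT.leaf cE6644) (BT.leaf cE6645)) (BT.leaf cE6646)) (BT.node 6647 (BT.leaf cE6647) (BT.leaf cE6648)))) (BT.node 6653 (BT.node 6651 (BT.node 6650 (BT.node 6649 (BT.leaf cE6649) (BT.leaf cE6650)) (BT.leaf cE6651)) (BT.node 6652 (BT.leaf cE6652) (BT.leaf cE6653))) (BT.node 6655 (BT.node 6654 (BT.leaf cE6654) (BT.leaf cE6655)) (BT.node 6656 (BT.leaf cE6656) (BT.leaf cE6657))))))) (BT.node 6696 (BT.node 6677 (BT.node 6667 (BT.node 6662 (BT.node 6660 (BT.node 6659 (BT.node 6658 (BT.leaf cE6658) (BT.leaf cE6659)) (BT.leaf cE6660)) (BT.node 6661 (BT.leaf cE6661) (BT.leaf cE6662))) (BT.node 6665 (BT.node 6664 (BT.node 6663 (BT.leaf cE6663) (BT.leaf cE6664)) (BT.leaf cE6665)) (BT.node 6666 (BT.leaf cE6666) (BT.leaf cE6667)))) (BT.node 6672 (BT.node 6670 (BT.node 6669 (BT.node 6668 (BT.leaf cE6668) (BT.leaf cE6669)) (BT.leaf cE6670)) (BT.node 6671 (BT.leaf cE6671) (BT.leaf cE6672))) (BT.node 6675 (BT.node 6674 (BT.node 6673 (BT.leaf cE6673) (BT.leaf cE6674)) (BT.leaf cE6675)) (BT.node 6676 (BT.leaf cE6676) (BT.leaf cE6677))))) (BT.node 6687 (BT.node 6682 (BT.node 6680 (BT.node 6679 (BT.node 6678 (BT.leaf cE6678) (BT.leaf cE6679)) (BT.leaf cE6680)) (BT.node 6681 (BT.leaf cE6681) (BT.leaf cE6682))) (BT.node 6685 (BT.node 6684 (BT.node 6683 (BT.leaf cE6683) (BT.leaf cE6684)) (BT.leaf cE6685)) (BT.node 6686 (BT.leaf cE6686) (BT.leaf cE6687)))) (BT.node 6692 (BT.node 6690 (BT.node 6689 (BT.node 6688 (BT.leaf cE6688) (BT.leaf cE6689)) (BT.leaf cE6690)) (BT.node 6691 (BT.leaf cE6691) (BT.leaf cE6692))) (BT.node 6694 (BT.node 6693 (BT.leaf cE6693) (BT.leaf cE6694)) (BT.node 6695 (BT.leaf cE6695) (BT.leaf cE6696)))))) (BT.node 6716 (BT.node 6706 (BT.node 6701 (BT.node 6699 (BT.node 6698 (BT.node 6697 (BT.leaf cE6697) (BT.leaf cE6698)) (BT.leaf cE6699)) (BT.node 6700 (BT.leaf cE6700) (BT.leaf cE6701))) (BT.node 6704 (BT.node 6703 (BT.node 6702 (BT.leaf cE6702) (BT.leaf cE6703)) (BT.leaf cE6704)) (BT.node 6705 (BT.leaf cE6705) (BT.leaf cE6706)))) (BT.node 6711 (BT.node 6709 (BT.node 6708 (BT.node 6707 (BT.leaf cE6707) (BT.leaf cE6708)) (BT.leaf cE6709)) (BT.node 6710 (BT.leaf cE6710) (BT.leaf cE6711))) (BT.node 6714 (BT.node 6713 (BT.node 6712 (BT.leaf cE6712) (BT.leaf cE6713)) (BT.leaf cE6714)) (BT.node 6715 (BT.leaf cE6715) (BT.leaf cE6716))))) (BT.node 6726 (BT.node 6721 (BT.node 6719 (BT.node 6718 (BT.node 6717 (BT.leaf cE6717) (BT.leaf cE6718)) (BT.leaf cE6719)) (BT.node 6720 (BT.leaf cE6720) (BT.leaf cE6721))) (BT.node 6724 (BT.node 6723 (BT.node 6722 (BT.leaf cE6722) (BT.leaf cE6723)) (BT.leaf cE6724)) (BT.node 6725 (BT.leaf cE6725) (BT.leaf cE6726)))) (BT.node 6731 (BT.node 6729 (BT.node 6728 (BT.node 6727 (BT.leaf cE6727) (BT.leaf cE6728)) (BT.leaf cE6729)) (BT.node 6730 (BT.leaf cE6730) (BT.leaf cE6731))) (BT.node 6733 (BT.node 6732 (BT.leaf cE6732) (BT.leaf cE6733)) (BT.node 6734 (BT.leaf cE6734) (BT.leaf cE6735)))))))) (BT.node 6813 (BT.node 6774 (BT.node 6755 (BT.node 6745 (BT.node 6740 (BT.node 6738 (BT.node 6737 (BT.node 6736 (BT.leaf cE6736) (BT.leaf cE6737)) (BT.leaf cE6738)) (BT.node 6739 (BT.leaf cE6739) (BT.leaf cE6740))) (BT.node 6743 (BT.node 6742 (BT.node 6741 (BT.leaf cE6741) (BT.leaf cE6742)) (BT.leaf cE6743)) (BT.node 6744 (BT.leaf cE6744) (BT.leaf cE6745)))) (BT.node 6750 (BT.node 6748 (BT.node 6747 (BT.node 6746 (BT.leaf cE6746) (BT.leaf cE6747)) (BT.leaf cE6748)) (BT.node 6749 (BT.leaf cE6749) (BT.leaf cE6750))) (BT.node 6753 (BT.node 6752 (BT.node 6751 (BT.leaf cE6751) (BT.leaf cE6752)) (BT.leaf cE6753)) (BT.node 6754 (BT.leaf cE6754) (BT.leaf cE6755))))) (BT.node 6765 (BT.node 6760 (BT.node 6758 (BT.node 6757 (BT.node 6756 (BT.leaf cE6756) (BT.leaf cE6757)) (BT.leaf cE6758)) (BT.node 6759 (BT.leaf cE6759) (BT.leaf cE6760))) (BT.node 6763 (BT.node 6762 (BT.node 6761 (BT.leaf cE6761) (BT.leaf cE6762)) (BT.leaf cE6763)) (BT.node 6764 (BT.leaf cE6764) (BT.leaf cE6765)))) (BT.node 6770 (BT.node 6768 (BT.node 6767 (BT.node 6766 (BT.leaf cE6766) (BT.leaf cE6767)) (BT.leaf cE6768)) (BT.node 6769 (BT.leaf cE6769) (BT.leaf cE6770))) (BT.node 6772 (BT.node 6771 (BT.leaf cE6771) (BT.leaf cE6772)) (BT.node 6773 (BT.leaf cE6773) (BT.leaf cE6774)))))) (BT.node 6794 (BT.node 6784 (BT.node 6779 (BT.node 6777 (BT.node 6776 (BT.node 6775 (BT.leaf cE6775) (BT.leaf cE6776)) (BT.leaf cE6777)) (BT.node 6778 (BT.leaf cE6778) (BT.leaf cE6779))) (BT.node 6782 (BT.node 6781 (BT.node 6780 (BT.leaf cE6780) (BT.leaf cE6781)) (BT.leaf cE6782)) (BT.node 6783 (BT.leaf cE6783) (BT.leaf cE6784)))) (BT.node 6789 (BT.node 6787 (BT.node 6786 (BT.node 6785 (BT.leaf cE6785) (BT.leaf cE6786)) (BT.leaf cE6787)) (BT.node 6788 (BT.leaf cE6788) (BT.leaf cE6789))) (BT.node 6792 (BT.node 6791 (BT.node 6790 (BT.leaf cE6790) (BT.leaf cE6791)) (BT.leaf cE6792)) (BT.node 6793 (BT.leaf cE6793) (BT.leaf cE6794))))) (BT.node 6804 (BT.node 6799 (BT.node 6797 (BT.node 6796 (BT.node 6795 (BT.leaf cE6795) (BT.leaf cE6796)) (BT.leaf cE6797)) (BT.node 6798 (BT.leaf cE6798) (BT.leaf cE6799))) (BT.node 6802 (BT.node 6801 (BT.node 6800 (BT.leaf cE6800) (BT.leaf cE6801)) (BT.leaf cE6802)) (BT.node 6803 (BT.leaf cE6803) (BT.leaf cE6804)))) (BT.node 6809 (BT.node 6807 (BT.node 6806 (BT.node 6805 (BT.leaf cE6805) (BT.leaf cE6806)) (BT.leaf cE6807)) (BT.node 6808 (BT.leaf cE6808) (BT.leaf cE6809))) (BT.node 6811 (BT.node 6810 (BT.leaf cE6810) (BT.leaf cE6811)) (BT.node 6812 (BT.leaf cE6812) (BT.leaf cE6813))))))) (BT.node 6852 (BT.node 6833 (BT.node 6823 (BT.node 6818 (BT.node 6816 (BT.node 6815 (BT.node 6814 (BT.leaf cE6814) (BT.leaf cE6815)) (BT.leaf cE6816)) (BT.node 6817 (BT.leaf cE6817) (BT.leaf cE6818))) (BT.node 6821 (BT.node 6820 (BT.node 6819 (BT.leaf cE6819) (BT.leaf cE6820)) (BT.leaf cE6821)) (BT.node 6822 (BT.leaf cE6822) (BT.leaf cE6823)))) (BT.node 6828 (BT.node 6826 (BT.node 6825 (BT.node 6824 (BT.leaf cE6824) (BT.leaf cE6825)) (BT.leaf cE6826)) (BT.node 6827 (BT.leaf cE6827) (BT.leaf cE6828))) (BT.node 6831 (BT.node 6830 (BT.node 6829 (BT.leaf cE6829) (BT.leaf cE6830)) (BT.leaf cE6831)) (BT.node 6832 (BT.leaf cE6832) (BT.leaf cE6833))))) (BT.node 6843 (BT.node 6838 (BT.node 6836 (BT.node 6835 (BT.node 6834 (BT.leaf cE6834) (BT.leaf cE6835)) (BT.leaf cE6836)) (BT.node 6837 (BT.leaf cE6837) (BT.leaf cE6838))) (BT.node 6841 (BT.node 6840 (BT.node 6839 (BT.leaf cE6839) (BT.leaf cE6840)) (BT.leaf cE6841)) (BT.node 6842 (BT.leaf cE6842) (BT.leaf cE6843)))) (BT.node 6848 (BT.node 6846 (BT.node 6845 (BT.node 6844 (BT.leaf cE6844) (BT.leaf cE6845)) (BT.leaf cE6846)) (BT.node 6847 (BT.leaf cE6847) (BT.leaf cE6848))) (BT.node 6850 (BT.node 6849 (BT.leaf cE6849) (BT.leaf cE6850)) (BT.node 6851 (BT.leaf cE6851) (BT.leaf cE6852)))))) (BT.node 6872 (BT.node 6862 (BT.node 6857 (BT.node 6855 (BT.node 6854 (BT.node 6853 (BT.leaf cE6853) (BT.leaf cE6854)) (BT.leaf cE6855)) (BT.node 6856 (BT.leaf cE6856) (BT.leaf cE6857))) (BT.node 6860 (BT.node 6859 (BT.node 6858 (BT.leaf cE6858) (BT.leaf cE6859)) (BT.leaf cE6860)) (BT.node 6861 (BT.leaf cE6861) (BT.leaf cE6862)))) (BT.node 6867 (BT.node 6865 (BT.node 6864 (BT.node 6863 (BT.leaf cE6863) (BT.leaf cE6864)) (BT.leaf cE6865)) (BT.node 6866 (BT.leaf cE6866) (BT.leaf cE6867))) (BT.node 6870 (BT.node 6869 (BT.node 6868 (BT.leaf cE6868) (BT.leaf cE6869)) (BT.leaf cE6870)) (BT.node 6871 (BT.leaf cE6871) (BT.leaf cE6872))))) (BT.node 6882 (BT.node 6877 (BT.node 6875 (BT.node 6874 (BT.node 6873 (BT.leaf cE6873) (BT.leaf cE6874)) (BT.leaf cE6875)) (BT.node 6876 (BT.leaf cE6876) (BT.leaf cE6877))) (BT.node 6880 (BT.node 6879 (BT.node 6878 (BT.leaf cE6878) (BT.leaf cE6879)) (BT.leaf cE6880)) (BT.node 6881 (BT.leaf cE6881) (BT.leaf cE6882)))) (BT.node 6887 (BT.node 6885 (BT.node 6884 (BT.node 6883 (BT.leaf cE6883) (BT.leaf cE6884)) (BT.leaf cE6885)) (BT.node 6886 (BT.leaf cE6886) (BT.leaf cE6887))) (BT.node 6889 (BT.node 6888 (BT.leaf cE6888) (BT.leaf cE6889)) (BT.node 6890 (BT.leaf cE6890) (BT.leaf cE6891)))))))))) (BT.node 7204 (BT.node 7048 (BT.node 6970 (BT.node 6931 (BT.node 6911 (BT.node 6901 (BT.node 6896 (BT.node 6894 (BT.node 6893 (BT.node 6892 (BT.leaf cE6892) (BT.leaf cE6893)) (BT.leaf cE6894)) (BT.node 6895 (BT.leaf cE6895) (BT.leaf cE6896))) (BT.node 6899 (BT.node 6898 (BT.node 6897 (BT.leaf cE6897) (BT.leaf cE6898)) (BT.leaf cE6899)) (BT.node 6900 (BT.leaf cE6900) (BT.leaf cE6901)))) (BT.node 6906 (BT.node 6904 (BT.node 6903 (BT.node 6902 (BT.leaf cE6902) (BT.leaf cE6903)) (BT.leaf cE6904)) (BT.node 6905 (BT.leaf cE6905) (BT.leaf cE6906))) (BT.node 6909 (BT.node 6908 (BT.node 6907 (BT.leaf cE6907) (BT.leaf cE6908)) (BT.leaf cE6909)) (BT.node 6910 (BT.leaf cE6910) (BT.leaf cE6911))))) (BT.node 6921 (BT.node 6916 (BT.node 6914 (BT.node 6913 (BT.node 6912 (BT.leaf cE6912) (BT.leaf cE6913)) (BT.leaf cE6914)) (BT.node 6915 (BT.leaf cE6915) (BT.leaf cE6916))) (BT.node 6919 (BT.node 6918 (BT.node 6917 (BT.leaf cE6917) (BT.leaf cE6918)) (BT.leaf cE6919)) (BT.node 6920 (BT.leaf cE6920) (BT.leaf cE6921)))) (BT.node 6926 (BT.node 6924 (BT.node 6923 (BT.node 6922 (BT.leaf cE6922) (BT.leaf cE6923)) (BT.leaf cE6924)) (BT.node 6925 (BT.leaf cE6925) (BT.leaf cE6926))) (BT.node 6929 (BT.node 6928 (BT.node 6927 (BT.leaf cE6927) (BT.leaf cE6928)) (BT.leaf cE6929)) (BT.node 6930 (BT.leaf cE6930) (BT.leaf cE6931)))))) (BT.node 6951 (BT.node 6941 (BT.node 6936 (BT.node 6934 (BT.node 6933 (BT.node 6932 (BT.leaf cE6932) (BT.leaf cE6933)) (BT.leaf cE6934)) (BT.node 6935 (BT.leaf cE6935) (BT.leaf cE6936))) (BT.node 6939 (BT.node 6938 (BT.node 6937 (BT.leaf cE6937) (BT.leaf cE6938)) (BT.leaf cE6939)) (BT.node 6940 (BT.leaf cE6940) (BT.leaf cE6941)))) (BT.node 6946 (BT.node 6944 (BT.node 6943 (BT.node 6942 (BT.leaf cE6942) (BT.leaf cE6943)) (BT.leaf cE6944)) (BT.node 6945 (BT.leaf cE6945) (BT.leaf cE6946))) (BT.node 6949 (BT.node 6948 (BT.node 6947 (BT.leaf cE6947) (BT.leaf cE6948)) (BT.leaf cE6949)) (BT.node 6950 (BT.leaf cE6950) (BT.leaf cE6951))))) (BT.node 6961 (BT.node 6956 (BT.node 6954 (BT.node 6953 (BT.node 6952 (BT.leaf cE6952) (BT.leaf cE6953)) (BT.leaf cE6954)) (BT.node 6955 (BT.leaf cE6955) (BT.leaf cE6956))) (BT.node 6959 (BT.node 6958 (BT.node 6957 (BT.leaf cE6957) (BT.leaf cE6958)) (BT.leaf cE6959)) (BT.node 6960 (BT.leaf cE6960) (BT.leaf cE6961)))) (BT.node 6966 (BT.node 6964 (BT.node 6963 (BT.node 6962 (BT.leaf cE6962) (BT.leaf cE6963)) (BT.leaf cE6964)) (BT.node 6965 (BT.leaf cE6965) (BT.leaf cE6966))) (BT.node 6968 (BT.node 6967 (BT.leaf cE6967) (BT.leaf cE6968)) (BT.node 6969 (BT.leaf cE6969) (BT.leaf cE6970))))))) (BT.node 7009 (BT.node 6990 (BT.node 6980 (BT.node 6975 (BT.node 6973 (BT.node 6972 (BT.node 6971 (BT.leaf cE6971) (BT.leaf cE6972)) (BT.leaf cE6973)) (BT.node 6974 (BT.leaf cE6974) (BT.leaf cE6975))) (BT.node 6978 (BT.node 6977 (BT.node 6976 (BT.leaf cE6976) (BT.leaf cE6977)) (BT.leaf cE6978)) (BT.node 6979 (BT.leaf cE6979) (BT.leaf cE6980)))) (BT.node 6985 (BT.node 6983 (BT.node 6982 (BT.node 6981 (BT.leaf cE6981) (BT.leaf cE6982)) (BT.leaf cE6983)) (BT.node 6984 (BT.leaf cE6984) (BT.leaf cE6985))) (BT.node 6988 (BT.node 6987 (BT.node 6986 (BT.leaf cE6986) (BT.leaf cE6987)) (BT.leaf cE6988)) (BT.node 6989 (BT.leaf cE6989) (BT.leaf cE6990))))) (BT.node 7000 (BT.node 6995 (BT.node 6993 (BT.node 6992 (BT.node 6991 (BT.leaf cE6991) (BT.leaf cE6992)) (BT.leaf cE6993)) (BT.node 6994 (BT.leaf cE6994) (BT.leaf cE6995))) (BT.node 6998 (BT.node 6997 (BT.node 6996 (BT.leaf cE6996) (BT.leaf cE6997)) (BT.leaf cE6998)) (BT.node 6999 (BT.leaf cE6999) (BT.leaf cE7000)))) (BT.node 7005 (BT.node 7003 (BT.node 7002 (BT.node 7001 (BT.leaf cE7001) (BT.leaf cE7002)) (BT.leaf cE7003)) (BT.node 7004 (BT.leaf cE7004) (BT.leaf cE7005))) (BT.node 7007 (BT.node 7006 (BT.leaf cE7006) (BT.leaf cE7007)) (BT.node 7008 (BT.leaf cE7008) (BT.leaf cE7009)))))) (BT.node 7029 (BT.node 7019 (BT.node 7014 (BT.node 7012 (BT.node 7011 (BT.node 7010 (BT.leaf cE7010) (BT.leaf cE7011)) (BT.leaf cE7012)) (BT.node 7013 (BT.leaf cE7013) (BT.leaf cE7014))) (BT.node 7017 (BT.node 7016 (BT.node 7015 (BT.leaf cE7015) (BT.leaf cE7016)) (BT.leaf cE7017)) (BT.node 7018 (BT.leaf cE7018) (BT.leaf cE7019)))) (BT.node 7024 (BT.node 7022 (BT.node 7021 (BT.node 7020 (BT.leaf cE7020) (BT.leaf cE7021)) (BT.leaf cE7022)) (BT.node 7023 (BT.leaf cE7023) (BT.leaf cE7024))) (BT.node 7027 (BT.node 7026 (BT.node 7025 (BT.leaf cE7025) (BT.leaf cE7026)) (BT.leaf cE7027)) (BT.node 7028 (BT.leaf cE7028) (BT.leaf cE7029))))) (BT.node 7039 (BT.node 7034 (BT.node 7032 (BT.node 7031 (BT.node 7030 (BT.leaf cE7030) (BT.leaf cE7031)) (BT.leaf cE7032)) (BT.node 7033 (BT.leaf cE7033) (BT.leaf cE7034))) (BT.node 7037 (BT.node 7036 (BT.node 7035 (BT.leaf cE7035) (BT.leaf cE7036)) (BT.leaf cE7037)) (BT.node 7038 (BT.leaf cE7038) (BT.leaf cE7039)))) (BT.node 7044 (BT.node 7042 (BT.node 7041 (BT.node 7040 (BT.leaf cE7040) (BT.leaf cE7041)) (BT.leaf cE7042)) (BT.node 7043 (BT.leaf cE7043) (BT.leaf cE7044))) (BT.node 7046 (BT.node 7045 (BT.leaf cE7045) (BT.leaf cE7046)) (BT.node 7047 (BT.leaf cE7047) (BT.leaf cE7048)))))))) (BT.node 7126 (BT.node 7087 (BT.node 7068 (BT.node 7058 (BT.node 7053 (BT.node 7051 (BT.node 7050 (BT.node 7049 (BT.leaf cE7049) (BT.leaf cE7050)) (BT.leaf cE7051)) (BT.node 7052 (BT.leaf cE7052) (BT.leaf cE7053))) (BT.node 7056 (BT.node 7055 (BT.node 7054 (BT.leaf cE7054) (BT.leaf cE7055)) (BT.leaf cE7056)) (BT.node 7057 (BT.leaf cE7057) (BT.leaf cE7058)))) (BT.node 7063 (BT.node 7061 (BT.node 7060 (BT.node 7059 (BT.leaf cE7059) (BT.leaf cE7060)) (BT.leaf cE7061)) (BT.node 7062 (BT.leaf cE7062) (BT.leaf cE7063))) (BT.node 7066 (BT.node 7065 (BT.node 7064 (BT.leaf cE7064) (BT.leaf cE7065)) (BT.leaf cE7066)) (BT.node 7067 (BT.leaf cE7067) (BT.leaf cE7068))))) (BT.node 7078 (BT.node 7073 (BT.node 7071 (BT.node 7070 (BT.node 7069 (BT.leaf cE7069) (BT.leaf cE7070)) (BT.leaf cE7071)) (BT.node 7072 (BT.leaf cE7072) (BT.leaf cE7073))) (BT.node 7076 (BT.node 7075 (BT.node 7074 (BT.leaf cE7074) (BT.leaf cE7075)) (BT.leaf cE7076)) (BT.node 7077 (BT.leaf cE7077) (BT.leaf cE7078)))) (BT.node 7083 (BT.node 7081 (BT.node 7080 (BT.node 7079 (BT.leaf cE7079) (BT.leaf cE7080)) (BT.leaf cE7081)) (BT.node 7082 (BT.leaf cE7082) (BT.leaf cE7083))) (BT.node 7085 (BT.node 7084 (BT.leaf cE7084) (BT.leaf cE7085)) (BT.node 7086 (BT.leaf cE7086) (BT.leaf cE7087)))))) (BT.node 7107 (BT.node 7097 (BT.node 7092 (BT.node 7090 (BT.node 7089 (BT.node 7088 (BT.leaf cE7088) (BT.leaf cE7089)) (BT.leaf cE7090)) (BT.node 7091 (BT.leaf cE7091) (BT.leaf cE7092))) (BT.node 7095 (BT.node 7094 (BT.node 7093 (BT.leaf cE7093) (BT.leaf cE7094)) (BT.leaf cE7095)) (BT.node 7096 (BT.leaf cE7096) (BT.leaf cE7097)))) (BT.node 7102 (BT.node 7100 (BT.node 7099 (BT.node 7098 (BT.leaf cE7098) (BT.leaf cE7099)) (BT.leaf cE7100)) (BT.node 7101 (BT.leaf cE7101) (BT.leaf cE7102))) (BT.node 7105 (BT.node 7104 (BT.node 7103 (BT.leaf cE7103) (BT.leaf cE7104)) (BT.leaf cE7105)) (BT.node 7106 (BT.leaf cE7106) (BT.leaf cE7107))))) (BT.node 7117 (BT.node 7112 (BT.node 7110 (BT.node 7109 (BT.node 7108 (BT.leaf cE7108) (BT.leaf cE7109)) (BT.leaf cE7110)) (BT.node 7111 (BT.leaf cE7111) (BT.leaf cE7112))) (BT.node 7115 (BT.node 7114 (BT.node 7113 (BT.leaf cE7113) (BT.leaf cE7114)) (BT.leaf cE7115)) (BT.node 7116 (BT.leaf cE7116) (BT.leaf cE7117)))) (BT.node 7122 (BT.node 7120 (BT.node 7119 (BT.node 7118 (BT.leaf cE7118) (BT.leaf cE7119)) (BT.leaf cE7120)) (BT.node 7121 (BT.leaf cE7121) (BT.leaf cE7122))) (BT.node 7124 (BT.node 7123 (BT.leaf cE7123) (BT.leaf cE7124)) (BT.node 7125 (BT.leaf cE7125) (BT.leaf cE7126))))))) (BT.node 7165 (BT.node 7146 (BT.node 7136 (BT.node 7131 (BT.node 7129 (BT.node 7128 (BT.node 7127 (BT.leaf cE7127) (BT.leaf cE7128)) (BT.leaf cE7129)) (BT.node 7130 (BT.leaf cE7130) (BT.leaf cE7131))) (BT.node 7134 (BT.node 7133 (BT.node 7132 (BT.leaf cE7132) (BT.leaf cE7133)) (BT.leaf cE7134)) (BT.node 7135 (BT.leaf cE7135) (BT.leaf cE7136)))) (BT.node 7141 (BT.node 7139 (BT.node 7138 (BT.node 7137 (BT.leaf cE7137) (BT.leaf cE7138)) (BT.leaf cE7139)) (BT.node 7140 (BT.leaf cE7140) (BT.leaf cE7141))) (BT.node 7144 (BT.node 7143 (BT.node 7142 (BT.leaf cE7142) (BT.leaf cE7143)) (BT.leaf cE7144)) (BT.node 7145 (BT.leaf cE7145) (BT.leaf cE7146))))) (BT.node 7156 (BT.node 7151 (BT.node 7149 (BT.node 7148 (BT.node 7147 (BT.leaf cE7147) (BT.leaf cE7148)) (BT.leaf cE7149)) (BT.node 7150 (BT.leaf cE7150) (BT.leaf cE7151))) (BT.node 7154 (BT.node 7153 (BT.node 7152 (BT.leaf cE7152) (BT.leaf cE7153)) (BT.leaf cE7154)) (BT.node 7155 (BT.leaf cE7155) (BT.leaf cE7156)))) (BT.node 7161 (BT.node 7159 (BT.node 7158 (BT.node 7157 (BT.leaf cE7157) (BT.leaf cE7158)) (BT.leaf cE7159)) (BT.node 7160 (BT.leaf cE7160) (BT.leaf cE7161))) (BT.node 7163 (BT.node 7162 (BT.leaf cE7162) (BT.leaf cE7163)) (BT.node 7164 (BT.leaf cE7164) (BT.leaf cE7165)))))) (BT.node 7185 (BT.node 7175 (BT.node 7170 (BT.node 7168 (BT.node 7167 (BT.node 7166 (BT.leaf cE7166) (BT.leaf cE7167)) (BT.leaf cE7168)) (BT.node 7169 (BT.leaf cE7169) (BT.leaf cE7170))) (BT.node 7173 (BT.node 7172 (BT.node 7171 (BT.leaf cE7171) (BT.leaf cE7172)) (BT.leaf cE7173)) (BT.node 7174 (BT.leaf cE7174) (BT.leaf cE7175)))) (BT.node 7180 (BT.node 7178 (BT.node 7177 (BT.node 7176 (BT.leaf cE7176) (BT.leaf cE7177)) (BT.leaf cE7178)) (BT.node 7179 (BT.leaf cE7179) (BT.leaf cE7180))) (BT.node 7183 (BT.node 7182 (BT.node 7181 (BT.leaf cE7181) (BT.leaf cE7182)) (BT.leaf cE7183)) (BT.node 7184 (BT.leaf cE7184) (BT.leaf cE7185))))) (BT.node 7195 (BT.node 7190 (BT.node 7188 (BT.node 7187 (BT.node 7186 (BT.leaf cE7186) (BT.leaf cE7187)) (BT.leaf cE7188)) (BT.node 7189 (BT.leaf cE7189) (BT.leaf cE7190))) (BT.node 7193 (BT.node 7192 (BT.node 7191 (BT.leaf cE7191) (BT.leaf cE7192)) (BT.leaf cE7193)) (BT.node 7194 (BT.leaf cE7194) (BT.leaf cE7195)))) (BT.node 7200 (BT.node 7198 (BT.node 7197 (BT.node 7196 (BT.leaf cE7196) (BT.leaf cE7197)) (BT.leaf cE7198)) (BT.node 7199 (BT.leaf cE7199) (BT.leaf cE7200))) (BT.node 7202 (BT.node 7201 (BT.leaf cE7201) (BT.leaf cE7202)) (BT.node 7203 (BT.leaf cE7203) (BT.leaf cE7204))))))))) (BT.node 7361 (BT.node 7283 (BT.node 7244 (BT.node 7224 (BT.node 7214 (BT.node 7209 (BT.node 7207 (BT.node 7206 (BT.node 7205 (BT.leaf cE7205) (BT.leaf cE7206)) (BT.leaf cE7207)) (BT.node 7208 (BT.leaf cE7208) (BT.leaf cE7209))) (BT.node 7212 (BT.node 7211 (BT.node 7210 (BT.leaf cE7210) (BT.leaf cE7211)) (BT.leaf cE7212)) (BT.node 7213 (BT.leaf cE7213) (BT.leaf cE7214)))) (BT.node 7219 (BT.node 7217 (BT.node 7216 (BT.node 7215 (BT.leaf cE7215) (BT.leaf cE7216)) (BT.leaf cE7217)) (BT.node 7218 (BT.leaf cE7218) (BT.leaf cE7219))) (BT.node 7222 (BT.node 7221 (BT.node 7220 (BT.leaf cE7220) (BT.leaf cE7221)) (BT.leaf cE7222)) (BT.node 7223 (BT.leaf cE7223) (BT.leaf cE7224))))) (BT.node 7234 (BT.node 7229 (BT.node 7227 (BT.node 7226 (BT.node 7225 (BT.leaf cE7225) (BT.leaf cE7226)) (BT.leaf cE7227)) (BT.node 7228 (BT.leaf cE7228) (BT.leaf cE7229))) (BT.node 7232 (BT.node 7231 (BT.node 7230 (BT.leaf cE7230) (BT.leaf cE7231)) (BT.leaf cE7232)) (BT.node 7233 (BT.leaf cE7233) (BT.leaf cE7234)))) (BT.node 7239 (BT.node 7237 (BT.node 7236 (BT.node 7235 (BT.leaf cE7235) (BT.leaf cE7236)) (BT.leaf cE7237)) (BT.node 7238 (BT.leaf cE7238) (BT.leaf cE7239))) (BT.node 7242 (BT.node 7241 (BT.node 7240 (BT.leaf cE7240) (BT.leaf cE7241)) (BT.leaf cE7242)) (BT.node 7243 (BT.leaf cE7243) (BT.leaf cE7244)))))) (BT.node 7264 (BT.node 7254 (BT.node 7249 (BT.node 7247 (BT.node 7246 (BT.node 7245 (BT.leaf cE7245) (BT.leaf cE7246)) (BT.leaf cE7247)) (BT.node 7248 (BT.leaf cE7248) (BT.leaf cE7249))) (BT.node 7252 (BT.node 7251 (BT.node 7250 (BT.leaf cE7250) (BT.leaf cE7251)) (BT.leaf cE7252)) (BT.node 7253 (BT.leaf cE7253) (BT.leaf cE7254)))) (BT.node 7259 (BT.node 7257 (BT.node 7256 (BT.node 7255 (BT.leaf cE7255) (BT.leaf cE7256)) (BT.leaf cE7257)) (BT.node 7258 (BT.leaf cE7258) (BT.leaf cE7259))) (BT.node 7262 (BT.node 7261 (BT.node 7260 (BT.leaf cE7260) (BT.leaf cE7261)) (BT.leaf cE7262)) (BT.node 7263 (BT.leaf cE7263) (BT.leaf cE7264))))) (BT.node 7274 (BT.node 7269 (BT.node 7267 (BT.node 7266 (BT.node 7265 (BT.leaf cE7265) (BT.leaf cE7266)) (BT.leaf cE7267)) (BT.node 7268 (BT.leaf cE7268) (BT.leaf cE7269))) (BT.node 7272 (BT.node 7271 (BT.node 7270 (BT.leaf cE7270) (BT.leaf cE7271)) (BT.leaf cE7272)) (BT.node 7273 (BT.leaf cE7273) (BT.leaf cE7274)))) (BT.node 7279 (BT.node 7277 (BT.node 7276 (BT.node 7275 (BT.leaf cE7275) (BT.leaf cE7276)) (BT.leaf cE7277)) (BT.node 7278 (BT.leaf cE7278) (BT.leaf cE7279))) (BT.node 7281 (BT.node 7280 (BT.leaf cE7280) (BT.leaf cE7281)) (BT.node 7282 (BT.leaf cE7282) (BT.leaf cE7283))))))) (BT.node 7322 (BT.node 7303 (BT.node 7293 (BT.node 7288 (BT.node 7286 (BT.node 7285 (BT.node 7284 (BT.leaf cE7284) (BT.leaf cE7285)) (BT.leaf cE7286)) (BT.node 7287 (BT.leaf cE7287) (BT.leaf cE7288))) (BT.node 7291 (BT.node 7290 (BT.node 7289 (BT.leaf cE7289) (BT.leaf cE7290)) (BT.leaf cE7291)) (BT.node 7292 (BT.leaf cE7292) (BT.leaf cE7293)))) (BT.node 7298 (BT.node 7296 (BT.node 7295 (BT.node 7294 (BT.leaf cE7294) (BT.leaf cE7295)) (BT.leaf cE7296)) (BT.node 7297 (BT.leaf cE7297) (BT.leaf cE7298))) (BT.node 7301 (BT.node 7300 (BT.node 7299 (BT.leaf cE7299) (BT.leaf cE7300)) (BT.leaf cE7301)) (BT.node 7302 (BT.leaf cE7302) (BT.leaf cE7303))))) (BT.node 7313 (BT.node 7308 (BT.node 7306 (BT.node 7305 (BT.node 7304 (BT.leaf cE7304) (BT.leaf cE7305)) (BT.leaf cE7306)) (BT.node 7307 (BT.leaf cE7307) (BT.leaf cE7308))) (BT.node 7311 (BT.node 7310 (BT.node 7309 (BT.leaf cE7309) (BT.leaf cE7310)) (BT.leaf cE7311)) (BT.node 7312 (BT.leaf cE7312) (BT.leaf cE7313)))) (BT.node 7318 (BT.node 7316 (BT.node 7315 (BT.node 7314 (BT.leaf cE7314) (BT.leaf cE7315)) (BT.leaf cE7316)) (BT.node 7317 (BT.leaf cE7317) (BT.leaf cE7318))) (BT.node 7320 (BT.node 7319 (BT.leaf cE7319) (BT.leaf cE7320)) (BT.node 7321 (BT.leaf cE7321) (BT.leaf cE7322)))))) (BT.node 7342 (BT.node 7332 (BT.node 7327 (BT.node 7325 (BT.node 7324 (BT.node 7323 (BT.leaf cE7323) (BT.leaf cE7324)) (BT.leaf cE7325)) (BT.node 7326 (BT.leaf cE7326) (BT.leaf cE7327))) (BT.node 7330 (BT.node 7329 (BT.node 7328 (BT.leaf cE7328) (BT.leaf cE7329)) (BT.leaf cE7330)) (BT.node 7331 (BT.leaf cE7331) (BT.leaf cE7332)))) (BT.node 7337 (BT.node 7335 (BT.node 7334 (BT.node 7333 (BT.leaf cE7333) (BT.leaf cE7334)) (BT.leaf cE7335)) (BT.node 7336 (BT.leaf cE7336) (BT.leaf cE7337))) (BT.node 7340 (BT.node 7339 (BT.node 7338 (BT.leaf cE7338) (BT.leaf cE7339)) (BT.leaf cE7340)) (BT.node 7341 (BT.leaf cE7341) (BT.leaf cE7342))))) (BT.node 7352 (BT.node 7347 (BT.node 7345 (BT.node 7344 (BT.node 7343 (BT.leaf cE7343) (BT.leaf cE7344)) (BT.leaf cE7345)) (BT.node 7346 (BT.leaf cE7346) (BT.leaf cE7347))) (BT.node 7350 (BT.node 7349 (BT.node 7348 (BT.leaf cE7348) (BT.leaf cE7349)) (BT.leaf cE7350)) (BT.node 7351 (BT.leaf cE7351) (BT.leaf cE7352)))) (BT.node 7357 (BT.node 7355 (BT.node 7354 (BT.node 7353 (BT.leaf cE7353) (BT.leaf cE7354)) (BT.leaf cE7355)) (BT.node 7356 (BT.leaf cE7356) (BT.leaf cE7357))) (BT.node 7359 (BT.node 7358 (BT.leaf cE7358) (BT.leaf cE7359)) (BT.node 7360 (BT.leaf cE7360) (BT.leaf cE7361)))))))) (BT.node 7439 (BT.node 7400 (BT.node 7381 (BT.node 7371 (BT.node 7366 (BT.node 7364 (BT.node 7363 (BT.node 7362 (BT.leaf cE7362) (BT.leaf cE7363)) (BT.leaf cE7364)) (BT.node 7365 (BT.leaf cE7365) (BT.leaf cE7366))) (BT.node 7369 (BT.node 7368 (BT.node 7367 (BT.leaf cE7367) (BT.leaf cE7368)) (BT.leaf cE7369)) (BT.node 7370 (BT.leaf cE7370) (BT.leaf cE7371)))) (BT.node 7376 (BT.node 7374 (BT.node 7373 (BT.node 7372 (BT.leaf cE7372) (BT.leaf cE7373)) (BT.leaf cE7374)) (BT.node 7375 (BT.leaf cE7375) (BT.leaf cE7376))) (BT.node 7379 (BT.node 7378 (BT.node 7377 (BT.leaf cE7377) (BT.leaf cE7378)) (BT.leaf cE7379)) (BT.node 7380 (BT.leaf cE7380) (BT.leaf cE7381))))) (BT.node 7391 (BT.node 7386 (BT.node 7384 (BT.node 7383 (BT.node 7382 (BT.leaf cE7382) (BT.leaf cE7383)) (BT.leaf cE7384)) (BT.node 7385 (BT.leaf cE7385) (BT.leaf cE7386))) (BT.node 7389 (BT.node 7388 (BT.node 7387 (BT.leaf cE7387) (BT.leaf cE7388)) (BT.leaf cE7389)) (BT.node 7390 (BT.leaf cE7390) (BT.leaf cE7391)))) (BT.node 7396 (BT.node 7394 (BT.node 7393 (BT.node 7392 (BT.leaf cE7392) (BT.leaf cE7393)) (BT.leaf cE7394)) (BT.node 7395 (BT.leaf cE7395) (BT.leaf cE7396))) (BT.node 7398 (BT.node 7397 (BT.leaf cE7397) (BT.leaf cE7398)) (BT.node 7399 (BT.leaf cE7399) (BT.leaf cE7400)))))) (BT.node 7420 (BT.node 7410 (BT.node 7405 (BT.node 7403 (BT.node 7402 (BT.node 7401 (BT.leaf cE7401) (BT.leaf cE7402)) (BT.leaf cE7403)) (BT.node 7404 (BT.leaf cE7404) (BT.leaf cE7405))) (BT.node 7408 (BT.node 7407 (BT.node 7406 (BT.leaf cE7406) (BT.leaf cE7407)) (BT.leaf cE7408)) (BT.node 7409 (BT.leaf cE7409) (BT.leaf cE7410)))) (BT.node 7415 (BT.node 7413 (BT.node 7412 (BT.node 7411 (BT.leaf cE7411) (BT.leaf cE7412)) (BT.leaf cE7413)) (BT.node 7414 (BT.leaf cE7414) (BT.leaf cE7415))) (BT.node 7418 (BT.node 7417 (BT.node 7416 (BT.leaf cE7416) (BT.leaf cE7417)) (BT.leaf cE7418)) (BT.node 7419 (BT.leaf cE7419) (BT.leaf cE7420))))) (BT.node 7430 (BT.node 7425 (BT.node 7423 (BT.node 7422 (BT.node 7421 (BT.leaf cE7421) (BT.leaf cE7422)) (BT.leaf cE7423)) (BT.node 7424 (BT.leaf cE7424) (BT.leaf cE7425))) (BT.node 7428 (BT.node 7427 (BT.node 7426 (BT.leaf cE7426) (BT.leaf cE7427)) (BT.leaf cE7428)) (BT.node 7429 (BT.leaf cE7429) (BT.leaf cE7430)))) (BT.node 7435 (BT.node 7433 (BT.node 7432 (BT.node 7431 (BT.leaf cE7431) (BT.leaf cE7432)) (BT.leaf cE7433)) (BT.node 7434 (BT.leaf cE7434) (BT.leaf cE7435))) (BT.node 7437 (BT.node 7436 (BT.leaf cE7436) (BT.leaf cE7437)) (BT.node 7438 (BT.leaf cE7438) (BT.leaf cE7439))))))) (BT.node 7478 (BT.node 7459 (BT.node 7449 (BT.node 7444 (BT.node 7442 (BT.node 7441 (BT.node 7440 (BT.leaf cE7440) (BT.leaf cE7441)) (BT.leaf cE7442)) (BT.node 7443 (BT.leaf cE7443) (BT.leaf cE7444))) (BT.node 7447 (BT.node 7446 (BT.node 7445 (BT.leaf cE7445) (BT.leaf cE7446)) (BT.leaf cE7447)) (BT.node 7448 (BT.leaf cE7448) (BT.leaf cE7449)))) (BT.node 7454 (BT.node 7452 (BT.node 7451 (BT.node 7450 (BT.leaf cE7450) (BT.leaf cE7451)) (BT.leaf cE7452)) (BT.node 7453 (BT.leaf cE7453) (BT.leaf cE7454))) (BT.node 7457 (BT.node 7456 (BT.node 7455 (BT.leaf cE7455) (BT.leaf cE7456)) (BT.leaf cE7457)) (BT.node 7458 (BT.leaf cE7458) (BT.leaf cE7459))))) (BT.node 7469 (BT.node 7464 (BT.node 7462 (BT.node 7461 (BT.node 7460 (BT.leaf cE7460) (BT.leaf cE7461)) (BT.leaf cE7462)) (BT.node 7463 (BT.leaf cE7463) (BT.leaf cE7464))) (BT.node 7467 (BT.node 7466 (BT.node 7465 (BT.leaf cE7465) (BT.leaf cE7466)) (BT.leaf cE7467)) (BT.node 7468 (BT.leaf cE7468) (BT.leaf cE7469)))) (BT.node 7474 (BT.node 7472 (BT.node 7471 (BT.node 7470 (BT.leaf cE7470) (BT.leaf cE7471)) (BT.leaf cE7472)) (BT.node 7473 (BT.leaf cE7473) (BT.leaf cE7474))) (BT.node 7476 (BT.node 7475 (BT.leaf cE7475) (BT.leaf cE7476)) (BT.node 7477 (BT.leaf cE7477) (BT.leaf cE7478)))))) (BT.node 7498 (BT.node 7488 (BT.node 7483 (BT.node 7481 (BT.node 7480 (BT.node 7479 (BT.leaf cE7479) (BT.leaf cE7480)) (BT.leaf cE7481)) (BT.node 7482 (BT.leaf cE7482) (BT.leaf cE7483))) (BT.node 7486 (BT.node 7485 (BT.node 7484 (BT.leaf cE7484) (BT.leaf cE7485)) (BT.leaf cE7486)) (BT.node 7487 (BT.leaf cE7487) (BT.leaf cE7488)))) (BT.node 7493 (BT.node 7491 (BT.node 7490 (BT.node 7489 (BT.leaf cE7489) (BT.leaf cE7490)) (BT.leaf cE7491)) (BT.node 7492 (BT.leaf cE7492) (BT.leaf cE7493))) (BT.node 7496 (BT.node 7495 (BT.node 7494 (BT.leaf cE7494) (BT.leaf cE7495)) (BT.leaf cE7496)) (BT.node 7497 (BT.leaf cE7497) (BT.leaf cE7498))))) (BT.node 7508 (BT.node 7503 (BT.node 7501 (BT.node 7500 (BT.node 7499 (BT.leaf cE7499) (BT.leaf cE7500)) (BT.leaf cE7501)) (BT.node 7502 (BT.leaf cE7502) (BT.leaf cE7503))) (BT.node 7506 (BT.node 7505 (BT.node 7504 (BT.leaf cE7504) (BT.leaf cE7505)) (BT.leaf cE7506)) (BT.node 7507 (BT.leaf cE7507) (BT.leaf cE7508)))) (BT.node 7513 (BT.node 7511 (BT.node 7510 (BT.node 7509 (BT.leaf cE7509) (BT.leaf cE7510)) (BT.leaf cE7511)) (BT.node 7512 (BT.leaf cE7512) (BT.leaf cE7513))) (BT.node 7515 (BT.node 7514 (BT.leaf cE7514) (BT.leaf cE7515)) (BT.node 7516 (BT.leaf cE7516) (BT.leaf cE7517)))))))))))) (BT.node 8770 (BT.node 8144 (BT.node 7831 (BT.node 7674 (BT.node 7596 (BT.node 7557 (BT.node 7537 (BT.node 7527 (BT.node 7522 (BT.node 7520 (BT.node 7519 (BT.node 7518 (BT.leaf cE7518) (BT.leaf cE7519)) (BT.leaf cE7520)) (BT.node 7521 (BT.leaf cE7521) (BT.leaf cE7522))) (BT.node 7525 (BT.node 7524 (BT.node 7523 (BT.leaf cE7523) (BT.leaf cE7524)) (BT.leaf cE7525)) (BT.node 7526 (BT.leaf cE7526) (BT.leaf cE7527)))) (BT.node 7532 (BT.node 7530 (BT.node 7529 (BT.node 7528 (BT.leaf cE7528) (BT.leaf cE7529)) (BT.leaf cE7530)) (BT.node 7531 (BT.leaf cE7531) (BT.leaf cE7532))) (BT.node 7535 (BT.node 7534 (BT.node 7533 (BT.leaf cE7533) (BT.leaf cE7534)) (BT.leaf cE7535)) (BT.node 7536 (BT.leaf cE7536) (BT.leaf cE7537))))) (BT.node 7547 (BT.node 7542 (BT.node 7540 (BT.node 7539 (BT.node 7538 (BT.leaf cE7538) (BT.leaf cE7539)) (BT.leaf cE7540)) (BT.node 7541 (BT.leaf cE7541) (BT.leaf cE7542))) (BT.node 7545 (BT.node 7544 (BT.node 7543 (BT.leaf cE7543) (BT.leaf cE7544)) (BT.leaf cE7545)) (BT.node 7546 (BT.leaf cE7546) (BT.leaf cE7547)))) (BT.node 7552 (BT.node 7550 (BT.node 7549 (BT.node 7548 (BT.leaf cE7548) (BT.leaf cE7549)) (BT.leaf cE7550)) (BT.node 7551 (BT.leaf cE7551) (BT.leaf cE7552))) (BT.node 7555 (BT.node 7554 (BT.node 7553 (BT.leaf cE7553) (BT.leaf cE7554)) (BT.leaf cE7555)) (BT.node 7556 (BT.leaf cE7556) (BT.leaf cE7557)))))) (BT.node 7577 (BT.node 7567 (BT.node 7562 (BT.node 7560 (BT.node 7559 (BT.node 7558 (BT.leaf cE7558) (BT.leaf cE7559)) (BT.leaf cE7560)) (BT.node 7561 (BT.leaf cE7561) (BT.leaf cE7562))) (BT.node 7565 (BT.node 7564 (BT.node 7563 (BT.leaf cE7563) (BT.leaf cE7564)) (BT.leaf cE7565)) (BT.node 7566 (BT.leaf cE7566) (BT.leaf cE7567)))) (BT.node 7572 (BT.node 7570 (BT.node 7569 (BT.node 7568 (BT.leaf cE7568) (BT.leaf cE7569)) (BT.leaf cE7570)) (BT.node 7571 (BT.leaf cE7571) (BT.leaf cE7572))) (BT.node 7575 (BT.node 7574 (BT.node 7573 (BT.leaf cE7573) (BT.leaf cE7574)) (BT.leaf cE7575)) (BT.node 7576 (BT.leaf cE7576) (BT.leaf cE7577))))) (BT.node 7587 (BT.node 7582 (BT.node 7580 (BT.node 7579 (BT.node 7578 (BT.leaf cE7578) (BT.leaf cE7579)) (BT.leaf cE7580)) (BT.node 7581 (BT.leaf cE7581) (BT.leaf cE7582))) (BT.node 7585 (BT.node 7584 (BT.node 7583 (BT.leaf cE7583) (BT.leaf cE7584)) (BT.leaf cE7585)) (BT.node 7586 (BT.leaf cE7586) (BT.leaf cE7587)))) (BT.node 7592 (BT.node 7590 (BT.node 7589 (BT.node 7588 (BT.leaf cE7588) (BT.leaf cE7589)) (BT.leaf cE7590)) (BT.node 7591 (BT.leaf cE7591) (BT.leaf cE7592))) (BT.node 7594 (BT.node 7593 (BT.leaf cE7593) (BT.leaf cE7594)) (BT.node 7595 (BT.leaf cE7595) (BT.leaf cE7596))))))) (BT.node 7635 (BT.node 7616 (BT.node 7606 (BT.node 7601 (BT.node 7599 (BT.node 7598 (BT.node 7597 (BT.leaf cE7597) (BT.leaf cE7598)) (BT.leaf cE7599)) (BT.node 7600 (BT.leaf cE7600) (BT.leaf cE7601))) (BT.node 7604 (BT.node 7603 (BT.node 7602 (BT.leaf cE7602) (BT.leaf cE7603)) (BT.leaf cE7604)) (BT.node 7605 (BT.leaf cE7605) (BT.leaf cE7606)))) (BT.node 7611 (BT.node 7609 (BT.node 7608 (BT.node 7607 (BT.leaf cE7607) (BT.leaf cE7608)) (BT.leaf cE7609)) (BT.node 7610 (BT.leaf cE7610) (BT.leaf cE7611))) (BT.node 7614 (BT.node 7613 (BT.node 7612 (BT.leaf cE7612) (BT.leaf cE7613)) (BT.leaf cE7614)) (BT.node 7615 (BT.leaf cE7615) (BT.leaf cE7616))))) (BT.node 7626 (BT.node 7621 (BT.node 7619 (BT.node 7618 (BT.node 7617 (BT.leaf cE7617) (BT.leaf cE7618)) (BT.leaf cE7619)) (BT.node 7620 (BT.leaf cE7620) (BT.leaf cE7621))) (BT.node 7624 (BT.node 7623 (BT.node 7622 (BT.leaf cE7622) (BT.leaf cE7623)) (BT.leaf cE7624)) (BT.node 7625 (BT.leaf cE7625) (BT.leaf cE7626)))) (BT.node 7631 (BT.node 7629 (BT.node 7628 (BT.node 7627 (BT.leaf cE7627) (BT.leaf cE7628)) (BT.leaf cE7629)) (BT.node 7630 (BT.leaf cE7630) (BT.leaf cE7631))) (BT.node 7633 (BT.node 7632 (BT.leaf cE7632) (BT.leaf cE7633)) (BT.node 7634 (BT.leaf cE7634) (BT.leaf cE7635)))))) (BT.node 7655 (BT.node 7645 (BT.node 7640 (BT.node 7638 (BT.node 7637 (BT.node 7636 (BT.leaf cE7636) (BT.leaf cE7637)) (BT.leaf cE7638)) (BT.node 7639 (BT.leaf cE7639) (BT.leaf cE7640))) (BT.node 7643 (BT.node 7642 (BT.node 7641 (BT.leaf cE7641) (BT.leaf cE7642)) (BT.leaf cE7643)) (BT.node 7644 (BT.leaf cE7644) (BT.leaf cE7645)))) (BT.node 7650 (BT.node 7648 (BT.node 7647 (BT.node 7646 (BT.leaf cE7646) (BT.leaf cE7647)) (BT.leaf cE7648)) (BT.node 7649 (BT.leaf cE7649) (BT.leaf cE7650))) (BT.node 7653 (BT.node 7652 (BT.node 7651 (BT.leaf cE7651) (BT.leaf cE7652)) (BT.leaf cE7653)) (BT.node 7654 (BT.leaf cE7654) (BT.leaf cE7655))))) (BT.node 7665 (BT.node 7660 (BT.node 7658 (BT.node 7657 (BT.node 7656 (BT.leaf cE7656) (BT.leaf cE7657)) (BT.leaf cE7658)) (BT.node 7659 (BT.leaf cE7659) (BT.leaf cE7660))) (BT.node 7663 (BT.node 7662 (BT.node 7661 (BT.leaf cE7661) (BT.leaf cE7662)) (BT.leaf cE7663)) (BT.node 7664 (BT.leaf cE7664) (BT.leaf cE7665)))) (BT.node 7670 (BT.node 7668 (BT.node 7667 (BT.node 7666 (BT.leaf cE7666) (BT.leaf cE7667)) (BT.leaf cE7668)) (BT.node 7669 (BT.leaf cE7669) (BT.leaf cE7670))) (BT.node 7672 (BT.node 7671 (BT.leaf cE7671) (BT.leaf cE7672)) (BT.node 7673 (BT.leaf cE7673) (BT.leaf cE7674)))))))) (BT.node 7753 (BT.node 7714 (BT.node 7694 (BT.node 7684 (BT.node 7679 (BT.node 7677 (BT.node 7676 (BT.node 7675 (BT.leaf cE7675) (BT.leaf cE7676)) (BT.leaf cE7677)) (BT.node 7678 (BT.leaf cE7678) (BT.leaf cE7679))) (BT.node 7682 (BT.node 7681 (BT.node 7680 (BT.leaf cE7680) (BT.leaf cE7681)) (BT.leaf cE7682)) (BT.node 7683 (BT.leaf cE7683) (BT.leaf cE7684)))) (BT.node 7689 (BT.node 7687 (BT.node 7686 (BT.node 7685 (BT.leaf cE7685) (BT.leaf cE7686)) (BT.leaf cE7687)) (BT.node 7688 (BT.leaf cE7688) (BT.leaf cE7689))) (BT.node 7692 (BT.node 7691 (BT.node 7690 (BT.leaf cE7690) (BT.leaf cE7691)) (BT.leaf cE7692)) (BT.node 7693 (BT.leaf cE7693) (BT.leaf cE7694))))) (BT.node 7704 (BT.node 7699 (BT.node 7697 (BT.node 7696 (BT.node 7695 (BT.leaf cE7695) (BT.leaf cE7696)) (BT.leaf cE7697)) (BT.node 7698 (BT.leaf cE7698) (BT.leaf cE7699))) (BT.node 7702 (BT.node 7701 (BT.node 7700 (BT.leaf cE7700) (BT.leaf cE7701)) (BT.leaf cE7702)) (BT.node 7703 (BT.leaf cE7703) (BT.leaf cE7704)))) (BT.node 7709 (BT.node 7707 (BT.node 7706 (BT.node 7705 (BT.leaf cE7705) (BT.leaf cE7706)) (BT.leaf cE7707)) (BT.node 7708 (BT.leaf cE7708) (BT.leaf cE7709))) (BT.node 7712 (BT.node 7711 (BT.node 7710 (BT.leaf cE7710) (BT.leaf cE7711)) (BT.leaf cE7712)) (BT.node 7713 (BT.leaf cE7713) (BT.leaf cE7714)))))) (BT.node 7734 (BT.node 7724 (BT.node 7719 (BT.node 7717 (BT.node 7716 (BT.node 7715 (BT.leaf cE7715) (BT.leaf cE7716)) (BT.leaf cE7717)) (BT.node 7718 (BT.leaf cE7718) (BT.leaf cE7719))) (BT.node 7722 (BT.node 7721 (BT.node 7720 (BT.leaf cE7720) (BT.leaf cE7721)) (BT.leaf cE7722)) (BT.node 7723 (BT.leaf cE7723) (BT.leaf cE7724)))) (BT.node 7729 (BT.node 7727 (BT.node 7726 (BT.node 7725 (BT.leaf cE7725) (BT.leaf cE7726)) (BT.leaf cE7727)) (BT.node 7728 (BT.leaf cE7728) (BT.leaf cE7729))) (BT.node 7732 (BT.node 7731 (BT.node 7730 (BT.leaf cE7730) (BT.leaf cE7731)) (BT.leaf cE7732)) (BT.node 7733 (BT.leaf cE7733) (BT.leaf cE7734))))) (BT.node 7744 (BT.node 7739 (BT.node 7737 (BT.node 7736 (BT.node 7735 (BT.leaf cE7735) (BT.leaf cE7736)) (BT.leaf cE7737)) (BT.node 7738 (BT.leaf cE7738) (BT.leaf cE7739))) (BT.node 7742 (BT.node 7741 (BT.node 7740 (BT.leaf cE7740) (BT.leaf cE7741)) (BT.leaf cE7742)) (BT.node 7743 (BT.leaf cE7743) (BT.leaf cE7744)))) (BT.node 7749 (BT.node 7747 (BT.node 7746 (BT.node 7745 (BT.leaf cE7745) (BT.leaf cE7746)) (BT.leaf cE7747)) (BT.node 7748 (BT.leaf cE7748) (BT.leaf cE7749))) (BT.node 7751 (BT.node 7750 (BT.leaf cE7750) (BT.leaf cE7751)) (BT.node 7752 (BT.leaf cE7752) (BT.leaf cE7753))))))) (BT.node 7792 (BT.node 7773 (BT.node 7763 (BT.node 7758 (BT.node 7756 (BT.node 7755 (BT.node 7754 (BT.leaf cE7754) (BT.leaf cE7755)) (BT.leaf cE7756)) (BT.node 7757 (BT.leaf cE7757) (BT.leaf cE7758))) (BT.node 7761 (BT.node 7760 (BT.node 7759 (BT.leaf cE7759) (BT.leaf cE7760)) (BT.leaf cE7761)) (BT.node 7762 (BT.leaf cE7762) (BT.leaf cE7763)))) (BT.node 7768 (BT.node 7766 (BT.node 7765 (BT.node 7764 (BT.leaf cE7764) (BT.leaf cE7765)) (BT.leaf cE7766)) (BT.node 7767 (BT.leaf cE7767) (BT.leaf cE7768))) (BT.node 7771 (BT.node 7770 (BT.node 7769 (BT.leaf cE7769) (BT.leaf cE7770)) (BT.leaf cE7771)) (BT.node 7772 (BT.leaf cE7772) (BT.leaf cE7773))))) (BT.node 7783 (BT.node 7778 (BT.node 7776 (BT.node 7775 (BT.node 7774 (BT.leaf cE7774) (BT.leaf cE7775)) (BT.leaf cE7776)) (BT.node 7777 (BT.leaf cE7777) (BT.leaf cE7778))) (BT.node 7781 (BT.node 7780 (BT.node 7779 (BT.leaf cE7779) (BT.leaf cE7780)) (BT.leaf cE7781)) (BT.node 7782 (BT.leaf cE7782) (BT.leaf cE7783)))) (BT.node 7788 (BT.node 7786 (BT.node 7785 (BT.node 7784 (BT.leaf cE7784) (BT.leaf cE7785)) (BT.leaf cE7786)) (BT.node 7787 (BT.leaf cE7787) (BT.leaf cE7788))) (BT.node 7790 (BT.node 7789 (BT.leaf cE7789) (BT.leaf cE7790)) (BT.node 7791 (BT.leaf cE7791) (BT.leaf cE7792)))))) (BT.node 7812 (BT.node 7802 (BT.node 7797 (BT.node 7795 (BT.node 7794 (BT.node 7793 (BT.leaf cE7793) (BT.leaf cE7794)) (BT.leaf cE7795)) (BT.node 7796 (BT.leaf cE7796) (BT.leaf cE7797))) (BT.node 7800 (BT.node 7799 (BT.node 7798 (BT.leaf cE7798) (BT.leaf cE7799)) (BT.leaf cE7800)) (BT.node 7801 (BT.leaf cE7801) (BT.leaf cE7802)))) (BT.node 7807 (BT.node 7805 (BT.node 7804 (BT.node 7803 (BT.leaf cE7803) (BT.leaf cE7804)) (BT.leaf cE7805)) (BT.node 7806 (BT.leaf cE7806) (BT.leaf cE7807))) (BT.node 7810 (BT.node 7809 (BT.node 7808 (BT.leaf cE7808) (BT.leaf cE7809)) (BT.leaf cE7810)) (BT.node 7811 (BT.leaf cE7811) (BT.leaf cE7812))))) (BT.node 7822 (BT.node 7817 (BT.node 7815 (BT.node 7814 (BT.node 7813 (BT.leaf cE7813) (BT.leaf cE7814)) (BT.leaf cE7815)) (BT.node 7816 (BT.leaf cE7816) (BT.leaf cE7817))) (BT.node 7820 (BT.node 7819 (BT.node 7818 (BT.leaf cE7818) (BT.leaf cE7819)) (BT.leaf cE7820)) (BT.node 7821 (BT.leaf cE7821) (BT.leaf cE7822)))) (BT.node 7827 (BT.node 7825 (BT.node 7824 (BT.node 7823 (BT.leaf cE7823) (BT.leaf cE7824)) (BT.leaf cE7825)) (BT.node 7826 (BT.leaf cE7826) (BT.leaf cE7827))) (BT.node 7829 (BT.node 7828 (BT.leaf cE7828) (BT.leaf cE7829)) (BT.node 7830 (BT.leaf cE7830) (BT.leaf cE7831))))))))) (BT.node 7988 (BT.node 7910 (BT.node 7871 (BT.node 7851 (BT.node 7841 (BT.node 7836 (BT.node 7834 (BT.node 7833 (BT.node 7832 (BT.leaf cE7832) (BT.leaf cE7833)) (BT.leaf cE7834)) (BT.node 7835 (BT.leaf cE7835) (BT.leaf cE7836))) (BT.node 7839 (BT.node 7838 (BT.node 7837 (BT.leaf cE7837) (BT.leaf cE7838)) (BT.leaf cE7839)) (BT.node 7840 (BT.leaf cE7840) (BT.leaf cE7841)))) (BT.node 7846 (BT.node 7844 (BT.node 7843 (BT.node 7842 (BT.leaf cE7842) (BT.leaf cE7843)) (BT.leaf cE7844)) (BT.node 7845 (BT.leaf cE7845) (BT.leaf cE7846))) (BT.node 7849 (BT.node 7848 (BT.node 7847 (BT.leaf cE7847) (BT.leaf cE7848)) (BT.leaf cE7849)) (BT.node 7850 (BT.leaf cE7850) (BT.leaf cE7851))))) (BT.node 7861 (BT.node 7856 (BT.node 7854 (BT.node 7853 (BT.node 7852 (BT.leaf cE7852) (BT.leaf cE7853)) (BT.leaf cE7854)) (BT.node 7855 (BT.leaf cE7855) (BT.leaf cE7856))) (BT.node 7859 (BT.node 7858 (BT.node 7857 (BT.leaf cE7857) (BT.leaf cE7858)) (BT.leaf cE7859)) (BT.node 7860 (BT.leaf cE7860) (BT.leaf cE7861)))) (BT.node 7866 (BT.node 7864 (BT.node 7863 (BT.node 7862 (BT.leaf cE7862) (BT.leaf cE7863)) (BT.leaf cE7864)) (BT.node 7865 (BT.leaf cE7865) (BT.leaf cE7866))) (BT.node 7869 (BT.node 7868 (BT.node 7867 (BT.leaf cE7867) (BT.leaf cE7868)) (BT.leaf cE7869)) (BT.node 7870 (BT.leaf cE7870) (BT.leaf cE7871)))))) (BT.node 7891 (BT.node 7881 (BT.node 7876 (BT.node 7874 (BT.node 7873 (BT.node 7872 (BT.leaf cE7872) (BT.leaf cE7873)) (BT.leaf cE7874)) (BT.node 7875 (BT.leaf cE7875) (BT.leaf cE7876))) (BT.node 7879 (BT.node 7878 (BT.node 7877 (BT.leaf cE7877) (BT.leaf cE7878)) (BT.leaf cE7879)) (BT.node 7880 (BT.leaf cE7880) (BT.leaf cE7881)))) (BT.node 7886 (BT.node 7884 (BT.node 7883 (BT.node 7882 (BT.leaf cE7882) (BT.leaf cE7883)) (BT.leaf cE7884)) (BT.node 7885 (BT.leaf cE7885) (BT.leaf cE7886))) (BT.node 7889 (BT.node 7888 (BT.node 7887 (BT.leaf cE7887) (BT.leaf cE7888)) (BT.leaf cE7889)) (BT.node 7890 (BT.leaf cE7890) (BT.leaf cE7891))))) (BT.node 7901 (BT.node 7896 (BT.node 7894 (BT.node 7893 (BT.node 7892 (BT.leaf cE7892) (BT.leaf cE7893)) (BT.leaf cE7894)) (BT.node 7895 (BT.leaf cE7895) (BT.leaf cE7896))) (BT.node 7899 (BT.node 7898 (BT.node 7897 (BT.leaf cE7897) (BT.leaf cE7898)) (BT.leaf cE7899)) (BT.node 7900 (BT.leaf cE7900) (BT.leaf cE7901)))) (BT.node 7906 (BT.node 7904 (BT.node 7903 (BT.node 7902 (BT.leaf cE7902) (BT.leaf cE7903)) (BT.leaf cE7904)) (BT.node 7905 (BT.leaf cE7905) (BT.leaf cE7906))) (BT.node 7908 (BT.node 7907 (BT.leaf cE7907) (BT.leaf cE7908)) (BT.node 7909 (BT.leaf cE7909) (BT.leaf cE7910))))))) (BT.node 7949 (BT.node 7930 (BT.node 7920 (BT.node 7915 (BT.node 7913 (BT.node 7912 (BT.node 7911 (BT.leaf cE7911) (BT.leaf cE7912)) (BT.leaf cE7913)) (BT.node 7914 (BT.leaf cE7914) (BT.leaf cE7915))) (BT.node 7918 (BT.node 7917 (BT.node 7916 (BT.leaf cE7916) (BT.leaf cE7917)) (BT.leaf cE7918)) (BT.node 7919 (BT.leaf cE7919) (BT.leaf cE7920)))) (BT.node 7925 (BT.node 7923 (BT.node 7922 (BT.node 7921 (BT.leaf cE7921) (BT.leaf cE7922)) (BT.leaf cE7923)) (BT.node 7924 (BT.leaf cE7924) (BT.leaf cE7925))) (BT.node 7928 (BT.node 7927 (BT.node 7926 (BT.leaf cE7926) (BT.leaf cE7927)) (BT.leaf cE7928)) (BT.node 7929 (BT.leaf cE7929) (BT.leaf cE7930))))) (BT.node 7940 (BT.node 7935 (BT.node 7933 (BT.node 7932 (BT.node 7931 (BT.leaf cE7931) (BT.leaf cE7932)) (BT.leaf cE7933)) (BT.node 7934 (BT.leaf cE7934) (BT.leaf cE7935))) (BT.node 7938 (BT.node 7937 (BT.node 7936 (BT.leaf cE7936) (BT.leaf cE7937)) (BT.leaf cE7938)) (BT.node 7939 (BT.leaf cE7939) (BT.leaf cE7940)))) (BT.node 7945 (BT.node 7943 (BT.node 7942 (BT.node 7941 (BT.leaf cE7941) (BT.leaf cE7942)) (BT.leaf cE7943)) (BT.node 7944 (BT.leaf cE7944) (BT.leaf cE7945))) (BT.node 7947 (BT.node 7946 (BT.leaf cE7946) (BT.leaf cE7947)) (BT.node 7948 (BT.leaf cE7948) (BT.leaf cE7949)))))) (BT.node 7969 (BT.node 7959 (BT.node 7954 (BT.node 7952 (BT.node 7951 (BT.node 7950 (BT.leaf cE7950) (BT.leaf cE7951)) (BT.leaf cE7952)) (BT.node 7953 (BT.leaf cE7953) (BT.leaf cE7954))) (BT.node 7957 (BT.node 7956 (BT.node 7955 (BT.leaf cE7955) (BT.leaf cE7956)) (BT.leaf cE7957)) (BT.node 7958 (BT.leaf cE7958) (BT.leaf cE7959)))) (BT.node 7964 (BT.node 7962 (BT.node 7961 (BT.node 7960 (BT.leaf cE7960) (BT.leaf cE7961)) (BT.leaf cE7962)) (BT.node 7963 (BT.leaf cE7963) (BT.leaf cE7964))) (BT.node 7967 (BT.node 7966 (BT.node 7965 (BT.leaf cE7965) (BT.leaf cE7966)) (BT.leaf cE7967)) (BT.node 7968 (BT.leaf cE7968) (BT.leaf cE7969))))) (BT.node 7979 (BT.node 7974 (BT.node 7972 (BT.node 7971 (BT.node 7970 (BT.leaf cE7970) (BT.leaf cE7971)) (BT.leaf cE7972)) (BT.node 7973 (BT.leaf cE7973) (BT.leaf cE7974))) (BT.node 7977 (BT.node 7976 (BT.node 7975 (BT.leaf cE7975) (BT.leaf cE7976)) (BT.leaf cE7977)) (BT.node 7978 (BT.leaf cE7978) (BT.leaf cE7979)))) (BT.node 7984 (BT.node 7982 (BT.node 7981 (BT.node 7980 (BT.leaf cE7980) (BT.leaf cE7981)) (BT.leaf cE7982)) (BT.node 7983 (BT.leaf cE7983) (BT.leaf cE7984))) (BT.node 7986 (BT.node 7985 (BT.leaf cE7985) (BT.leaf cE7986)) (BT.node 7987 (BT.leaf cE7987) (BT.leaf cE7988)))))))) (BT.node 8066 (BT.node 8027 (BT.node 8008 (BT.node 7998 (BT.node 7993 (BT.node 7991 (BT.node 7990 (BT.node 7989 (BT.leaf cE7989) (BT.leaf cE7990)) (BT.leaf cE7991)) (BT.node 7992 (BT.leaf cE7992) (BT.leaf cE7993))) (BT.node 7996 (BT.node 7995 (BT.node 7994 (BT.leaf cE7994) (BT.leaf cE7995)) (BT.leaf cE7996)) (BT.node 7997 (BT.leaf cE7997) (BT.leaf cE7998)))) (BT.node 8003 (BT.node 8001 (BT.node 8000 (BT.node 7999 (BT.leaf cE7999) (BT.leaf cE8000)) (BT.leaf cE8001)) (BT.node 8002 (BT.leaf cE8002) (BT.leaf cE8003))) (BT.node 8006 (BT.node 8005 (BT.node 8004 (BT.leaf cE8004) (BT.leaf cE8005)) (BT.leaf cE8006)) (BT.node 8007 (BT.leaf cE8007) (BT.leaf cE8008))))) (BT.node 8018 (BT.node 8013 (BT.node 8011 (BT.node 8010 (BT.node 8009 (BT.leaf cE8009) (BT.leaf cE8010)) (BT.leaf cE8011)) (BT.node 8012 (BT.leaf cE8012) (BT.leaf cE8013))) (BT.node 8016 (BT.node 8015 (BT.node 8014 (BT.leaf cE8014) (BT.leaf cE8015)) (BT.leaf cE8016)) (BT.node 8017 (BT.leaf cE8017) (BT.leaf cE8018)))) (BT.node 8023 (BT.node 8021 (BT.node 8020 (BT.node 8019 (BT.leaf cE8019) (BT.leaf cE8020)) (BT.leaf cE8021)) (BT.node 8022 (BT.leaf cE8022) (BT.leaf cE8023))) (BT.node 8025 (BT.node 8024 (BT.leaf cE8024) (BT.leaf cE8025)) (BT.node 8026 (BT.leaf cE8026) (BT.leaf cE8027)))))) (BT.node 8047 (BT.node 8037 (BT.node 8032 (BT.node 8030 (BT.node 8029 (BT.node 8028 (BT.leaf cE8028) (BT.leaf cE8029)) (BT.leaf cE8030)) (BT.node 8031 (BT.leaf cE8031) (BT.leaf cE8032))) (BT.node 8035 (BT.node 8034 (BT.node 8033 (BT.leaf cE8033) (BT.leaf cE8034)) (BT.leaf cE8035)) (BT.node 8036 (BT.leaf cE8036) (BT.leaf cE8037)))) (BT.node 8042 (BT.node 8040 (BT.node 8039 (BT.node 8038 (BT.leaf cE8038) (BT.leaf cE8039)) (BT.leaf cE8040)) (BT.node 8041 (BT.leaf cE8041) (BT.leaf cE8042))) (BT.node 8045 (BT.node 8044 (BT.node 8043 (BT.leaf cE8043) (BT.leaf cE8044)) (BT.leaf cE8045)) (BT.node 8046 (BT.leaf cE8046) (BT.leaf cE8047))))) (BT.node 8057 (BT.node 8052 (BT.node 8050 (BT.node 8049 (BT.node 8048 (BT.leaf cE8048) (BT.leaf cE8049)) (BT.leaf cE8050)) (BT.node 8051 (BT.leaf cE8051) (BT.leaf cE8052))) (BT.node 8055 (BT.node 8054 (BT.node 8053 (BT.leaf cE8053) (BT.leaf cE8054)) (BT.leaf cE8055)) (BT.node 8056 (BT.leaf cE8056) (BT.leaf cE8057)))) (BT.node 8062 (BT.node 8060 (BT.node 8059 (BT.node 8058 (BT.leaf cE8058) (BT.leaf cE8059)) (BT.leaf cE8060)) (BT.node 8061 (BT.leaf cE8061) (BT.leaf cE8062))) (BT.node 8064 (BT.node 8063 (BT.leaf cE8063) (BT.leaf cE8064)) (BT.node 8065 (BT.leaf cE8065) (BT.leaf cE8066))))))) (BT.node 8105 (BT.node 8086 (BT.node 8076 (BT.node 8071 (BT.node 8069 (BT.node 8068 (BT.node 8067 (BT.leaf cE8067) (BT.leaf cE8068)) (BT.leaf cE8069)) (BT.node 8070 (BT.leaf cE8070) (BT.leaf cE8071))) (BT.node 8074 (BT.node 8073 (BT.node 8072 (BT.leaf cE8072) (BT.leaf cE8073)) (BT.leaf cE8074)) (BT.node 8075 (BT.leaf cE8075) (BT.leaf cE8076)))) (BT.node 8081 (BT.node 8079 (BT.node 8078 (BT.node 8077 (BT.leaf cE8077) (BT.leaf cE8078)) (BT.leaf cE8079)) (BT.node 8080 (BT.leaf cE8080) (BT.leaf cE8081))) (BT.node 8084 (BT.node 8083 (BT.node 8082 (BT.leaf cE8082) (BT.leaf cE8083)) (BT.leaf cE8084)) (BT.node 8085 (BT.leaf cE8085) (BT.leaf cE8086))))) (BT.node 8096 (BT.node 8091 (BT.node 8089 (BT.node 8088 (BT.node 8087 (BT.leaf cE8087) (BT.leaf cE8088)) (BT.leaf cE8089)) (BT.node 8090 (BT.leaf cE8090) (BT.leaf cE8091))) (BT.node 8094 (BT.node 8093 (BT.node 8092 (BT.leaf cE8092) (BT.leaf cE8093)) (BT.leaf cE8094)) (BT.node 8095 (BT.leaf cE8095) (BT.leaf cE8096)))) (BT.node 8101 (BT.node 8099 (BT.node 8098 (BT.node 8097 (BT.leaf cE8097) (BT.leaf cE8098)) (BT.leaf cE8099)) (BT.node 8100 (BT.leaf cE8100) (BT.leaf cE8101))) (BT.node 8103 (BT.node 8102 (BT.leaf cE8102) (BT.leaf cE8103)) (BT.node 8104 (BT.leaf cE8104) (BT.leaf cE8105)))))) (BT.node 8125 (BT.node 8115 (BT.node 8110 (BT.node 8108 (BT.node 8107 (BT.node 8106 (BT.leaf cE8106) (BT.leaf cE8107)) (BT.leaf cE8108)) (BT.node 8109 (BT.leaf cE8109) (BT.leaf cE8110))) (BT.node 8113 (BT.node 8112 (BT.node 8111 (BT.leaf cE8111) (BT.leaf cE8112)) (BT.leaf cE8113)) (BT.node 8114 (BT.leaf cE8114) (BT.leaf cE8115)))) (BT.node 8120 (BT.node 8118 (BT.node 8117 (BT.node 8116 (BT.leaf cE8116) (BT.leaf cE8117)) (BT.leaf cE8118)) (BT.node 8119 (BT.leaf cE8119) (BT.leaf cE8120))) (BT.node 8123 (BT.node 8122 (BT.node 8121 (BT.leaf cE8121) (BT.leaf cE8122)) (BT.leaf cE8123)) (BT.node 8124 (BT.leaf cE8124) (BT.leaf cE8125))))) (BT.node 8135 (BT.node 8130 (BT.node 8128 (BT.node 8127 (BT.node 8126 (BT.leaf cE8126) (BT.leaf cE8127)) (BT.leaf cE8128)) (BT.node 8129 (BT.leaf cE8129) (BT.leaf cE8130))) (BT.node 8133 (BT.node 8132 (BT.node 8131 (BT.leaf cE8131) (BT.leaf cE8132)) (BT.leaf cE8133)) (BT.node 8134 (BT.leaf cE8134) (BT.leaf cE8135)))) (BT.node 8140 (BT.node 8138 (BT.node 8137 (BT.node 8136 (BT.leaf cE8136) (BT.leaf cE8137)) (BT.leaf cE8138)) (BT.node 8139 (BT.leaf cE8139) (BT.leaf cE8140))) (BT.node 8142 (BT.node 8141 (BT.leaf cE8141) (BT.leaf cE8142)) (BT.node 8143 (BT.leaf cE8143) (BT.leaf cE8144)))))))))) (BT.node 8457 (BT.node 8301 (BT.node 8223 (BT.node 8184 (BT.node 8164 (BT.node 8154 (BT.node 8149 (BT.node 8147 (BT.node 8146 (BT.node 8145 (BT.leaf cE8145) (BT.leaf cE8146)) (BT.leaf cE8147)) (BT.node 8148 (BT.leaf cE8148) (BT.leaf cE8149))) (BT.node 8152 (BT.node 8151 (BT.node 8150 (BT.leaf cE8150) (BT.leaf cE8151)) (BT.leaf cE8152)) (BT.node 8153 (BT.leaf cE8153) (BT.leaf cE8154)))) (BT.node 8159 (BT.node 8157 (BT.node 8156 (BT.node 8155 (BT.leaf cE8155) (BT.leaf cE8156)) (BT.leaf cE8157)) (BT.node 8158 (BT.leaf cE8158) (BT.leaf cE8159))) (BT.node 8162 (BT.node 8161 (BT.node 8160 (BT.leaf cE8160) (BT.leaf cE8161)) (BT.leaf cE8162)) (BT.node 8163 (BT.leaf cE8163) (BT.leaf cE8164))))) (BT.node 8174 (BT.node 8169 (BT.node 8167 (BT.node 8166 (BT.node 8165 (BT.leaf cE8165) (BT.leaf cE8166)) (BT.leaf cE8167)) (BT.node 8168 (BT.leaf cE8168) (BT.leaf cE8169))) (BT.node 8172 (BT.node 8171 (BT.node 8170 (BT.leaf cE8170) (BT.leaf cE8171)) (BT.leaf cE8172)) (BT.node 8173 (BT.leaf cE8173) (BT.leaf cE8174)))) (BT.node 8179 (BT.node 8177 (BT.node 8176 (BT.node 8175 (BT.leaf cE8175) (BT.leaf cE8176)) (BT.leaf cE8177)) (BT.node 8178 (BT.leaf cE8178) (BT.leaf cE8179))) (BT.node 8182 (BT.node 8181 (BT.node 8180 (BT.leaf cE8180) (BT.leaf cE8181)) (BT.leaf cE8182)) (BT.node 8183 (BT.leaf cE8183) (BT.leaf cE8184)))))) (BT.node 8204 (BT.node 8194 (BT.node 8189 (BT.node 8187 (BT.node 8186 (BT.node 8185 (BT.leaf cE8185) (BT.leaf cE8186)) (BT.leaf cE8187)) (BT.node 8188 (BT.leaf cE8188) (BT.leaf cE8189))) (BT.node 8192 (BT.node 8191 (BT.node 8190 (BT.leaf cE8190) (BT.leaf cE8191)) (BT.leaf cE8192)) (BT.node 8193 (BT.leaf cE8193) (BT.leaf cE8194)))) (BT.node 8199 (BT.node 8197 (BT.node 8196 (BT.node 8195 (BT.leaf cE8195) (BT.leaf cE8196)) (BT.leaf cE8197)) (BT.node 8198 (BT.leaf cE8198) (BT.leaf cE8199))) (BT.node 8202 (BT.node 8201 (BT.node 8200 (BT.leaf cE8200) (BT.leaf cE8201)) (BT.leaf cE8202)) (BT.node 8203 (BT.leaf cE8203) (BT.leaf cE8204))))) (BT.node 8214 (BT.node 8209 (BT.node 8207 (BT.node 8206 (BT.node 8205 (BT.leaf cE8205) (BT.leaf cE8206)) (BT.leaf cE8207)) (BT.node 8208 (BT.leaf cE8208) (BT.leaf cE8209))) (BT.node 8212 (BT.node 8211 (BT.node 8210 (BT.leaf cE8210) (BT.leaf cE8211)) (BT.leaf cE8212)) (BT.node 8213 (BT.leaf cE8213) (BT.leaf cE8214)))) (BT.node 8219 (BT.node 8217 (BT.node 8216 (BT.node 8215 (BT.leaf cE8215) (BT.leaf cE8216)) (BT.leaf cE8217)) (BT.node 8218 (BT.leaf cE8218) (BT.leaf cE8219))) (BT.node 8221 (BT.node 8220 (BT.leaf cE8220) (BT.leaf cE8221)) (BT.node 8222 (BT.leaf cE8222) (BT.leaf cE8223))))))) (BT.node 8262 (BT.node 8243 (BT.node 8233 (BT.node 8228 (BT.node 8226 (BT.node 8225 (BT.node 8224 (BT.leaf cE8224) (BT.leaf cE8225)) (BT.leaf cE8226)) (BT.node 8227 (BT.leaf cE8227) (BT.leaf cE8228))) (BT.node 8231 (BT.node 8230 (BT.node 8229 (BT.leaf cE8229) (BT.leaf cE8230)) (BT.leaf cE8231)) (BT.node 8232 (BT.leaf cE8232) (BT.leaf cE8233)))) (BT.node 8238 (BT.node 8236 (BT.node 8235 (BT.node 8234 (BT.leaf cE8234) (BT.leaf cE8235)) (BT.leaf cE8236)) (BT.node 8237 (BT.leaf cE8237) (BT.leaf cE8238))) (BT.node 8241 (BT.node 8240 (BT.node 8239 (BT.leaf cE8239) (BT.leaf cE8240)) (BT.leaf cE8241)) (BT.node 8242 (BT.leaf cE8242) (BT.leaf cE8243))))) (BT.node 8253 (BT.node 8248 (BT.node 8246 (BT.node 8245 (BT.node 8244 (BT.leaf cE8244) (BT.leaf cE8245)) (BT.leaf cE8246)) (BT.node 8247 (BT.leaf cE8247) (BT.leaf cE8248))) (BT.node 8251 (BT.node 8250 (BT.node 8249 (BT.leaf cE8249) (BT.leaf cE8250)) (BT.leaf cE8251)) (BT.node 8252 (BT.leaf cE8252) (BT.leaf cE8253)))) (BT.node 8258 (BT.node 8256 (BT.node 8255 (BT.node 8254 (BT.leaf cE8254) (BT.leaf cE8255)) (BT.leaf cE8256)) (BT.node 8257 (BT.leaf cE8257) (BT.leaf cE8258))) (BT.node 8260 (BT.node 8259 (BT.leaf cE8259) (BT.leaf cE8260)) (BT.node 8261 (BT.leaf cE8261) (BT.leaf cE8262)))))) (BT.node 8282 (BT.node 8272 (BT.node 8267 (BT.node 8265 (BT.node 8264 (BT.node 8263 (BT.leaf cE8263) (BT.leaf cE8264)) (BT.leaf cE8265)) (BT.node 8266 (BT.leaf cE8266) (BT.leaf cE8267))) (BT.node 8270 (BT.node 8269 (BT.node 8268 (BT.leaf cE8268) (BT.leaf cE8269)) (BT.leaf cE8270)) (BT.node 8271 (BT.leaf cE8271) (BT.leaf cE8272)))) (BT.node 8277 (BT.node 8275 (BT.node 8274 (BT.node 8273 (BT.leaf cE8273) (BT.leaf cE8274)) (BT.leaf cE8275)) (BT.node 8276 (BT.leaf cE8276) (BT.leaf cE8277))) (BT.node 8280 (BT.node 8279 (BT.node 8278 (BT.leaf cE8278) (BT.leaf cE8279)) (BT.leaf cE8280)) (BT.node 8281 (BT.leaf cE8281) (BT.leaf cE8282))))) (BT.node 8292 (BT.node 8287 (BT.node 8285 (BT.node 8284 (BT.node 8283 (BT.leaf cE8283) (BT.leaf cE8284)) (BT.leaf cE8285)) (BT.node 8286 (BT.leaf cE8286) (BT.leaf cE8287))) (BT.node 8290 (BT.node 8289 (BT.node 8288 (BT.leaf cE8288) (BT.leaf cE8289)) (BT.leaf cE8290)) (BT.node 8291 (BT.leaf cE8291) (BT.leaf cE8292)))) (BT.node 8297 (BT.node 8295 (BT.node 8294 (BT.node 8293 (BT.leaf cE8293) (BT.leaf cE8294)) (BT.leaf cE8295)) (BT.node 8296 (BT.leaf cE8296) (BT.leaf cE8297))) (BT.node 8299 (BT.node 8298 (BT.leaf cE8298) (BT.leaf cE8299)) (BT.node 8300 (BT.leaf cE8300) (BT.leaf cE8301)))))))) (BT.node 8379 (BT.node 8340 (BT.node 8321 (BT.node 8311 (BT.node 8306 (BT.node 8304 (BT.node 8303 (BT.node 8302 (BT.leaf cE8302) (BT.leaf cE8303)) (BT.leaf cE8304)) (BT.node 8305 (BT.leaf cE8305) (BT.leaf cE8306))) (BT.node 8309 (BT.node 8308 (BT.node 8307 (BT.leaf cE8307) (BT.leaf cE8308)) (BT.leaf cE8309)) (BT.node 8310 (BT.leaf cE8310) (BT.leaf cE8311)))) (BT.node 8316 (BT.node 8314 (BT.node 8313 (BT.node 8312 (BT.leaf cE8312) (BT.leaf cE8313)) (BT.leaf cE8314)) (BT.node 8315 (BT.leaf cE8315) (BT.leaf cE8316))) (BT.node 8319 (BT.node 8318 (BT.node 8317 (BT.leaf cE8317) (BT.leaf cE8318)) (BT.leaf cE8319)) (BT.node 8320 (BT.leaf cE8320) (BT.leaf cE8321))))) (BT.node 8331 (BT.node 8326 (BT.node 8324 (BT.node 8323 (BT.node 8322 (BT.leaf cE8322) (BT.leaf cE8323)) (BT.leaf cE8324)) (BT.node 8325 (BT.leaf cE8325) (BT.leaf cE8326))) (BT.node 8329 (BT.node 8328 (BT.node 8327 (BT.leaf cE8327) (BT.leaf cE8328)) (BT.leaf cE8329)) (BT.node 8330 (BT.leaf cE8330) (BT.leaf cE8331)))) (BT.node 8336 (BT.node 8334 (BT.node 8333 (BT.node 8332 (BT.leaf cE8332) (BT.leaf cE8333)) (BT.leaf cE8334)) (BT.node 8335 (BT.leaf cE8335) (BT.leaf cE8336))) (BT.node 8338 (BT.node 8337 (BT.leaf cE8337) (BT.leaf cE8338)) (BT.node 8339 (BT.leaf cE8339) (BT.leaf cE8340)))))) (BT.node 8360 (BT.node 8350 (BT.node 8345 (BT.node 8343 (BT.node 8342 (BT.node 8341 (BT.leaf cE8341) (BT.leaf cE8342)) (BT.leaf cE8343)) (BT.node 8344 (BT.leaf cE8344) (BT.leaf cE8345))) (BT.node 8348 (BT.node 8347 (BT.node 8346 (BT.leaf cE8346) (BT.leaf cE8347)) (BT.leaf cE8348)) (BT.node 8349 (BT.leaf cE8349) (BT.leaf cE8350)))) (BT.node 8355 (BT.node 8353 (BT.node 8352 (BT.node 8351 (BT.leaf cE8351) (BT.leaf cE8352)) (BT.leaf cE8353)) (BT.node 8354 (BT.leaf cE8354) (BT.leaf cE8355))) (BT.node 8358 (BT.node 8357 (BT.node 8356 (BT.leaf cE8356) (BT.leaf cE8357)) (BT.leaf cE8358)) (BT.node 8359 (BT.leaf cE8359) (BT.leaf cE8360))))) (BT.node 8370 (BT.node 8365 (BT.node 8363 (BT.node 8362 (BT.node 8361 (BT.leaf cE8361) (BT.leaf cE8362)) (BT.leaf cE8363)) (BT.node 8364 (BT.leaf cE8364) (BT.leaf cE8365))) (BT.node 8368 (BT.node 8367 (BT.node 8366 (BT.leaf cE8366) (BT.leaf cE8367)) (BT.leaf cE8368)) (BT.node 8369 (BT.leaf cE8369) (BT.leaf cE8370)))) (BT.node 8375 (BT.node 8373 (BT.node 8372 (BT.node 8371 (BT.leaf cE8371) (BT.leaf cE8372)) (BT.leaf cE8373)) (BT.node 8374 (BT.leaf cE8374) (BT.leaf cE8375))) (BT.node 8377 (BT.node 8376 (BT.leaf cE8376) (BT.leaf cE8377)) (BT.node 8378 (BT.leaf cE8378) (BT.leaf cE8379))))))) (BT.node 8418 (BT.node 8399 (BT.node 8389 (BT.node 8384 (BT.node 8382 (BT.node 8381 (BT.node 8380 (BT.leaf cE8380) (BT.leaf cE8381)) (BT.leaf cE8382)) (BT.node 8383 (BT.leaf cE8383) (BT.leaf cE8384))) (BT.node 8387 (BT.node 8386 (BT.node 8385 (BT.leaf cE8385) (BT.leaf cE8386)) (BT.leaf cE8387)) (BT.node 8388 (BT.leaf cE8388) (BT.leaf cE8389)))) (BT.node 8394 (BT.node 8392 (BT.node 8391 (BT.node 8390 (BT.leaf cE8390) (BT.leaf cE8391)) (BT.leaf cE8392)) (BT.node 8393 (BT.leaf cE8393) (BT.leaf cE8394))) (BT.node 8397 (BT.node 8396 (BT.node 8395 (BT.leaf cE8395) (BT.leaf cE8396)) (BT.leaf cE8397)) (BT.node 8398 (BT.leaf cE8398) (BT.leaf cE8399))))) (BT.node 8409 (BT.node 8404 (BT.node 8402 (BT.node 8401 (BT.node 8400 (BT.leaf cE8400) (BT.leaf cE8401)) (BT.leaf cE8402)) (BT.node 8403 (BT.leaf cE8403) (BT.leaf cE8404))) (BT.node 8407 (BT.node 8406 (BT.node 8405 (BT.leaf cE8405) (BT.leaf cE8406)) (BT.leaf cE8407)) (BT.node 8408 (BT.leaf cE8408) (BT.leaf cE8409)))) (BT.node 8414 (BT.node 8412 (BT.node 8411 (BT.node 8410 (BT.leaf cE8410) (BT.leaf cE8411)) (BT.leaf cE8412)) (BT.node 8413 (BT.leaf cE8413) (BT.leaf cE8414))) (BT.node 8416 (BT.node 8415 (BT.leaf cE8415) (BT.leaf cE8416)) (BT.node 8417 (BT.leaf cE8417) (BT.leaf cE8418)))))) (BT.node 8438 (BT.node 8428 (BT.node 8423 (BT.node 8421 (BT.node 8420 (BT.node 8419 (BT.leaf cE8419) (BT.leaf cE8420)) (BT.leaf cE8421)) (BT.node 8422 (BT.leaf cE8422) (BT.leaf cE8423))) (BT.node 8426 (BT.node 8425 (BT.node 8424 (BT.leaf cE8424) (BT.leaf cE8425)) (BT.leaf cE8426)) (BT.node 8427 (BT.leaf cE8427) (BT.leaf cE8428)))) (BT.node 8433 (BT.node 8431 (BT.node 8430 (BT.node 8429 (BT.leaf cE8429) (BT.leaf cE8430)) (BT.leaf cE8431)) (BT.node 8432 (BT.leaf cE8432) (BT.leaf cE8433))) (BT.node 8436 (BT.node 8435 (BT.node 8434 (BT.leaf cE8434) (BT.leaf cE8435)) (BT.leaf cE8436)) (BT.node 8437 (BT.leaf cE8437) (BT.leaf cE8438))))) (BT.node 8448 (BT.node 8443 (BT.node 8441 (BT.node 8440 (BT.node 8439 (BT.leaf cE8439) (BT.leaf cE8440)) (BT.leaf cE8441)) (BT.node 8442 (BT.leaf cE8442) (BT.leaf cE8443))) (BT.node 8446 (BT.node 8445 (BT.node 8444 (BT.leaf cE8444) (BT.leaf cE8445)) (BT.leaf cE8446)) (BT.node 8447 (BT.leaf cE8447) (BT.leaf cE8448)))) (BT.node 8453 (BT.node 8451 (BT.node 8450 (BT.node 8449 (BT.leaf cE8449) (BT.leaf cE8450)) (BT.leaf cE8451)) (BT.node 8452 (BT.leaf cE8452) (BT.leaf cE8453))) (BT.node 8455 (BT.node 8454 (BT.leaf cE8454) (BT.leaf cE8455)) (BT.node 8456 (BT.leaf cE8456) (BT.leaf cE8457))))))))) (BT.node 8614 (BT.node 8536 (BT.node 8497 (BT.node 8477 (BT.node 8467 (BT.node 8462 (BT.node 8460 (BT.node 8459 (BT.node 8458 (BT.leaf cE8458) (BT.leaf cE8459)) (BT.leaf cE8460)) (BT.node 8461 (BT.leaf cE8461) (BT.leaf cE8462))) (BT.node 8465 (BT.node 8464 (BT.node 8463 (BT.leaf cE8463) (BT.leaf cE8464)) (BT.leaf cE8465)) (BT.node 8466 (BT.leaf cE8466) (BT.leaf cE8467)))) (BT.node 8472 (BT.node 8470 (BT.node 8469 (BT.node 8468 (BT.leaf cE8468) (BT.leaf cE8469)) (BT.leaf cE8470)) (BT.node 8471 (BT.leaf cE8471) (BT.leaf cE8472))) (BT.node 8475 (BT.node 8474 (BT.node 8473 (BT.leaf cE8473) (BT.leaf cE8474)) (BT.leaf cE8475)) (BT.node 8476 (BT.leaf cE8476) (BT.leaf cE8477))))) (BT.node 8487 (BT.node 8482 (BT.node 8480 (BT.node 8479 (BT.node 8478 (BT.leaf cE8478) (BT.leaf cE8479)) (BT.leaf cE8480)) (BT.node 8481 (BT.leaf cE8481) (BT.leaf cE8482))) (BT.node 8485 (BT.node 8484 (BT.node 8483 (BT.leaf cE8483) (BT.leaf cE8484)) (BT.leaf cE8485)) (BT.node 8486 (BT.leaf cE8486) (BT.leaf cE8487)))) (BT.node 8492 (BT.node 8490 (BT.node 8489 (BT.node 8488 (BT.leaf cE8488) (BT.leaf cE8489)) (BT.leaf cE8490)) (BT.node 8491 (BT.leaf cE8491) (BT.leaf cE8492))) (BT.node 8495 (BT.node 8494 (BT.node 8493 (BT.leaf cE8493) (BT.leaf cE8494)) (BT.leaf cE8495)) (BT.node 8496 (BT.leaf cE8496) (BT.leaf cE8497)))))) (BT.node 8517 (BT.node 8507 (BT.node 8502 (BT.node 8500 (BT.node 8499 (BT.node 8498 (BT.leaf cE8498) (BT.leaf cE8499)) (BT.leaf cE8500)) (BT.node 8501 (BT.leaf cE8501) (BT.leaf cE8502))) (BT.node 8505 (BT.node 8504 (BT.node 8503 (BT.leaf cE8503) (BT.leaf cE8504)) (BT.leaf cE8505)) (BT.node 8506 (BT.leaf cE8506) (BT.leaf cE8507)))) (BT.node 8512 (BT.node 8510 (BT.node 8509 (BT.node 8508 (BT.leaf cE8508) (BT.leaf cE8509)) (BT.leaf cE8510)) (BT.node 8511 (BT.leaf cE8511) (BT.leaf cE8512))) (BT.node 8515 (BT.node 8514 (BT.node 8513 (BT.leaf cE8513) (BT.leaf cE8514)) (BT.leaf cE8515)) (BT.node 8516 (BT.leaf cE8516) (BT.leaf cE8517))))) (BT.node 8527 (BT.node 8522 (BT.node 8520 (BT.node 8519 (BT.node 8518 (BT.leaf cE8518) (BT.leaf cE8519)) (BT.leaf cE8520)) (BT.node 8521 (BT.leaf cE8521) (BT.leaf cE8522))) (BT.node 8525 (BT.node 8524 (BT.node 8523 (BT.leaf cE8523) (BT.leaf cE8524)) (BT.leaf cE8525)) (BT.node 8526 (BT.leaf cE8526) (BT.leaf cE8527)))) (BT.node 8532 (BT.node 8530 (BT.node 8529 (BT.node 8528 (BT.leaf cE8528) (BT.leaf cE8529)) (BT.leaf cE8530)) (BT.node 8531 (BT.leaf cE8531) (BT.leaf cE8532))) (BT.node 8534 (BT.node 8533 (BT.leaf cE8533) (BT.leaf cE8534)) (BT.node 8535 (BT.leaf cE8535) (BT.leaf cE8536))))))) (BT.node 8575 (BT.node 8556 (BT.node 8546 (BT.node 8541 (BT.node 8539 (BT.node 8538 (BT.node 8537 (BT.leaf cE8537) (BT.leaf cE8538)) (BT.leaf cE8539)) (BT.node 8540 (BT.leaf cE8540) (BT.leaf cE8541))) (BT.node 8544 (BT.node 8543 (BT.node 8542 (BT.leaf cE8542) (BT.leaf cE8543)) (BT.leaf cE8544)) (BT.node 8545 (BT.leaf cE8545) (BT.leaf cE8546)))) (BT.node 8551 (BT.node 8549 (BT.node 8548 (BT.node 8547 (BT.leaf cE8547) (BT.leaf cE8548)) (BT.leaf cE8549)) (BT.node 8550 (BT.leaf cE8550) (BT.leaf cE8551))) (BT.node 8554 (BT.node 8553 (BT.node 8552 (BT.leaf cE8552) (BT.leaf cE8553)) (BT.leaf cE8554)) (BT.node 8555 (BT.leaf cE8555) (BT.leaf cE8556))))) (BT.node 8566 (BT.node 8561 (BT.node 8559 (BT.node 8558 (BT.node 8557 (BT.leaf cE8557) (BT.leaf cE8558)) (BT.leaf cE8559)) (BT.node 8560 (BT.leaf cE8560) (BT.leaf cE8561))) (BT.node 8564 (BT.node 8563 (BT.node 8562 (BT.leaf cE8562) (BT.leaf cE8563)) (BT.leaf cE8564)) (BT.node 8565 (BT.leaf cE8565) (BT.leaf cE8566)))) (BT.node 8571 (BT.node 8569 (BT.node 8568 (BT.node 8567 (BT.leaf cE8567) (BT.leaf cE8568)) (BT.leaf cE8569)) (BT.node 8570 (BT.leaf cE8570) (BT.leaf cE8571))) (BT.node 8573 (BT.node 8572 (BT.leaf cE8572) (BT.leaf cE8573)) (BT.node 8574 (BT.leaf cE8574) (BT.leaf cE8575)))))) (BT.node 8595 (BT.node 8585 (BT.node 8580 (BT.node 8578 (BT.node 8577 (BT.node 8576 (BT.leaf cE8576) (BT.leaf cE8577)) (BT.leaf cE8578)) (BT.node 8579 (BT.leaf cE8579) (BT.leaf cE8580))) (BT.node 8583 (BT.node 8582 (BT.node 8581 (BT.leaf cE8581) (BT.leaf cE8582)) (BT.leaf cE8583)) (BT.node 8584 (BT.leaf cE8584) (BT.leaf cE8585)))) (BT.node 8590 (BT.node 8588 (BT.node 8587 (BT.node 8586 (BT.leaf cE8586) (BT.leaf cE8587)) (BT.leaf cE8588)) (BT.node 8589 (BT.leaf cE8589) (BT.leaf cE8590))) (BT.node 8593 (BT.node 8592 (BT.node 8591 (BT.leaf cE8591) (BT.leaf cE8592)) (BT.leaf cE8593)) (BT.node 8594 (BT.leaf cE8594) (BT.leaf cE8595))))) (BT.node 8605 (BT.node 8600 (BT.node 8598 (BT.node 8597 (BT.node 8596 (BT.leaf cE8596) (BT.leaf cE8597)) (BT.leaf cE8598)) (BT.node 8599 (BT.leaf cE8599) (BT.leaf cE8600))) (BT.node 8603 (BT.node 8602 (BT.node 8601 (BT.leaf cE8601) (BT.leaf cE8602)) (BT.leaf cE8603)) (BT.node 8604 (BT.leaf cE8604) (BT.leaf cE8605)))) (BT.node 8610 (BT.node 8608 (BT.node 8607 (BT.node 8606 (BT.leaf cE8606) (BT.leaf cE8607)) (BT.leaf cE8608)) (BT.node 8609 (BT.leaf cE8609) (BT.leaf cE8610))) (BT.node 8612 (BT.node 8611 (BT.leaf cE8611) (BT.leaf cE8612)) (BT.node 8613 (BT.leaf cE8613) (BT.leaf cE8614)))))))) (BT.node 8692 (BT.node 8653 (BT.node 8634 (BT.node 8624 (BT.node 8619 (BT.node 8617 (BT.node 8616 (BT.node 8615 (BT.leaf cE8615) (BT.leaf cE8616)) (BT.leaf cE8617)) (BT.node 8618 (BT.leaf cE8618) (BT.leaf cE8619))) (BT.node 8622 (BT.node 8621 (BT.node 8620 (BT.leaf cE8620) (BT.leaf cE8621)) (BT.leaf cE8622)) (BT.node 8623 (BT.leaf cE8623) (BT.leaf cE8624)))) (BT.node 8629 (BT.node 8627 (BT.node 8626 (BT.node 8625 (BT.leaf cE8625) (BT.leaf cE8626)) (BT.leaf cE8627)) (BT.node 8628 (BT.leaf cE8628) (BT.leaf cE8629))) (BT.node 8632 (BT.node 8631 (BT.node 8630 (BT.leaf cE8630) (BT.leaf cE8631)) (BT.leaf cE8632)) (BT.node 8633 (BT.leaf cE8633) (BT.leaf cE8634))))) (BT.node 8644 (BT.node 8639 (BT.node 8637 (BT.node 8636 (BT.node 8635 (BT.leaf cE8635) (BT.leaf cE8636)) (BT.leaf cE8637)) (BT.node 8638 (BT.leaf cE8638) (BT.leaf cE8639))) (BT.node 8642 (BT.node 8641 (BT.node 8640 (BT.leaf cE8640) (BT.leaf cE8641)) (BT.leaf cE8642)) (BT.node 8643 (BT.leaf cE8643) (BT.leaf cE8644)))) (BT.node 8649 (BT.node 8647 (BT.node 8646 (BT.node 8645 (BT.leaf cE8645) (BT.leaf cE8646)) (BT.leaf cE8647)) (BT.node 8648 (BT.leaf cE8648) (BT.leaf cE8649))) (BT.node 8651 (BT.node 8650 (BT.leaf cE8650) (BT.leaf cE8651)) (BT.node 8652 (BT.leaf cE8652) (BT.leaf cE8653)))))) (BT.node 8673 (BT.node 8663 (BT.node 8658 (BT.node 8656 (BT.node 8655 (BT.node 8654 (BT.leaf cE8654) (BT.leaf cE8655)) (BT.leaf cE8656)) (BT.node 8657 (BT.leaf cE8657) (BT.leaf cE8658))) (BT.node 8661 (BT.node 8660 (BT.node 8659 (BT.leaf cE8659) (BT.leaf cE8660)) (BT.leaf cE8661)) (BT.node 8662 (BT.leaf cE8662) (BT.leaf cE8663)))) (BT.node 8668 (BT.node 8666 (BT.node 8665 (BT.node 8664 (BT.leaf cE8664) (BT.leaf cE8665)) (BT.leaf cE8666)) (BT.node 8667 (BT.leaf cE8667) (BT.leaf cE8668))) (BT.node 8671 (BT.node 8670 (BT.node 8669 (BT.leaf cE8669) (BT.leaf cE8670)) (BT.leaf cE8671)) (BT.node 8672 (BT.leaf cE8672) (BT.leaf cE8673))))) (BT.node 8683 (BT.node 8678 (BT.node 8676 (BT.node 8675 (BT.node 8674 (BT.leaf cE8674) (BT.leaf cE8675)) (BT.leaf cE8676)) (BT.node 8677 (BT.leaf cE8677) (BT.leaf cE8678))) (BT.node 8681 (BT.node 8680 (BT.node 8679 (BT.leaf cE8679) (BT.leaf cE8680)) (BT.leaf cE8681)) (BT.node 8682 (BT.leaf cE8682) (BT.leaf cE8683)))) (BT.node 8688 (BT.node 8686 (BT.node 8685 (BT.node 8684 (BT.leaf cE8684) (BT.leaf cE8685)) (BT.leaf cE8686)) (BT.node 8687 (BT.leaf cE8687) (BT.leaf cE8688))) (BT.node 8690 (BT.node 8689 (BT.leaf cE8689) (BT.leaf cE8690)) (BT.node 8691 (BT.leaf cE8691) (BT.leaf cE8692))))))) (BT.node 8731 (BT.node 8712 (BT.node 8702 (BT.node 8697 (BT.node 8695 (BT.node 8694 (BT.node 8693 (BT.leaf cE8693) (BT.leaf cE8694)) (BT.leaf cE8695)) (BT.node 8696 (BT.leaf cE8696) (BT.leaf cE8697))) (BT.node 8700 (BT.node 8699 (BT.node 8698 (BT.leaf cE8698) (BT.leaf cE8699)) (BT.leaf cE8700)) (BT.node 8701 (BT.leaf cE8701) (BT.leaf cE8702)))) (BT.node 8707 (BT.node 8705 (BT.node 8704 (BT.node 8703 (BT.leaf cE8703) (BT.leaf cE8704)) (BT.leaf cE8705)) (BT.node 8706 (BT.leaf cE8706) (BT.leaf cE8707))) (BT.node 8710 (BT.node 8709 (BT.node 8708 (BT.leaf cE8708) (BT.leaf cE8709)) (BT.leaf cE8710)) (BT.node 8711 (BT.leaf cE8711) (BT.leaf cE8712))))) (BT.node 8722 (BT.node 8717 (BT.node 8715 (BT.node 8714 (BT.node 8713 (BT.leaf cE8713) (BT.leaf cE8714)) (BT.leaf cE8715)) (BT.node 8716 (BT.leaf cE8716) (BT.leaf cE8717))) (BT.node 8720 (BT.node 8719 (BT.node 8718 (BT.leaf cE8718) (BT.leaf cE8719)) (BT.leaf cE8720)) (BT.node 8721 (BT.leaf cE8721) (BT.leaf cE8722)))) (BT.node 8727 (BT.node 8725 (BT.node 8724 (BT.node 8723 (BT.leaf cE8723) (BT.leaf cE8724)) (BT.leaf cE8725)) (BT.node 8726 (BT.leaf cE8726) (BT.leaf cE8727))) (BT.node 8729 (BT.node 8728 (BT.leaf cE8728) (BT.leaf cE8729)) (BT.node 8730 (BT.leaf cE8730) (BT.leaf cE8731)))))) (BT.node 8751 (BT.node 8741 (BT.node 8736 (BT.node 8734 (BT.node 8733 (BT.node 8732 (BT.leaf cE8732) (BT.leaf cE8733)) (BT.leaf cE8734)) (BT.node 8735 (BT.leaf cE8735) (BT.leaf cE8736))) (BT.node 8739 (BT.node 8738 (BT.node 8737 (BT.leaf cE8737) (BT.leaf cE8738)) (BT.leaf cE8739)) (BT.node 8740 (BT.leaf cE8740) (BT.leaf cE8741)))) (BT.node 8746 (BT.node 8744 (BT.node 8743 (BT.node 8742 (BT.leaf cE8742) (BT.leaf cE8743)) (BT.leaf cE8744)) (BT.node 8745 (BT.leaf cE8745) (BT.leaf cE8746))) (BT.node 8749 (BT.node 8748 (BT.node 8747 (BT.leaf cE8747) (BT.leaf cE8748)) (BT.leaf cE8749)) (BT.node 8750 (BT.leaf cE8750) (BT.leaf cE8751))))) (BT.node 8761 (BT.node 8756 (BT.node 8754 (BT.node 8753 (BT.node 8752 (BT.leaf cE8752) (BT.leaf cE8753)) (BT.leaf cE8754)) (BT.node 8755 (BT.leaf cE8755) (BT.leaf cE8756))) (BT.node 8759 (BT.node 8758 (BT.node 8757 (BT.leaf cE8757) (BT.leaf cE8758)) (BT.leaf cE8759)) (BT.node 8760 (BT.leaf cE8760) (BT.leaf cE8761)))) (BT.node 8766 (BT.node 8764 (BT.node 8763 (BT.node 8762 (BT.leaf cE8762) (BT.leaf cE8763)) (BT.leaf cE8764)) (BT.node 8765 (BT.leaf cE8765) (BT.leaf cE8766))) (BT.node 8768 (BT.node 8767 (BT.leaf cE8767) (BT.leaf cE8768)) (BT.node 8769 (BT.leaf cE8769) (BT.leaf cE8770))))))))))) (BT.node 9396 (BT.node 9083 (BT.node 8927 (BT.node 8849 (BT.node 8810 (BT.node 8790 (BT.node 8780 (BT.node 8775 (BT.node 8773 (BT.node 8772 (BT.node 8771 (BT.leaf cE8771) (BT.leaf cE8772)) (BT.leaf cE8773)) (BT.node 8774 (BT.leaf cE8774) (BT.leaf cE8775))) (BT.node 8778 (BT.node 8777 (BT.node 8776 (BT.leaf cE8776) (BT.leaf cE8777)) (BT.leaf cE8778)) (BT.node 8779 (BT.leaf cE8779) (BT.leaf cE8780)))) (BT.node 8785 (BT.node 8783 (BT.node 8782 (BT.node 8781 (BT.leaf cE8781) (BT.leaf cE8782)) (BT.leaf cE8783)) (BT.node 8784 (BT.leaf cE8784) (BT.leaf cE8785))) (BT.node 8788 (BT.node 8787 (BT.node 8786 (BT.leaf cE8786) (BT.leaf cE8787)) (BT.leaf cE8788)) (BT.node 8789 (BT.leaf cE8789) (BT.leaf cE8790))))) (BT.node 8800 (BT.node 8795 (BT.node 8793 (BT.node 8792 (BT.node 8791 (BT.leaf cE8791) (BT.leaf cE8792)) (BT.leaf cE8793)) (BT.node 8794 (BT.leaf cE8794) (BT.leaf cE8795))) (BT.node 8798 (BT.node 8797 (BT.node 8796 (BT.leaf cE8796) (BT.leaf cE8797)) (BT.leaf cE8798)) (BT.node 8799 (BT.leaf cE8799) (BT.leaf cE8800)))) (BT.node 8805 (BT.node 8803 (BT.node 8802 (BT.node 8801 (BT.leaf cE8801) (BT.leaf cE8802)) (BT.leaf cE8803)) (BT.node 8804 (BT.leaf cE8804) (BT.leaf cE8805))) (BT.node 8808 (BT.node 8807 (BT.node 8806 (BT.leaf cE8806) (BT.leaf cE8807)) (BT.leaf cE8808)) (BT.node 8809 (BT.leaf cE8809) (BT.leaf cE8810)))))) (BT.node 8830 (BT.node 8820 (BT.node 8815 (BT.node 8813 (BT.node 8812 (BT.node 8811 (BT.leaf cE8811) (BT.leaf cE8812)) (BT.leaf cE8813)) (BT.node 8814 (BT.leaf cE8814) (BT.leaf cE8815))) (BT.node 8818 (BT.node 8817 (BT.node 8816 (BT.leaf cE8816) (BT.leaf cE8817)) (BT.leaf cE8818)) (BT.node 8819 (BT.leaf cE8819) (BT.leaf cE8820)))) (BT.node 8825 (BT.node 8823 (BT.node 8822 (BT.node 8821 (BT.leaf cE8821) (BT.leaf cE8822)) (BT.leaf cE8823)) (BT.node 8824 (BT.leaf cE8824) (BT.leaf cE8825))) (BT.node 8828 (BT.node 8827 (BT.node 8826 (BT.leaf cE8826) (BT.leaf cE8827)) (BT.leaf cE8828)) (BT.node 8829 (BT.leaf cE8829) (BT.leaf cE8830))))) (BT.node 8840 (BT.node 8835 (BT.node 8833 (BT.node 8832 (BT.node 8831 (BT.leaf cE8831) (BT.leaf cE8832)) (BT.leaf cE8833)) (BT.node 8834 (BT.leaf cE8834) (BT.leaf cE8835))) (BT.node 8838 (BT.node 8837 (BT.node 8836 (BT.leaf cE8836) (BT.leaf cE8837)) (BT.leaf cE8838)) (BT.node 8839 (BT.leaf cE8839) (BT.leaf cE8840)))) (BT.node 8845 (BT.node 8843 (BT.node 8842 (BT.node 8841 (BT.leaf cE8841) (BT.leaf cE8842)) (BT.leaf cE8843)) (BT.node 8844 (BT.leaf cE8844) (BT.leaf cE8845))) (BT.node 8847 (BT.node 8846 (BT.leaf cE8846) (BT.leaf cE8847)) (BT.node 8848 (BT.leaf cE8848) (BT.leaf cE8849))))))) (BT.node 8888 (BT.node 8869 (BT.node 8859 (BT.node 8854 (BT.node 8852 (BT.node 8851 (BT.node 8850 (BT.leaf cE8850) (BT.leaf cE8851)) (BT.leaf cE8852)) (BT.node 8853 (BT.leaf cE8853) (BT.leaf cE8854))) (BT.node 8857 (BT.node 8856 (BT.node 8855 (BT.leaf cE8855) (BT.leaf cE8856)) (BT.leaf cE8857)) (BT.node 8858 (BT.leaf cE8858) (BT.leaf cE8859)))) (BT.node 8864 (BT.node 8862 (BT.node 8861 (BT.node 8860 (BT.leaf cE8860) (BT.leaf cE8861)) (BT.leaf cE8862)) (BT.node 8863 (BT.leaf cE8863) (BT.leaf cE8864))) (BT.node 8867 (BT.node 8866 (BT.node 8865 (BT.leaf cE8865) (BT.leaf cE8866)) (BT.leaf cE8867)) (BT.node 8868 (BT.leaf cE8868) (BT.leaf cE8869))))) (BT.node 8879 (BT.node 8874 (BT.node 8872 (BT.node 8871 (BT.node 8870 (BT.leaf cE8870) (BT.leaf cE8871)) (BT.leaf cE8872)) (BT.node 8873 (BT.leaf cE8873) (BT.leaf cE8874))) (BT.node 8877 (BT.node 8876 (BT.node 8875 (BT.leaf cE8875) (BT.leaf cE8876)) (BT.leaf cE8877)) (BT.node 8878 (BT.leaf cE8878) (BT.leaf cE8879)))) (BT.node 8884 (BT.node 8882 (BT.node 8881 (BT.node 8880 (BT.leaf cE8880) (BT.leaf cE8881)) (BT.leaf cE8882)) (BT.node 8883 (BT.leaf cE8883) (BT.leaf cE8884))) (BT.node 8886 (BT.node 8885 (BT.leaf cE8885) (BT.leaf cE8886)) (BT.node 8887 (BT.leaf cE8887) (BT.leaf cE8888)))))) (BT.node 8908 (BT.node 8898 (BT.node 8893 (BT.node 8891 (BT.node 8890 (BT.node 8889 (BT.leaf cE8889) (BT.leaf cE8890)) (BT.leaf cE8891)) (BT.node 8892 (BT.leaf cE8892) (BT.leaf cE8893))) (BT.node 8896 (BT.node 8895 (BT.node 8894 (BT.leaf cE8894) (BT.leaf cE8895)) (BT.leaf cE8896)) (BT.node 8897 (BT.leaf cE8897) (BT.leaf cE8898)))) (BT.node 8903 (BT.node 8901 (BT.node 8900 (BT.node 8899 (BT.leaf cE8899) (BT.leaf cE8900)) (BT.leaf cE8901)) (BT.node 8902 (BT.leaf cE8902) (BT.leaf cE8903))) (BT.node 8906 (BT.node 8905 (BT.node 8904 (BT.leaf cE8904) (BT.leaf cE8905)) (BT.leaf cE8906)) (BT.node 8907 (BT.leaf cE8907) (BT.leaf cE8908))))) (BT.node 8918 (BT.node 8913 (BT.node 8911 (BT.node 8910 (BT.node 8909 (BT.leaf cE8909) (BT.leaf cE8910)) (BT.leaf cE8911)) (BT.node 8912 (BT.leaf cE8912) (BT.leaf cE8913))) (BT.node 8916 (BT.node 8915 (BT.node 8914 (BT.leaf cE8914) (BT.leaf cE8915)) (BT.leaf cE8916)) (BT.node 8917 (BT.leaf cE8917) (BT.leaf cE8918)))) (BT.node 8923 (BT.node 8921 (BT.node 8920 (BT.node 8919 (BT.leaf cE8919) (BT.leaf cE8920)) (BT.leaf cE8921)) (BT.node 8922 (BT.leaf cE8922) (BT.leaf cE8923))) (BT.node 8925 (BT.node 8924 (BT.leaf cE8924) (BT.leaf cE8925)) (BT.node 8926 (BT.leaf cE8926) (BT.leaf cE8927)))))))) (BT.node 9005 (BT.node 8966 (BT.node 8947 (BT.node 8937 (BT.node 8932 (BT.node 8930 (BT.node 8929 (BT.node 8928 (BT.leaf cE8928) (BT.leaf cE8929)) (BT.leaf cE8930)) (BT.node 8931 (BT.leaf cE8931) (BT.leaf cE8932))) (BT.node 8935 (BT.node 8934 (BT.node 8933 (BT.leaf cE8933) (BT.leaf cE8934)) (BT.leaf cE8935)) (BT.node 8936 (BT.leaf cE8936) (BT.leaf cE8937)))) (BT.node 8942 (BT.node 8940 (BT.node 8939 (BT.node 8938 (BT.leaf cE8938) (BT.leaf cE8939)) (BT.leaf cE8940)) (BT.node 8941 (BT.leaf cE8941) (BT.leaf cE8942))) (BT.node 8945 (BT.node 8944 (BT.node 8943 (BT.leaf cE8943) (BT.leaf cE8944)) (BT.leaf cE8945)) (BT.node 8946 (BT.leaf cE8946) (BT.leaf cE8947))))) (BT.node 8957 (BT.node 8952 (BT.node 8950 (BT.node 8949 (BT.node 8948 (BT.leaf cE8948) (BT.leaf cE8949)) (BT.leaf cE8950)) (BT.node 8951 (BT.leaf cE8951) (BT.leaf cE8952))) (BT.node 8955 (BT.node 8954 (BT.node 8953 (BT.leaf cE8953) (BT.leaf cE8954)) (BT.leaf cE8955)) (BT.node 8956 (BT.leaf cE8956) (BT.leaf cE8957)))) (BT.node 8962 (BT.node 8960 (BT.node 8959 (BT.node 8958 (BT.leaf cE8958) (BT.leaf cE8959)) (BT.leaf cE8960)) (BT.node 8961 (BT.leaf cE8961) (BT.leaf cE8962))) (BT.node 8964 (BT.node 8963 (BT.leaf cE8963) (BT.leaf cE8964)) (BT.node 8965 (BT.leaf cE8965) (BT.leaf cE8966)))))) (BT.node 8986 (BT.node 8976 (BT.node 8971 (BT.node 8969 (BT.node 8968 (BT.node 8967 (BT.leaf cE8967) (BT.leaf cE8968)) (BT.leaf cE8969)) (BT.node 8970 (BT.leaf cE8970) (BT.leaf cE8971))) (BT.node 8974 (BT.node 8973 (BT.node 8972 (BT.leaf cE8972) (BT.leaf cE8973)) (BT.leaf cE8974)) (BT.node 8975 (BT.leaf cE8975) (BT.leaf cE8976)))) (BT.node 8981 (BT.node 8979 (BT.node 8978 (BT.node 8977 (BT.leaf cE8977) (BT.leaf cE8978)) (BT.leaf cE8979)) (BT.node 8980 (BT.leaf cE8980) (BT.leaf cE8981))) (BT.node 8984 (BT.node 8983 (BT.node 8982 (BT.leaf cE8982) (BT.leaf cE8983)) (BT.leaf cE8984)) (BT.node 8985 (BT.leaf cE8985) (BT.leaf cE8986))))) (BT.node 8996 (BT.node 8991 (BT.node 8989 (BT.node 8988 (BT.node 8987 (BT.leaf cE8987) (BT.leaf cE8988)) (BT.leaf cE8989)) (BT.node 8990 (BT.leaf cE8990) (BT.leaf cE8991))) (BT.node 8994 (BT.node 8993 (BT.node 8992 (BT.leaf cE8992) (BT.leaf cE8993)) (BT.leaf cE8994)) (BT.node 8995 (BT.leaf cE8995) (BT.leaf cE8996)))) (BT.node 9001 (BT.node 8999 (BT.node 8998 (BT.node 8997 (BT.leaf cE8997) (BT.leaf cE8998)) (BT.leaf cE8999)) (BT.node 9000 (BT.leaf cE9000) (BT.leaf cE9001))) (BT.node 9003 (BT.node 9002 (BT.leaf cE9002) (BT.leaf cE9003)) (BT.node 9004 (BT.leaf cE9004) (BT.leaf cE9005))))))) (BT.node 9044 (BT.node 9025 (BT.node 9015 (BT.node 9010 (BT.node 9008 (BT.node 9007 (BT.node 9006 (BT.leaf cE9006) (BT.leaf cE9007)) (BT.leaf cE9008)) (BT.node 9009 (BT.leaf cE9009) (BT.leaf cE9010))) (BT.node 9013 (BT.node 9012 (BT.node 9011 (BT.leaf cE9011) (BT.leaf cE9012)) (BT.leaf cE9013)) (BT.node 9014 (BT.leaf cE9014) (BT.leaf cE9015)))) (BT.node 9020 (BT.node 9018 (BT.node 9017 (BT.node 9016 (BT.leaf cE9016) (BT.leaf cE9017)) (BT.leaf cE9018)) (BT.node 9019 (BT.leaf cE9019) (BT.leaf cE9020))) (BT.node 9023 (BT.node 9022 (BT.node 9021 (BT.leaf cE9021) (BT.leaf cE9022)) (BT.leaf cE9023)) (BT.node 9024 (BT.leaf cE9024) (BT.leaf cE9025))))) (BT.node 9035 (BT.node 9030 (BT.node 9028 (BT.node 9027 (BT.node 9026 (BT.leaf cE9026) (BT.leaf cE9027)) (BT.leaf cE9028)) (BT.node 9029 (BT.leaf cE9029) (BT.leaf cE9030))) (BT.node 9033 (BT.node 9032 (BT.node 9031 (BT.leaf cE9031) (BT.leaf cE9032)) (BT.leaf cE9033)) (BT.node 9034 (BT.leaf cE9034) (BT.leaf cE9035)))) (BT.node 9040 (BT.node 9038 (BT.node 9037 (BT.node 9036 (BT.leaf cE9036) (BT.leaf cE9037)) (BT.leaf cE9038)) (BT.node 9039 (BT.leaf cE9039) (BT.leaf cE9040))) (BT.node 9042 (BT.node 9041 (BT.leaf cE9041) (BT.leaf cE9042)) (BT.node 9043 (BT.leaf cE9043) (BT.leaf cE9044)))))) (BT.node 9064 (BT.node 9054 (BT.node 9049 (BT.node 9047 (BT.node 9046 (BT.node 9045 (BT.leaf cE9045) (BT.leaf cE9046)) (BT.leaf cE9047)) (BT.node 9048 (BT.leaf cE9048) (BT.leaf cE9049))) (BT.node 9052 (BT.node 9051 (BT.node 9050 (BT.leaf cE9050) (BT.leaf cE9051)) (BT.leaf cE9052)) (BT.node 9053 (BT.leaf cE9053) (BT.leaf cE9054)))) (BT.node 9059 (BT.node 9057 (BT.node 9056 (BT.node 9055 (BT.leaf cE9055) (BT.leaf cE9056)) (BT.leaf cE9057)) (BT.node 9058 (BT.leaf cE9058) (BT.leaf cE9059))) (BT.node 9062 (BT.node 9061 (BT.node 9060 (BT.leaf cE9060) (BT.leaf cE9061)) (BT.leaf cE9062)) (BT.node 9063 (BT.leaf cE9063) (BT.leaf cE9064))))) (BT.node 9074 (BT.node 9069 (BT.node 9067 (BT.node 9066 (BT.node 9065 (BT.leaf cE9065) (BT.leaf cE9066)) (BT.leaf cE9067)) (BT.node 9068 (BT.leaf cE9068) (BT.leaf cE9069))) (BT.node 9072 (BT.node 9071 (BT.node 9070 (BT.leaf cE9070) (BT.leaf cE9071)) (BT.leaf cE9072)) (BT.node 9073 (BT.leaf cE9073) (BT.leaf cE9074)))) (BT.node 9079 (BT.node 9077 (BT.node 9076 (BT.node 9075 (BT.leaf cE9075) (BT.leaf cE9076)) (BT.leaf cE9077)) (BT.node 9078 (BT.leaf cE9078) (BT.leaf cE9079))) (BT.node 9081 (BT.node 9080 (BT.leaf cE9080) (BT.leaf cE9081)) (BT.node 9082 (BT.leaf cE9082) (BT.leaf cE9083))))))))) (BT.node 9240 (BT.node 9162 (BT.node 9123 (BT.node 9103 (BT.node 9093 (BT.node 9088 (BT.node 9086 (BT.node 9085 (BT.node 9084 (BT.leaf cE9084) (BT.leaf cE9085)) (BT.leaf cE9086)) (BT.node 9087 (BT.leaf cE9087) (BT.leaf cE9088))) (BT.node 9091 (BT.node 9090 (BT.node 9089 (BT.leaf cE9089) (BT.leaf cE9090)) (BT.leaf cE9091)) (BT.node 9092 (BT.leaf cE9092) (BT.leaf cE9093)))) (BT.node 9098 (BT.node 9096 (BT.node 9095 (BT.node 9094 (BT.leaf cE9094) (BT.leaf cE9095)) (BT.leaf cE9096)) (BT.node 9097 (BT.leaf cE9097) (BT.leaf cE9098))) (BT.node 9101 (BT.node 9100 (BT.node 9099 (BT.leaf cE9099) (BT.leaf cE9100)) (BT.leaf cE9101)) (BT.node 9102 (BT.leaf cE9102) (BT.leaf cE9103))))) (BT.node 9113 (BT.node 9108 (BT.node 9106 (BT.node 9105 (BT.node 9104 (BT.leaf cE9104) (BT.leaf cE9105)) (BT.leaf cE9106)) (BT.node 9107 (BT.leaf cE9107) (BT.leaf cE9108))) (BT.node 9111 (BT.node 9110 (BT.node 9109 (BT.leaf cE9109) (BT.leaf cE9110)) (BT.leaf cE9111)) (BT.node 9112 (BT.leaf cE9112) (BT.leaf cE9113)))) (BT.node 9118 (BT.node 9116 (BT.node 9115 (BT.node 9114 (BT.leaf cE9114) (BT.leaf cE9115)) (BT.leaf cE9116)) (BT.node 9117 (BT.leaf cE9117) (BT.leaf cE9118))) (BT.node 9121 (BT.node 9120 (BT.node 9119 (BT.leaf cE9119) (BT.leaf cE9120)) (BT.leaf cE9121)) (BT.node 9122 (BT.leaf cE9122) (BT.leaf cE9123)))))) (BT.node 9143 (BT.node 9133 (BT.node 9128 (BT.node 9126 (BT.node 9125 (BT.node 9124 (BT.leaf cE9124) (BT.leaf cE9125)) (BT.leaf cE9126)) (BT.node 9127 (BT.leaf cE9127) (BT.leaf cE9128))) (BT.node 9131 (BT.node 9130 (BT.node 9129 (BT.leaf cE9129) (BT.leaf cE9130)) (BT.leaf cE9131)) (BT.node 9132 (BT.leaf cE9132) (BT.leaf cE9133)))) (BT.node 9138 (BT.node 9136 (BT.node 9135 (BT.node 9134 (BT.leaf cE9134) (BT.leaf cE9135)) (BT.leaf cE9136)) (BT.node 9137 (BT.leaf cE9137) (BT.leaf cE9138))) (BT.node 9141 (BT.node 9140 (BT.node 9139 (BT.leaf cE9139) (BT.leaf cE9140)) (BT.leaf cE9141)) (BT.node 9142 (BT.leaf cE9142) (BT.leaf cE9143))))) (BT.node 9153 (BT.node 9148 (BT.node 9146 (BT.node 9145 (BT.node 9144 (BT.leaf cE9144) (BT.leaf cE9145)) (BT.leaf cE9146)) (BT.node 9147 (BT.leaf cE9147) (BT.leaf cE9148))) (BT.node 9151 (BT.node 9150 (BT.node 9149 (BT.leaf cE9149) (BT.leaf cE9150)) (BT.leaf cE9151)) (BT.node 9152 (BT.leaf cE9152) (BT.leaf cE9153)))) (BT.node 9158 (BT.node 9156 (BT.node 9155 (BT.node 9154 (BT.leaf cE9154) (BT.leaf cE9155)) (BT.leaf cE9156)) (BT.node 9157 (BT.leaf cE9157) (BT.leaf cE9158))) (BT.node 9160 (BT.node 9159 (BT.leaf cE9159) (BT.leaf cE9160)) (BT.node 9161 (BT.leaf cE9161) (BT.leaf cE9162))))))) (BT.node 9201 (BT.node 9182 (BT.node 9172 (BT.node 9167 (BT.node 9165 (BT.node 9164 (BT.node 9163 (BT.leaf cE9163) (BT.leaf cE9164)) (BT.leaf cE9165)) (BT.node 9166 (BT.leaf cE9166) (BT.leaf cE9167))) (BT.node 9170 (BT.node 9169 (BT.node 9168 (BT.leaf cE9168) (BT.leaf cE9169)) (BT.leaf cE9170)) (BT.node 9171 (BT.leaf cE9171) (BT.leaf cE9172)))) (BT.node 9177 (BT.node 9175 (BT.node 9174 (BT.node 9173 (BT.leaf cE9173) (BT.leaf cE9174)) (BT.leaf cE9175)) (BT.node 9176 (BT.leaf cE9176) (BT.leaf cE9177))) (BT.node 9180 (BT.node 9179 (BT.node 9178 (BT.leaf cE9178) (BT.leaf cE9179)) (BT.leaf cE9180)) (BT.node 9181 (BT.leaf cE9181) (BT.leaf cE9182))))) (BT.node 9192 (BT.node 9187 (BT.node 9185 (BT.node 9184 (BT.node 9183 (BT.leaf cE9183) (BT.leaf cE9184)) (BT.leaf cE9185)) (BT.node 9186 (BT.leaf cE9186) (BT.leaf cE9187))) (BT.node 9190 (BT.node 9189 (BT.node 9188 (BT.leaf cE9188) (BT.leaf cE9189)) (BT.leaf cE9190)) (BT.node 9191 (BT.leaf cE9191) (BT.leaf cE9192)))) (BT.node 9197 (BT.node 9195 (BT.node 9194 (BT.node 9193 (BT.leaf cE9193) (BT.leaf cE9194)) (BT.leaf cE9195)) (BT.node 9196 (BT.leaf cE9196) (BT.leaf cE9197))) (BT.node 9199 (BT.node 9198 (BT.leaf cE9198) (BT.leaf cE9199)) (BT.node 9200 (BT.leaf cE9200) (BT.leaf cE9201)))))) (BT.node 9221 (BT.node 9211 (BT.node 9206 (BT.node 9204 (BT.node 9203 (BT.node 9202 (BT.leaf cE9202) (BT.leaf cE9203)) (BT.leaf cE9204)) (BT.node 9205 (BT.leaf cE9205) (BT.leaf cE9206))) (BT.node 9209 (BT.node 9208 (BT.node 9207 (BT.leaf cE9207) (BT.leaf cE9208)) (BT.leaf cE9209)) (BT.node 9210 (BT.leaf cE9210) (BT.leaf cE9211)))) (BT.node 9216 (BT.node 9214 (BT.node 9213 (BT.node 9212 (BT.leaf cE9212) (BT.leaf cE9213)) (BT.leaf cE9214)) (BT.node 9215 (BT.leaf cE9215) (BT.leaf cE9216))) (BT.node 9219 (BT.node 9218 (BT.node 9217 (BT.leaf cE9217) (BT.leaf cE9218)) (BT.leaf cE9219)) (BT.node 9220 (BT.leaf cE9220) (BT.leaf cE9221))))) (BT.node 9231 (BT.node 9226 (BT.node 9224 (BT.node 9223 (BT.node 9222 (BT.leaf cE9222) (BT.leaf cE9223)) (BT.leaf cE9224)) (BT.node 9225 (BT.leaf cE9225) (BT.leaf cE9226))) (BT.node 9229 (BT.node 9228 (BT.node 9227 (BT.leaf cE9227) (BT.leaf cE9228)) (BT.leaf cE9229)) (BT.node 9230 (BT.leaf cE9230) (BT.leaf cE9231)))) (BT.node 9236 (BT.node 9234 (BT.node 9233 (BT.node 9232 (BT.leaf cE9232) (BT.leaf cE9233)) (BT.leaf cE9234)) (BT.node 9235 (BT.leaf cE9235) (BT.leaf cE9236))) (BT.node 9238 (BT.node 9237 (BT.leaf cE9237) (BT.leaf cE9238)) (BT.node 9239 (BT.leaf cE9239) (BT.leaf cE9240)))))))) (BT.node 9318 (BT.node 9279 (BT.node 9260 (BT.node 9250 (BT.node 9245 (BT.node 9243 (BT.node 9242 (BT.node 9241 (BT.leaf cE9241) (BT.leaf cE9242)) (BT.leaf cE9243)) (BT.node 9244 (BT.leaf cE9244) (BT.leaf cE9245))) (BT.node 9248 (BT.node 9247 (BT.node 9246 (BT.leaf cE9246) (BT.leaf cE9247)) (BT.leaf cE9248)) (BT.node 9249 (BT.leaf cE9249) (BT.leaf cE9250)))) (BT.node 9255 (BT.node 9253 (BT.node 9252 (BT.node 9251 (BT.leaf cE9251) (BT.leaf cE9252)) (BT.leaf cE9253)) (BT.node 9254 (BT.leaf cE9254) (BT.leaf cE9255))) (BT.node 9258 (BT.node 9257 (BT.node 9256 (BT.leaf cE9256) (BT.leaf cE9257)) (BT.leaf cE9258)) (BT.node 9259 (BT.leaf cE9259) (BT.leaf cE9260))))) (BT.node 9270 (BT.node 9265 (BT.node 9263 (BT.node 9262 (BT.node 9261 (BT.leaf cE9261) (BT.leaf cE9262)) (BT.leaf cE9263)) (BT.node 9264 (BT.leaf cE9264) (BT.leaf cE9265))) (BT.node 9268 (BT.node 9267 (BT.node 9266 (BT.leaf cE9266) (BT.leaf cE9267)) (BT.leaf cE9268)) (BT.node 9269 (BT.leaf cE9269) (BT.leaf cE9270)))) (BT.node 9275 (BT.node 9273 (BT.node 9272 (BT.node 9271 (BT.leaf cE9271) (BT.leaf cE9272)) (BT.leaf cE9273)) (BT.node 9274 (BT.leaf cE9274) (BT.leaf cE9275))) (BT.node 9277 (BT.node 9276 (BT.leaf cE9276) (BT.leaf cE9277)) (BT.node 9278 (BT.leaf cE9278) (BT.leaf cE9279)))))) (BT.node 9299 (BT.node 9289 (BT.node 9284 (BT.node 9282 (BT.node 9281 (BT.node 9280 (BT.leaf cE9280) (BT.leaf cE9281)) (BT.leaf cE9282)) (BT.node 9283 (BT.leaf cE9283) (BT.leaf cE9284))) (BT.node 9287 (BT.node 9286 (BT.node 9285 (BT.leaf cE9285) (BT.leaf cE9286)) (BT.leaf cE9287)) (BT.node 9288 (BT.leaf cE9288) (BT.leaf cE9289)))) (BT.node 9294 (BT.node 9292 (BT.node 9291 (BT.node 9290 (BT.leaf cE9290) (BT.leaf cE9291)) (BT.leaf cE9292)) (BT.node 9293 (BT.leaf cE9293) (BT.leaf cE9294))) (BT.node 9297 (BT.node 9296 (BT.node 9295 (BT.leaf cE9295) (BT.leaf cE9296)) (BT.leaf cE9297)) (BT.node 9298 (BT.leaf cE9298) (BT.leaf cE9299))))) (BT.node 9309 (BT.node 9304 (BT.node 9302 (BT.node 9301 (BT.node 9300 (BT.leaf cE9300) (BT.leaf cE9301)) (BT.leaf cE9302)) (BT.node 9303 (BT.leaf cE9303) (BT.leaf cE9304))) (BT.node 9307 (BT.node 9306 (BT.node 9305 (BT.leaf cE9305) (BT.leaf cE9306)) (BT.leaf cE9307)) (BT.node 9308 (BT.leaf cE9308) (BT.leaf cE9309)))) (BT.node 9314 (BT.node 9312 (BT.node 9311 (BT.node 9310 (BT.leaf cE9310) (BT.leaf cE9311)) (BT.leaf cE9312)) (BT.node 9313 (BT.leaf cE9313) (BT.leaf cE9314))) (BT.node 9316 (BT.node 9315 (BT.leaf cE9315) (BT.leaf cE9316)) (BT.node 9317 (BT.leaf cE9317) (BT.leaf cE9318))))))) (BT.node 9357 (BT.node 9338 (BT.node 9328 (BT.node 9323 (BT.node 9321 (BT.node 9320 (BT.node 9319 (BT.leaf cE9319) (BT.leaf cE9320)) (BT.leaf cE9321)) (BT.node 9322 (BT.leaf cE9322) (BT.leaf cE9323))) (BT.node 9326 (BT.node 9325 (BT.node 9324 (BT.leaf cE9324) (BT.leaf cE9325)) (BT.leaf cE9326)) (BT.node 9327 (BT.leaf cE9327) (BT.leaf cE9328)))) (BT.node 9333 (BT.node 9331 (BT.node 9330 (BT.node 9329 (BT.leaf cE9329) (BT.leaf cE9330)) (BT.leaf cE9331)) (BT.node 9332 (BT.leaf cE9332) (BT.leaf cE9333))) (BT.node 9336 (BT.node 9335 (BT.node 9334 (BT.leaf cE9334) (BT.leaf cE9335)) (BT.leaf cE9336)) (BT.node 9337 (BT.leaf cE9337) (BT.leaf cE9338))))) (BT.node 9348 (BT.node 9343 (BT.node 9341 (BT.node 9340 (BT.node 9339 (BT.leaf cE9339) (BT.leaf cE9340)) (BT.leaf cE9341)) (BT.node 9342 (BT.leaf cE9342) (BT.leaf cE9343))) (BT.node 9346 (BT.node 9345 (BT.node 9344 (BT.leaf cE9344) (BT.leaf cE9345)) (BT.leaf cE9346)) (BT.node 9347 (BT.leaf cE9347) (BT.leaf cE9348)))) (BT.node 9353 (BT.node 9351 (BT.node 9350 (BT.node 9349 (BT.leaf cE9349) (BT.leaf cE9350)) (BT.leaf cE9351)) (BT.node 9352 (BT.leaf cE9352) (BT.leaf cE9353))) (BT.node 9355 (BT.node 9354 (BT.leaf cE9354) (BT.leaf cE9355)) (BT.node 9356 (BT.leaf cE9356) (BT.leaf cE9357)))))) (BT.node 9377 (BT.node 9367 (BT.node 9362 (BT.node 9360 (BT.node 9359 (BT.node 9358 (BT.leaf cE9358) (BT.leaf cE9359)) (BT.leaf cE9360)) (BT.node 9361 (BT.leaf cE9361) (BT.leaf cE9362))) (BT.node 9365 (BT.node 9364 (BT.node 9363 (BT.leaf cE9363) (BT.leaf cE9364)) (BT.leaf cE9365)) (BT.node 9366 (BT.leaf cE9366) (BT.leaf cE9367)))) (BT.node 9372 (BT.node 9370 (BT.node 9369 (BT.node 9368 (BT.leaf cE9368) (BT.leaf cE9369)) (BT.leaf cE9370)) (BT.node 9371 (BT.leaf cE9371) (BT.leaf cE9372))) (BT.node 9375 (BT.node 9374 (BT.node 9373 (BT.leaf cE9373) (BT.leaf cE9374)) (BT.leaf cE9375)) (BT.node 9376 (BT.leaf cE9376) (BT.leaf cE9377))))) (BT.node 9387 (BT.node 9382 (BT.node 9380 (BT.node 9379 (BT.node 9378 (BT.leaf cE9378) (BT.leaf cE9379)) (BT.leaf cE9380)) (BT.node 9381 (BT.leaf cE9381) (BT.leaf cE9382))) (BT.node 9385 (BT.node 9384 (BT.node 9383 (BT.leaf cE9383) (BT.leaf cE9384)) (BT.leaf cE9385)) (BT.node 9386 (BT.leaf cE9386) (BT.leaf cE9387)))) (BT.node 9392 (BT.node 9390 (BT.node 9389 (BT.node 9388 (BT.leaf cE9388) (BT.leaf cE9389)) (BT.leaf cE9390)) (BT.node 9391 (BT.leaf cE9391) (BT.leaf cE9392))) (BT.node 9394 (BT.node 9393 (BT.leaf cE9393) (BT.leaf cE9394)) (BT.node 9395 (BT.leaf cE9395) (BT.leaf cE9396)))))))))) (BT.node 9709 (BT.node 9553 (BT.node 9475 (BT.node 9436 (BT.node 9416 (BT.node 9406 (BT.node 9401 (BT.node 9399 (BT.node 9398 (BT.node 9397 (BT.leaf cE9397) (BT.leaf cE9398)) (BT.leaf cE9399)) (BT.node 9400 (BT.leaf cE9400) (BT.leaf cE9401))) (BT.node 9404 (BT.node 9403 (BT.node 9402 (BT.leaf cE9402) (BT.leaf cE9403)) (BT.leaf cE9404)) (BT.node 9405 (BT.leaf cE9405) (BT.leaf cE9406)))) (BT.node 9411 (BT.node 9409 (BT.node 9408 (BT.node 9407 (BT.leaf cE9407) (BT.leaf cE9408)) (BT.leaf cE9409)) (BT.node 9410 (BT.leaf cE9410) (BT.leaf cE9411))) (BT.node 9414 (BT.node 9413 (BT.node 9412 (BT.leaf cE9412) (BT.leaf cE9413)) (BT.leaf cE9414)) (BT.node 9415 (BT.leaf cE9415) (BT.leaf cE9416))))) (BT.node 9426 (BT.node 9421 (BT.node 9419 (BT.node 9418 (BT.node 9417 (BT.leaf cE9417) (BT.leaf cE9418)) (BT.leaf cE9419)) (BT.node 9420 (BT.leaf cE9420) (BT.leaf cE9421))) (BT.node 9424 (BT.node 9423 (BT.node 9422 (BT.leaf cE9422) (BT.leaf cE9423)) (BT.leaf cE9424)) (BT.node 9425 (BT.leaf cE9425) (BT.leaf cE9426)))) (BT.node 9431 (BT.node 9429 (BT.node 9428 (BT.node 9427 (BT.leaf cE9427) (BT.leaf cE9428)) (BT.leaf cE9429)) (BT.node 9430 (BT.leaf cE9430) (BT.leaf cE9431))) (BT.node 9434 (BT.node 9433 (BT.node 9432 (BT.leaf cE9432) (BT.leaf cE9433)) (BT.leaf cE9434)) (BT.node 9435 (BT.leaf cE9435) (BT.leaf cE9436)))))) (BT.node 9456 (BT.node 9446 (BT.node 9441 (BT.node 9439 (BT.node 9438 (BT.node 9437 (BT.leaf cE9437) (BT.leaf cE9438)) (BT.leaf cE9439)) (BT.node 9440 (BT.leaf cE9440) (BT.leaf cE9441))) (BT.node 9444 (BT.node 9443 (BT.node 9442 (BT.leaf cE9442) (BT.leaf cE9443)) (BT.leaf cE9444)) (BT.node 9445 (BT.leaf cE9445) (BT.leaf cE9446)))) (BT.node 9451 (BT.node 9449 (BT.node 9448 (BT.node 9447 (BT.leaf cE9447) (BT.leaf cE9448)) (BT.leaf cE9449)) (BT.node 9450 (BT.leaf cE9450) (BT.leaf cE9451))) (BT.node 9454 (BT.node 9453 (BT.node 9452 (BT.leaf cE9452) (BT.leaf cE9453)) (BT.leaf cE9454)) (BT.node 9455 (BT.leaf cE9455) (BT.leaf cE9456))))) (BT.node 9466 (BT.node 9461 (BT.node 9459 (BT.node 9458 (BT.node 9457 (BT.leaf cE9457) (BT.leaf cE9458)) (BT.leaf cE9459)) (BT.node 9460 (BT.leaf cE9460) (BT.leaf cE9461))) (BT.node 9464 (BT.node 9463 (BT.node 9462 (BT.leaf cE9462) (BT.leaf cE9463)) (BT.leaf cE9464)) (BT.node 9465 (BT.leaf cE9465) (BT.leaf cE9466)))) (BT.node 9471 (BT.node 9469 (BT.node 9468 (BT.node 9467 (BT.leaf cE9467) (BT.leaf cE9468)) (BT.leaf cE9469)) (BT.node 9470 (BT.leaf cE9470) (BT.leaf cE9471))) (BT.node 9473 (BT.node 9472 (BT.leaf cE9472) (BT.leaf cE9473)) (BT.node 9474 (BT.leaf cE9474) (BT.leaf cE9475))))))) (BT.node 9514 (BT.node 9495 (BT.node 9485 (BT.node 9480 (BT.node 9478 (BT.node 9477 (BT.node 9476 (BT.leaf cE9476) (BT.leaf cE9477)) (BT.leaf cE9478)) (BT.node 9479 (BT.leaf cE9479) (BT.leaf cE9480))) (BT.node 9483 (BT.node 9482 (BT.node 9481 (BT.leaf cE9481) (BT.leaf cE9482)) (BT.leaf cE9483)) (BT.node 9484 (BT.leaf cE9484) (BT.leaf cE9485)))) (BT.node 9490 (BT.node 9488 (BT.node 9487 (BT.node 9486 (BT.leaf cE9486) (BT.leaf cE9487)) (BT.leaf cE9488)) (BT.node 9489 (BT.leaf cE9489) (BT.leaf cE9490))) (BT.node 9493 (BT.node 9492 (BT.node 9491 (BT.leaf cE9491) (BT.leaf cE9492)) (BT.leaf cE9493)) (BT.node 9494 (BT.leaf cE9494) (BT.leaf cE9495))))) (BT.node 9505 (BT.node 9500 (BT.node 9498 (BT.node 9497 (BT.node 9496 (BT.leaf cE9496) (BT.leaf cE9497)) (BT.leaf cE9498)) (BT.node 9499 (BT.leaf cE9499) (BT.leaf cE9500))) (BT.node 9503 (BT.node 9502 (BT.node 9501 (BT.leaf cE9501) (BT.leaf cE9502)) (BT.leaf cE9503)) (BT.node 9504 (BT.leaf cE9504) (BT.leaf cE9505)))) (BT.node 9510 (BT.node 9508 (BT.node 9507 (BT.node 9506 (BT.leaf cE9506) (BT.leaf cE9507)) (BT.leaf cE9508)) (BT.node 9509 (BT.leaf cE9509) (BT.leaf cE9510))) (BT.node 9512 (BT.node 9511 (BT.leaf cE9511) (BT.leaf cE9512)) (BT.node 9513 (BT.leaf cE9513) (BT.leaf cE9514)))))) (BT.node 9534 (BT.node 9524 (BT.node 9519 (BT.node 9517 (BT.node 9516 (BT.node 9515 (BT.leaf cE9515) (BT.leaf cE9516)) (BT.leaf cE9517)) (BT.node 9518 (BT.leaf cE9518) (BT.leaf cE9519))) (BT.node 9522 (BT.node 9521 (BT.node 9520 (BT.leaf cE9520) (BT.leaf cE9521)) (BT.leaf cE9522)) (BT.node 9523 (BT.leaf cE9523) (BT.leaf cE9524)))) (BT.node 9529 (BT.node 9527 (BT.node 9526 (BT.node 9525 (BT.leaf cE9525) (BT.leaf cE9526)) (BT.leaf cE9527)) (BT.node 9528 (BT.leaf cE9528) (BT.leaf cE9529))) (BT.node 9532 (BT.node 9531 (BT.node 9530 (BT.leaf cE9530) (BT.leaf cE9531)) (BT.leaf cE9532)) (BT.node 9533 (BT.leaf cE9533) (BT.leaf cE9534))))) (BT.node 9544 (BT.node 9539 (BT.node 9537 (BT.node 9536 (BT.node 9535 (BT.leaf cE9535) (BT.leaf cE9536)) (BT.leaf cE9537)) (BT.node 9538 (BT.leaf cE9538) (BT.leaf cE9539))) (BT.node 9542 (BT.node 9541 (BT.node 9540 (BT.leaf cE9540) (BT.leaf cE9541)) (BT.leaf cE9542)) (BT.node 9543 (BT.leaf cE9543) (BT.leaf cE9544)))) (BT.node 9549 (BT.node 9547 (BT.node 9546 (BT.node 9545 (BT.leaf cE9545) (BT.leaf cE9546)) (BT.leaf cE9547)) (BT.node 9548 (BT.leaf cE9548) (BT.leaf cE9549))) (BT.node 9551 (BT.node 9550 (BT.leaf cE9550) (BT.leaf cE9551)) (BT.node 9552 (BT.leaf cE9552) (BT.leaf cE9553)))))))) (BT.node 9631 (BT.node 9592 (BT.node 9573 (BT.node 9563 (BT.node 9558 (BT.node 9556 (BT.node 9555 (BT.node 9554 (BT.leaf cE9554) (BT.leaf cE9555)) (BT.leaf cE9556)) (BT.node 9557 (BT.leaf cE9557) (BT.leaf cE9558))) (BT.node 9561 (BT.node 9560 (BT.node 9559 (BT.leaf cE9559) (BT.leaf cE9560)) (BT.leaf cE9561)) (BT.node 9562 (BT.leaf cE9562) (BT.leaf cE9563)))) (BT.node 9568 (BT.node 9566 (BT.node 9565 (BT.node 9564 (BT.leaf cE9564) (BT.leaf cE9565)) (BT.leaf cE9566)) (BT.node 9567 (BT.leaf cE9567) (BT.leaf cE9568))) (BT.node 9571 (BT.node 9570 (BT.node 9569 (BT.leaf cE9569) (BT.leaf cE9570)) (BT.leaf cE9571)) (BT.node 9572 (BT.leaf cE9572) (BT.leaf cE9573))))) (BT.node 9583 (BT.node 9578 (BT.node 9576 (BT.node 9575 (BT.node 9574 (BT.leaf cE9574) (BT.leaf cE9575)) (BT.leaf cE9576)) (BT.node 9577 (BT.leaf cE9577) (BT.leaf cE9578))) (BT.node 9581 (BT.node 9580 (BT.node 9579 (BT.leaf cE9579) (BT.leaf cE9580)) (BT.leaf cE9581)) (BT.node 9582 (BT.leaf cE9582) (BT.leaf cE9583)))) (BT.node 9588 (BT.node 9586 (BT.node 9585 (BT.node 9584 (BT.leaf cE9584) (BT.leaf cE9585)) (BT.leaf cE9586)) (BT.node 9587 (BT.leaf cE9587) (BT.leaf cE9588))) (BT.node 9590 (BT.node 9589 (BT.leaf cE9589) (BT.leaf cE9590)) (BT.node 9591 (BT.leaf cE9591) (BT.leaf cE9592)))))) (BT.node 9612 (BT.node 9602 (BT.node 9597 (BT.node 9595 (BT.node 9594 (BT.node 9593 (BT.leaf cE9593) (BT.leaf cE9594)) (BT.leaf cE9595)) (BT.node 9596 (BT.leaf cE9596) (BT.leaf cE9597))) (BT.node 9600 (BT.node 9599 (BT.node 9598 (BT.leaf cE9598) (BT.leaf cE9599)) (BT.leaf cE9600)) (BT.node 9601 (BT.leaf cE9601) (BT.leaf cE9602)))) (BT.node 9607 (BT.node 9605 (BT.node 9604 (BT.node 9603 (BT.leaf cE9603) (BT.leaf cE9604)) (BT.leaf cE9605)) (BT.node 9606 (BT.leaf cE9606) (BT.leaf cE9607))) (BT.node 9610 (BT.node 9609 (BT.node 9608 (BT.leaf cE9608) (BT.leaf cE9609)) (BT.leaf cE9610)) (BT.node 9611 (BT.leaf cE9611) (BT.leaf cE9612))))) (BT.node 9622 (BT.node 9617 (BT.node 9615 (BT.node 9614 (BT.node 9613 (BT.leaf cE9613) (BT.leaf cE9614)) (BT.leaf cE9615)) (BT.node 9616 (BT.leaf cE9616) (BT.leaf cE9617))) (BT.node 9620 (BT.node 9619 (BT.node 9618 (BT.leaf cE9618) (BT.leaf cE9619)) (BT.leaf cE9620)) (BT.node 9621 (BT.leaf cE9621) (BT.leaf cE9622)))) (BT.node 9627 (BT.node 9625 (BT.node 9624 (BT.node 9623 (BT.leaf cE9623) (BT.leaf cE9624)) (BT.leaf cE9625)) (BT.node 9626 (BT.leaf cE9626) (BT.leaf cE9627))) (BT.node 9629 (BT.node 9628 (BT.leaf cE9628) (BT.leaf cE9629)) (BT.node 9630 (BT.leaf cE9630) (BT.leaf cE9631))))))) (BT.node 9670 (BT.node 9651 (BT.node 9641 (BT.node 9636 (BT.node 9634 (BT.node 9633 (BT.node 9632 (BT.leaf cE9632) (BT.leaf cE9633)) (BT.leaf cE9634)) (BT.node 9635 (BT.leaf cE9635) (BT.leaf cE9636))) (BT.node 9639 (BT.node 9638 (BT.node 9637 (BT.leaf cE9637) (BT.leaf cE9638)) (BT.leaf cE9639)) (BT.node 9640 (BT.leaf cE9640) (BT.leaf cE9641)))) (BT.node 9646 (BT.node 9644 (BT.node 9643 (BT.node 9642 (BT.leaf cE9642) (BT.leaf cE9643)) (BT.leaf cE9644)) (BT.node 9645 (BT.leaf cE9645) (BT.leaf cE9646))) (BT.node 9649 (BT.node 9648 (BT.node 9647 (BT.leaf cE9647) (BT.leaf cE9648)) (BT.leaf cE9649)) (BT.node 9650 (BT.leaf cE9650) (BT.leaf cE9651))))) (BT.node 9661 (BT.node 9656 (BT.node 9654 (BT.node 9653 (BT.node 9652 (BT.leaf cE9652) (BT.leaf cE9653)) (BT.leaf cE9654)) (BT.node 9655 (BT.leaf cE9655) (BT.leaf cE9656))) (BT.node 9659 (BT.node 9658 (BT.node 9657 (BT.leaf cE9657) (BT.leaf cE9658)) (BT.leaf cE9659)) (BT.node 9660 (BT.leaf cE9660) (BT.leaf cE9661)))) (BT.node 9666 (BT.node 9664 (BT.node 9663 (BT.node 9662 (BT.leaf cE9662) (BT.leaf cE9663)) (BT.leaf cE9664)) (BT.node 9665 (BT.leaf cE9665) (BT.leaf cE9666))) (BT.node 9668 (BT.node 9667 (BT.leaf cE9667) (BT.leaf cE9668)) (BT.node 9669 (BT.leaf cE9669) (BT.leaf cE9670)))))) (BT.node 9690 (BT.node 9680 (BT.node 9675 (BT.node 9673 (BT.node 9672 (BT.node 9671 (BT.leaf cE9671) (BT.leaf cE9672)) (BT.leaf cE9673)) (BT.node 9674 (BT.leaf cE9674) (BT.leaf cE9675))) (BT.node 9678 (BT.node 9677 (BT.node 9676 (BT.leaf cE9676) (BT.leaf cE9677)) (BT.leaf cE9678)) (BT.node 9679 (BT.leaf cE9679) (BT.leaf cE9680)))) (BT.node 9685 (BT.node 9683 (BT.node 9682 (BT.node 9681 (BT.leaf cE9681) (BT.leaf cE9682)) (BT.leaf cE9683)) (BT.node 9684 (BT.leaf cE9684) (BT.leaf cE9685))) (BT.node 9688 (BT.node 9687 (BT.node 9686 (BT.leaf cE9686) (BT.leaf cE9687)) (BT.leaf cE9688)) (BT.node 9689 (BT.leaf cE9689) (BT.leaf cE9690))))) (BT.node 9700 (BT.node 9695 (BT.node 9693 (BT.node 9692 (BT.node 9691 (BT.leaf cE9691) (BT.leaf cE9692)) (BT.leaf cE9693)) (BT.node 9694 (BT.leaf cE9694) (BT.leaf cE9695))) (BT.node 9698 (BT.node 9697 (BT.node 9696 (BT.leaf cE9696) (BT.leaf cE9697)) (BT.leaf cE9698)) (BT.node 9699 (BT.leaf cE9699) (BT.leaf cE9700)))) (BT.node 9705 (BT.node 9703 (BT.node 9702 (BT.node 9701 (BT.leaf cE9701) (BT.leaf cE9702)) (BT.leaf cE9703)) (BT.node 9704 (BT.leaf cE9704) (BT.leaf cE9705))) (BT.node 9707 (BT.node 9706 (BT.leaf cE9706) (BT.leaf cE9707)) (BT.node 9708 (BT.leaf cE9708) (BT.leaf cE9709))))))))) (BT.node 9866 (BT.node 9788 (BT.node 9749 (BT.node 9729 (BT.node 9719 (BT.node 9714 (BT.node 9712 (BT.node 9711 (BT.node 9710 (BT.leaf cE9710) (BT.leaf cE9711)) (BT.leaf cE9712)) (BT.node 9713 (BT.leaf cE9713) (BT.leaf cE9714))) (BT.node 9717 (BT.node 9716 (BT.node 9715 (BT.leaf cE9715) (BT.leaf cE9716)) (BT.leaf cE9717)) (BT.node 9718 (BT.leaf cE9718) (BT.leaf cE9719)))) (BT.node 9724 (BT.node 9722 (BT.node 9721 (BT.node 9720 (BT.leaf cE9720) (BT.leaf cE9721)) (BT.leaf cE9722)) (BT.node 9723 (BT.leaf cE9723) (BT.leaf cE9724))) (BT.node 9727 (BT.node 9726 (BT.node 9725 (BT.leaf cE9725) (BT.leaf cE9726)) (BT.leaf cE9727)) (BT.node 9728 (BT.leaf cE9728) (BT.leaf cE9729))))) (BT.node 9739 (BT.node 9734 (BT.node 9732 (BT.node 9731 (BT.node 9730 (BT.leaf cE9730) (BT.leaf cE9731)) (BT.leaf cE9732)) (BT.node 9733 (BT.leaf cE9733) (BT.leaf cE9734))) (BT.node 9737 (BT.node 9736 (BT.node 9735 (BT.leaf cE9735) (BT.leaf cE9736)) (BT.leaf cE9737)) (BT.node 9738 (BT.leaf cE9738) (BT.leaf cE9739)))) (BT.node 9744 (BT.node 9742 (BT.node 9741 (BT.node 9740 (BT.leaf cE9740) (BT.leaf cE9741)) (BT.leaf cE9742)) (BT.node 9743 (BT.leaf cE9743) (BT.leaf cE9744))) (BT.node 9747 (BT.node 9746 (BT.node 9745 (BT.leaf cE9745) (BT.leaf cE9746)) (BT.leaf cE9747)) (BT.node 9748 (BT.leaf cE9748) (BT.leaf cE9749)))))) (BT.node 9769 (BT.node 9759 (BT.node 9754 (BT.node 9752 (BT.node 9751 (BT.node 9750 (BT.leaf cE9750) (BT.leaf cE9751)) (BT.leaf cE9752)) (BT.node 9753 (BT.leaf cE9753) (BT.leaf cE9754))) (BT.node 9757 (BT.node 9756 (BT.node 9755 (BT.leaf cE9755) (BT.leaf cE9756)) (BT.leaf cE9757)) (BT.node 9758 (BT.leaf cE9758) (BT.leaf cE9759)))) (BT.node 9764 (BT.node 9762 (BT.node 9761 (BT.node 9760 (BT.leaf cE9760) (BT.leaf cE9761)) (BT.leaf cE9762)) (BT.node 9763 (BT.leaf cE9763) (BT.leaf cE9764))) (BT.node 9767 (BT.node 9766 (BT.node 9765 (BT.leaf cE9765) (BT.leaf cE9766)) (BT.leaf cE9767)) (BT.node 9768 (BT.leaf cE9768) (BT.leaf cE9769))))) (BT.node 9779 (BT.node 9774 (BT.node 9772 (BT.node 9771 (BT.node 9770 (BT.leaf cE9770) (BT.leaf cE9771)) (BT.leaf cE9772)) (BT.node 9773 (BT.leaf cE9773) (BT.leaf cE9774))) (BT.node 9777 (BT.node 9776 (BT.node 9775 (BT.leaf cE9775) (BT.leaf cE9776)) (BT.leaf cE9777)) (BT.node 9778 (BT.leaf cE9778) (BT.leaf cE9779)))) (BT.node 9784 (BT.node 9782 (BT.node 9781 (BT.node 9780 (BT.leaf cE9780) (BT.leaf cE9781)) (BT.leaf cE9782)) (BT.node 9783 (BT.leaf cE9783) (BT.leaf cE9784))) (BT.node 9786 (BT.node 9785 (BT.leaf cE9785) (BT.leaf cE9786)) (BT.node 9787 (BT.leaf cE9787) (BT.leaf cE9788))))))) (BT.node 9827 (BT.node 9808 (BT.node 9798 (BT.node 9793 (BT.node 9791 (BT.node 9790 (BT.node 9789 (BT.leaf cE9789) (BT.leaf cE9790)) (BT.leaf cE9791)) (BT.node 9792 (BT.leaf cE9792) (BT.leaf cE9793))) (BT.node 9796 (BT.node 9795 (BT.node 9794 (BT.leaf cE9794) (BT.leaf cE9795)) (BT.leaf cE9796)) (BT.node 9797 (BT.leaf cE9797) (BT.leaf cE9798)))) (BT.node 9803 (BT.node 9801 (BT.node 9800 (BT.node 9799 (BT.leaf cE9799) (BT.leaf cE9800)) (BT.leaf cE9801)) (BT.node 9802 (BT.leaf cE9802) (BT.leaf cE9803))) (BT.node 9806 (BT.node 9805 (BT.node 9804 (BT.leaf cE9804) (BT.leaf cE9805)) (BT.leaf cE9806)) (BT.node 9807 (BT.leaf cE9807) (BT.leaf cE9808))))) (BT.node 9818 (BT.node 9813 (BT.node 9811 (BT.node 9810 (BT.node 9809 (BT.leaf cE9809) (BT.leaf cE9810)) (BT.leaf cE9811)) (BT.node 9812 (BT.leaf cE9812) (BT.leaf cE9813))) (BT.node 9816 (BT.node 9815 (BT.node 9814 (BT.leaf cE9814) (BT.leaf cE9815)) (BT.leaf cE9816)) (BT.node 9817 (BT.leaf cE9817) (BT.leaf cE9818)))) (BT.node 9823 (BT.node 9821 (BT.node 9820 (BT.node 9819 (BT.leaf cE9819) (BT.leaf cE9820)) (BT.leaf cE9821)) (BT.node 9822 (BT.leaf cE9822) (BT.leaf cE9823))) (BT.node 9825 (BT.node 9824 (BT.leaf cE9824) (BT.leaf cE9825)) (BT.node 9826 (BT.leaf cE9826) (BT.leaf cE9827)))))) (BT.node 9847 (BT.node 9837 (BT.node 9832 (BT.node 9830 (BT.node 9829 (BT.node 9828 (BT.leaf cE9828) (BT.leaf cE9829)) (BT.leaf cE9830)) (BT.node 9831 (BT.leaf cE9831) (BT.leaf cE9832))) (BT.node 9835 (BT.node 9834 (BT.node 9833 (BT.leaf cE9833) (BT.leaf cE9834)) (BT.leaf cE9835)) (BT.node 9836 (BT.leaf cE9836) (BT.leaf cE9837)))) (BT.node 9842 (BT.node 9840 (BT.node 9839 (BT.node 9838 (BT.leaf cE9838) (BT.leaf cE9839)) (BT.leaf cE9840)) (BT.node 9841 (BT.leaf cE9841) (BT.leaf cE9842))) (BT.node 9845 (BT.node 9844 (BT.node 9843 (BT.leaf cE9843) (BT.leaf cE9844)) (BT.leaf cE9845)) (BT.node 9846 (BT.leaf cE9846) (BT.leaf cE9847))))) (BT.node 9857 (BT.node 9852 (BT.node 9850 (BT.node 9849 (BT.node 9848 (BT.leaf cE9848) (BT.leaf cE9849)) (BT.leaf cE9850)) (BT.node 9851 (BT.leaf cE9851) (BT.leaf cE9852))) (BT.node 9855 (BT.node 9854 (BT.node 9853 (BT.leaf cE9853) (BT.leaf cE9854)) (BT.leaf cE9855)) (BT.node 9856 (BT.leaf cE9856) (BT.leaf cE9857)))) (BT.node 9862 (BT.node 9860 (BT.node 9859 (BT.node 9858 (BT.leaf cE9858) (BT.leaf cE9859)) (BT.leaf cE9860)) (BT.node 9861 (BT.leaf cE9861) (BT.leaf cE9862))) (BT.node 9864 (BT.node 9863 (BT.leaf cE9863) (BT.leaf cE9864)) (BT.node 9865 (BT.leaf cE9865) (BT.leaf cE9866)))))))) (BT.node 9944 (BT.node 9905 (BT.node 9886 (BT.node 9876 (BT.node 9871 (BT.node 9869 (BT.node 9868 (BT.node 9867 (BT.leaf cE9867) (BT.leaf cE9868)) (BT.leaf cE9869)) (BT.node 9870 (BT.leaf cE9870) (BT.leaf cE9871))) (BT.node 9874 (BT.node 9873 (BT.node 9872 (BT.leaf cE9872) (BT.leaf cE9873)) (BT.leaf cE9874)) (BT.node 9875 (BT.leaf cE9875) (BT.leaf cE9876)))) (BT.node 9881 (BT.node 9879 (BT.node 9878 (BT.node 9877 (BT.leaf cE9877) (BT.leaf cE9878)) (BT.leaf cE9879)) (BT.node 9880 (BT.leaf cE9880) (BT.leaf cE9881))) (BT.node 9884 (BT.node 9883 (BT.node 9882 (BT.leaf cE9882) (BT.leaf cE9883)) (BT.leaf cE9884)) (BT.node 9885 (BT.leaf cE9885) (BT.leaf cE9886))))) (BT.node 9896 (BT.node 9891 (BT.node 9889 (BT.node 9888 (BT.node 9887 (BT.leaf cE9887) (BT.leaf cE9888)) (BT.leaf cE9889)) (BT.node 9890 (BT.leaf cE9890) (BT.leaf cE9891))) (BT.node 9894 (BT.node 9893 (BT.node 9892 (BT.leaf cE9892) (BT.leaf cE9893)) (BT.leaf cE9894)) (BT.node 9895 (BT.leaf cE9895) (BT.leaf cE9896)))) (BT.node 9901 (BT.node 9899 (BT.node 9898 (BT.node 9897 (BT.leaf cE9897) (BT.leaf cE9898)) (BT.leaf cE9899)) (BT.node 9900 (BT.leaf cE9900) (BT.leaf cE9901))) (BT.node 9903 (BT.node 9902 (BT.leaf cE9902) (BT.leaf cE9903)) (BT.node 9904 (BT.leaf cE9904) (BT.leaf cE9905)))))) (BT.node 9925 (BT.node 9915 (BT.node 9910 (BT.node 9908 (BT.node 9907 (BT.node 9906 (BT.leaf cE9906) (BT.leaf cE9907)) (BT.leaf cE9908)) (BT.node 9909 (BT.leaf cE9909) (BT.leaf cE9910))) (BT.node 9913 (BT.node 9912 (BT.node 9911 (BT.leaf cE9911) (BT.leaf cE9912)) (BT.leaf cE9913)) (BT.node 9914 (BT.leaf cE9914) (BT.leaf cE9915)))) (BT.node 9920 (BT.node 9918 (BT.node 9917 (BT.node 9916 (BT.leaf cE9916) (BT.leaf cE9917)) (BT.leaf cE9918)) (BT.node 9919 (BT.leaf cE9919) (BT.leaf cE9920))) (BT.node 9923 (BT.node 9922 (BT.node 9921 (BT.leaf cE9921) (BT.leaf cE9922)) (BT.leaf cE9923)) (BT.node 9924 (BT.leaf cE9924) (BT.leaf cE9925))))) (BT.node 9935 (BT.node 9930 (BT.node 9928 (BT.node 9927 (BT.node 9926 (BT.leaf cE9926) (BT.leaf cE9927)) (BT.leaf cE9928)) (BT.node 9929 (BT.leaf cE9929) (BT.leaf cE9930))) (BT.node 9933 (BT.node 9932 (BT.node 9931 (BT.leaf cE9931) (BT.leaf cE9932)) (BT.leaf cE9933)) (BT.node 9934 (BT.leaf cE9934) (BT.leaf cE9935)))) (BT.node 9940 (BT.node 9938 (BT.node 9937 (BT.node 9936 (BT.leaf cE9936) (BT.leaf cE9937)) (BT.leaf cE9938)) (BT.node 9939 (BT.leaf cE9939) (BT.leaf cE9940))) (BT.node 9942 (BT.node 9941 (BT.leaf cE9941) (BT.leaf cE9942)) (BT.node 9943 (BT.leaf cE9943) (BT.leaf cE9944))))))) (BT.node 9983 (BT.node 9964 (BT.node 9954 (BT.node 9949 (BT.node 9947 (BT.node 9946 (BT.node 9945 (BT.leaf cE9945) (BT.leaf cE9946)) (BT.leaf cE9947)) (BT.node 9948 (BT.leaf cE9948) (BT.leaf cE9949))) (BT.node 9952 (BT.node 9951 (BT.node 9950 (BT.leaf cE9950) (BT.leaf cE9951)) (BT.leaf cE9952)) (BT.node 9953 (BT.leaf cE9953) (BT.leaf cE9954)))) (BT.node 9959 (BT.node 9957 (BT.node 9956 (BT.node 9955 (BT.leaf cE9955) (BT.leaf cE9956)) (BT.leaf cE9957)) (BT.node 9958 (BT.leaf cE9958) (BT.leaf cE9959))) (BT.node 9962 (BT.node 9961 (BT.node 9960 (BT.leaf cE9960) (BT.leaf cE9961)) (BT.leaf cE9962)) (BT.node 9963 (BT.leaf cE9963) (BT.leaf cE9964))))) (BT.node 9974 (BT.node 9969 (BT.node 9967 (BT.node 9966 (BT.node 9965 (BT.leaf cE9965) (BT.leaf cE9966)) (BT.leaf cE9967)) (BT.node 9968 (BT.leaf cE9968) (BT.leaf cE9969))) (BT.node 9972 (BT.node 9971 (BT.node 9970 (BT.leaf cE9970) (BT.leaf cE9971)) (BT.leaf cE9972)) (BT.node 9973 (BT.leaf cE9973) (BT.leaf cE9974)))) (BT.node 9979 (BT.node 9977 (BT.node 9976 (BT.node 9975 (BT.leaf cE9975) (BT.leaf cE9976)) (BT.leaf cE9977)) (BT.node 9978 (BT.leaf cE9978) (BT.leaf cE9979))) (BT.node 9981 (BT.node 9980 (BT.leaf cE9980) (BT.leaf cE9981)) (BT.node 9982 (BT.leaf cE9982) (BT.leaf cE9983)))))) (BT.node 10003 (BT.node 9993 (BT.node 9988 (BT.node 9986 (BT.node 9985 (BT.node 9984 (BT.leaf cE9984) (BT.leaf cE9985)) (BT.leaf cE9986)) (BT.node 9987 (BT.leaf cE9987) (BT.leaf cE9988))) (BT.node 9991 (BT.node 9990 (BT.node 9989 (BT.leaf cE9989) (BT.leaf cE9990)) (BT.leaf cE9991)) (BT.node 9992 (BT.leaf cE9992) (BT.leaf cE9993)))) (BT.node 9998 (BT.node 9996 (BT.node 9995 (BT.node 9994 (BT.leaf cE9994) (BT.leaf cE9995)) (BT.leaf cE9996)) (BT.node 9997 (BT.leaf cE9997) (BT.leaf cE9998))) (BT.node 10001 (BT.node 10000 (BT.node 9999 (BT.leaf cE9999) (BT.leaf cE10000)) (BT.leaf cE10001)) (BT.node 10002 (BT.leaf cE10002) (BT.leaf cE10003))))) (BT.node 10013 (BT.node 10008 (BT.node 10006 (BT.node 10005 (BT.node 10004 (BT.leaf cE10004) (BT.leaf cE10005)) (BT.leaf cE10006)) (BT.node 10007 (BT.leaf cE10007) (BT.leaf cE10008))) (BT.node 10011 (BT.node 10010 (BT.node 10009 (BT.leaf cE10009) (BT.leaf cE10010)) (BT.leaf cE10011)) (BT.node 10012 (BT.leaf cE10012) (BT.leaf cE10013)))) (BT.node 10018 (BT.node 10016 (BT.node 10015 (BT.node 10014 (BT.leaf cE10014) (BT.leaf cE10015)) (BT.leaf cE10016)) (BT.node 10017 (BT.leaf cE10017) (BT.leaf cE10018))) (BT.node 10020 (BT.node 10019 (BT.leaf cE10019) (BT.leaf cE10020)) (BT.node 10021 (BT.leaf cE10021) (BT.leaf cE10022))))))))))))))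
/-- justification chunks -/
def colJT : BT ℕ := (BT.node 5011 (BT.node 2505 (BT.node 1252 (BT.node 626 (BT.node 313 (BT.node 156 (BT.node 78 (BT.node 39 (BT.node 19 (BT.node 9 (BT.node 4 (BT.node 2 (BT.node 1 (BT.node 0 (BT.leaf cJ0) (BT.leaf cJ1)) (BT.leaf cJ2)) (BT.node 3 (BT.leaf cJ3) (BT.leaf cJ4))) (BT.node 7 (BT.node 6 (BT.node 5 (BT.leaf cJ5) (BT.leaf cJ6)) (BT.leaf cJ7)) (BT.node 8 (BT.leaf cJ8) (BT.leaf cJ9)))) (BT.node 14 (BT.node 12 (BT.node 11 (BT.node 10 (BT.leaf cJ10) (BT.leaf cJ11)) (BT.leaf cJ12)) (BT.node 13 (BT.leaf cJ13) (BT.leaf cJ14))) (BT.node 17 (BT.node 16 (BT.node 15 (BT.leaf cJ15) (BT.leaf cJ16)) (BT.leaf cJ17)) (BT.node 18 (BT.leaf cJ18) (BT.leaf cJ19))))) (BT.node 29 (BT.node 24 (BT.node 22 (BT.node 21 (BT.node 20 (BT.leaf cJ20) (BT.leaf cJ21)) (BT.leaf cJ22)) (BT.node 23 (BT.leaf cJ23) (BT.leaf cJ24))) (BT.node 27 (BT.node 26 (BT.node 25 (BT.leaf cJ25) (BT.leaf cJ26)) (BT.leaf cJ27)) (BT.node 28 (BT.leaf cJ28) (BT.leaf cJ29)))) (BT.node 34 (BT.node 32 (BT.node 31 (BT.node 30 (BT.leaf cJ30) (BT.leaf cJ31)) (BT.leaf cJ32)) (BT.node 33 (BT.leaf cJ33) (BT.leaf cJ34))) (BT.node 37 (BT.node 36 (BT.node 35 (BT.leaf cJ35) (BT.leaf cJ36)) (BT.leaf cJ37)) (BT.node 38 (BT.leaf cJ38) (BT.leaf cJ39)))))) (BT.node 59 (BT.node 49 (BT.node 44 (BT.node 42 (BT.node 41 (BT.node 40 (BT.leaf cJ40) (BT.leaf cJ41)) (BT.leaf cJ42)) (BT.node 43 (BT.leaf cJ43) (BT.leaf cJ44))) (BT.node 47 (BT.node 46 (BT.node 45 (BT.leaf cJ45) (BT.leaf cJ46)) (BT.leaf cJ47)) (BT.node 48 (BT.leaf cJ48) (BT.leaf cJ49)))) (BT.node 54 (BT.node 52 (BT.node 51 (BT.node 50 (BT.leaf cJ50) (BT.leaf cJ51)) (BT.leaf cJ52)) (BT.node 53 (BT.leaf cJ53) (BT.leaf cJ54))) (BT.node 57 (BT.node 56 (BT.node 55 (BT.leaf cJ55) (BT.leaf cJ56)) (BT.leaf cJ57)) (BT.node 58 (BT.leaf cJ58) (BT.leaf cJ59))))) (BT.node 69 (BT.node 64 (BT.node 62 (BT.node 61 (BT.node 60 (BT.leaf cJ60) (BT.leaf cJ61)) (BT.leaf cJ62)) (BT.node 63 (BT.leaf cJ63) (BT.leaf cJ64))) (BT.node 67 (BT.node 66 (BT.node 65 (BT.leaf cJ65) (BT.leaf cJ66)) (BT.leaf cJ67)) (BT.node 68 (BT.leaf cJ68) (BT.leaf cJ69)))) (BT.node 74 (BT.node 72 (BT.node 71 (BT.node 70 (BT.leaf cJ70) (BT.leaf cJ71)) (BT.leaf cJ72)) (BT.node 73 (BT.leaf cJ73) (BT.leaf cJ74))) (BT.node 76 (BT.node 75 (BT.leaf cJ75) (BT.leaf cJ76)) (BT.node 77 (BT.leaf cJ77) (BT.leaf cJ78))))))) (BT.node 117 (BT.node 98 (BT.node 88 (BT.node 83 (BT.node 81 (BT.node 80 (BT.node 79 (BT.leaf cJ79) (BT.leaf cJ80)) (BT.leaf cJ81)) (BT.node 82 (BT.leaf cJ82) (BT.leaf cJ83))) (BT.node 86 (BT.node 85 (BT.node 84 (BT.leaf cJ84) (BT.leaf cJ85)) (BT.leaf cJ86)) (BT.node 87 (BT.leaf cJ87) (BT.leaf cJ88)))) (BT.node 93 (BT.node 91 (BT.node 90 (BT.node 89 (BT.leaf cJ89) (BT.leaf cJ90)) (BT.leaf cJ91)) (BT.node 92 (BT.leaf cJ92) (BT.leaf cJ93))) (BT.node 96 (BT.node 95 (BT.node 94 (BT.leaf cJ94) (BT.leaf cJ95)) (BT.leaf cJ96)) (BT.node 97 (BT.leaf cJ97) (BT.leaf cJ98))))) (BT.node 108 (BT.node 103 (BT.node 101 (BT.node 100 (BT.node 99 (BT.leaf cJ99) (BT.leaf cJ100)) (BT.leaf cJ101)) (BT.node 102 (BT.leaf cJ102) (BT.leaf cJ103))) (BT.node 106 (BT.node 105 (BT.node 104 (BT.leaf cJ104) (BT.leaf cJ105)) (BT.leaf cJ106)) (BT.node 107 (BT.leaf cJ107) (BT.leaf cJ108)))) (BT.node 113 (BT.node 111 (BT.node 110 (BT.node 109 (BT.leaf cJ109) (BT.leaf cJ110)) (BT.leaf cJ111)) (BT.node 112 (BT.leaf cJ112) (BT.leaf cJ113))) (BT.node 115 (BT.node 114 (BT.leaf cJ114) (BT.leaf cJ115)) (BT.node 116 (BT.leaf cJ116) (BT.leaf cJ117)))))) (BT.node 137 (BT.node 127 (BT.node 122 (BT.node 120 (BT.node 119 (BT.node 118 (BT.leaf cJ118) (BT.leaf cJ119)) (BT.leaf cJ120)) (BT.node 121 (BT.leaf cJ121) (BT.leaf cJ122))) (BT.node 125 (BT.node 124 (BT.node 123 (BT.leaf cJ123) (BT.leaf cJ124)) (BT.leaf cJ125)) (BT.node 126 (BT.leaf cJ126) (BT.leaf cJ127)))) (BT.node 132 (BT.node 130 (BT.node 129 (BT.node 128 (BT.leaf cJ128) (BT.leaf cJ129)) (BT.leaf cJ130)) (BT.node 131 (BT.leaf cJ131) (BT.leaf cJ132))) (BT.node 135 (BT.node 134 (BT.node 133 (BT.leaf cJ133) (BT.leaf cJ134)) (BT.leaf cJ135)) (BT.node 136 (BT.leaf cJ136) (BT.leaf cJ137))))) (BT.node 147 (BT.node 142 (BT.node 140 (BT.node 139 (BT.node 138 (BT.leaf cJ138) (BT.leaf cJ139)) (BT.leaf cJ140)) (BT.node 141 (BT.leaf cJ141) (BT.leaf cJ142))) (BT.node 145 (BT.node 144 (BT.node 143 (BT.leaf cJ143) (BT.leaf cJ144)) (BT.leaf cJ145)) (BT.node 146 (BT.leaf cJ146) (BT.leaf cJ147)))) (BT.node 152 (BT.node 150 (BT.node 149 (BT.node 148 (BT.leaf cJ148) (BT.leaf cJ149)) (BT.leaf cJ150)) (BT.node 151 (BT.leaf cJ151) (BT.leaf cJ152))) (BT.node 154 (BT.node 153 (BT.leaf cJ153) (BT.leaf cJ154)) (BT.node 155 (BT.leaf cJ155) (BT.leaf cJ156)))))))) (BT.node 235 (BT.node 196 (BT.node 176 (BT.node 166 (BT.node 161 (BT.node 159 (BT.node 158 (BT.node 157 (BT.leaf cJ157) (BT.leaf cJ158)) (BT.leaf cJ159)) (BT.node 160 (BT.leaf cJ160) (BT.leaf cJ161))) (BT.node 164 (BT.node 163 (BT.node 162 (BT.leaf cJ162) (BT.leaf cJ163)) (BT.leaf cJ164)) (BT.node 165 (BT.leaf cJ165) (BT.leaf cJ166)))) (BT.node 171 (BT.node 169 (BT.node 168 (BT.node 167 (BT.leaf cJ167) (BT.leaf cJ168)) (BT.leaf cJ169)) (BT.node 170 (BT.leaf cJ170) (BT.leaf cJ171))) (BT.node 174 (BT.node 173 (BT.node 172 (BT.leaf cJ172) (BT.leaf cJ173)) (BT.leaf cJ174)) (BT.node 175 (BT.leaf cJ175) (BT.leaf cJ176))))) (BT.node 186 (BT.node 181 (BT.node 179 (BT.node 178 (BT.node 177 (BT.leaf cJ177) (BT.leaf cJ178)) (BT.leaf cJ179)) (BT.node 180 (BT.leaf cJ180) (BT.leaf cJ181))) (BT.node 184 (BT.node 183 (BT.node 182 (BT.leaf cJ182) (BT.leaf cJ183)) (BT.leaf cJ184)) (BT.node 185 (BT.leaf cJ185) (BT.leaf cJ186)))) (BT.node 191 (BT.node 189 (BT.node 188 (BT.node 187 (BT.leaf cJ187) (BT.leaf cJ188)) (BT.leaf cJ189)) (BT.node 190 (BT.leaf cJ190) (BT.leaf cJ191))) (BT.node 194 (BT.node 193 (BT.node 192 (BT.leaf cJ192) (BT.leaf cJ193)) (BT.leaf cJ194)) (BT.node 195 (BT.leaf cJ195) (BT.leaf cJ196)))))) (BT.node 216 (BT.node 206 (BT.node 201 (BT.node 199 (BT.node 198 (BT.node 197 (BT.leaf cJ197) (BT.leaf cJ198)) (BT.leaf cJ199)) (BT.node 200 (BT.leaf cJ200) (BT.leaf cJ201))) (BT.node 204 (BT.node 203 (BT.node 202 (BT.leaf cJ202) (BT.leaf cJ203)) (BT.leaf cJ204)) (BT.node 205 (BT.leaf cJ205) (BT.leaf cJ206)))) (BT.node 211 (BT.node 209 (BT.node 208 (BT.node 207 (BT.leaf cJ207) (BT.leaf cJ208)) (BT.leaf cJ209)) (BT.node 210 (BT.leaf cJ210) (BT.leaf cJ211))) (BT.node 214 (BT.node 213 (BT.node 212 (BT.leaf cJ212) (BT.leaf cJ213)) (BT.leaf cJ214)) (BT.node 215 (BT.leaf cJ215) (BT.leaf cJ216))))) (BT.node 226 (BT.node 221 (BT.node 219 (BT.node 218 (BT.node 217 (BT.leaf cJ217) (BT.leaf cJ218)) (BT.leaf cJ219)) (BT.node 220 (BT.leaf cJ220) (BT.leaf cJ221))) (BT.node 224 (BT.node 223 (BT.node 222 (BT.leaf cJ222) (BT.leaf cJ223)) (BT.leaf cJ224)) (BT.node 225 (BT.leaf cJ225) (BT.leaf cJ226)))) (BT.node 231 (BT.node 229 (BT.node 228 (BT.node 227 (BT.leaf cJ227) (BT.leaf cJ228)) (BT.leaf cJ229)) (BT.node 230 (BT.leaf cJ230) (BT.leaf cJ231))) (BT.node 233 (BT.node 232 (BT.leaf cJ232) (BT.leaf cJ233)) (BT.node 234 (BT.leaf cJ234) (BT.leaf cJ235))))))) (BT.node 274 (BT.node 255 (BT.node 245 (BT.node 240 (BT.node 238 (BT.node 237 (BT.node 236 (BT.leaf cJ236) (BT.leaf cJ237)) (BT.leaf cJ238)) (BT.node 239 (BT.leaf cJ239) (BT.leaf cJ240))) (BT.node 243 (BT.node 242 (BT.node 241 (BT.leaf cJ241) (BT.leaf cJ242)) (BT.leaf cJ243)) (BT.node 244 (BT.leaf cJ244) (BT.leaf cJ245)))) (BT.node 250 (BT.node 248 (BT.node 247 (BT.node 246 (BT.leaf cJ246) (BT.leaf cJ247)) (BT.leaf cJ248)) (BT.node 249 (BT.leaf cJ249) (BT.leaf cJ250))) (BT.node 253 (BT.node 252 (BT.node 251 (BT.leaf cJ251) (BT.leaf cJ252)) (BT.leaf cJ253)) (BT.node 254 (BT.leaf cJ254) (BT.leaf cJ255))))) (BT.node 265 (BT.node 260 (BT.node 258 (BT.node 257 (BT.node 256 (BT.leaf cJ256) (BT.leaf cJ257)) (BT.leaf cJ258)) (BT.node 259 (BT.leaf cJ259) (BT.leaf cJ260))) (BT.node 263 (BT.node 262 (BT.node 261 (BT.leaf cJ261) (BT.leaf cJ262)) (BT.leaf cJ263)) (BT.node 264 (BT.leaf cJ264) (BT.leaf cJ265)))) (BT.node 270 (BT.node 268 (BT.node 267 (BT.node 266 (BT.leaf cJ266) (BT.leaf cJ267)) (BT.leaf cJ268)) (BT.node 269 (BT.leaf cJ269) (BT.leaf cJ270))) (BT.node 272 (BT.node 271 (BT.leaf cJ271) (BT.leaf cJ272)) (BT.node 273 (BT.leaf cJ273) (BT.leaf cJ274)))))) (BT.node 294 (BT.node 284 (BT.node 279 (BT.node 277 (BT.node 276 (BT.node 275 (BT.leaf cJ275) (BT.leaf cJ276)) (BT.leaf cJ277)) (BT.node 278 (BT.leaf cJ278) (BT.leaf cJ279))) (BT.node 282 (BT.node 281 (BT.node 280 (BT.leaf cJ280) (BT.leaf cJ281)) (BT.leaf cJ282)) (BT.node 283 (BT.leaf cJ283) (BT.leaf cJ284)))) (BT.node 289 (BT.node 287 (BT.node 286 (BT.node 285 (BT.leaf cJ285) (BT.leaf cJ286)) (BT.leaf cJ287)) (BT.node 288 (BT.leaf cJ288) (BT.leaf cJ289))) (BT.node 292 (BT.node 291 (BT.node 290 (BT.leaf cJ290) (BT.leaf cJ291)) (BT.leaf cJ292)) (BT.node 293 (BT.leaf cJ293) (BT.leaf cJ294))))) (BT.node 304 (BT.node 299 (BT.node 297 (BT.node 296 (BT.node 295 (BT.leaf cJ295) (BT.leaf cJ296)) (BT.leaf cJ297)) (BT.node 298 (BT.leaf cJ298) (BT.leaf cJ299))) (BT.node 302 (BT.node 301 (BT.node 300 (BT.leaf cJ300) (BT.leaf cJ301)) (BT.leaf cJ302)) (BT.node 303 (BT.leaf cJ303) (BT.leaf cJ304)))) (BT.node 309 (BT.node 307 (BT.node 306 (BT.node 305 (BT.leaf cJ305) (BT.leaf cJ306)) (BT.leaf cJ307)) (BT.node 308 (BT.leaf cJ308) (BT.leaf cJ309))) (BT.node 311 (BT.node 310 (BT.leaf cJ310) (BT.leaf cJ311)) (BT.node 312 (BT.leaf cJ312) (BT.leaf cJ313))))))))) (BT.node 470 (BT.node 392 (BT.node 353 (BT.node 333 (BT.node 323 (BT.node 318 (BT.node 316 (BT.node 315 (BT.node 314 (BT.leaf cJ314) (BT.leaf cJ315)) (BT.leaf cJ316)) (BT.node 317 (BT.leaf cJ317) (BT.leaf cJ318))) (BT.node 321 (BT.node 320 (BT.node 319 (BT.leaf cJ319) (BT.leaf cJ320)) (BT.leaf cJ321)) (BT.node 322 (BT.leaf cJ322) (BT.leaf cJ323)))) (BT.node 328 (BT.node 326 (BT.node 325 (BT.node 324 (BT.leaf cJ324) (BT.leaf cJ325)) (BT.leaf cJ326)) (BT.node 327 (BT.leaf cJ327) (BT.leaf cJ328))) (BT.node 331 (BT.node 330 (BT.node 329 (BT.leaf cJ329) (BT.leaf cJ330)) (BT.leaf cJ331)) (BT.node 332 (BT.leaf cJ332) (BT.leaf cJ333))))) (BT.node 343 (BT.node 338 (BT.node 336 (BT.node 335 (BT.node 334 (BT.leaf cJ334) (BT.leaf cJ335)) (BT.leaf cJ336)) (BT.node 337 (BT.leaf cJ337) (BT.leaf cJ338))) (BT.node 341 (BT.node 340 (BT.node 339 (BT.leaf cJ339) (BT.leaf cJ340)) (BT.leaf cJ341)) (BT.node 342 (BT.leaf cJ342) (BT.leaf cJ343)))) (BT.node 348 (BT.node 346 (BT.node 345 (BT.node 344 (BT.leaf cJ344) (BT.leaf cJ345)) (BT.leaf cJ346)) (BT.node 347 (BT.leaf cJ347) (BT.leaf cJ348))) (BT.node 351 (BT.node 350 (BT.node 349 (BT.leaf cJ349) (BT.leaf cJ350)) (BT.leaf cJ351)) (BT.node 352 (BT.leaf cJ352) (BT.leaf cJ353)))))) (BT.node 373 (BT.node 363 (BT.node 358 (BT.node 356 (BT.node 355 (BT.node 354 (BT.leaf cJ354) (BT.leaf cJ355)) (BT.leaf cJ356)) (BT.node 357 (BT.leaf cJ357) (BT.leaf cJ358))) (BT.node 361 (BT.node 360 (BT.node 359 (BT.leaf cJ359) (BT.leaf cJ360)) (BT.leaf cJ361)) (BT.node 362 (BT.leaf cJ362) (BT.leaf cJ363)))) (BT.node 368 (BT.node 366 (BT.node 365 (BT.node 364 (BT.leaf cJ364) (BT.leaf cJ365)) (BT.leaf cJ366)) (BT.node 367 (BT.leaf cJ367) (BT.leaf cJ368))) (BT.node 371 (BT.node 370 (BT.node 369 (BT.leaf cJ369) (BT.leaf cJ370)) (BT.leaf cJ371)) (BT.node 372 (BT.leaf cJ372) (BT.leaf cJ373))))) (BT.node 383 (BT.node 378 (BT.node 376 (BT.node 375 (BT.node 374 (BT.leaf cJ374) (BT.leaf cJ375)) (BT.leaf cJ376)) (BT.node 377 (BT.leaf cJ377) (BT.leaf cJ378))) (BT.node 381 (BT.node 380 (BT.node 379 (BT.leaf cJ379) (BT.leaf cJ380)) (BT.leaf cJ381)) (BT.node 382 (BT.leaf cJ382) (BT.leaf cJ383)))) (BT.node 388 (BT.node 386 (BT.node 385 (BT.node 384 (BT.leaf cJ384) (BT.leaf cJ385)) (BT.leaf cJ386)) (BT.node 387 (BT.leaf cJ387) (BT.leaf cJ388))) (BT.node 390 (BT.node 389 (BT.leaf cJ389) (BT.leaf cJ390)) (BT.node 391 (BT.leaf cJ391) (BT.leaf cJ392))))))) (BT.node 431 (BT.node 412 (BT.node 402 (BT.node 397 (BT.node 395 (BT.node 394 (BT.node 393 (BT.leaf cJ393) (BT.leaf cJ394)) (BT.leaf cJ395)) (BT.node 396 (BT.leaf cJ396) (BT.leaf cJ397))) (BT.node 400 (BT.node 399 (BT.node 398 (BT.leaf cJ398) (BT.leaf cJ399)) (BT.leaf cJ400)) (BT.node 401 (BT.leaf cJ401) (BT.leaf cJ402)))) (BT.node 407 (BT.node 405 (BT.node 404 (BT.node 403 (BT.leaf cJ403) (BT.leaf cJ404)) (BT.leaf cJ405)) (BT.node 406 (BT.leaf cJ406) (BT.leaf cJ407))) (BT.node 410 (BT.node 409 (BT.node 408 (BT.leaf cJ408) (BT.leaf cJ409)) (BT.leaf cJ410)) (BT.node 411 (BT.leaf cJ411) (BT.leaf cJ412))))) (BT.node 422 (BT.node 417 (BT.node 415 (BT.node 414 (BT.node 413 (BT.leaf cJ413) (BT.leaf cJ414)) (BT.leaf cJ415)) (BT.node 416 (BT.leaf cJ416) (BT.leaf cJ417))) (BT.node 420 (BT.node 419 (BT.node 418 (BT.leaf cJ418) (BT.leaf cJ419)) (BT.leaf cJ420)) (BT.node 421 (BT.leaf cJ421) (BT.leaf cJ422)))) (BT.node 427 (BT.node 425 (BT.node 424 (BT.node 423 (BT.leaf cJ423) (BT.leaf cJ424)) (BT.leaf cJ425)) (BT.node 426 (BT.leaf cJ426) (BT.leaf cJ427))) (BT.node 429 (BT.node 428 (BT.leaf cJ428) (BT.leaf cJ429)) (BT.node 430 (BT.leaf cJ430) (BT.leaf cJ431)))))) (BT.node 451 (BT.node 441 (BT.node 436 (BT.node 434 (BT.node 433 (BT.node 432 (BT.leaf cJ432) (BT.leaf cJ433)) (BT.leaf cJ434)) (BT.node 435 (BT.leaf cJ435) (BT.leaf cJ436))) (BT.node 439 (BT.node 438 (BT.node 437 (BT.leaf cJ437) (BT.leaf cJ438)) (BT.leaf cJ439)) (BT.node 440 (BT.leaf cJ440) (BT.leaf cJ441)))) (BT.node 446 (BT.node 444 (BT.node 443 (BT.node 442 (BT.leaf cJ442) (BT.leaf cJ443)) (BT.leaf cJ444)) (BT.node 445 (BT.leaf cJ445) (BT.leaf cJ446))) (BT.node 449 (BT.node 448 (BT.node 447 (BT.leaf cJ447) (BT.leaf cJ448)) (BT.leaf cJ449)) (BT.node 450 (BT.leaf cJ450) (BT.leaf cJ451))))) (BT.node 461 (BT.node 456 (BT.node 454 (BT.node 453 (BT.node 452 (BT.leaf cJ452) (BT.leaf cJ453)) (BT.leaf cJ454)) (BT.node 455 (BT.leaf cJ455) (BT.leaf cJ456))) (BT.node 459 (BT.node 458 (BT.node 457 (BT.leaf cJ457) (BT.leaf cJ458)) (BT.leaf cJ459)) (BT.node 460 (BT.leaf cJ460) (BT.leaf cJ461)))) (BT.node 466 (BT.node 464 (BT.node 463 (BT.node 462 (BT.leaf cJ462) (BT.leaf cJ463)) (BT.leaf cJ464)) (BT.node 465 (BT.leaf cJ465) (BT.leaf cJ466))) (BT.node 468 (BT.node 467 (BT.leaf cJ467) (BT.leaf cJ468)) (BT.node 469 (BT.leaf cJ469) (BT.leaf cJ470)))))))) (BT.node 548 (BT.node 509 (BT.node 490 (BT.node 480 (BT.node 475 (BT.node 473 (BT.node 472 (BT.node 471 (BT.leaf cJ471) (BT.leaf cJ472)) (BT.leaf cJ473)) (BT.node 474 (BT.leaf cJ474) (BT.leaf cJ475))) (BT.node 478 (BT.node 477 (BT.node 476 (BT.leaf cJ476) (BT.leaf cJ477)) (BT.leaf cJ478)) (BT.node 479 (BT.leaf cJ479) (BT.leaf cJ480)))) (BT.node 485 (BT.node 483 (BT.node 482 (BT.node 481 (BT.leaf cJ481) (BT.leaf cJ482)) (BT.leaf cJ483)) (BT.node 484 (BT.leaf cJ484) (BT.leaf cJ485))) (BT.node 488 (BT.node 487 (BT.node 486 (BT.leaf cJ486) (BT.leaf cJ487)) (BT.leaf cJ488)) (BT.node 489 (BT.leaf cJ489) (BT.leaf cJ490))))) (BT.node 500 (BT.node 495 (BT.node 493 (BT.node 492 (BT.node 491 (BT.leaf cJ491) (BT.leaf cJ492)) (BT.leaf cJ493)) (BT.node 494 (BT.leaf cJ494) (BT.leaf cJ495))) (BT.node 498 (BT.node 497 (BT.node 496 (BT.leaf cJ496) (BT.leaf cJ497)) (BT.leaf cJ498)) (BT.node 499 (BT.leaf cJ499) (BT.leaf cJ500)))) (BT.node 505 (BT.node 503 (BT.node 502 (BT.node 501 (BT.leaf cJ501) (BT.leaf cJ502)) (BT.leaf cJ503)) (BT.node 504 (BT.leaf cJ504) (BT.leaf cJ505))) (BT.node 507 (BT.node 506 (BT.leaf cJ506) (BT.leaf cJ507)) (BT.node 508 (BT.leaf cJ508) (BT.leaf cJ509)))))) (BT.node 529 (BT.node 519 (BT.node 514 (BT.node 512 (BT.node 511 (BT.node 510 (BT.leaf cJ510) (BT.leaf cJ511)) (BT.leaf cJ512)) (BT.node 513 (BT.leaf cJ513) (BT.leaf cJ514))) (BT.node 517 (BT.node 516 (BT.node 515 (BT.leaf cJ515) (BT.leaf cJ516)) (BT.leaf cJ517)) (BT.node 518 (BT.leaf cJ518) (BT.leaf cJ519)))) (BT.node 524 (BT.node 522 (BT.node 521 (BT.node 520 (BT.leaf cJ520) (BT.leaf cJ521)) (BT.leaf cJ522)) (BT.node 523 (BT.leaf cJ523) (BT.leaf cJ524))) (BT.node 527 (BT.node 526 (BT.node 525 (BT.leaf cJ525) (BT.leaf cJ526)) (BT.leaf cJ527)) (BT.node 528 (BT.leaf cJ528) (BT.leaf cJ529))))) (BT.node 539 (BT.node 534 (BT.node 532 (BT.node 531 (BT.node 530 (BT.leaf cJ530) (BT.leaf cJ531)) (BT.leaf cJ532)) (BT.node 533 (BT.leaf cJ533) (BT.leaf cJ534))) (BT.node 537 (BT.node 536 (BT.node 535 (BT.leaf cJ535) (BT.leaf cJ536)) (BT.leaf cJ537)) (BT.node 538 (BT.leaf cJ538) (BT.leaf cJ539)))) (BT.node 544 (BT.node 542 (BT.node 541 (BT.node 540 (BT.leaf cJ540) (BT.leaf cJ541)) (BT.leaf cJ542)) (BT.node 543 (BT.leaf cJ543) (BT.leaf cJ544))) (BT.node 546 (BT.node 545 (BT.leaf cJ545) (BT.leaf cJ546)) (BT.node 547 (BT.leaf cJ547) (BT.leaf cJ548))))))) (BT.node 587 (BT.node 568 (BT.node 558 (BT.node 553 (BT.node 551 (BT.node 550 (BT.node 549 (BT.leaf cJ549) (BT.leaf cJ550)) (BT.leaf cJ551)) (BT.node 552 (BT.leaf cJ552) (BT.leaf cJ553))) (BT.node 556 (BT.node 555 (BT.node 554 (BT.leaf cJ554) (BT.leaf cJ555)) (BT.leaf cJ556)) (BT.node 557 (BT.leaf cJ557) (BT.leaf cJ558)))) (BT.node 563 (BT.node 561 (BT.node 560 (BT.node 559 (BT.leaf cJ559) (BT.leaf cJ560)) (BT.leaf cJ561)) (BT.node 562 (BT.leaf cJ562) (BT.leaf cJ563))) (BT.node 566 (BT.node 565 (BT.node 564 (BT.leaf cJ564) (BT.leaf cJ565)) (BT.leaf cJ566)) (BT.node 567 (BT.leaf cJ567) (BT.leaf cJ568))))) (BT.node 578 (BT.node 573 (BT.node 571 (BT.node 570 (BT.node 569 (BT.leaf cJ569) (BT.leaf cJ570)) (BT.leaf cJ571)) (BT.node 572 (BT.leaf cJ572) (BT.leaf cJ573))) (BT.node 576 (BT.node 575 (BT.node 574 (BT.leaf cJ574) (BT.leaf cJ575)) (BT.leaf cJ576)) (BT.node 577 (BT.leaf cJ577) (BT.leaf cJ578)))) (BT.node 583 (BT.node 581 (BT.node 580 (BT.node 579 (BT.leaf cJ579) (BT.leaf cJ580)) (BT.leaf cJ581)) (BT.node 582 (BT.leaf cJ582) (BT.leaf cJ583))) (BT.node 585 (BT.node 584 (BT.leaf cJ584) (BT.leaf cJ585)) (BT.node 586 (BT.leaf cJ586) (BT.leaf cJ587)))))) (BT.node 607 (BT.node 597 (BT.node 592 (BT.node 590 (BT.node 589 (BT.node 588 (BT.leaf cJ588) (BT.leaf cJ589)) (BT.leaf cJ590)) (BT.node 591 (BT.leaf cJ591) (BT.leaf cJ592))) (BT.node 595 (BT.node 594 (BT.node 593 (BT.leaf cJ593) (BT.leaf cJ594)) (BT.leaf cJ595)) (BT.node 596 (BT.leaf cJ596) (BT.leaf cJ597)))) (BT.node 602 (BT.node 600 (BT.node 599 (BT.node 598 (BT.leaf cJ598) (BT.leaf cJ599)) (BT.leaf cJ600)) (BT.node 601 (BT.leaf cJ601) (BT.leaf cJ602))) (BT.node 605 (BT.node 604 (BT.node 603 (BT.leaf cJ603) (BT.leaf cJ604)) (BT.leaf cJ605)) (BT.node 606 (BT.leaf cJ606) (BT.leaf cJ607))))) (BT.node 617 (BT.node 612 (BT.node 610 (BT.node 609 (BT.node 608 (BT.leaf cJ608) (BT.leaf cJ609)) (BT.leaf cJ610)) (BT.node 611 (BT.leaf cJ611) (BT.leaf cJ612))) (BT.node 615 (BT.node 614 (BT.node 613 (BT.leaf cJ613) (BT.leaf cJ614)) (BT.leaf cJ615)) (BT.node 616 (BT.leaf cJ616) (BT.leaf cJ617)))) (BT.node 622 (BT.node 620 (BT.node 619 (BT.node 618 (BT.leaf cJ618) (BT.leaf cJ619)) (BT.leaf cJ620)) (BT.node 621 (BT.leaf cJ621) (BT.leaf cJ622))) (BT.node 624 (BT.node 623 (BT.leaf cJ623) (BT.leaf cJ624)) (BT.node 625 (BT.leaf cJ625) (BT.leaf cJ626)))))))))) (BT.node 939 (BT.node 783 (BT.node 705 (BT.node 666 (BT.node 646 (BT.node 636 (BT.node 631 (BT.node 629 (BT.node 628 (BT.node 627 (BT.leaf cJ627) (BT.leaf cJ628)) (BT.leaf cJ629)) (BT.node 630 (BT.leaf cJ630) (BT.leaf cJ631))) (BT.node 634 (BT.node 633 (BT.node 632 (BT.leaf cJ632) (BT.leaf cJ633)) (BT.leaf cJ634)) (BT.node 635 (BT.leaf cJ635) (BT.leaf cJ636)))) (BT.node 641 (BT.node 639 (BT.node 638 (BT.node 637 (BT.leaf cJ637) (BT.leaf cJ638)) (BT.leaf cJ639)) (BT.node 640 (BT.leaf cJ640) (BT.leaf cJ641))) (BT.node 644 (BT.node 643 (BT.node 642 (BT.leaf cJ642) (BT.leaf cJ643)) (BT.leaf cJ644)) (BT.node 645 (BT.leaf cJ645) (BT.leaf cJ646))))) (BT.node 656 (BT.node 651 (BT.node 649 (BT.node 648 (BT.node 647 (BT.leaf cJ647) (BT.leaf cJ648)) (BT.leaf cJ649)) (BT.node 650 (BT.leaf cJ650) (BT.leaf cJ651))) (BT.node 654 (BT.node 653 (BT.node 652 (BT.leaf cJ652) (BT.leaf cJ653)) (BT.leaf cJ654)) (BT.node 655 (BT.leaf cJ655) (BT.leaf cJ656)))) (BT.node 661 (BT.node 659 (BT.node 658 (BT.node 657 (BT.leaf cJ657) (BT.leaf cJ658)) (BT.leaf cJ659)) (BT.node 660 (BT.leaf cJ660) (BT.leaf cJ661))) (BT.node 664 (BT.node 663 (BT.node 662 (BT.leaf cJ662) (BT.leaf cJ663)) (BT.leaf cJ664)) (BT.node 665 (BT.leaf cJ665) (BT.leaf cJ666)))))) (BT.node 686 (BT.node 676 (BT.node 671 (BT.node 669 (BT.node 668 (BT.node 667 (BT.leaf cJ667) (BT.leaf cJ668)) (BT.leaf cJ669)) (BT.node 670 (BT.leaf cJ670) (BT.leaf cJ671))) (BT.node 674 (BT.node 673 (BT.node 672 (BT.leaf cJ672) (BT.leaf cJ673)) (BT.leaf cJ674)) (BT.node 675 (BT.leaf cJ675) (BT.leaf cJ676)))) (BT.node 681 (BT.node 679 (BT.node 678 (BT.node 677 (BT.leaf cJ677) (BT.leaf cJ678)) (BT.leaf cJ679)) (BT.node 680 (BT.leaf cJ680) (BT.leaf cJ681))) (BT.node 684 (BT.node 683 (BT.node 682 (BT.leaf cJ682) (BT.leaf cJ683)) (BT.leaf cJ684)) (BT.node 685 (BT.leaf cJ685) (BT.leaf cJ686))))) (BT.node 696 (BT.node 691 (BT.node 689 (BT.node 688 (BT.node 687 (BT.leaf cJ687) (BT.leaf cJ688)) (BT.leaf cJ689)) (BT.node 690 (BT.leaf cJ690) (BT.leaf cJ691))) (BT.node 694 (BT.node 693 (BT.node 692 (BT.leaf cJ692) (BT.leaf cJ693)) (BT.leaf cJ694)) (BT.node 695 (BT.leaf cJ695) (BT.leaf cJ696)))) (BT.node 701 (BT.node 699 (BT.node 698 (BT.node 697 (BT.leaf cJ697) (BT.leaf cJ698)) (BT.leaf cJ699)) (BT.node 700 (BT.leaf cJ700) (BT.leaf cJ701))) (BT.node 703 (BT.node 702 (BT.leaf cJ702) (BT.leaf cJ703)) (BT.node 704 (BT.leaf cJ704) (BT.leaf cJ705))))))) (BT.node 744 (BT.node 725 (BT.node 715 (BT.node 710 (BT.node 708 (BT.node 707 (BT.node 706 (BT.leaf cJ706) (BT.leaf cJ707)) (BT.leaf cJ708)) (BT.node 709 (BT.leaf cJ709) (BT.leaf cJ710))) (BT.node 713 (BT.node 712 (BT.node 711 (BT.leaf cJ711) (BT.leaf cJ712)) (BT.leaf cJ713)) (BT.node 714 (BT.leaf cJ714) (BT.leaf cJ715)))) (BT.node 720 (BT.node 718 (BT.node 717 (BT.node 716 (BT.leaf cJ716) (BT.leaf cJ717)) (BT.leaf cJ718)) (BT.node 719 (BT.leaf cJ719) (BT.leaf cJ720))) (BT.node 723 (BT.node 722 (BT.node 721 (BT.leaf cJ721) (BT.leaf cJ722)) (BT.leaf cJ723)) (BT.node 724 (BT.leaf cJ724) (BT.leaf cJ725))))) (BT.node 735 (BT.node 730 (BT.node 728 (BT.node 727 (BT.node 726 (BT.leaf cJ726) (BT.leaf cJ727)) (BT.leaf cJ728)) (BT.node 729 (BT.leaf cJ729) (BT.leaf cJ730))) (BT.node 733 (BT.node 732 (BT.node 731 (BT.leaf cJ731) (BT.leaf cJ732)) (BT.leaf cJ733)) (BT.node 734 (BT.leaf cJ734) (BT.leaf cJ735)))) (BT.node 740 (BT.node 738 (BT.node 737 (BT.node 736 (BT.leaf cJ736) (BT.leaf cJ737)) (BT.leaf cJ738)) (BT.node 739 (BT.leaf cJ739) (BT.leaf cJ740))) (BT.node 742 (BT.node 741 (BT.leaf cJ741) (BT.leaf cJ742)) (BT.node 743 (BT.leaf cJ743) (BT.leaf cJ744)))))) (BT.node 764 (BT.node 754 (BT.node 749 (BT.node 747 (BT.node 746 (BT.node 745 (BT.leaf cJ745) (BT.leaf cJ746)) (BT.leaf cJ747)) (BT.node 748 (BT.leaf cJ748) (BT.leaf cJ749))) (BT.node 752 (BT.node 751 (BT.node 750 (BT.leaf cJ750) (BT.leaf cJ751)) (BT.leaf cJ752)) (BT.node 753 (BT.leaf cJ753) (BT.leaf cJ754)))) (BT.node 759 (BT.node 757 (BT.node 756 (BT.node 755 (BT.leaf cJ755) (BT.leaf cJ756)) (BT.leaf cJ757)) (BT.node 758 (BT.leaf cJ758) (BT.leaf cJ759))) (BT.node 762 (BT.node 761 (BT.node 760 (BT.leaf cJ760) (BT.leaf cJ761)) (BT.leaf cJ762)) (BT.node 763 (BT.leaf cJ763) (BT.leaf cJ764))))) (BT.node 774 (BT.node 769 (BT.node 767 (BT.node 766 (BT.node 765 (BT.leaf cJ765) (BT.leaf cJ766)) (BT.leaf cJ767)) (BT.node 768 (BT.leaf cJ768) (BT.leaf cJ769))) (BT.node 772 (BT.node 771 (BT.node 770 (BT.leaf cJ770) (BT.leaf cJ771)) (BT.leaf cJ772)) (BT.node 773 (BT.leaf cJ773) (BT.leaf cJ774)))) (BT.node 779 (BT.node 777 (BT.node 776 (BT.node 775 (BT.leaf cJ775) (BT.leaf cJ776)) (BT.leaf cJ777)) (BT.node 778 (BT.leaf cJ778) (BT.leaf cJ779))) (BT.node 781 (BT.node 780 (BT.leaf cJ780) (BT.leaf cJ781)) (BT.node 782 (BT.leaf cJ782) (BT.leaf cJ783)))))))) (BT.node 861 (BT.node 822 (BT.node 803 (BT.node 793 (BT.node 788 (BT.node 786 (BT.node 785 (BT.node 784 (BT.leaf cJ784) (BT.leaf cJ785)) (BT.leaf cJ786)) (BT.node 787 (BT.leaf cJ787) (BT.leaf cJ788))) (BT.node 791 (BT.node 790 (BT.node 789 (BT.leaf cJ789) (BT.leaf cJ790)) (BT.leaf cJ791)) (BT.node 792 (BT.leaf cJ792) (BT.leaf cJ793)))) (BT.node 798 (BT.node 796 (BT.node 795 (BT.node 794 (BT.leaf cJ794) (BT.leaf cJ795)) (BT.leaf cJ796)) (BT.node 797 (BT.leaf cJ797) (BT.leaf cJ798))) (BT.node 801 (BT.node 800 (BT.node 799 (BT.leaf cJ799) (BT.leaf cJ800)) (BT.leaf cJ801)) (BT.node 802 (BT.leaf cJ802) (BT.leaf cJ803))))) (BT.node 813 (BT.node 808 (BT.node 806 (BT.node 805 (BT.node 804 (BT.leaf cJ804) (BT.leaf cJ805)) (BT.leaf cJ806)) (BT.node 807 (BT.leaf cJ807) (BT.leaf cJ808))) (BT.node 811 (BT.node 810 (BT.node 809 (BT.leaf cJ809) (BT.leaf cJ810)) (BT.leaf cJ811)) (BT.node 812 (BT.leaf cJ812) (BT.leaf cJ813)))) (BT.node 818 (BT.node 816 (BT.node 815 (BT.node 814 (BT.leaf cJ814) (BT.leaf cJ815)) (BT.leaf cJ816)) (BT.node 817 (BT.leaf cJ817) (BT.leaf cJ818))) (BT.node 820 (BT.node 819 (BT.leaf cJ819) (BT.leaf cJ820)) (BT.node 821 (BT.leaf cJ821) (BT.leaf cJ822)))))) (BT.node 842 (BT.node 832 (BT.node 827 (BT.node 825 (BT.node 824 (BT.node 823 (BT.leaf cJ823) (BT.leaf cJ824)) (BT.leaf cJ825)) (BT.node 826 (BT.leaf cJ826) (BT.leaf cJ827))) (BT.node 830 (BT.node 829 (BT.node 828 (BT.leaf cJ828) (BT.leaf cJ829)) (BT.leaf cJ830)) (BT.node 831 (BT.leaf cJ831) (BT.leaf cJ832)))) (BT.node 837 (BT.node 835 (BT.node 834 (BT.node 833 (BT.leaf cJ833) (BT.leaf cJ834)) (BT.leaf cJ835)) (BT.node 836 (BT.leaf cJ836) (BT.leaf cJ837))) (BT.node 840 (BT.node 839 (BT.node 838 (BT.leaf cJ838) (BT.leaf cJ839)) (BT.leaf cJ840)) (BT.node 841 (BT.leaf cJ841) (BT.leaf cJ842))))) (BT.node 852 (BT.node 847 (BT.node 845 (BT.node 844 (BT.node 843 (BT.leaf cJ843) (BT.leaf cJ844)) (BT.leaf cJ845)) (BT.node 846 (BT.leaf cJ846) (BT.leaf cJ847))) (BT.node 850 (BT.node 849 (BT.node 848 (BT.leaf cJ848) (BT.leaf cJ849)) (BT.leaf cJ850)) (BT.node 851 (BT.leaf cJ851) (BT.leaf cJ852)))) (BT.node 857 (BT.node 855 (BT.node 854 (BT.node 853 (BT.leaf cJ853) (BT.leaf cJ854)) (BT.leaf cJ855)) (BT.node 856 (BT.leaf cJ856) (BT.leaf cJ857))) (BT.node 859 (BT.node 858 (BT.leaf cJ858) (BT.leaf cJ859)) (BT.node 860 (BT.leaf cJ860) (BT.leaf cJ861))))))) (BT.node 900 (BT.node 881 (BT.node 871 (BT.node 866 (BT.node 864 (BT.node 863 (BT.node 862 (BT.leaf cJ862) (BT.leaf cJ863)) (BT.leaf cJ864)) (BT.node 865 (BT.leaf cJ865) (BT.leaf cJ866))) (BT.node 869 (BT.node 868 (BT.node 867 (BT.leaf cJ867) (BT.leaf cJ868)) (BT.leaf cJ869)) (BT.node 870 (BT.leaf cJ870) (BT.leaf cJ871)))) (BT.node 876 (BT.node 874 (BT.node 873 (BT.node 872 (BT.leaf cJ872) (BT.leaf cJ873)) (BT.leaf cJ874)) (BT.node 875 (BT.leaf cJ875) (BT.leaf cJ876))) (BT.node 879 (BT.node 878 (BT.node 877 (BT.leaf cJ877) (BT.leaf cJ878)) (BT.leaf cJ879)) (BT.node 880 (BT.leaf cJ880) (BT.leaf cJ881))))) (BT.node 891 (BT.node 886 (BT.node 884 (BT.node 883 (BT.node 882 (BT.leaf cJ882) (BT.leaf cJ883)) (BT.leaf cJ884)) (BT.node 885 (BT.leaf cJ885) (BT.leaf cJ886))) (BT.node 889 (BT.node 888 (BT.node 887 (BT.leaf cJ887) (BT.leaf cJ888)) (BT.leaf cJ889)) (BT.node 890 (BT.leaf cJ890) (BT.leaf cJ891)))) (BT.node 896 (BT.node 894 (BT.node 893 (BT.node 892 (BT.leaf cJ892) (BT.leaf cJ893)) (BT.leaf cJ894)) (BT.node 895 (BT.leaf cJ895) (BT.leaf cJ896))) (BT.node 898 (BT.node 897 (BT.leaf cJ897) (BT.leaf cJ898)) (BT.node 899 (BT.leaf cJ899) (BT.leaf cJ900)))))) (BT.node 920 (BT.node 910 (BT.node 905 (BT.node 903 (BT.node 902 (BT.node 901 (BT.leaf cJ901) (BT.leaf cJ902)) (BT.leaf cJ903)) (BT.node 904 (BT.leaf cJ904) (BT.leaf cJ905))) (BT.node 908 (BT.node 907 (BT.node 906 (BT.leaf cJ906) (BT.leaf cJ907)) (BT.leaf cJ908)) (BT.node 909 (BT.leaf cJ909) (BT.leaf cJ910)))) (BT.node 915 (BT.node 913 (BT.node 912 (BT.node 911 (BT.leaf cJ911) (BT.leaf cJ912)) (BT.leaf cJ913)) (BT.node 914 (BT.leaf cJ914) (BT.leaf cJ915))) (BT.node 918 (BT.node 917 (BT.node 916 (BT.leaf cJ916) (BT.leaf cJ917)) (BT.leaf cJ918)) (BT.node 919 (BT.leaf cJ919) (BT.leaf cJ920))))) (BT.node 930 (BT.node 925 (BT.node 923 (BT.node 922 (BT.node 921 (BT.leaf cJ921) (BT.leaf cJ922)) (BT.leaf cJ923)) (BT.node 924 (BT.leaf cJ924) (BT.leaf cJ925))) (BT.node 928 (BT.node 927 (BT.node 926 (BT.leaf cJ926) (BT.leaf cJ927)) (BT.leaf cJ928)) (BT.node 929 (BT.leaf cJ929) (BT.leaf cJ930)))) (BT.node 935 (BT.node 933 (BT.node 932 (BT.node 931 (BT.leaf cJ931) (BT.leaf cJ932)) (BT.leaf cJ933)) (BT.node 934 (BT.leaf cJ934) (BT.leaf cJ935))) (BT.node 937 (BT.node 936 (BT.leaf cJ936) (BT.leaf cJ937)) (BT.node 938 (BT.leaf cJ938) (BT.leaf cJ939))))))))) (BT.node 1096 (BT.node 1018 (BT.node 979 (BT.node 959 (BT.node 949 (BT.node 944 (BT.node 942 (BT.node 941 (BT.node 940 (BT.leaf cJ940) (BT.leaf cJ941)) (BT.leaf cJ942)) (BT.node 943 (BT.leaf cJ943) (BT.leaf cJ944))) (BT.node 947 (BT.node 946 (BT.node 945 (BT.leaf cJ945) (BT.leaf cJ946)) (BT.leaf cJ947)) (BT.node 948 (BT.leaf cJ948) (BT.leaf cJ949)))) (BT.node 954 (BT.node 952 (BT.node 951 (BT.node 950 (BT.leaf cJ950) (BT.leaf cJ951)) (BT.leaf cJ952)) (BT.node 953 (BT.leaf cJ953) (BT.leaf cJ954))) (BT.node 957 (BT.node 956 (BT.node 955 (BT.leaf cJ955) (BT.leaf cJ956)) (BT.leaf cJ957)) (BT.node 958 (BT.leaf cJ958) (BT.leaf cJ959))))) (BT.node 969 (BT.node 964 (BT.node 962 (BT.node 961 (BT.node 960 (BT.leaf cJ960) (BT.leaf cJ961)) (BT.leaf cJ962)) (BT.node 963 (BT.leaf cJ963) (BT.leaf cJ964))) (BT.node 967 (BT.node 966 (BT.node 965 (BT.leaf cJ965) (BT.leaf cJ966)) (BT.leaf cJ967)) (BT.node 968 (BT.leaf cJ968) (BT.leaf cJ969)))) (BT.node 974 (BT.node 972 (BT.node 971 (BT.node 970 (BT.leaf cJ970) (BT.leaf cJ971)) (BT.leaf cJ972)) (BT.node 973 (BT.leaf cJ973) (BT.leaf cJ974))) (BT.node 977 (BT.node 976 (BT.node 975 (BT.leaf cJ975) (BT.leaf cJ976)) (BT.leaf cJ977)) (BT.node 978 (BT.leaf cJ978) (BT.leaf cJ979)))))) (BT.node 999 (BT.node 989 (BT.node 984 (BT.node 982 (BT.node 981 (BT.node 980 (BT.leaf cJ980) (BT.leaf cJ981)) (BT.leaf cJ982)) (BT.node 983 (BT.leaf cJ983) (BT.leaf cJ984))) (BT.node 987 (BT.node 986 (BT.node 985 (BT.leaf cJ985) (BT.leaf cJ986)) (BT.leaf cJ987)) (BT.node 988 (BT.leaf cJ988) (BT.leaf cJ989)))) (BT.node 994 (BT.node 992 (BT.node 991 (BT.node 990 (BT.leaf cJ990) (BT.leaf cJ991)) (BT.leaf cJ992)) (BT.node 993 (BT.leaf cJ993) (BT.leaf cJ994))) (BT.node 997 (BT.node 996 (BT.node 995 (BT.leaf cJ995) (BT.leaf cJ996)) (BT.leaf cJ997)) (BT.node 998 (BT.leaf cJ998) (BT.leaf cJ999))))) (BT.node 1009 (BT.node 1004 (BT.node 1002 (BT.node 1001 (BT.node 1000 (BT.leaf cJ1000) (BT.leaf cJ1001)) (BT.leaf cJ1002)) (BT.node 1003 (BT.leaf cJ1003) (BT.leaf cJ1004))) (BT.node 1007 (BT.node 1006 (BT.node 1005 (BT.leaf cJ1005) (BT.leaf cJ1006)) (BT.leaf cJ1007)) (BT.node 1008 (BT.leaf cJ1008) (BT.leaf cJ1009)))) (BT.node 1014 (BT.node 1012 (BT.node 1011 (BT.node 1010 (BT.leaf cJ1010) (BT.leaf cJ1011)) (BT.leaf cJ1012)) (BT.node 1013 (BT.leaf cJ1013) (BT.leaf cJ1014))) (BT.node 1016 (BT.node 1015 (BT.leaf cJ1015) (BT.leaf cJ1016)) (BT.node 1017 (BT.leaf cJ1017) (BT.leaf cJ1018))))))) (BT.node 1057 (BT.node 1038 (BT.node 1028 (BT.node 1023 (BT.node 1021 (BT.node 1020 (BT.node 1019 (BT.leaf cJ1019) (BT.leaf cJ1020)) (BT.leaf cJ1021)) (BT.node 1022 (BT.leaf cJ1022) (BT.leaf cJ1023))) (BT.node 1026 (BT.node 1025 (BT.node 1024 (BT.leaf cJ1024) (BT.leaf cJ1025)) (BT.leaf cJ1026)) (BT.node 1027 (BT.leaf cJ1027) (BT.leaf cJ1028)))) (BT.node 1033 (BT.node 1031 (BT.node 1030 (BT.node 1029 (BT.leaf cJ1029) (BT.leaf cJ1030)) (BT.leaf cJ1031)) (BT.node 1032 (BT.leaf cJ1032) (BT.leaf cJ1033))) (BT.node 1036 (BT.node 1035 (BT.node 1034 (BT.leaf cJ1034) (BT.leaf cJ1035)) (BT.leaf cJ1036)) (BT.node 1037 (BT.leaf cJ1037) (BT.leaf cJ1038))))) (BT.node 1048 (BT.node 1043 (BT.node 1041 (BT.node 1040 (BT.node 1039 (BT.leaf cJ1039) (BT.leaf cJ1040)) (BT.leaf cJ1041)) (BT.node 1042 (BT.leaf cJ1042) (BT.leaf cJ1043))) (BT.node 1046 (BT.node 1045 (BT.node 1044 (BT.leaf cJ1044) (BT.leaf cJ1045)) (BT.leaf cJ1046)) (BT.node 1047 (BT.leaf cJ1047) (BT.leaf cJ1048)))) (BT.node 1053 (BT.node 1051 (BT.node 1050 (BT.node 1049 (BT.leaf cJ1049) (BT.leaf cJ1050)) (BT.leaf cJ1051)) (BT.node 1052 (BT.leaf cJ1052) (BT.leaf cJ1053))) (BT.node 1055 (BT.node 1054 (BT.leaf cJ1054) (BT.leaf cJ1055)) (BT.node 1056 (BT.leaf cJ1056) (BT.leaf cJ1057)))))) (BT.node 1077 (BT.node 1067 (BT.node 1062 (BT.node 1060 (BT.node 1059 (BT.node 1058 (BT.leaf cJ1058) (BT.leaf cJ1059)) (BT.leaf cJ1060)) (BT.node 1061 (BT.leaf cJ1061) (BT.leaf cJ1062))) (BT.node 1065 (BT.node 1064 (BT.node 1063 (BT.leaf cJ1063) (BT.leaf cJ1064)) (BT.leaf cJ1065)) (BT.node 1066 (BT.leaf cJ1066) (BT.leaf cJ1067)))) (BT.node 1072 (BT.node 1070 (BT.node 1069 (BT.node 1068 (BT.leaf cJ1068) (BT.leaf cJ1069)) (BT.leaf cJ1070)) (BT.node 1071 (BT.leaf cJ1071) (BT.leaf cJ1072))) (BT.node 1075 (BT.node 1074 (BT.node 1073 (BT.leaf cJ1073) (BT.leaf cJ1074)) (BT.leaf cJ1075)) (BT.node 1076 (BT.leaf cJ1076) (BT.leaf cJ1077))))) (BT.node 1087 (BT.node 1082 (BT.node 1080 (BT.node 1079 (BT.node 1078 (BT.leaf cJ1078) (BT.leaf cJ1079)) (BT.leaf cJ1080)) (BT.node 1081 (BT.leaf cJ1081) (BT.leaf cJ1082))) (BT.node 1085 (BT.node 1084 (BT.node 1083 (BT.leaf cJ1083) (BT.leaf cJ1084)) (BT.leaf cJ1085)) (BT.node 1086 (BT.leaf cJ1086) (BT.leaf cJ1087)))) (BT.node 1092 (BT.node 1090 (BT.node 1089 (BT.node 1088 (BT.leaf cJ1088) (BT.leaf cJ1089)) (BT.leaf cJ1090)) (BT.node 1091 (BT.leaf cJ1091) (BT.leaf cJ1092))) (BT.node 1094 (BT.node 1093 (BT.leaf cJ1093) (BT.leaf cJ1094)) (BT.node 1095 (BT.leaf cJ1095) (BT.leaf cJ1096)))))))) (BT.node 1174 (BT.node 1135 (BT.node 1116 (BT.node 1106 (BT.node 1101 (BT.node 1099 (BT.node 1098 (BT.node 1097 (BT.leaf cJ1097) (BT.leaf cJ1098)) (BT.leaf cJ1099)) (BT.node 1100 (BT.leaf cJ1100) (BT.leaf cJ1101))) (BT.node 1104 (BT.node 1103 (BT.node 1102 (BT.leaf cJ1102) (BT.leaf cJ1103)) (BT.leaf cJ1104)) (BT.node 1105 (BT.leaf cJ1105) (BT.leaf cJ1106)))) (BT.node 1111 (BT.node 1109 (BT.node 1108 (BT.node 1107 (BT.leaf cJ1107) (BT.leaf cJ1108)) (BT.leaf cJ1109)) (BT.node 1110 (BT.leaf cJ1110) (BT.leaf cJ1111))) (BT.node 1114 (BT.node 1113 (BT.node 1112 (BT.leaf cJ1112) (BT.leaf cJ1113)) (BT.leaf cJ1114)) (BT.node 1115 (BT.leaf cJ1115) (BT.leaf cJ1116))))) (BT.node 1126 (BT.node 1121 (BT.node 1119 (BT.node 1118 (BT.node 1117 (BT.leaf cJ1117) (BT.leaf cJ1118)) (BT.leaf cJ1119)) (BT.node 1120 (BT.leaf cJ1120) (BT.leaf cJ1121))) (BT.node 1124 (BT.node 1123 (BT.node 1122 (BT.leaf cJ1122) (BT.leaf cJ1123)) (BT.leaf cJ1124)) (BT.node 1125 (BT.leaf cJ1125) (BT.leaf cJ1126)))) (BT.node 1131 (BT.node 1129 (BT.node 1128 (BT.node 1127 (BT.leaf cJ1127) (BT.leaf cJ1128)) (BT.leaf cJ1129)) (BT.node 1130 (BT.leaf cJ1130) (BT.leaf cJ1131))) (BT.node 1133 (BT.node 1132 (BT.leaf cJ1132) (BT.leaf cJ1133)) (BT.node 1134 (BT.leaf cJ1134) (BT.leaf cJ1135)))))) (BT.node 1155 (BT.node 1145 (BT.node 1140 (BT.node 1138 (BT.node 1137 (BT.node 1136 (BT.leaf cJ1136) (BT.leaf cJ1137)) (BT.leaf cJ1138)) (BT.node 1139 (BT.leaf cJ1139) (BT.leaf cJ1140))) (BT.node 1143 (BT.node 1142 (BT.node 1141 (BT.leaf cJ1141) (BT.leaf cJ1142)) (BT.leaf cJ1143)) (BT.node 1144 (BT.leaf cJ1144) (BT.leaf cJ1145)))) (BT.node 1150 (BT.node 1148 (BT.node 1147 (BT.node 1146 (BT.leaf cJ1146) (BT.leaf cJ1147)) (BT.leaf cJ1148)) (BT.node 1149 (BT.leaf cJ1149) (BT.leaf cJ1150))) (BT.node 1153 (BT.node 1152 (BT.node 1151 (BT.leaf cJ1151) (BT.leaf cJ1152)) (BT.leaf cJ1153)) (BT.node 1154 (BT.leaf cJ1154) (BT.leaf cJ1155))))) (BT.node 1165 (BT.node 1160 (BT.node 1158 (BT.node 1157 (BT.node 1156 (BT.leaf cJ1156) (BT.leaf cJ1157)) (BT.leaf cJ1158)) (BT.node 1159 (BT.leaf cJ1159) (BT.leaf cJ1160))) (BT.node 1163 (BT.node 1162 (BT.node 1161 (BT.leaf cJ1161) (BT.leaf cJ1162)) (BT.leaf cJ1163)) (BT.node 1164 (BT.leaf cJ1164) (BT.leaf cJ1165)))) (BT.node 1170 (BT.node 1168 (BT.node 1167 (BT.node 1166 (BT.leaf cJ1166) (BT.leaf cJ1167)) (BT.leaf cJ1168)) (BT.node 1169 (BT.leaf cJ1169) (BT.leaf cJ1170))) (BT.node 1172 (BT.node 1171 (BT.leaf cJ1171) (BT.leaf cJ1172)) (BT.node 1173 (BT.leaf cJ1173) (BT.leaf cJ1174))))))) (BT.node 1213 (BT.node 1194 (BT.node 1184 (BT.node 1179 (BT.node 1177 (BT.node 1176 (BT.node 1175 (BT.leaf cJ1175) (BT.leaf cJ1176)) (BT.leaf cJ1177)) (BT.node 1178 (BT.leaf cJ1178) (BT.leaf cJ1179))) (BT.node 1182 (BT.node 1181 (BT.node 1180 (BT.leaf cJ1180) (BT.leaf cJ1181)) (BT.leaf cJ1182)) (BT.node 1183 (BT.leaf cJ1183) (BT.leaf cJ1184)))) (BT.node 1189 (BT.node 1187 (BT.node 1186 (BT.node 1185 (BT.leaf cJ1185) (BT.leaf cJ1186)) (BT.leaf cJ1187)) (BT.node 1188 (BT.leaf cJ1188) (BT.leaf cJ1189))) (BT.node 1192 (BT.node 1191 (BT.node 1190 (BT.leaf cJ1190) (BT.leaf cJ1191)) (BT.leaf cJ1192)) (BT.node 1193 (BT.leaf cJ1193) (BT.leaf cJ1194))))) (BT.node 1204 (BT.node 1199 (BT.node 1197 (BT.node 1196 (BT.node 1195 (BT.leaf cJ1195) (BT.leaf cJ1196)) (BT.leaf cJ1197)) (BT.node 1198 (BT.leaf cJ1198) (BT.leaf cJ1199))) (BT.node 1202 (BT.node 1201 (BT.node 1200 (BT.leaf cJ1200) (BT.leaf cJ1201)) (BT.leaf cJ1202)) (BT.node 1203 (BT.leaf cJ1203) (BT.leaf cJ1204)))) (BT.node 1209 (BT.node 1207 (BT.node 1206 (BT.node 1205 (BT.leaf cJ1205) (BT.leaf cJ1206)) (BT.leaf cJ1207)) (BT.node 1208 (BT.leaf cJ1208) (BT.leaf cJ1209))) (BT.node 1211 (BT.node 1210 (BT.leaf cJ1210) (BT.leaf cJ1211)) (BT.node 1212 (BT.leaf cJ1212) (BT.leaf cJ1213)))))) (BT.node 1233 (BT.node 1223 (BT.node 1218 (BT.node 1216 (BT.node 1215 (BT.node 1214 (BT.leaf cJ1214) (BT.leaf cJ1215)) (BT.leaf cJ1216)) (BT.node 1217 (BT.leaf cJ1217) (BT.leaf cJ1218))) (BT.node 1221 (BT.node 1220 (BT.node 1219 (BT.leaf cJ1219) (BT.leaf cJ1220)) (BT.leaf cJ1221)) (BT.node 1222 (BT.leaf cJ1222) (BT.leaf cJ1223)))) (BT.node 1228 (BT.node 1226 (BT.node 1225 (BT.node 1224 (BT.leaf cJ1224) (BT.leaf cJ1225)) (BT.leaf cJ1226)) (BT.node 1227 (BT.leaf cJ1227) (BT.leaf cJ1228))) (BT.node 1231 (BT.node 1230 (BT.node 1229 (BT.leaf cJ1229) (BT.leaf cJ1230)) (BT.leaf cJ1231)) (BT.node 1232 (BT.leaf cJ1232) (BT.leaf cJ1233))))) (BT.node 1243 (BT.node 1238 (BT.node 1236 (BT.node 1235 (BT.node 1234 (BT.leaf cJ1234) (BT.leaf cJ1235)) (BT.leaf cJ1236)) (BT.node 1237 (BT.leaf cJ1237) (BT.leaf cJ1238))) (BT.node 1241 (BT.node 1240 (BT.node 1239 (BT.leaf cJ1239) (BT.leaf cJ1240)) (BT.leaf cJ1241)) (BT.node 1242 (BT.leaf cJ1242) (BT.leaf cJ1243)))) (BT.node 1248 (BT.node 1246 (BT.node 1245 (BT.node 1244 (BT.leaf cJ1244) (BT.leaf cJ1245)) (BT.leaf cJ1246)) (BT.node 1247 (BT.leaf cJ1247) (BT.leaf cJ1248))) (BT.node 1250 (BT.node 1249 (BT.leaf cJ1249) (BT.leaf cJ1250)) (BT.node 1251 (BT.leaf cJ1251) (BT.leaf cJ1252))))))))))) (BT.node 1879 (BT.node 1566 (BT.node 1409 (BT.node 1331 (BT.node 1292 (BT.node 1272 (BT.node 1262 (BT.node 1257 (BT.node 1255 (BT.node 1254 (BT.node 1253 (BT.leaf cJ1253) (BT.leaf cJ1254)) (BT.leaf cJ1255)) (BT.node 1256 (BT.leaf cJ1256) (BT.leaf cJ1257))) (BT.node 1260 (BT.node 1259 (BT.node 1258 (BT.leaf cJ1258) (BT.leaf cJ1259)) (BT.leaf cJ1260)) (BT.node 1261 (BT.leaf cJ1261) (BT.leaf cJ1262)))) (BT.node 1267 (BT.node 1265 (BT.node 1264 (BT.node 1263 (BT.leaf cJ1263) (BT.leaf cJ1264)) (BT.leaf cJ1265)) (BT.node 1266 (BT.leaf cJ1266) (BT.leaf cJ1267))) (BT.node 1270 (BT.node 1269 (BT.node 1268 (BT.leaf cJ1268) (BT.leaf cJ1269)) (BT.leaf cJ1270)) (BT.node 1271 (BT.leaf cJ1271) (BT.leaf cJ1272))))) (BT.node 1282 (BT.node 1277 (BT.node 1275 (BT.node 1274 (BT.node 1273 (BT.leaf cJ1273) (BT.leaf cJ1274)) (BT.leaf cJ1275)) (BT.node 1276 (BT.leaf cJ1276) (BT.leaf cJ1277))) (BT.node 1280 (BT.node 1279 (BT.node 1278 (BT.leaf cJ1278) (BT.leaf cJ1279)) (BT.leaf cJ1280)) (BT.node 1281 (BT.leaf cJ1281) (BT.leaf cJ1282)))) (BT.node 1287 (BT.node 1285 (BT.node 1284 (BT.node 1283 (BT.leaf cJ1283) (BT.leaf cJ1284)) (BT.leaf cJ1285)) (BT.node 1286 (BT.leaf cJ1286) (BT.leaf cJ1287))) (BT.node 1290 (BT.node 1289 (BT.node 1288 (BT.leaf cJ1288) (BT.leaf cJ1289)) (BT.leaf cJ1290)) (BT.node 1291 (BT.leaf cJ1291) (BT.leaf cJ1292)))))) (BT.node 1312 (BT.node 1302 (BT.node 1297 (BT.node 1295 (BT.node 1294 (BT.node 1293 (BT.leaf cJ1293) (BT.leaf cJ1294)) (BT.leaf cJ1295)) (BT.node 1296 (BT.leaf cJ1296) (BT.leaf cJ1297))) (BT.node 1300 (BT.node 1299 (BT.node 1298 (BT.leaf cJ1298) (BT.leaf cJ1299)) (BT.leaf cJ1300)) (BT.node 1301 (BT.leaf cJ1301) (BT.leaf cJ1302)))) (BT.node 1307 (BT.node 1305 (BT.node 1304 (BT.node 1303 (BT.leaf cJ1303) (BT.leaf cJ1304)) (BT.leaf cJ1305)) (BT.node 1306 (BT.leaf cJ1306) (BT.leaf cJ1307))) (BT.node 1310 (BT.node 1309 (BT.node 1308 (BT.leaf cJ1308) (BT.leaf cJ1309)) (BT.leaf cJ1310)) (BT.node 1311 (BT.leaf cJ1311) (BT.leaf cJ1312))))) (BT.node 1322 (BT.node 1317 (BT.node 1315 (BT.node 1314 (BT.node 1313 (BT.leaf cJ1313) (BT.leaf cJ1314)) (BT.leaf cJ1315)) (BT.node 1316 (BT.leaf cJ1316) (BT.leaf cJ1317))) (BT.node 1320 (BT.node 1319 (BT.node 1318 (BT.leaf cJ1318) (BT.leaf cJ1319)) (BT.leaf cJ1320)) (BT.node 1321 (BT.leaf cJ1321) (BT.leaf cJ1322)))) (BT.node 1327 (BT.node 1325 (BT.node 1324 (BT.node 1323 (BT.leaf cJ1323) (BT.leaf cJ1324)) (BT.leaf cJ1325)) (BT.node 1326 (BT.leaf cJ1326) (BT.leaf cJ1327))) (BT.node 1329 (BT.node 1328 (BT.leaf cJ1328) (BT.leaf cJ1329)) (BT.node 1330 (BT.leaf cJ1330) (BT.leaf cJ1331))))))) (BT.node 1370 (BT.node 1351 (BT.node 1341 (BT.node 1336 (BT.node 1334 (BT.node 1333 (BT.node 1332 (BT.leaf cJ1332) (BT.leaf cJ1333)) (BT.leaf cJ1334)) (BT.node 1335 (BT.leaf cJ1335) (BT.leaf cJ1336))) (BT.node 1339 (BT.node 1338 (BT.node 1337 (BT.leaf cJ1337) (BT.leaf cJ1338)) (BT.leaf cJ1339)) (BT.node 1340 (BT.leaf cJ1340) (BT.leaf cJ1341)))) (BT.node 1346 (BT.node 1344 (BT.node 1343 (BT.node 1342 (BT.leaf cJ1342) (BT.leaf cJ1343)) (BT.leaf cJ1344)) (BT.node 1345 (BT.leaf cJ1345) (BT.leaf cJ1346))) (BT.node 1349 (BT.node 1348 (BT.node 1347 (BT.leaf cJ1347) (BT.leaf cJ1348)) (BT.leaf cJ1349)) (BT.node 1350 (BT.leaf cJ1350) (BT.leaf cJ1351))))) (BT.node 1361 (BT.node 1356 (BT.node 1354 (BT.node 1353 (BT.node 1352 (BT.leaf cJ1352) (BT.leaf cJ1353)) (BT.leaf cJ1354)) (BT.node 1355 (BT.leaf cJ1355) (BT.leaf cJ1356))) (BT.node 1359 (BT.node 1358 (BT.node 1357 (BT.leaf cJ1357) (BT.leaf cJ1358)) (BT.leaf cJ1359)) (BT.node 1360 (BT.leaf cJ1360) (BT.leaf cJ1361)))) (BT.node 1366 (BT.node 1364 (BT.node 1363 (BT.node 1362 (BT.leaf cJ1362) (BT.leaf cJ1363)) (BT.leaf cJ1364)) (BT.node 1365 (BT.leaf cJ1365) (BT.leaf cJ1366))) (BT.node 1368 (BT.node 1367 (BT.leaf cJ1367) (BT.leaf cJ1368)) (BT.node 1369 (BT.leaf cJ1369) (BT.leaf cJ1370)))))) (BT.node 1390 (BT.node 1380 (BT.node 1375 (BT.node 1373 (BT.node 1372 (BT.node 1371 (BT.leaf cJ1371) (BT.leaf cJ1372)) (BT.leaf cJ1373)) (BT.node 1374 (BT.leaf cJ1374) (BT.leaf cJ1375))) (BT.node 1378 (BT.node 1377 (BT.node 1376 (BT.leaf cJ1376) (BT.leaf cJ1377)) (BT.leaf cJ1378)) (BT.node 1379 (BT.leaf cJ1379) (BT.leaf cJ1380)))) (BT.node 1385 (BT.node 1383 (BT.node 1382 (BT.node 1381 (BT.leaf cJ1381) (BT.leaf cJ1382)) (BT.leaf cJ1383)) (BT.node 1384 (BT.leaf cJ1384) (BT.leaf cJ1385))) (BT.node 1388 (BT.node 1387 (BT.node 1386 (BT.leaf cJ1386) (BT.leaf cJ1387)) (BT.leaf cJ1388)) (BT.node 1389 (BT.leaf cJ1389) (BT.leaf cJ1390))))) (BT.node 1400 (BT.node 1395 (BT.node 1393 (BT.node 1392 (BT.node 1391 (BT.leaf cJ1391) (BT.leaf cJ1392)) (BT.leaf cJ1393)) (BT.node 1394 (BT.leaf cJ1394) (BT.leaf cJ1395))) (BT.node 1398 (BT.node 1397 (BT.node 1396 (BT.leaf cJ1396) (BT.leaf cJ1397)) (BT.leaf cJ1398)) (BT.node 1399 (BT.leaf cJ1399) (BT.leaf cJ1400)))) (BT.node 1405 (BT.node 1403 (BT.node 1402 (BT.node 1401 (BT.leaf cJ1401) (BT.leaf cJ1402)) (BT.leaf cJ1403)) (BT.node 1404 (BT.leaf cJ1404) (BT.leaf cJ1405))) (BT.node 1407 (BT.node 1406 (BT.leaf cJ1406) (BT.leaf cJ1407)) (BT.node 1408 (BT.leaf cJ1408) (BT.leaf cJ1409)))))))) (BT.node 1488 (BT.node 1449 (BT.node 1429 (BT.node 1419 (BT.node 1414 (BT.node 1412 (BT.node 1411 (BT.node 1410 (BT.leaf cJ1410) (BT.leaf cJ1411)) (BT.leaf cJ1412)) (BT.node 1413 (BT.leaf cJ1413) (BT.leaf cJ1414))) (BT.node 1417 (BT.node 1416 (BT.node 1415 (BT.leaf cJ1415) (BT.leaf cJ1416)) (BT.leaf cJ1417)) (BT.node 1418 (BT.leaf cJ1418) (BT.leaf cJ1419)))) (BT.node 1424 (BT.node 1422 (BT.node 1421 (BT.node 1420 (BT.leaf cJ1420) (BT.leaf cJ1421)) (BT.leaf cJ1422)) (BT.node 1423 (BT.leaf cJ1423) (BT.leaf cJ1424))) (BT.node 1427 (BT.node 1426 (BT.node 1425 (BT.leaf cJ1425) (BT.leaf cJ1426)) (BT.leaf cJ1427)) (BT.node 1428 (BT.leaf cJ1428) (BT.leaf cJ1429))))) (BT.node 1439 (BT.node 1434 (BT.node 1432 (BT.node 1431 (BT.node 1430 (BT.leaf cJ1430) (BT.leaf cJ1431)) (BT.leaf cJ1432)) (BT.node 1433 (BT.leaf cJ1433) (BT.leaf cJ1434))) (BT.node 1437 (BT.node 1436 (BT.node 1435 (BT.leaf cJ1435) (BT.leaf cJ1436)) (BT.leaf cJ1437)) (BT.node 1438 (BT.leaf cJ1438) (BT.leaf cJ1439)))) (BT.node 1444 (BT.node 1442 (BT.node 1441 (BT.node 1440 (BT.leaf cJ1440) (BT.leaf cJ1441)) (BT.leaf cJ1442)) (BT.node 1443 (BT.leaf cJ1443) (BT.leaf cJ1444))) (BT.node 1447 (BT.node 1446 (BT.node 1445 (BT.leaf cJ1445) (BT.leaf cJ1446)) (BT.leaf cJ1447)) (BT.node 1448 (BT.leaf cJ1448) (BT.leaf cJ1449)))))) (BT.node 1469 (BT.node 1459 (BT.node 1454 (BT.node 1452 (BT.node 1451 (BT.node 1450 (BT.leaf cJ1450) (BT.leaf cJ1451)) (BT.leaf cJ1452)) (BT.node 1453 (BT.leaf cJ1453) (BT.leaf cJ1454))) (BT.node 1457 (BT.node 1456 (BT.node 1455 (BT.leaf cJ1455) (BT.leaf cJ1456)) (BT.leaf cJ1457)) (BT.node 1458 (BT.leaf cJ1458) (BT.leaf cJ1459)))) (BT.node 1464 (BT.node 1462 (BT.node 1461 (BT.node 1460 (BT.leaf cJ1460) (BT.leaf cJ1461)) (BT.leaf cJ1462)) (BT.node 1463 (BT.leaf cJ1463) (BT.leaf cJ1464))) (BT.node 1467 (BT.node 1466 (BT.node 1465 (BT.leaf cJ1465) (BT.leaf cJ1466)) (BT.leaf cJ1467)) (BT.node 1468 (BT.leaf cJ1468) (BT.leaf cJ1469))))) (BT.node 1479 (BT.node 1474 (BT.node 1472 (BT.node 1471 (BT.node 1470 (BT.leaf cJ1470) (BT.leaf cJ1471)) (BT.leaf cJ1472)) (BT.node 1473 (BT.leaf cJ1473) (BT.leaf cJ1474))) (BT.node 1477 (BT.node 1476 (BT.node 1475 (BT.leaf cJ1475) (BT.leaf cJ1476)) (BT.leaf cJ1477)) (BT.node 1478 (BT.leaf cJ1478) (BT.leaf cJ1479)))) (BT.node 1484 (BT.node 1482 (BT.node 1481 (BT.node 1480 (BT.leaf cJ1480) (BT.leaf cJ1481)) (BT.leaf cJ1482)) (BT.node 1483 (BT.leaf cJ1483) (BT.leaf cJ1484))) (BT.node 1486 (BT.node 1485 (BT.leaf cJ1485) (BT.leaf cJ1486)) (BT.node 1487 (BT.leaf cJ1487) (BT.leaf cJ1488))))))) (BT.node 1527 (BT.node 1508 (BT.node 1498 (BT.node 1493 (BT.node 1491 (BT.node 1490 (BT.node 1489 (BT.leaf cJ1489) (BT.leaf cJ1490)) (BT.leaf cJ1491)) (BT.node 1492 (BT.leaf cJ1492) (BT.leaf cJ1493))) (BT.node 1496 (BT.node 1495 (BT.node 1494 (BT.leaf cJ1494) (BT.leaf cJ1495)) (BT.leaf cJ1496)) (BT.node 1497 (BT.leaf cJ1497) (BT.leaf cJ1498)))) (BT.node 1503 (BT.node 1501 (BT.node 1500 (BT.node 1499 (BT.leaf cJ1499) (BT.leaf cJ1500)) (BT.leaf cJ1501)) (BT.node 1502 (BT.leaf cJ1502) (BT.leaf cJ1503))) (BT.node 1506 (BT.node 1505 (BT.node 1504 (BT.leaf cJ1504) (BT.leaf cJ1505)) (BT.leaf cJ1506)) (BT.node 1507 (BT.leaf cJ1507) (BT.leaf cJ1508))))) (BT.node 1518 (BT.node 1513 (BT.node 1511 (BT.node 1510 (BT.node 1509 (BT.leaf cJ1509) (BT.leaf cJ1510)) (BT.leaf cJ1511)) (BT.node 1512 (BT.leaf cJ1512) (BT.leaf cJ1513))) (BT.node 1516 (BT.node 1515 (BT.node 1514 (BT.leaf cJ1514) (BT.leaf cJ1515)) (BT.leaf cJ1516)) (BT.node 1517 (BT.leaf cJ1517) (BT.leaf cJ1518)))) (BT.node 1523 (BT.node 1521 (BT.node 1520 (BT.node 1519 (BT.leaf cJ1519) (BT.leaf cJ1520)) (BT.leaf cJ1521)) (BT.node 1522 (BT.leaf cJ1522) (BT.leaf cJ1523))) (BT.node 1525 (BT.node 1524 (BT.leaf cJ1524) (BT.leaf cJ1525)) (BT.node 1526 (BT.leaf cJ1526) (BT.leaf cJ1527)))))) (BT.node 1547 (BT.node 1537 (BT.node 1532 (BT.node 1530 (BT.node 1529 (BT.node 1528 (BT.leaf cJ1528) (BT.leaf cJ1529)) (BT.leaf cJ1530)) (BT.node 1531 (BT.leaf cJ1531) (BT.leaf cJ1532))) (BT.node 1535 (BT.node 1534 (BT.node 1533 (BT.leaf cJ1533) (BT.leaf cJ1534)) (BT.leaf cJ1535)) (BT.node 1536 (BT.leaf cJ1536) (BT.leaf cJ1537)))) (BT.node 1542 (BT.node 1540 (BT.node 1539 (BT.node 1538 (BT.leaf cJ1538) (BT.leaf cJ1539)) (BT.leaf cJ1540)) (BT.node 1541 (BT.leaf cJ1541) (BT.leaf cJ1542))) (BT.node 1545 (BT.node 1544 (BT.node 1543 (BT.leaf cJ1543) (BT.leaf cJ1544)) (BT.leaf cJ1545)) (BT.node 1546 (BT.leaf cJ1546) (BT.leaf cJ1547))))) (BT.node 1557 (BT.node 1552 (BT.node 1550 (BT.node 1549 (BT.node 1548 (BT.leaf cJ1548) (BT.leaf cJ1549)) (BT.leaf cJ1550)) (BT.node 1551 (BT.leaf cJ1551) (BT.leaf cJ1552))) (BT.node 1555 (BT.node 1554 (BT.node 1553 (BT.leaf cJ1553) (BT.leaf cJ1554)) (BT.leaf cJ1555)) (BT.node 1556 (BT.leaf cJ1556) (BT.leaf cJ1557)))) (BT.node 1562 (BT.node 1560 (BT.node 1559 (BT.node 1558 (BT.leaf cJ1558) (BT.leaf cJ1559)) (BT.leaf cJ1560)) (BT.node 1561 (BT.leaf cJ1561) (BT.leaf cJ1562))) (BT.node 1564 (BT.node 1563 (BT.leaf cJ1563) (BT.leaf cJ1564)) (BT.node 1565 (BT.leaf cJ1565) (BT.leaf cJ1566))))))))) (BT.node 1723 (BT.node 1645 (BT.node 1606 (BT.node 1586 (BT.node 1576 (BT.node 1571 (BT.node 1569 (BT.node 1568 (BT.node 1567 (BT.leaf cJ1567) (BT.leaf cJ1568)) (BT.leaf cJ1569)) (BT.node 1570 (BT.leaf cJ1570) (BT.leaf cJ1571))) (BT.node 1574 (BT.node 1573 (BT.node 1572 (BT.leaf cJ1572) (BT.leaf cJ1573)) (BT.leaf cJ1574)) (BT.node 1575 (BT.leaf cJ1575) (BT.leaf cJ1576)))) (BT.node 1581 (BT.node 1579 (BT.node 1578 (BT.node 1577 (BT.leaf cJ1577) (BT.leaf cJ1578)) (BT.leaf cJ1579)) (BT.node 1580 (BT.leaf cJ1580) (BT.leaf cJ1581))) (BT.node 1584 (BT.node 1583 (BT.node 1582 (BT.leaf cJ1582) (BT.leaf cJ1583)) (BT.leaf cJ1584)) (BT.node 1585 (BT.leaf cJ1585) (BT.leaf cJ1586))))) (BT.node 1596 (BT.node 1591 (BT.node 1589 (BT.node 1588 (BT.node 1587 (BT.leaf cJ1587) (BT.leaf cJ1588)) (BT.leaf cJ1589)) (BT.node 1590 (BT.leaf cJ1590) (BT.leaf cJ1591))) (BT.node 1594 (BT.node 1593 (BT.node 1592 (BT.leaf cJ1592) (BT.leaf cJ1593)) (BT.leaf cJ1594)) (BT.node 1595 (BT.leaf cJ1595) (BT.leaf cJ1596)))) (BT.node 1601 (BT.node 1599 (BT.node 1598 (BT.node 1597 (BT.leaf cJ1597) (BT.leaf cJ1598)) (BT.leaf cJ1599)) (BT.node 1600 (BT.leaf cJ1600) (BT.leaf cJ1601))) (BT.node 1604 (BT.node 1603 (BT.node 1602 (BT.leaf cJ1602) (BT.leaf cJ1603)) (BT.leaf cJ1604)) (BT.node 1605 (BT.leaf cJ1605) (BT.leaf cJ1606)))))) (BT.node 1626 (BT.node 1616 (BT.node 1611 (BT.node 1609 (BT.node 1608 (BT.node 1607 (BT.leaf cJ1607) (BT.leaf cJ1608)) (BT.leaf cJ1609)) (BT.node 1610 (BT.leaf cJ1610) (BT.leaf cJ1611))) (BT.node 1614 (BT.node 1613 (BT.node 1612 (BT.leaf cJ1612) (BT.leaf cJ1613)) (BT.leaf cJ1614)) (BT.node 1615 (BT.leaf cJ1615) (BT.leaf cJ1616)))) (BT.node 1621 (BT.node 1619 (BT.node 1618 (BT.node 1617 (BT.leaf cJ1617) (BT.leaf cJ1618)) (BT.leaf cJ1619)) (BT.node 1620 (BT.leaf cJ1620) (BT.leaf cJ1621))) (BT.node 1624 (BT.node 1623 (BT.node 1622 (BT.leaf cJ1622) (BT.leaf cJ1623)) (BT.leaf cJ1624)) (BT.node 1625 (BT.leaf cJ1625) (BT.leaf cJ1626))))) (BT.node 1636 (BT.node 1631 (BT.node 1629 (BT.node 1628 (BT.node 1627 (BT.leaf cJ1627) (BT.leaf cJ1628)) (BT.leaf cJ1629)) (BT.node 1630 (BT.leaf cJ1630) (BT.leaf cJ1631))) (BT.node 1634 (BT.node 1633 (BT.node 1632 (BT.leaf cJ1632) (BT.leaf cJ1633)) (BT.leaf cJ1634)) (BT.node 1635 (BT.leaf cJ1635) (BT.leaf cJ1636)))) (BT.node 1641 (BT.node 1639 (BT.node 1638 (BT.node 1637 (BT.leaf cJ1637) (BT.leaf cJ1638)) (BT.leaf cJ1639)) (BT.node 1640 (BT.leaf cJ1640) (BT.leaf cJ1641))) (BT.node 1643 (BT.node 1642 (BT.leaf cJ1642) (BT.leaf cJ1643)) (BT.node 1644 (BT.leaf cJ1644) (BT.leaf cJ1645))))))) (BT.node 1684 (BT.node 1665 (BT.node 1655 (BT.node 1650 (BT.node 1648 (BT.node 1647 (BT.node 1646 (BT.leaf cJ1646) (BT.leaf cJ1647)) (BT.leaf cJ1648)) (BT.node 1649 (BT.leaf cJ1649) (BT.leaf cJ1650))) (BT.node 1653 (BT.node 1652 (BT.node 1651 (BT.leaf cJ1651) (BT.leaf cJ1652)) (BT.leaf cJ1653)) (BT.node 1654 (BT.leaf cJ1654) (BT.leaf cJ1655)))) (BT.node 1660 (BT.node 1658 (BT.node 1657 (BT.node 1656 (BT.leaf cJ1656) (BT.leaf cJ1657)) (BT.leaf cJ1658)) (BT.node 1659 (BT.leaf cJ1659) (BT.leaf cJ1660))) (BT.node 1663 (BT.node 1662 (BT.node 1661 (BT.leaf cJ1661) (BT.leaf cJ1662)) (BT.leaf cJ1663)) (BT.node 1664 (BT.leaf cJ1664) (BT.leaf cJ1665))))) (BT.node 1675 (BT.node 1670 (BT.node 1668 (BT.node 1667 (BT.node 1666 (BT.leaf cJ1666) (BT.leaf cJ1667)) (BT.leaf cJ1668)) (BT.node 1669 (BT.leaf cJ1669) (BT.leaf cJ1670))) (BT.node 1673 (BT.node 1672 (BT.node 1671 (BT.leaf cJ1671) (BT.leaf cJ1672)) (BT.leaf cJ1673)) (BT.node 1674 (BT.leaf cJ1674) (BT.leaf cJ1675)))) (BT.node 1680 (BT.node 1678 (BT.node 1677 (BT.node 1676 (BT.leaf cJ1676) (BT.leaf cJ1677)) (BT.leaf cJ1678)) (BT.node 1679 (BT.leaf cJ1679) (BT.leaf cJ1680))) (BT.node 1682 (BT.node 1681 (BT.leaf cJ1681) (BT.leaf cJ1682)) (BT.node 1683 (BT.leaf cJ1683) (BT.leaf cJ1684)))))) (BT.node 1704 (BT.node 1694 (BT.node 1689 (BT.node 1687 (BT.node 1686 (BT.node 1685 (BT.leaf cJ1685) (BT.leaf cJ1686)) (BT.leaf cJ1687)) (BT.node 1688 (BT.leaf cJ1688) (BT.leaf cJ1689))) (BT.node 1692 (BT.node 1691 (BT.node 1690 (BT.leaf cJ1690) (BT.leaf cJ1691)) (BT.leaf cJ1692)) (BT.node 1693 (BT.leaf cJ1693) (BT.leaf cJ1694)))) (BT.node 1699 (BT.node 1697 (BT.node 1696 (BT.node 1695 (BT.leaf cJ1695) (BT.leaf cJ1696)) (BT.leaf cJ1697)) (BT.node 1698 (BT.leaf cJ1698) (BT.leaf cJ1699))) (BT.node 1702 (BT.node 1701 (BT.node 1700 (BT.leaf cJ1700) (BT.leaf cJ1701)) (BT.leaf cJ1702)) (BT.node 1703 (BT.leaf cJ1703) (BT.leaf cJ1704))))) (BT.node 1714 (BT.node 1709 (BT.node 1707 (BT.node 1706 (BT.node 1705 (BT.leaf cJ1705) (BT.leaf cJ1706)) (BT.leaf cJ1707)) (BT.node 1708 (BT.leaf cJ1708) (BT.leaf cJ1709))) (BT.node 1712 (BT.node 1711 (BT.node 1710 (BT.leaf cJ1710) (BT.leaf cJ1711)) (BT.leaf cJ1712)) (BT.node 1713 (BT.leaf cJ1713) (BT.leaf cJ1714)))) (BT.node 1719 (BT.node 1717 (BT.node 1716 (BT.node 1715 (BT.leaf cJ1715) (BT.leaf cJ1716)) (BT.leaf cJ1717)) (BT.node 1718 (BT.leaf cJ1718) (BT.leaf cJ1719))) (BT.node 1721 (BT.node 1720 (BT.leaf cJ1720) (BT.leaf cJ1721)) (BT.node 1722 (BT.leaf cJ1722) (BT.leaf cJ1723)))))))) (BT.node 1801 (BT.node 1762 (BT.node 1743 (BT.node 1733 (BT.node 1728 (BT.node 1726 (BT.node 1725 (BT.node 1724 (BT.leaf cJ1724) (BT.leaf cJ1725)) (BT.leaf cJ1726)) (BT.node 1727 (BT.leaf cJ1727) (BT.leaf cJ1728))) (BT.node 1731 (BT.node 1730 (BT.node 1729 (BT.leaf cJ1729) (BT.leaf cJ1730)) (BT.leaf cJ1731)) (BT.node 1732 (BT.leaf cJ1732) (BT.leaf cJ1733)))) (BT.node 1738 (BT.node 1736 (BT.node 1735 (BT.node 1734 (BT.leaf cJ1734) (BT.leaf cJ1735)) (BT.leaf cJ1736)) (BT.node 1737 (BT.leaf cJ1737) (BT.leaf cJ1738))) (BT.node 1741 (BT.node 1740 (BT.node 1739 (BT.leaf cJ1739) (BT.leaf cJ1740)) (BT.leaf cJ1741)) (BT.node 1742 (BT.leaf cJ1742) (BT.leaf cJ1743))))) (BT.node 1753 (BT.node 1748 (BT.node 1746 (BT.node 1745 (BT.node 1744 (BT.leaf cJ1744) (BT.leaf cJ1745)) (BT.leaf cJ1746)) (BT.node 1747 (BT.leaf cJ1747) (BT.leaf cJ1748))) (BT.node 1751 (BT.node 1750 (BT.node 1749 (BT.leaf cJ1749) (BT.leaf cJ1750)) (BT.leaf cJ1751)) (BT.node 1752 (BT.leaf cJ1752) (BT.leaf cJ1753)))) (BT.node 1758 (BT.node 1756 (BT.node 1755 (BT.node 1754 (BT.leaf cJ1754) (BT.leaf cJ1755)) (BT.leaf cJ1756)) (BT.node 1757 (BT.leaf cJ1757) (BT.leaf cJ1758))) (BT.node 1760 (BT.node 1759 (BT.leaf cJ1759) (BT.leaf cJ1760)) (BT.node 1761 (BT.leaf cJ1761) (BT.leaf cJ1762)))))) (BT.node 1782 (BT.node 1772 (BT.node 1767 (BT.node 1765 (BT.node 1764 (BT.node 1763 (BT.leaf cJ1763) (BT.leaf cJ1764)) (BT.leaf cJ1765)) (BT.node 1766 (BT.leaf cJ1766) (BT.leaf cJ1767))) (BT.node 1770 (BT.node 1769 (BT.node 1768 (BT.leaf cJ1768) (BT.leaf cJ1769)) (BT.leaf cJ1770)) (BT.node 1771 (BT.leaf cJ1771) (BT.leaf cJ1772)))) (BT.node 1777 (BT.node 1775 (BT.node 1774 (BT.node 1773 (BT.leaf cJ1773) (BT.leaf cJ1774)) (BT.leaf cJ1775)) (BT.node 1776 (BT.leaf cJ1776) (BT.leaf cJ1777))) (BT.node 1780 (BT.node 1779 (BT.node 1778 (BT.leaf cJ1778) (BT.leaf cJ1779)) (BT.leaf cJ1780)) (BT.node 1781 (BT.leaf cJ1781) (BT.leaf cJ1782))))) (BT.node 1792 (BT.node 1787 (BT.node 1785 (BT.node 1784 (BT.node 1783 (BT.leaf cJ1783) (BT.leaf cJ1784)) (BT.leaf cJ1785)) (BT.node 1786 (BT.leaf cJ1786) (BT.leaf cJ1787))) (BT.node 1790 (BT.node 1789 (BT.node 1788 (BT.leaf cJ1788) (BT.leaf cJ1789)) (BT.leaf cJ1790)) (BT.node 1791 (BT.leaf cJ1791) (BT.leaf cJ1792)))) (BT.node 1797 (BT.node 1795 (BT.node 1794 (BT.node 1793 (BT.leaf cJ1793) (BT.leaf cJ1794)) (BT.leaf cJ1795)) (BT.node 1796 (BT.leaf cJ1796) (BT.leaf cJ1797))) (BT.node 1799 (BT.node 1798 (BT.leaf cJ1798) (BT.leaf cJ1799)) (BT.node 1800 (BT.leaf cJ1800) (BT.leaf cJ1801))))))) (BT.node 1840 (BT.node 1821 (BT.node 1811 (BT.node 1806 (BT.node 1804 (BT.node 1803 (BT.node 1802 (BT.leaf cJ1802) (BT.leaf cJ1803)) (BT.leaf cJ1804)) (BT.node 1805 (BT.leaf cJ1805) (BT.leaf cJ1806))) (BT.node 1809 (BT.node 1808 (BT.node 1807 (BT.leaf cJ1807) (BT.leaf cJ1808)) (BT.leaf cJ1809)) (BT.node 1810 (BT.leaf cJ1810) (BT.leaf cJ1811)))) (BT.node 1816 (BT.node 1814 (BT.node 1813 (BT.node 1812 (BT.leaf cJ1812) (BT.leaf cJ1813)) (BT.leaf cJ1814)) (BT.node 1815 (BT.leaf cJ1815) (BT.leaf cJ1816))) (BT.node 1819 (BT.node 1818 (BT.node 1817 (BT.leaf cJ1817) (BT.leaf cJ1818)) (BT.leaf cJ1819)) (BT.node 1820 (BT.leaf cJ1820) (BT.leaf cJ1821))))) (BT.node 1831 (BT.node 1826 (BT.node 1824 (BT.node 1823 (BT.node 1822 (BT.leaf cJ1822) (BT.leaf cJ1823)) (BT.leaf cJ1824)) (BT.node 1825 (BT.leaf cJ1825) (BT.leaf cJ1826))) (BT.node 1829 (BT.node 1828 (BT.node 1827 (BT.leaf cJ1827) (BT.leaf cJ1828)) (BT.leaf cJ1829)) (BT.node 1830 (BT.leaf cJ1830) (BT.leaf cJ1831)))) (BT.node 1836 (BT.node 1834 (BT.node 1833 (BT.node 1832 (BT.leaf cJ1832) (BT.leaf cJ1833)) (BT.leaf cJ1834)) (BT.node 1835 (BT.leaf cJ1835) (BT.leaf cJ1836))) (BT.node 1838 (BT.node 1837 (BT.leaf cJ1837) (BT.leaf cJ1838)) (BT.node 1839 (BT.leaf cJ1839) (BT.leaf cJ1840)))))) (BT.node 1860 (BT.node 1850 (BT.node 1845 (BT.node 1843 (BT.node 1842 (BT.node 1841 (BT.leaf cJ1841) (BT.leaf cJ1842)) (BT.leaf cJ1843)) (BT.node 1844 (BT.leaf cJ1844) (BT.leaf cJ1845))) (BT.node 1848 (BT.node 1847 (BT.node 1846 (BT.leaf cJ1846) (BT.leaf cJ1847)) (BT.leaf cJ1848)) (BT.node 1849 (BT.leaf cJ1849) (BT.leaf cJ1850)))) (BT.node 1855 (BT.node 1853 (BT.node 1852 (BT.node 1851 (BT.leaf cJ1851) (BT.leaf cJ1852)) (BT.leaf cJ1853)) (BT.node 1854 (BT.leaf cJ1854) (BT.leaf cJ1855))) (BT.node 1858 (BT.node 1857 (BT.node 1856 (BT.leaf cJ1856) (BT.leaf cJ1857)) (BT.leaf cJ1858)) (BT.node 1859 (BT.leaf cJ1859) (BT.leaf cJ1860))))) (BT.node 1870 (BT.node 1865 (BT.node 1863 (BT.node 1862 (BT.node 1861 (BT.leaf cJ1861) (BT.leaf cJ1862)) (BT.leaf cJ1863)) (BT.node 1864 (BT.leaf cJ1864) (BT.leaf cJ1865))) (BT.node 1868 (BT.node 1867 (BT.node 1866 (BT.leaf cJ1866) (BT.leaf cJ1867)) (BT.leaf cJ1868)) (BT.node 1869 (BT.leaf cJ1869) (BT.leaf cJ1870)))) (BT.node 1875 (BT.node 1873 (BT.node 1872 (BT.node 1871 (BT.leaf cJ1871) (BT.leaf cJ1872)) (BT.leaf cJ1873)) (BT.node 1874 (BT.leaf cJ1874) (BT.leaf cJ1875))) (BT.node 1877 (BT.node 1876 (BT.leaf cJ1876) (BT.leaf cJ1877)) (BT.node 1878 (BT.leaf cJ1878) (BT.leaf cJ1879)))))))))) (BT.node 2192 (BT.node 2036 (BT.node 1958 (BT.node 1919 (BT.node 1899 (BT.node 1889 (BT.node 1884 (BT.node 1882 (BT.node 1881 (BT.node 1880 (BT.leaf cJ1880) (BT.leaf cJ1881)) (BT.leaf cJ1882)) (BT.node 1883 (BT.leaf cJ1883) (BT.leaf cJ1884))) (BT.node 1887 (BT.node 1886 (BT.node 1885 (BT.leaf cJ1885) (BT.leaf cJ1886)) (BT.leaf cJ1887)) (BT.node 1888 (BT.leaf cJ1888) (BT.leaf cJ1889)))) (BT.node 1894 (BT.node 1892 (BT.node 1891 (BT.node 1890 (BT.leaf cJ1890) (BT.leaf cJ1891)) (BT.leaf cJ1892)) (BT.node 1893 (BT.leaf cJ1893) (BT.leaf cJ1894))) (BT.node 1897 (BT.node 1896 (BT.node 1895 (BT.leaf cJ1895) (BT.leaf cJ1896)) (BT.leaf cJ1897)) (BT.node 1898 (BT.leaf cJ1898) (BT.leaf cJ1899))))) (BT.node 1909 (BT.node 1904 (BT.node 1902 (BT.node 1901 (BT.node 1900 (BT.leaf cJ1900) (BT.leaf cJ1901)) (BT.leaf cJ1902)) (BT.node 1903 (BT.leaf cJ1903) (BT.leaf cJ1904))) (BT.node 1907 (BT.node 1906 (BT.node 1905 (BT.leaf cJ1905) (BT.leaf cJ1906)) (BT.leaf cJ1907)) (BT.node 1908 (BT.leaf cJ1908) (BT.leaf cJ1909)))) (BT.node 1914 (BT.node 1912 (BT.node 1911 (BT.node 1910 (BT.leaf cJ1910) (BT.leaf cJ1911)) (BT.leaf cJ1912)) (BT.node 1913 (BT.leaf cJ1913) (BT.leaf cJ1914))) (BT.node 1917 (BT.node 1916 (BT.node 1915 (BT.leaf cJ1915) (BT.leaf cJ1916)) (BT.leaf cJ1917)) (BT.node 1918 (BT.leaf cJ1918) (BT.leaf cJ1919)))))) (BT.node 1939 (BT.node 1929 (BT.node 1924 (BT.node 1922 (BT.node 1921 (BT.node 1920 (BT.leaf cJ1920) (BT.leaf cJ1921)) (BT.leaf cJ1922)) (BT.node 1923 (BT.leaf cJ1923) (BT.leaf cJ1924))) (BT.node 1927 (BT.node 1926 (BT.node 1925 (BT.leaf cJ1925) (BT.leaf cJ1926)) (BT.leaf cJ1927)) (BT.node 1928 (BT.leaf cJ1928) (BT.leaf cJ1929)))) (BT.node 1934 (BT.node 1932 (BT.node 1931 (BT.node 1930 (BT.leaf cJ1930) (BT.leaf cJ1931)) (BT.leaf cJ1932)) (BT.node 1933 (BT.leaf cJ1933) (BT.leaf cJ1934))) (BT.node 1937 (BT.node 1936 (BT.node 1935 (BT.leaf cJ1935) (BT.leaf cJ1936)) (BT.leaf cJ1937)) (BT.node 1938 (BT.leaf cJ1938) (BT.leaf cJ1939))))) (BT.node 1949 (BT.node 1944 (BT.node 1942 (BT.node 1941 (BT.node 1940 (BT.leaf cJ1940) (BT.leaf cJ1941)) (BT.leaf cJ1942)) (BT.node 1943 (BT.leaf cJ1943) (BT.leaf cJ1944))) (BT.node 1947 (BT.node 1946 (BT.node 1945 (BT.leaf cJ1945) (BT.leaf cJ1946)) (BT.leaf cJ1947)) (BT.node 1948 (BT.leaf cJ1948) (BT.leaf cJ1949)))) (BT.node 1954 (BT.node 1952 (BT.node 1951 (BT.node 1950 (BT.leaf cJ1950) (BT.leaf cJ1951)) (BT.leaf cJ1952)) (BT.node 1953 (BT.leaf cJ1953) (BT.leaf cJ1954))) (BT.node 1956 (BT.node 1955 (BT.leaf cJ1955) (BT.leaf cJ1956)) (BT.node 1957 (BT.leaf cJ1957) (BT.leaf cJ1958))))))) (BT.node 1997 (BT.node 1978 (BT.node 1968 (BT.node 1963 (BT.node 1961 (BT.node 1960 (BT.node 1959 (BT.leaf cJ1959) (BT.leaf cJ1960)) (BT.leaf cJ1961)) (BT.node 1962 (BT.leaf cJ1962) (BT.leaf cJ1963))) (BT.node 1966 (BT.node 1965 (BT.node 1964 (BT.leaf cJ1964) (BT.leaf cJ1965)) (BT.leaf cJ1966)) (BT.node 1967 (BT.leaf cJ1967) (BT.leaf cJ1968)))) (BT.node 1973 (BT.node 1971 (BT.node 1970 (BT.node 1969 (BT.leaf cJ1969) (BT.leaf cJ1970)) (BT.leaf cJ1971)) (BT.node 1972 (BT.leaf cJ1972) (BT.leaf cJ1973))) (BT.node 1976 (BT.node 1975 (BT.node 1974 (BT.leaf cJ1974) (BT.leaf cJ1975)) (BT.leaf cJ1976)) (BT.node 1977 (BT.leaf cJ1977) (BT.leaf cJ1978))))) (BT.node 1988 (BT.node 1983 (BT.node 1981 (BT.node 1980 (BT.node 1979 (BT.leaf cJ1979) (BT.leaf cJ1980)) (BT.leaf cJ1981)) (BT.node 1982 (BT.leaf cJ1982) (BT.leaf cJ1983))) (BT.node 1986 (BT.node 1985 (BT.node 1984 (BT.leaf cJ1984) (BT.leaf cJ1985)) (BT.leaf cJ1986)) (BT.node 1987 (BT.leaf cJ1987) (BT.leaf cJ1988)))) (BT.node 1993 (BT.node 1991 (BT.node 1990 (BT.node 1989 (BT.leaf cJ1989) (BT.leaf cJ1990)) (BT.leaf cJ1991)) (BT.node 1992 (BT.leaf cJ1992) (BT.leaf cJ1993))) (BT.node 1995 (BT.node 1994 (BT.leaf cJ1994) (BT.leaf cJ1995)) (BT.node 1996 (BT.leaf cJ1996) (BT.leaf cJ1997)))))) (BT.node 2017 (BT.node 2007 (BT.node 2002 (BT.node 2000 (BT.node 1999 (BT.node 1998 (BT.leaf cJ1998) (BT.leaf cJ1999)) (BT.leaf cJ2000)) (BT.node 2001 (BT.leaf cJ2001) (BT.leaf cJ2002))) (BT.node 2005 (BT.node 2004 (BT.node 2003 (BT.leaf cJ2003) (BT.leaf cJ2004)) (BT.leaf cJ2005)) (BT.node 2006 (BT.leaf cJ2006) (BT.leaf cJ2007)))) (BT.node 2012 (BT.node 2010 (BT.node 2009 (BT.node 2008 (BT.leaf cJ2008) (BT.leaf cJ2009)) (BT.leaf cJ2010)) (BT.node 2011 (BT.leaf cJ2011) (BT.leaf cJ2012))) (BT.node 2015 (BT.node 2014 (BT.node 2013 (BT.leaf cJ2013) (BT.leaf cJ2014)) (BT.leaf cJ2015)) (BT.node 2016 (BT.leaf cJ2016) (BT.leaf cJ2017))))) (BT.node 2027 (BT.node 2022 (BT.node 2020 (BT.node 2019 (BT.node 2018 (BT.leaf cJ2018) (BT.leaf cJ2019)) (BT.leaf cJ2020)) (BT.node 2021 (BT.leaf cJ2021) (BT.leaf cJ2022))) (BT.node 2025 (BT.node 2024 (BT.node 2023 (BT.leaf cJ2023) (BT.leaf cJ2024)) (BT.leaf cJ2025)) (BT.node 2026 (BT.leaf cJ2026) (BT.leaf cJ2027)))) (BT.node 2032 (BT.node 2030 (BT.node 2029 (BT.node 2028 (BT.leaf cJ2028) (BT.leaf cJ2029)) (BT.leaf cJ2030)) (BT.node 2031 (BT.leaf cJ2031) (BT.leaf cJ2032))) (BT.node 2034 (BT.node 2033 (BT.leaf cJ2033) (BT.leaf cJ2034)) (BT.node 2035 (BT.leaf cJ2035) (BT.leaf cJ2036)))))))) (BT.node 2114 (BT.node 2075 (BT.node 2056 (BT.node 2046 (BT.node 2041 (BT.node 2039 (BT.node 2038 (BT.node 2037 (BT.leaf cJ2037) (BT.leaf cJ2038)) (BT.leaf cJ2039)) (BT.node 2040 (BT.leaf cJ2040) (BT.leaf cJ2041))) (BT.node 2044 (BT.node 2043 (BT.node 2042 (BT.leaf cJ2042) (BT.leaf cJ2043)) (BT.leaf cJ2044)) (BT.node 2045 (BT.leaf cJ2045) (BT.leaf cJ2046)))) (BT.node 2051 (BT.node 2049 (BT.node 2048 (BT.node 2047 (BT.leaf cJ2047) (BT.leaf cJ2048)) (BT.leaf cJ2049)) (BT.node 2050 (BT.leaf cJ2050) (BT.leaf cJ2051))) (BT.node 2054 (BT.node 2053 (BT.node 2052 (BT.leaf cJ2052) (BT.leaf cJ2053)) (BT.leaf cJ2054)) (BT.node 2055 (BT.leaf cJ2055) (BT.leaf cJ2056))))) (BT.node 2066 (BT.node 2061 (BT.node 2059 (BT.node 2058 (BT.node 2057 (BT.leaf cJ2057) (BT.leaf cJ2058)) (BT.leaf cJ2059)) (BT.node 2060 (BT.leaf cJ2060) (BT.leaf cJ2061))) (BT.node 2064 (BT.node 2063 (BT.node 2062 (BT.leaf cJ2062) (BT.leaf cJ2063)) (BT.leaf cJ2064)) (BT.node 2065 (BT.leaf cJ2065) (BT.leaf cJ2066)))) (BT.node 2071 (BT.node 2069 (BT.node 2068 (BT.node 2067 (BT.leaf cJ2067) (BT.leaf cJ2068)) (BT.leaf cJ2069)) (BT.node 2070 (BT.leaf cJ2070) (BT.leaf cJ2071))) (BT.node 2073 (BT.node 2072 (BT.leaf cJ2072) (BT.leaf cJ2073)) (BT.node 2074 (BT.leaf cJ2074) (BT.leaf cJ2075)))))) (BT.node 2095 (BT.node 2085 (BT.node 2080 (BT.node 2078 (BT.node 2077 (BT.node 2076 (BT.leaf cJ2076) (BT.leaf cJ2077)) (BT.leaf cJ2078)) (BT.node 2079 (BT.leaf cJ2079) (BT.leaf cJ2080))) (BT.node 2083 (BT.node 2082 (BT.node 2081 (BT.leaf cJ2081) (BT.leaf cJ2082)) (BT.leaf cJ2083)) (BT.node 2084 (BT.leaf cJ2084) (BT.leaf cJ2085)))) (BT.node 2090 (BT.node 2088 (BT.node 2087 (BT.node 2086 (BT.leaf cJ2086) (BT.leaf cJ2087)) (BT.leaf cJ2088)) (BT.node 2089 (BT.leaf cJ2089) (BT.leaf cJ2090))) (BT.node 2093 (BT.node 2092 (BT.node 2091 (BT.leaf cJ2091) (BT.leaf cJ2092)) (BT.leaf cJ2093)) (BT.node 2094 (BT.leaf cJ2094) (BT.leaf cJ2095))))) (BT.node 2105 (BT.node 2100 (BT.node 2098 (BT.node 2097 (BT.node 2096 (BT.leaf cJ2096) (BT.leaf cJ2097)) (BT.leaf cJ2098)) (BT.node 2099 (BT.leaf cJ2099) (BT.leaf cJ2100))) (BT.node 2103 (BT.node 2102 (BT.node 2101 (BT.leaf cJ2101) (BT.leaf cJ2102)) (BT.leaf cJ2103)) (BT.node 2104 (BT.leaf cJ2104) (BT.leaf cJ2105)))) (BT.node 2110 (BT.node 2108 (BT.node 2107 (BT.node 2106 (BT.leaf cJ2106) (BT.leaf cJ2107)) (BT.leaf cJ2108)) (BT.node 2109 (BT.leaf cJ2109) (BT.leaf cJ2110))) (BT.node 2112 (BT.node 2111 (BT.leaf cJ2111) (BT.leaf cJ2112)) (BT.node 2113 (BT.leaf cJ2113) (BT.leaf cJ2114))))))) (BT.node 2153 (BT.node 2134 (BT.node 2124 (BT.node 2119 (BT.node 2117 (BT.node 2116 (BT.node 2115 (BT.leaf cJ2115) (BT.leaf cJ2116)) (BT.leaf cJ2117)) (BT.node 2118 (BT.leaf cJ2118) (BT.leaf cJ2119))) (BT.node 2122 (BT.node 2121 (BT.node 2120 (BT.leaf cJ2120) (BT.leaf cJ2121)) (BT.leaf cJ2122)) (BT.node 2123 (BT.leaf cJ2123) (BT.leaf cJ2124)))) (BT.node 2129 (BT.node 2127 (BT.node 2126 (BT.node 2125 (BT.leaf cJ2125) (BT.leaf cJ2126)) (BT.leaf cJ2127)) (BT.node 2128 (BT.leaf cJ2128) (BT.leaf cJ2129))) (BT.node 2132 (BT.node 2131 (BT.node 2130 (BT.leaf cJ2130) (BT.leaf cJ2131)) (BT.leaf cJ2132)) (BT.node 2133 (BT.leaf cJ2133) (BT.leaf cJ2134))))) (BT.node 2144 (BT.node 2139 (BT.node 2137 (BT.node 2136 (BT.node 2135 (BT.leaf cJ2135) (BT.leaf cJ2136)) (BT.leaf cJ2137)) (BT.node 2138 (BT.leaf cJ2138) (BT.leaf cJ2139))) (BT.node 2142 (BT.node 2141 (BT.node 2140 (BT.leaf cJ2140) (BT.leaf cJ2141)) (BT.leaf cJ2142)) (BT.node 2143 (BT.leaf cJ2143) (BT.leaf cJ2144)))) (BT.node 2149 (BT.node 2147 (BT.node 2146 (BT.node 2145 (BT.leaf cJ2145) (BT.leaf cJ2146)) (BT.leaf cJ2147)) (BT.node 2148 (BT.leaf cJ2148) (BT.leaf cJ2149))) (BT.node 2151 (BT.node 2150 (BT.leaf cJ2150) (BT.leaf cJ2151)) (BT.node 2152 (BT.leaf cJ2152) (BT.leaf cJ2153)))))) (BT.node 2173 (BT.node 2163 (BT.node 2158 (BT.node 2156 (BT.node 2155 (BT.node 2154 (BT.leaf cJ2154) (BT.leaf cJ2155)) (BT.leaf cJ2156)) (BT.node 2157 (BT.leaf cJ2157) (BT.leaf cJ2158))) (BT.node 2161 (BT.node 2160 (BT.node 2159 (BT.leaf cJ2159) (BT.leaf cJ2160)) (BT.leaf cJ2161)) (BT.node 2162 (BT.leaf cJ2162) (BT.leaf cJ2163)))) (BT.node 2168 (BT.node 2166 (BT.node 2165 (BT.node 2164 (BT.leaf cJ2164) (BT.leaf cJ2165)) (BT.leaf cJ2166)) (BT.node 2167 (BT.leaf cJ2167) (BT.leaf cJ2168))) (BT.node 2171 (BT.node 2170 (BT.node 2169 (BT.leaf cJ2169) (BT.leaf cJ2170)) (BT.leaf cJ2171)) (BT.node 2172 (BT.leaf cJ2172) (BT.leaf cJ2173))))) (BT.node 2183 (BT.node 2178 (BT.node 2176 (BT.node 2175 (BT.node 2174 (BT.leaf cJ2174) (BT.leaf cJ2175)) (BT.leaf cJ2176)) (BT.node 2177 (BT.leaf cJ2177) (BT.leaf cJ2178))) (BT.node 2181 (BT.node 2180 (BT.node 2179 (BT.leaf cJ2179) (BT.leaf cJ2180)) (BT.leaf cJ2181)) (BT.node 2182 (BT.leaf cJ2182) (BT.leaf cJ2183)))) (BT.node 2188 (BT.node 2186 (BT.node 2185 (BT.node 2184 (BT.leaf cJ2184) (BT.leaf cJ2185)) (BT.leaf cJ2186)) (BT.node 2187 (BT.leaf cJ2187) (BT.leaf cJ2188))) (BT.node 2190 (BT.node 2189 (BT.leaf cJ2189) (BT.leaf cJ2190)) (BT.node 2191 (BT.leaf cJ2191) (BT.leaf cJ2192))))))))) (BT.node 2349 (BT.node 2271 (BT.node 2232 (BT.node 2212 (BT.node 2202 (BT.node 2197 (BT.node 2195 (BT.node 2194 (BT.node 2193 (BT.leaf cJ2193) (BT.leaf cJ2194)) (BT.leaf cJ2195)) (BT.node 2196 (BT.leaf cJ2196) (BT.leaf cJ2197))) (BT.node 2200 (BT.node 2199 (BT.node 2198 (BT.leaf cJ2198) (BT.leaf cJ2199)) (BT.leaf cJ2200)) (BT.node 2201 (BT.leaf cJ2201) (BT.leaf cJ2202)))) (BT.node 2207 (BT.node 2205 (BT.node 2204 (BT.node 2203 (BT.leaf cJ2203) (BT.leaf cJ2204)) (BT.leaf cJ2205)) (BT.node 2206 (BT.leaf cJ2206) (BT.leaf cJ2207))) (BT.node 2210 (BT.node 2209 (BT.node 2208 (BT.leaf cJ2208) (BT.leaf cJ2209)) (BT.leaf cJ2210)) (BT.node 2211 (BT.leaf cJ2211) (BT.leaf cJ2212))))) (BT.node 2222 (BT.node 2217 (BT.node 2215 (BT.node 2214 (BT.node 2213 (BT.leaf cJ2213) (BT.leaf cJ2214)) (BT.leaf cJ2215)) (BT.node 2216 (BT.leaf cJ2216) (BT.leaf cJ2217))) (BT.node 2220 (BT.node 2219 (BT.node 2218 (BT.leaf cJ2218) (BT.leaf cJ2219)) (BT.leaf cJ2220)) (BT.node 2221 (BT.leaf cJ2221) (BT.leaf cJ2222)))) (BT.node 2227 (BT.node 2225 (BT.node 2224 (BT.node 2223 (BT.leaf cJ2223) (BT.leaf cJ2224)) (BT.leaf cJ2225)) (BT.node 2226 (BT.leaf cJ2226) (BT.leaf cJ2227))) (BT.node 2230 (BT.node 2229 (BT.node 2228 (BT.leaf cJ2228) (BT.leaf cJ2229)) (BT.leaf cJ2230)) (BT.node 2231 (BT.leaf cJ2231) (BT.leaf cJ2232)))))) (BT.node 2252 (BT.node 2242 (BT.node 2237 (BT.node 2235 (BT.node 2234 (BT.node 2233 (BT.leaf cJ2233) (BT.leaf cJ2234)) (BT.leaf cJ2235)) (BT.node 2236 (BT.leaf cJ2236) (BT.leaf cJ2237))) (BT.node 2240 (BT.node 2239 (BT.node 2238 (BT.leaf cJ2238) (BT.leaf cJ2239)) (BT.leaf cJ2240)) (BT.node 2241 (BT.leaf cJ2241) (BT.leaf cJ2242)))) (BT.node 2247 (BT.node 2245 (BT.node 2244 (BT.node 2243 (BT.leaf cJ2243) (BT.leaf cJ2244)) (BT.leaf cJ2245)) (BT.node 2246 (BT.leaf cJ2246) (BT.leaf cJ2247))) (BT.node 2250 (BT.node 2249 (BT.node 2248 (BT.leaf cJ2248) (BT.leaf cJ2249)) (BT.leaf cJ2250)) (BT.node 2251 (BT.leaf cJ2251) (BT.leaf cJ2252))))) (BT.node 2262 (BT.node 2257 (BT.node 2255 (BT.node 2254 (BT.node 2253 (BT.leaf cJ2253) (BT.leaf cJ2254)) (BT.leaf cJ2255)) (BT.node 2256 (BT.leaf cJ2256) (BT.leaf cJ2257))) (BT.node 2260 (BT.node 2259 (BT.node 2258 (BT.leaf cJ2258) (BT.leaf cJ2259)) (BT.leaf cJ2260)) (BT.node 2261 (BT.leaf cJ2261) (BT.leaf cJ2262)))) (BT.node 2267 (BT.node 2265 (BT.node 2264 (BT.node 2263 (BT.leaf cJ2263) (BT.leaf cJ2264)) (BT.leaf cJ2265)) (BT.node 2266 (BT.leaf cJ2266) (BT.leaf cJ2267))) (BT.node 2269 (BT.node 2268 (BT.leaf cJ2268) (BT.leaf cJ2269)) (BT.node 2270 (BT.leaf cJ2270) (BT.leaf cJ2271))))))) (BT.node 2310 (BT.node 2291 (BT.node 2281 (BT.node 2276 (BT.node 2274 (BT.node 2273 (BT.node 2272 (BT.leaf cJ2272) (BT.leaf cJ2273)) (BT.leaf cJ2274)) (BT.node 2275 (BT.leaf cJ2275) (BT.leaf cJ2276))) (BT.node 2279 (BT.node 2278 (BT.node 2277 (BT.leaf cJ2277) (BT.leaf cJ2278)) (BT.leaf cJ2279)) (BT.node 2280 (BT.leaf cJ2280) (BT.leaf cJ2281)))) (BT.node 2286 (BT.node 2284 (BT.node 2283 (BT.node 2282 (BT.leaf cJ2282) (BT.leaf cJ2283)) (BT.leaf cJ2284)) (BT.node 2285 (BT.leaf cJ2285) (BT.leaf cJ2286))) (BT.node 2289 (BT.node 2288 (BT.node 2287 (BT.leaf cJ2287) (BT.leaf cJ2288)) (BT.leaf cJ2289)) (BT.node 2290 (BT.leaf cJ2290) (BT.leaf cJ2291))))) (BT.node 2301 (BT.node 2296 (BT.node 2294 (BT.node 2293 (BT.node 2292 (BT.leaf cJ2292) (BT.leaf cJ2293)) (BT.leaf cJ2294)) (BT.node 2295 (BT.leaf cJ2295) (BT.leaf cJ2296))) (BT.node 2299 (BT.node 2298 (BT.node 2297 (BT.leaf cJ2297) (BT.leaf cJ2298)) (BT.leaf cJ2299)) (BT.node 2300 (BT.leaf cJ2300) (BT.leaf cJ2301)))) (BT.node 2306 (BT.node 2304 (BT.node 2303 (BT.node 2302 (BT.leaf cJ2302) (BT.leaf cJ2303)) (BT.leaf cJ2304)) (BT.node 2305 (BT.leaf cJ2305) (BT.leaf cJ2306))) (BT.node 2308 (BT.node 2307 (BT.leaf cJ2307) (BT.leaf cJ2308)) (BT.node 2309 (BT.leaf cJ2309) (BT.leaf cJ2310)))))) (BT.node 2330 (BT.node 2320 (BT.node 2315 (BT.node 2313 (BT.node 2312 (BT.node 2311 (BT.leaf cJ2311) (BT.leaf cJ2312)) (BT.leaf cJ2313)) (BT.node 2314 (BT.leaf cJ2314) (BT.leaf cJ2315))) (BT.node 2318 (BT.node 2317 (BT.node 2316 (BT.leaf cJ2316) (BT.leaf cJ2317)) (BT.leaf cJ2318)) (BT.node 2319 (BT.leaf cJ2319) (BT.leaf cJ2320)))) (BT.node 2325 (BT.node 2323 (BT.node 2322 (BT.node 2321 (BT.leaf cJ2321) (BT.leaf cJ2322)) (BT.leaf cJ2323)) (BT.node 2324 (BT.leaf cJ2324) (BT.leaf cJ2325))) (BT.node 2328 (BT.node 2327 (BT.node 2326 (BT.leaf cJ2326) (BT.leaf cJ2327)) (BT.leaf cJ2328)) (BT.node 2329 (BT.leaf cJ2329) (BT.leaf cJ2330))))) (BT.node 2340 (BT.node 2335 (BT.node 2333 (BT.node 2332 (BT.node 2331 (BT.leaf cJ2331) (BT.leaf cJ2332)) (BT.leaf cJ2333)) (BT.node 2334 (BT.leaf cJ2334) (BT.leaf cJ2335))) (BT.node 2338 (BT.node 2337 (BT.node 2336 (BT.leaf cJ2336) (BT.leaf cJ2337)) (BT.leaf cJ2338)) (BT.node 2339 (BT.leaf cJ2339) (BT.leaf cJ2340)))) (BT.node 2345 (BT.node 2343 (BT.node 2342 (BT.node 2341 (BT.leaf cJ2341) (BT.leaf cJ2342)) (BT.leaf cJ2343)) (BT.node 2344 (BT.leaf cJ2344) (BT.leaf cJ2345))) (BT.node 2347 (BT.node 2346 (BT.leaf cJ2346) (BT.leaf cJ2347)) (BT.node 2348 (BT.leaf cJ2348) (BT.leaf cJ2349)))))))) (BT.node 2427 (BT.node 2388 (BT.node 2369 (BT.node 2359 (BT.node 2354 (BT.node 2352 (BT.node 2351 (BT.node 2350 (BT.leaf cJ2350) (BT.leaf cJ2351)) (BT.leaf cJ2352)) (BT.node 2353 (BT.leaf cJ2353) (BT.leaf cJ2354))) (BT.node 2357 (BT.node 2356 (BT.node 2355 (BT.leaf cJ2355) (BT.leaf cJ2356)) (BT.leaf cJ2357)) (BT.node 2358 (BT.leaf cJ2358) (BT.leaf cJ2359)))) (BT.node 2364 (BT.node 2362 (BT.node 2361 (BT.node 2360 (BT.leaf cJ2360) (BT.leaf cJ2361)) (BT.leaf cJ2362)) (BT.node 2363 (BT.leaf cJ2363) (BT.leaf cJ2364))) (BT.node 2367 (BT.node 2366 (BT.node 2365 (BT.leaf cJ2365) (BT.leaf cJ2366)) (BT.leaf cJ2367)) (BT.node 2368 (BT.leaf cJ2368) (BT.leaf cJ2369))))) (BT.node 2379 (BT.node 2374 (BT.node 2372 (BT.node 2371 (BT.node 2370 (BT.leaf cJ2370) (BT.leaf cJ2371)) (BT.leaf cJ2372)) (BT.node 2373 (BT.leaf cJ2373) (BT.leaf cJ2374))) (BT.node 2377 (BT.node 2376 (BT.node 2375 (BT.leaf cJ2375) (BT.leaf cJ2376)) (BT.leaf cJ2377)) (BT.node 2378 (BT.leaf cJ2378) (BT.leaf cJ2379)))) (BT.node 2384 (BT.node 2382 (BT.node 2381 (BT.node 2380 (BT.leaf cJ2380) (BT.leaf cJ2381)) (BT.leaf cJ2382)) (BT.node 2383 (BT.leaf cJ2383) (BT.leaf cJ2384))) (BT.node 2386 (BT.node 2385 (BT.leaf cJ2385) (BT.leaf cJ2386)) (BT.node 2387 (BT.leaf cJ2387) (BT.leaf cJ2388)))))) (BT.node 2408 (BT.node 2398 (BT.node 2393 (BT.node 2391 (BT.node 2390 (BT.node 2389 (BT.leaf cJ2389) (BT.leaf cJ2390)) (BT.leaf cJ2391)) (BT.node 2392 (BT.leaf cJ2392) (BT.leaf cJ2393))) (BT.node 2396 (BT.node 2395 (BT.node 2394 (BT.leaf cJ2394) (BT.leaf cJ2395)) (BT.leaf cJ2396)) (BT.node 2397 (BT.leaf cJ2397) (BT.leaf cJ2398)))) (BT.node 2403 (BT.node 2401 (BT.node 2400 (BT.node 2399 (BT.leaf cJ2399) (BT.leaf cJ2400)) (BT.leaf cJ2401)) (BT.node 2402 (BT.leaf cJ2402) (BT.leaf cJ2403))) (BT.node 2406 (BT.node 2405 (BT.node 2404 (BT.leaf cJ2404) (BT.leaf cJ2405)) (BT.leaf cJ2406)) (BT.node 2407 (BT.leaf cJ2407) (BT.leaf cJ2408))))) (BT.node 2418 (BT.node 2413 (BT.node 2411 (BT.node 2410 (BT.node 2409 (BT.leaf cJ2409) (BT.leaf cJ2410)) (BT.leaf cJ2411)) (BT.node 2412 (BT.leaf cJ2412) (BT.leaf cJ2413))) (BT.node 2416 (BT.node 2415 (BT.node 2414 (BT.leaf cJ2414) (BT.leaf cJ2415)) (BT.leaf cJ2416)) (BT.node 2417 (BT.leaf cJ2417) (BT.leaf cJ2418)))) (BT.node 2423 (BT.node 2421 (BT.node 2420 (BT.node 2419 (BT.leaf cJ2419) (BT.leaf cJ2420)) (BT.leaf cJ2421)) (BT.node 2422 (BT.leaf cJ2422) (BT.leaf cJ2423))) (BT.node 2425 (BT.node 2424 (BT.leaf cJ2424) (BT.leaf cJ2425)) (BT.node 2426 (BT.leaf cJ2426) (BT.leaf cJ2427))))))) (BT.node 2466 (BT.node 2447 (BT.node 2437 (BT.node 2432 (BT.node 2430 (BT.node 2429 (BT.node 2428 (BT.leaf cJ2428) (BT.leaf cJ2429)) (BT.leaf cJ2430)) (BT.node 2431 (BT.leaf cJ2431) (BT.leaf cJ2432))) (BT.node 2435 (BT.node 2434 (BT.node 2433 (BT.leaf cJ2433) (BT.leaf cJ2434)) (BT.leaf cJ2435)) (BT.node 2436 (BT.leaf cJ2436) (BT.leaf cJ2437)))) (BT.node 2442 (BT.node 2440 (BT.node 2439 (BT.node 2438 (BT.leaf cJ2438) (BT.leaf cJ2439)) (BT.leaf cJ2440)) (BT.node 2441 (BT.leaf cJ2441) (BT.leaf cJ2442))) (BT.node 2445 (BT.node 2444 (BT.node 2443 (BT.leaf cJ2443) (BT.leaf cJ2444)) (BT.leaf cJ2445)) (BT.node 2446 (BT.leaf cJ2446) (BT.leaf cJ2447))))) (BT.node 2457 (BT.node 2452 (BT.node 2450 (BT.node 2449 (BT.node 2448 (BT.leaf cJ2448) (BT.leaf cJ2449)) (BT.leaf cJ2450)) (BT.node 2451 (BT.leaf cJ2451) (BT.leaf cJ2452))) (BT.node 2455 (BT.node 2454 (BT.node 2453 (BT.leaf cJ2453) (BT.leaf cJ2454)) (BT.leaf cJ2455)) (BT.node 2456 (BT.leaf cJ2456) (BT.leaf cJ2457)))) (BT.node 2462 (BT.node 2460 (BT.node 2459 (BT.node 2458 (BT.leaf cJ2458) (BT.leaf cJ2459)) (BT.leaf cJ2460)) (BT.node 2461 (BT.leaf cJ2461) (BT.leaf cJ2462))) (BT.node 2464 (BT.node 2463 (BT.leaf cJ2463) (BT.leaf cJ2464)) (BT.node 2465 (BT.leaf cJ2465) (BT.leaf cJ2466)))))) (BT.node 2486 (BT.node 2476 (BT.node 2471 (BT.node 2469 (BT.node 2468 (BT.node 2467 (BT.leaf cJ2467) (BT.leaf cJ2468)) (BT.leaf cJ2469)) (BT.node 2470 (BT.leaf cJ2470) (BT.leaf cJ2471))) (BT.node 2474 (BT.node 2473 (BT.node 2472 (BT.leaf cJ2472) (BT.leaf cJ2473)) (BT.leaf cJ2474)) (BT.node 2475 (BT.leaf cJ2475) (BT.leaf cJ2476)))) (BT.node 2481 (BT.node 2479 (BT.node 2478 (BT.node 2477 (BT.leaf cJ2477) (BT.leaf cJ2478)) (BT.leaf cJ2479)) (BT.node 2480 (BT.leaf cJ2480) (BT.leaf cJ2481))) (BT.node 2484 (BT.node 2483 (BT.node 2482 (BT.leaf cJ2482) (BT.leaf cJ2483)) (BT.leaf cJ2484)) (BT.node 2485 (BT.leaf cJ2485) (BT.leaf cJ2486))))) (BT.node 2496 (BT.node 2491 (BT.node 2489 (BT.node 2488 (BT.node 2487 (BT.leaf cJ2487) (BT.leaf cJ2488)) (BT.leaf cJ2489)) (BT.node 2490 (BT.leaf cJ2490) (BT.leaf cJ2491))) (BT.node 2494 (BT.node 2493 (BT.node 2492 (BT.leaf cJ2492) (BT.leaf cJ2493)) (BT.leaf cJ2494)) (BT.node 2495 (BT.leaf cJ2495) (BT.leaf cJ2496)))) (BT.node 2501 (BT.node 2499 (BT.node 2498 (BT.node 2497 (BT.leaf cJ2497) (BT.leaf cJ2498)) (BT.leaf cJ2499)) (BT.node 2500 (BT.leaf cJ2500) (BT.leaf cJ2501))) (BT.node 2503 (BT.node 2502 (BT.leaf cJ2502) (BT.leaf cJ2503)) (BT.node 2504 (BT.leaf cJ2504) (BT.leaf cJ2505)))))))))))) (BT.node 3758 (BT.node 3132 (BT.node 2819 (BT.node 2662 (BT.node 2584 (BT.node 2545 (BT.node 2525 (BT.node 2515 (BT.node 2510 (BT.node 2508 (BT.node 2507 (BT.node 2506 (BT.leaf cJ2506) (BT.leaf cJ2507)) (BT.leaf cJ2508)) (BT.node 2509 (BT.leaf cJ2509) (BT.leaf cJ2510))) (BT.node 2513 (BT.node 2512 (BT.node 2511 (BT.leaf cJ2511) (BT.leaf cJ2512)) (BT.leaf cJ2513)) (BT.node 2514 (BT.leaf cJ2514) (BT.leaf cJ2515)))) (BT.node 2520 (BT.node 2518 (BT.node 2517 (BT.node 2516 (BT.leaf cJ2516) (BT.leaf cJ2517)) (BT.leaf cJ2518)) (BT.node 2519 (BT.leaf cJ2519) (BT.leaf cJ2520))) (BT.node 2523 (BT.node 2522 (BT.node 2521 (BT.leaf cJ2521) (BT.leaf cJ2522)) (BT.leaf cJ2523)) (BT.node 2524 (BT.leaf cJ2524) (BT.leaf cJ2525))))) (BT.node 2535 (BT.node 2530 (BT.node 2528 (BT.node 2527 (BT.node 2526 (BT.leaf cJ2526) (BT.leaf cJ2527)) (BT.leaf cJ2528)) (BT.node 2529 (BT.leaf cJ2529) (BT.leaf cJ2530))) (BT.node 2533 (BT.node 2532 (BT.node 2531 (BT.leaf cJ2531) (BT.leaf cJ2532)) (BT.leaf cJ2533)) (BT.node 2534 (BT.leaf cJ2534) (BT.leaf cJ2535)))) (BT.node 2540 (BT.node 2538 (BT.node 2537 (BT.node 2536 (BT.leaf cJ2536) (BT.leaf cJ2537)) (BT.leaf cJ2538)) (BT.node 2539 (BT.leaf cJ2539) (BT.leaf cJ2540))) (BT.node 2543 (BT.node 2542 (BT.node 2541 (BT.leaf cJ2541) (BT.leaf cJ2542)) (BT.leaf cJ2543)) (BT.node 2544 (BT.leaf cJ2544) (BT.leaf cJ2545)))))) (BT.node 2565 (BT.node 2555 (BT.node 2550 (BT.node 2548 (BT.node 2547 (BT.node 2546 (BT.leaf cJ2546) (BT.leaf cJ2547)) (BT.leaf cJ2548)) (BT.node 2549 (BT.leaf cJ2549) (BT.leaf cJ2550))) (BT.node 2553 (BT.node 2552 (BT.node 2551 (BT.leaf cJ2551) (BT.leaf cJ2552)) (BT.leaf cJ2553)) (BT.node 2554 (BT.leaf cJ2554) (BT.leaf cJ2555)))) (BT.node 2560 (BT.node 2558 (BT.node 2557 (BT.node 2556 (BT.leaf cJ2556) (BT.leaf cJ2557)) (BT.leaf cJ2558)) (BT.node 2559 (BT.leaf cJ2559) (BT.leaf cJ2560))) (BT.node 2563 (BT.node 2562 (BT.node 2561 (BT.leaf cJ2561) (BT.leaf cJ2562)) (BT.leaf cJ2563)) (BT.node 2564 (BT.leaf cJ2564) (BT.leaf cJ2565))))) (BT.node 2575 (BT.node 2570 (BT.node 2568 (BT.node 2567 (BT.node 2566 (BT.leaf cJ2566) (BT.leaf cJ2567)) (BT.leaf cJ2568)) (BT.node 2569 (BT.leaf cJ2569) (BT.leaf cJ2570))) (BT.node 2573 (BT.node 2572 (BT.node 2571 (BT.leaf cJ2571) (BT.leaf cJ2572)) (BT.leaf cJ2573)) (BT.node 2574 (BT.leaf cJ2574) (BT.leaf cJ2575)))) (BT.node 2580 (BT.node 2578 (BT.node 2577 (BT.node 2576 (BT.leaf cJ2576) (BT.leaf cJ2577)) (BT.leaf cJ2578)) (BT.node 2579 (BT.leaf cJ2579) (BT.leaf cJ2580))) (BT.node 2582 (BT.node 2581 (BT.leaf cJ2581) (BT.leaf cJ2582)) (BT.node 2583 (BT.leaf cJ2583) (BT.leaf cJ2584))))))) (BT.node 2623 (BT.node 2604 (BT.node 2594 (BT.node 2589 (BT.node 2587 (BT.node 2586 (BT.node 2585 (BT.leaf cJ2585) (BT.leaf cJ2586)) (BT.leaf cJ2587)) (BT.node 2588 (BT.leaf cJ2588) (BT.leaf cJ2589))) (BT.node 2592 (BT.node 2591 (BT.node 2590 (BT.leaf cJ2590) (BT.leaf cJ2591)) (BT.leaf cJ2592)) (BT.node 2593 (BT.leaf cJ2593) (BT.leaf cJ2594)))) (BT.node 2599 (BT.node 2597 (BT.node 2596 (BT.node 2595 (BT.leaf cJ2595) (BT.leaf cJ2596)) (BT.leaf cJ2597)) (BT.node 2598 (BT.leaf cJ2598) (BT.leaf cJ2599))) (BT.node 2602 (BT.node 2601 (BT.node 2600 (BT.leaf cJ2600) (BT.leaf cJ2601)) (BT.leaf cJ2602)) (BT.node 2603 (BT.leaf cJ2603) (BT.leaf cJ2604))))) (BT.node 2614 (BT.node 2609 (BT.node 2607 (BT.node 2606 (BT.node 2605 (BT.leaf cJ2605) (BT.leaf cJ2606)) (BT.leaf cJ2607)) (BT.node 2608 (BT.leaf cJ2608) (BT.leaf cJ2609))) (BT.node 2612 (BT.node 2611 (BT.node 2610 (BT.leaf cJ2610) (BT.leaf cJ2611)) (BT.leaf cJ2612)) (BT.node 2613 (BT.leaf cJ2613) (BT.leaf cJ2614)))) (BT.node 2619 (BT.node 2617 (BT.node 2616 (BT.node 2615 (BT.leaf cJ2615) (BT.leaf cJ2616)) (BT.leaf cJ2617)) (BT.node 2618 (BT.leaf cJ2618) (BT.leaf cJ2619))) (BT.node 2621 (BT.node 2620 (BT.leaf cJ2620) (BT.leaf cJ2621)) (BT.node 2622 (BT.leaf cJ2622) (BT.leaf cJ2623)))))) (BT.node 2643 (BT.node 2633 (BT.node 2628 (BT.node 2626 (BT.node 2625 (BT.node 2624 (BT.leaf cJ2624) (BT.leaf cJ2625)) (BT.leaf cJ2626)) (BT.node 2627 (BT.leaf cJ2627) (BT.leaf cJ2628))) (BT.node 2631 (BT.node 2630 (BT.node 2629 (BT.leaf cJ2629) (BT.leaf cJ2630)) (BT.leaf cJ2631)) (BT.node 2632 (BT.leaf cJ2632) (BT.leaf cJ2633)))) (BT.node 2638 (BT.node 2636 (BT.node 2635 (BT.node 2634 (BT.leaf cJ2634) (BT.leaf cJ2635)) (BT.leaf cJ2636)) (BT.node 2637 (BT.leaf cJ2637) (BT.leaf cJ2638))) (BT.node 2641 (BT.node 2640 (BT.node 2639 (BT.leaf cJ2639) (BT.leaf cJ2640)) (BT.leaf cJ2641)) (BT.node 2642 (BT.leaf cJ2642) (BT.leaf cJ2643))))) (BT.node 2653 (BT.node 2648 (BT.node 2646 (BT.node 2645 (BT.node 2644 (BT.leaf cJ2644) (BT.leaf cJ2645)) (BT.leaf cJ2646)) (BT.node 2647 (BT.leaf cJ2647) (BT.leaf cJ2648))) (BT.node 2651 (BT.node 2650 (BT.node 2649 (BT.leaf cJ2649) (BT.leaf cJ2650)) (BT.leaf cJ2651)) (BT.node 2652 (BT.leaf cJ2652) (BT.leaf cJ2653)))) (BT.node 2658 (BT.node 2656 (BT.node 2655 (BT.node 2654 (BT.leaf cJ2654) (BT.leaf cJ2655)) (BT.leaf cJ2656)) (BT.node 2657 (BT.leaf cJ2657) (BT.leaf cJ2658))) (BT.node 2660 (BT.node 2659 (BT.leaf cJ2659) (BT.leaf cJ2660)) (BT.node 2661 (BT.leaf cJ2661) (BT.leaf cJ2662)))))))) (BT.node 2741 (BT.node 2702 (BT.node 2682 (BT.node 2672 (BT.node 2667 (BT.node 2665 (BT.node 2664 (BT.node 2663 (BT.leaf cJ2663) (BT.leaf cJ2664)) (BT.leaf cJ2665)) (BT.node 2666 (BT.leaf cJ2666) (BT.leaf cJ2667))) (BT.node 2670 (BT.node 2669 (BT.node 2668 (BT.leaf cJ2668) (BT.leaf cJ2669)) (BT.leaf cJ2670)) (BT.node 2671 (BT.leaf cJ2671) (BT.leaf cJ2672)))) (BT.node 2677 (BT.node 2675 (BT.node 2674 (BT.node 2673 (BT.leaf cJ2673) (BT.leaf cJ2674)) (BT.leaf cJ2675)) (BT.node 2676 (BT.leaf cJ2676) (BT.leaf cJ2677))) (BT.node 2680 (BT.node 2679 (BT.node 2678 (BT.leaf cJ2678) (BT.leaf cJ2679)) (BT.leaf cJ2680)) (BT.node 2681 (BT.leaf cJ2681) (BT.leaf cJ2682))))) (BT.node 2692 (BT.node 2687 (BT.node 2685 (BT.node 2684 (BT.node 2683 (BT.leaf cJ2683) (BT.leaf cJ2684)) (BT.leaf cJ2685)) (BT.node 2686 (BT.leaf cJ2686) (BT.leaf cJ2687))) (BT.node 2690 (BT.node 2689 (BT.node 2688 (BT.leaf cJ2688) (BT.leaf cJ2689)) (BT.leaf cJ2690)) (BT.node 2691 (BT.leaf cJ2691) (BT.leaf cJ2692)))) (BT.node 2697 (BT.node 2695 (BT.node 2694 (BT.node 2693 (BT.leaf cJ2693) (BT.leaf cJ2694)) (BT.leaf cJ2695)) (BT.node 2696 (BT.leaf cJ2696) (BT.leaf cJ2697))) (BT.node 2700 (BT.node 2699 (BT.node 2698 (BT.leaf cJ2698) (BT.leaf cJ2699)) (BT.leaf cJ2700)) (BT.node 2701 (BT.leaf cJ2701) (BT.leaf cJ2702)))))) (BT.node 2722 (BT.node 2712 (BT.node 2707 (BT.node 2705 (BT.node 2704 (BT.node 2703 (BT.leaf cJ2703) (BT.leaf cJ2704)) (BT.leaf cJ2705)) (BT.node 2706 (BT.leaf cJ2706) (BT.leaf cJ2707))) (BT.node 2710 (BT.node 2709 (BT.node 2708 (BT.leaf cJ2708) (BT.leaf cJ2709)) (BT.leaf cJ2710)) (BT.node 2711 (BT.leaf cJ2711) (BT.leaf cJ2712)))) (BT.node 2717 (BT.node 2715 (BT.node 2714 (BT.node 2713 (BT.leaf cJ2713) (BT.leaf cJ2714)) (BT.leaf cJ2715)) (BT.node 2716 (BT.leaf cJ2716) (BT.leaf cJ2717))) (BT.node 2720 (BT.node 2719 (BT.node 2718 (BT.leaf cJ2718) (BT.leaf cJ2719)) (BT.leaf cJ2720)) (BT.node 2721 (BT.leaf cJ2721) (BT.leaf cJ2722))))) (BT.node 2732 (BT.node 2727 (BT.node 2725 (BT.node 2724 (BT.node 2723 (BT.leaf cJ2723) (BT.leaf cJ2724)) (BT.leaf cJ2725)) (BT.node 2726 (BT.leaf cJ2726) (BT.leaf cJ2727))) (BT.node 2730 (BT.node 2729 (BT.node 2728 (BT.leaf cJ2728) (BT.leaf cJ2729)) (BT.leaf cJ2730)) (BT.node 2731 (BT.leaf cJ2731) (BT.leaf cJ2732)))) (BT.node 2737 (BT.node 2735 (BT.node 2734 (BT.node 2733 (BT.leaf cJ2733) (BT.leaf cJ2734)) (BT.leaf cJ2735)) (BT.node 2736 (BT.leaf cJ2736) (BT.leaf cJ2737))) (BT.node 2739 (BT.node 2738 (BT.leaf cJ2738) (BT.leaf cJ2739)) (BT.node 2740 (BT.leaf cJ2740) (BT.leaf cJ2741))))))) (BT.node 2780 (BT.node 2761 (BT.node 2751 (BT.node 2746 (BT.node 2744 (BT.node 2743 (BT.node 2742 (BT.leaf cJ2742) (BT.leaf cJ2743)) (BT.leaf cJ2744)) (BT.node 2745 (BT.leaf cJ2745) (BT.leaf cJ2746))) (BT.node 2749 (BT.node 2748 (BT.node 2747 (BT.leaf cJ2747) (BT.leaf cJ2748)) (BT.leaf cJ2749)) (BT.node 2750 (BT.leaf cJ2750) (BT.leaf cJ2751)))) (BT.node 2756 (BT.node 2754 (BT.node 2753 (BT.node 2752 (BT.leaf cJ2752) (BT.leaf cJ2753)) (BT.leaf cJ2754)) (BT.node 2755 (BT.leaf cJ2755) (BT.leaf cJ2756))) (BT.node 2759 (BT.node 2758 (BT.node 2757 (BT.leaf cJ2757) (BT.leaf cJ2758)) (BT.leaf cJ2759)) (BT.node 2760 (BT.leaf cJ2760) (BT.leaf cJ2761))))) (BT.node 2771 (BT.node 2766 (BT.node 2764 (BT.node 2763 (BT.node 2762 (BT.leaf cJ2762) (BT.leaf cJ2763)) (BT.leaf cJ2764)) (BT.node 2765 (BT.leaf cJ2765) (BT.leaf cJ2766))) (BT.node 2769 (BT.node 2768 (BT.node 2767 (BT.leaf cJ2767) (BT.leaf cJ2768)) (BT.leaf cJ2769)) (BT.node 2770 (BT.leaf cJ2770) (BT.leaf cJ2771)))) (BT.node 2776 (BT.node 2774 (BT.node 2773 (BT.node 2772 (BT.leaf cJ2772) (BT.leaf cJ2773)) (BT.leaf cJ2774)) (BT.node 2775 (BT.leaf cJ2775) (BT.leaf cJ2776))) (BT.node 2778 (BT.node 2777 (BT.leaf cJ2777) (BT.leaf cJ2778)) (BT.node 2779 (BT.leaf cJ2779) (BT.leaf cJ2780)))))) (BT.node 2800 (BT.node 2790 (BT.node 2785 (BT.node 2783 (BT.node 2782 (BT.node 2781 (BT.leaf cJ2781) (BT.leaf cJ2782)) (BT.leaf cJ2783)) (BT.node 2784 (BT.leaf cJ2784) (BT.leaf cJ2785))) (BT.node 2788 (BT.node 2787 (BT.node 2786 (BT.leaf cJ2786) (BT.leaf cJ2787)) (BT.leaf cJ2788)) (BT.node 2789 (BT.leaf cJ2789) (BT.leaf cJ2790)))) (BT.node 2795 (BT.node 2793 (BT.node 2792 (BT.node 2791 (BT.leaf cJ2791) (BT.leaf cJ2792)) (BT.leaf cJ2793)) (BT.node 2794 (BT.leaf cJ2794) (BT.leaf cJ2795))) (BT.node 2798 (BT.node 2797 (BT.node 2796 (BT.leaf cJ2796) (BT.leaf cJ2797)) (BT.leaf cJ2798)) (BT.node 2799 (BT.leaf cJ2799) (BT.leaf cJ2800))))) (BT.node 2810 (BT.node 2805 (BT.node 2803 (BT.node 2802 (BT.node 2801 (BT.leaf cJ2801) (BT.leaf cJ2802)) (BT.leaf cJ2803)) (BT.node 2804 (BT.leaf cJ2804) (BT.leaf cJ2805))) (BT.node 2808 (BT.node 2807 (BT.node 2806 (BT.leaf cJ2806) (BT.leaf cJ2807)) (BT.leaf cJ2808)) (BT.node 2809 (BT.leaf cJ2809) (BT.leaf cJ2810)))) (BT.node 2815 (BT.node 2813 (BT.node 2812 (BT.node 2811 (BT.leaf cJ2811) (BT.leaf cJ2812)) (BT.leaf cJ2813)) (BT.node 2814 (BT.leaf cJ2814) (BT.leaf cJ2815))) (BT.node 2817 (BT.node 2816 (BT.leaf cJ2816) (BT.leaf cJ2817)) (BT.node 2818 (BT.leaf cJ2818) (BT.leaf cJ2819))))))))) (BT.node 2976 (BT.node 2898 (BT.node 2859 (BT.node 2839 (BT.node 2829 (BT.node 2824 (BT.node 2822 (BT.node 2821 (BT.node 2820 (BT.leaf cJ2820) (BT.leaf cJ2821)) (BT.leaf cJ2822)) (BT.node 2823 (BT.leaf cJ2823) (BT.leaf cJ2824))) (BT.node 2827 (BT.node 2826 (BT.node 2825 (BT.leaf cJ2825) (BT.leaf cJ2826)) (BT.leaf cJ2827)) (BT.node 2828 (BT.leaf cJ2828) (BT.leaf cJ2829)))) (BT.node 2834 (BT.node 2832 (BT.node 2831 (BT.node 2830 (BT.leaf cJ2830) (BT.leaf cJ2831)) (BT.leaf cJ2832)) (BT.node 2833 (BT.leaf cJ2833) (BT.leaf cJ2834))) (BT.node 2837 (BT.node 2836 (BT.node 2835 (BT.leaf cJ2835) (BT.leaf cJ2836)) (BT.leaf cJ2837)) (BT.node 2838 (BT.leaf cJ2838) (BT.leaf cJ2839))))) (BT.node 2849 (BT.node 2844 (BT.node 2842 (BT.node 2841 (BT.node 2840 (BT.leaf cJ2840) (BT.leaf cJ2841)) (BT.leaf cJ2842)) (BT.node 2843 (BT.leaf cJ2843) (BT.leaf cJ2844))) (BT.node 2847 (BT.node 2846 (BT.node 2845 (BT.leaf cJ2845) (BT.leaf cJ2846)) (BT.leaf cJ2847)) (BT.node 2848 (BT.leaf cJ2848) (BT.leaf cJ2849)))) (BT.node 2854 (BT.node 2852 (BT.node 2851 (BT.node 2850 (BT.leaf cJ2850) (BT.leaf cJ2851)) (BT.leaf cJ2852)) (BT.node 2853 (BT.leaf cJ2853) (BT.leaf cJ2854))) (BT.node 2857 (BT.node 2856 (BT.node 2855 (BT.leaf cJ2855) (BT.leaf cJ2856)) (BT.leaf cJ2857)) (BT.node 2858 (BT.leaf cJ2858) (BT.leaf cJ2859)))))) (BT.node 2879 (BT.node 2869 (BT.node 2864 (BT.node 2862 (BT.node 2861 (BT.node 2860 (BT.leaf cJ2860) (BT.leaf cJ2861)) (BT.leaf cJ2862)) (BT.node 2863 (BT.leaf cJ2863) (BT.leaf cJ2864))) (BT.node 2867 (BT.node 2866 (BT.node 2865 (BT.leaf cJ2865) (BT.leaf cJ2866)) (BT.leaf cJ2867)) (BT.node 2868 (BT.leaf cJ2868) (BT.leaf cJ2869)))) (BT.node 2874 (BT.node 2872 (BT.node 2871 (BT.node 2870 (BT.leaf cJ2870) (BT.leaf cJ2871)) (BT.leaf cJ2872)) (BT.node 2873 (BT.leaf cJ2873) (BT.leaf cJ2874))) (BT.node 2877 (BT.node 2876 (BT.node 2875 (BT.leaf cJ2875) (BT.leaf cJ2876)) (BT.leaf cJ2877)) (BT.node 2878 (BT.leaf cJ2878) (BT.leaf cJ2879))))) (BT.node 2889 (BT.node 2884 (BT.node 2882 (BT.node 2881 (BT.node 2880 (BT.leaf cJ2880) (BT.leaf cJ2881)) (BT.leaf cJ2882)) (BT.node 2883 (BT.leaf cJ2883) (BT.leaf cJ2884))) (BT.node 2887 (BT.node 2886 (BT.node 2885 (BT.leaf cJ2885) (BT.leaf cJ2886)) (BT.leaf cJ2887)) (BT.node 2888 (BT.leaf cJ2888) (BT.leaf cJ2889)))) (BT.node 2894 (BT.node 2892 (BT.node 2891 (BT.node 2890 (BT.leaf cJ2890) (BT.leaf cJ2891)) (BT.leaf cJ2892)) (BT.node 2893 (BT.leaf cJ2893) (BT.leaf cJ2894))) (BT.node 2896 (BT.node 2895 (BT.leaf cJ2895) (BT.leaf cJ2896)) (BT.node 2897 (BT.leaf cJ2897) (BT.leaf cJ2898))))))) (BT.node 2937 (BT.node 2918 (BT.node 2908 (BT.node 2903 (BT.node 2901 (BT.node 2900 (BT.node 2899 (BT.leaf cJ2899) (BT.leaf cJ2900)) (BT.leaf cJ2901)) (BT.node 2902 (BT.leaf cJ2902) (BT.leaf cJ2903))) (BT.node 2906 (BT.node 2905 (BT.node 2904 (BT.leaf cJ2904) (BT.leaf cJ2905)) (BT.leaf cJ2906)) (BT.node 2907 (BT.leaf cJ2907) (BT.leaf cJ2908)))) (BT.node 2913 (BT.node 2911 (BT.node 2910 (BT.node 2909 (BT.leaf cJ2909) (BT.leaf cJ2910)) (BT.leaf cJ2911)) (BT.node 2912 (BT.leaf cJ2912) (BT.leaf cJ2913))) (BT.node 2916 (BT.node 2915 (BT.node 2914 (BT.leaf cJ2914) (BT.leaf cJ2915)) (BT.leaf cJ2916)) (BT.node 2917 (BT.leaf cJ2917) (BT.leaf cJ2918))))) (BT.node 2928 (BT.node 2923 (BT.node 2921 (BT.node 2920 (BT.node 2919 (BT.leaf cJ2919) (BT.leaf cJ2920)) (BT.leaf cJ2921)) (BT.node 2922 (BT.leaf cJ2922) (BT.leaf cJ2923))) (BT.node 2926 (BT.node 2925 (BT.node 2924 (BT.leaf cJ2924) (BT.leaf cJ2925)) (BT.leaf cJ2926)) (BT.node 2927 (BT.leaf cJ2927) (BT.leaf cJ2928)))) (BT.node 2933 (BT.node 2931 (BT.node 2930 (BT.node 2929 (BT.leaf cJ2929) (BT.leaf cJ2930)) (BT.leaf cJ2931)) (BT.node 2932 (BT.leaf cJ2932) (BT.leaf cJ2933))) (BT.node 2935 (BT.node 2934 (BT.leaf cJ2934) (BT.leaf cJ2935)) (BT.node 2936 (BT.leaf cJ2936) (BT.leaf cJ2937)))))) (BT.node 2957 (BT.node 2947 (BT.node 2942 (BT.node 2940 (BT.node 2939 (BT.node 2938 (BT.leaf cJ2938) (BT.leaf cJ2939)) (BT.leaf cJ2940)) (BT.node 2941 (BT.leaf cJ2941) (BT.leaf cJ2942))) (BT.node 2945 (BT.node 2944 (BT.node 2943 (BT.leaf cJ2943) (BT.leaf cJ2944)) (BT.leaf cJ2945)) (BT.node 2946 (BT.leaf cJ2946) (BT.leaf cJ2947)))) (BT.node 2952 (BT.node 2950 (BT.node 2949 (BT.node 2948 (BT.leaf cJ2948) (BT.leaf cJ2949)) (BT.leaf cJ2950)) (BT.node 2951 (BT.leaf cJ2951) (BT.leaf cJ2952))) (BT.node 2955 (BT.node 2954 (BT.node 2953 (BT.leaf cJ2953) (BT.leaf cJ2954)) (BT.leaf cJ2955)) (BT.node 2956 (BT.leaf cJ2956) (BT.leaf cJ2957))))) (BT.node 2967 (BT.node 2962 (BT.node 2960 (BT.node 2959 (BT.node 2958 (BT.leaf cJ2958) (BT.leaf cJ2959)) (BT.leaf cJ2960)) (BT.node 2961 (BT.leaf cJ2961) (BT.leaf cJ2962))) (BT.node 2965 (BT.node 2964 (BT.node 2963 (BT.leaf cJ2963) (BT.leaf cJ2964)) (BT.leaf cJ2965)) (BT.node 2966 (BT.leaf cJ2966) (BT.leaf cJ2967)))) (BT.node 2972 (BT.node 2970 (BT.node 2969 (BT.node 2968 (BT.leaf cJ2968) (BT.leaf cJ2969)) (BT.leaf cJ2970)) (BT.node 2971 (BT.leaf cJ2971) (BT.leaf cJ2972))) (BT.node 2974 (BT.node 2973 (BT.leaf cJ2973) (BT.leaf cJ2974)) (BT.node 2975 (BT.leaf cJ2975) (BT.leaf cJ2976)))))))) (BT.node 3054 (BT.node 3015 (BT.node 2996 (BT.node 2986 (BT.node 2981 (BT.node 2979 (BT.node 2978 (BT.node 2977 (BT.leaf cJ2977) (BT.leaf cJ2978)) (BT.leaf cJ2979)) (BT.node 2980 (BT.leaf cJ2980) (BT.leaf cJ2981))) (BT.node 2984 (BT.node 2983 (BT.node 2982 (BT.leaf cJ2982) (BT.leaf cJ2983)) (BT.leaf cJ2984)) (BT.node 2985 (BT.leaf cJ2985) (BT.leaf cJ2986)))) (BT.node 2991 (BT.node 2989 (BT.node 2988 (BT.node 2987 (BT.leaf cJ2987) (BT.leaf cJ2988)) (BT.leaf cJ2989)) (BT.node 2990 (BT.leaf cJ2990) (BT.leaf cJ2991))) (BT.node 2994 (BT.node 2993 (BT.node 2992 (BT.leaf cJ2992) (BT.leaf cJ2993)) (BT.leaf cJ2994)) (BT.node 2995 (BT.leaf cJ2995) (BT.leaf cJ2996))))) (BT.node 3006 (BT.node 3001 (BT.node 2999 (BT.node 2998 (BT.node 2997 (BT.leaf cJ2997) (BT.leaf cJ2998)) (BT.leaf cJ2999)) (BT.node 3000 (BT.leaf cJ3000) (BT.leaf cJ3001))) (BT.node 3004 (BT.node 3003 (BT.node 3002 (BT.leaf cJ3002) (BT.leaf cJ3003)) (BT.leaf cJ3004)) (BT.node 3005 (BT.leaf cJ3005) (BT.leaf cJ3006)))) (BT.node 3011 (BT.node 3009 (BT.node 3008 (BT.node 3007 (BT.leaf cJ3007) (BT.leaf cJ3008)) (BT.leaf cJ3009)) (BT.node 3010 (BT.leaf cJ3010) (BT.leaf cJ3011))) (BT.node 3013 (BT.node 3012 (BT.leaf cJ3012) (BT.leaf cJ3013)) (BT.node 3014 (BT.leaf cJ3014) (BT.leaf cJ3015)))))) (BT.node 3035 (BT.node 3025 (BT.node 3020 (BT.node 3018 (BT.node 3017 (BT.node 3016 (BT.leaf cJ3016) (BT.leaf cJ3017)) (BT.leaf cJ3018)) (BT.node 3019 (BT.leaf cJ3019) (BT.leaf cJ3020))) (BT.node 3023 (BT.node 3022 (BT.node 3021 (BT.leaf cJ3021) (BT.leaf cJ3022)) (BT.leaf cJ3023)) (BT.node 3024 (BT.leaf cJ3024) (BT.leaf cJ3025)))) (BT.node 3030 (BT.node 3028 (BT.node 3027 (BT.node 3026 (BT.leaf cJ3026) (BT.leaf cJ3027)) (BT.leaf cJ3028)) (BT.node 3029 (BT.leaf cJ3029) (BT.leaf cJ3030))) (BT.node 3033 (BT.node 3032 (BT.node 3031 (BT.leaf cJ3031) (BT.leaf cJ3032)) (BT.leaf cJ3033)) (BT.node 3034 (BT.leaf cJ3034) (BT.leaf cJ3035))))) (BT.node 3045 (BT.node 3040 (BT.node 3038 (BT.node 3037 (BT.node 3036 (BT.leaf cJ3036) (BT.leaf cJ3037)) (BT.leaf cJ3038)) (BT.node 3039 (BT.leaf cJ3039) (BT.leaf cJ3040))) (BT.node 3043 (BT.node 3042 (BT.node 3041 (BT.leaf cJ3041) (BT.leaf cJ3042)) (BT.leaf cJ3043)) (BT.node 3044 (BT.leaf cJ3044) (BT.leaf cJ3045)))) (BT.node 3050 (BT.node 3048 (BT.node 3047 (BT.node 3046 (BT.leaf cJ3046) (BT.leaf cJ3047)) (BT.leaf cJ3048)) (BT.node 3049 (BT.leaf cJ3049) (BT.leaf cJ3050))) (BT.node 3052 (BT.node 3051 (BT.leaf cJ3051) (BT.leaf cJ3052)) (BT.node 3053 (BT.leaf cJ3053) (BT.leaf cJ3054))))))) (BT.node 3093 (BT.node 3074 (BT.node 3064 (BT.node 3059 (BT.node 3057 (BT.node 3056 (BT.node 3055 (BT.leaf cJ3055) (BT.leaf cJ3056)) (BT.leaf cJ3057)) (BT.node 3058 (BT.leaf cJ3058) (BT.leaf cJ3059))) (BT.node 3062 (BT.node 3061 (BT.node 3060 (BT.leaf cJ3060) (BT.leaf cJ3061)) (BT.leaf cJ3062)) (BT.node 3063 (BT.leaf cJ3063) (BT.leaf cJ3064)))) (BT.node 3069 (BT.node 3067 (BT.node 3066 (BT.node 3065 (BT.leaf cJ3065) (BT.leaf cJ3066)) (BT.leaf cJ3067)) (BT.node 3068 (BT.leaf cJ3068) (BT.leaf cJ3069))) (BT.node 3072 (BT.node 3071 (BT.node 3070 (BT.leaf cJ3070) (BT.leaf cJ3071)) (BT.leaf cJ3072)) (BT.node 3073 (BT.leaf cJ3073) (BT.leaf cJ3074))))) (BT.node 3084 (BT.node 3079 (BT.node 3077 (BT.node 3076 (BT.node 3075 (BT.leaf cJ3075) (BT.leaf cJ3076)) (BT.leaf cJ3077)) (BT.node 3078 (BT.leaf cJ3078) (BT.leaf cJ3079))) (BT.node 3082 (BT.node 3081 (BT.node 3080 (BT.leaf cJ3080) (BT.leaf cJ3081)) (BT.leaf cJ3082)) (BT.node 3083 (BT.leaf cJ3083) (BT.leaf cJ3084)))) (BT.node 3089 (BT.node 3087 (BT.node 3086 (BT.node 3085 (BT.leaf cJ3085) (BT.leaf cJ3086)) (BT.leaf cJ3087)) (BT.node 3088 (BT.leaf cJ3088) (BT.leaf cJ3089))) (BT.node 3091 (BT.node 3090 (BT.leaf cJ3090) (BT.leaf cJ3091)) (BT.node 3092 (BT.leaf cJ3092) (BT.leaf cJ3093)))))) (BT.node 3113 (BT.node 3103 (BT.node 3098 (BT.node 3096 (BT.node 3095 (BT.node 3094 (BT.leaf cJ3094) (BT.leaf cJ3095)) (BT.leaf cJ3096)) (BT.node 3097 (BT.leaf cJ3097) (BT.leaf cJ3098))) (BT.node 3101 (BT.node 3100 (BT.node 3099 (BT.leaf cJ3099) (BT.leaf cJ3100)) (BT.leaf cJ3101)) (BT.node 3102 (BT.leaf cJ3102) (BT.leaf cJ3103)))) (BT.node 3108 (BT.node 3106 (BT.node 3105 (BT.node 3104 (BT.leaf cJ3104) (BT.leaf cJ3105)) (BT.leaf cJ3106)) (BT.node 3107 (BT.leaf cJ3107) (BT.leaf cJ3108))) (BT.node 3111 (BT.node 3110 (BT.node 3109 (BT.leaf cJ3109) (BT.leaf cJ3110)) (BT.leaf cJ3111)) (BT.node 3112 (BT.leaf cJ3112) (BT.leaf cJ3113))))) (BT.node 3123 (BT.node 3118 (BT.node 3116 (BT.node 3115 (BT.node 3114 (BT.leaf cJ3114) (BT.leaf cJ3115)) (BT.leaf cJ3116)) (BT.node 3117 (BT.leaf cJ3117) (BT.leaf cJ3118))) (BT.node 3121 (BT.node 3120 (BT.node 3119 (BT.leaf cJ3119) (BT.leaf cJ3120)) (BT.leaf cJ3121)) (BT.node 3122 (BT.leaf cJ3122) (BT.leaf cJ3123)))) (BT.node 3128 (BT.node 3126 (BT.node 3125 (BT.node 3124 (BT.leaf cJ3124) (BT.leaf cJ3125)) (BT.leaf cJ3126)) (BT.node 3127 (BT.leaf cJ3127) (BT.leaf cJ3128))) (BT.node 3130 (BT.node 3129 (BT.leaf cJ3129) (BT.leaf cJ3130)) (BT.node 3131 (BT.leaf cJ3131) (BT.leaf cJ3132)))))))))) (BT.node 3445 (BT.node 3289 (BT.node 3211 (BT.node 3172 (BT.node 3152 (BT.node 3142 (BT.node 3137 (BT.node 3135 (BT.node 3134 (BT.node 3133 (BT.leaf cJ3133) (BT.leaf cJ3134)) (BT.leaf cJ3135)) (BT.node 3136 (BT.leaf cJ3136) (BT.leaf cJ3137))) (BT.node 3140 (BT.node 3139 (BT.node 3138 (BT.leaf cJ3138) (BT.leaf cJ3139)) (BT.leaf cJ3140)) (BT.node 3141 (BT.leaf cJ3141) (BT.leaf cJ3142)))) (BT.node 3147 (BT.node 3145 (BT.node 3144 (BT.node 3143 (BT.leaf cJ3143) (BT.leaf cJ3144)) (BT.leaf cJ3145)) (BT.node 3146 (BT.leaf cJ3146) (BT.leaf cJ3147))) (BT.node 3150 (BT.node 3149 (BT.node 3148 (BT.leaf cJ3148) (BT.leaf cJ3149)) (BT.leaf cJ3150)) (BT.node 3151 (BT.leaf cJ3151) (BT.leaf cJ3152))))) (BT.node 3162 (BT.node 3157 (BT.node 3155 (BT.node 3154 (BT.node 3153 (BT.leaf cJ3153) (BT.leaf cJ3154)) (BT.leaf cJ3155)) (BT.node 3156 (BT.leaf cJ3156) (BT.leaf cJ3157))) (BT.node 3160 (BT.node 3159 (BT.node 3158 (BT.leaf cJ3158) (BT.leaf cJ3159)) (BT.leaf cJ3160)) (BT.node 3161 (BT.leaf cJ3161) (BT.leaf cJ3162)))) (BT.node 3167 (BT.node 3165 (BT.node 3164 (BT.node 3163 (BT.leaf cJ3163) (BT.leaf cJ3164)) (BT.leaf cJ3165)) (BT.node 3166 (BT.leaf cJ3166) (BT.leaf cJ3167))) (BT.node 3170 (BT.node 3169 (BT.node 3168 (BT.leaf cJ3168) (BT.leaf cJ3169)) (BT.leaf cJ3170)) (BT.node 3171 (BT.leaf cJ3171) (BT.leaf cJ3172)))))) (BT.node 3192 (BT.node 3182 (BT.node 3177 (BT.node 3175 (BT.node 3174 (BT.node 3173 (BT.leaf cJ3173) (BT.leaf cJ3174)) (BT.leaf cJ3175)) (BT.node 3176 (BT.leaf cJ3176) (BT.leaf cJ3177))) (BT.node 3180 (BT.node 3179 (BT.node 3178 (BT.leaf cJ3178) (BT.leaf cJ3179)) (BT.leaf cJ3180)) (BT.node 3181 (BT.leaf cJ3181) (BT.leaf cJ3182)))) (BT.node 3187 (BT.node 3185 (BT.node 3184 (BT.node 3183 (BT.leaf cJ3183) (BT.leaf cJ3184)) (BT.leaf cJ3185)) (BT.node 3186 (BT.leaf cJ3186) (BT.leaf cJ3187))) (BT.node 3190 (BT.node 3189 (BT.node 3188 (BT.leaf cJ3188) (BT.leaf cJ3189)) (BT.leaf cJ3190)) (BT.node 3191 (BT.leaf cJ3191) (BT.leaf cJ3192))))) (BT.node 3202 (BT.node 3197 (BT.node 3195 (BT.node 3194 (BT.node 3193 (BT.leaf cJ3193) (BT.leaf cJ3194)) (BT.leaf cJ3195)) (BT.node 3196 (BT.leaf cJ3196) (BT.leaf cJ3197))) (BT.node 3200 (BT.node 3199 (BT.node 3198 (BT.leaf cJ3198) (BT.leaf cJ3199)) (BT.leaf cJ3200)) (BT.node 3201 (BT.leaf cJ3201) (BT.leaf cJ3202)))) (BT.node 3207 (BT.node 3205 (BT.node 3204 (BT.node 3203 (BT.leaf cJ3203) (BT.leaf cJ3204)) (BT.leaf cJ3205)) (BT.node 3206 (BT.leaf cJ3206) (BT.leaf cJ3207))) (BT.node 3209 (BT.node 3208 (BT.leaf cJ3208) (BT.leaf cJ3209)) (BT.node 3210 (BT.leaf cJ3210) (BT.leaf cJ3211))))))) (BT.node 3250 (BT.node 3231 (BT.node 3221 (BT.node 3216 (BT.node 3214 (BT.node 3213 (BT.node 3212 (BT.leaf cJ3212) (BT.leaf cJ3213)) (BT.leaf cJ3214)) (BT.node 3215 (BT.leaf cJ3215) (BT.leaf cJ3216))) (BT.node 3219 (BT.node 3218 (BT.node 3217 (BT.leaf cJ3217) (BT.leaf cJ3218)) (BT.leaf cJ3219)) (BT.node 3220 (BT.leaf cJ3220) (BT.leaf cJ3221)))) (BT.node 3226 (BT.node 3224 (BT.node 3223 (BT.node 3222 (BT.leaf cJ3222) (BT.leaf cJ3223)) (BT.leaf cJ3224)) (BT.node 3225 (BT.leaf cJ3225) (BT.leaf cJ3226))) (BT.node 3229 (BT.node 3228 (BT.node 3227 (BT.leaf cJ3227) (BT.leaf cJ3228)) (BT.leaf cJ3229)) (BT.node 3230 (BT.leaf cJ3230) (BT.leaf cJ3231))))) (BT.node 3241 (BT.node 3236 (BT.node 3234 (BT.node 3233 (BT.node 3232 (BT.leaf cJ3232) (BT.leaf cJ3233)) (BT.leaf cJ3234)) (BT.node 3235 (BT.leaf cJ3235) (BT.leaf cJ3236))) (BT.node 3239 (BT.node 3238 (BT.node 3237 (BT.leaf cJ3237) (BT.leaf cJ3238)) (BT.leaf cJ3239)) (BT.node 3240 (BT.leaf cJ3240) (BT.leaf cJ3241)))) (BT.node 3246 (BT.node 3244 (BT.node 3243 (BT.node 3242 (BT.leaf cJ3242) (BT.leaf cJ3243)) (BT.leaf cJ3244)) (BT.node 3245 (BT.leaf cJ3245) (BT.leaf cJ3246))) (BT.node 3248 (BT.node 3247 (BT.leaf cJ3247) (BT.leaf cJ3248)) (BT.node 3249 (BT.leaf cJ3249) (BT.leaf cJ3250)))))) (BT.node 3270 (BT.node 3260 (BT.node 3255 (BT.node 3253 (BT.node 3252 (BT.node 3251 (BT.leaf cJ3251) (BT.leaf cJ3252)) (BT.leaf cJ3253)) (BT.node 3254 (BT.leaf cJ3254) (BT.leaf cJ3255))) (BT.node 3258 (BT.node 3257 (BT.node 3256 (BT.leaf cJ3256) (BT.leaf cJ3257)) (BT.leaf cJ3258)) (BT.node 3259 (BT.leaf cJ3259) (BT.leaf cJ3260)))) (BT.node 3265 (BT.node 3263 (BT.node 3262 (BT.node 3261 (BT.leaf cJ3261) (BT.leaf cJ3262)) (BT.leaf cJ3263)) (BT.node 3264 (BT.leaf cJ3264) (BT.leaf cJ3265))) (BT.node 3268 (BT.node 3267 (BT.node 3266 (BT.leaf cJ3266) (BT.leaf cJ3267)) (BT.leaf cJ3268)) (BT.node 3269 (BT.leaf cJ3269) (BT.leaf cJ3270))))) (BT.node 3280 (BT.node 3275 (BT.node 3273 (BT.node 3272 (BT.node 3271 (BT.leaf cJ3271) (BT.leaf cJ3272)) (BT.leaf cJ3273)) (BT.node 3274 (BT.leaf cJ3274) (BT.leaf cJ3275))) (BT.node 3278 (BT.node 3277 (BT.node 3276 (BT.leaf cJ3276) (BT.leaf cJ3277)) (BT.leaf cJ3278)) (BT.node 3279 (BT.leaf cJ3279) (BT.leaf cJ3280)))) (BT.node 3285 (BT.node 3283 (BT.node 3282 (BT.node 3281 (BT.leaf cJ3281) (BT.leaf cJ3282)) (BT.leaf cJ3283)) (BT.node 3284 (BT.leaf cJ3284) (BT.leaf cJ3285))) (BT.node 3287 (BT.node 3286 (BT.leaf cJ3286) (BT.leaf cJ3287)) (BT.node 3288 (BT.leaf cJ3288) (BT.leaf cJ3289)))))))) (BT.node 3367 (BT.node 3328 (BT.node 3309 (BT.node 3299 (BT.node 3294 (BT.node 3292 (BT.node 3291 (BT.node 3290 (BT.leaf cJ3290) (BT.leaf cJ3291)) (BT.leaf cJ3292)) (BT.node 3293 (BT.leaf cJ3293) (BT.leaf cJ3294))) (BT.node 3297 (BT.node 3296 (BT.node 3295 (BT.leaf cJ3295) (BT.leaf cJ3296)) (BT.leaf cJ3297)) (BT.node 3298 (BT.leaf cJ3298) (BT.leaf cJ3299)))) (BT.node 3304 (BT.node 3302 (BT.node 3301 (BT.node 3300 (BT.leaf cJ3300) (BT.leaf cJ3301)) (BT.leaf cJ3302)) (BT.node 3303 (BT.leaf cJ3303) (BT.leaf cJ3304))) (BT.node 3307 (BT.node 3306 (BT.node 3305 (BT.leaf cJ3305) (BT.leaf cJ3306)) (BT.leaf cJ3307)) (BT.node 3308 (BT.leaf cJ3308) (BT.leaf cJ3309))))) (BT.node 3319 (BT.node 3314 (BT.node 3312 (BT.node 3311 (BT.node 3310 (BT.leaf cJ3310) (BT.leaf cJ3311)) (BT.leaf cJ3312)) (BT.node 3313 (BT.leaf cJ3313) (BT.leaf cJ3314))) (BT.node 3317 (BT.node 3316 (BT.node 3315 (BT.leaf cJ3315) (BT.leaf cJ3316)) (BT.leaf cJ3317)) (BT.node 3318 (BT.leaf cJ3318) (BT.leaf cJ3319)))) (BT.node 3324 (BT.node 3322 (BT.node 3321 (BT.node 3320 (BT.leaf cJ3320) (BT.leaf cJ3321)) (BT.leaf cJ3322)) (BT.node 3323 (BT.leaf cJ3323) (BT.leaf cJ3324))) (BT.node 3326 (BT.node 3325 (BT.leaf cJ3325) (BT.leaf cJ3326)) (BT.node 3327 (BT.leaf cJ3327) (BT.leaf cJ3328)))))) (BT.node 3348 (BT.node 3338 (BT.node 3333 (BT.node 3331 (BT.node 3330 (BT.node 3329 (BT.leaf cJ3329) (BT.leaf cJ3330)) (BT.leaf cJ3331)) (BT.node 3332 (BT.leaf cJ3332) (BT.leaf cJ3333))) (BT.node 3336 (BT.node 3335 (BT.node 3334 (BT.leaf cJ3334) (BT.leaf cJ3335)) (BT.leaf cJ3336)) (BT.node 3337 (BT.leaf cJ3337) (BT.leaf cJ3338)))) (BT.node 3343 (BT.node 3341 (BT.node 3340 (BT.node 3339 (BT.leaf cJ3339) (BT.leaf cJ3340)) (BT.leaf cJ3341)) (BT.node 3342 (BT.leaf cJ3342) (BT.leaf cJ3343))) (BT.node 3346 (BT.node 3345 (BT.node 3344 (BT.leaf cJ3344) (BT.leaf cJ3345)) (BT.leaf cJ3346)) (BT.node 3347 (BT.leaf cJ3347) (BT.leaf cJ3348))))) (BT.node 3358 (BT.node 3353 (BT.node 3351 (BT.node 3350 (BT.node 3349 (BT.leaf cJ3349) (BT.leaf cJ3350)) (BT.leaf cJ3351)) (BT.node 3352 (BT.leaf cJ3352) (BT.leaf cJ3353))) (BT.node 3356 (BT.node 3355 (BT.node 3354 (BT.leaf cJ3354) (BT.leaf cJ3355)) (BT.leaf cJ3356)) (BT.node 3357 (BT.leaf cJ3357) (BT.leaf cJ3358)))) (BT.node 3363 (BT.node 3361 (BT.node 3360 (BT.node 3359 (BT.leaf cJ3359) (BT.leaf cJ3360)) (BT.leaf cJ3361)) (BT.node 3362 (BT.leaf cJ3362) (BT.leaf cJ3363))) (BT.node 3365 (BT.node 3364 (BT.leaf cJ3364) (BT.leaf cJ3365)) (BT.node 3366 (BT.leaf cJ3366) (BT.leaf cJ3367))))))) (BT.node 3406 (BT.node 3387 (BT.node 3377 (BT.node 3372 (BT.node 3370 (BT.node 3369 (BT.node 3368 (BT.leaf cJ3368) (BT.leaf cJ3369)) (BT.leaf cJ3370)) (BT.node 3371 (BT.leaf cJ3371) (BT.leaf cJ3372))) (BT.node 3375 (BT.node 3374 (BT.node 3373 (BT.leaf cJ3373) (BT.leaf cJ3374)) (BT.leaf cJ3375)) (BT.node 3376 (BT.leaf cJ3376) (BT.leaf cJ3377)))) (BT.node 3382 (BT.node 3380 (BT.node 3379 (BT.node 3378 (BT.leaf cJ3378) (BT.leaf cJ3379)) (BT.leaf cJ3380)) (BT.node 3381 (BT.leaf cJ3381) (BT.leaf cJ3382))) (BT.node 3385 (BT.node 3384 (BT.node 3383 (BT.leaf cJ3383) (BT.leaf cJ3384)) (BT.leaf cJ3385)) (BT.node 3386 (BT.leaf cJ3386) (BT.leaf cJ3387))))) (BT.node 3397 (BT.node 3392 (BT.node 3390 (BT.node 3389 (BT.node 3388 (BT.leaf cJ3388) (BT.leaf cJ3389)) (BT.leaf cJ3390)) (BT.node 3391 (BT.leaf cJ3391) (BT.leaf cJ3392))) (BT.node 3395 (BT.node 3394 (BT.node 3393 (BT.leaf cJ3393) (BT.leaf cJ3394)) (BT.leaf cJ3395)) (BT.node 3396 (BT.leaf cJ3396) (BT.leaf cJ3397)))) (BT.node 3402 (BT.node 3400 (BT.node 3399 (BT.node 3398 (BT.leaf cJ3398) (BT.leaf cJ3399)) (BT.leaf cJ3400)) (BT.node 3401 (BT.leaf cJ3401) (BT.leaf cJ3402))) (BT.node 3404 (BT.node 3403 (BT.leaf cJ3403) (BT.leaf cJ3404)) (BT.node 3405 (BT.leaf cJ3405) (BT.leaf cJ3406)))))) (BT.node 3426 (BT.node 3416 (BT.node 3411 (BT.node 3409 (BT.node 3408 (BT.node 3407 (BT.leaf cJ3407) (BT.leaf cJ3408)) (BT.leaf cJ3409)) (BT.node 3410 (BT.leaf cJ3410) (BT.leaf cJ3411))) (BT.node 3414 (BT.node 3413 (BT.node 3412 (BT.leaf cJ3412) (BT.leaf cJ3413)) (BT.leaf cJ3414)) (BT.node 3415 (BT.leaf cJ3415) (BT.leaf cJ3416)))) (BT.node 3421 (BT.node 3419 (BT.node 3418 (BT.node 3417 (BT.leaf cJ3417) (BT.leaf cJ3418)) (BT.leaf cJ3419)) (BT.node 3420 (BT.leaf cJ3420) (BT.leaf cJ3421))) (BT.node 3424 (BT.node 3423 (BT.node 3422 (BT.leaf cJ3422) (BT.leaf cJ3423)) (BT.leaf cJ3424)) (BT.node 3425 (BT.leaf cJ3425) (BT.leaf cJ3426))))) (BT.node 3436 (BT.node 3431 (BT.node 3429 (BT.node 3428 (BT.node 3427 (BT.leaf cJ3427) (BT.leaf cJ3428)) (BT.leaf cJ3429)) (BT.node 3430 (BT.leaf cJ3430) (BT.leaf cJ3431))) (BT.node 3434 (BT.node 3433 (BT.node 3432 (BT.leaf cJ3432) (BT.leaf cJ3433)) (BT.leaf cJ3434)) (BT.node 3435 (BT.leaf cJ3435) (BT.leaf cJ3436)))) (BT.node 3441 (BT.node 3439 (BT.node 3438 (BT.node 3437 (BT.leaf cJ3437) (BT.leaf cJ3438)) (BT.leaf cJ3439)) (BT.node 3440 (BT.leaf cJ3440) (BT.leaf cJ3441))) (BT.node 3443 (BT.node 3442 (BT.leaf cJ3442) (BT.leaf cJ3443)) (BT.node 3444 (BT.leaf cJ3444) (BT.leaf cJ3445))))))))) (BT.node 3602 (BT.node 3524 (BT.node 3485 (BT.node 3465 (BT.node 3455 (BT.node 3450 (BT.node 3448 (BT.node 3447 (BT.node 3446 (BT.leaf cJ3446) (BT.leaf cJ3447)) (BT.leaf cJ3448)) (BT.node 3449 (BT.leaf cJ3449) (BT.leaf cJ3450))) (BT.node 3453 (BT.node 3452 (BT.node 3451 (BT.leaf cJ3451) (BT.leaf cJ3452)) (BT.leaf cJ3453)) (BT.node 3454 (BT.leaf cJ3454) (BT.leaf cJ3455)))) (BT.node 3460 (BT.node 3458 (BT.node 3457 (BT.node 3456 (BT.leaf cJ3456) (BT.leaf cJ3457)) (BT.leaf cJ3458)) (BT.node 3459 (BT.leaf cJ3459) (BT.leaf cJ3460))) (BT.node 3463 (BT.node 3462 (BT.node 3461 (BT.leaf cJ3461) (BT.leaf cJ3462)) (BT.leaf cJ3463)) (BT.node 3464 (BT.leaf cJ3464) (BT.leaf cJ3465))))) (BT.node 3475 (BT.node 3470 (BT.node 3468 (BT.node 3467 (BT.node 3466 (BT.leaf cJ3466) (BT.leaf cJ3467)) (BT.leaf cJ3468)) (BT.node 3469 (BT.leaf cJ3469) (BT.leaf cJ3470))) (BT.node 3473 (BT.node 3472 (BT.node 3471 (BT.leaf cJ3471) (BT.leaf cJ3472)) (BT.leaf cJ3473)) (BT.node 3474 (BT.leaf cJ3474) (BT.leaf cJ3475)))) (BT.node 3480 (BT.node 3478 (BT.node 3477 (BT.node 3476 (BT.leaf cJ3476) (BT.leaf cJ3477)) (BT.leaf cJ3478)) (BT.node 3479 (BT.leaf cJ3479) (BT.leaf cJ3480))) (BT.node 3483 (BT.node 3482 (BT.node 3481 (BT.leaf cJ3481) (BT.leaf cJ3482)) (BT.leaf cJ3483)) (BT.node 3484 (BT.leaf cJ3484) (BT.leaf cJ3485)))))) (BT.node 3505 (BT.node 3495 (BT.node 3490 (BT.node 3488 (BT.node 3487 (BT.node 3486 (BT.leaf cJ3486) (BT.leaf cJ3487)) (BT.leaf cJ3488)) (BT.node 3489 (BT.leaf cJ3489) (BT.leaf cJ3490))) (BT.node 3493 (BT.node 3492 (BT.node 3491 (BT.leaf cJ3491) (BT.leaf cJ3492)) (BT.leaf cJ3493)) (BT.node 3494 (BT.leaf cJ3494) (BT.leaf cJ3495)))) (BT.node 3500 (BT.node 3498 (BT.node 3497 (BT.node 3496 (BT.leaf cJ3496) (BT.leaf cJ3497)) (BT.leaf cJ3498)) (BT.node 3499 (BT.leaf cJ3499) (BT.leaf cJ3500))) (BT.node 3503 (BT.node 3502 (BT.node 3501 (BT.leaf cJ3501) (BT.leaf cJ3502)) (BT.leaf cJ3503)) (BT.node 3504 (BT.leaf cJ3504) (BT.leaf cJ3505))))) (BT.node 3515 (BT.node 3510 (BT.node 3508 (BT.node 3507 (BT.node 3506 (BT.leaf cJ3506) (BT.leaf cJ3507)) (BT.leaf cJ3508)) (BT.node 3509 (BT.leaf cJ3509) (BT.leaf cJ3510))) (BT.node 3513 (BT.node 3512 (BT.node 3511 (BT.leaf cJ3511) (BT.leaf cJ3512)) (BT.leaf cJ3513)) (BT.node 3514 (BT.leaf cJ3514) (BT.leaf cJ3515)))) (BT.node 3520 (BT.node 3518 (BT.node 3517 (BT.node 3516 (BT.leaf cJ3516) (BT.leaf cJ3517)) (BT.leaf cJ3518)) (BT.node 3519 (BT.leaf cJ3519) (BT.leaf cJ3520))) (BT.node 3522 (BT.node 3521 (BT.leaf cJ3521) (BT.leaf cJ3522)) (BT.node 3523 (BT.leaf cJ3523) (BT.leaf cJ3524))))))) (BT.node 3563 (BT.node 3544 (BT.node 3534 (BT.node 3529 (BT.node 3527 (BT.node 3526 (BT.node 3525 (BT.leaf cJ3525) (BT.leaf cJ3526)) (BT.leaf cJ3527)) (BT.node 3528 (BT.leaf cJ3528) (BT.leaf cJ3529))) (BT.node 3532 (BT.node 3531 (BT.node 3530 (BT.leaf cJ3530) (BT.leaf cJ3531)) (BT.leaf cJ3532)) (BT.node 3533 (BT.leaf cJ3533) (BT.leaf cJ3534)))) (BT.node 3539 (BT.node 3537 (BT.node 3536 (BT.node 3535 (BT.leaf cJ3535) (BT.leaf cJ3536)) (BT.leaf cJ3537)) (BT.node 3538 (BT.leaf cJ3538) (BT.leaf cJ3539))) (BT.node 3542 (BT.node 3541 (BT.node 3540 (BT.leaf cJ3540) (BT.leaf cJ3541)) (BT.leaf cJ3542)) (BT.node 3543 (BT.leaf cJ3543) (BT.leaf cJ3544))))) (BT.node 3554 (BT.node 3549 (BT.node 3547 (BT.node 3546 (BT.node 3545 (BT.leaf cJ3545) (BT.leaf cJ3546)) (BT.leaf cJ3547)) (BT.node 3548 (BT.leaf cJ3548) (BT.leaf cJ3549))) (BT.node 3552 (BT.node 3551 (BT.node 3550 (BT.leaf cJ3550) (BT.leaf cJ3551)) (BT.leaf cJ3552)) (BT.node 3553 (BT.leaf cJ3553) (BT.leaf cJ3554)))) (BT.node 3559 (BT.node 3557 (BT.node 3556 (BT.node 3555 (BT.leaf cJ3555) (BT.leaf cJ3556)) (BT.leaf cJ3557)) (BT.node 3558 (BT.leaf cJ3558) (BT.leaf cJ3559))) (BT.node 3561 (BT.node 3560 (BT.leaf cJ3560) (BT.leaf cJ3561)) (BT.node 3562 (BT.leaf cJ3562) (BT.leaf cJ3563)))))) (BT.node 3583 (BT.node 3573 (BT.node 3568 (BT.node 3566 (BT.node 3565 (BT.node 3564 (BT.leaf cJ3564) (BT.leaf cJ3565)) (BT.leaf cJ3566)) (BT.node 3567 (BT.leaf cJ3567) (BT.leaf cJ3568))) (BT.node 3571 (BT.node 3570 (BT.node 3569 (BT.leaf cJ3569) (BT.leaf cJ3570)) (BT.leaf cJ3571)) (BT.node 3572 (BT.leaf cJ3572) (BT.leaf cJ3573)))) (BT.node 3578 (BT.node 3576 (BT.node 3575 (BT.node 3574 (BT.leaf cJ3574) (BT.leaf cJ3575)) (BT.leaf cJ3576)) (BT.node 3577 (BT.leaf cJ3577) (BT.leaf cJ3578))) (BT.node 3581 (BT.node 3580 (BT.node 3579 (BT.leaf cJ3579) (BT.leaf cJ3580)) (BT.leaf cJ3581)) (BT.node 3582 (BT.leaf cJ3582) (BT.leaf cJ3583))))) (BT.node 3593 (BT.node 3588 (BT.node 3586 (BT.node 3585 (BT.node 3584 (BT.leaf cJ3584) (BT.leaf cJ3585)) (BT.leaf cJ3586)) (BT.node 3587 (BT.leaf cJ3587) (BT.leaf cJ3588))) (BT.node 3591 (BT.node 3590 (BT.node 3589 (BT.leaf cJ3589) (BT.leaf cJ3590)) (BT.leaf cJ3591)) (BT.node 3592 (BT.leaf cJ3592) (BT.leaf cJ3593)))) (BT.node 3598 (BT.node 3596 (BT.node 3595 (BT.node 3594 (BT.leaf cJ3594) (BT.leaf cJ3595)) (BT.leaf cJ3596)) (BT.node 3597 (BT.leaf cJ3597) (BT.leaf cJ3598))) (BT.node 3600 (BT.node 3599 (BT.leaf cJ3599) (BT.leaf cJ3600)) (BT.node 3601 (BT.leaf cJ3601) (BT.leaf cJ3602)))))))) (BT.node 3680 (BT.node 3641 (BT.node 3622 (BT.node 3612 (BT.node 3607 (BT.node 3605 (BT.node 3604 (BT.node 3603 (BT.leaf cJ3603) (BT.leaf cJ3604)) (BT.leaf cJ3605)) (BT.node 3606 (BT.leaf cJ3606) (BT.leaf cJ3607))) (BT.node 3610 (BT.node 3609 (BT.node 3608 (BT.leaf cJ3608) (BT.leaf cJ3609)) (BT.leaf cJ3610)) (BT.node 3611 (BT.leaf cJ3611) (BT.leaf cJ3612)))) (BT.node 3617 (BT.node 3615 (BT.node 3614 (BT.node 3613 (BT.leaf cJ3613) (BT.leaf cJ3614)) (BT.leaf cJ3615)) (BT.node 3616 (BT.leaf cJ3616) (BT.leaf cJ3617))) (BT.node 3620 (BT.node 3619 (BT.node 3618 (BT.leaf cJ3618) (BT.leaf cJ3619)) (BT.leaf cJ3620)) (BT.node 3621 (BT.leaf cJ3621) (BT.leaf cJ3622))))) (BT.node 3632 (BT.node 3627 (BT.node 3625 (BT.node 3624 (BT.node 3623 (BT.leaf cJ3623) (BT.leaf cJ3624)) (BT.leaf cJ3625)) (BT.node 3626 (BT.leaf cJ3626) (BT.leaf cJ3627))) (BT.node 3630 (BT.node 3629 (BT.node 3628 (BT.leaf cJ3628) (BT.leaf cJ3629)) (BT.leaf cJ3630)) (BT.node 3631 (BT.leaf cJ3631) (BT.leaf cJ3632)))) (BT.node 3637 (BT.node 3635 (BT.node 3634 (BT.node 3633 (BT.leaf cJ3633) (BT.leaf cJ3634)) (BT.leaf cJ3635)) (BT.node 3636 (BT.leaf cJ3636) (BT.leaf cJ3637))) (BT.node 3639 (BT.node 3638 (BT.leaf cJ3638) (BT.leaf cJ3639)) (BT.node 3640 (BT.leaf cJ3640) (BT.leaf cJ3641)))))) (BT.node 3661 (BT.node 3651 (BT.node 3646 (BT.node 3644 (BT.node 3643 (BT.node 3642 (BT.leaf cJ3642) (BT.leaf cJ3643)) (BT.leaf cJ3644)) (BT.node 3645 (BT.leaf cJ3645) (BT.leaf cJ3646))) (BT.node 3649 (BT.node 3648 (BT.node 3647 (BT.leaf cJ3647) (BT.leaf cJ3648)) (BT.leaf cJ3649)) (BT.node 3650 (BT.leaf cJ3650) (BT.leaf cJ3651)))) (BT.node 3656 (BT.node 3654 (BT.node 3653 (BT.node 3652 (BT.leaf cJ3652) (BT.leaf cJ3653)) (BT.leaf cJ3654)) (BT.node 3655 (BT.leaf cJ3655) (BT.leaf cJ3656))) (BT.node 3659 (BT.node 3658 (BT.node 3657 (BT.leaf cJ3657) (BT.leaf cJ3658)) (BT.leaf cJ3659)) (BT.node 3660 (BT.leaf cJ3660) (BT.leaf cJ3661))))) (BT.node 3671 (BT.node 3666 (BT.node 3664 (BT.node 3663 (BT.node 3662 (BT.leaf cJ3662) (BT.leaf cJ3663)) (BT.leaf cJ3664)) (BT.node 3665 (BT.leaf cJ3665) (BT.leaf cJ3666))) (BT.node 3669 (BT.node 3668 (BT.node 3667 (BT.leaf cJ3667) (BT.leaf cJ3668)) (BT.leaf cJ3669)) (BT.node 3670 (BT.leaf cJ3670) (BT.leaf cJ3671)))) (BT.node 3676 (BT.node 3674 (BT.node 3673 (BT.node 3672 (BT.leaf cJ3672) (BT.leaf cJ3673)) (BT.leaf cJ3674)) (BT.node 3675 (BT.leaf cJ3675) (BT.leaf cJ3676))) (BT.node 3678 (BT.node 3677 (BT.leaf cJ3677) (BT.leaf cJ3678)) (BT.node 3679 (BT.leaf cJ3679) (BT.leaf cJ3680))))))) (BT.node 3719 (BT.node 3700 (BT.node 3690 (BT.node 3685 (BT.node 3683 (BT.node 3682 (BT.node 3681 (BT.leaf cJ3681) (BT.leaf cJ3682)) (BT.leaf cJ3683)) (BT.node 3684 (BT.leaf cJ3684) (BT.leaf cJ3685))) (BT.node 3688 (BT.node 3687 (BT.node 3686 (BT.leaf cJ3686) (BT.leaf cJ3687)) (BT.leaf cJ3688)) (BT.node 3689 (BT.leaf cJ3689) (BT.leaf cJ3690)))) (BT.node 3695 (BT.node 3693 (BT.node 3692 (BT.node 3691 (BT.leaf cJ3691) (BT.leaf cJ3692)) (BT.leaf cJ3693)) (BT.node 3694 (BT.leaf cJ3694) (BT.leaf cJ3695))) (BT.node 3698 (BT.node 3697 (BT.node 3696 (BT.leaf cJ3696) (BT.leaf cJ3697)) (BT.leaf cJ3698)) (BT.node 3699 (BT.leaf cJ3699) (BT.leaf cJ3700))))) (BT.node 3710 (BT.node 3705 (BT.node 3703 (BT.node 3702 (BT.node 3701 (BT.leaf cJ3701) (BT.leaf cJ3702)) (BT.leaf cJ3703)) (BT.node 3704 (BT.leaf cJ3704) (BT.leaf cJ3705))) (BT.node 3708 (BT.node 3707 (BT.node 3706 (BT.leaf cJ3706) (BT.leaf cJ3707)) (BT.leaf cJ3708)) (BT.node 3709 (BT.leaf cJ3709) (BT.leaf cJ3710)))) (BT.node 3715 (BT.node 3713 (BT.node 3712 (BT.node 3711 (BT.leaf cJ3711) (BT.leaf cJ3712)) (BT.leaf cJ3713)) (BT.node 3714 (BT.leaf cJ3714) (BT.leaf cJ3715))) (BT.node 3717 (BT.node 3716 (BT.leaf cJ3716) (BT.leaf cJ3717)) (BT.node 3718 (BT.leaf cJ3718) (BT.leaf cJ3719)))))) (BT.node 3739 (BT.node 3729 (BT.node 3724 (BT.node 3722 (BT.node 3721 (BT.node 3720 (BT.leaf cJ3720) (BT.leaf cJ3721)) (BT.leaf cJ3722)) (BT.node 3723 (BT.leaf cJ3723) (BT.leaf cJ3724))) (BT.node 3727 (BT.node 3726 (BT.node 3725 (BT.leaf cJ3725) (BT.leaf cJ3726)) (BT.leaf cJ3727)) (BT.node 3728 (BT.leaf cJ3728) (BT.leaf cJ3729)))) (BT.node 3734 (BT.node 3732 (BT.node 3731 (BT.node 3730 (BT.leaf cJ3730) (BT.leaf cJ3731)) (BT.leaf cJ3732)) (BT.node 3733 (BT.leaf cJ3733) (BT.leaf cJ3734))) (BT.node 3737 (BT.node 3736 (BT.node 3735 (BT.leaf cJ3735) (BT.leaf cJ3736)) (BT.leaf cJ3737)) (BT.node 3738 (BT.leaf cJ3738) (BT.leaf cJ3739))))) (BT.node 3749 (BT.node 3744 (BT.node 3742 (BT.node 3741 (BT.node 3740 (BT.leaf cJ3740) (BT.leaf cJ3741)) (BT.leaf cJ3742)) (BT.node 3743 (BT.leaf cJ3743) (BT.leaf cJ3744))) (BT.node 3747 (BT.node 3746 (BT.node 3745 (BT.leaf cJ3745) (BT.leaf cJ3746)) (BT.leaf cJ3747)) (BT.node 3748 (BT.leaf cJ3748) (BT.leaf cJ3749)))) (BT.node 3754 (BT.node 3752 (BT.node 3751 (BT.node 3750 (BT.leaf cJ3750) (BT.leaf cJ3751)) (BT.leaf cJ3752)) (BT.node 3753 (BT.leaf cJ3753) (BT.leaf cJ3754))) (BT.node 3756 (BT.node 3755 (BT.leaf cJ3755) (BT.leaf cJ3756)) (BT.node 3757 (BT.leaf cJ3757) (BT.leaf cJ3758))))))))))) (BT.node 4385 (BT.node 4072 (BT.node 3915 (BT.node 3837 (BT.node 3798 (BT.node 3778 (BT.node 3768 (BT.node 3763 (BT.node 3761 (BT.node 3760 (BT.node 3759 (BT.leaf cJ3759) (BT.leaf cJ3760)) (BT.leaf cJ3761)) (BT.node 3762 (BT.leaf cJ3762) (BT.leaf cJ3763))) (BT.node 3766 (BT.node 3765 (BT.node 3764 (BT.leaf cJ3764) (BT.leaf cJ3765)) (BT.leaf cJ3766)) (BT.node 3767 (BT.leaf cJ3767) (BT.leaf cJ3768)))) (BT.node 3773 (BT.node 3771 (BT.node 3770 (BT.node 3769 (BT.leaf cJ3769) (BT.leaf cJ3770)) (BT.leaf cJ3771)) (BT.node 3772 (BT.leaf cJ3772) (BT.leaf cJ3773))) (BT.node 3776 (BT.node 3775 (BT.node 3774 (BT.leaf cJ3774) (BT.leaf cJ3775)) (BT.leaf cJ3776)) (BT.node 3777 (BT.leaf cJ3777) (BT.leaf cJ3778))))) (BT.node 3788 (BT.node 3783 (BT.node 3781 (BT.node 3780 (BT.node 3779 (BT.leaf cJ3779) (BT.leaf cJ3780)) (BT.leaf cJ3781)) (BT.node 3782 (BT.leaf cJ3782) (BT.leaf cJ3783))) (BT.node 3786 (BT.node 3785 (BT.node 3784 (BT.leaf cJ3784) (BT.leaf cJ3785)) (BT.leaf cJ3786)) (BT.node 3787 (BT.leaf cJ3787) (BT.leaf cJ3788)))) (BT.node 3793 (BT.node 3791 (BT.node 3790 (BT.node 3789 (BT.leaf cJ3789) (BT.leaf cJ3790)) (BT.leaf cJ3791)) (BT.node 3792 (BT.leaf cJ3792) (BT.leaf cJ3793))) (BT.node 3796 (BT.node 3795 (BT.node 3794 (BT.leaf cJ3794) (BT.leaf cJ3795)) (BT.leaf cJ3796)) (BT.node 3797 (BT.leaf cJ3797) (BT.leaf cJ3798)))))) (BT.node 3818 (BT.node 3808 (BT.node 3803 (BT.node 3801 (BT.node 3800 (BT.node 3799 (BT.leaf cJ3799) (BT.leaf cJ3800)) (BT.leaf cJ3801)) (BT.node 3802 (BT.leaf cJ3802) (BT.leaf cJ3803))) (BT.node 3806 (BT.node 3805 (BT.node 3804 (BT.leaf cJ3804) (BT.leaf cJ3805)) (BT.leaf cJ3806)) (BT.node 3807 (BT.leaf cJ3807) (BT.leaf cJ3808)))) (BT.node 3813 (BT.node 3811 (BT.node 3810 (BT.node 3809 (BT.leaf cJ3809) (BT.leaf cJ3810)) (BT.leaf cJ3811)) (BT.node 3812 (BT.leaf cJ3812) (BT.leaf cJ3813))) (BT.node 3816 (BT.node 3815 (BT.node 3814 (BT.leaf cJ3814) (BT.leaf cJ3815)) (BT.leaf cJ3816)) (BT.node 3817 (BT.leaf cJ3817) (BT.leaf cJ3818))))) (BT.node 3828 (BT.node 3823 (BT.node 3821 (BT.node 3820 (BT.node 3819 (BT.leaf cJ3819) (BT.leaf cJ3820)) (BT.leaf cJ3821)) (BT.node 3822 (BT.leaf cJ3822) (BT.leaf cJ3823))) (BT.node 3826 (BT.node 3825 (BT.node 3824 (BT.leaf cJ3824) (BT.leaf cJ3825)) (BT.leaf cJ3826)) (BT.node 3827 (BT.leaf cJ3827) (BT.leaf cJ3828)))) (BT.node 3833 (BT.node 3831 (BT.node 3830 (BT.node 3829 (BT.leaf cJ3829) (BT.leaf cJ3830)) (BT.leaf cJ3831)) (BT.node 3832 (BT.leaf cJ3832) (BT.leaf cJ3833))) (BT.node 3835 (BT.node 3834 (BT.leaf cJ3834) (BT.leaf cJ3835)) (BT.node 3836 (BT.leaf cJ3836) (BT.leaf cJ3837))))))) (BT.node 3876 (BT.node 3857 (BT.node 3847 (BT.node 3842 (BT.node 3840 (BT.node 3839 (BT.node 3838 (BT.leaf cJ3838) (BT.leaf cJ3839)) (BT.leaf cJ3840)) (BT.node 3841 (BT.leaf cJ3841) (BT.leaf cJ3842))) (BT.node 3845 (BT.node 3844 (BT.node 3843 (BT.leaf cJ3843) (BT.leaf cJ3844)) (BT.leaf cJ3845)) (BT.node 3846 (BT.leaf cJ3846) (BT.leaf cJ3847)))) (BT.node 3852 (BT.node 3850 (BT.node 3849 (BT.node 3848 (BT.leaf cJ3848) (BT.leaf cJ3849)) (BT.leaf cJ3850)) (BT.node 3851 (BT.leaf cJ3851) (BT.leaf cJ3852))) (BT.node 3855 (BT.node 3854 (BT.node 3853 (BT.leaf cJ3853) (BT.leaf cJ3854)) (BT.leaf cJ3855)) (BT.node 3856 (BT.leaf cJ3856) (BT.leaf cJ3857))))) (BT.node 3867 (BT.node 3862 (BT.node 3860 (BT.node 3859 (BT.node 3858 (BT.leaf cJ3858) (BT.leaf cJ3859)) (BT.leaf cJ3860)) (BT.node 3861 (BT.leaf cJ3861) (BT.leaf cJ3862))) (BT.node 3865 (BT.node 3864 (BT.node 3863 (BT.leaf cJ3863) (BT.leaf cJ3864)) (BT.leaf cJ3865)) (BT.node 3866 (BT.leaf cJ3866) (BT.leaf cJ3867)))) (BT.node 3872 (BT.node 3870 (BT.node 3869 (BT.node 3868 (BT.leaf cJ3868) (BT.leaf cJ3869)) (BT.leaf cJ3870)) (BT.node 3871 (BT.leaf cJ3871) (BT.leaf cJ3872))) (BT.node 3874 (BT.node 3873 (BT.leaf cJ3873) (BT.leaf cJ3874)) (BT.node 3875 (BT.leaf cJ3875) (BT.leaf cJ3876)))))) (BT.node 3896 (BT.node 3886 (BT.node 3881 (BT.node 3879 (BT.node 3878 (BT.node 3877 (BT.leaf cJ3877) (BT.leaf cJ3878)) (BT.leaf cJ3879)) (BT.node 3880 (BT.leaf cJ3880) (BT.leaf cJ3881))) (BT.node 3884 (BT.node 3883 (BT.node 3882 (BT.leaf cJ3882) (BT.leaf cJ3883)) (BT.leaf cJ3884)) (BT.node 3885 (BT.leaf cJ3885) (BT.leaf cJ3886)))) (BT.node 3891 (BT.node 3889 (BT.node 3888 (BT.node 3887 (BT.leaf cJ3887) (BT.leaf cJ3888)) (BT.leaf cJ3889)) (BT.node 3890 (BT.leaf cJ3890) (BT.leaf cJ3891))) (BT.node 3894 (BT.node 3893 (BT.node 3892 (BT.leaf cJ3892) (BT.leaf cJ3893)) (BT.leaf cJ3894)) (BT.node 3895 (BT.leaf cJ3895) (BT.leaf cJ3896))))) (BT.node 3906 (BT.node 3901 (BT.node 3899 (BT.node 3898 (BT.node 3897 (BT.leaf cJ3897) (BT.leaf cJ3898)) (BT.leaf cJ3899)) (BT.node 3900 (BT.leaf cJ3900) (BT.leaf cJ3901))) (BT.node 3904 (BT.node 3903 (BT.node 3902 (BT.leaf cJ3902) (BT.leaf cJ3903)) (BT.leaf cJ3904)) (BT.node 3905 (BT.leaf cJ3905) (BT.leaf cJ3906)))) (BT.node 3911 (BT.node 3909 (BT.node 3908 (BT.node 3907 (BT.leaf cJ3907) (BT.leaf cJ3908)) (BT.leaf cJ3909)) (BT.node 3910 (BT.leaf cJ3910) (BT.leaf cJ3911))) (BT.node 3913 (BT.node 3912 (BT.leaf cJ3912) (BT.leaf cJ3913)) (BT.node 3914 (BT.leaf cJ3914) (BT.leaf cJ3915)))))))) (BT.node 3994 (BT.node 3955 (BT.node 3935 (BT.node 3925 (BT.node 3920 (BT.node 3918 (BT.node 3917 (BT.node 3916 (BT.leaf cJ3916) (BT.leaf cJ3917)) (BT.leaf cJ3918)) (BT.node 3919 (BT.leaf cJ3919) (BT.leaf cJ3920))) (BT.node 3923 (BT.node 3922 (BT.node 3921 (BT.leaf cJ3921) (BT.leaf cJ3922)) (BT.leaf cJ3923)) (BT.node 3924 (BT.leaf cJ3924) (BT.leaf cJ3925)))) (BT.node 3930 (BT.node 3928 (BT.node 3927 (BT.node 3926 (BT.leaf cJ3926) (BT.leaf cJ3927)) (BT.leaf cJ3928)) (BT.node 3929 (BT.leaf cJ3929) (BT.leaf cJ3930))) (BT.node 3933 (BT.node 3932 (BT.node 3931 (BT.leaf cJ3931) (BT.leaf cJ3932)) (BT.leaf cJ3933)) (BT.node 3934 (BT.leaf cJ3934) (BT.leaf cJ3935))))) (BT.node 3945 (BT.node 3940 (BT.node 3938 (BT.node 3937 (BT.node 3936 (BT.leaf cJ3936) (BT.leaf cJ3937)) (BT.leaf cJ3938)) (BT.node 3939 (BT.leaf cJ3939) (BT.leaf cJ3940))) (BT.node 3943 (BT.node 3942 (BT.node 3941 (BT.leaf cJ3941) (BT.leaf cJ3942)) (BT.leaf cJ3943)) (BT.node 3944 (BT.leaf cJ3944) (BT.leaf cJ3945)))) (BT.node 3950 (BT.node 3948 (BT.node 3947 (BT.node 3946 (BT.leaf cJ3946) (BT.leaf cJ3947)) (BT.leaf cJ3948)) (BT.node 3949 (BT.leaf cJ3949) (BT.leaf cJ3950))) (BT.node 3953 (BT.node 3952 (BT.node 3951 (BT.leaf cJ3951) (BT.leaf cJ3952)) (BT.leaf cJ3953)) (BT.node 3954 (BT.leaf cJ3954) (BT.leaf cJ3955)))))) (BT.node 3975 (BT.node 3965 (BT.node 3960 (BT.node 3958 (BT.node 3957 (BT.node 3956 (BT.leaf cJ3956) (BT.leaf cJ3957)) (BT.leaf cJ3958)) (BT.node 3959 (BT.leaf cJ3959) (BT.leaf cJ3960))) (BT.node 3963 (BT.node 3962 (BT.node 3961 (BT.leaf cJ3961) (BT.leaf cJ3962)) (BT.leaf cJ3963)) (BT.node 3964 (BT.leaf cJ3964) (BT.leaf cJ3965)))) (BT.node 3970 (BT.node 3968 (BT.node 3967 (BT.node 3966 (BT.leaf cJ3966) (BT.leaf cJ3967)) (BT.leaf cJ3968)) (BT.node 3969 (BT.leaf cJ3969) (BT.leaf cJ3970))) (BT.node 3973 (BT.node 3972 (BT.node 3971 (BT.leaf cJ3971) (BT.leaf cJ3972)) (BT.leaf cJ3973)) (BT.node 3974 (BT.leaf cJ3974) (BT.leaf cJ3975))))) (BT.node 3985 (BT.node 3980 (BT.node 3978 (BT.node 3977 (BT.node 3976 (BT.leaf cJ3976) (BT.leaf cJ3977)) (BT.leaf cJ3978)) (BT.node 3979 (BT.leaf cJ3979) (BT.leaf cJ3980))) (BT.node 3983 (BT.node 3982 (BT.node 3981 (BT.leaf cJ3981) (BT.leaf cJ3982)) (BT.leaf cJ3983)) (BT.node 3984 (BT.leaf cJ3984) (BT.leaf cJ3985)))) (BT.node 3990 (BT.node 3988 (BT.node 3987 (BT.node 3986 (BT.leaf cJ3986) (BT.leaf cJ3987)) (BT.leaf cJ3988)) (BT.node 3989 (BT.leaf cJ3989) (BT.leaf cJ3990))) (BT.node 3992 (BT.node 3991 (BT.leaf cJ3991) (BT.leaf cJ3992)) (BT.node 3993 (BT.leaf cJ3993) (BT.leaf cJ3994))))))) (BT.node 4033 (BT.node 4014 (BT.node 4004 (BT.node 3999 (BT.node 3997 (BT.node 3996 (BT.node 3995 (BT.leaf cJ3995) (BT.leaf cJ3996)) (BT.leaf cJ3997)) (BT.node 3998 (BT.leaf cJ3998) (BT.leaf cJ3999))) (BT.node 4002 (BT.node 4001 (BT.node 4000 (BT.leaf cJ4000) (BT.leaf cJ4001)) (BT.leaf cJ4002)) (BT.node 4003 (BT.leaf cJ4003) (BT.leaf cJ4004)))) (BT.node 4009 (BT.node 4007 (BT.node 4006 (BT.node 4005 (BT.leaf cJ4005) (BT.leaf cJ4006)) (BT.leaf cJ4007)) (BT.node 4008 (BT.leaf cJ4008) (BT.leaf cJ4009))) (BT.node 4012 (BT.node 4011 (BT.node 4010 (BT.leaf cJ4010) (BT.leaf cJ4011)) (BT.leaf cJ4012)) (BT.node 4013 (BT.leaf cJ4013) (BT.leaf cJ4014))))) (BT.node 4024 (BT.node 4019 (BT.node 4017 (BT.node 4016 (BT.node 4015 (BT.leaf cJ4015) (BT.leaf cJ4016)) (BT.leaf cJ4017)) (BT.node 4018 (BT.leaf cJ4018) (BT.leaf cJ4019))) (BT.node 4022 (BT.node 4021 (BT.node 4020 (BT.leaf cJ4020) (BT.leaf cJ4021)) (BT.leaf cJ4022)) (BT.node 4023 (BT.leaf cJ4023) (BT.leaf cJ4024)))) (BT.node 4029 (BT.node 4027 (BT.node 4026 (BT.node 4025 (BT.leaf cJ4025) (BT.leaf cJ4026)) (BT.leaf cJ4027)) (BT.node 4028 (BT.leaf cJ4028) (BT.leaf cJ4029))) (BT.node 4031 (BT.node 4030 (BT.leaf cJ4030) (BT.leaf cJ4031)) (BT.node 4032 (BT.leaf cJ4032) (BT.leaf cJ4033)))))) (BT.node 4053 (BT.node 4043 (BT.node 4038 (BT.node 4036 (BT.node 4035 (BT.node 4034 (BT.leaf cJ4034) (BT.leaf cJ4035)) (BT.leaf cJ4036)) (BT.node 4037 (BT.leaf cJ4037) (BT.leaf cJ4038))) (BT.node 4041 (BT.node 4040 (BT.node 4039 (BT.leaf cJ4039) (BT.leaf cJ4040)) (BT.leaf cJ4041)) (BT.node 4042 (BT.leaf cJ4042) (BT.leaf cJ4043)))) (BT.node 4048 (BT.node 4046 (BT.node 4045 (BT.node 4044 (BT.leaf cJ4044) (BT.leaf cJ4045)) (BT.leaf cJ4046)) (BT.node 4047 (BT.leaf cJ4047) (BT.leaf cJ4048))) (BT.node 4051 (BT.node 4050 (BT.node 4049 (BT.leaf cJ4049) (BT.leaf cJ4050)) (BT.leaf cJ4051)) (BT.node 4052 (BT.leaf cJ4052) (BT.leaf cJ4053))))) (BT.node 4063 (BT.node 4058 (BT.node 4056 (BT.node 4055 (BT.node 4054 (BT.leaf cJ4054) (BT.leaf cJ4055)) (BT.leaf cJ4056)) (BT.node 4057 (BT.leaf cJ4057) (BT.leaf cJ4058))) (BT.node 4061 (BT.node 4060 (BT.node 4059 (BT.leaf cJ4059) (BT.leaf cJ4060)) (BT.leaf cJ4061)) (BT.node 4062 (BT.leaf cJ4062) (BT.leaf cJ4063)))) (BT.node 4068 (BT.node 4066 (BT.node 4065 (BT.node 4064 (BT.leaf cJ4064) (BT.leaf cJ4065)) (BT.leaf cJ4066)) (BT.node 4067 (BT.leaf cJ4067) (BT.leaf cJ4068))) (BT.node 4070 (BT.node 4069 (BT.leaf cJ4069) (BT.leaf cJ4070)) (BT.node 4071 (BT.leaf cJ4071) (BT.leaf cJ4072))))))))) (BT.node 4229 (BT.node 4151 (BT.node 4112 (BT.node 4092 (BT.node 4082 (BT.node 4077 (BT.node 4075 (BT.node 4074 (BT.node 4073 (BT.leaf cJ4073) (BT.leaf cJ4074)) (BT.leaf cJ4075)) (BT.node 4076 (BT.leaf cJ4076) (BT.leaf cJ4077))) (BT.node 4080 (BT.node 4079 (BT.node 4078 (BT.leaf cJ4078) (BT.leaf cJ4079)) (BT.leaf cJ4080)) (BT.node 4081 (BT.leaf cJ4081) (BT.leaf cJ4082)))) (BT.node 4087 (BT.node 4085 (BT.node 4084 (BT.node 4083 (BT.leaf cJ4083) (BT.leaf cJ4084)) (BT.leaf cJ4085)) (BT.node 4086 (BT.leaf cJ4086) (BT.leaf cJ4087))) (BT.node 4090 (BT.node 4089 (BT.node 4088 (BT.leaf cJ4088) (BT.leaf cJ4089)) (BT.leaf cJ4090)) (BT.node 4091 (BT.leaf cJ4091) (BT.leaf cJ4092))))) (BT.node 4102 (BT.node 4097 (BT.node 4095 (BT.node 4094 (BT.node 4093 (BT.leaf cJ4093) (BT.leaf cJ4094)) (BT.leaf cJ4095)) (BT.node 4096 (BT.leaf cJ4096) (BT.leaf cJ4097))) (BT.node 4100 (BT.node 4099 (BT.node 4098 (BT.leaf cJ4098) (BT.leaf cJ4099)) (BT.leaf cJ4100)) (BT.node 4101 (BT.leaf cJ4101) (BT.leaf cJ4102)))) (BT.node 4107 (BT.node 4105 (BT.node 4104 (BT.node 4103 (BT.leaf cJ4103) (BT.leaf cJ4104)) (BT.leaf cJ4105)) (BT.node 4106 (BT.leaf cJ4106) (BT.leaf cJ4107))) (BT.node 4110 (BT.node 4109 (BT.node 4108 (BT.leaf cJ4108) (BT.leaf cJ4109)) (BT.leaf cJ4110)) (BT.node 4111 (BT.leaf cJ4111) (BT.leaf cJ4112)))))) (BT.node 4132 (BT.node 4122 (BT.node 4117 (BT.node 4115 (BT.node 4114 (BT.node 4113 (BT.leaf cJ4113) (BT.leaf cJ4114)) (BT.leaf cJ4115)) (BT.node 4116 (BT.leaf cJ4116) (BT.leaf cJ4117))) (BT.node 4120 (BT.node 4119 (BT.node 4118 (BT.leaf cJ4118) (BT.leaf cJ4119)) (BT.leaf cJ4120)) (BT.node 4121 (BT.leaf cJ4121) (BT.leaf cJ4122)))) (BT.node 4127 (BT.node 4125 (BT.node 4124 (BT.node 4123 (BT.leaf cJ4123) (BT.leaf cJ4124)) (BT.leaf cJ4125)) (BT.node 4126 (BT.leaf cJ4126) (BT.leaf cJ4127))) (BT.node 4130 (BT.node 4129 (BT.node 4128 (BT.leaf cJ4128) (BT.leaf cJ4129)) (BT.leaf cJ4130)) (BT.node 4131 (BT.leaf cJ4131) (BT.leaf cJ4132))))) (BT.node 4142 (BT.node 4137 (BT.node 4135 (BT.node 4134 (BT.node 4133 (BT.leaf cJ4133) (BT.leaf cJ4134)) (BT.leaf cJ4135)) (BT.node 4136 (BT.leaf cJ4136) (BT.leaf cJ4137))) (BT.node 4140 (BT.node 4139 (BT.node 4138 (BT.leaf cJ4138) (BT.leaf cJ4139)) (BT.leaf cJ4140)) (BT.node 4141 (BT.leaf cJ4141) (BT.leaf cJ4142)))) (BT.node 4147 (BT.node 4145 (BT.node 4144 (BT.node 4143 (BT.leaf cJ4143) (BT.leaf cJ4144)) (BT.leaf cJ4145)) (BT.node 4146 (BT.leaf cJ4146) (BT.leaf cJ4147))) (BT.node 4149 (BT.node 4148 (BT.leaf cJ4148) (BT.leaf cJ4149)) (BT.node 4150 (BT.leaf cJ4150) (BT.leaf cJ4151))))))) (BT.node 4190 (BT.node 4171 (BT.node 4161 (BT.node 4156 (BT.node 4154 (BT.node 4153 (BT.node 4152 (BT.leaf cJ4152) (BT.leaf cJ4153)) (BT.leaf cJ4154)) (BT.node 4155 (BT.leaf cJ4155) (BT.leaf cJ4156))) (BT.node 4159 (BT.node 4158 (BT.node 4157 (BT.leaf cJ4157) (BT.leaf cJ4158)) (BT.leaf cJ4159)) (BT.node 4160 (BT.leaf cJ4160) (BT.leaf cJ4161)))) (BT.node 4166 (BT.node 4164 (BT.node 4163 (BT.node 4162 (BT.leaf cJ4162) (BT.leaf cJ4163)) (BT.leaf cJ4164)) (BT.node 4165 (BT.leaf cJ4165) (BT.leaf cJ4166))) (BT.node 4169 (BT.node 4168 (BT.node 4167 (BT.leaf cJ4167) (BT.leaf cJ4168)) (BT.leaf cJ4169)) (BT.node 4170 (BT.leaf cJ4170) (BT.leaf cJ4171))))) (BT.node 4181 (BT.node 4176 (BT.node 4174 (BT.node 4173 (BT.node 4172 (BT.leaf cJ4172) (BT.leaf cJ4173)) (BT.leaf cJ4174)) (BT.node 4175 (BT.leaf cJ4175) (BT.leaf cJ4176))) (BT.node 4179 (BT.node 4178 (BT.node 4177 (BT.leaf cJ4177) (BT.leaf cJ4178)) (BT.leaf cJ4179)) (BT.node 4180 (BT.leaf cJ4180) (BT.leaf cJ4181)))) (BT.node 4186 (BT.node 4184 (BT.node 4183 (BT.node 4182 (BT.leaf cJ4182) (BT.leaf cJ4183)) (BT.leaf cJ4184)) (BT.node 4185 (BT.leaf cJ4185) (BT.leaf cJ4186))) (BT.node 4188 (BT.node 4187 (BT.leaf cJ4187) (BT.leaf cJ4188)) (BT.node 4189 (BT.leaf cJ4189) (BT.leaf cJ4190)))))) (BT.node 4210 (BT.node 4200 (BT.node 4195 (BT.node 4193 (BT.node 4192 (BT.node 4191 (BT.leaf cJ4191) (BT.leaf cJ4192)) (BT.leaf cJ4193)) (BT.node 4194 (BT.leaf cJ4194) (BT.leaf cJ4195))) (BT.node 4198 (BT.node 4197 (BT.node 4196 (BT.leaf cJ4196) (BT.leaf cJ4197)) (BT.leaf cJ4198)) (BT.node 4199 (BT.leaf cJ4199) (BT.leaf cJ4200)))) (BT.node 4205 (BT.node 4203 (BT.node 4202 (BT.node 4201 (BT.leaf cJ4201) (BT.leaf cJ4202)) (BT.leaf cJ4203)) (BT.node 4204 (BT.leaf cJ4204) (BT.leaf cJ4205))) (BT.node 4208 (BT.node 4207 (BT.node 4206 (BT.leaf cJ4206) (BT.leaf cJ4207)) (BT.leaf cJ4208)) (BT.node 4209 (BT.leaf cJ4209) (BT.leaf cJ4210))))) (BT.node 4220 (BT.node 4215 (BT.node 4213 (BT.node 4212 (BT.node 4211 (BT.leaf cJ4211) (BT.leaf cJ4212)) (BT.leaf cJ4213)) (BT.node 4214 (BT.leaf cJ4214) (BT.leaf cJ4215))) (BT.node 4218 (BT.node 4217 (BT.node 4216 (BT.leaf cJ4216) (BT.leaf cJ4217)) (BT.leaf cJ4218)) (BT.node 4219 (BT.leaf cJ4219) (BT.leaf cJ4220)))) (BT.node 4225 (BT.node 4223 (BT.node 4222 (BT.node 4221 (BT.leaf cJ4221) (BT.leaf cJ4222)) (BT.leaf cJ4223)) (BT.node 4224 (BT.leaf cJ4224) (BT.leaf cJ4225))) (BT.node 4227 (BT.node 4226 (BT.leaf cJ4226) (BT.leaf cJ4227)) (BT.node 4228 (BT.leaf cJ4228) (BT.leaf cJ4229)))))))) (BT.node 4307 (BT.node 4268 (BT.node 4249 (BT.node 4239 (BT.node 4234 (BT.node 4232 (BT.node 4231 (BT.node 4230 (BT.leaf cJ4230) (BT.leaf cJ4231)) (BT.leaf cJ4232)) (BT.node 4233 (BT.leaf cJ4233) (BT.leaf cJ4234))) (BT.node 4237 (BT.node 4236 (BT.node 4235 (BT.leaf cJ4235) (BT.leaf cJ4236)) (BT.leaf cJ4237)) (BT.node 4238 (BT.leaf cJ4238) (BT.leaf cJ4239)))) (BT.node 4244 (BT.node 4242 (BT.node 4241 (BT.node 4240 (BT.leaf cJ4240) (BT.leaf cJ4241)) (BT.leaf cJ4242)) (BT.node 4243 (BT.leaf cJ4243) (BT.leaf cJ4244))) (BT.node 4247 (BT.node 4246 (BT.node 4245 (BT.leaf cJ4245) (BT.leaf cJ4246)) (BT.leaf cJ4247)) (BT.node 4248 (BT.leaf cJ4248) (BT.leaf cJ4249))))) (BT.node 4259 (BT.node 4254 (BT.node 4252 (BT.node 4251 (BT.node 4250 (BT.leaf cJ4250) (BT.leaf cJ4251)) (BT.leaf cJ4252)) (BT.node 4253 (BT.leaf cJ4253) (BT.leaf cJ4254))) (BT.node 4257 (BT.node 4256 (BT.node 4255 (BT.leaf cJ4255) (BT.leaf cJ4256)) (BT.leaf cJ4257)) (BT.node 4258 (BT.leaf cJ4258) (BT.leaf cJ4259)))) (BT.node 4264 (BT.node 4262 (BT.node 4261 (BT.node 4260 (BT.leaf cJ4260) (BT.leaf cJ4261)) (BT.leaf cJ4262)) (BT.node 4263 (BT.leaf cJ4263) (BT.leaf cJ4264))) (BT.node 4266 (BT.node 4265 (BT.leaf cJ4265) (BT.leaf cJ4266)) (BT.node 4267 (BT.leaf cJ4267) (BT.leaf cJ4268)))))) (BT.node 4288 (BT.node 4278 (BT.node 4273 (BT.node 4271 (BT.node 4270 (BT.node 4269 (BT.leaf cJ4269) (BT.leaf cJ4270)) (BT.leaf cJ4271)) (BT.node 4272 (BT.leaf cJ4272) (BT.leaf cJ4273))) (BT.node 4276 (BT.node 4275 (BT.node 4274 (BT.leaf cJ4274) (BT.leaf cJ4275)) (BT.leaf cJ4276)) (BT.node 4277 (BT.leaf cJ4277) (BT.leaf cJ4278)))) (BT.node 4283 (BT.node 4281 (BT.node 4280 (BT.node 4279 (BT.leaf cJ4279) (BT.leaf cJ4280)) (BT.leaf cJ4281)) (BT.node 4282 (BT.leaf cJ4282) (BT.leaf cJ4283))) (BT.node 4286 (BT.node 4285 (BT.node 4284 (BT.leaf cJ4284) (BT.leaf cJ4285)) (BT.leaf cJ4286)) (BT.node 4287 (BT.leaf cJ4287) (BT.leaf cJ4288))))) (BT.node 4298 (BT.node 4293 (BT.node 4291 (BT.node 4290 (BT.node 4289 (BT.leaf cJ4289) (BT.leaf cJ4290)) (BT.leaf cJ4291)) (BT.node 4292 (BT.leaf cJ4292) (BT.leaf cJ4293))) (BT.node 4296 (BT.node 4295 (BT.node 4294 (BT.leaf cJ4294) (BT.leaf cJ4295)) (BT.leaf cJ4296)) (BT.node 4297 (BT.leaf cJ4297) (BT.leaf cJ4298)))) (BT.node 4303 (BT.node 4301 (BT.node 4300 (BT.node 4299 (BT.leaf cJ4299) (BT.leaf cJ4300)) (BT.leaf cJ4301)) (BT.node 4302 (BT.leaf cJ4302) (BT.leaf cJ4303))) (BT.node 4305 (BT.node 4304 (BT.leaf cJ4304) (BT.leaf cJ4305)) (BT.node 4306 (BT.leaf cJ4306) (BT.leaf cJ4307))))))) (BT.node 4346 (BT.node 4327 (BT.node 4317 (BT.node 4312 (BT.node 4310 (BT.node 4309 (BT.node 4308 (BT.leaf cJ4308) (BT.leaf cJ4309)) (BT.leaf cJ4310)) (BT.node 4311 (BT.leaf cJ4311) (BT.leaf cJ4312))) (BT.node 4315 (BT.node 4314 (BT.node 4313 (BT.leaf cJ4313) (BT.leaf cJ4314)) (BT.leaf cJ4315)) (BT.node 4316 (BT.leaf cJ4316) (BT.leaf cJ4317)))) (BT.node 4322 (BT.node 4320 (BT.node 4319 (BT.node 4318 (BT.leaf cJ4318) (BT.leaf cJ4319)) (BT.leaf cJ4320)) (BT.node 4321 (BT.leaf cJ4321) (BT.leaf cJ4322))) (BT.node 4325 (BT.node 4324 (BT.node 4323 (BT.leaf cJ4323) (BT.leaf cJ4324)) (BT.leaf cJ4325)) (BT.node 4326 (BT.leaf cJ4326) (BT.leaf cJ4327))))) (BT.node 4337 (BT.node 4332 (BT.node 4330 (BT.node 4329 (BT.node 4328 (BT.leaf cJ4328) (BT.leaf cJ4329)) (BT.leaf cJ4330)) (BT.node 4331 (BT.leaf cJ4331) (BT.leaf cJ4332))) (BT.node 4335 (BT.node 4334 (BT.node 4333 (BT.leaf cJ4333) (BT.leaf cJ4334)) (BT.leaf cJ4335)) (BT.node 4336 (BT.leaf cJ4336) (BT.leaf cJ4337)))) (BT.node 4342 (BT.node 4340 (BT.node 4339 (BT.node 4338 (BT.leaf cJ4338) (BT.leaf cJ4339)) (BT.leaf cJ4340)) (BT.node 4341 (BT.leaf cJ4341) (BT.leaf cJ4342))) (BT.node 4344 (BT.node 4343 (BT.leaf cJ4343) (BT.leaf cJ4344)) (BT.node 4345 (BT.leaf cJ4345) (BT.leaf cJ4346)))))) (BT.node 4366 (BT.node 4356 (BT.node 4351 (BT.node 4349 (BT.node 4348 (BT.node 4347 (BT.leaf cJ4347) (BT.leaf cJ4348)) (BT.leaf cJ4349)) (BT.node 4350 (BT.leaf cJ4350) (BT.leaf cJ4351))) (BT.node 4354 (BT.node 4353 (BT.node 4352 (BT.leaf cJ4352) (BT.leaf cJ4353)) (BT.leaf cJ4354)) (BT.node 4355 (BT.leaf cJ4355) (BT.leaf cJ4356)))) (BT.node 4361 (BT.node 4359 (BT.node 4358 (BT.node 4357 (BT.leaf cJ4357) (BT.leaf cJ4358)) (BT.leaf cJ4359)) (BT.node 4360 (BT.leaf cJ4360) (BT.leaf cJ4361))) (BT.node 4364 (BT.node 4363 (BT.node 4362 (BT.leaf cJ4362) (BT.leaf cJ4363)) (BT.leaf cJ4364)) (BT.node 4365 (BT.leaf cJ4365) (BT.leaf cJ4366))))) (BT.node 4376 (BT.node 4371 (BT.node 4369 (BT.node 4368 (BT.node 4367 (BT.leaf cJ4367) (BT.leaf cJ4368)) (BT.leaf cJ4369)) (BT.node 4370 (BT.leaf cJ4370) (BT.leaf cJ4371))) (BT.node 4374 (BT.node 4373 (BT.node 4372 (BT.leaf cJ4372) (BT.leaf cJ4373)) (BT.leaf cJ4374)) (BT.node 4375 (BT.leaf cJ4375) (BT.leaf cJ4376)))) (BT.node 4381 (BT.node 4379 (BT.node 4378 (BT.node 4377 (BT.leaf cJ4377) (BT.leaf cJ4378)) (BT.leaf cJ4379)) (BT.node 4380 (BT.leaf cJ4380) (BT.leaf cJ4381))) (BT.node 4383 (BT.node 4382 (BT.leaf cJ4382) (BT.leaf cJ4383)) (BT.node 4384 (BT.leaf cJ4384) (BT.leaf cJ4385)))))))))) (BT.node 4698 (BT.node 4542 (BT.node 4464 (BT.node 4425 (BT.node 4405 (BT.node 4395 (BT.node 4390 (BT.node 4388 (BT.node 4387 (BT.node 4386 (BT.leaf cJ4386) (BT.leaf cJ4387)) (BT.leaf cJ4388)) (BT.node 4389 (BT.leaf cJ4389) (BT.leaf cJ4390))) (BT.node 4393 (BT.node 4392 (BT.node 4391 (BT.leaf cJ4391) (BT.leaf cJ4392)) (BT.leaf cJ4393)) (BT.node 4394 (BT.leaf cJ4394) (BT.leaf cJ4395)))) (BT.node 4400 (BT.node 4398 (BT.node 4397 (BT.node 4396 (BT.leaf cJ4396) (BT.leaf cJ4397)) (BT.leaf cJ4398)) (BT.node 4399 (BT.leaf cJ4399) (BT.leaf cJ4400))) (BT.node 4403 (BT.node 4402 (BT.node 4401 (BT.leaf cJ4401) (BT.leaf cJ4402)) (BT.leaf cJ4403)) (BT.node 4404 (BT.leaf cJ4404) (BT.leaf cJ4405))))) (BT.node 4415 (BT.node 4410 (BT.node 4408 (BT.node 4407 (BT.node 4406 (BT.leaf cJ4406) (BT.leaf cJ4407)) (BT.leaf cJ4408)) (BT.node 4409 (BT.leaf cJ4409) (BT.leaf cJ4410))) (BT.node 4413 (BT.node 4412 (BT.node 4411 (BT.leaf cJ4411) (BT.leaf cJ4412)) (BT.leaf cJ4413)) (BT.node 4414 (BT.leaf cJ4414) (BT.leaf cJ4415)))) (BT.node 4420 (BT.node 4418 (BT.node 4417 (BT.node 4416 (BT.leaf cJ4416) (BT.leaf cJ4417)) (BT.leaf cJ4418)) (BT.node 4419 (BT.leaf cJ4419) (BT.leaf cJ4420))) (BT.node 4423 (BT.node 4422 (BT.node 4421 (BT.leaf cJ4421) (BT.leaf cJ4422)) (BT.leaf cJ4423)) (BT.node 4424 (BT.leaf cJ4424) (BT.leaf cJ4425)))))) (BT.node 4445 (BT.node 4435 (BT.node 4430 (BT.node 4428 (BT.node 4427 (BT.node 4426 (BT.leaf cJ4426) (BT.leaf cJ4427)) (BT.leaf cJ4428)) (BT.node 4429 (BT.leaf cJ4429) (BT.leaf cJ4430))) (BT.node 4433 (BT.node 4432 (BT.node 4431 (BT.leaf cJ4431) (BT.leaf cJ4432)) (BT.leaf cJ4433)) (BT.node 4434 (BT.leaf cJ4434) (BT.leaf cJ4435)))) (BT.node 4440 (BT.node 4438 (BT.node 4437 (BT.node 4436 (BT.leaf cJ4436) (BT.leaf cJ4437)) (BT.leaf cJ4438)) (BT.node 4439 (BT.leaf cJ4439) (BT.leaf cJ4440))) (BT.node 4443 (BT.node 4442 (BT.node 4441 (BT.leaf cJ4441) (BT.leaf cJ4442)) (BT.leaf cJ4443)) (BT.node 4444 (BT.leaf cJ4444) (BT.leaf cJ4445))))) (BT.node 4455 (BT.node 4450 (BT.node 4448 (BT.node 4447 (BT.node 4446 (BT.leaf cJ4446) (BT.leaf cJ4447)) (BT.leaf cJ4448)) (BT.node 4449 (BT.leaf cJ4449) (BT.leaf cJ4450))) (BT.node 4453 (BT.node 4452 (BT.node 4451 (BT.leaf cJ4451) (BT.leaf cJ4452)) (BT.leaf cJ4453)) (BT.node 4454 (BT.leaf cJ4454) (BT.leaf cJ4455)))) (BT.node 4460 (BT.node 4458 (BT.node 4457 (BT.node 4456 (BT.leaf cJ4456) (BT.leaf cJ4457)) (BT.leaf cJ4458)) (BT.node 4459 (BT.leaf cJ4459) (BT.leaf cJ4460))) (BT.node 4462 (BT.node 4461 (BT.leaf cJ4461) (BT.leaf cJ4462)) (BT.node 4463 (BT.leaf cJ4463) (BT.leaf cJ4464))))))) (BT.node 4503 (BT.node 4484 (BT.node 4474 (BT.node 4469 (BT.node 4467 (BT.node 4466 (BT.node 4465 (BT.leaf cJ4465) (BT.leaf cJ4466)) (BT.leaf cJ4467)) (BT.node 4468 (BT.leaf cJ4468) (BT.leaf cJ4469))) (BT.node 4472 (BT.node 4471 (BT.node 4470 (BT.leaf cJ4470) (BT.leaf cJ4471)) (BT.leaf cJ4472)) (BT.node 4473 (BT.leaf cJ4473) (BT.leaf cJ4474)))) (BT.node 4479 (BT.node 4477 (BT.node 4476 (BT.node 4475 (BT.leaf cJ4475) (BT.leaf cJ4476)) (BT.leaf cJ4477)) (BT.node 4478 (BT.leaf cJ4478) (BT.leaf cJ4479))) (BT.node 4482 (BT.node 4481 (BT.node 4480 (BT.leaf cJ4480) (BT.leaf cJ4481)) (BT.leaf cJ4482)) (BT.node 4483 (BT.leaf cJ4483) (BT.leaf cJ4484))))) (BT.node 4494 (BT.node 4489 (BT.node 4487 (BT.node 4486 (BT.node 4485 (BT.leaf cJ4485) (BT.leaf cJ4486)) (BT.leaf cJ4487)) (BT.node 4488 (BT.leaf cJ4488) (BT.leaf cJ4489))) (BT.node 4492 (BT.node 4491 (BT.node 4490 (BT.leaf cJ4490) (BT.leaf cJ4491)) (BT.leaf cJ4492)) (BT.node 4493 (BT.leaf cJ4493) (BT.leaf cJ4494)))) (BT.node 4499 (BT.node 4497 (BT.node 4496 (BT.node 4495 (BT.leaf cJ4495) (BT.leaf cJ4496)) (BT.leaf cJ4497)) (BT.node 4498 (BT.leaf cJ4498) (BT.leaf cJ4499))) (BT.node 4501 (BT.node 4500 (BT.leaf cJ4500) (BT.leaf cJ4501)) (BT.node 4502 (BT.leaf cJ4502) (BT.leaf cJ4503)))))) (BT.node 4523 (BT.node 4513 (BT.node 4508 (BT.node 4506 (BT.node 4505 (BT.node 4504 (BT.leaf cJ4504) (BT.leaf cJ4505)) (BT.leaf cJ4506)) (BT.node 4507 (BT.leaf cJ4507) (BT.leaf cJ4508))) (BT.node 4511 (BT.node 4510 (BT.node 4509 (BT.leaf cJ4509) (BT.leaf cJ4510)) (BT.leaf cJ4511)) (BT.node 4512 (BT.leaf cJ4512) (BT.leaf cJ4513)))) (BT.node 4518 (BT.node 4516 (BT.node 4515 (BT.node 4514 (BT.leaf cJ4514) (BT.leaf cJ4515)) (BT.leaf cJ4516)) (BT.node 4517 (BT.leaf cJ4517) (BT.leaf cJ4518))) (BT.node 4521 (BT.node 4520 (BT.node 4519 (BT.leaf cJ4519) (BT.leaf cJ4520)) (BT.leaf cJ4521)) (BT.node 4522 (BT.leaf cJ4522) (BT.leaf cJ4523))))) (BT.node 4533 (BT.node 4528 (BT.node 4526 (BT.node 4525 (BT.node 4524 (BT.leaf cJ4524) (BT.leaf cJ4525)) (BT.leaf cJ4526)) (BT.node 4527 (BT.leaf cJ4527) (BT.leaf cJ4528))) (BT.node 4531 (BT.node 4530 (BT.node 4529 (BT.leaf cJ4529) (BT.leaf cJ4530)) (BT.leaf cJ4531)) (BT.node 4532 (BT.leaf cJ4532) (BT.leaf cJ4533)))) (BT.node 4538 (BT.node 4536 (BT.node 4535 (BT.node 4534 (BT.leaf cJ4534) (BT.leaf cJ4535)) (BT.leaf cJ4536)) (BT.node 4537 (BT.leaf cJ4537) (BT.leaf cJ4538))) (BT.node 4540 (BT.node 4539 (BT.leaf cJ4539) (BT.leaf cJ4540)) (BT.node 4541 (BT.leaf cJ4541) (BT.leaf cJ4542)))))))) (BT.node 4620 (BT.node 4581 (BT.node 4562 (BT.node 4552 (BT.node 4547 (BT.node 4545 (BT.node 4544 (BT.node 4543 (BT.leaf cJ4543) (BT.leaf cJ4544)) (BT.leaf cJ4545)) (BT.node 4546 (BT.leaf cJ4546) (BT.leaf cJ4547))) (BT.node 4550 (BT.node 4549 (BT.node 4548 (BT.leaf cJ4548) (BT.leaf cJ4549)) (BT.leaf cJ4550)) (BT.node 4551 (BT.leaf cJ4551) (BT.leaf cJ4552)))) (BT.node 4557 (BT.node 4555 (BT.node 4554 (BT.node 4553 (BT.leaf cJ4553) (BT.leaf cJ4554)) (BT.leaf cJ4555)) (BT.node 4556 (BT.leaf cJ4556) (BT.leaf cJ4557))) (BT.node 4560 (BT.node 4559 (BT.node 4558 (BT.leaf cJ4558) (BT.leaf cJ4559)) (BT.leaf cJ4560)) (BT.node 4561 (BT.leaf cJ4561) (BT.leaf cJ4562))))) (BT.node 4572 (BT.node 4567 (BT.node 4565 (BT.node 4564 (BT.node 4563 (BT.leaf cJ4563) (BT.leaf cJ4564)) (BT.leaf cJ4565)) (BT.node 4566 (BT.leaf cJ4566) (BT.leaf cJ4567))) (BT.node 4570 (BT.node 4569 (BT.node 4568 (BT.leaf cJ4568) (BT.leaf cJ4569)) (BT.leaf cJ4570)) (BT.node 4571 (BT.leaf cJ4571) (BT.leaf cJ4572)))) (BT.node 4577 (BT.node 4575 (BT.node 4574 (BT.node 4573 (BT.leaf cJ4573) (BT.leaf cJ4574)) (BT.leaf cJ4575)) (BT.node 4576 (BT.leaf cJ4576) (BT.leaf cJ4577))) (BT.node 4579 (BT.node 4578 (BT.leaf cJ4578) (BT.leaf cJ4579)) (BT.node 4580 (BT.leaf cJ4580) (BT.leaf cJ4581)))))) (BT.node 4601 (BT.node 4591 (BT.node 4586 (BT.node 4584 (BT.node 4583 (BT.node 4582 (BT.leaf cJ4582) (BT.leaf cJ4583)) (BT.leaf cJ4584)) (BT.node 4585 (BT.leaf cJ4585) (BT.leaf cJ4586))) (BT.node 4589 (BT.node 4588 (BT.node 4587 (BT.leaf cJ4587) (BT.leaf cJ4588)) (BT.leaf cJ4589)) (BT.node 4590 (BT.leaf cJ4590) (BT.leaf cJ4591)))) (BT.node 4596 (BT.node 4594 (BT.node 4593 (BT.node 4592 (BT.leaf cJ4592) (BT.leaf cJ4593)) (BT.leaf cJ4594)) (BT.node 4595 (BT.leaf cJ4595) (BT.leaf cJ4596))) (BT.node 4599 (BT.node 4598 (BT.node 4597 (BT.leaf cJ4597) (BT.leaf cJ4598)) (BT.leaf cJ4599)) (BT.node 4600 (BT.leaf cJ4600) (BT.leaf cJ4601))))) (BT.node 4611 (BT.node 4606 (BT.node 4604 (BT.node 4603 (BT.node 4602 (BT.leaf cJ4602) (BT.leaf cJ4603)) (BT.leaf cJ4604)) (BT.node 4605 (BT.leaf cJ4605) (BT.leaf cJ4606))) (BT.node 4609 (BT.node 4608 (BT.node 4607 (BT.leaf cJ4607) (BT.leaf cJ4608)) (BT.leaf cJ4609)) (BT.node 4610 (BT.leaf cJ4610) (BT.leaf cJ4611)))) (BT.node 4616 (BT.node 4614 (BT.node 4613 (BT.node 4612 (BT.leaf cJ4612) (BT.leaf cJ4613)) (BT.leaf cJ4614)) (BT.node 4615 (BT.leaf cJ4615) (BT.leaf cJ4616))) (BT.node 4618 (BT.node 4617 (BT.leaf cJ4617) (BT.leaf cJ4618)) (BT.node 4619 (BT.leaf cJ4619) (BT.leaf cJ4620))))))) (BT.node 4659 (BT.node 4640 (BT.node 4630 (BT.node 4625 (BT.node 4623 (BT.node 4622 (BT.node 4621 (BT.leaf cJ4621) (BT.leaf cJ4622)) (BT.leaf cJ4623)) (BT.node 4624 (BT.leaf cJ4624) (BT.leaf cJ4625))) (BT.node 4628 (BT.node 4627 (BT.node 4626 (BT.leaf cJ4626) (BT.leaf cJ4627)) (BT.leaf cJ4628)) (BT.node 4629 (BT.leaf cJ4629) (BT.leaf cJ4630)))) (BT.node 4635 (BT.node 4633 (BT.node 4632 (BT.node 4631 (BT.leaf cJ4631) (BT.leaf cJ4632)) (BT.leaf cJ4633)) (BT.node 4634 (BT.leaf cJ4634) (BT.leaf cJ4635))) (BT.node 4638 (BT.node 4637 (BT.node 4636 (BT.leaf cJ4636) (BT.leaf cJ4637)) (BT.leaf cJ4638)) (BT.node 4639 (BT.leaf cJ4639) (BT.leaf cJ4640))))) (BT.node 4650 (BT.node 4645 (BT.node 4643 (BT.node 4642 (BT.node 4641 (BT.leaf cJ4641) (BT.leaf cJ4642)) (BT.leaf cJ4643)) (BT.node 4644 (BT.leaf cJ4644) (BT.leaf cJ4645))) (BT.node 4648 (BT.node 4647 (BT.node 4646 (BT.leaf cJ4646) (BT.leaf cJ4647)) (BT.leaf cJ4648)) (BT.node 4649 (BT.leaf cJ4649) (BT.leaf cJ4650)))) (BT.node 4655 (BT.node 4653 (BT.node 4652 (BT.node 4651 (BT.leaf cJ4651) (BT.leaf cJ4652)) (BT.leaf cJ4653)) (BT.node 4654 (BT.leaf cJ4654) (BT.leaf cJ4655))) (BT.node 4657 (BT.node 4656 (BT.leaf cJ4656) (BT.leaf cJ4657)) (BT.node 4658 (BT.leaf cJ4658) (BT.leaf cJ4659)))))) (BT.node 4679 (BT.node 4669 (BT.node 4664 (BT.node 4662 (BT.node 4661 (BT.node 4660 (BT.leaf cJ4660) (BT.leaf cJ4661)) (BT.leaf cJ4662)) (BT.node 4663 (BT.leaf cJ4663) (BT.leaf cJ4664))) (BT.node 4667 (BT.node 4666 (BT.node 4665 (BT.leaf cJ4665) (BT.leaf cJ4666)) (BT.leaf cJ4667)) (BT.node 4668 (BT.leaf cJ4668) (BT.leaf cJ4669)))) (BT.node 4674 (BT.node 4672 (BT.node 4671 (BT.node 4670 (BT.leaf cJ4670) (BT.leaf cJ4671)) (BT.leaf cJ4672)) (BT.node 4673 (BT.leaf cJ4673) (BT.leaf cJ4674))) (BT.node 4677 (BT.node 4676 (BT.node 4675 (BT.leaf cJ4675) (BT.leaf cJ4676)) (BT.leaf cJ4677)) (BT.node 4678 (BT.leaf cJ4678) (BT.leaf cJ4679))))) (BT.node 4689 (BT.node 4684 (BT.node 4682 (BT.node 4681 (BT.node 4680 (BT.leaf cJ4680) (BT.leaf cJ4681)) (BT.leaf cJ4682)) (BT.node 4683 (BT.leaf cJ4683) (BT.leaf cJ4684))) (BT.node 4687 (BT.node 4686 (BT.node 4685 (BT.leaf cJ4685) (BT.leaf cJ4686)) (BT.leaf cJ4687)) (BT.node 4688 (BT.leaf cJ4688) (BT.leaf cJ4689)))) (BT.node 4694 (BT.node 4692 (BT.node 4691 (BT.node 4690 (BT.leaf cJ4690) (BT.leaf cJ4691)) (BT.leaf cJ4692)) (BT.node 4693 (BT.leaf cJ4693) (BT.leaf cJ4694))) (BT.node 4696 (BT.node 4695 (BT.leaf cJ4695) (BT.leaf cJ4696)) (BT.node 4697 (BT.leaf cJ4697) (BT.leaf cJ4698))))))))) (BT.node 4855 (BT.node 4777 (BT.node 4738 (BT.node 4718 (BT.node 4708 (BT.node 4703 (BT.node 4701 (BT.node 4700 (BT.node 4699 (BT.leaf cJ4699) (BT.leaf cJ4700)) (BT.leaf cJ4701)) (BT.node 4702 (BT.leaf cJ4702) (BT.leaf cJ4703))) (BT.node 4706 (BT.node 4705 (BT.node 4704 (BT.leaf cJ4704) (BT.leaf cJ4705)) (BT.leaf cJ4706)) (BT.node 4707 (BT.leaf cJ4707) (BT.leaf cJ4708)))) (BT.node 4713 (BT.node 4711 (BT.node 4710 (BT.node 4709 (BT.leaf cJ4709) (BT.leaf cJ4710)) (BT.leaf cJ4711)) (BT.node 4712 (BT.leaf cJ4712) (BT.leaf cJ4713))) (BT.node 4716 (BT.node 4715 (BT.node 4714 (BT.leaf cJ4714) (BT.leaf cJ4715)) (BT.leaf cJ4716)) (BT.node 4717 (BT.leaf cJ4717) (BT.leaf cJ4718))))) (BT.node 4728 (BT.node 4723 (BT.node 4721 (BT.node 4720 (BT.node 4719 (BT.leaf cJ4719) (BT.leaf cJ4720)) (BT.leaf cJ4721)) (BT.node 4722 (BT.leaf cJ4722) (BT.leaf cJ4723))) (BT.node 4726 (BT.node 4725 (BT.node 4724 (BT.leaf cJ4724) (BT.leaf cJ4725)) (BT.leaf cJ4726)) (BT.node 4727 (BT.leaf cJ4727) (BT.leaf cJ4728)))) (BT.node 4733 (BT.node 4731 (BT.node 4730 (BT.node 4729 (BT.leaf cJ4729) (BT.leaf cJ4730)) (BT.leaf cJ4731)) (BT.node 4732 (BT.leaf cJ4732) (BT.leaf cJ4733))) (BT.node 4736 (BT.node 4735 (BT.node 4734 (BT.leaf cJ4734) (BT.leaf cJ4735)) (BT.leaf cJ4736)) (BT.node 4737 (BT.leaf cJ4737) (BT.leaf cJ4738)))))) (BT.node 4758 (BT.node 4748 (BT.node 4743 (BT.node 4741 (BT.node 4740 (BT.node 4739 (BT.leaf cJ4739) (BT.leaf cJ4740)) (BT.leaf cJ4741)) (BT.node 4742 (BT.leaf cJ4742) (BT.leaf cJ4743))) (BT.node 4746 (BT.node 4745 (BT.node 4744 (BT.leaf cJ4744) (BT.leaf cJ4745)) (BT.leaf cJ4746)) (BT.node 4747 (BT.leaf cJ4747) (BT.leaf cJ4748)))) (BT.node 4753 (BT.node 4751 (BT.node 4750 (BT.node 4749 (BT.leaf cJ4749) (BT.leaf cJ4750)) (BT.leaf cJ4751)) (BT.node 4752 (BT.leaf cJ4752) (BT.leaf cJ4753))) (BT.node 4756 (BT.node 4755 (BT.node 4754 (BT.leaf cJ4754) (BT.leaf cJ4755)) (BT.leaf cJ4756)) (BT.node 4757 (BT.leaf cJ4757) (BT.leaf cJ4758))))) (BT.node 4768 (BT.node 4763 (BT.node 4761 (BT.node 4760 (BT.node 4759 (BT.leaf cJ4759) (BT.leaf cJ4760)) (BT.leaf cJ4761)) (BT.node 4762 (BT.leaf cJ4762) (BT.leaf cJ4763))) (BT.node 4766 (BT.node 4765 (BT.node 4764 (BT.leaf cJ4764) (BT.leaf cJ4765)) (BT.leaf cJ4766)) (BT.node 4767 (BT.leaf cJ4767) (BT.leaf cJ4768)))) (BT.node 4773 (BT.node 4771 (BT.node 4770 (BT.node 4769 (BT.leaf cJ4769) (BT.leaf cJ4770)) (BT.leaf cJ4771)) (BT.node 4772 (BT.leaf cJ4772) (BT.leaf cJ4773))) (BT.node 4775 (BT.node 4774 (BT.leaf cJ4774) (BT.leaf cJ4775)) (BT.node 4776 (BT.leaf cJ4776) (BT.leaf cJ4777))))))) (BT.node 4816 (BT.node 4797 (BT.node 4787 (BT.node 4782 (BT.node 4780 (BT.node 4779 (BT.node 4778 (BT.leaf cJ4778) (BT.leaf cJ4779)) (BT.leaf cJ4780)) (BT.node 4781 (BT.leaf cJ4781) (BT.leaf cJ4782))) (BT.node 4785 (BT.node 4784 (BT.node 4783 (BT.leaf cJ4783) (BT.leaf cJ4784)) (BT.leaf cJ4785)) (BT.node 4786 (BT.leaf cJ4786) (BT.leaf cJ4787)))) (BT.node 4792 (BT.node 4790 (BT.node 4789 (BT.node 4788 (BT.leaf cJ4788) (BT.leaf cJ4789)) (BT.leaf cJ4790)) (BT.node 4791 (BT.leaf cJ4791) (BT.leaf cJ4792))) (BT.node 4795 (BT.node 4794 (BT.node 4793 (BT.leaf cJ4793) (BT.leaf cJ4794)) (BT.leaf cJ4795)) (BT.node 4796 (BT.leaf cJ4796) (BT.leaf cJ4797))))) (BT.node 4807 (BT.node 4802 (BT.node 4800 (BT.node 4799 (BT.node 4798 (BT.leaf cJ4798) (BT.leaf cJ4799)) (BT.leaf cJ4800)) (BT.node 4801 (BT.leaf cJ4801) (BT.leaf cJ4802))) (BT.node 4805 (BT.node 4804 (BT.node 4803 (BT.leaf cJ4803) (BT.leaf cJ4804)) (BT.leaf cJ4805)) (BT.node 4806 (BT.leaf cJ4806) (BT.leaf cJ4807)))) (BT.node 4812 (BT.node 4810 (BT.node 4809 (BT.node 4808 (BT.leaf cJ4808) (BT.leaf cJ4809)) (BT.leaf cJ4810)) (BT.node 4811 (BT.leaf cJ4811) (BT.leaf cJ4812))) (BT.node 4814 (BT.node 4813 (BT.leaf cJ4813) (BT.leaf cJ4814)) (BT.node 4815 (BT.leaf cJ4815) (BT.leaf cJ4816)))))) (BT.node 4836 (BT.node 4826 (BT.node 4821 (BT.node 4819 (BT.node 4818 (BT.node 4817 (BT.leaf cJ4817) (BT.leaf cJ4818)) (BT.leaf cJ4819)) (BT.node 4820 (BT.leaf cJ4820) (BT.leaf cJ4821))) (BT.node 4824 (BT.node 4823 (BT.node 4822 (BT.leaf cJ4822) (BT.leaf cJ4823)) (BT.leaf cJ4824)) (BT.node 4825 (BT.leaf cJ4825) (BT.leaf cJ4826)))) (BT.node 4831 (BT.node 4829 (BT.node 4828 (BT.node 4827 (BT.leaf cJ4827) (BT.leaf cJ4828)) (BT.leaf cJ4829)) (BT.node 4830 (BT.leaf cJ4830) (BT.leaf cJ4831))) (BT.node 4834 (BT.node 4833 (BT.node 4832 (BT.leaf cJ4832) (BT.leaf cJ4833)) (BT.leaf cJ4834)) (BT.node 4835 (BT.leaf cJ4835) (BT.leaf cJ4836))))) (BT.node 4846 (BT.node 4841 (BT.node 4839 (BT.node 4838 (BT.node 4837 (BT.leaf cJ4837) (BT.leaf cJ4838)) (BT.leaf cJ4839)) (BT.node 4840 (BT.leaf cJ4840) (BT.leaf cJ4841))) (BT.node 4844 (BT.node 4843 (BT.node 4842 (BT.leaf cJ4842) (BT.leaf cJ4843)) (BT.leaf cJ4844)) (BT.node 4845 (BT.leaf cJ4845) (BT.leaf cJ4846)))) (BT.node 4851 (BT.node 4849 (BT.node 4848 (BT.node 4847 (BT.leaf cJ4847) (BT.leaf cJ4848)) (BT.leaf cJ4849)) (BT.node 4850 (BT.leaf cJ4850) (BT.leaf cJ4851))) (BT.node 4853 (BT.node 4852 (BT.leaf cJ4852) (BT.leaf cJ4853)) (BT.node 4854 (BT.leaf cJ4854) (BT.leaf cJ4855)))))))) (BT.node 4933 (BT.node 4894 (BT.node 4875 (BT.node 4865 (BT.node 4860 (BT.node 4858 (BT.node 4857 (BT.node 4856 (BT.leaf cJ4856) (BT.leaf cJ4857)) (BT.leaf cJ4858)) (BT.node 4859 (BT.leaf cJ4859) (BT.leaf cJ4860))) (BT.node 4863 (BT.node 4862 (BT.node 4861 (BT.leaf cJ4861) (BT.leaf cJ4862)) (BT.leaf cJ4863)) (BT.node 4864 (BT.leaf cJ4864) (BT.leaf cJ4865)))) (BT.node 4870 (BT.node 4868 (BT.node 4867 (BT.node 4866 (BT.leaf cJ4866) (BT.leaf cJ4867)) (BT.leaf cJ4868)) (BT.node 4869 (BT.leaf cJ4869) (BT.leaf cJ4870))) (BT.node 4873 (BT.node 4872 (BT.node 4871 (BT.leaf cJ4871) (BT.leaf cJ4872)) (BT.leaf cJ4873)) (BT.node 4874 (BT.leaf cJ4874) (BT.leaf cJ4875))))) (BT.node 4885 (BT.node 4880 (BT.node 4878 (BT.node 4877 (BT.node 4876 (BT.leaf cJ4876) (BT.leaf cJ4877)) (BT.leaf cJ4878)) (BT.node 4879 (BT.leaf cJ4879) (BT.leaf cJ4880))) (BT.node 4883 (BT.node 4882 (BT.node 4881 (BT.leaf cJ4881) (BT.leaf cJ4882)) (BT.leaf cJ4883)) (BT.node 4884 (BT.leaf cJ4884) (BT.leaf cJ4885)))) (BT.node 4890 (BT.node 4888 (BT.node 4887 (BT.node 4886 (BT.leaf cJ4886) (BT.leaf cJ4887)) (BT.leaf cJ4888)) (BT.node 4889 (BT.leaf cJ4889) (BT.leaf cJ4890))) (BT.node 4892 (BT.node 4891 (BT.leaf cJ4891) (BT.leaf cJ4892)) (BT.node 4893 (BT.leaf cJ4893) (BT.leaf cJ4894)))))) (BT.node 4914 (BT.node 4904 (BT.node 4899 (BT.node 4897 (BT.node 4896 (BT.node 4895 (BT.leaf cJ4895) (BT.leaf cJ4896)) (BT.leaf cJ4897)) (BT.node 4898 (BT.leaf cJ4898) (BT.leaf cJ4899))) (BT.node 4902 (BT.node 4901 (BT.node 4900 (BT.leaf cJ4900) (BT.leaf cJ4901)) (BT.leaf cJ4902)) (BT.node 4903 (BT.leaf cJ4903) (BT.leaf cJ4904)))) (BT.node 4909 (BT.node 4907 (BT.node 4906 (BT.node 4905 (BT.leaf cJ4905) (BT.leaf cJ4906)) (BT.leaf cJ4907)) (BT.node 4908 (BT.leaf cJ4908) (BT.leaf cJ4909))) (BT.node 4912 (BT.node 4911 (BT.node 4910 (BT.leaf cJ4910) (BT.leaf cJ4911)) (BT.leaf cJ4912)) (BT.node 4913 (BT.leaf cJ4913) (BT.leaf cJ4914))))) (BT.node 4924 (BT.node 4919 (BT.node 4917 (BT.node 4916 (BT.node 4915 (BT.leaf cJ4915) (BT.leaf cJ4916)) (BT.leaf cJ4917)) (BT.node 4918 (BT.leaf cJ4918) (BT.leaf cJ4919))) (BT.node 4922 (BT.node 4921 (BT.node 4920 (BT.leaf cJ4920) (BT.leaf cJ4921)) (BT.leaf cJ4922)) (BT.node 4923 (BT.leaf cJ4923) (BT.leaf cJ4924)))) (BT.node 4929 (BT.node 4927 (BT.node 4926 (BT.node 4925 (BT.leaf cJ4925) (BT.leaf cJ4926)) (BT.leaf cJ4927)) (BT.node 4928 (BT.leaf cJ4928) (BT.leaf cJ4929))) (BT.node 4931 (BT.node 4930 (BT.leaf cJ4930) (BT.leaf cJ4931)) (BT.node 4932 (BT.leaf cJ4932) (BT.leaf cJ4933))))))) (BT.node 4972 (BT.node 4953 (BT.node 4943 (BT.node 4938 (BT.node 4936 (BT.node 4935 (BT.node 4934 (BT.leaf cJ4934) (BT.leaf cJ4935)) (BT.leaf cJ4936)) (BT.node 4937 (BT.leaf cJ4937) (BT.leaf cJ4938))) (BT.node 4941 (BT.node 4940 (BT.node 4939 (BT.leaf cJ4939) (BT.leaf cJ4940)) (BT.leaf cJ4941)) (BT.node 4942 (BT.leaf cJ4942) (BT.leaf cJ4943)))) (BT.node 4948 (BT.node 4946 (BT.node 4945 (BT.node 4944 (BT.leaf cJ4944) (BT.leaf cJ4945)) (BT.leaf cJ4946)) (BT.node 4947 (BT.leaf cJ4947) (BT.leaf cJ4948))) (BT.node 4951 (BT.node 4950 (BT.node 4949 (BT.leaf cJ4949) (BT.leaf cJ4950)) (BT.leaf cJ4951)) (BT.node 4952 (BT.leaf cJ4952) (BT.leaf cJ4953))))) (BT.node 4963 (BT.node 4958 (BT.node 4956 (BT.node 4955 (BT.node 4954 (BT.leaf cJ4954) (BT.leaf cJ4955)) (BT.leaf cJ4956)) (BT.node 4957 (BT.leaf cJ4957) (BT.leaf cJ4958))) (BT.node 4961 (BT.node 4960 (BT.node 4959 (BT.leaf cJ4959) (BT.leaf cJ4960)) (BT.leaf cJ4961)) (BT.node 4962 (BT.leaf cJ4962) (BT.leaf cJ4963)))) (BT.node 4968 (BT.node 4966 (BT.node 4965 (BT.node 4964 (BT.leaf cJ4964) (BT.leaf cJ4965)) (BT.leaf cJ4966)) (BT.node 4967 (BT.leaf cJ4967) (BT.leaf cJ4968))) (BT.node 4970 (BT.node 4969 (BT.leaf cJ4969) (BT.leaf cJ4970)) (BT.node 4971 (BT.leaf cJ4971) (BT.leaf cJ4972)))))) (BT.node 4992 (BT.node 4982 (BT.node 4977 (BT.node 4975 (BT.node 4974 (BT.node 4973 (BT.leaf cJ4973) (BT.leaf cJ4974)) (BT.leaf cJ4975)) (BT.node 4976 (BT.leaf cJ4976) (BT.leaf cJ4977))) (BT.node 4980 (BT.node 4979 (BT.node 4978 (BT.leaf cJ4978) (BT.leaf cJ4979)) (BT.leaf cJ4980)) (BT.node 4981 (BT.leaf cJ4981) (BT.leaf cJ4982)))) (BT.node 4987 (BT.node 4985 (BT.node 4984 (BT.node 4983 (BT.leaf cJ4983) (BT.leaf cJ4984)) (BT.leaf cJ4985)) (BT.node 4986 (BT.leaf cJ4986) (BT.leaf cJ4987))) (BT.node 4990 (BT.node 4989 (BT.node 4988 (BT.leaf cJ4988) (BT.leaf cJ4989)) (BT.leaf cJ4990)) (BT.node 4991 (BT.leaf cJ4991) (BT.leaf cJ4992))))) (BT.node 5002 (BT.node 4997 (BT.node 4995 (BT.node 4994 (BT.node 4993 (BT.leaf cJ4993) (BT.leaf cJ4994)) (BT.leaf cJ4995)) (BT.node 4996 (BT.leaf cJ4996) (BT.leaf cJ4997))) (BT.node 5000 (BT.node 4999 (BT.node 4998 (BT.leaf cJ4998) (BT.leaf cJ4999)) (BT.leaf cJ5000)) (BT.node 5001 (BT.leaf cJ5001) (BT.leaf cJ5002)))) (BT.node 5007 (BT.node 5005 (BT.node 5004 (BT.node 5003 (BT.leaf cJ5003) (BT.leaf cJ5004)) (BT.leaf cJ5005)) (BT.node 5006 (BT.leaf cJ5006) (BT.leaf cJ5007))) (BT.node 5009 (BT.node 5008 (BT.leaf cJ5008) (BT.leaf cJ5009)) (BT.node 5010 (BT.leaf cJ5010) (BT.leaf cJ5011))))))))))))) (BT.node 7517 (BT.node 6264 (BT.node 5638 (BT.node 5325 (BT.node 5168 (BT.node 5090 (BT.node 5051 (BT.node 5031 (BT.node 5021 (BT.node 5016 (BT.node 5014 (BT.node 5013 (BT.node 5012 (BT.leaf cJ5012) (BT.leaf cJ5013)) (BT.leaf cJ5014)) (BT.node 5015 (BT.leaf cJ5015) (BT.leaf cJ5016))) (BT.node 5019 (BT.node 5018 (BT.node 5017 (BT.leaf cJ5017) (BT.leaf cJ5018)) (BT.leaf cJ5019)) (BT.node 5020 (BT.leaf cJ5020) (BT.leaf cJ5021)))) (BT.node 5026 (BT.node 5024 (BT.node 5023 (BT.node 5022 (BT.leaf cJ5022) (BT.leaf cJ5023)) (BT.leaf cJ5024)) (BT.node 5025 (BT.leaf cJ5025) (BT.leaf cJ5026))) (BT.node 5029 (BT.node 5028 (BT.node 5027 (BT.leaf cJ5027) (BT.leaf cJ5028)) (BT.leaf cJ5029)) (BT.node 5030 (BT.leaf cJ5030) (BT.leaf cJ5031))))) (BT.node 5041 (BT.node 5036 (BT.node 5034 (BT.node 5033 (BT.node 5032 (BT.leaf cJ5032) (BT.leaf cJ5033)) (BT.leaf cJ5034)) (BT.node 5035 (BT.leaf cJ5035) (BT.leaf cJ5036))) (BT.node 5039 (BT.node 5038 (BT.node 5037 (BT.leaf cJ5037) (BT.leaf cJ5038)) (BT.leaf cJ5039)) (BT.node 5040 (BT.leaf cJ5040) (BT.leaf cJ5041)))) (BT.node 5046 (BT.node 5044 (BT.node 5043 (BT.node 5042 (BT.leaf cJ5042) (BT.leaf cJ5043)) (BT.leaf cJ5044)) (BT.node 5045 (BT.leaf cJ5045) (BT.leaf cJ5046))) (BT.node 5049 (BT.node 5048 (BT.node 5047 (BT.leaf cJ5047) (BT.leaf cJ5048)) (BT.leaf cJ5049)) (BT.node 5050 (BT.leaf cJ5050) (BT.leaf cJ5051)))))) (BT.node 5071 (BT.node 5061 (BT.node 5056 (BT.node 5054 (BT.node 5053 (BT.node 5052 (BT.leaf cJ5052) (BT.leaf cJ5053)) (BT.leaf cJ5054)) (BT.node 5055 (BT.leaf cJ5055) (BT.leaf cJ5056))) (BT.node 5059 (BT.node 5058 (BT.node 5057 (BT.leaf cJ5057) (BT.leaf cJ5058)) (BT.leaf cJ5059)) (BT.node 5060 (BT.leaf cJ5060) (BT.leaf cJ5061)))) (BT.node 5066 (BT.node 5064 (BT.node 5063 (BT.node 5062 (BT.leaf cJ5062) (BT.leaf cJ5063)) (BT.leaf cJ5064)) (BT.node 5065 (BT.leaf cJ5065) (BT.leaf cJ5066))) (BT.node 5069 (BT.node 5068 (BT.node 5067 (BT.leaf cJ5067) (BT.leaf cJ5068)) (BT.leaf cJ5069)) (BT.node 5070 (BT.leaf cJ5070) (BT.leaf cJ5071))))) (BT.node 5081 (BT.node 5076 (BT.node 5074 (BT.node 5073 (BT.node 5072 (BT.leaf cJ5072) (BT.leaf cJ5073)) (BT.leaf cJ5074)) (BT.node 5075 (BT.leaf cJ5075) (BT.leaf cJ5076))) (BT.node 5079 (BT.node 5078 (BT.node 5077 (BT.leaf cJ5077) (BT.leaf cJ5078)) (BT.leaf cJ5079)) (BT.node 5080 (BT.leaf cJ5080) (BT.leaf cJ5081)))) (BT.node 5086 (BT.node 5084 (BT.node 5083 (BT.node 5082 (BT.leaf cJ5082) (BT.leaf cJ5083)) (BT.leaf cJ5084)) (BT.node 5085 (BT.leaf cJ5085) (BT.leaf cJ5086))) (BT.node 5088 (BT.node 5087 (BT.leaf cJ5087) (BT.leaf cJ5088)) (BT.node 5089 (BT.leaf cJ5089) (BT.leaf cJ5090))))))) (BT.node 5129 (BT.node 5110 (BT.node 5100 (BT.node 5095 (BT.node 5093 (BT.node 5092 (BT.node 5091 (BT.leaf cJ5091) (BT.leaf cJ5092)) (BT.leaf cJ5093)) (BT.node 5094 (BT.leaf cJ5094) (BT.leaf cJ5095))) (BT.node 5098 (BT.node 5097 (BT.node 5096 (BT.leaf cJ5096) (BT.leaf cJ5097)) (BT.leaf cJ5098)) (BT.node 5099 (BT.leaf cJ5099) (BT.leaf cJ5100)))) (BT.node 5105 (BT.node 5103 (BT.node 5102 (BT.node 5101 (BT.leaf cJ5101) (BT.leaf cJ5102)) (BT.leaf cJ5103)) (BT.node 5104 (BT.leaf cJ5104) (BT.leaf cJ5105))) (BT.node 5108 (BT.node 5107 (BT.node 5106 (BT.leaf cJ5106) (BT.leaf cJ5107)) (BT.leaf cJ5108)) (BT.node 5109 (BT.leaf cJ5109) (BT.leaf cJ5110))))) (BT.node 5120 (BT.node 5115 (BT.node 5113 (BT.node 5112 (BT.node 5111 (BT.leaf cJ5111) (BT.leaf cJ5112)) (BT.leaf cJ5113)) (BT.node 5114 (BT.leaf cJ5114) (BT.leaf cJ5115))) (BT.node 5118 (BT.node 5117 (BT.node 5116 (BT.leaf cJ5116) (BT.leaf cJ5117)) (BT.leaf cJ5118)) (BT.node 5119 (BT.leaf cJ5119) (BT.leaf cJ5120)))) (BT.node 5125 (BT.node 5123 (BT.node 5122 (BT.node 5121 (BT.leaf cJ5121) (BT.leaf cJ5122)) (BT.leaf cJ5123)) (BT.node 5124 (BT.leaf cJ5124) (BT.leaf cJ5125))) (BT.node 5127 (BT.node 5126 (BT.leaf cJ5126) (BT.leaf cJ5127)) (BT.node 5128 (BT.leaf cJ5128) (BT.leaf cJ5129)))))) (BT.node 5149 (BT.node 5139 (BT.node 5134 (BT.node 5132 (BT.node 5131 (BT.node 5130 (BT.leaf cJ5130) (BT.leaf cJ5131)) (BT.leaf cJ5132)) (BT.node 5133 (BT.leaf cJ5133) (BT.leaf cJ5134))) (BT.node 5137 (BT.node 5136 (BT.node 5135 (BT.leaf cJ5135) (BT.leaf cJ5136)) (BT.leaf cJ5137)) (BT.node 5138 (BT.leaf cJ5138) (BT.leaf cJ5139)))) (BT.node 5144 (BT.node 5142 (BT.node 5141 (BT.node 5140 (BT.leaf cJ5140) (BT.leaf cJ5141)) (BT.leaf cJ5142)) (BT.node 5143 (BT.leaf cJ5143) (BT.leaf cJ5144))) (BT.node 5147 (BT.node 5146 (BT.node 5145 (BT.leaf cJ5145) (BT.leaf cJ5146)) (BT.leaf cJ5147)) (BT.node 5148 (BT.leaf cJ5148) (BT.leaf cJ5149))))) (BT.node 5159 (BT.node 5154 (BT.node 5152 (BT.node 5151 (BT.node 5150 (BT.leaf cJ5150) (BT.leaf cJ5151)) (BT.leaf cJ5152)) (BT.node 5153 (BT.leaf cJ5153) (BT.leaf cJ5154))) (BT.node 5157 (BT.node 5156 (BT.node 5155 (BT.leaf cJ5155) (BT.leaf cJ5156)) (BT.leaf cJ5157)) (BT.node 5158 (BT.leaf cJ5158) (BT.leaf cJ5159)))) (BT.node 5164 (BT.node 5162 (BT.node 5161 (BT.node 5160 (BT.leaf cJ5160) (BT.leaf cJ5161)) (BT.leaf cJ5162)) (BT.node 5163 (BT.leaf cJ5163) (BT.leaf cJ5164))) (BT.node 5166 (BT.node 5165 (BT.leaf cJ5165) (BT.leaf cJ5166)) (BT.node 5167 (BT.leaf cJ5167) (BT.leaf cJ5168)))))))) (BT.node 5247 (BT.node 5208 (BT.node 5188 (BT.node 5178 (BT.node 5173 (BT.node 5171 (BT.node 5170 (BT.node 5169 (BT.leaf cJ5169) (BT.leaf cJ5170)) (BT.leaf cJ5171)) (BT.node 5172 (BT.leaf cJ5172) (BT.leaf cJ5173))) (BT.node 5176 (BT.node 5175 (BT.node 5174 (BT.leaf cJ5174) (BT.leaf cJ5175)) (BT.leaf cJ5176)) (BT.node 5177 (BT.leaf cJ5177) (BT.leaf cJ5178)))) (BT.node 5183 (BT.node 5181 (BT.node 5180 (BT.node 5179 (BT.leaf cJ5179) (BT.leaf cJ5180)) (BT.leaf cJ5181)) (BT.node 5182 (BT.leaf cJ5182) (BT.leaf cJ5183))) (BT.node 5186 (BT.node 5185 (BT.node 5184 (BT.leaf cJ5184) (BT.leaf cJ5185)) (BT.leaf cJ5186)) (BT.node 5187 (BT.leaf cJ5187) (BT.leaf cJ5188))))) (BT.node 5198 (BT.node 5193 (BT.node 5191 (BT.node 5190 (BT.node 5189 (BT.leaf cJ5189) (BT.leaf cJ5190)) (BT.leaf cJ5191)) (BT.node 5192 (BT.leaf cJ5192) (BT.leaf cJ5193))) (BT.node 5196 (BT.node 5195 (BT.node 5194 (BT.leaf cJ5194) (BT.leaf cJ5195)) (BT.leaf cJ5196)) (BT.node 5197 (BT.leaf cJ5197) (BT.leaf cJ5198)))) (BT.node 5203 (BT.node 5201 (BT.node 5200 (BT.node 5199 (BT.leaf cJ5199) (BT.leaf cJ5200)) (BT.leaf cJ5201)) (BT.node 5202 (BT.leaf cJ5202) (BT.leaf cJ5203))) (BT.node 5206 (BT.node 5205 (BT.node 5204 (BT.leaf cJ5204) (BT.leaf cJ5205)) (BT.leaf cJ5206)) (BT.node 5207 (BT.leaf cJ5207) (BT.leaf cJ5208)))))) (BT.node 5228 (BT.node 5218 (BT.node 5213 (BT.node 5211 (BT.node 5210 (BT.node 5209 (BT.leaf cJ5209) (BT.leaf cJ5210)) (BT.leaf cJ5211)) (BT.node 5212 (BT.leaf cJ5212) (BT.leaf cJ5213))) (BT.node 5216 (BT.node 5215 (BT.node 5214 (BT.leaf cJ5214) (BT.leaf cJ5215)) (BT.leaf cJ5216)) (BT.node 5217 (BT.leaf cJ5217) (BT.leaf cJ5218)))) (BT.node 5223 (BT.node 5221 (BT.node 5220 (BT.node 5219 (BT.leaf cJ5219) (BT.leaf cJ5220)) (BT.leaf cJ5221)) (BT.node 5222 (BT.leaf cJ5222) (BT.leaf cJ5223))) (BT.node 5226 (BT.node 5225 (BT.node 5224 (BT.leaf cJ5224) (BT.leaf cJ5225)) (BT.leaf cJ5226)) (BT.node 5227 (BT.leaf cJ5227) (BT.leaf cJ5228))))) (BT.node 5238 (BT.node 5233 (BT.node 5231 (BT.node 5230 (BT.node 5229 (BT.leaf cJ5229) (BT.leaf cJ5230)) (BT.leaf cJ5231)) (BT.node 5232 (BT.leaf cJ5232) (BT.leaf cJ5233))) (BT.node 5236 (BT.node 5235 (BT.node 5234 (BT.leaf cJ5234) (BT.leaf cJ5235)) (BT.leaf cJ5236)) (BT.node 5237 (BT.leaf cJ5237) (BT.leaf cJ5238)))) (BT.node 5243 (BT.node 5241 (BT.node 5240 (BT.node 5239 (BT.leaf cJ5239) (BT.leaf cJ5240)) (BT.leaf cJ5241)) (BT.node 5242 (BT.leaf cJ5242) (BT.leaf cJ5243))) (BT.node 5245 (BT.node 5244 (BT.leaf cJ5244) (BT.leaf cJ5245)) (BT.node 5246 (BT.leaf cJ5246) (BT.leaf cJ5247))))))) (BT.node 5286 (BT.node 5267 (BT.node 5257 (BT.node 5252 (BT.node 5250 (BT.node 5249 (BT.node 5248 (BT.leaf cJ5248) (BT.leaf cJ5249)) (BT.leaf cJ5250)) (BT.node 5251 (BT.leaf cJ5251) (BT.leaf cJ5252))) (BT.node 5255 (BT.node 5254 (BT.node 5253 (BT.leaf cJ5253) (BT.leaf cJ5254)) (BT.leaf cJ5255)) (BT.node 5256 (BT.leaf cJ5256) (BT.leaf cJ5257)))) (BT.node 5262 (BT.node 5260 (BT.node 5259 (BT.node 5258 (BT.leaf cJ5258) (BT.leaf cJ5259)) (BT.leaf cJ5260)) (BT.node 5261 (BT.leaf cJ5261) (BT.leaf cJ5262))) (BT.node 5265 (BT.node 5264 (BT.node 5263 (BT.leaf cJ5263) (BT.leaf cJ5264)) (BT.leaf cJ5265)) (BT.node 5266 (BT.leaf cJ5266) (BT.leaf cJ5267))))) (BT.node 5277 (BT.node 5272 (BT.node 5270 (BT.node 5269 (BT.node 5268 (BT.leaf cJ5268) (BT.leaf cJ5269)) (BT.leaf cJ5270)) (BT.node 5271 (BT.leaf cJ5271) (BT.leaf cJ5272))) (BT.node 5275 (BT.node 5274 (BT.node 5273 (BT.leaf cJ5273) (BT.leaf cJ5274)) (BT.leaf cJ5275)) (BT.node 5276 (BT.leaf cJ5276) (BT.leaf cJ5277)))) (BT.node 5282 (BT.node 5280 (BT.node 5279 (BT.node 5278 (BT.leaf cJ5278) (BT.leaf cJ5279)) (BT.leaf cJ5280)) (BT.node 5281 (BT.leaf cJ5281) (BT.leaf cJ5282))) (BT.node 5284 (BT.node 5283 (BT.leaf cJ5283) (BT.leaf cJ5284)) (BT.node 5285 (BT.leaf cJ5285) (BT.leaf cJ5286)))))) (BT.node 5306 (BT.node 5296 (BT.node 5291 (BT.node 5289 (BT.node 5288 (BT.node 5287 (BT.leaf cJ5287) (BT.leaf cJ5288)) (BT.leaf cJ5289)) (BT.node 5290 (BT.leaf cJ5290) (BT.leaf cJ5291))) (BT.node 5294 (BT.node 5293 (BT.node 5292 (BT.leaf cJ5292) (BT.leaf cJ5293)) (BT.leaf cJ5294)) (BT.node 5295 (BT.leaf cJ5295) (BT.leaf cJ5296)))) (BT.node 5301 (BT.node 5299 (BT.node 5298 (BT.node 5297 (BT.leaf cJ5297) (BT.leaf cJ5298)) (BT.leaf cJ5299)) (BT.node 5300 (BT.leaf cJ5300) (BT.leaf cJ5301))) (BT.node 5304 (BT.node 5303 (BT.node 5302 (BT.leaf cJ5302) (BT.leaf cJ5303)) (BT.leaf cJ5304)) (BT.node 5305 (BT.leaf cJ5305) (BT.leaf cJ5306))))) (BT.node 5316 (BT.node 5311 (BT.node 5309 (BT.node 5308 (BT.node 5307 (BT.leaf cJ5307) (BT.leaf cJ5308)) (BT.leaf cJ5309)) (BT.node 5310 (BT.leaf cJ5310) (BT.leaf cJ5311))) (BT.node 5314 (BT.node 5313 (BT.node 5312 (BT.leaf cJ5312) (BT.leaf cJ5313)) (BT.leaf cJ5314)) (BT.node 5315 (BT.leaf cJ5315) (BT.leaf cJ5316)))) (BT.node 5321 (BT.node 5319 (BT.node 5318 (BT.node 5317 (BT.leaf cJ5317) (BT.leaf cJ5318)) (BT.leaf cJ5319)) (BT.node 5320 (BT.leaf cJ5320) (BT.leaf cJ5321))) (BT.node 5323 (BT.node 5322 (BT.leaf cJ5322) (BT.leaf cJ5323)) (BT.node 5324 (BT.leaf cJ5324) (BT.leaf cJ5325))))))))) (BT.node 5482 (BT.node 5404 (BT.node 5365 (BT.node 5345 (BT.node 5335 (BT.node 5330 (BT.node 5328 (BT.node 5327 (BT.node 5326 (BT.leaf cJ5326) (BT.leaf cJ5327)) (BT.leaf cJ5328)) (BT.node 5329 (BT.leaf cJ5329) (BT.leaf cJ5330))) (BT.node 5333 (BT.node 5332 (BT.node 5331 (BT.leaf cJ5331) (BT.leaf cJ5332)) (BT.leaf cJ5333)) (BT.node 5334 (BT.leaf cJ5334) (BT.leaf cJ5335)))) (BT.node 5340 (BT.node 5338 (BT.node 5337 (BT.node 5336 (BT.leaf cJ5336) (BT.leaf cJ5337)) (BT.leaf cJ5338)) (BT.node 5339 (BT.leaf cJ5339) (BT.leaf cJ5340))) (BT.node 5343 (BT.node 5342 (BT.node 5341 (BT.leaf cJ5341) (BT.leaf cJ5342)) (BT.leaf cJ5343)) (BT.node 5344 (BT.leaf cJ5344) (BT.leaf cJ5345))))) (BT.node 5355 (BT.node 5350 (BT.node 5348 (BT.node 5347 (BT.node 5346 (BT.leaf cJ5346) (BT.leaf cJ5347)) (BT.leaf cJ5348)) (BT.node 5349 (BT.leaf cJ5349) (BT.leaf cJ5350))) (BT.node 5353 (BT.node 5352 (BT.node 5351 (BT.leaf cJ5351) (BT.leaf cJ5352)) (BT.leaf cJ5353)) (BT.node 5354 (BT.leaf cJ5354) (BT.leaf cJ5355)))) (BT.node 5360 (BT.node 5358 (BT.node 5357 (BT.node 5356 (BT.leaf cJ5356) (BT.leaf cJ5357)) (BT.leaf cJ5358)) (BT.node 5359 (BT.leaf cJ5359) (BT.leaf cJ5360))) (BT.node 5363 (BT.node 5362 (BT.node 5361 (BT.leaf cJ5361) (BT.leaf cJ5362)) (BT.leaf cJ5363)) (BT.node 5364 (BT.leaf cJ5364) (BT.leaf cJ5365)))))) (BT.node 5385 (BT.node 5375 (BT.node 5370 (BT.node 5368 (BT.node 5367 (BT.node 5366 (BT.leaf cJ5366) (BT.leaf cJ5367)) (BT.leaf cJ5368)) (BT.node 5369 (BT.leaf cJ5369) (BT.leaf cJ5370))) (BT.node 5373 (BT.node 5372 (BT.node 5371 (BT.leaf cJ5371) (BT.leaf cJ5372)) (BT.leaf cJ5373)) (BT.node 5374 (BT.leaf cJ5374) (BT.leaf cJ5375)))) (BT.node 5380 (BT.node 5378 (BT.node 5377 (BT.node 5376 (BT.leaf cJ5376) (BT.leaf cJ5377)) (BT.leaf cJ5378)) (BT.node 5379 (BT.leaf cJ5379) (BT.leaf cJ5380))) (BT.node 5383 (BT.node 5382 (BT.node 5381 (BT.leaf cJ5381) (BT.leaf cJ5382)) (BT.leaf cJ5383)) (BT.node 5384 (BT.leaf cJ5384) (BT.leaf cJ5385))))) (BT.node 5395 (BT.node 5390 (BT.node 5388 (BT.node 5387 (BT.node 5386 (BT.leaf cJ5386) (BT.leaf cJ5387)) (BT.leaf cJ5388)) (BT.node 5389 (BT.leaf cJ5389) (BT.leaf cJ5390))) (BT.node 5393 (BT.node 5392 (BT.node 5391 (BT.leaf cJ5391) (BT.leaf cJ5392)) (BT.leaf cJ5393)) (BT.node 5394 (BT.leaf cJ5394) (BT.leaf cJ5395)))) (BT.node 5400 (BT.node 5398 (BT.node 5397 (BT.node 5396 (BT.leaf cJ5396) (BT.leaf cJ5397)) (BT.leaf cJ5398)) (BT.node 5399 (BT.leaf cJ5399) (BT.leaf cJ5400))) (BT.node 5402 (BT.node 5401 (BT.leaf cJ5401) (BT.leaf cJ5402)) (BT.node 5403 (BT.leaf cJ5403) (BT.leaf cJ5404))))))) (BT.node 5443 (BT.node 5424 (BT.node 5414 (BT.node 5409 (BT.node 5407 (BT.node 5406 (BT.node 5405 (BT.leaf cJ5405) (BT.leaf cJ5406)) (BT.leaf cJ5407)) (BT.node 5408 (BT.leaf cJ5408) (BT.leaf cJ5409))) (BT.node 5412 (BT.node 5411 (BT.node 5410 (BT.leaf cJ5410) (BT.leaf cJ5411)) (BT.leaf cJ5412)) (BT.node 5413 (BT.leaf cJ5413) (BT.leaf cJ5414)))) (BT.node 5419 (BT.node 5417 (BT.node 5416 (BT.node 5415 (BT.leaf cJ5415) (BT.leaf cJ5416)) (BT.leaf cJ5417)) (BT.node 5418 (BT.leaf cJ5418) (BT.leaf cJ5419))) (BT.node 5422 (BT.node 5421 (BT.node 5420 (BT.leaf cJ5420) (BT.leaf cJ5421)) (BT.leaf cJ5422)) (BT.node 5423 (BT.leaf cJ5423) (BT.leaf cJ5424))))) (BT.node 5434 (BT.node 5429 (BT.node 5427 (BT.node 5426 (BT.node 5425 (BT.leaf cJ5425) (BT.leaf cJ5426)) (BT.leaf cJ5427)) (BT.node 5428 (BT.leaf cJ5428) (BT.leaf cJ5429))) (BT.node 5432 (BT.node 5431 (BT.node 5430 (BT.leaf cJ5430) (BT.leaf cJ5431)) (BT.leaf cJ5432)) (BT.node 5433 (BT.leaf cJ5433) (BT.leaf cJ5434)))) (BT.node 5439 (BT.node 5437 (BT.node 5436 (BT.node 5435 (BT.leaf cJ5435) (BT.leaf cJ5436)) (BT.leaf cJ5437)) (BT.node 5438 (BT.leaf cJ5438) (BT.leaf cJ5439))) (BT.node 5441 (BT.node 5440 (BT.leaf cJ5440) (BT.leaf cJ5441)) (BT.node 5442 (BT.leaf cJ5442) (BT.leaf cJ5443)))))) (BT.node 5463 (BT.node 5453 (BT.node 5448 (BT.node 5446 (BT.node 5445 (BT.node 5444 (BT.leaf cJ5444) (BT.leaf cJ5445)) (BT.leaf cJ5446)) (BT.node 5447 (BT.leaf cJ5447) (BT.leaf cJ5448))) (BT.node 5451 (BT.node 5450 (BT.node 5449 (BT.leaf cJ5449) (BT.leaf cJ5450)) (BT.leaf cJ5451)) (BT.node 5452 (BT.leaf cJ5452) (BT.leaf cJ5453)))) (BT.node 5458 (BT.node 5456 (BT.node 5455 (BT.node 5454 (BT.leaf cJ5454) (BT.leaf cJ5455)) (BT.leaf cJ5456)) (BT.node 5457 (BT.leaf cJ5457) (BT.leaf cJ5458))) (BT.node 5461 (BT.node 5460 (BT.node 5459 (BT.leaf cJ5459) (BT.leaf cJ5460)) (BT.leaf cJ5461)) (BT.node 5462 (BT.leaf cJ5462) (BT.leaf cJ5463))))) (BT.node 5473 (BT.node 5468 (BT.node 5466 (BT.node 5465 (BT.node 5464 (BT.leaf cJ5464) (BT.leaf cJ5465)) (BT.leaf cJ5466)) (BT.node 5467 (BT.leaf cJ5467) (BT.leaf cJ5468))) (BT.node 5471 (BT.node 5470 (BT.node 5469 (BT.leaf cJ5469) (BT.leaf cJ5470)) (BT.leaf cJ5471)) (BT.node 5472 (BT.leaf cJ5472) (BT.leaf cJ5473)))) (BT.node 5478 (BT.node 5476 (BT.node 5475 (BT.node 5474 (BT.leaf cJ5474) (BT.leaf cJ5475)) (BT.leaf cJ5476)) (BT.node 5477 (BT.leaf cJ5477) (BT.leaf cJ5478))) (BT.node 5480 (BT.node 5479 (BT.leaf cJ5479) (BT.leaf cJ5480)) (BT.node 5481 (BT.leaf cJ5481) (BT.leaf cJ5482)))))))) (BT.node 5560 (BT.node 5521 (BT.node 5502 (BT.node 5492 (BT.node 5487 (BT.node 5485 (BT.node 5484 (BT.node 5483 (BT.leaf cJ5483) (BT.leaf cJ5484)) (BT.leaf cJ5485)) (BT.node 5486 (BT.leaf cJ5486) (BT.leaf cJ5487))) (BT.node 5490 (BT.node 5489 (BT.node 5488 (BT.leaf cJ5488) (BT.leaf cJ5489)) (BT.leaf cJ5490)) (BT.node 5491 (BT.leaf cJ5491) (BT.leaf cJ5492)))) (BT.node 5497 (BT.node 5495 (BT.node 5494 (BT.node 5493 (BT.leaf cJ5493) (BT.leaf cJ5494)) (BT.leaf cJ5495)) (BT.node 5496 (BT.leaf cJ5496) (BT.leaf cJ5497))) (BT.node 5500 (BT.node 5499 (BT.node 5498 (BT.leaf cJ5498) (BT.leaf cJ5499)) (BT.leaf cJ5500)) (BT.node 5501 (BT.leaf cJ5501) (BT.leaf cJ5502))))) (BT.node 5512 (BT.node 5507 (BT.node 5505 (BT.node 5504 (BT.node 5503 (BT.leaf cJ5503) (BT.leaf cJ5504)) (BT.leaf cJ5505)) (BT.node 5506 (BT.leaf cJ5506) (BT.leaf cJ5507))) (BT.node 5510 (BT.node 5509 (BT.node 5508 (BT.leaf cJ5508) (BT.leaf cJ5509)) (BT.leaf cJ5510)) (BT.node 5511 (BT.leaf cJ5511) (BT.leaf cJ5512)))) (BT.node 5517 (BT.node 5515 (BT.node 5514 (BT.node 5513 (BT.leaf cJ5513) (BT.leaf cJ5514)) (BT.leaf cJ5515)) (BT.node 5516 (BT.leaf cJ5516) (BT.leaf cJ5517))) (BT.node 5519 (BT.node 5518 (BT.leaf cJ5518) (BT.leaf cJ5519)) (BT.node 5520 (BT.leaf cJ5520) (BT.leaf cJ5521)))))) (BT.node 5541 (BT.node 5531 (BT.node 5526 (BT.node 5524 (BT.node 5523 (BT.node 5522 (BT.leaf cJ5522) (BT.leaf cJ5523)) (BT.leaf cJ5524)) (BT.node 5525 (BT.leaf cJ5525) (BT.leaf cJ5526))) (BT.node 5529 (BT.node 5528 (BT.node 5527 (BT.leaf cJ5527) (BT.leaf cJ5528)) (BT.leaf cJ5529)) (BT.node 5530 (BT.leaf cJ5530) (BT.leaf cJ5531)))) (BT.node 5536 (BT.node 5534 (BT.node 5533 (BT.node 5532 (BT.leaf cJ5532) (BT.leaf cJ5533)) (BT.leaf cJ5534)) (BT.node 5535 (BT.leaf cJ5535) (BT.leaf cJ5536))) (BT.node 5539 (BT.node 5538 (BT.node 5537 (BT.leaf cJ5537) (BT.leaf cJ5538)) (BT.leaf cJ5539)) (BT.node 5540 (BT.leaf cJ5540) (BT.leaf cJ5541))))) (BT.node 5551 (BT.node 5546 (BT.node 5544 (BT.node 5543 (BT.node 5542 (BT.leaf cJ5542) (BT.leaf cJ5543)) (BT.leaf cJ5544)) (BT.node 5545 (BT.leaf cJ5545) (BT.leaf cJ5546))) (BT.node 5549 (BT.node 5548 (BT.node 5547 (BT.leaf cJ5547) (BT.leaf cJ5548)) (BT.leaf cJ5549)) (BT.node 5550 (BT.leaf cJ5550) (BT.leaf cJ5551)))) (BT.node 5556 (BT.node 5554 (BT.node 5553 (BT.node 5552 (BT.leaf cJ5552) (BT.leaf cJ5553)) (BT.leaf cJ5554)) (BT.node 5555 (BT.leaf cJ5555) (BT.leaf cJ5556))) (BT.node 5558 (BT.node 5557 (BT.leaf cJ5557) (BT.leaf cJ5558)) (BT.node 5559 (BT.leaf cJ5559) (BT.leaf cJ5560))))))) (BT.node 5599 (BT.node 5580 (BT.node 5570 (BT.node 5565 (BT.node 5563 (BT.node 5562 (BT.node 5561 (BT.leaf cJ5561) (BT.leaf cJ5562)) (BT.leaf cJ5563)) (BT.node 5564 (BT.leaf cJ5564) (BT.leaf cJ5565))) (BT.node 5568 (BT.node 5567 (BT.node 5566 (BT.leaf cJ5566) (BT.leaf cJ5567)) (BT.leaf cJ5568)) (BT.node 5569 (BT.leaf cJ5569) (BT.leaf cJ5570)))) (BT.node 5575 (BT.node 5573 (BT.node 5572 (BT.node 5571 (BT.leaf cJ5571) (BT.leaf cJ5572)) (BT.leaf cJ5573)) (BT.node 5574 (BT.leaf cJ5574) (BT.leaf cJ5575))) (BT.node 5578 (BT.node 5577 (BT.node 5576 (BT.leaf cJ5576) (BT.leaf cJ5577)) (BT.leaf cJ5578)) (BT.node 5579 (BT.leaf cJ5579) (BT.leaf cJ5580))))) (BT.node 5590 (BT.node 5585 (BT.node 5583 (BT.node 5582 (BT.node 5581 (BT.leaf cJ5581) (BT.leaf cJ5582)) (BT.leaf cJ5583)) (BT.node 5584 (BT.leaf cJ5584) (BT.leaf cJ5585))) (BT.node 5588 (BT.node 5587 (BT.node 5586 (BT.leaf cJ5586) (BT.leaf cJ5587)) (BT.leaf cJ5588)) (BT.node 5589 (BT.leaf cJ5589) (BT.leaf cJ5590)))) (BT.node 5595 (BT.node 5593 (BT.node 5592 (BT.node 5591 (BT.leaf cJ5591) (BT.leaf cJ5592)) (BT.leaf cJ5593)) (BT.node 5594 (BT.leaf cJ5594) (BT.leaf cJ5595))) (BT.node 5597 (BT.node 5596 (BT.leaf cJ5596) (BT.leaf cJ5597)) (BT.node 5598 (BT.leaf cJ5598) (BT.leaf cJ5599)))))) (BT.node 5619 (BT.node 5609 (BT.node 5604 (BT.node 5602 (BT.node 5601 (BT.node 5600 (BT.leaf cJ5600) (BT.leaf cJ5601)) (BT.leaf cJ5602)) (BT.node 5603 (BT.leaf cJ5603) (BT.leaf cJ5604))) (BT.node 5607 (BT.node 5606 (BT.node 5605 (BT.leaf cJ5605) (BT.leaf cJ5606)) (BT.leaf cJ5607)) (BT.node 5608 (BT.leaf cJ5608) (BT.leaf cJ5609)))) (BT.node 5614 (BT.node 5612 (BT.node 5611 (BT.node 5610 (BT.leaf cJ5610) (BT.leaf cJ5611)) (BT.leaf cJ5612)) (BT.node 5613 (BT.leaf cJ5613) (BT.leaf cJ5614))) (BT.node 5617 (BT.node 5616 (BT.node 5615 (BT.leaf cJ5615) (BT.leaf cJ5616)) (BT.leaf cJ5617)) (BT.node 5618 (BT.leaf cJ5618) (BT.leaf cJ5619))))) (BT.node 5629 (BT.node 5624 (BT.node 5622 (BT.node 5621 (BT.node 5620 (BT.leaf cJ5620) (BT.leaf cJ5621)) (BT.leaf cJ5622)) (BT.node 5623 (BT.leaf cJ5623) (BT.leaf cJ5624))) (BT.node 5627 (BT.node 5626 (BT.node 5625 (BT.leaf cJ5625) (BT.leaf cJ5626)) (BT.leaf cJ5627)) (BT.node 5628 (BT.leaf cJ5628) (BT.leaf cJ5629)))) (BT.node 5634 (BT.node 5632 (BT.node 5631 (BT.node 5630 (BT.leaf cJ5630) (BT.leaf cJ5631)) (BT.leaf cJ5632)) (BT.node 5633 (BT.leaf cJ5633) (BT.leaf cJ5634))) (BT.node 5636 (BT.node 5635 (BT.leaf cJ5635) (BT.leaf cJ5636)) (BT.node 5637 (BT.leaf cJ5637) (BT.leaf cJ5638)))))))))) (BT.node 5951 (BT.node 5795 (BT.node 5717 (BT.node 5678 (BT.node 5658 (BT.node 5648 (BT.node 5643 (BT.node 5641 (BT.node 5640 (BT.node 5639 (BT.leaf cJ5639) (BT.leaf cJ5640)) (BT.leaf cJ5641)) (BT.node 5642 (BT.leaf cJ5642) (BT.leaf cJ5643))) (BT.node 5646 (BT.node 5645 (BT.node 5644 (BT.leaf cJ5644) (BT.leaf cJ5645)) (BT.leaf cJ5646)) (BT.node 5647 (BT.leaf cJ5647) (BT.leaf cJ5648)))) (BT.node 5653 (BT.node 5651 (BT.node 5650 (BT.node 5649 (BT.leaf cJ5649) (BT.leaf cJ5650)) (BT.leaf cJ5651)) (BT.node 5652 (BT.leaf cJ5652) (BT.leaf cJ5653))) (BT.node 5656 (BT.node 5655 (BT.node 5654 (BT.leaf cJ5654) (BT.leaf cJ5655)) (BT.leaf cJ5656)) (BT.node 5657 (BT.leaf cJ5657) (BT.leaf cJ5658))))) (BT.node 5668 (BT.node 5663 (BT.node 5661 (BT.node 5660 (BT.node 5659 (BT.leaf cJ5659) (BT.leaf cJ5660)) (BT.leaf cJ5661)) (BT.node 5662 (BT.leaf cJ5662) (BT.leaf cJ5663))) (BT.node 5666 (BT.node 5665 (BT.node 5664 (BT.leaf cJ5664) (BT.leaf cJ5665)) (BT.leaf cJ5666)) (BT.node 5667 (BT.leaf cJ5667) (BT.leaf cJ5668)))) (BT.node 5673 (BT.node 5671 (BT.node 5670 (BT.node 5669 (BT.leaf cJ5669) (BT.leaf cJ5670)) (BT.leaf cJ5671)) (BT.node 5672 (BT.leaf cJ5672) (BT.leaf cJ5673))) (BT.node 5676 (BT.node 5675 (BT.node 5674 (BT.leaf cJ5674) (BT.leaf cJ5675)) (BT.leaf cJ5676)) (BT.node 5677 (BT.leaf cJ5677) (BT.leaf cJ5678)))))) (BT.node 5698 (BT.node 5688 (BT.node 5683 (BT.node 5681 (BT.node 5680 (BT.node 5679 (BT.leaf cJ5679) (BT.leaf cJ5680)) (BT.leaf cJ5681)) (BT.node 5682 (BT.leaf cJ5682) (BT.leaf cJ5683))) (BT.node 5686 (BT.node 5685 (BT.node 5684 (BT.leaf cJ5684) (BT.leaf cJ5685)) (BT.leaf cJ5686)) (BT.node 5687 (BT.leaf cJ5687) (BT.leaf cJ5688)))) (BT.node 5693 (BT.node 5691 (BT.node 5690 (BT.node 5689 (BT.leaf cJ5689) (BT.leaf cJ5690)) (BT.leaf cJ5691)) (BT.node 5692 (BT.leaf cJ5692) (BT.leaf cJ5693))) (BT.node 5696 (BT.node 5695 (BT.node 5694 (BT.leaf cJ5694) (BT.leaf cJ5695)) (BT.leaf cJ5696)) (BT.node 5697 (BT.leaf cJ5697) (BT.leaf cJ5698))))) (BT.node 5708 (BT.node 5703 (BT.node 5701 (BT.node 5700 (BT.node 5699 (BT.leaf cJ5699) (BT.leaf cJ5700)) (BT.leaf cJ5701)) (BT.node 5702 (BT.leaf cJ5702) (BT.leaf cJ5703))) (BT.node 5706 (BT.node 5705 (BT.node 5704 (BT.leaf cJ5704) (BT.leaf cJ5705)) (BT.leaf cJ5706)) (BT.node 5707 (BT.leaf cJ5707) (BT.leaf cJ5708)))) (BT.node 5713 (BT.node 5711 (BT.node 5710 (BT.node 5709 (BT.leaf cJ5709) (BT.leaf cJ5710)) (BT.leaf cJ5711)) (BT.node 5712 (BT.leaf cJ5712) (BT.leaf cJ5713))) (BT.node 5715 (BT.node 5714 (BT.leaf cJ5714) (BT.leaf cJ5715)) (BT.node 5716 (BT.leaf cJ5716) (BT.leaf cJ5717))))))) (BT.node 5756 (BT.node 5737 (BT.node 5727 (BT.node 5722 (BT.node 5720 (BT.node 5719 (BT.node 5718 (BT.leaf cJ5718) (BT.leaf cJ5719)) (BT.leaf cJ5720)) (BT.node 5721 (BT.leaf cJ5721) (BT.leaf cJ5722))) (BT.node 5725 (BT.node 5724 (BT.node 5723 (BT.leaf cJ5723) (BT.leaf cJ5724)) (BT.leaf cJ5725)) (BT.node 5726 (BT.leaf cJ5726) (BT.leaf cJ5727)))) (BT.node 5732 (BT.node 5730 (BT.node 5729 (BT.node 5728 (BT.leaf cJ5728) (BT.leaf cJ5729)) (BT.leaf cJ5730)) (BT.node 5731 (BT.leaf cJ5731) (BT.leaf cJ5732))) (BT.node 5735 (BT.node 5734 (BT.node 5733 (BT.leaf cJ5733) (BT.leaf cJ5734)) (BT.leaf cJ5735)) (BT.node 5736 (BT.leaf cJ5736) (BT.leaf cJ5737))))) (BT.node 5747 (BT.node 5742 (BT.node 5740 (BT.node 5739 (BT.node 5738 (BT.leaf cJ5738) (BT.leaf cJ5739)) (BT.leaf cJ5740)) (BT.node 5741 (BT.leaf cJ5741) (BT.leaf cJ5742))) (BT.node 5745 (BT.node 5744 (BT.node 5743 (BT.leaf cJ5743) (BT.leaf cJ5744)) (BT.leaf cJ5745)) (BT.node 5746 (BT.leaf cJ5746) (BT.leaf cJ5747)))) (BT.node 5752 (BT.node 5750 (BT.node 5749 (BT.node 5748 (BT.leaf cJ5748) (BT.leaf cJ5749)) (BT.leaf cJ5750)) (BT.node 5751 (BT.leaf cJ5751) (BT.leaf cJ5752))) (BT.node 5754 (BT.node 5753 (BT.leaf cJ5753) (BT.leaf cJ5754)) (BT.node 5755 (BT.leaf cJ5755) (BT.leaf cJ5756)))))) (BT.node 5776 (BT.node 5766 (BT.node 5761 (BT.node 5759 (BT.node 5758 (BT.node 5757 (BT.leaf cJ5757) (BT.leaf cJ5758)) (BT.leaf cJ5759)) (BT.node 5760 (BT.leaf cJ5760) (BT.leaf cJ5761))) (BT.node 5764 (BT.node 5763 (BT.node 5762 (BT.leaf cJ5762) (BT.leaf cJ5763)) (BT.leaf cJ5764)) (BT.node 5765 (BT.leaf cJ5765) (BT.leaf cJ5766)))) (BT.node 5771 (BT.node 5769 (BT.node 5768 (BT.node 5767 (BT.leaf cJ5767) (BT.leaf cJ5768)) (BT.leaf cJ5769)) (BT.node 5770 (BT.leaf cJ5770) (BT.leaf cJ5771))) (BT.node 5774 (BT.node 5773 (BT.node 5772 (BT.leaf cJ5772) (BT.leaf cJ5773)) (BT.leaf cJ5774)) (BT.node 5775 (BT.leaf cJ5775) (BT.leaf cJ5776))))) (BT.node 5786 (BT.node 5781 (BT.node 5779 (BT.node 5778 (BT.node 5777 (BT.leaf cJ5777) (BT.leaf cJ5778)) (BT.leaf cJ5779)) (BT.node 5780 (BT.leaf cJ5780) (BT.leaf cJ5781))) (BT.node 5784 (BT.node 5783 (BT.node 5782 (BT.leaf cJ5782) (BT.leaf cJ5783)) (BT.leaf cJ5784)) (BT.node 5785 (BT.leaf cJ5785) (BT.leaf cJ5786)))) (BT.node 5791 (BT.node 5789 (BT.node 5788 (BT.node 5787 (BT.leaf cJ5787) (BT.leaf cJ5788)) (BT.leaf cJ5789)) (BT.node 5790 (BT.leaf cJ5790) (BT.leaf cJ5791))) (BT.node 5793 (BT.node 5792 (BT.leaf cJ5792) (BT.leaf cJ5793)) (BT.node 5794 (BT.leaf cJ5794) (BT.leaf cJ5795)))))))) (BT.node 5873 (BT.node 5834 (BT.node 5815 (BT.node 5805 (BT.node 5800 (BT.node 5798 (BT.node 5797 (BT.node 5796 (BT.leaf cJ5796) (BT.leaf cJ5797)) (BT.leaf cJ5798)) (BT.node 5799 (BT.leaf cJ5799) (BT.leaf cJ5800))) (BT.node 5803 (BT.node 5802 (BT.node 5801 (BT.leaf cJ5801) (BT.leaf cJ5802)) (BT.leaf cJ5803)) (BT.node 5804 (BT.leaf cJ5804) (BT.leaf cJ5805)))) (BT.node 5810 (BT.node 5808 (BT.node 5807 (BT.node 5806 (BT.leaf cJ5806) (BT.leaf cJ5807)) (BT.leaf cJ5808)) (BT.node 5809 (BT.leaf cJ5809) (BT.leaf cJ5810))) (BT.node 5813 (BT.node 5812 (BT.node 5811 (BT.leaf cJ5811) (BT.leaf cJ5812)) (BT.leaf cJ5813)) (BT.node 5814 (BT.leaf cJ5814) (BT.leaf cJ5815))))) (BT.node 5825 (BT.node 5820 (BT.node 5818 (BT.node 5817 (BT.node 5816 (BT.leaf cJ5816) (BT.leaf cJ5817)) (BT.leaf cJ5818)) (BT.node 5819 (BT.leaf cJ5819) (BT.leaf cJ5820))) (BT.node 5823 (BT.node 5822 (BT.node 5821 (BT.leaf cJ5821) (BT.leaf cJ5822)) (BT.leaf cJ5823)) (BT.node 5824 (BT.leaf cJ5824) (BT.leaf cJ5825)))) (BT.node 5830 (BT.node 5828 (BT.node 5827 (BT.node 5826 (BT.leaf cJ5826) (BT.leaf cJ5827)) (BT.leaf cJ5828)) (BT.node 5829 (BT.leaf cJ5829) (BT.leaf cJ5830))) (BT.node 5832 (BT.node 5831 (BT.leaf cJ5831) (BT.leaf cJ5832)) (BT.node 5833 (BT.leaf cJ5833) (BT.leaf cJ5834)))))) (BT.node 5854 (BT.node 5844 (BT.node 5839 (BT.node 5837 (BT.node 5836 (BT.node 5835 (BT.leaf cJ5835) (BT.leaf cJ5836)) (BT.leaf cJ5837)) (BT.node 5838 (BT.leaf cJ5838) (BT.leaf cJ5839))) (BT.node 5842 (BT.node 5841 (BT.node 5840 (BT.leaf cJ5840) (BT.leaf cJ5841)) (BT.leaf cJ5842)) (BT.node 5843 (BT.leaf cJ5843) (BT.leaf cJ5844)))) (BT.node 5849 (BT.node 5847 (BT.node 5846 (BT.node 5845 (BT.leaf cJ5845) (BT.leaf cJ5846)) (BT.leaf cJ5847)) (BT.node 5848 (BT.leaf cJ5848) (BT.leaf cJ5849))) (BT.node 5852 (BT.node 5851 (BT.node 5850 (BT.leaf cJ5850) (BT.leaf cJ5851)) (BT.leaf cJ5852)) (BT.node 5853 (BT.leaf cJ5853) (BT.leaf cJ5854))))) (BT.node 5864 (BT.node 5859 (BT.node 5857 (BT.node 5856 (BT.node 5855 (BT.leaf cJ5855) (BT.leaf cJ5856)) (BT.leaf cJ5857)) (BT.node 5858 (BT.leaf cJ5858) (BT.leaf cJ5859))) (BT.node 5862 (BT.node 5861 (BT.node 5860 (BT.leaf cJ5860) (BT.leaf cJ5861)) (BT.leaf cJ5862)) (BT.node 5863 (BT.leaf cJ5863) (BT.leaf cJ5864)))) (BT.node 5869 (BT.node 5867 (BT.node 5866 (BT.node 5865 (BT.leaf cJ5865) (BT.leaf cJ5866)) (BT.leaf cJ5867)) (BT.node 5868 (BT.leaf cJ5868) (BT.leaf cJ5869))) (BT.node 5871 (BT.node 5870 (BT.leaf cJ5870) (BT.leaf cJ5871)) (BT.node 5872 (BT.leaf cJ5872) (BT.leaf cJ5873))))))) (BT.node 5912 (BT.node 5893 (BT.node 5883 (BT.node 5878 (BT.node 5876 (BT.node 5875 (BT.node 5874 (BT.leaf cJ5874) (BT.leaf cJ5875)) (BT.leaf cJ5876)) (BT.node 5877 (BT.leaf cJ5877) (BT.leaf cJ5878))) (BT.node 5881 (BT.node 5880 (BT.node 5879 (BT.leaf cJ5879) (BT.leaf cJ5880)) (BT.leaf cJ5881)) (BT.node 5882 (BT.leaf cJ5882) (BT.leaf cJ5883)))) (BT.node 5888 (BT.node 5886 (BT.node 5885 (BT.node 5884 (BT.leaf cJ5884) (BT.leaf cJ5885)) (BT.leaf cJ5886)) (BT.node 5887 (BT.leaf cJ5887) (BT.leaf cJ5888))) (BT.node 5891 (BT.node 5890 (BT.node 5889 (BT.leaf cJ5889) (BT.leaf cJ5890)) (BT.leaf cJ5891)) (BT.node 5892 (BT.leaf cJ5892) (BT.leaf cJ5893))))) (BT.node 5903 (BT.node 5898 (BT.node 5896 (BT.node 5895 (BT.node 5894 (BT.leaf cJ5894) (BT.leaf cJ5895)) (BT.leaf cJ5896)) (BT.node 5897 (BT.leaf cJ5897) (BT.leaf cJ5898))) (BT.node 5901 (BT.node 5900 (BT.node 5899 (BT.leaf cJ5899) (BT.leaf cJ5900)) (BT.leaf cJ5901)) (BT.node 5902 (BT.leaf cJ5902) (BT.leaf cJ5903)))) (BT.node 5908 (BT.node 5906 (BT.node 5905 (BT.node 5904 (BT.leaf cJ5904) (BT.leaf cJ5905)) (BT.leaf cJ5906)) (BT.node 5907 (BT.leaf cJ5907) (BT.leaf cJ5908))) (BT.node 5910 (BT.node 5909 (BT.leaf cJ5909) (BT.leaf cJ5910)) (BT.node 5911 (BT.leaf cJ5911) (BT.leaf cJ5912)))))) (BT.node 5932 (BT.node 5922 (BT.node 5917 (BT.node 5915 (BT.node 5914 (BT.node 5913 (BT.leaf cJ5913) (BT.leaf cJ5914)) (BT.leaf cJ5915)) (BT.node 5916 (BT.leaf cJ5916) (BT.leaf cJ5917))) (BT.node 5920 (BT.node 5919 (BT.node 5918 (BT.leaf cJ5918) (BT.leaf cJ5919)) (BT.leaf cJ5920)) (BT.node 5921 (BT.leaf cJ5921) (BT.leaf cJ5922)))) (BT.node 5927 (BT.node 5925 (BT.node 5924 (BT.node 5923 (BT.leaf cJ5923) (BT.leaf cJ5924)) (BT.leaf cJ5925)) (BT.node 5926 (BT.leaf cJ5926) (BT.leaf cJ5927))) (BT.node 5930 (BT.node 5929 (BT.node 5928 (BT.leaf cJ5928) (BT.leaf cJ5929)) (BT.leaf cJ5930)) (BT.node 5931 (BT.leaf cJ5931) (BT.leaf cJ5932))))) (BT.node 5942 (BT.node 5937 (BT.node 5935 (BT.node 5934 (BT.node 5933 (BT.leaf cJ5933) (BT.leaf cJ5934)) (BT.leaf cJ5935)) (BT.node 5936 (BT.leaf cJ5936) (BT.leaf cJ5937))) (BT.node 5940 (BT.node 5939 (BT.node 5938 (BT.leaf cJ5938) (BT.leaf cJ5939)) (BT.leaf cJ5940)) (BT.node 5941 (BT.leaf cJ5941) (BT.leaf cJ5942)))) (BT.node 5947 (BT.node 5945 (BT.node 5944 (BT.node 5943 (BT.leaf cJ5943) (BT.leaf cJ5944)) (BT.leaf cJ5945)) (BT.node 5946 (BT.leaf cJ5946) (BT.leaf cJ5947))) (BT.node 5949 (BT.node 5948 (BT.leaf cJ5948) (BT.leaf cJ5949)) (BT.node 5950 (BT.leaf cJ5950) (BT.leaf cJ5951))))))))) (BT.node 6108 (BT.node 6030 (BT.node 5991 (BT.node 5971 (BT.node 5961 (BT.node 5956 (BT.node 5954 (BT.node 5953 (BT.node 5952 (BT.leaf cJ5952) (BT.leaf cJ5953)) (BT.leaf cJ5954)) (BT.node 5955 (BT.leaf cJ5955) (BT.leaf cJ5956))) (BT.node 5959 (BT.node 5958 (BT.node 5957 (BT.leaf cJ5957) (BT.leaf cJ5958)) (BT.leaf cJ5959)) (BT.node 5960 (BT.leaf cJ5960) (BT.leaf cJ5961)))) (BT.node 5966 (BT.node 5964 (BT.node 5963 (BT.node 5962 (BT.leaf cJ5962) (BT.leaf cJ5963)) (BT.leaf cJ5964)) (BT.node 5965 (BT.leaf cJ5965) (BT.leaf cJ5966))) (BT.node 5969 (BT.node 5968 (BT.node 5967 (BT.leaf cJ5967) (BT.leaf cJ5968)) (BT.leaf cJ5969)) (BT.node 5970 (BT.leaf cJ5970) (BT.leaf cJ5971))))) (BT.node 5981 (BT.node 5976 (BT.node 5974 (BT.node 5973 (BT.node 5972 (BT.leaf cJ5972) (BT.leaf cJ5973)) (BT.leaf cJ5974)) (BT.node 5975 (BT.leaf cJ5975) (BT.leaf cJ5976))) (BT.node 5979 (BT.node 5978 (BT.node 5977 (BT.leaf cJ5977) (BT.leaf cJ5978)) (BT.leaf cJ5979)) (BT.node 5980 (BT.leaf cJ5980) (BT.leaf cJ5981)))) (BT.node 5986 (BT.node 5984 (BT.node 5983 (BT.node 5982 (BT.leaf cJ5982) (BT.leaf cJ5983)) (BT.leaf cJ5984)) (BT.node 5985 (BT.leaf cJ5985) (BT.leaf cJ5986))) (BT.node 5989 (BT.node 5988 (BT.node 5987 (BT.leaf cJ5987) (BT.leaf cJ5988)) (BT.leaf cJ5989)) (BT.node 5990 (BT.leaf cJ5990) (BT.leaf cJ5991)))))) (BT.node 6011 (BT.node 6001 (BT.node 5996 (BT.node 5994 (BT.node 5993 (BT.node 5992 (BT.leaf cJ5992) (BT.leaf cJ5993)) (BT.leaf cJ5994)) (BT.node 5995 (BT.leaf cJ5995) (BT.leaf cJ5996))) (BT.node 5999 (BT.node 5998 (BT.node 5997 (BT.leaf cJ5997) (BT.leaf cJ5998)) (BT.leaf cJ5999)) (BT.node 6000 (BT.leaf cJ6000) (BT.leaf cJ6001)))) (BT.node 6006 (BT.node 6004 (BT.node 6003 (BT.node 6002 (BT.leaf cJ6002) (BT.leaf cJ6003)) (BT.leaf cJ6004)) (BT.node 6005 (BT.leaf cJ6005) (BT.leaf cJ6006))) (BT.node 6009 (BT.node 6008 (BT.node 6007 (BT.leaf cJ6007) (BT.leaf cJ6008)) (BT.leaf cJ6009)) (BT.node 6010 (BT.leaf cJ6010) (BT.leaf cJ6011))))) (BT.node 6021 (BT.node 6016 (BT.node 6014 (BT.node 6013 (BT.node 6012 (BT.leaf cJ6012) (BT.leaf cJ6013)) (BT.leaf cJ6014)) (BT.node 6015 (BT.leaf cJ6015) (BT.leaf cJ6016))) (BT.node 6019 (BT.node 6018 (BT.node 6017 (BT.leaf cJ6017) (BT.leaf cJ6018)) (BT.leaf cJ6019)) (BT.node 6020 (BT.leaf cJ6020) (BT.leaf cJ6021)))) (BT.node 6026 (BT.node 6024 (BT.node 6023 (BT.node 6022 (BT.leaf cJ6022) (BT.leaf cJ6023)) (BT.leaf cJ6024)) (BT.node 6025 (BT.leaf cJ6025) (BT.leaf cJ6026))) (BT.node 6028 (BT.node 6027 (BT.leaf cJ6027) (BT.leaf cJ6028)) (BT.node 6029 (BT.leaf cJ6029) (BT.leaf cJ6030))))))) (BT.node 6069 (BT.node 6050 (BT.node 6040 (BT.node 6035 (BT.node 6033 (BT.node 6032 (BT.node 6031 (BT.leaf cJ6031) (BT.leaf cJ6032)) (BT.leaf cJ6033)) (BT.node 6034 (BT.leaf cJ6034) (BT.leaf cJ6035))) (BT.node 6038 (BT.node 6037 (BT.node 6036 (BT.leaf cJ6036) (BT.leaf cJ6037)) (BT.leaf cJ6038)) (BT.node 6039 (BT.leaf cJ6039) (BT.leaf cJ6040)))) (BT.node 6045 (BT.node 6043 (BT.node 6042 (BT.node 6041 (BT.leaf cJ6041) (BT.leaf cJ6042)) (BT.leaf cJ6043)) (BT.node 6044 (BT.leaf cJ6044) (BT.leaf cJ6045))) (BT.node 6048 (BT.node 6047 (BT.node 6046 (BT.leaf cJ6046) (BT.leaf cJ6047)) (BT.leaf cJ6048)) (BT.node 6049 (BT.leaf cJ6049) (BT.leaf cJ6050))))) (BT.node 6060 (BT.node 6055 (BT.node 6053 (BT.node 6052 (BT.node 6051 (BT.leaf cJ6051) (BT.leaf cJ6052)) (BT.leaf cJ6053)) (BT.node 6054 (BT.leaf cJ6054) (BT.leaf cJ6055))) (BT.node 6058 (BT.node 6057 (BT.node 6056 (BT.leaf cJ6056) (BT.leaf cJ6057)) (BT.leaf cJ6058)) (BT.node 6059 (BT.leaf cJ6059) (BT.leaf cJ6060)))) (BT.node 6065 (BT.node 6063 (BT.node 6062 (BT.node 6061 (BT.leaf cJ6061) (BT.leaf cJ6062)) (BT.leaf cJ6063)) (BT.node 6064 (BT.leaf cJ6064) (BT.leaf cJ6065))) (BT.node 6067 (BT.node 6066 (BT.leaf cJ6066) (BT.leaf cJ6067)) (BT.node 6068 (BT.leaf cJ6068) (BT.leaf cJ6069)))))) (BT.node 6089 (BT.node 6079 (BT.node 6074 (BT.node 6072 (BT.node 6071 (BT.node 6070 (BT.leaf cJ6070) (BT.leaf cJ6071)) (BT.leaf cJ6072)) (BT.node 6073 (BT.leaf cJ6073) (BT.leaf cJ6074))) (BT.node 6077 (BT.node 6076 (BT.node 6075 (BT.leaf cJ6075) (BT.leaf cJ6076)) (BT.leaf cJ6077)) (BT.node 6078 (BT.leaf cJ6078) (BT.leaf cJ6079)))) (BT.node 6084 (BT.node 6082 (BT.node 6081 (BT.node 6080 (BT.leaf cJ6080) (BT.leaf cJ6081)) (BT.leaf cJ6082)) (BT.node 6083 (BT.leaf cJ6083) (BT.leaf cJ6084))) (BT.node 6087 (BT.node 6086 (BT.node 6085 (BT.leaf cJ6085) (BT.leaf cJ6086)) (BT.leaf cJ6087)) (BT.node 6088 (BT.leaf cJ6088) (BT.leaf cJ6089))))) (BT.node 6099 (BT.node 6094 (BT.node 6092 (BT.node 6091 (BT.node 6090 (BT.leaf cJ6090) (BT.leaf cJ6091)) (BT.leaf cJ6092)) (BT.node 6093 (BT.leaf cJ6093) (BT.leaf cJ6094))) (BT.node 6097 (BT.node 6096 (BT.node 6095 (BT.leaf cJ6095) (BT.leaf cJ6096)) (BT.leaf cJ6097)) (BT.node 6098 (BT.leaf cJ6098) (BT.leaf cJ6099)))) (BT.node 6104 (BT.node 6102 (BT.node 6101 (BT.node 6100 (BT.leaf cJ6100) (BT.leaf cJ6101)) (BT.leaf cJ6102)) (BT.node 6103 (BT.leaf cJ6103) (BT.leaf cJ6104))) (BT.node 6106 (BT.node 6105 (BT.leaf cJ6105) (BT.leaf cJ6106)) (BT.node 6107 (BT.leaf cJ6107) (BT.leaf cJ6108)))))))) (BT.node 6186 (BT.node 6147 (BT.node 6128 (BT.node 6118 (BT.node 6113 (BT.node 6111 (BT.node 6110 (BT.node 6109 (BT.leaf cJ6109) (BT.leaf cJ6110)) (BT.leaf cJ6111)) (BT.node 6112 (BT.leaf cJ6112) (BT.leaf cJ6113))) (BT.node 6116 (BT.node 6115 (BT.node 6114 (BT.leaf cJ6114) (BT.leaf cJ6115)) (BT.leaf cJ6116)) (BT.node 6117 (BT.leaf cJ6117) (BT.leaf cJ6118)))) (BT.node 6123 (BT.node 6121 (BT.node 6120 (BT.node 6119 (BT.leaf cJ6119) (BT.leaf cJ6120)) (BT.leaf cJ6121)) (BT.node 6122 (BT.leaf cJ6122) (BT.leaf cJ6123))) (BT.node 6126 (BT.node 6125 (BT.node 6124 (BT.leaf cJ6124) (BT.leaf cJ6125)) (BT.leaf cJ6126)) (BT.node 6127 (BT.leaf cJ6127) (BT.leaf cJ6128))))) (BT.node 6138 (BT.node 6133 (BT.node 6131 (BT.node 6130 (BT.node 6129 (BT.leaf cJ6129) (BT.leaf cJ6130)) (BT.leaf cJ6131)) (BT.node 6132 (BT.leaf cJ6132) (BT.leaf cJ6133))) (BT.node 6136 (BT.node 6135 (BT.node 6134 (BT.leaf cJ6134) (BT.leaf cJ6135)) (BT.leaf cJ6136)) (BT.node 6137 (BT.leaf cJ6137) (BT.leaf cJ6138)))) (BT.node 6143 (BT.node 6141 (BT.node 6140 (BT.node 6139 (BT.leaf cJ6139) (BT.leaf cJ6140)) (BT.leaf cJ6141)) (BT.node 6142 (BT.leaf cJ6142) (BT.leaf cJ6143))) (BT.node 6145 (BT.node 6144 (BT.leaf cJ6144) (BT.leaf cJ6145)) (BT.node 6146 (BT.leaf cJ6146) (BT.leaf cJ6147)))))) (BT.node 6167 (BT.node 6157 (BT.node 6152 (BT.node 6150 (BT.node 6149 (BT.node 6148 (BT.leaf cJ6148) (BT.leaf cJ6149)) (BT.leaf cJ6150)) (BT.node 6151 (BT.leaf cJ6151) (BT.leaf cJ6152))) (BT.node 6155 (BT.node 6154 (BT.node 6153 (BT.leaf cJ6153) (BT.leaf cJ6154)) (BT.leaf cJ6155)) (BT.node 6156 (BT.leaf cJ6156) (BT.leaf cJ6157)))) (BT.node 6162 (BT.node 6160 (BT.node 6159 (BT.node 6158 (BT.leaf cJ6158) (BT.leaf cJ6159)) (BT.leaf cJ6160)) (BT.node 6161 (BT.leaf cJ6161) (BT.leaf cJ6162))) (BT.node 6165 (BT.node 6164 (BT.node 6163 (BT.leaf cJ6163) (BT.leaf cJ6164)) (BT.leaf cJ6165)) (BT.node 6166 (BT.leaf cJ6166) (BT.leaf cJ6167))))) (BT.node 6177 (BT.node 6172 (BT.node 6170 (BT.node 6169 (BT.node 6168 (BT.leaf cJ6168) (BT.leaf cJ6169)) (BT.leaf cJ6170)) (BT.node 6171 (BT.leaf cJ6171) (BT.leaf cJ6172))) (BT.node 6175 (BT.node 6174 (BT.node 6173 (BT.leaf cJ6173) (BT.leaf cJ6174)) (BT.leaf cJ6175)) (BT.node 6176 (BT.leaf cJ6176) (BT.leaf cJ6177)))) (BT.node 6182 (BT.node 6180 (BT.node 6179 (BT.node 6178 (BT.leaf cJ6178) (BT.leaf cJ6179)) (BT.leaf cJ6180)) (BT.node 6181 (BT.leaf cJ6181) (BT.leaf cJ6182))) (BT.node 6184 (BT.node 6183 (BT.leaf cJ6183) (BT.leaf cJ6184)) (BT.node 6185 (BT.leaf cJ6185) (BT.leaf cJ6186))))))) (BT.node 6225 (BT.node 6206 (BT.node 6196 (BT.node 6191 (BT.node 6189 (BT.node 6188 (BT.node 6187 (BT.leaf cJ6187) (BT.leaf cJ6188)) (BT.leaf cJ6189)) (BT.node 6190 (BT.leaf cJ6190) (BT.leaf cJ6191))) (BT.node 6194 (BT.node 6193 (BT.node 6192 (BT.leaf cJ6192) (BT.leaf cJ6193)) (BT.leaf cJ6194)) (BT.node 6195 (BT.leaf cJ6195) (BT.leaf cJ6196)))) (BT.node 6201 (BT.node 6199 (BT.node 6198 (BT.node 6197 (BT.leaf cJ6197) (BT.leaf cJ6198)) (BT.leaf cJ6199)) (BT.node 6200 (BT.leaf cJ6200) (BT.leaf cJ6201))) (BT.node 6204 (BT.node 6203 (BT.node 6202 (BT.leaf cJ6202) (BT.leaf cJ6203)) (BT.leaf cJ6204)) (BT.node 6205 (BT.leaf cJ6205) (BT.leaf cJ6206))))) (BT.node 6216 (BT.node 6211 (BT.node 6209 (BT.node 6208 (BT.node 6207 (BT.leaf cJ6207) (BT.leaf cJ6208)) (BT.leaf cJ6209)) (BT.node 6210 (BT.leaf cJ6210) (BT.leaf cJ6211))) (BT.node 6214 (BT.node 6213 (BT.node 6212 (BT.leaf cJ6212) (BT.leaf cJ6213)) (BT.leaf cJ6214)) (BT.node 6215 (BT.leaf cJ6215) (BT.leaf cJ6216)))) (BT.node 6221 (BT.node 6219 (BT.node 6218 (BT.node 6217 (BT.leaf cJ6217) (BT.leaf cJ6218)) (BT.leaf cJ6219)) (BT.node 6220 (BT.leaf cJ6220) (BT.leaf cJ6221))) (BT.node 6223 (BT.node 6222 (BT.leaf cJ6222) (BT.leaf cJ6223)) (BT.node 6224 (BT.leaf cJ6224) (BT.leaf cJ6225)))))) (BT.node 6245 (BT.node 6235 (BT.node 6230 (BT.node 6228 (BT.node 6227 (BT.node 6226 (BT.leaf cJ6226) (BT.leaf cJ6227)) (BT.leaf cJ6228)) (BT.node 6229 (BT.leaf cJ6229) (BT.leaf cJ6230))) (BT.node 6233 (BT.node 6232 (BT.node 6231 (BT.leaf cJ6231) (BT.leaf cJ6232)) (BT.leaf cJ6233)) (BT.node 6234 (BT.leaf cJ6234) (BT.leaf cJ6235)))) (BT.node 6240 (BT.node 6238 (BT.node 6237 (BT.node 6236 (BT.leaf cJ6236) (BT.leaf cJ6237)) (BT.leaf cJ6238)) (BT.node 6239 (BT.leaf cJ6239) (BT.leaf cJ6240))) (BT.node 6243 (BT.node 6242 (BT.node 6241 (BT.leaf cJ6241) (BT.leaf cJ6242)) (BT.leaf cJ6243)) (BT.node 6244 (BT.leaf cJ6244) (BT.leaf cJ6245))))) (BT.node 6255 (BT.node 6250 (BT.node 6248 (BT.node 6247 (BT.node 6246 (BT.leaf cJ6246) (BT.leaf cJ6247)) (BT.leaf cJ6248)) (BT.node 6249 (BT.leaf cJ6249) (BT.leaf cJ6250))) (BT.node 6253 (BT.node 6252 (BT.node 6251 (BT.leaf cJ6251) (BT.leaf cJ6252)) (BT.leaf cJ6253)) (BT.node 6254 (BT.leaf cJ6254) (BT.leaf cJ6255)))) (BT.node 6260 (BT.node 6258 (BT.node 6257 (BT.node 6256 (BT.leaf cJ6256) (BT.leaf cJ6257)) (BT.leaf cJ6258)) (BT.node 6259 (BT.leaf cJ6259) (BT.leaf cJ6260))) (BT.node 6262 (BT.node 6261 (BT.leaf cJ6261) (BT.leaf cJ6262)) (BT.node 6263 (BT.leaf cJ6263) (BT.leaf cJ6264))))))))))) (BT.node 6891 (BT.node 6578 (BT.node 6421 (BT.node 6343 (BT.node 6304 (BT.node 6284 (BT.node 6274 (BT.node 6269 (BT.node 6267 (BT.node 6266 (BT.node 6265 (BT.leaf cJ6265) (BT.leaf cJ6266)) (BT.leaf cJ6267)) (BT.node 6268 (BT.leaf cJ6268) (BT.leaf cJ6269))) (BT.node 6272 (BT.node 6271 (BT.node 6270 (BT.leaf cJ6270) (BT.leaf cJ6271)) (BT.leaf cJ6272)) (BT.node 6273 (BT.leaf cJ6273) (BT.leaf cJ6274)))) (BT.node 6279 (BT.node 6277 (BT.node 6276 (BT.node 6275 (BT.leaf cJ6275) (BT.leaf cJ6276)) (BT.leaf cJ6277)) (BT.node 6278 (BT.leaf cJ6278) (BT.leaf cJ6279))) (BT.node 6282 (BT.node 6281 (BT.node 6280 (BT.leaf cJ6280) (BT.leaf cJ6281)) (BT.leaf cJ6282)) (BT.node 6283 (BT.leaf cJ6283) (BT.leaf cJ6284))))) (BT.node 6294 (BT.node 6289 (BT.node 6287 (BT.node 6286 (BT.node 6285 (BT.leaf cJ6285) (BT.leaf cJ6286)) (BT.leaf cJ6287)) (BT.node 6288 (BT.leaf cJ6288) (BT.leaf cJ6289))) (BT.node 6292 (BT.node 6291 (BT.node 6290 (BT.leaf cJ6290) (BT.leaf cJ6291)) (BT.leaf cJ6292)) (BT.node 6293 (BT.leaf cJ6293) (BT.leaf cJ6294)))) (BT.node 6299 (BT.node 6297 (BT.node 6296 (BT.node 6295 (BT.leaf cJ6295) (BT.leaf cJ6296)) (BT.leaf cJ6297)) (BT.node 6298 (BT.leaf cJ6298) (BT.leaf cJ6299))) (BT.node 6302 (BT.node 6301 (BT.node 6300 (BT.leaf cJ6300) (BT.leaf cJ6301)) (BT.leaf cJ6302)) (BT.node 6303 (BT.leaf cJ6303) (BT.leaf cJ6304)))))) (BT.node 6324 (BT.node 6314 (BT.node 6309 (BT.node 6307 (BT.node 6306 (BT.node 6305 (BT.leaf cJ6305) (BT.leaf cJ6306)) (BT.leaf cJ6307)) (BT.node 6308 (BT.leaf cJ6308) (BT.leaf cJ6309))) (BT.node 6312 (BT.node 6311 (BT.node 6310 (BT.leaf cJ6310) (BT.leaf cJ6311)) (BT.leaf cJ6312)) (BT.node 6313 (BT.leaf cJ6313) (BT.leaf cJ6314)))) (BT.node 6319 (BT.node 6317 (BT.node 6316 (BT.node 6315 (BT.leaf cJ6315) (BT.leaf cJ6316)) (BT.leaf cJ6317)) (BT.node 6318 (BT.leaf cJ6318) (BT.leaf cJ6319))) (BT.node 6322 (BT.node 6321 (BT.node 6320 (BT.leaf cJ6320) (BT.leaf cJ6321)) (BT.leaf cJ6322)) (BT.node 6323 (BT.leaf cJ6323) (BT.leaf cJ6324))))) (BT.node 6334 (BT.node 6329 (BT.node 6327 (BT.node 6326 (BT.node 6325 (BT.leaf cJ6325) (BT.leaf cJ6326)) (BT.leaf cJ6327)) (BT.node 6328 (BT.leaf cJ6328) (BT.leaf cJ6329))) (BT.node 6332 (BT.node 6331 (BT.node 6330 (BT.leaf cJ6330) (BT.leaf cJ6331)) (BT.leaf cJ6332)) (BT.node 6333 (BT.leaf cJ6333) (BT.leaf cJ6334)))) (BT.node 6339 (BT.node 6337 (BT.node 6336 (BT.node 6335 (BT.leaf cJ6335) (BT.leaf cJ6336)) (BT.leaf cJ6337)) (BT.node 6338 (BT.leaf cJ6338) (BT.leaf cJ6339))) (BT.node 6341 (BT.node 6340 (BT.leaf cJ6340) (BT.leaf cJ6341)) (BT.node 6342 (BT.leaf cJ6342) (BT.leaf cJ6343))))))) (BT.node 6382 (BT.node 6363 (BT.node 6353 (BT.node 6348 (BT.node 6346 (BT.node 6345 (BT.node 6344 (BT.leaf cJ6344) (BT.leaf cJ6345)) (BT.leaf cJ6346)) (BT.node 6347 (BT.leaf cJ6347) (BT.leaf cJ6348))) (BT.node 6351 (BT.node 6350 (BT.node 6349 (BT.leaf cJ6349) (BT.leaf cJ6350)) (BT.leaf cJ6351)) (BT.node 6352 (BT.leaf cJ6352) (BT.leaf cJ6353)))) (BT.node 6358 (BT.node 6356 (BT.node 6355 (BT.node 6354 (BT.leaf cJ6354) (BT.leaf cJ6355)) (BT.leaf cJ6356)) (BT.node 6357 (BT.leaf cJ6357) (BT.leaf cJ6358))) (BT.node 6361 (BT.node 6360 (BT.node 6359 (BT.leaf cJ6359) (BT.leaf cJ6360)) (BT.leaf cJ6361)) (BT.node 6362 (BT.leaf cJ6362) (BT.leaf cJ6363))))) (BT.node 6373 (BT.node 6368 (BT.node 6366 (BT.node 6365 (BT.node 6364 (BT.leaf cJ6364) (BT.leaf cJ6365)) (BT.leaf cJ6366)) (BT.node 6367 (BT.leaf cJ6367) (BT.leaf cJ6368))) (BT.node 6371 (BT.node 6370 (BT.node 6369 (BT.leaf cJ6369) (BT.leaf cJ6370)) (BT.leaf cJ6371)) (BT.node 6372 (BT.leaf cJ6372) (BT.leaf cJ6373)))) (BT.node 6378 (BT.node 6376 (BT.node 6375 (BT.node 6374 (BT.leaf cJ6374) (BT.leaf cJ6375)) (BT.leaf cJ6376)) (BT.node 6377 (BT.leaf cJ6377) (BT.leaf cJ6378))) (BT.node 6380 (BT.node 6379 (BT.leaf cJ6379) (BT.leaf cJ6380)) (BT.node 6381 (BT.leaf cJ6381) (BT.leaf cJ6382)))))) (BT.node 6402 (BT.node 6392 (BT.node 6387 (BT.node 6385 (BT.node 6384 (BT.node 6383 (BT.leaf cJ6383) (BT.leaf cJ6384)) (BT.leaf cJ6385)) (BT.node 6386 (BT.leaf cJ6386) (BT.leaf cJ6387))) (BT.node 6390 (BT.node 6389 (BT.node 6388 (BT.leaf cJ6388) (BT.leaf cJ6389)) (BT.leaf cJ6390)) (BT.node 6391 (BT.leaf cJ6391) (BT.leaf cJ6392)))) (BT.node 6397 (BT.node 6395 (BT.node 6394 (BT.node 6393 (BT.leaf cJ6393) (BT.leaf cJ6394)) (BT.leaf cJ6395)) (BT.node 6396 (BT.leaf cJ6396) (BT.leaf cJ6397))) (BT.node 6400 (BT.node 6399 (BT.node 6398 (BT.leaf cJ6398) (BT.leaf cJ6399)) (BT.leaf cJ6400)) (BT.node 6401 (BT.leaf cJ6401) (BT.leaf cJ6402))))) (BT.node 6412 (BT.node 6407 (BT.node 6405 (BT.node 6404 (BT.node 6403 (BT.leaf cJ6403) (BT.leaf cJ6404)) (BT.leaf cJ6405)) (BT.node 6406 (BT.leaf cJ6406) (BT.leaf cJ6407))) (BT.node 6410 (BT.node 6409 (BT.node 6408 (BT.leaf cJ6408) (BT.leaf cJ6409)) (BT.leaf cJ6410)) (BT.node 6411 (BT.leaf cJ6411) (BT.leaf cJ6412)))) (BT.node 6417 (BT.node 6415 (BT.node 6414 (BT.node 6413 (BT.leaf cJ6413) (BT.leaf cJ6414)) (BT.leaf cJ6415)) (BT.node 6416 (BT.leaf cJ6416) (BT.leaf cJ6417))) (BT.node 6419 (BT.node 6418 (BT.leaf cJ6418) (BT.leaf cJ6419)) (BT.node 6420 (BT.leaf cJ6420) (BT.leaf cJ6421)))))))) (BT.node 6500 (BT.node 6461 (BT.node 6441 (BT.node 6431 (BT.node 6426 (BT.node 6424 (BT.node 6423 (BT.node 6422 (BT.leaf cJ6422) (BT.leaf cJ6423)) (BT.leaf cJ6424)) (BT.node 6425 (BT.leaf cJ6425) (BT.leaf cJ6426))) (BT.node 6429 (BT.node 6428 (BT.node 6427 (BT.leaf cJ6427) (BT.leaf cJ6428)) (BT.leaf cJ6429)) (BT.node 6430 (BT.leaf cJ6430) (BT.leaf cJ6431)))) (BT.node 6436 (BT.node 6434 (BT.node 6433 (BT.node 6432 (BT.leaf cJ6432) (BT.leaf cJ6433)) (BT.leaf cJ6434)) (BT.node 6435 (BT.leaf cJ6435) (BT.leaf cJ6436))) (BT.node 6439 (BT.node 6438 (BT.node 6437 (BT.leaf cJ6437) (BT.leaf cJ6438)) (BT.leaf cJ6439)) (BT.node 6440 (BT.leaf cJ6440) (BT.leaf cJ6441))))) (BT.node 6451 (BT.node 6446 (BT.node 6444 (BT.node 6443 (BT.node 6442 (BT.leaf cJ6442) (BT.leaf cJ6443)) (BT.leaf cJ6444)) (BT.node 6445 (BT.leaf cJ6445) (BT.leaf cJ6446))) (BT.node 6449 (BT.node 6448 (BT.node 6447 (BT.leaf cJ6447) (BT.leaf cJ6448)) (BT.leaf cJ6449)) (BT.node 6450 (BT.leaf cJ6450) (BT.leaf cJ6451)))) (BT.node 6456 (BT.node 6454 (BT.node 6453 (BT.node 6452 (BT.leaf cJ6452) (BT.leaf cJ6453)) (BT.leaf cJ6454)) (BT.node 6455 (BT.leaf cJ6455) (BT.leaf cJ6456))) (BT.node 6459 (BT.node 6458 (BT.node 6457 (BT.leaf cJ6457) (BT.leaf cJ6458)) (BT.leaf cJ6459)) (BT.node 6460 (BT.leaf cJ6460) (BT.leaf cJ6461)))))) (BT.node 6481 (BT.node 6471 (BT.node 6466 (BT.node 6464 (BT.node 6463 (BT.node 6462 (BT.leaf cJ6462) (BT.leaf cJ6463)) (BT.leaf cJ6464)) (BT.node 6465 (BT.leaf cJ6465) (BT.leaf cJ6466))) (BT.node 6469 (BT.node 6468 (BT.node 6467 (BT.leaf cJ6467) (BT.leaf cJ6468)) (BT.leaf cJ6469)) (BT.node 6470 (BT.leaf cJ6470) (BT.leaf cJ6471)))) (BT.node 6476 (BT.node 6474 (BT.node 6473 (BT.node 6472 (BT.leaf cJ6472) (BT.leaf cJ6473)) (BT.leaf cJ6474)) (BT.node 6475 (BT.leaf cJ6475) (BT.leaf cJ6476))) (BT.node 6479 (BT.node 6478 (BT.node 6477 (BT.leaf cJ6477) (BT.leaf cJ6478)) (BT.leaf cJ6479)) (BT.node 6480 (BT.leaf cJ6480) (BT.leaf cJ6481))))) (BT.node 6491 (BT.node 6486 (BT.node 6484 (BT.node 6483 (BT.node 6482 (BT.leaf cJ6482) (BT.leaf cJ6483)) (BT.leaf cJ6484)) (BT.node 6485 (BT.leaf cJ6485) (BT.leaf cJ6486))) (BT.node 6489 (BT.node 6488 (BT.node 6487 (BT.leaf cJ6487) (BT.leaf cJ6488)) (BT.leaf cJ6489)) (BT.node 6490 (BT.leaf cJ6490) (BT.leaf cJ6491)))) (BT.node 6496 (BT.node 6494 (BT.node 6493 (BT.node 6492 (BT.leaf cJ6492) (BT.leaf cJ6493)) (BT.leaf cJ6494)) (BT.node 6495 (BT.leaf cJ6495) (BT.leaf cJ6496))) (BT.node 6498 (BT.node 6497 (BT.leaf cJ6497) (BT.leaf cJ6498)) (BT.node 6499 (BT.leaf cJ6499) (BT.leaf cJ6500))))))) (BT.node 6539 (BT.node 6520 (BT.node 6510 (BT.node 6505 (BT.node 6503 (BT.node 6502 (BT.node 6501 (BT.leaf cJ6501) (BT.leaf cJ6502)) (BT.leaf cJ6503)) (BT.node 6504 (BT.leaf cJ6504) (BT.leaf cJ6505))) (BT.node 6508 (BT.node 6507 (BT.node 6506 (BT.leaf cJ6506) (BT.leaf cJ6507)) (BT.leaf cJ6508)) (BT.node 6509 (BT.leaf cJ6509) (BT.leaf cJ6510)))) (BT.node 6515 (BT.node 6513 (BT.node 6512 (BT.node 6511 (BT.leaf cJ6511) (BT.leaf cJ6512)) (BT.leaf cJ6513)) (BT.node 6514 (BT.leaf cJ6514) (BT.leaf cJ6515))) (BT.node 6518 (BT.node 6517 (BT.node 6516 (BT.leaf cJ6516) (BT.leaf cJ6517)) (BT.leaf cJ6518)) (BT.node 6519 (BT.leaf cJ6519) (BT.leaf cJ6520))))) (BT.node 6530 (BT.node 6525 (BT.node 6523 (BT.node 6522 (BT.node 6521 (BT.leaf cJ6521) (BT.leaf cJ6522)) (BT.leaf cJ6523)) (BT.node 6524 (BT.leaf cJ6524) (BT.leaf cJ6525))) (BT.node 6528 (BT.node 6527 (BT.node 6526 (BT.leaf cJ6526) (BT.leaf cJ6527)) (BT.leaf cJ6528)) (BT.node 6529 (BT.leaf cJ6529) (BT.leaf cJ6530)))) (BT.node 6535 (BT.node 6533 (BT.node 6532 (BT.node 6531 (BT.leaf cJ6531) (BT.leaf cJ6532)) (BT.leaf cJ6533)) (BT.node 6534 (BT.leaf cJ6534) (BT.leaf cJ6535))) (BT.node 6537 (BT.node 6536 (BT.leaf cJ6536) (BT.leaf cJ6537)) (BT.node 6538 (BT.leaf cJ6538) (BT.leaf cJ6539)))))) (BT.node 6559 (BT.node 6549 (BT.node 6544 (BT.node 6542 (BT.node 6541 (BT.node 6540 (BT.leaf cJ6540) (BT.leaf cJ6541)) (BT.leaf cJ6542)) (BT.node 6543 (BT.leaf cJ6543) (BT.leaf cJ6544))) (BT.node 6547 (BT.node 6546 (BT.node 6545 (BT.leaf cJ6545) (BT.leaf cJ6546)) (BT.leaf cJ6547)) (BT.node 6548 (BT.leaf cJ6548) (BT.leaf cJ6549)))) (BT.node 6554 (BT.node 6552 (BT.node 6551 (BT.node 6550 (BT.leaf cJ6550) (BT.leaf cJ6551)) (BT.leaf cJ6552)) (BT.node 6553 (BT.leaf cJ6553) (BT.leaf cJ6554))) (BT.node 6557 (BT.node 6556 (BT.node 6555 (BT.leaf cJ6555) (BT.leaf cJ6556)) (BT.leaf cJ6557)) (BT.node 6558 (BT.leaf cJ6558) (BT.leaf cJ6559))))) (BT.node 6569 (BT.node 6564 (BT.node 6562 (BT.node 6561 (BT.node 6560 (BT.leaf cJ6560) (BT.leaf cJ6561)) (BT.leaf cJ6562)) (BT.node 6563 (BT.leaf cJ6563) (BT.leaf cJ6564))) (BT.node 6567 (BT.node 6566 (BT.node 6565 (BT.leaf cJ6565) (BT.leaf cJ6566)) (BT.leaf cJ6567)) (BT.node 6568 (BT.leaf cJ6568) (BT.leaf cJ6569)))) (BT.node 6574 (BT.node 6572 (BT.node 6571 (BT.node 6570 (BT.leaf cJ6570) (BT.leaf cJ6571)) (BT.leaf cJ6572)) (BT.node 6573 (BT.leaf cJ6573) (BT.leaf cJ6574))) (BT.node 6576 (BT.node 6575 (BT.leaf cJ6575) (BT.leaf cJ6576)) (BT.node 6577 (BT.leaf cJ6577) (BT.leaf cJ6578))))))))) (BT.node 6735 (BT.node 6657 (BT.node 6618 (BT.node 6598 (BT.node 6588 (BT.node 6583 (BT.node 6581 (BT.node 6580 (BT.node 6579 (BT.leaf cJ6579) (BT.leaf cJ6580)) (BT.leaf cJ6581)) (BT.node 6582 (BT.leaf cJ6582) (BT.leaf cJ6583))) (BT.node 6586 (BT.node 6585 (BT.node 6584 (BT.leaf cJ6584) (BT.leaf cJ6585)) (BT.leaf cJ6586)) (BT.node 6587 (BT.leaf cJ6587) (BT.leaf cJ6588)))) (BT.node 6593 (BT.node 6591 (BT.node 6590 (BT.node 6589 (BT.leaf cJ6589) (BT.leaf cJ6590)) (BT.leaf cJ6591)) (BT.node 6592 (BT.leaf cJ6592) (BT.leaf cJ6593))) (BT.node 6596 (BT.node 6595 (BT.node 6594 (BT.leaf cJ6594) (BT.leaf cJ6595)) (BT.leaf cJ6596)) (BT.node 6597 (BT.leaf cJ6597) (BT.leaf cJ6598))))) (BT.node 6608 (BT.node 6603 (BT.node 6601 (BT.node 6600 (BT.node 6599 (BT.leaf cJ6599) (BT.leaf cJ6600)) (BT.leaf cJ6601)) (BT.node 6602 (BT.leaf cJ6602) (BT.leaf cJ6603))) (BT.node 6606 (BT.node 6605 (BT.node 6604 (BT.leaf cJ6604) (BT.leaf cJ6605)) (BT.leaf cJ6606)) (BT.node 6607 (BT.leaf cJ6607) (BT.leaf cJ6608)))) (BT.node 6613 (BT.node 6611 (BT.node 6610 (BT.node 6609 (BT.leaf cJ6609) (BT.leaf cJ6610)) (BT.leaf cJ6611)) (BT.node 6612 (BT.leaf cJ6612) (BT.leaf cJ6613))) (BT.node 6616 (BT.node 6615 (BT.node 6614 (BT.leaf cJ6614) (BT.leaf cJ6615)) (BT.leaf cJ6616)) (BT.node 6617 (BT.leaf cJ6617) (BT.leaf cJ6618)))))) (BT.node 6638 (BT.node 6628 (BT.node 6623 (BT.node 6621 (BT.node 6620 (BT.node 6619 (BT.leaf cJ6619) (BT.leaf cJ6620)) (BT.leaf cJ6621)) (BT.node 6622 (BT.leaf cJ6622) (BT.leaf cJ6623))) (BT.node 6626 (BT.node 6625 (BT.node 6624 (BT.leaf cJ6624) (BT.leaf cJ6625)) (BT.leaf cJ6626)) (BT.node 6627 (BT.leaf cJ6627) (BT.leaf cJ6628)))) (BT.node 6633 (BT.node 6631 (BT.node 6630 (BT.node 6629 (BT.leaf cJ6629) (BT.leaf cJ6630)) (BT.leaf cJ6631)) (BT.node 6632 (BT.leaf cJ6632) (BT.leaf cJ6633))) (BT.node 6636 (BT.node 6635 (BT.node 6634 (BT.leaf cJ6634) (BT.leaf cJ6635)) (BT.leaf cJ6636)) (BT.node 6637 (BT.leaf cJ6637) (BT.leaf cJ6638))))) (BT.node 6648 (BT.node 6643 (BT.node 6641 (BT.node 6640 (BT.node 6639 (BT.leaf cJ6639) (BT.leaf cJ6640)) (BT.leaf cJ6641)) (BT.node 6642 (BT.leaf cJ6642) (BT.leaf cJ6643))) (BT.node 6646 (BT.node 6645 (BT.node 6644 (BT.leaf cJ6644) (BT.leaf cJ6645)) (BT.leaf cJ6646)) (BT.node 6647 (BT.leaf cJ6647) (BT.leaf cJ6648)))) (BT.node 6653 (BT.node 6651 (BT.node 6650 (BT.node 6649 (BT.leaf cJ6649) (BT.leaf cJ6650)) (BT.leaf cJ6651)) (BT.node 6652 (BT.leaf cJ6652) (BT.leaf cJ6653))) (BT.node 6655 (BT.node 6654 (BT.leaf cJ6654) (BT.leaf cJ6655)) (BT.node 6656 (BT.leaf cJ6656) (BT.leaf cJ6657))))))) (BT.node 6696 (BT.node 6677 (BT.node 6667 (BT.node 6662 (BT.node 6660 (BT.node 6659 (BT.node 6658 (BT.leaf cJ6658) (BT.leaf cJ6659)) (BT.leaf cJ6660)) (BT.node 6661 (BT.leaf cJ6661) (BT.leaf cJ6662))) (BT.node 6665 (BT.node 6664 (BT.node 6663 (BT.leaf cJ6663) (BT.leaf cJ6664)) (BT.leaf cJ6665)) (BT.node 6666 (BT.leaf cJ6666) (BT.leaf cJ6667)))) (BT.node 6672 (BT.node 6670 (BT.node 6669 (BT.node 6668 (BT.leaf cJ6668) (BT.leaf cJ6669)) (BT.leaf cJ6670)) (BT.node 6671 (BT.leaf cJ6671) (BT.leaf cJ6672))) (BT.node 6675 (BT.node 6674 (BT.node 6673 (BT.leaf cJ6673) (BT.leaf cJ6674)) (BT.leaf cJ6675)) (BT.node 6676 (BT.leaf cJ6676) (BT.leaf cJ6677))))) (BT.node 6687 (BT.node 6682 (BT.node 6680 (BT.node 6679 (BT.node 6678 (BT.leaf cJ6678) (BT.leaf cJ6679)) (BT.leaf cJ6680)) (BT.node 6681 (BT.leaf cJ6681) (BT.leaf cJ6682))) (BT.node 6685 (BT.node 6684 (BT.node 6683 (BT.leaf cJ6683) (BT.leaf cJ6684)) (BT.leaf cJ6685)) (BT.node 6686 (BT.leaf cJ6686) (BT.leaf cJ6687)))) (BT.node 6692 (BT.node 6690 (BT.node 6689 (BT.node 6688 (BT.leaf cJ6688) (BT.leaf cJ6689)) (BT.leaf cJ6690)) (BT.node 6691 (BT.leaf cJ6691) (BT.leaf cJ6692))) (BT.node 6694 (BT.node 6693 (BT.leaf cJ6693) (BT.leaf cJ6694)) (BT.node 6695 (BT.leaf cJ6695) (BT.leaf cJ6696)))))) (BT.node 6716 (BT.node 6706 (BT.node 6701 (BT.node 6699 (BT.node 6698 (BT.node 6697 (BT.leaf cJ6697) (BT.leaf cJ6698)) (BT.leaf cJ6699)) (BT.node 6700 (BT.leaf cJ6700) (BT.leaf cJ6701))) (BT.node 6704 (BT.node 6703 (BT.node 6702 (BT.leaf cJ6702) (BT.leaf cJ6703)) (BT.leaf cJ6704)) (BT.node 6705 (BT.leaf cJ6705) (BT.leaf cJ6706)))) (BT.node 6711 (BT.node 6709 (BT.node 6708 (BT.node 6707 (BT.leaf cJ6707) (BT.leaf cJ6708)) (BT.leaf cJ6709)) (BT.node 6710 (BT.leaf cJ6710) (BT.leaf cJ6711))) (BT.node 6714 (BT.node 6713 (BT.node 6712 (BT.leaf cJ6712) (BT.leaf cJ6713)) (BT.leaf cJ6714)) (BT.node 6715 (BT.leaf cJ6715) (BT.leaf cJ6716))))) (BT.node 6726 (BT.node 6721 (BT.node 6719 (BT.node 6718 (BT.node 6717 (BT.leaf cJ6717) (BT.leaf cJ6718)) (BT.leaf cJ6719)) (BT.node 6720 (BT.leaf cJ6720) (BT.leaf cJ6721))) (BT.node 6724 (BT.node 6723 (BT.node 6722 (BT.leaf cJ6722) (BT.leaf cJ6723)) (BT.leaf cJ6724)) (BT.node 6725 (BT.leaf cJ6725) (BT.leaf cJ6726)))) (BT.node 6731 (BT.node 6729 (BT.node 6728 (BT.node 6727 (BT.leaf cJ6727) (BT.leaf cJ6728)) (BT.leaf cJ6729)) (BT.node 6730 (BT.leaf cJ6730) (BT.leaf cJ6731))) (BT.node 6733 (BT.node 6732 (BT.leaf cJ6732) (BT.leaf cJ6733)) (BT.node 6734 (BT.leaf cJ6734) (BT.leaf cJ6735)))))))) (BT.node 6813 (BT.node 6774 (BT.node 6755 (BT.node 6745 (BT.node 6740 (BT.node 6738 (BT.node 6737 (BT.node 6736 (BT.leaf cJ6736) (BT.leaf cJ6737)) (BT.leaf cJ6738)) (BT.node 6739 (BT.leaf cJ6739) (BT.leaf cJ6740))) (BT.node 6743 (BT.node 6742 (BT.node 6741 (BT.leaf cJ6741) (BT.leaf cJ6742)) (BT.leaf cJ6743)) (BT.node 6744 (BT.leaf cJ6744) (BT.leaf cJ6745)))) (BT.node 6750 (BT.node 6748 (BT.node 6747 (BT.node 6746 (BT.leaf cJ6746) (BT.leaf cJ6747)) (BT.leaf cJ6748)) (BT.node 6749 (BT.leaf cJ6749) (BT.leaf cJ6750))) (BT.node 6753 (BT.node 6752 (BT.node 6751 (BT.leaf cJ6751) (BT.leaf cJ6752)) (BT.leaf cJ6753)) (BT.node 6754 (BT.leaf cJ6754) (BT.leaf cJ6755))))) (BT.node 6765 (BT.node 6760 (BT.node 6758 (BT.node 6757 (BT.node 6756 (BT.leaf cJ6756) (BT.leaf cJ6757)) (BT.leaf cJ6758)) (BT.node 6759 (BT.leaf cJ6759) (BT.leaf cJ6760))) (BT.node 6763 (BT.node 6762 (BT.node 6761 (BT.leaf cJ6761) (BT.leaf cJ6762)) (BT.leaf cJ6763)) (BT.node 6764 (BT.leaf cJ6764) (BT.leaf cJ6765)))) (BT.node 6770 (BT.node 6768 (BT.node 6767 (BT.node 6766 (BT.leaf cJ6766) (BT.leaf cJ6767)) (BT.leaf cJ6768)) (BT.node 6769 (BT.leaf cJ6769) (BT.leaf cJ6770))) (BT.node 6772 (BT.node 6771 (BT.leaf cJ6771) (BT.leaf cJ6772)) (BT.node 6773 (BT.leaf cJ6773) (BT.leaf cJ6774)))))) (BT.node 6794 (BT.node 6784 (BT.node 6779 (BT.node 6777 (BT.node 6776 (BT.node 6775 (BT.leaf cJ6775) (BT.leaf cJ6776)) (BT.leaf cJ6777)) (BT.node 6778 (BT.leaf cJ6778) (BT.leaf cJ6779))) (BT.node 6782 (BT.node 6781 (BT.node 6780 (BT.leaf cJ6780) (BT.leaf cJ6781)) (BT.leaf cJ6782)) (BT.node 6783 (BT.leaf cJ6783) (BT.leaf cJ6784)))) (BT.node 6789 (BT.node 6787 (BT.node 6786 (BT.node 6785 (BT.leaf cJ6785) (BT.leaf cJ6786)) (BT.leaf cJ6787)) (BT.node 6788 (BT.leaf cJ6788) (BT.leaf cJ6789))) (BT.node 6792 (BT.node 6791 (BT.node 6790 (BT.leaf cJ6790) (BT.leaf cJ6791)) (BT.leaf cJ6792)) (BT.node 6793 (BT.leaf cJ6793) (BT.leaf cJ6794))))) (BT.node 6804 (BT.node 6799 (BT.node 6797 (BT.node 6796 (BT.node 6795 (BT.leaf cJ6795) (BT.leaf cJ6796)) (BT.leaf cJ6797)) (BT.node 6798 (BT.leaf cJ6798) (BT.leaf cJ6799))) (BT.node 6802 (BT.node 6801 (BT.node 6800 (BT.leaf cJ6800) (BT.leaf cJ6801)) (BT.leaf cJ6802)) (BT.node 6803 (BT.leaf cJ6803) (BT.leaf cJ6804)))) (BT.node 6809 (BT.node 6807 (BT.node 6806 (BT.node 6805 (BT.leaf cJ6805) (BT.leaf cJ6806)) (BT.leaf cJ6807)) (BT.node 6808 (BT.leaf cJ6808) (BT.leaf cJ6809))) (BT.node 6811 (BT.node 6810 (BT.leaf cJ6810) (BT.leaf cJ6811)) (BT.node 6812 (BT.leaf cJ6812) (BT.leaf cJ6813))))))) (BT.node 6852 (BT.node 6833 (BT.node 6823 (BT.node 6818 (BT.node 6816 (BT.node 6815 (BT.node 6814 (BT.leaf cJ6814) (BT.leaf cJ6815)) (BT.leaf cJ6816)) (BT.node 6817 (BT.leaf cJ6817) (BT.leaf cJ6818))) (BT.node 6821 (BT.node 6820 (BT.node 6819 (BT.leaf cJ6819) (BT.leaf cJ6820)) (BT.leaf cJ6821)) (BT.node 6822 (BT.leaf cJ6822) (BT.leaf cJ6823)))) (BT.node 6828 (BT.node 6826 (BT.node 6825 (BT.node 6824 (BT.leaf cJ6824) (BT.leaf cJ6825)) (BT.leaf cJ6826)) (BT.node 6827 (BT.leaf cJ6827) (BT.leaf cJ6828))) (BT.node 6831 (BT.node 6830 (BT.node 6829 (BT.leaf cJ6829) (BT.leaf cJ6830)) (BT.leaf cJ6831)) (BT.node 6832 (BT.leaf cJ6832) (BT.leaf cJ6833))))) (BT.node 6843 (BT.node 6838 (BT.node 6836 (BT.node 6835 (BT.node 6834 (BT.leaf cJ6834) (BT.leaf cJ6835)) (BT.leaf cJ6836)) (BT.node 6837 (BT.leaf cJ6837) (BT.leaf cJ6838))) (BT.node 6841 (BT.node 6840 (BT.node 6839 (BT.leaf cJ6839) (BT.leaf cJ6840)) (BT.leaf cJ6841)) (BT.node 6842 (BT.leaf cJ6842) (BT.leaf cJ6843)))) (BT.node 6848 (BT.node 6846 (BT.node 6845 (BT.node 6844 (BT.leaf cJ6844) (BT.leaf cJ6845)) (BT.leaf cJ6846)) (BT.node 6847 (BT.leaf cJ6847) (BT.leaf cJ6848))) (BT.node 6850 (BT.node 6849 (BT.leaf cJ6849) (BT.leaf cJ6850)) (BT.node 6851 (BT.leaf cJ6851) (BT.leaf cJ6852)))))) (BT.node 6872 (BT.node 6862 (BT.node 6857 (BT.node 6855 (BT.node 6854 (BT.node 6853 (BT.leaf cJ6853) (BT.leaf cJ6854)) (BT.leaf cJ6855)) (BT.node 6856 (BT.leaf cJ6856) (BT.leaf cJ6857))) (BT.node 6860 (BT.node 6859 (BT.node 6858 (BT.leaf cJ6858) (BT.leaf cJ6859)) (BT.leaf cJ6860)) (BT.node 6861 (BT.leaf cJ6861) (BT.leaf cJ6862)))) (BT.node 6867 (BT.node 6865 (BT.node 6864 (BT.node 6863 (BT.leaf cJ6863) (BT.leaf cJ6864)) (BT.leaf cJ6865)) (BT.node 6866 (BT.leaf cJ6866) (BT.leaf cJ6867))) (BT.node 6870 (BT.node 6869 (BT.node 6868 (BT.leaf cJ6868) (BT.leaf cJ6869)) (BT.leaf cJ6870)) (BT.node 6871 (BT.leaf cJ6871) (BT.leaf cJ6872))))) (BT.node 6882 (BT.node 6877 (BT.node 6875 (BT.node 6874 (BT.node 6873 (BT.leaf cJ6873) (BT.leaf cJ6874)) (BT.leaf cJ6875)) (BT.node 6876 (BT.leaf cJ6876) (BT.leaf cJ6877))) (BT.node 6880 (BT.node 6879 (BT.node 6878 (BT.leaf cJ6878) (BT.leaf cJ6879)) (BT.leaf cJ6880)) (BT.node 6881 (BT.leaf cJ6881) (BT.leaf cJ6882)))) (BT.node 6887 (BT.node 6885 (BT.node 6884 (BT.node 6883 (BT.leaf cJ6883) (BT.leaf cJ6884)) (BT.leaf cJ6885)) (BT.node 6886 (BT.leaf cJ6886) (BT.leaf cJ6887))) (BT.node 6889 (BT.node 6888 (BT.leaf cJ6888) (BT.leaf cJ6889)) (BT.node 6890 (BT.leaf cJ6890) (BT.leaf cJ6891)))))))))) (BT.node 7204 (BT.node 7048 (BT.node 6970 (BT.node 6931 (BT.node 6911 (BT.node 6901 (BT.node 6896 (BT.node 6894 (BT.node 6893 (BT.node 6892 (BT.leaf cJ6892) (BT.leaf cJ6893)) (BT.leaf cJ6894)) (BT.node 6895 (BT.leaf cJ6895) (BT.leaf cJ6896))) (BT.node 6899 (BT.node 6898 (BT.node 6897 (BT.leaf cJ6897) (BT.leaf cJ6898)) (BT.leaf cJ6899)) (BT.node 6900 (BT.leaf cJ6900) (BT.leaf cJ6901)))) (BT.node 6906 (BT.node 6904 (BT.node 6903 (BT.node 6902 (BT.leaf cJ6902) (BT.leaf cJ6903)) (BT.leaf cJ6904)) (BT.node 6905 (BT.leaf cJ6905) (BT.leaf cJ6906))) (BT.node 6909 (BT.node 6908 (BT.node 6907 (BT.leaf cJ6907) (BT.leaf cJ6908)) (BT.leaf cJ6909)) (BT.node 6910 (BT.leaf cJ6910) (BT.leaf cJ6911))))) (BT.node 6921 (BT.node 6916 (BT.node 6914 (BT.node 6913 (BT.node 6912 (BT.leaf cJ6912) (BT.leaf cJ6913)) (BT.leaf cJ6914)) (BT.node 6915 (BT.leaf cJ6915) (BT.leaf cJ6916))) (BT.node 6919 (BT.node 6918 (BT.node 6917 (BT.leaf cJ6917) (BT.leaf cJ6918)) (BT.leaf cJ6919)) (BT.node 6920 (BT.leaf cJ6920) (BT.leaf cJ6921)))) (BT.node 6926 (BT.node 6924 (BT.node 6923 (BT.node 6922 (BT.leaf cJ6922) (BT.leaf cJ6923)) (BT.leaf cJ6924)) (BT.node 6925 (BT.leaf cJ6925) (BT.leaf cJ6926))) (BT.node 6929 (BT.node 6928 (BT.node 6927 (BT.leaf cJ6927) (BT.leaf cJ6928)) (BT.leaf cJ6929)) (BT.node 6930 (BT.leaf cJ6930) (BT.leaf cJ6931)))))) (BT.node 6951 (BT.node 6941 (BT.node 6936 (BT.node 6934 (BT.node 6933 (BT.node 6932 (BT.leaf cJ6932) (BT.leaf cJ6933)) (BT.leaf cJ6934)) (BT.node 6935 (BT.leaf cJ6935) (BT.leaf cJ6936))) (BT.node 6939 (BT.node 6938 (BT.node 6937 (BT.leaf cJ6937) (BT.leaf cJ6938)) (BT.leaf cJ6939)) (BT.node 6940 (BT.leaf cJ6940) (BT.leaf cJ6941)))) (BT.node 6946 (BT.node 6944 (BT.node 6943 (BT.node 6942 (BT.leaf cJ6942) (BT.leaf cJ6943)) (BT.leaf cJ6944)) (BT.node 6945 (BT.leaf cJ6945) (BT.leaf cJ6946))) (BT.node 6949 (BT.node 6948 (BT.node 6947 (BT.leaf cJ6947) (BT.leaf cJ6948)) (BT.leaf cJ6949)) (BT.node 6950 (BT.leaf cJ6950) (BT.leaf cJ6951))))) (BT.node 6961 (BT.node 6956 (BT.node 6954 (BT.node 6953 (BT.node 6952 (BT.leaf cJ6952) (BT.leaf cJ6953)) (BT.leaf cJ6954)) (BT.node 6955 (BT.leaf cJ6955) (BT.leaf cJ6956))) (BT.node 6959 (BT.node 6958 (BT.node 6957 (BT.leaf cJ6957) (BT.leaf cJ6958)) (BT.leaf cJ6959)) (BT.node 6960 (BT.leaf cJ6960) (BT.leaf cJ6961)))) (BT.node 6966 (BT.node 6964 (BT.node 6963 (BT.node 6962 (BT.leaf cJ6962) (BT.leaf cJ6963)) (BT.leaf cJ6964)) (BT.node 6965 (BT.leaf cJ6965) (BT.leaf cJ6966))) (BT.node 6968 (BT.node 6967 (BT.leaf cJ6967) (BT.leaf cJ6968)) (BT.node 6969 (BT.leaf cJ6969) (BT.leaf cJ6970))))))) (BT.node 7009 (BT.node 6990 (BT.node 6980 (BT.node 6975 (BT.node 6973 (BT.node 6972 (BT.node 6971 (BT.leaf cJ6971) (BT.leaf cJ6972)) (BT.leaf cJ6973)) (BT.node 6974 (BT.leaf cJ6974) (BT.leaf cJ6975))) (BT.node 6978 (BT.node 6977 (BT.node 6976 (BT.leaf cJ6976) (BT.leaf cJ6977)) (BT.leaf cJ6978)) (BT.node 6979 (BT.leaf cJ6979) (BT.leaf cJ6980)))) (BT.node 6985 (BT.node 6983 (BT.node 6982 (BT.node 6981 (BT.leaf cJ6981) (BT.leaf cJ6982)) (BT.leaf cJ6983)) (BT.node 6984 (BT.leaf cJ6984) (BT.leaf cJ6985))) (BT.node 6988 (BT.node 6987 (BT.node 6986 (BT.leaf cJ6986) (BT.leaf cJ6987)) (BT.leaf cJ6988)) (BT.node 6989 (BT.leaf cJ6989) (BT.leaf cJ6990))))) (BT.node 7000 (BT.node 6995 (BT.node 6993 (BT.node 6992 (BT.node 6991 (BT.leaf cJ6991) (BT.leaf cJ6992)) (BT.leaf cJ6993)) (BT.node 6994 (BT.leaf cJ6994) (BT.leaf cJ6995))) (BT.node 6998 (BT.node 6997 (BT.node 6996 (BT.leaf cJ6996) (BT.leaf cJ6997)) (BT.leaf cJ6998)) (BT.node 6999 (BT.leaf cJ6999) (BT.leaf cJ7000)))) (BT.node 7005 (BT.node 7003 (BT.node 7002 (BT.node 7001 (BT.leaf cJ7001) (BT.leaf cJ7002)) (BT.leaf cJ7003)) (BT.node 7004 (BT.leaf cJ7004) (BT.leaf cJ7005))) (BT.node 7007 (BT.node 7006 (BT.leaf cJ7006) (BT.leaf cJ7007)) (BT.node 7008 (BT.leaf cJ7008) (BT.leaf cJ7009)))))) (BT.node 7029 (BT.node 7019 (BT.node 7014 (BT.node 7012 (BT.node 7011 (BT.node 7010 (BT.leaf cJ7010) (BT.leaf cJ7011)) (BT.leaf cJ7012)) (BT.node 7013 (BT.leaf cJ7013) (BT.leaf cJ7014))) (BT.node 7017 (BT.node 7016 (BT.node 7015 (BT.leaf cJ7015) (BT.leaf cJ7016)) (BT.leaf cJ7017)) (BT.node 7018 (BT.leaf cJ7018) (BT.leaf cJ7019)))) (BT.node 7024 (BT.node 7022 (BT.node 7021 (BT.node 7020 (BT.leaf cJ7020) (BT.leaf cJ7021)) (BT.leaf cJ7022)) (BT.node 7023 (BT.leaf cJ7023) (BT.leaf cJ7024))) (BT.node 7027 (BT.node 7026 (BT.node 7025 (BT.leaf cJ7025) (BT.leaf cJ7026)) (BT.leaf cJ7027)) (BT.node 7028 (BT.leaf cJ7028) (BT.leaf cJ7029))))) (BT.node 7039 (BT.node 7034 (BT.node 7032 (BT.node 7031 (BT.node 7030 (BT.leaf cJ7030) (BT.leaf cJ7031)) (BT.leaf cJ7032)) (BT.node 7033 (BT.leaf cJ7033) (BT.leaf cJ7034))) (BT.node 7037 (BT.node 7036 (BT.node 7035 (BT.leaf cJ7035) (BT.leaf cJ7036)) (BT.leaf cJ7037)) (BT.node 7038 (BT.leaf cJ7038) (BT.leaf cJ7039)))) (BT.node 7044 (BT.node 7042 (BT.node 7041 (BT.node 7040 (BT.leaf cJ7040) (BT.leaf cJ7041)) (BT.leaf cJ7042)) (BT.node 7043 (BT.leaf cJ7043) (BT.leaf cJ7044))) (BT.node 7046 (BT.node 7045 (BT.leaf cJ7045) (BT.leaf cJ7046)) (BT.node 7047 (BT.leaf cJ7047) (BT.leaf cJ7048)))))))) (BT.node 7126 (BT.node 7087 (BT.node 7068 (BT.node 7058 (BT.node 7053 (BT.node 7051 (BT.node 7050 (BT.node 7049 (BT.leaf cJ7049) (BT.leaf cJ7050)) (BT.leaf cJ7051)) (BT.node 7052 (BT.leaf cJ7052) (BT.leaf cJ7053))) (BT.node 7056 (BT.node 7055 (BT.node 7054 (BT.leaf cJ7054) (BT.leaf cJ7055)) (BT.leaf cJ7056)) (BT.node 7057 (BT.leaf cJ7057) (BT.leaf cJ7058)))) (BT.node 7063 (BT.node 7061 (BT.node 7060 (BT.node 7059 (BT.leaf cJ7059) (BT.leaf cJ7060)) (BT.leaf cJ7061)) (BT.node 7062 (BT.leaf cJ7062) (BT.leaf cJ7063))) (BT.node 7066 (BT.node 7065 (BT.node 7064 (BT.leaf cJ7064) (BT.leaf cJ7065)) (BT.leaf cJ7066)) (BT.node 7067 (BT.leaf cJ7067) (BT.leaf cJ7068))))) (BT.node 7078 (BT.node 7073 (BT.node 7071 (BT.node 7070 (BT.node 7069 (BT.leaf cJ7069) (BT.leaf cJ7070)) (BT.leaf cJ7071)) (BT.node 7072 (BT.leaf cJ7072) (BT.leaf cJ7073))) (BT.node 7076 (BT.node 7075 (BT.node 7074 (BT.leaf cJ7074) (BT.leaf cJ7075)) (BT.leaf cJ7076)) (BT.node 7077 (BT.leaf cJ7077) (BT.leaf cJ7078)))) (BT.node 7083 (BT.node 7081 (BT.node 7080 (BT.node 7079 (BT.leaf cJ7079) (BT.leaf cJ7080)) (BT.leaf cJ7081)) (BT.node 7082 (BT.leaf cJ7082) (BT.leaf cJ7083))) (BT.node 7085 (BT.node 7084 (BT.leaf cJ7084) (BT.leaf cJ7085)) (BT.node 7086 (BT.leaf cJ7086) (BT.leaf cJ7087)))))) (BT.node 7107 (BT.node 7097 (BT.node 7092 (BT.node 7090 (BT.node 7089 (BT.node 7088 (BT.leaf cJ7088) (BT.leaf cJ7089)) (BT.leaf cJ7090)) (BT.node 7091 (BT.leaf cJ7091) (BT.leaf cJ7092))) (BT.node 7095 (BT.node 7094 (BT.node 7093 (BT.leaf cJ7093) (BT.leaf cJ7094)) (BT.leaf cJ7095)) (BT.node 7096 (BT.leaf cJ7096) (BT.leaf cJ7097)))) (BT.node 7102 (BT.node 7100 (BT.node 7099 (BT.node 7098 (BT.leaf cJ7098) (BT.leaf cJ7099)) (BT.leaf cJ7100)) (BT.node 7101 (BT.leaf cJ7101) (BT.leaf cJ7102))) (BT.node 7105 (BT.node 7104 (BT.node 7103 (BT.leaf cJ7103) (BT.leaf cJ7104)) (BT.leaf cJ7105)) (BT.node 7106 (BT.leaf cJ7106) (BT.leaf cJ7107))))) (BT.node 7117 (BT.node 7112 (BT.node 7110 (BT.node 7109 (BT.node 7108 (BT.leaf cJ7108) (BT.leaf cJ7109)) (BT.leaf cJ7110)) (BT.node 7111 (BT.leaf cJ7111) (BT.leaf cJ7112))) (BT.node 7115 (BT.node 7114 (BT.node 7113 (BT.leaf cJ7113) (BT.leaf cJ7114)) (BT.leaf cJ7115)) (BT.node 7116 (BT.leaf cJ7116) (BT.leaf cJ7117)))) (BT.node 7122 (BT.node 7120 (BT.node 7119 (BT.node 7118 (BT.leaf cJ7118) (BT.leaf cJ7119)) (BT.leaf cJ7120)) (BT.node 7121 (BT.leaf cJ7121) (BT.leaf cJ7122))) (BT.node 7124 (BT.node 7123 (BT.leaf cJ7123) (BT.leaf cJ7124)) (BT.node 7125 (BT.leaf cJ7125) (BT.leaf cJ7126))))))) (BT.node 7165 (BT.node 7146 (BT.node 7136 (BT.node 7131 (BT.node 7129 (BT.node 7128 (BT.node 7127 (BT.leaf cJ7127) (BT.leaf cJ7128)) (BT.leaf cJ7129)) (BT.node 7130 (BT.leaf cJ7130) (BT.leaf cJ7131))) (BT.node 7134 (BT.node 7133 (BT.node 7132 (BT.leaf cJ7132) (BT.leaf cJ7133)) (BT.leaf cJ7134)) (BT.node 7135 (BT.leaf cJ7135) (BT.leaf cJ7136)))) (BT.node 7141 (BT.node 7139 (BT.node 7138 (BT.node 7137 (BT.leaf cJ7137) (BT.leaf cJ7138)) (BT.leaf cJ7139)) (BT.node 7140 (BT.leaf cJ7140) (BT.leaf cJ7141))) (BT.node 7144 (BT.node 7143 (BT.node 7142 (BT.leaf cJ7142) (BT.leaf cJ7143)) (BT.leaf cJ7144)) (BT.node 7145 (BT.leaf cJ7145) (BT.leaf cJ7146))))) (BT.node 7156 (BT.node 7151 (BT.node 7149 (BT.node 7148 (BT.node 7147 (BT.leaf cJ7147) (BT.leaf cJ7148)) (BT.leaf cJ7149)) (BT.node 7150 (BT.leaf cJ7150) (BT.leaf cJ7151))) (BT.node 7154 (BT.node 7153 (BT.node 7152 (BT.leaf cJ7152) (BT.leaf cJ7153)) (BT.leaf cJ7154)) (BT.node 7155 (BT.leaf cJ7155) (BT.leaf cJ7156)))) (BT.node 7161 (BT.node 7159 (BT.node 7158 (BT.node 7157 (BT.leaf cJ7157) (BT.leaf cJ7158)) (BT.leaf cJ7159)) (BT.node 7160 (BT.leaf cJ7160) (BT.leaf cJ7161))) (BT.node 7163 (BT.node 7162 (BT.leaf cJ7162) (BT.leaf cJ7163)) (BT.node 7164 (BT.leaf cJ7164) (BT.leaf cJ7165)))))) (BT.node 7185 (BT.node 7175 (BT.node 7170 (BT.node 7168 (BT.node 7167 (BT.node 7166 (BT.leaf cJ7166) (BT.leaf cJ7167)) (BT.leaf cJ7168)) (BT.node 7169 (BT.leaf cJ7169) (BT.leaf cJ7170))) (BT.node 7173 (BT.node 7172 (BT.node 7171 (BT.leaf cJ7171) (BT.leaf cJ7172)) (BT.leaf cJ7173)) (BT.node 7174 (BT.leaf cJ7174) (BT.leaf cJ7175)))) (BT.node 7180 (BT.node 7178 (BT.node 7177 (BT.node 7176 (BT.leaf cJ7176) (BT.leaf cJ7177)) (BT.leaf cJ7178)) (BT.node 7179 (BT.leaf cJ7179) (BT.leaf cJ7180))) (BT.node 7183 (BT.node 7182 (BT.node 7181 (BT.leaf cJ7181) (BT.leaf cJ7182)) (BT.leaf cJ7183)) (BT.node 7184 (BT.leaf cJ7184) (BT.leaf cJ7185))))) (BT.node 7195 (BT.node 7190 (BT.node 7188 (BT.node 7187 (BT.node 7186 (BT.leaf cJ7186) (BT.leaf cJ7187)) (BT.leaf cJ7188)) (BT.node 7189 (BT.leaf cJ7189) (BT.leaf cJ7190))) (BT.node 7193 (BT.node 7192 (BT.node 7191 (BT.leaf cJ7191) (BT.leaf cJ7192)) (BT.leaf cJ7193)) (BT.node 7194 (BT.leaf cJ7194) (BT.leaf cJ7195)))) (BT.node 7200 (BT.node 7198 (BT.node 7197 (BT.node 7196 (BT.leaf cJ7196) (BT.leaf cJ7197)) (BT.leaf cJ7198)) (BT.node 7199 (BT.leaf cJ7199) (BT.leaf cJ7200))) (BT.node 7202 (BT.node 7201 (BT.leaf cJ7201) (BT.leaf cJ7202)) (BT.node 7203 (BT.leaf cJ7203) (BT.leaf cJ7204))))))))) (BT.node 7361 (BT.node 7283 (BT.node 7244 (BT.node 7224 (BT.node 7214 (BT.node 7209 (BT.node 7207 (BT.node 7206 (BT.node 7205 (BT.leaf cJ7205) (BT.leaf cJ7206)) (BT.leaf cJ7207)) (BT.node 7208 (BT.leaf cJ7208) (BT.leaf cJ7209))) (BT.node 7212 (BT.node 7211 (BT.node 7210 (BT.leaf cJ7210) (BT.leaf cJ7211)) (BT.leaf cJ7212)) (BT.node 7213 (BT.leaf cJ7213) (BT.leaf cJ7214)))) (BT.node 7219 (BT.node 7217 (BT.node 7216 (BT.node 7215 (BT.leaf cJ7215) (BT.leaf cJ7216)) (BT.leaf cJ7217)) (BT.node 7218 (BT.leaf cJ7218) (BT.leaf cJ7219))) (BT.node 7222 (BT.node 7221 (BT.node 7220 (BT.leaf cJ7220) (BT.leaf cJ7221)) (BT.leaf cJ7222)) (BT.node 7223 (BT.leaf cJ7223) (BT.leaf cJ7224))))) (BT.node 7234 (BT.node 7229 (BT.node 7227 (BT.node 7226 (BT.node 7225 (BT.leaf cJ7225) (BT.leaf cJ7226)) (BT.leaf cJ7227)) (BT.node 7228 (BT.leaf cJ7228) (BT.leaf cJ7229))) (BT.node 7232 (BT.node 7231 (BT.node 7230 (BT.leaf cJ7230) (BT.leaf cJ7231)) (BT.leaf cJ7232)) (BT.node 7233 (BT.leaf cJ7233) (BT.leaf cJ7234)))) (BT.node 7239 (BT.node 7237 (BT.node 7236 (BT.node 7235 (BT.leaf cJ7235) (BT.leaf cJ7236)) (BT.leaf cJ7237)) (BT.node 7238 (BT.leaf cJ7238) (BT.leaf cJ7239))) (BT.node 7242 (BT.node 7241 (BT.node 7240 (BT.leaf cJ7240) (BT.leaf cJ7241)) (BT.leaf cJ7242)) (BT.node 7243 (BT.leaf cJ7243) (BT.leaf cJ7244)))))) (BT.node 7264 (BT.node 7254 (BT.node 7249 (BT.node 7247 (BT.node 7246 (BT.node 7245 (BT.leaf cJ7245) (BT.leaf cJ7246)) (BT.leaf cJ7247)) (BT.node 7248 (BT.leaf cJ7248) (BT.leaf cJ7249))) (BT.node 7252 (BT.node 7251 (BT.node 7250 (BT.leaf cJ7250) (BT.leaf cJ7251)) (BT.leaf cJ7252)) (BT.node 7253 (BT.leaf cJ7253) (BT.leaf cJ7254)))) (BT.node 7259 (BT.node 7257 (BT.node 7256 (BT.node 7255 (BT.leaf cJ7255) (BT.leaf cJ7256)) (BT.leaf cJ7257)) (BT.node 7258 (BT.leaf cJ7258) (BT.leaf cJ7259))) (BT.node 7262 (BT.node 7261 (BT.node 7260 (BT.leaf cJ7260) (BT.leaf cJ7261)) (BT.leaf cJ7262)) (BT.node 7263 (BT.leaf cJ7263) (BT.leaf cJ7264))))) (BT.node 7274 (BT.node 7269 (BT.node 7267 (BT.node 7266 (BT.node 7265 (BT.leaf cJ7265) (BT.leaf cJ7266)) (BT.leaf cJ7267)) (BT.node 7268 (BT.leaf cJ7268) (BT.leaf cJ7269))) (BT.node 7272 (BT.node 7271 (BT.node 7270 (BT.leaf cJ7270) (BT.leaf cJ7271)) (BT.leaf cJ7272)) (BT.node 7273 (BT.leaf cJ7273) (BT.leaf cJ7274)))) (BT.node 7279 (BT.node 7277 (BT.node 7276 (BT.node 7275 (BT.leaf cJ7275) (BT.leaf cJ7276)) (BT.leaf cJ7277)) (BT.node 7278 (BT.leaf cJ7278) (BT.leaf cJ7279))) (BT.node 7281 (BT.node 7280 (BT.leaf cJ7280) (BT.leaf cJ7281)) (BT.node 7282 (BT.leaf cJ7282) (BT.leaf cJ7283))))))) (BT.node 7322 (BT.node 7303 (BT.node 7293 (BT.node 7288 (BT.node 7286 (BT.node 7285 (BT.node 7284 (BT.leaf cJ7284) (BT.leaf cJ7285)) (BT.leaf cJ7286)) (BT.node 7287 (BT.leaf cJ7287) (BT.leaf cJ7288))) (BT.node 7291 (BT.node 7290 (BT.node 7289 (BT.leaf cJ7289) (BT.leaf cJ7290)) (BT.leaf cJ7291)) (BT.node 7292 (BT.leaf cJ7292) (BT.leaf cJ7293)))) (BT.node 7298 (BT.node 7296 (BT.node 7295 (BT.node 7294 (BT.leaf cJ7294) (BT.leaf cJ7295)) (BT.leaf cJ7296)) (BT.node 7297 (BT.leaf cJ7297) (BT.leaf cJ7298))) (BT.node 7301 (BT.node 7300 (BT.node 7299 (BT.leaf cJ7299) (BT.leaf cJ7300)) (BT.leaf cJ7301)) (BT.node 7302 (BT.leaf cJ7302) (BT.leaf cJ7303))))) (BT.node 7313 (BT.node 7308 (BT.node 7306 (BT.node 7305 (BT.node 7304 (BT.leaf cJ7304) (BT.leaf cJ7305)) (BT.leaf cJ7306)) (BT.node 7307 (BT.leaf cJ7307) (BT.leaf cJ7308))) (BT.node 7311 (BT.node 7310 (BT.node 7309 (BT.leaf cJ7309) (BT.leaf cJ7310)) (BT.leaf cJ7311)) (BT.node 7312 (BT.leaf cJ7312) (BT.leaf cJ7313)))) (BT.node 7318 (BT.node 7316 (BT.node 7315 (BT.node 7314 (BT.leaf cJ7314) (BT.leaf cJ7315)) (BT.leaf cJ7316)) (BT.node 7317 (BT.leaf cJ7317) (BT.leaf cJ7318))) (BT.node 7320 (BT.node 7319 (BT.leaf cJ7319) (BT.leaf cJ7320)) (BT.node 7321 (BT.leaf cJ7321) (BT.leaf cJ7322)))))) (BT.node 7342 (BT.node 7332 (BT.node 7327 (BT.node 7325 (BT.node 7324 (BT.node 7323 (BT.leaf cJ7323) (BT.leaf cJ7324)) (BT.leaf cJ7325)) (BT.node 7326 (BT.leaf cJ7326) (BT.leaf cJ7327))) (BT.node 7330 (BT.node 7329 (BT.node 7328 (BT.leaf cJ7328) (BT.leaf cJ7329)) (BT.leaf cJ7330)) (BT.node 7331 (BT.leaf cJ7331) (BT.leaf cJ7332)))) (BT.node 7337 (BT.node 7335 (BT.node 7334 (BT.node 7333 (BT.leaf cJ7333) (BT.leaf cJ7334)) (BT.leaf cJ7335)) (BT.node 7336 (BT.leaf cJ7336) (BT.leaf cJ7337))) (BT.node 7340 (BT.node 7339 (BT.node 7338 (BT.leaf cJ7338) (BT.leaf cJ7339)) (BT.leaf cJ7340)) (BT.node 7341 (BT.leaf cJ7341) (BT.leaf cJ7342))))) (BT.node 7352 (BT.node 7347 (BT.node 7345 (BT.node 7344 (BT.node 7343 (BT.leaf cJ7343) (BT.leaf cJ7344)) (BT.leaf cJ7345)) (BT.node 7346 (BT.leaf cJ7346) (BT.leaf cJ7347))) (BT.node 7350 (BT.node 7349 (BT.node 7348 (BT.leaf cJ7348) (BT.leaf cJ7349)) (BT.leaf cJ7350)) (BT.node 7351 (BT.leaf cJ7351) (BT.leaf cJ7352)))) (BT.node 7357 (BT.node 7355 (BT.node 7354 (BT.node 7353 (BT.leaf cJ7353) (BT.leaf cJ7354)) (BT.leaf cJ7355)) (BT.node 7356 (BT.leaf cJ7356) (BT.leaf cJ7357))) (BT.node 7359 (BT.node 7358 (BT.leaf cJ7358) (BT.leaf cJ7359)) (BT.node 7360 (BT.leaf cJ7360) (BT.leaf cJ7361)))))))) (BT.node 7439 (BT.node 7400 (BT.node 7381 (BT.node 7371 (BT.node 7366 (BT.node 7364 (BT.node 7363 (BT.node 7362 (BT.leaf cJ7362) (BT.leaf cJ7363)) (BT.leaf cJ7364)) (BT.node 7365 (BT.leaf cJ7365) (BT.leaf cJ7366))) (BT.node 7369 (BT.node 7368 (BT.node 7367 (BT.leaf cJ7367) (BT.leaf cJ7368)) (BT.leaf cJ7369)) (BT.node 7370 (BT.leaf cJ7370) (BT.leaf cJ7371)))) (BT.node 7376 (BT.node 7374 (BT.node 7373 (BT.node 7372 (BT.leaf cJ7372) (BT.leaf cJ7373)) (BT.leaf cJ7374)) (BT.node 7375 (BT.leaf cJ7375) (BT.leaf cJ7376))) (BT.node 7379 (BT.node 7378 (BT.node 7377 (BT.leaf cJ7377) (BT.leaf cJ7378)) (BT.leaf cJ7379)) (BT.node 7380 (BT.leaf cJ7380) (BT.leaf cJ7381))))) (BT.node 7391 (BT.node 7386 (BT.node 7384 (BT.node 7383 (BT.node 7382 (BT.leaf cJ7382) (BT.leaf cJ7383)) (BT.leaf cJ7384)) (BT.node 7385 (BT.leaf cJ7385) (BT.leaf cJ7386))) (BT.node 7389 (BT.node 7388 (BT.node 7387 (BT.leaf cJ7387) (BT.leaf cJ7388)) (BT.leaf cJ7389)) (BT.node 7390 (BT.leaf cJ7390) (BT.leaf cJ7391)))) (BT.node 7396 (BT.node 7394 (BT.node 7393 (BT.node 7392 (BT.leaf cJ7392) (BT.leaf cJ7393)) (BT.leaf cJ7394)) (BT.node 7395 (BT.leaf cJ7395) (BT.leaf cJ7396))) (BT.node 7398 (BT.node 7397 (BT.leaf cJ7397) (BT.leaf cJ7398)) (BT.node 7399 (BT.leaf cJ7399) (BT.leaf cJ7400)))))) (BT.node 7420 (BT.node 7410 (BT.node 7405 (BT.node 7403 (BT.node 7402 (BT.node 7401 (BT.leaf cJ7401) (BT.leaf cJ7402)) (BT.leaf cJ7403)) (BT.node 7404 (BT.leaf cJ7404) (BT.leaf cJ7405))) (BT.node 7408 (BT.node 7407 (BT.node 7406 (BT.leaf cJ7406) (BT.leaf cJ7407)) (BT.leaf cJ7408)) (BT.node 7409 (BT.leaf cJ7409) (BT.leaf cJ7410)))) (BT.node 7415 (BT.node 7413 (BT.node 7412 (BT.node 7411 (BT.leaf cJ7411) (BT.leaf cJ7412)) (BT.leaf cJ7413)) (BT.node 7414 (BT.leaf cJ7414) (BT.leaf cJ7415))) (BT.node 7418 (BT.node 7417 (BT.node 7416 (BT.leaf cJ7416) (BT.leaf cJ7417)) (BT.leaf cJ7418)) (BT.node 7419 (BT.leaf cJ7419) (BT.leaf cJ7420))))) (BT.node 7430 (BT.node 7425 (BT.node 7423 (BT.node 7422 (BT.node 7421 (BT.leaf cJ7421) (BT.leaf cJ7422)) (BT.leaf cJ7423)) (BT.node 7424 (BT.leaf cJ7424) (BT.leaf cJ7425))) (BT.node 7428 (BT.node 7427 (BT.node 7426 (BT.leaf cJ7426) (BT.leaf cJ7427)) (BT.leaf cJ7428)) (BT.node 7429 (BT.leaf cJ7429) (BT.leaf cJ7430)))) (BT.node 7435 (BT.node 7433 (BT.node 7432 (BT.node 7431 (BT.leaf cJ7431) (BT.leaf cJ7432)) (BT.leaf cJ7433)) (BT.node 7434 (BT.leaf cJ7434) (BT.leaf cJ7435))) (BT.node 7437 (BT.node 7436 (BT.leaf cJ7436) (BT.leaf cJ7437)) (BT.node 7438 (BT.leaf cJ7438) (BT.leaf cJ7439))))))) (BT.node 7478 (BT.node 7459 (BT.node 7449 (BT.node 7444 (BT.node 7442 (BT.node 7441 (BT.node 7440 (BT.leaf cJ7440) (BT.leaf cJ7441)) (BT.leaf cJ7442)) (BT.node 7443 (BT.leaf cJ7443) (BT.leaf cJ7444))) (BT.node 7447 (BT.node 7446 (BT.node 7445 (BT.leaf cJ7445) (BT.leaf cJ7446)) (BT.leaf cJ7447)) (BT.node 7448 (BT.leaf cJ7448) (BT.leaf cJ7449)))) (BT.node 7454 (BT.node 7452 (BT.node 7451 (BT.node 7450 (BT.leaf cJ7450) (BT.leaf cJ7451)) (BT.leaf cJ7452)) (BT.node 7453 (BT.leaf cJ7453) (BT.leaf cJ7454))) (BT.node 7457 (BT.node 7456 (BT.node 7455 (BT.leaf cJ7455) (BT.leaf cJ7456)) (BT.leaf cJ7457)) (BT.node 7458 (BT.leaf cJ7458) (BT.leaf cJ7459))))) (BT.node 7469 (BT.node 7464 (BT.node 7462 (BT.node 7461 (BT.node 7460 (BT.leaf cJ7460) (BT.leaf cJ7461)) (BT.leaf cJ7462)) (BT.node 7463 (BT.leaf cJ7463) (BT.leaf cJ7464))) (BT.node 7467 (BT.node 7466 (BT.node 7465 (BT.leaf cJ7465) (BT.leaf cJ7466)) (BT.leaf cJ7467)) (BT.node 7468 (BT.leaf cJ7468) (BT.leaf cJ7469)))) (BT.node 7474 (BT.node 7472 (BT.node 7471 (BT.node 7470 (BT.leaf cJ7470) (BT.leaf cJ7471)) (BT.leaf cJ7472)) (BT.node 7473 (BT.leaf cJ7473) (BT.leaf cJ7474))) (BT.node 7476 (BT.node 7475 (BT.leaf cJ7475) (BT.leaf cJ7476)) (BT.node 7477 (BT.leaf cJ7477) (BT.leaf cJ7478)))))) (BT.node 7498 (BT.node 7488 (BT.node 7483 (BT.node 7481 (BT.node 7480 (BT.node 7479 (BT.leaf cJ7479) (BT.leaf cJ7480)) (BT.leaf cJ7481)) (BT.node 7482 (BT.leaf cJ7482) (BT.leaf cJ7483))) (BT.node 7486 (BT.node 7485 (BT.node 7484 (BT.leaf cJ7484) (BT.leaf cJ7485)) (BT.leaf cJ7486)) (BT.node 7487 (BT.leaf cJ7487) (BT.leaf cJ7488)))) (BT.node 7493 (BT.node 7491 (BT.node 7490 (BT.node 7489 (BT.leaf cJ7489) (BT.leaf cJ7490)) (BT.leaf cJ7491)) (BT.node 7492 (BT.leaf cJ7492) (BT.leaf cJ7493))) (BT.node 7496 (BT.node 7495 (BT.node 7494 (BT.leaf cJ7494) (BT.leaf cJ7495)) (BT.leaf cJ7496)) (BT.node 7497 (BT.leaf cJ7497) (BT.leaf cJ7498))))) (BT.node 7508 (BT.node 7503 (BT.node 7501 (BT.node 7500 (BT.node 7499 (BT.leaf cJ7499) (BT.leaf cJ7500)) (BT.leaf cJ7501)) (BT.node 7502 (BT.leaf cJ7502) (BT.leaf cJ7503))) (BT.node 7506 (BT.node 7505 (BT.node 7504 (BT.leaf cJ7504) (BT.leaf cJ7505)) (BT.leaf cJ7506)) (BT.node 7507 (BT.leaf cJ7507) (BT.leaf cJ7508)))) (BT.node 7513 (BT.node 7511 (BT.node 7510 (BT.node 7509 (BT.leaf cJ7509) (BT.leaf cJ7510)) (BT.leaf cJ7511)) (BT.node 7512 (BT.leaf cJ7512) (BT.leaf cJ7513))) (BT.node 7515 (BT.node 7514 (BT.leaf cJ7514) (BT.leaf cJ7515)) (BT.node 7516 (BT.leaf cJ7516) (BT.leaf cJ7517)))))))))))) (BT.node 8770 (BT.node 8144 (BT.node 7831 (BT.node 7674 (BT.node 7596 (BT.node 7557 (BT.node 7537 (BT.node 7527 (BT.node 7522 (BT.node 7520 (BT.node 7519 (BT.node 7518 (BT.leaf cJ7518) (BT.leaf cJ7519)) (BT.leaf cJ7520)) (BT.node 7521 (BT.leaf cJ7521) (BT.leaf cJ7522))) (BT.node 7525 (BT.node 7524 (BT.node 7523 (BT.leaf cJ7523) (BT.leaf cJ7524)) (BT.leaf cJ7525)) (BT.node 7526 (BT.leaf cJ7526) (BT.leaf cJ7527)))) (BT.node 7532 (BT.node 7530 (BT.node 7529 (BT.node 7528 (BT.leaf cJ7528) (BT.leaf cJ7529)) (BT.leaf cJ7530)) (BT.node 7531 (BT.leaf cJ7531) (BT.leaf cJ7532))) (BT.node 7535 (BT.node 7534 (BT.node 7533 (BT.leaf cJ7533) (BT.leaf cJ7534)) (BT.leaf cJ7535)) (BT.node 7536 (BT.leaf cJ7536) (BT.leaf cJ7537))))) (BT.node 7547 (BT.node 7542 (BT.node 7540 (BT.node 7539 (BT.node 7538 (BT.leaf cJ7538) (BT.leaf cJ7539)) (BT.leaf cJ7540)) (BT.node 7541 (BT.leaf cJ7541) (BT.leaf cJ7542))) (BT.node 7545 (BT.node 7544 (BT.node 7543 (BT.leaf cJ7543) (BT.leaf cJ7544)) (BT.leaf cJ7545)) (BT.node 7546 (BT.leaf cJ7546) (BT.leaf cJ7547)))) (BT.node 7552 (BT.node 7550 (BT.node 7549 (BT.node 7548 (BT.leaf cJ7548) (BT.leaf cJ7549)) (BT.leaf cJ7550)) (BT.node 7551 (BT.leaf cJ7551) (BT.leaf cJ7552))) (BT.node 7555 (BT.node 7554 (BT.node 7553 (BT.leaf cJ7553) (BT.leaf cJ7554)) (BT.leaf cJ7555)) (BT.node 7556 (BT.leaf cJ7556) (BT.leaf cJ7557)))))) (BT.node 7577 (BT.node 7567 (BT.node 7562 (BT.node 7560 (BT.node 7559 (BT.node 7558 (BT.leaf cJ7558) (BT.leaf cJ7559)) (BT.leaf cJ7560)) (BT.node 7561 (BT.leaf cJ7561) (BT.leaf cJ7562))) (BT.node 7565 (BT.node 7564 (BT.node 7563 (BT.leaf cJ7563) (BT.leaf cJ7564)) (BT.leaf cJ7565)) (BT.node 7566 (BT.leaf cJ7566) (BT.leaf cJ7567)))) (BT.node 7572 (BT.node 7570 (BT.node 7569 (BT.node 7568 (BT.leaf cJ7568) (BT.leaf cJ7569)) (BT.leaf cJ7570)) (BT.node 7571 (BT.leaf cJ7571) (BT.leaf cJ7572))) (BT.node 7575 (BT.node 7574 (BT.node 7573 (BT.leaf cJ7573) (BT.leaf cJ7574)) (BT.leaf cJ7575)) (BT.node 7576 (BT.leaf cJ7576) (BT.leaf cJ7577))))) (BT.node 7587 (BT.node 7582 (BT.node 7580 (BT.node 7579 (BT.node 7578 (BT.leaf cJ7578) (BT.leaf cJ7579)) (BT.leaf cJ7580)) (BT.node 7581 (BT.leaf cJ7581) (BT.leaf cJ7582))) (BT.node 7585 (BT.node 7584 (BT.node 7583 (BT.leaf cJ7583) (BT.leaf cJ7584)) (BT.leaf cJ7585)) (BT.node 7586 (BT.leaf cJ7586) (BT.leaf cJ7587)))) (BT.node 7592 (BT.node 7590 (BT.node 7589 (BT.node 7588 (BT.leaf cJ7588) (BT.leaf cJ7589)) (BT.leaf cJ7590)) (BT.node 7591 (BT.leaf cJ7591) (BT.leaf cJ7592))) (BT.node 7594 (BT.node 7593 (BT.leaf cJ7593) (BT.leaf cJ7594)) (BT.node 7595 (BT.leaf cJ7595) (BT.leaf cJ7596))))))) (BT.node 7635 (BT.node 7616 (BT.node 7606 (BT.node 7601 (BT.node 7599 (BT.node 7598 (BT.node 7597 (BT.leaf cJ7597) (BT.leaf cJ7598)) (BT.leaf cJ7599)) (BT.node 7600 (BT.leaf cJ7600) (BT.leaf cJ7601))) (BT.node 7604 (BT.node 7603 (BT.node 7602 (BT.leaf cJ7602) (BT.leaf cJ7603)) (BT.leaf cJ7604)) (BT.node 7605 (BT.leaf cJ7605) (BT.leaf cJ7606)))) (BT.node 7611 (BT.node 7609 (BT.node 7608 (BT.node 7607 (BT.leaf cJ7607) (BT.leaf cJ7608)) (BT.leaf cJ7609)) (BT.node 7610 (BT.leaf cJ7610) (BT.leaf cJ7611))) (BT.node 7614 (BT.node 7613 (BT.node 7612 (BT.leaf cJ7612) (BT.leaf cJ7613)) (BT.leaf cJ7614)) (BT.node 7615 (BT.leaf cJ7615) (BT.leaf cJ7616))))) (BT.node 7626 (BT.node 7621 (BT.node 7619 (BT.node 7618 (BT.node 7617 (BT.leaf cJ7617) (BT.leaf cJ7618)) (BT.leaf cJ7619)) (BT.node 7620 (BT.leaf cJ7620) (BT.leaf cJ7621))) (BT.node 7624 (BT.node 7623 (BT.node 7622 (BT.leaf cJ7622) (BT.leaf cJ7623)) (BT.leaf cJ7624)) (BT.node 7625 (BT.leaf cJ7625) (BT.leaf cJ7626)))) (BT.node 7631 (BT.node 7629 (BT.node 7628 (BT.node 7627 (BT.leaf cJ7627) (BT.leaf cJ7628)) (BT.leaf cJ7629)) (BT.node 7630 (BT.leaf cJ7630) (BT.leaf cJ7631))) (BT.node 7633 (BT.node 7632 (BT.leaf cJ7632) (BT.leaf cJ7633)) (BT.node 7634 (BT.leaf cJ7634) (BT.leaf cJ7635)))))) (BT.node 7655 (BT.node 7645 (BT.node 7640 (BT.node 7638 (BT.node 7637 (BT.node 7636 (BT.leaf cJ7636) (BT.leaf cJ7637)) (BT.leaf cJ7638)) (BT.node 7639 (BT.leaf cJ7639) (BT.leaf cJ7640))) (BT.node 7643 (BT.node 7642 (BT.node 7641 (BT.leaf cJ7641) (BT.leaf cJ7642)) (BT.leaf cJ7643)) (BT.node 7644 (BT.leaf cJ7644) (BT.leaf cJ7645)))) (BT.node 7650 (BT.node 7648 (BT.node 7647 (BT.node 7646 (BT.leaf cJ7646) (BT.leaf cJ7647)) (BT.leaf cJ7648)) (BT.node 7649 (BT.leaf cJ7649) (BT.leaf cJ7650))) (BT.node 7653 (BT.node 7652 (BT.node 7651 (BT.leaf cJ7651) (BT.leaf cJ7652)) (BT.leaf cJ7653)) (BT.node 7654 (BT.leaf cJ7654) (BT.leaf cJ7655))))) (BT.node 7665 (BT.node 7660 (BT.node 7658 (BT.node 7657 (BT.node 7656 (BT.leaf cJ7656) (BT.leaf cJ7657)) (BT.leaf cJ7658)) (BT.node 7659 (BT.leaf cJ7659) (BT.leaf cJ7660))) (BT.node 7663 (BT.node 7662 (BT.node 7661 (BT.leaf cJ7661) (BT.leaf cJ7662)) (BT.leaf cJ7663)) (BT.node 7664 (BT.leaf cJ7664) (BT.leaf cJ7665)))) (BT.node 7670 (BT.node 7668 (BT.node 7667 (BT.node 7666 (BT.leaf cJ7666) (BT.leaf cJ7667)) (BT.leaf cJ7668)) (BT.node 7669 (BT.leaf cJ7669) (BT.leaf cJ7670))) (BT.node 7672 (BT.node 7671 (BT.leaf cJ7671) (BT.leaf cJ7672)) (BT.node 7673 (BT.leaf cJ7673) (BT.leaf cJ7674)))))))) (BT.node 7753 (BT.node 7714 (BT.node 7694 (BT.node 7684 (BT.node 7679 (BT.node 7677 (BT.node 7676 (BT.node 7675 (BT.leaf cJ7675) (BT.leaf cJ7676)) (BT.leaf cJ7677)) (BT.node 7678 (BT.leaf cJ7678) (BT.leaf cJ7679))) (BT.node 7682 (BT.node 7681 (BT.node 7680 (BT.leaf cJ7680) (BT.leaf cJ7681)) (BT.leaf cJ7682)) (BT.node 7683 (BT.leaf cJ7683) (BT.leaf cJ7684)))) (BT.node 7689 (BT.node 7687 (BT.node 7686 (BT.node 7685 (BT.leaf cJ7685) (BT.leaf cJ7686)) (BT.leaf cJ7687)) (BT.node 7688 (BT.leaf cJ7688) (BT.leaf cJ7689))) (BT.node 7692 (BT.node 7691 (BT.node 7690 (BT.leaf cJ7690) (BT.leaf cJ7691)) (BT.leaf cJ7692)) (BT.node 7693 (BT.leaf cJ7693) (BT.leaf cJ7694))))) (BT.node 7704 (BT.node 7699 (BT.node 7697 (BT.node 7696 (BT.node 7695 (BT.leaf cJ7695) (BT.leaf cJ7696)) (BT.leaf cJ7697)) (BT.node 7698 (BT.leaf cJ7698) (BT.leaf cJ7699))) (BT.node 7702 (BT.node 7701 (BT.node 7700 (BT.leaf cJ7700) (BT.leaf cJ7701)) (BT.leaf cJ7702)) (BT.node 7703 (BT.leaf cJ7703) (BT.leaf cJ7704)))) (BT.node 7709 (BT.node 7707 (BT.node 7706 (BT.node 7705 (BT.leaf cJ7705) (BT.leaf cJ7706)) (BT.leaf cJ7707)) (BT.node 7708 (BT.leaf cJ7708) (BT.leaf cJ7709))) (BT.node 7712 (BT.node 7711 (BT.node 7710 (BT.leaf cJ7710) (BT.leaf cJ7711)) (BT.leaf cJ7712)) (BT.node 7713 (BT.leaf cJ7713) (BT.leaf cJ7714)))))) (BT.node 7734 (BT.node 7724 (BT.node 7719 (BT.node 7717 (BT.node 7716 (BT.node 7715 (BT.leaf cJ7715) (BT.leaf cJ7716)) (BT.leaf cJ7717)) (BT.node 7718 (BT.leaf cJ7718) (BT.leaf cJ7719))) (BT.node 7722 (BT.node 7721 (BT.node 7720 (BT.leaf cJ7720) (BT.leaf cJ7721)) (BT.leaf cJ7722)) (BT.node 7723 (BT.leaf cJ7723) (BT.leaf cJ7724)))) (BT.node 7729 (BT.node 7727 (BT.node 7726 (BT.node 7725 (BT.leaf cJ7725) (BT.leaf cJ7726)) (BT.leaf cJ7727)) (BT.node 7728 (BT.leaf cJ7728) (BT.leaf cJ7729))) (BT.node 7732 (BT.node 7731 (BT.node 7730 (BT.leaf cJ7730) (BT.leaf cJ7731)) (BT.leaf cJ7732)) (BT.node 7733 (BT.leaf cJ7733) (BT.leaf cJ7734))))) (BT.node 7744 (BT.node 7739 (BT.node 7737 (BT.node 7736 (BT.node 7735 (BT.leaf cJ7735) (BT.leaf cJ7736)) (BT.leaf cJ7737)) (BT.node 7738 (BT.leaf cJ7738) (BT.leaf cJ7739))) (BT.node 7742 (BT.node 7741 (BT.node 7740 (BT.leaf cJ7740) (BT.leaf cJ7741)) (BT.leaf cJ7742)) (BT.node 7743 (BT.leaf cJ7743) (BT.leaf cJ7744)))) (BT.node 7749 (BT.node 7747 (BT.node 7746 (BT.node 7745 (BT.leaf cJ7745) (BT.leaf cJ7746)) (BT.leaf cJ7747)) (BT.node 7748 (BT.leaf cJ7748) (BT.leaf cJ7749))) (BT.node 7751 (BT.node 7750 (BT.leaf cJ7750) (BT.leaf cJ7751)) (BT.node 7752 (BT.leaf cJ7752) (BT.leaf cJ7753))))))) (BT.node 7792 (BT.node 7773 (BT.node 7763 (BT.node 7758 (BT.node 7756 (BT.node 7755 (BT.node 7754 (BT.leaf cJ7754) (BT.leaf cJ7755)) (BT.leaf cJ7756)) (BT.node 7757 (BT.leaf cJ7757) (BT.leaf cJ7758))) (BT.node 7761 (BT.node 7760 (BT.node 7759 (BT.leaf cJ7759) (BT.leaf cJ7760)) (BT.leaf cJ7761)) (BT.node 7762 (BT.leaf cJ7762) (BT.leaf cJ7763)))) (BT.node 7768 (BT.node 7766 (BT.node 7765 (BT.node 7764 (BT.leaf cJ7764) (BT.leaf cJ7765)) (BT.leaf cJ7766)) (BT.node 7767 (BT.leaf cJ7767) (BT.leaf cJ7768))) (BT.node 7771 (BT.node 7770 (BT.node 7769 (BT.leaf cJ7769) (BT.leaf cJ7770)) (BT.leaf cJ7771)) (BT.node 7772 (BT.leaf cJ7772) (BT.leaf cJ7773))))) (BT.node 7783 (BT.node 7778 (BT.node 7776 (BT.node 7775 (BT.node 7774 (BT.leaf cJ7774) (BT.leaf cJ7775)) (BT.leaf cJ7776)) (BT.node 7777 (BT.leaf cJ7777) (BT.leaf cJ7778))) (BT.node 7781 (BT.node 7780 (BT.node 7779 (BT.leaf cJ7779) (BT.leaf cJ7780)) (BT.leaf cJ7781)) (BT.node 7782 (BT.leaf cJ7782) (BT.leaf cJ7783)))) (BT.node 7788 (BT.node 7786 (BT.node 7785 (BT.node 7784 (BT.leaf cJ7784) (BT.leaf cJ7785)) (BT.leaf cJ7786)) (BT.node 7787 (BT.leaf cJ7787) (BT.leaf cJ7788))) (BT.node 7790 (BT.node 7789 (BT.leaf cJ7789) (BT.leaf cJ7790)) (BT.node 7791 (BT.leaf cJ7791) (BT.leaf cJ7792)))))) (BT.node 7812 (BT.node 7802 (BT.node 7797 (BT.node 7795 (BT.node 7794 (BT.node 7793 (BT.leaf cJ7793) (BT.leaf cJ7794)) (BT.leaf cJ7795)) (BT.node 7796 (BT.leaf cJ7796) (BT.leaf cJ7797))) (BT.node 7800 (BT.node 7799 (BT.node 7798 (BT.leaf cJ7798) (BT.leaf cJ7799)) (BT.leaf cJ7800)) (BT.node 7801 (BT.leaf cJ7801) (BT.leaf cJ7802)))) (BT.node 7807 (BT.node 7805 (BT.node 7804 (BT.node 7803 (BT.leaf cJ7803) (BT.leaf cJ7804)) (BT.leaf cJ7805)) (BT.node 7806 (BT.leaf cJ7806) (BT.leaf cJ7807))) (BT.node 7810 (BT.node 7809 (BT.node 7808 (BT.leaf cJ7808) (BT.leaf cJ7809)) (BT.leaf cJ7810)) (BT.node 7811 (BT.leaf cJ7811) (BT.leaf cJ7812))))) (BT.node 7822 (BT.node 7817 (BT.node 7815 (BT.node 7814 (BT.node 7813 (BT.leaf cJ7813) (BT.leaf cJ7814)) (BT.leaf cJ7815)) (BT.node 7816 (BT.leaf cJ7816) (BT.leaf cJ7817))) (BT.node 7820 (BT.node 7819 (BT.node 7818 (BT.leaf cJ7818) (BT.leaf cJ7819)) (BT.leaf cJ7820)) (BT.node 7821 (BT.leaf cJ7821) (BT.leaf cJ7822)))) (BT.node 7827 (BT.node 7825 (BT.node 7824 (BT.node 7823 (BT.leaf cJ7823) (BT.leaf cJ7824)) (BT.leaf cJ7825)) (BT.node 7826 (BT.leaf cJ7826) (BT.leaf cJ7827))) (BT.node 7829 (BT.node 7828 (BT.leaf cJ7828) (BT.leaf cJ7829)) (BT.node 7830 (BT.leaf cJ7830) (BT.leaf cJ7831))))))))) (BT.node 7988 (BT.node 7910 (BT.node 7871 (BT.node 7851 (BT.node 7841 (BT.node 7836 (BT.node 7834 (BT.node 7833 (BT.node 7832 (BT.leaf cJ7832) (BT.leaf cJ7833)) (BT.leaf cJ7834)) (BT.node 7835 (BT.leaf cJ7835) (BT.leaf cJ7836))) (BT.node 7839 (BT.node 7838 (BT.node 7837 (BT.leaf cJ7837) (BT.leaf cJ7838)) (BT.leaf cJ7839)) (BT.node 7840 (BT.leaf cJ7840) (BT.leaf cJ7841)))) (BT.node 7846 (BT.node 7844 (BT.node 7843 (BT.node 7842 (BT.leaf cJ7842) (BT.leaf cJ7843)) (BT.leaf cJ7844)) (BT.node 7845 (BT.leaf cJ7845) (BT.leaf cJ7846))) (BT.node 7849 (BT.node 7848 (BT.node 7847 (BT.leaf cJ7847) (BT.leaf cJ7848)) (BT.leaf cJ7849)) (BT.node 7850 (BT.leaf cJ7850) (BT.leaf cJ7851))))) (BT.node 7861 (BT.node 7856 (BT.node 7854 (BT.node 7853 (BT.node 7852 (BT.leaf cJ7852) (BT.leaf cJ7853)) (BT.leaf cJ7854)) (BT.node 7855 (BT.leaf cJ7855) (BT.leaf cJ7856))) (BT.node 7859 (BT.node 7858 (BT.node 7857 (BT.leaf cJ7857) (BT.leaf cJ7858)) (BT.leaf cJ7859)) (BT.node 7860 (BT.leaf cJ7860) (BT.leaf cJ7861)))) (BT.node 7866 (BT.node 7864 (BT.node 7863 (BT.node 7862 (BT.leaf cJ7862) (BT.leaf cJ7863)) (BT.leaf cJ7864)) (BT.node 7865 (BT.leaf cJ7865) (BT.leaf cJ7866))) (BT.node 7869 (BT.node 7868 (BT.node 7867 (BT.leaf cJ7867) (BT.leaf cJ7868)) (BT.leaf cJ7869)) (BT.node 7870 (BT.leaf cJ7870) (BT.leaf cJ7871)))))) (BT.node 7891 (BT.node 7881 (BT.node 7876 (BT.node 7874 (BT.node 7873 (BT.node 7872 (BT.leaf cJ7872) (BT.leaf cJ7873)) (BT.leaf cJ7874)) (BT.node 7875 (BT.leaf cJ7875) (BT.leaf cJ7876))) (BT.node 7879 (BT.node 7878 (BT.node 7877 (BT.leaf cJ7877) (BT.leaf cJ7878)) (BT.leaf cJ7879)) (BT.node 7880 (BT.leaf cJ7880) (BT.leaf cJ7881)))) (BT.node 7886 (BT.node 7884 (BT.node 7883 (BT.node 7882 (BT.leaf cJ7882) (BT.leaf cJ7883)) (BT.leaf cJ7884)) (BT.node 7885 (BT.leaf cJ7885) (BT.leaf cJ7886))) (BT.node 7889 (BT.node 7888 (BT.node 7887 (BT.leaf cJ7887) (BT.leaf cJ7888)) (BT.leaf cJ7889)) (BT.node 7890 (BT.leaf cJ7890) (BT.leaf cJ7891))))) (BT.node 7901 (BT.node 7896 (BT.node 7894 (BT.node 7893 (BT.node 7892 (BT.leaf cJ7892) (BT.leaf cJ7893)) (BT.leaf cJ7894)) (BT.node 7895 (BT.leaf cJ7895) (BT.leaf cJ7896))) (BT.node 7899 (BT.node 7898 (BT.node 7897 (BT.leaf cJ7897) (BT.leaf cJ7898)) (BT.leaf cJ7899)) (BT.node 7900 (BT.leaf cJ7900) (BT.leaf cJ7901)))) (BT.node 7906 (BT.node 7904 (BT.node 7903 (BT.node 7902 (BT.leaf cJ7902) (BT.leaf cJ7903)) (BT.leaf cJ7904)) (BT.node 7905 (BT.leaf cJ7905) (BT.leaf cJ7906))) (BT.node 7908 (BT.node 7907 (BT.leaf cJ7907) (BT.leaf cJ7908)) (BT.node 7909 (BT.leaf cJ7909) (BT.leaf cJ7910))))))) (BT.node 7949 (BT.node 7930 (BT.node 7920 (BT.node 7915 (BT.node 7913 (BT.node 7912 (BT.node 7911 (BT.leaf cJ7911) (BT.leaf cJ7912)) (BT.leaf cJ7913)) (BT.node 7914 (BT.leaf cJ7914) (BT.leaf cJ7915))) (BT.node 7918 (BT.node 7917 (BT.node 7916 (BT.leaf cJ7916) (BT.leaf cJ7917)) (BT.leaf cJ7918)) (BT.node 7919 (BT.leaf cJ7919) (BT.leaf cJ7920)))) (BT.node 7925 (BT.node 7923 (BT.node 7922 (BT.node 7921 (BT.leaf cJ7921) (BT.leaf cJ7922)) (BT.leaf cJ7923)) (BT.node 7924 (BT.leaf cJ7924) (BT.leaf cJ7925))) (BT.node 7928 (BT.node 7927 (BT.node 7926 (BT.leaf cJ7926) (BT.leaf cJ7927)) (BT.leaf cJ7928)) (BT.node 7929 (BT.leaf cJ7929) (BT.leaf cJ7930))))) (BT.node 7940 (BT.node 7935 (BT.node 7933 (BT.node 7932 (BT.node 7931 (BT.leaf cJ7931) (BT.leaf cJ7932)) (BT.leaf cJ7933)) (BT.node 7934 (BT.leaf cJ7934) (BT.leaf cJ7935))) (BT.node 7938 (BT.node 7937 (BT.node 7936 (BT.leaf cJ7936) (BT.leaf cJ7937)) (BT.leaf cJ7938)) (BT.node 7939 (BT.leaf cJ7939) (BT.leaf cJ7940)))) (BT.node 7945 (BT.node 7943 (BT.node 7942 (BT.node 7941 (BT.leaf cJ7941) (BT.leaf cJ7942)) (BT.leaf cJ7943)) (BT.node 7944 (BT.leaf cJ7944) (BT.leaf cJ7945))) (BT.node 7947 (BT.node 7946 (BT.leaf cJ7946) (BT.leaf cJ7947)) (BT.node 7948 (BT.leaf cJ7948) (BT.leaf cJ7949)))))) (BT.node 7969 (BT.node 7959 (BT.node 7954 (BT.node 7952 (BT.node 7951 (BT.node 7950 (BT.leaf cJ7950) (BT.leaf cJ7951)) (BT.leaf cJ7952)) (BT.node 7953 (BT.leaf cJ7953) (BT.leaf cJ7954))) (BT.node 7957 (BT.node 7956 (BT.node 7955 (BT.leaf cJ7955) (BT.leaf cJ7956)) (BT.leaf cJ7957)) (BT.node 7958 (BT.leaf cJ7958) (BT.leaf cJ7959)))) (BT.node 7964 (BT.node 7962 (BT.node 7961 (BT.node 7960 (BT.leaf cJ7960) (BT.leaf cJ7961)) (BT.leaf cJ7962)) (BT.node 7963 (BT.leaf cJ7963) (BT.leaf cJ7964))) (BT.node 7967 (BT.node 7966 (BT.node 7965 (BT.leaf cJ7965) (BT.leaf cJ7966)) (BT.leaf cJ7967)) (BT.node 7968 (BT.leaf cJ7968) (BT.leaf cJ7969))))) (BT.node 7979 (BT.node 7974 (BT.node 7972 (BT.node 7971 (BT.node 7970 (BT.leaf cJ7970) (BT.leaf cJ7971)) (BT.leaf cJ7972)) (BT.node 7973 (BT.leaf cJ7973) (BT.leaf cJ7974))) (BT.node 7977 (BT.node 7976 (BT.node 7975 (BT.leaf cJ7975) (BT.leaf cJ7976)) (BT.leaf cJ7977)) (BT.node 7978 (BT.leaf cJ7978) (BT.leaf cJ7979)))) (BT.node 7984 (BT.node 7982 (BT.node 7981 (BT.node 7980 (BT.leaf cJ7980) (BT.leaf cJ7981)) (BT.leaf cJ7982)) (BT.node 7983 (BT.leaf cJ7983) (BT.leaf cJ7984))) (BT.node 7986 (BT.node 7985 (BT.leaf cJ7985) (BT.leaf cJ7986)) (BT.node 7987 (BT.leaf cJ7987) (BT.leaf cJ7988)))))))) (BT.node 8066 (BT.node 8027 (BT.node 8008 (BT.node 7998 (BT.node 7993 (BT.node 7991 (BT.node 7990 (BT.node 7989 (BT.leaf cJ7989) (BT.leaf cJ7990)) (BT.leaf cJ7991)) (BT.node 7992 (BT.leaf cJ7992) (BT.leaf cJ7993))) (BT.node 7996 (BT.node 7995 (BT.node 7994 (BT.leaf cJ7994) (BT.leaf cJ7995)) (BT.leaf cJ7996)) (BT.node 7997 (BT.leaf cJ7997) (BT.leaf cJ7998)))) (BT.node 8003 (BT.node 8001 (BT.node 8000 (BT.node 7999 (BT.leaf cJ7999) (BT.leaf cJ8000)) (BT.leaf cJ8001)) (BT.node 8002 (BT.leaf cJ8002) (BT.leaf cJ8003))) (BT.node 8006 (BT.node 8005 (BT.node 8004 (BT.leaf cJ8004) (BT.leaf cJ8005)) (BT.leaf cJ8006)) (BT.node 8007 (BT.leaf cJ8007) (BT.leaf cJ8008))))) (BT.node 8018 (BT.node 8013 (BT.node 8011 (BT.node 8010 (BT.node 8009 (BT.leaf cJ8009) (BT.leaf cJ8010)) (BT.leaf cJ8011)) (BT.node 8012 (BT.leaf cJ8012) (BT.leaf cJ8013))) (BT.node 8016 (BT.node 8015 (BT.node 8014 (BT.leaf cJ8014) (BT.leaf cJ8015)) (BT.leaf cJ8016)) (BT.node 8017 (BT.leaf cJ8017) (BT.leaf cJ8018)))) (BT.node 8023 (BT.node 8021 (BT.node 8020 (BT.node 8019 (BT.leaf cJ8019) (BT.leaf cJ8020)) (BT.leaf cJ8021)) (BT.node 8022 (BT.leaf cJ8022) (BT.leaf cJ8023))) (BT.node 8025 (BT.node 8024 (BT.leaf cJ8024) (BT.leaf cJ8025)) (BT.node 8026 (BT.leaf cJ8026) (BT.leaf cJ8027)))))) (BT.node 8047 (BT.node 8037 (BT.node 8032 (BT.node 8030 (BT.node 8029 (BT.node 8028 (BT.leaf cJ8028) (BT.leaf cJ8029)) (BT.leaf cJ8030)) (BT.node 8031 (BT.leaf cJ8031) (BT.leaf cJ8032))) (BT.node 8035 (BT.node 8034 (BT.node 8033 (BT.leaf cJ8033) (BT.leaf cJ8034)) (BT.leaf cJ8035)) (BT.node 8036 (BT.leaf cJ8036) (BT.leaf cJ8037)))) (BT.node 8042 (BT.node 8040 (BT.node 8039 (BT.node 8038 (BT.leaf cJ8038) (BT.leaf cJ8039)) (BT.leaf cJ8040)) (BT.node 8041 (BT.leaf cJ8041) (BT.leaf cJ8042))) (BT.node 8045 (BT.node 8044 (BT.node 8043 (BT.leaf cJ8043) (BT.leaf cJ8044)) (BT.leaf cJ8045)) (BT.node 8046 (BT.leaf cJ8046) (BT.leaf cJ8047))))) (BT.node 8057 (BT.node 8052 (BT.node 8050 (BT.node 8049 (BT.node 8048 (BT.leaf cJ8048) (BT.leaf cJ8049)) (BT.leaf cJ8050)) (BT.node 8051 (BT.leaf cJ8051) (BT.leaf cJ8052))) (BT.node 8055 (BT.node 8054 (BT.node 8053 (BT.leaf cJ8053) (BT.leaf cJ8054)) (BT.leaf cJ8055)) (BT.node 8056 (BT.leaf cJ8056) (BT.leaf cJ8057)))) (BT.node 8062 (BT.node 8060 (BT.node 8059 (BT.node 8058 (BT.leaf cJ8058) (BT.leaf cJ8059)) (BT.leaf cJ8060)) (BT.node 8061 (BT.leaf cJ8061) (BT.leaf cJ8062))) (BT.node 8064 (BT.node 8063 (BT.leaf cJ8063) (BT.leaf cJ8064)) (BT.node 8065 (BT.leaf cJ8065) (BT.leaf cJ8066))))))) (BT.node 8105 (BT.node 8086 (BT.node 8076 (BT.node 8071 (BT.node 8069 (BT.node 8068 (BT.node 8067 (BT.leaf cJ8067) (BT.leaf cJ8068)) (BT.leaf cJ8069)) (BT.node 8070 (BT.leaf cJ8070) (BT.leaf cJ8071))) (BT.node 8074 (BT.node 8073 (BT.node 8072 (BT.leaf cJ8072) (BT.leaf cJ8073)) (BT.leaf cJ8074)) (BT.node 8075 (BT.leaf cJ8075) (BT.leaf cJ8076)))) (BT.node 8081 (BT.node 8079 (BT.node 8078 (BT.node 8077 (BT.leaf cJ8077) (BT.leaf cJ8078)) (BT.leaf cJ8079)) (BT.node 8080 (BT.leaf cJ8080) (BT.leaf cJ8081))) (BT.node 8084 (BT.node 8083 (BT.node 8082 (BT.leaf cJ8082) (BT.leaf cJ8083)) (BT.leaf cJ8084)) (BT.node 8085 (BT.leaf cJ8085) (BT.leaf cJ8086))))) (BT.node 8096 (BT.node 8091 (BT.node 8089 (BT.node 8088 (BT.node 8087 (BT.leaf cJ8087) (BT.leaf cJ8088)) (BT.leaf cJ8089)) (BT.node 8090 (BT.leaf cJ8090) (BT.leaf cJ8091))) (BT.node 8094 (BT.node 8093 (BT.node 8092 (BT.leaf cJ8092) (BT.leaf cJ8093)) (BT.leaf cJ8094)) (BT.node 8095 (BT.leaf cJ8095) (BT.leaf cJ8096)))) (BT.node 8101 (BT.node 8099 (BT.node 8098 (BT.node 8097 (BT.leaf cJ8097) (BT.leaf cJ8098)) (BT.leaf cJ8099)) (BT.node 8100 (BT.leaf cJ8100) (BT.leaf cJ8101))) (BT.node 8103 (BT.node 8102 (BT.leaf cJ8102) (BT.leaf cJ8103)) (BT.node 8104 (BT.leaf cJ8104) (BT.leaf cJ8105)))))) (BT.node 8125 (BT.node 8115 (BT.node 8110 (BT.node 8108 (BT.node 8107 (BT.node 8106 (BT.leaf cJ8106) (BT.leaf cJ8107)) (BT.leaf cJ8108)) (BT.node 8109 (BT.leaf cJ8109) (BT.leaf cJ8110))) (BT.node 8113 (BT.node 8112 (BT.node 8111 (BT.leaf cJ8111) (BT.leaf cJ8112)) (BT.leaf cJ8113)) (BT.node 8114 (BT.leaf cJ8114) (BT.leaf cJ8115)))) (BT.node 8120 (BT.node 8118 (BT.node 8117 (BT.node 8116 (BT.leaf cJ8116) (BT.leaf cJ8117)) (BT.leaf cJ8118)) (BT.node 8119 (BT.leaf cJ8119) (BT.leaf cJ8120))) (BT.node 8123 (BT.node 8122 (BT.node 8121 (BT.leaf cJ8121) (BT.leaf cJ8122)) (BT.leaf cJ8123)) (BT.node 8124 (BT.leaf cJ8124) (BT.leaf cJ8125))))) (BT.node 8135 (BT.node 8130 (BT.node 8128 (BT.node 8127 (BT.node 8126 (BT.leaf cJ8126) (BT.leaf cJ8127)) (BT.leaf cJ8128)) (BT.node 8129 (BT.leaf cJ8129) (BT.leaf cJ8130))) (BT.node 8133 (BT.node 8132 (BT.node 8131 (BT.leaf cJ8131) (BT.leaf cJ8132)) (BT.leaf cJ8133)) (BT.node 8134 (BT.leaf cJ8134) (BT.leaf cJ8135)))) (BT.node 8140 (BT.node 8138 (BT.node 8137 (BT.node 8136 (BT.leaf cJ8136) (BT.leaf cJ8137)) (BT.leaf cJ8138)) (BT.node 8139 (BT.leaf cJ8139) (BT.leaf cJ8140))) (BT.node 8142 (BT.node 8141 (BT.leaf cJ8141) (BT.leaf cJ8142)) (BT.node 8143 (BT.leaf cJ8143) (BT.leaf cJ8144)))))))))) (BT.node 8457 (BT.node 8301 (BT.node 8223 (BT.node 8184 (BT.node 8164 (BT.node 8154 (BT.node 8149 (BT.node 8147 (BT.node 8146 (BT.node 8145 (BT.leaf cJ8145) (BT.leaf cJ8146)) (BT.leaf cJ8147)) (BT.node 8148 (BT.leaf cJ8148) (BT.leaf cJ8149))) (BT.node 8152 (BT.node 8151 (BT.node 8150 (BT.leaf cJ8150) (BT.leaf cJ8151)) (BT.leaf cJ8152)) (BT.node 8153 (BT.leaf cJ8153) (BT.leaf cJ8154)))) (BT.node 8159 (BT.node 8157 (BT.node 8156 (BT.node 8155 (BT.leaf cJ8155) (BT.leaf cJ8156)) (BT.leaf cJ8157)) (BT.node 8158 (BT.leaf cJ8158) (BT.leaf cJ8159))) (BT.node 8162 (BT.node 8161 (BT.node 8160 (BT.leaf cJ8160) (BT.leaf cJ8161)) (BT.leaf cJ8162)) (BT.node 8163 (BT.leaf cJ8163) (BT.leaf cJ8164))))) (BT.node 8174 (BT.node 8169 (BT.node 8167 (BT.node 8166 (BT.node 8165 (BT.leaf cJ8165) (BT.leaf cJ8166)) (BT.leaf cJ8167)) (BT.node 8168 (BT.leaf cJ8168) (BT.leaf cJ8169))) (BT.node 8172 (BT.node 8171 (BT.node 8170 (BT.leaf cJ8170) (BT.leaf cJ8171)) (BT.leaf cJ8172)) (BT.node 8173 (BT.leaf cJ8173) (BT.leaf cJ8174)))) (BT.node 8179 (BT.node 8177 (BT.node 8176 (BT.node 8175 (BT.leaf cJ8175) (BT.leaf cJ8176)) (BT.leaf cJ8177)) (BT.node 8178 (BT.leaf cJ8178) (BT.leaf cJ8179))) (BT.node 8182 (BT.node 8181 (BT.node 8180 (BT.leaf cJ8180) (BT.leaf cJ8181)) (BT.leaf cJ8182)) (BT.node 8183 (BT.leaf cJ8183) (BT.leaf cJ8184)))))) (BT.node 8204 (BT.node 8194 (BT.node 8189 (BT.node 8187 (BT.node 8186 (BT.node 8185 (BT.leaf cJ8185) (BT.leaf cJ8186)) (BT.leaf cJ8187)) (BT.node 8188 (BT.leaf cJ8188) (BT.leaf cJ8189))) (BT.node 8192 (BT.node 8191 (BT.node 8190 (BT.leaf cJ8190) (BT.leaf cJ8191)) (BT.leaf cJ8192)) (BT.node 8193 (BT.leaf cJ8193) (BT.leaf cJ8194)))) (BT.node 8199 (BT.node 8197 (BT.node 8196 (BT.node 8195 (BT.leaf cJ8195) (BT.leaf cJ8196)) (BT.leaf cJ8197)) (BT.node 8198 (BT.leaf cJ8198) (BT.leaf cJ8199))) (BT.node 8202 (BT.node 8201 (BT.node 8200 (BT.leaf cJ8200) (BT.leaf cJ8201)) (BT.leaf cJ8202)) (BT.node 8203 (BT.leaf cJ8203) (BT.leaf cJ8204))))) (BT.node 8214 (BT.node 8209 (BT.node 8207 (BT.node 8206 (BT.node 8205 (BT.leaf cJ8205) (BT.leaf cJ8206)) (BT.leaf cJ8207)) (BT.node 8208 (BT.leaf cJ8208) (BT.leaf cJ8209))) (BT.node 8212 (BT.node 8211 (BT.node 8210 (BT.leaf cJ8210) (BT.leaf cJ8211)) (BT.leaf cJ8212)) (BT.node 8213 (BT.leaf cJ8213) (BT.leaf cJ8214)))) (BT.node 8219 (BT.node 8217 (BT.node 8216 (BT.node 8215 (BT.leaf cJ8215) (BT.leaf cJ8216)) (BT.leaf cJ8217)) (BT.node 8218 (BT.leaf cJ8218) (BT.leaf cJ8219))) (BT.node 8221 (BT.node 8220 (BT.leaf cJ8220) (BT.leaf cJ8221)) (BT.node 8222 (BT.leaf cJ8222) (BT.leaf cJ8223))))))) (BT.node 8262 (BT.node 8243 (BT.node 8233 (BT.node 8228 (BT.node 8226 (BT.node 8225 (BT.node 8224 (BT.leaf cJ8224) (BT.leaf cJ8225)) (BT.leaf cJ8226)) (BT.node 8227 (BT.leaf cJ8227) (BT.leaf cJ8228))) (BT.node 8231 (BT.node 8230 (BT.node 8229 (BT.leaf cJ8229) (BT.leaf cJ8230)) (BT.leaf cJ8231)) (BT.node 8232 (BT.leaf cJ8232) (BT.leaf cJ8233)))) (BT.node 8238 (BT.node 8236 (BT.node 8235 (BT.node 8234 (BT.leaf cJ8234) (BT.leaf cJ8235)) (BT.leaf cJ8236)) (BT.node 8237 (BT.leaf cJ8237) (BT.leaf cJ8238))) (BT.node 8241 (BT.node 8240 (BT.node 8239 (BT.leaf cJ8239) (BT.leaf cJ8240)) (BT.leaf cJ8241)) (BT.node 8242 (BT.leaf cJ8242) (BT.leaf cJ8243))))) (BT.node 8253 (BT.node 8248 (BT.node 8246 (BT.node 8245 (BT.node 8244 (BT.leaf cJ8244) (BT.leaf cJ8245)) (BT.leaf cJ8246)) (BT.node 8247 (BT.leaf cJ8247) (BT.leaf cJ8248))) (BT.node 8251 (BT.node 8250 (BT.node 8249 (BT.leaf cJ8249) (BT.leaf cJ8250)) (BT.leaf cJ8251)) (BT.node 8252 (BT.leaf cJ8252) (BT.leaf cJ8253)))) (BT.node 8258 (BT.node 8256 (BT.node 8255 (BT.node 8254 (BT.leaf cJ8254) (BT.leaf cJ8255)) (BT.leaf cJ8256)) (BT.node 8257 (BT.leaf cJ8257) (BT.leaf cJ8258))) (BT.node 8260 (BT.node 8259 (BT.leaf cJ8259) (BT.leaf cJ8260)) (BT.node 8261 (BT.leaf cJ8261) (BT.leaf cJ8262)))))) (BT.node 8282 (BT.node 8272 (BT.node 8267 (BT.node 8265 (BT.node 8264 (BT.node 8263 (BT.leaf cJ8263) (BT.leaf cJ8264)) (BT.leaf cJ8265)) (BT.node 8266 (BT.leaf cJ8266) (BT.leaf cJ8267))) (BT.node 8270 (BT.node 8269 (BT.node 8268 (BT.leaf cJ8268) (BT.leaf cJ8269)) (BT.leaf cJ8270)) (BT.node 8271 (BT.leaf cJ8271) (BT.leaf cJ8272)))) (BT.node 8277 (BT.node 8275 (BT.node 8274 (BT.node 8273 (BT.leaf cJ8273) (BT.leaf cJ8274)) (BT.leaf cJ8275)) (BT.node 8276 (BT.leaf cJ8276) (BT.leaf cJ8277))) (BT.node 8280 (BT.node 8279 (BT.node 8278 (BT.leaf cJ8278) (BT.leaf cJ8279)) (BT.leaf cJ8280)) (BT.node 8281 (BT.leaf cJ8281) (BT.leaf cJ8282))))) (BT.node 8292 (BT.node 8287 (BT.node 8285 (BT.node 8284 (BT.node 8283 (BT.leaf cJ8283) (BT.leaf cJ8284)) (BT.leaf cJ8285)) (BT.node 8286 (BT.leaf cJ8286) (BT.leaf cJ8287))) (BT.node 8290 (BT.node 8289 (BT.node 8288 (BT.leaf cJ8288) (BT.leaf cJ8289)) (BT.leaf cJ8290)) (BT.node 8291 (BT.leaf cJ8291) (BT.leaf cJ8292)))) (BT.node 8297 (BT.node 8295 (BT.node 8294 (BT.node 8293 (BT.leaf cJ8293) (BT.leaf cJ8294)) (BT.leaf cJ8295)) (BT.node 8296 (BT.leaf cJ8296) (BT.leaf cJ8297))) (BT.node 8299 (BT.node 8298 (BT.leaf cJ8298) (BT.leaf cJ8299)) (BT.node 8300 (BT.leaf cJ8300) (BT.leaf cJ8301)))))))) (BT.node 8379 (BT.node 8340 (BT.node 8321 (BT.node 8311 (BT.node 8306 (BT.node 8304 (BT.node 8303 (BT.node 8302 (BT.leaf cJ8302) (BT.leaf cJ8303)) (BT.leaf cJ8304)) (BT.node 8305 (BT.leaf cJ8305) (BT.leaf cJ8306))) (BT.node 8309 (BT.node 8308 (BT.node 8307 (BT.leaf cJ8307) (BT.leaf cJ8308)) (BT.leaf cJ8309)) (BT.node 8310 (BT.leaf cJ8310) (BT.leaf cJ8311)))) (BT.node 8316 (BT.node 8314 (BT.node 8313 (BT.node 8312 (BT.leaf cJ8312) (BT.leaf cJ8313)) (BT.leaf cJ8314)) (BT.node 8315 (BT.leaf cJ8315) (BT.leaf cJ8316))) (BT.node 8319 (BT.node 8318 (BT.node 8317 (BT.leaf cJ8317) (BT.leaf cJ8318)) (BT.leaf cJ8319)) (BT.node 8320 (BT.leaf cJ8320) (BT.leaf cJ8321))))) (BT.node 8331 (BT.node 8326 (BT.node 8324 (BT.node 8323 (BT.node 8322 (BT.leaf cJ8322) (BT.leaf cJ8323)) (BT.leaf cJ8324)) (BT.node 8325 (BT.leaf cJ8325) (BT.leaf cJ8326))) (BT.node 8329 (BT.node 8328 (BT.node 8327 (BT.leaf cJ8327) (BT.leaf cJ8328)) (BT.leaf cJ8329)) (BT.node 8330 (BT.leaf cJ8330) (BT.leaf cJ8331)))) (BT.node 8336 (BT.node 8334 (BT.node 8333 (BT.node 8332 (BT.leaf cJ8332) (BT.leaf cJ8333)) (BT.leaf cJ8334)) (BT.node 8335 (BT.leaf cJ8335) (BT.leaf cJ8336))) (BT.node 8338 (BT.node 8337 (BT.leaf cJ8337) (BT.leaf cJ8338)) (BT.node 8339 (BT.leaf cJ8339) (BT.leaf cJ8340)))))) (BT.node 8360 (BT.node 8350 (BT.node 8345 (BT.node 8343 (BT.node 8342 (BT.node 8341 (BT.leaf cJ8341) (BT.leaf cJ8342)) (BT.leaf cJ8343)) (BT.node 8344 (BT.leaf cJ8344) (BT.leaf cJ8345))) (BT.node 8348 (BT.node 8347 (BT.node 8346 (BT.leaf cJ8346) (BT.leaf cJ8347)) (BT.leaf cJ8348)) (BT.node 8349 (BT.leaf cJ8349) (BT.leaf cJ8350)))) (BT.node 8355 (BT.node 8353 (BT.node 8352 (BT.node 8351 (BT.leaf cJ8351) (BT.leaf cJ8352)) (BT.leaf cJ8353)) (BT.node 8354 (BT.leaf cJ8354) (BT.leaf cJ8355))) (BT.node 8358 (BT.node 8357 (BT.node 8356 (BT.leaf cJ8356) (BT.leaf cJ8357)) (BT.leaf cJ8358)) (BT.node 8359 (BT.leaf cJ8359) (BT.leaf cJ8360))))) (BT.node 8370 (BT.node 8365 (BT.node 8363 (BT.node 8362 (BT.node 8361 (BT.leaf cJ8361) (BT.leaf cJ8362)) (BT.leaf cJ8363)) (BT.node 8364 (BT.leaf cJ8364) (BT.leaf cJ8365))) (BT.node 8368 (BT.node 8367 (BT.node 8366 (BT.leaf cJ8366) (BT.leaf cJ8367)) (BT.leaf cJ8368)) (BT.node 8369 (BT.leaf cJ8369) (BT.leaf cJ8370)))) (BT.node 8375 (BT.node 8373 (BT.node 8372 (BT.node 8371 (BT.leaf cJ8371) (BT.leaf cJ8372)) (BT.leaf cJ8373)) (BT.node 8374 (BT.leaf cJ8374) (BT.leaf cJ8375))) (BT.node 8377 (BT.node 8376 (BT.leaf cJ8376) (BT.leaf cJ8377)) (BT.node 8378 (BT.leaf cJ8378) (BT.leaf cJ8379))))))) (BT.node 8418 (BT.node 8399 (BT.node 8389 (BT.node 8384 (BT.node 8382 (BT.node 8381 (BT.node 8380 (BT.leaf cJ8380) (BT.leaf cJ8381)) (BT.leaf cJ8382)) (BT.node 8383 (BT.leaf cJ8383) (BT.leaf cJ8384))) (BT.node 8387 (BT.node 8386 (BT.node 8385 (BT.leaf cJ8385) (BT.leaf cJ8386)) (BT.leaf cJ8387)) (BT.node 8388 (BT.leaf cJ8388) (BT.leaf cJ8389)))) (BT.node 8394 (BT.node 8392 (BT.node 8391 (BT.node 8390 (BT.leaf cJ8390) (BT.leaf cJ8391)) (BT.leaf cJ8392)) (BT.node 8393 (BT.leaf cJ8393) (BT.leaf cJ8394))) (BT.node 8397 (BT.node 8396 (BT.node 8395 (BT.leaf cJ8395) (BT.leaf cJ8396)) (BT.leaf cJ8397)) (BT.node 8398 (BT.leaf cJ8398) (BT.leaf cJ8399))))) (BT.node 8409 (BT.node 8404 (BT.node 8402 (BT.node 8401 (BT.node 8400 (BT.leaf cJ8400) (BT.leaf cJ8401)) (BT.leaf cJ8402)) (BT.node 8403 (BT.leaf cJ8403) (BT.leaf cJ8404))) (BT.node 8407 (BT.node 8406 (BT.node 8405 (BT.leaf cJ8405) (BT.leaf cJ8406)) (BT.leaf cJ8407)) (BT.node 8408 (BT.leaf cJ8408) (BT.leaf cJ8409)))) (BT.node 8414 (BT.node 8412 (BT.node 8411 (BT.node 8410 (BT.leaf cJ8410) (BT.leaf cJ8411)) (BT.leaf cJ8412)) (BT.node 8413 (BT.leaf cJ8413) (BT.leaf cJ8414))) (BT.node 8416 (BT.node 8415 (BT.leaf cJ8415) (BT.leaf cJ8416)) (BT.node 8417 (BT.leaf cJ8417) (BT.leaf cJ8418)))))) (BT.node 8438 (BT.node 8428 (BT.node 8423 (BT.node 8421 (BT.node 8420 (BT.node 8419 (BT.leaf cJ8419) (BT.leaf cJ8420)) (BT.leaf cJ8421)) (BT.node 8422 (BT.leaf cJ8422) (BT.leaf cJ8423))) (BT.node 8426 (BT.node 8425 (BT.node 8424 (BT.leaf cJ8424) (BT.leaf cJ8425)) (BT.leaf cJ8426)) (BT.node 8427 (BT.leaf cJ8427) (BT.leaf cJ8428)))) (BT.node 8433 (BT.node 8431 (BT.node 8430 (BT.node 8429 (BT.leaf cJ8429) (BT.leaf cJ8430)) (BT.leaf cJ8431)) (BT.node 8432 (BT.leaf cJ8432) (BT.leaf cJ8433))) (BT.node 8436 (BT.node 8435 (BT.node 8434 (BT.leaf cJ8434) (BT.leaf cJ8435)) (BT.leaf cJ8436)) (BT.node 8437 (BT.leaf cJ8437) (BT.leaf cJ8438))))) (BT.node 8448 (BT.node 8443 (BT.node 8441 (BT.node 8440 (BT.node 8439 (BT.leaf cJ8439) (BT.leaf cJ8440)) (BT.leaf cJ8441)) (BT.node 8442 (BT.leaf cJ8442) (BT.leaf cJ8443))) (BT.node 8446 (BT.node 8445 (BT.node 8444 (BT.leaf cJ8444) (BT.leaf cJ8445)) (BT.leaf cJ8446)) (BT.node 8447 (BT.leaf cJ8447) (BT.leaf cJ8448)))) (BT.node 8453 (BT.node 8451 (BT.node 8450 (BT.node 8449 (BT.leaf cJ8449) (BT.leaf cJ8450)) (BT.leaf cJ8451)) (BT.node 8452 (BT.leaf cJ8452) (BT.leaf cJ8453))) (BT.node 8455 (BT.node 8454 (BT.leaf cJ8454) (BT.leaf cJ8455)) (BT.node 8456 (BT.leaf cJ8456) (BT.leaf cJ8457))))))))) (BT.node 8614 (BT.node 8536 (BT.node 8497 (BT.node 8477 (BT.node 8467 (BT.node 8462 (BT.node 8460 (BT.node 8459 (BT.node 8458 (BT.leaf cJ8458) (BT.leaf cJ8459)) (BT.leaf cJ8460)) (BT.node 8461 (BT.leaf cJ8461) (BT.leaf cJ8462))) (BT.node 8465 (BT.node 8464 (BT.node 8463 (BT.leaf cJ8463) (BT.leaf cJ8464)) (BT.leaf cJ8465)) (BT.node 8466 (BT.leaf cJ8466) (BT.leaf cJ8467)))) (BT.node 8472 (BT.node 8470 (BT.node 8469 (BT.node 8468 (BT.leaf cJ8468) (BT.leaf cJ8469)) (BT.leaf cJ8470)) (BT.node 8471 (BT.leaf cJ8471) (BT.leaf cJ8472))) (BT.node 8475 (BT.node 8474 (BT.node 8473 (BT.leaf cJ8473) (BT.leaf cJ8474)) (BT.leaf cJ8475)) (BT.node 8476 (BT.leaf cJ8476) (BT.leaf cJ8477))))) (BT.node 8487 (BT.node 8482 (BT.node 8480 (BT.node 8479 (BT.node 8478 (BT.leaf cJ8478) (BT.leaf cJ8479)) (BT.leaf cJ8480)) (BT.node 8481 (BT.leaf cJ8481) (BT.leaf cJ8482))) (BT.node 8485 (BT.node 8484 (BT.node 8483 (BT.leaf cJ8483) (BT.leaf cJ8484)) (BT.leaf cJ8485)) (BT.node 8486 (BT.leaf cJ8486) (BT.leaf cJ8487)))) (BT.node 8492 (BT.node 8490 (BT.node 8489 (BT.node 8488 (BT.leaf cJ8488) (BT.leaf cJ8489)) (BT.leaf cJ8490)) (BT.node 8491 (BT.leaf cJ8491) (BT.leaf cJ8492))) (BT.node 8495 (BT.node 8494 (BT.node 8493 (BT.leaf cJ8493) (BT.leaf cJ8494)) (BT.leaf cJ8495)) (BT.node 8496 (BT.leaf cJ8496) (BT.leaf cJ8497)))))) (BT.node 8517 (BT.node 8507 (BT.node 8502 (BT.node 8500 (BT.node 8499 (BT.node 8498 (BT.leaf cJ8498) (BT.leaf cJ8499)) (BT.leaf cJ8500)) (BT.node 8501 (BT.leaf cJ8501) (BT.leaf cJ8502))) (BT.node 8505 (BT.node 8504 (BT.node 8503 (BT.leaf cJ8503) (BT.leaf cJ8504)) (BT.leaf cJ8505)) (BT.node 8506 (BT.leaf cJ8506) (BT.leaf cJ8507)))) (BT.node 8512 (BT.node 8510 (BT.node 8509 (BT.node 8508 (BT.leaf cJ8508) (BT.leaf cJ8509)) (BT.leaf cJ8510)) (BT.node 8511 (BT.leaf cJ8511) (BT.leaf cJ8512))) (BT.node 8515 (BT.node 8514 (BT.node 8513 (BT.leaf cJ8513) (BT.leaf cJ8514)) (BT.leaf cJ8515)) (BT.node 8516 (BT.leaf cJ8516) (BT.leaf cJ8517))))) (BT.node 8527 (BT.node 8522 (BT.node 8520 (BT.node 8519 (BT.node 8518 (BT.leaf cJ8518) (BT.leaf cJ8519)) (BT.leaf cJ8520)) (BT.node 8521 (BT.leaf cJ8521) (BT.leaf cJ8522))) (BT.node 8525 (BT.node 8524 (BT.node 8523 (BT.leaf cJ8523) (BT.leaf cJ8524)) (BT.leaf cJ8525)) (BT.node 8526 (BT.leaf cJ8526) (BT.leaf cJ8527)))) (BT.node 8532 (BT.node 8530 (BT.node 8529 (BT.node 8528 (BT.leaf cJ8528) (BT.leaf cJ8529)) (BT.leaf cJ8530)) (BT.node 8531 (BT.leaf cJ8531) (BT.leaf cJ8532))) (BT.node 8534 (BT.node 8533 (BT.leaf cJ8533) (BT.leaf cJ8534)) (BT.node 8535 (BT.leaf cJ8535) (BT.leaf cJ8536))))))) (BT.node 8575 (BT.node 8556 (BT.node 8546 (BT.node 8541 (BT.node 8539 (BT.node 8538 (BT.node 8537 (BT.leaf cJ8537) (BT.leaf cJ8538)) (BT.leaf cJ8539)) (BT.node 8540 (BT.leaf cJ8540) (BT.leaf cJ8541))) (BT.node 8544 (BT.node 8543 (BT.node 8542 (BT.leaf cJ8542) (BT.leaf cJ8543)) (BT.leaf cJ8544)) (BT.node 8545 (BT.leaf cJ8545) (BT.leaf cJ8546)))) (BT.node 8551 (BT.node 8549 (BT.node 8548 (BT.node 8547 (BT.leaf cJ8547) (BT.leaf cJ8548)) (BT.leaf cJ8549)) (BT.node 8550 (BT.leaf cJ8550) (BT.leaf cJ8551))) (BT.node 8554 (BT.node 8553 (BT.node 8552 (BT.leaf cJ8552) (BT.leaf cJ8553)) (BT.leaf cJ8554)) (BT.node 8555 (BT.leaf cJ8555) (BT.leaf cJ8556))))) (BT.node 8566 (BT.node 8561 (BT.node 8559 (BT.node 8558 (BT.node 8557 (BT.leaf cJ8557) (BT.leaf cJ8558)) (BT.leaf cJ8559)) (BT.node 8560 (BT.leaf cJ8560) (BT.leaf cJ8561))) (BT.node 8564 (BT.node 8563 (BT.node 8562 (BT.leaf cJ8562) (BT.leaf cJ8563)) (BT.leaf cJ8564)) (BT.node 8565 (BT.leaf cJ8565) (BT.leaf cJ8566)))) (BT.node 8571 (BT.node 8569 (BT.node 8568 (BT.node 8567 (BT.leaf cJ8567) (BT.leaf cJ8568)) (BT.leaf cJ8569)) (BT.node 8570 (BT.leaf cJ8570) (BT.leaf cJ8571))) (BT.node 8573 (BT.node 8572 (BT.leaf cJ8572) (BT.leaf cJ8573)) (BT.node 8574 (BT.leaf cJ8574) (BT.leaf cJ8575)))))) (BT.node 8595 (BT.node 8585 (BT.node 8580 (BT.node 8578 (BT.node 8577 (BT.node 8576 (BT.leaf cJ8576) (BT.leaf cJ8577)) (BT.leaf cJ8578)) (BT.node 8579 (BT.leaf cJ8579) (BT.leaf cJ8580))) (BT.node 8583 (BT.node 8582 (BT.node 8581 (BT.leaf cJ8581) (BT.leaf cJ8582)) (BT.leaf cJ8583)) (BT.node 8584 (BT.leaf cJ8584) (BT.leaf cJ8585)))) (BT.node 8590 (BT.node 8588 (BT.node 8587 (BT.node 8586 (BT.leaf cJ8586) (BT.leaf cJ8587)) (BT.leaf cJ8588)) (BT.node 8589 (BT.leaf cJ8589) (BT.leaf cJ8590))) (BT.node 8593 (BT.node 8592 (BT.node 8591 (BT.leaf cJ8591) (BT.leaf cJ8592)) (BT.leaf cJ8593)) (BT.node 8594 (BT.leaf cJ8594) (BT.leaf cJ8595))))) (BT.node 8605 (BT.node 8600 (BT.node 8598 (BT.node 8597 (BT.node 8596 (BT.leaf cJ8596) (BT.leaf cJ8597)) (BT.leaf cJ8598)) (BT.node 8599 (BT.leaf cJ8599) (BT.leaf cJ8600))) (BT.node 8603 (BT.node 8602 (BT.node 8601 (BT.leaf cJ8601) (BT.leaf cJ8602)) (BT.leaf cJ8603)) (BT.node 8604 (BT.leaf cJ8604) (BT.leaf cJ8605)))) (BT.node 8610 (BT.node 8608 (BT.node 8607 (BT.node 8606 (BT.leaf cJ8606) (BT.leaf cJ8607)) (BT.leaf cJ8608)) (BT.node 8609 (BT.leaf cJ8609) (BT.leaf cJ8610))) (BT.node 8612 (BT.node 8611 (BT.leaf cJ8611) (BT.leaf cJ8612)) (BT.node 8613 (BT.leaf cJ8613) (BT.leaf cJ8614)))))))) (BT.node 8692 (BT.node 8653 (BT.node 8634 (BT.node 8624 (BT.node 8619 (BT.node 8617 (BT.node 8616 (BT.node 8615 (BT.leaf cJ8615) (BT.leaf cJ8616)) (BT.leaf cJ8617)) (BT.node 8618 (BT.leaf cJ8618) (BT.leaf cJ8619))) (BT.node 8622 (BT.node 8621 (BT.node 8620 (BT.leaf cJ8620) (BT.leaf cJ8621)) (BT.leaf cJ8622)) (BT.node 8623 (BT.leaf cJ8623) (BT.leaf cJ8624)))) (BT.node 8629 (BT.node 8627 (BT.node 8626 (BT.node 8625 (BT.leaf cJ8625) (BT.leaf cJ8626)) (BT.leaf cJ8627)) (BT.node 8628 (BT.leaf cJ8628) (BT.leaf cJ8629))) (BT.node 8632 (BT.node 8631 (BT.node 8630 (BT.leaf cJ8630) (BT.leaf cJ8631)) (BT.leaf cJ8632)) (BT.node 8633 (BT.leaf cJ8633) (BT.leaf cJ8634))))) (BT.node 8644 (BT.node 8639 (BT.node 8637 (BT.node 8636 (BT.node 8635 (BT.leaf cJ8635) (BT.leaf cJ8636)) (BT.leaf cJ8637)) (BT.node 8638 (BT.leaf cJ8638) (BT.leaf cJ8639))) (BT.node 8642 (BT.node 8641 (BT.node 8640 (BT.leaf cJ8640) (BT.leaf cJ8641)) (BT.leaf cJ8642)) (BT.node 8643 (BT.leaf cJ8643) (BT.leaf cJ8644)))) (BT.node 8649 (BT.node 8647 (BT.node 8646 (BT.node 8645 (BT.leaf cJ8645) (BT.leaf cJ8646)) (BT.leaf cJ8647)) (BT.node 8648 (BT.leaf cJ8648) (BT.leaf cJ8649))) (BT.node 8651 (BT.node 8650 (BT.leaf cJ8650) (BT.leaf cJ8651)) (BT.node 8652 (BT.leaf cJ8652) (BT.leaf cJ8653)))))) (BT.node 8673 (BT.node 8663 (BT.node 8658 (BT.node 8656 (BT.node 8655 (BT.node 8654 (BT.leaf cJ8654) (BT.leaf cJ8655)) (BT.leaf cJ8656)) (BT.node 8657 (BT.leaf cJ8657) (BT.leaf cJ8658))) (BT.node 8661 (BT.node 8660 (BT.node 8659 (BT.leaf cJ8659) (BT.leaf cJ8660)) (BT.leaf cJ8661)) (BT.node 8662 (BT.leaf cJ8662) (BT.leaf cJ8663)))) (BT.node 8668 (BT.node 8666 (BT.node 8665 (BT.node 8664 (BT.leaf cJ8664) (BT.leaf cJ8665)) (BT.leaf cJ8666)) (BT.node 8667 (BT.leaf cJ8667) (BT.leaf cJ8668))) (BT.node 8671 (BT.node 8670 (BT.node 8669 (BT.leaf cJ8669) (BT.leaf cJ8670)) (BT.leaf cJ8671)) (BT.node 8672 (BT.leaf cJ8672) (BT.leaf cJ8673))))) (BT.node 8683 (BT.node 8678 (BT.node 8676 (BT.node 8675 (BT.node 8674 (BT.leaf cJ8674) (BT.leaf cJ8675)) (BT.leaf cJ8676)) (BT.node 8677 (BT.leaf cJ8677) (BT.leaf cJ8678))) (BT.node 8681 (BT.node 8680 (BT.node 8679 (BT.leaf cJ8679) (BT.leaf cJ8680)) (BT.leaf cJ8681)) (BT.node 8682 (BT.leaf cJ8682) (BT.leaf cJ8683)))) (BT.node 8688 (BT.node 8686 (BT.node 8685 (BT.node 8684 (BT.leaf cJ8684) (BT.leaf cJ8685)) (BT.leaf cJ8686)) (BT.node 8687 (BT.leaf cJ8687) (BT.leaf cJ8688))) (BT.node 8690 (BT.node 8689 (BT.leaf cJ8689) (BT.leaf cJ8690)) (BT.node 8691 (BT.leaf cJ8691) (BT.leaf cJ8692))))))) (BT.node 8731 (BT.node 8712 (BT.node 8702 (BT.node 8697 (BT.node 8695 (BT.node 8694 (BT.node 8693 (BT.leaf cJ8693) (BT.leaf cJ8694)) (BT.leaf cJ8695)) (BT.node 8696 (BT.leaf cJ8696) (BT.leaf cJ8697))) (BT.node 8700 (BT.node 8699 (BT.node 8698 (BT.leaf cJ8698) (BT.leaf cJ8699)) (BT.leaf cJ8700)) (BT.node 8701 (BT.leaf cJ8701) (BT.leaf cJ8702)))) (BT.node 8707 (BT.node 8705 (BT.node 8704 (BT.node 8703 (BT.leaf cJ8703) (BT.leaf cJ8704)) (BT.leaf cJ8705)) (BT.node 8706 (BT.leaf cJ8706) (BT.leaf cJ8707))) (BT.node 8710 (BT.node 8709 (BT.node 8708 (BT.leaf cJ8708) (BT.leaf cJ8709)) (BT.leaf cJ8710)) (BT.node 8711 (BT.leaf cJ8711) (BT.leaf cJ8712))))) (BT.node 8722 (BT.node 8717 (BT.node 8715 (BT.node 8714 (BT.node 8713 (BT.leaf cJ8713) (BT.leaf cJ8714)) (BT.leaf cJ8715)) (BT.node 8716 (BT.leaf cJ8716) (BT.leaf cJ8717))) (BT.node 8720 (BT.node 8719 (BT.node 8718 (BT.leaf cJ8718) (BT.leaf cJ8719)) (BT.leaf cJ8720)) (BT.node 8721 (BT.leaf cJ8721) (BT.leaf cJ8722)))) (BT.node 8727 (BT.node 8725 (BT.node 8724 (BT.node 8723 (BT.leaf cJ8723) (BT.leaf cJ8724)) (BT.leaf cJ8725)) (BT.node 8726 (BT.leaf cJ8726) (BT.leaf cJ8727))) (BT.node 8729 (BT.node 8728 (BT.leaf cJ8728) (BT.leaf cJ8729)) (BT.node 8730 (BT.leaf cJ8730) (BT.leaf cJ8731)))))) (BT.node 8751 (BT.node 8741 (BT.node 8736 (BT.node 8734 (BT.node 8733 (BT.node 8732 (BT.leaf cJ8732) (BT.leaf cJ8733)) (BT.leaf cJ8734)) (BT.node 8735 (BT.leaf cJ8735) (BT.leaf cJ8736))) (BT.node 8739 (BT.node 8738 (BT.node 8737 (BT.leaf cJ8737) (BT.leaf cJ8738)) (BT.leaf cJ8739)) (BT.node 8740 (BT.leaf cJ8740) (BT.leaf cJ8741)))) (BT.node 8746 (BT.node 8744 (BT.node 8743 (BT.node 8742 (BT.leaf cJ8742) (BT.leaf cJ8743)) (BT.leaf cJ8744)) (BT.node 8745 (BT.leaf cJ8745) (BT.leaf cJ8746))) (BT.node 8749 (BT.node 8748 (BT.node 8747 (BT.leaf cJ8747) (BT.leaf cJ8748)) (BT.leaf cJ8749)) (BT.node 8750 (BT.leaf cJ8750) (BT.leaf cJ8751))))) (BT.node 8761 (BT.node 8756 (BT.node 8754 (BT.node 8753 (BT.node 8752 (BT.leaf cJ8752) (BT.leaf cJ8753)) (BT.leaf cJ8754)) (BT.node 8755 (BT.leaf cJ8755) (BT.leaf cJ8756))) (BT.node 8759 (BT.node 8758 (BT.node 8757 (BT.leaf cJ8757) (BT.leaf cJ8758)) (BT.leaf cJ8759)) (BT.node 8760 (BT.leaf cJ8760) (BT.leaf cJ8761)))) (BT.node 8766 (BT.node 8764 (BT.node 8763 (BT.node 8762 (BT.leaf cJ8762) (BT.leaf cJ8763)) (BT.leaf cJ8764)) (BT.node 8765 (BT.leaf cJ8765) (BT.leaf cJ8766))) (BT.node 8768 (BT.node 8767 (BT.leaf cJ8767) (BT.leaf cJ8768)) (BT.node 8769 (BT.leaf cJ8769) (BT.leaf cJ8770))))))))))) (BT.node 9396 (BT.node 9083 (BT.node 8927 (BT.node 8849 (BT.node 8810 (BT.node 8790 (BT.node 8780 (BT.node 8775 (BT.node 8773 (BT.node 8772 (BT.node 8771 (BT.leaf cJ8771) (BT.leaf cJ8772)) (BT.leaf cJ8773)) (BT.node 8774 (BT.leaf cJ8774) (BT.leaf cJ8775))) (BT.node 8778 (BT.node 8777 (BT.node 8776 (BT.leaf cJ8776) (BT.leaf cJ8777)) (BT.leaf cJ8778)) (BT.node 8779 (BT.leaf cJ8779) (BT.leaf cJ8780)))) (BT.node 8785 (BT.node 8783 (BT.node 8782 (BT.node 8781 (BT.leaf cJ8781) (BT.leaf cJ8782)) (BT.leaf cJ8783)) (BT.node 8784 (BT.leaf cJ8784) (BT.leaf cJ8785))) (BT.node 8788 (BT.node 8787 (BT.node 8786 (BT.leaf cJ8786) (BT.leaf cJ8787)) (BT.leaf cJ8788)) (BT.node 8789 (BT.leaf cJ8789) (BT.leaf cJ8790))))) (BT.node 8800 (BT.node 8795 (BT.node 8793 (BT.node 8792 (BT.node 8791 (BT.leaf cJ8791) (BT.leaf cJ8792)) (BT.leaf cJ8793)) (BT.node 8794 (BT.leaf cJ8794) (BT.leaf cJ8795))) (BT.node 8798 (BT.node 8797 (BT.node 8796 (BT.leaf cJ8796) (BT.leaf cJ8797)) (BT.leaf cJ8798)) (BT.node 8799 (BT.leaf cJ8799) (BT.leaf cJ8800)))) (BT.node 8805 (BT.node 8803 (BT.node 8802 (BT.node 8801 (BT.leaf cJ8801) (BT.leaf cJ8802)) (BT.leaf cJ8803)) (BT.node 8804 (BT.leaf cJ8804) (BT.leaf cJ8805))) (BT.node 8808 (BT.node 8807 (BT.node 8806 (BT.leaf cJ8806) (BT.leaf cJ8807)) (BT.leaf cJ8808)) (BT.node 8809 (BT.leaf cJ8809) (BT.leaf cJ8810)))))) (BT.node 8830 (BT.node 8820 (BT.node 8815 (BT.node 8813 (BT.node 8812 (BT.node 8811 (BT.leaf cJ8811) (BT.leaf cJ8812)) (BT.leaf cJ8813)) (BT.node 8814 (BT.leaf cJ8814) (BT.leaf cJ8815))) (BT.node 8818 (BT.node 8817 (BT.node 8816 (BT.leaf cJ8816) (BT.leaf cJ8817)) (BT.leaf cJ8818)) (BT.node 8819 (BT.leaf cJ8819) (BT.leaf cJ8820)))) (BT.node 8825 (BT.node 8823 (BT.node 8822 (BT.node 8821 (BT.leaf cJ8821) (BT.leaf cJ8822)) (BT.leaf cJ8823)) (BT.node 8824 (BT.leaf cJ8824) (BT.leaf cJ8825))) (BT.node 8828 (BT.node 8827 (BT.node 8826 (BT.leaf cJ8826) (BT.leaf cJ8827)) (BT.leaf cJ8828)) (BT.node 8829 (BT.leaf cJ8829) (BT.leaf cJ8830))))) (BT.node 8840 (BT.node 8835 (BT.node 8833 (BT.node 8832 (BT.node 8831 (BT.leaf cJ8831) (BT.leaf cJ8832)) (BT.leaf cJ8833)) (BT.node 8834 (BT.leaf cJ8834) (BT.leaf cJ8835))) (BT.node 8838 (BT.node 8837 (BT.node 8836 (BT.leaf cJ8836) (BT.leaf cJ8837)) (BT.leaf cJ8838)) (BT.node 8839 (BT.leaf cJ8839) (BT.leaf cJ8840)))) (BT.node 8845 (BT.node 8843 (BT.node 8842 (BT.node 8841 (BT.leaf cJ8841) (BT.leaf cJ8842)) (BT.leaf cJ8843)) (BT.node 8844 (BT.leaf cJ8844) (BT.leaf cJ8845))) (BT.node 8847 (BT.node 8846 (BT.leaf cJ8846) (BT.leaf cJ8847)) (BT.node 8848 (BT.leaf cJ8848) (BT.leaf cJ8849))))))) (BT.node 8888 (BT.node 8869 (BT.node 8859 (BT.node 8854 (BT.node 8852 (BT.node 8851 (BT.node 8850 (BT.leaf cJ8850) (BT.leaf cJ8851)) (BT.leaf cJ8852)) (BT.node 8853 (BT.leaf cJ8853) (BT.leaf cJ8854))) (BT.node 8857 (BT.node 8856 (BT.node 8855 (BT.leaf cJ8855) (BT.leaf cJ8856)) (BT.leaf cJ8857)) (BT.node 8858 (BT.leaf cJ8858) (BT.leaf cJ8859)))) (BT.node 8864 (BT.node 8862 (BT.node 8861 (BT.node 8860 (BT.leaf cJ8860) (BT.leaf cJ8861)) (BT.leaf cJ8862)) (BT.node 8863 (BT.leaf cJ8863) (BT.leaf cJ8864))) (BT.node 8867 (BT.node 8866 (BT.node 8865 (BT.leaf cJ8865) (BT.leaf cJ8866)) (BT.leaf cJ8867)) (BT.node 8868 (BT.leaf cJ8868) (BT.leaf cJ8869))))) (BT.node 8879 (BT.node 8874 (BT.node 8872 (BT.node 8871 (BT.node 8870 (BT.leaf cJ8870) (BT.leaf cJ8871)) (BT.leaf cJ8872)) (BT.node 8873 (BT.leaf cJ8873) (BT.leaf cJ8874))) (BT.node 8877 (BT.node 8876 (BT.node 8875 (BT.leaf cJ8875) (BT.leaf cJ8876)) (BT.leaf cJ8877)) (BT.node 8878 (BT.leaf cJ8878) (BT.leaf cJ8879)))) (BT.node 8884 (BT.node 8882 (BT.node 8881 (BT.node 8880 (BT.leaf cJ8880) (BT.leaf cJ8881)) (BT.leaf cJ8882)) (BT.node 8883 (BT.leaf cJ8883) (BT.leaf cJ8884))) (BT.node 8886 (BT.node 8885 (BT.leaf cJ8885) (BT.leaf cJ8886)) (BT.node 8887 (BT.leaf cJ8887) (BT.leaf cJ8888)))))) (BT.node 8908 (BT.node 8898 (BT.node 8893 (BT.node 8891 (BT.node 8890 (BT.node 8889 (BT.leaf cJ8889) (BT.leaf cJ8890)) (BT.leaf cJ8891)) (BT.node 8892 (BT.leaf cJ8892) (BT.leaf cJ8893))) (BT.node 8896 (BT.node 8895 (BT.node 8894 (BT.leaf cJ8894) (BT.leaf cJ8895)) (BT.leaf cJ8896)) (BT.node 8897 (BT.leaf cJ8897) (BT.leaf cJ8898)))) (BT.node 8903 (BT.node 8901 (BT.node 8900 (BT.node 8899 (BT.leaf cJ8899) (BT.leaf cJ8900)) (BT.leaf cJ8901)) (BT.node 8902 (BT.leaf cJ8902) (BT.leaf cJ8903))) (BT.node 8906 (BT.node 8905 (BT.node 8904 (BT.leaf cJ8904) (BT.leaf cJ8905)) (BT.leaf cJ8906)) (BT.node 8907 (BT.leaf cJ8907) (BT.leaf cJ8908))))) (BT.node 8918 (BT.node 8913 (BT.node 8911 (BT.node 8910 (BT.node 8909 (BT.leaf cJ8909) (BT.leaf cJ8910)) (BT.leaf cJ8911)) (BT.node 8912 (BT.leaf cJ8912) (BT.leaf cJ8913))) (BT.node 8916 (BT.node 8915 (BT.node 8914 (BT.leaf cJ8914) (BT.leaf cJ8915)) (BT.leaf cJ8916)) (BT.node 8917 (BT.leaf cJ8917) (BT.leaf cJ8918)))) (BT.node 8923 (BT.node 8921 (BT.node 8920 (BT.node 8919 (BT.leaf cJ8919) (BT.leaf cJ8920)) (BT.leaf cJ8921)) (BT.node 8922 (BT.leaf cJ8922) (BT.leaf cJ8923))) (BT.node 8925 (BT.node 8924 (BT.leaf cJ8924) (BT.leaf cJ8925)) (BT.node 8926 (BT.leaf cJ8926) (BT.leaf cJ8927)))))))) (BT.node 9005 (BT.node 8966 (BT.node 8947 (BT.node 8937 (BT.node 8932 (BT.node 8930 (BT.node 8929 (BT.node 8928 (BT.leaf cJ8928) (BT.leaf cJ8929)) (BT.leaf cJ8930)) (BT.node 8931 (BT.leaf cJ8931) (BT.leaf cJ8932))) (BT.node 8935 (BT.node 8934 (BT.node 8933 (BT.leaf cJ8933) (BT.leaf cJ8934)) (BT.leaf cJ8935)) (BT.node 8936 (BT.leaf cJ8936) (BT.leaf cJ8937)))) (BT.node 8942 (BT.node 8940 (BT.node 8939 (BT.node 8938 (BT.leaf cJ8938) (BT.leaf cJ8939)) (BT.leaf cJ8940)) (BT.node 8941 (BT.leaf cJ8941) (BT.leaf cJ8942))) (BT.node 8945 (BT.node 8944 (BT.node 8943 (BT.leaf cJ8943) (BT.leaf cJ8944)) (BT.leaf cJ8945)) (BT.node 8946 (BT.leaf cJ8946) (BT.leaf cJ8947))))) (BT.node 8957 (BT.node 8952 (BT.node 8950 (BT.node 8949 (BT.node 8948 (BT.leaf cJ8948) (BT.leaf cJ8949)) (BT.leaf cJ8950)) (BT.node 8951 (BT.leaf cJ8951) (BT.leaf cJ8952))) (BT.node 8955 (BT.node 8954 (BT.node 8953 (BT.leaf cJ8953) (BT.leaf cJ8954)) (BT.leaf cJ8955)) (BT.node 8956 (BT.leaf cJ8956) (BT.leaf cJ8957)))) (BT.node 8962 (BT.node 8960 (BT.node 8959 (BT.node 8958 (BT.leaf cJ8958) (BT.leaf cJ8959)) (BT.leaf cJ8960)) (BT.node 8961 (BT.leaf cJ8961) (BT.leaf cJ8962))) (BT.node 8964 (BT.node 8963 (BT.leaf cJ8963) (BT.leaf cJ8964)) (BT.node 8965 (BT.leaf cJ8965) (BT.leaf cJ8966)))))) (BT.node 8986 (BT.node 8976 (BT.node 8971 (BT.node 8969 (BT.node 8968 (BT.node 8967 (BT.leaf cJ8967) (BT.leaf cJ8968)) (BT.leaf cJ8969)) (BT.node 8970 (BT.leaf cJ8970) (BT.leaf cJ8971))) (BT.node 8974 (BT.node 8973 (BT.node 8972 (BT.leaf cJ8972) (BT.leaf cJ8973)) (BT.leaf cJ8974)) (BT.node 8975 (BT.leaf cJ8975) (BT.leaf cJ8976)))) (BT.node 8981 (BT.node 8979 (BT.node 8978 (BT.node 8977 (BT.leaf cJ8977) (BT.leaf cJ8978)) (BT.leaf cJ8979)) (BT.node 8980 (BT.leaf cJ8980) (BT.leaf cJ8981))) (BT.node 8984 (BT.node 8983 (BT.node 8982 (BT.leaf cJ8982) (BT.leaf cJ8983)) (BT.leaf cJ8984)) (BT.node 8985 (BT.leaf cJ8985) (BT.leaf cJ8986))))) (BT.node 8996 (BT.node 8991 (BT.node 8989 (BT.node 8988 (BT.node 8987 (BT.leaf cJ8987) (BT.leaf cJ8988)) (BT.leaf cJ8989)) (BT.node 8990 (BT.leaf cJ8990) (BT.leaf cJ8991))) (BT.node 8994 (BT.node 8993 (BT.node 8992 (BT.leaf cJ8992) (BT.leaf cJ8993)) (BT.leaf cJ8994)) (BT.node 8995 (BT.leaf cJ8995) (BT.leaf cJ8996)))) (BT.node 9001 (BT.node 8999 (BT.node 8998 (BT.node 8997 (BT.leaf cJ8997) (BT.leaf cJ8998)) (BT.leaf cJ8999)) (BT.node 9000 (BT.leaf cJ9000) (BT.leaf cJ9001))) (BT.node 9003 (BT.node 9002 (BT.leaf cJ9002) (BT.leaf cJ9003)) (BT.node 9004 (BT.leaf cJ9004) (BT.leaf cJ9005))))))) (BT.node 9044 (BT.node 9025 (BT.node 9015 (BT.node 9010 (BT.node 9008 (BT.node 9007 (BT.node 9006 (BT.leaf cJ9006) (BT.leaf cJ9007)) (BT.leaf cJ9008)) (BT.node 9009 (BT.leaf cJ9009) (BT.leaf cJ9010))) (BT.node 9013 (BT.node 9012 (BT.node 9011 (BT.leaf cJ9011) (BT.leaf cJ9012)) (BT.leaf cJ9013)) (BT.node 9014 (BT.leaf cJ9014) (BT.leaf cJ9015)))) (BT.node 9020 (BT.node 9018 (BT.node 9017 (BT.node 9016 (BT.leaf cJ9016) (BT.leaf cJ9017)) (BT.leaf cJ9018)) (BT.node 9019 (BT.leaf cJ9019) (BT.leaf cJ9020))) (BT.node 9023 (BT.node 9022 (BT.node 9021 (BT.leaf cJ9021) (BT.leaf cJ9022)) (BT.leaf cJ9023)) (BT.node 9024 (BT.leaf cJ9024) (BT.leaf cJ9025))))) (BT.node 9035 (BT.node 9030 (BT.node 9028 (BT.node 9027 (BT.node 9026 (BT.leaf cJ9026) (BT.leaf cJ9027)) (BT.leaf cJ9028)) (BT.node 9029 (BT.leaf cJ9029) (BT.leaf cJ9030))) (BT.node 9033 (BT.node 9032 (BT.node 9031 (BT.leaf cJ9031) (BT.leaf cJ9032)) (BT.leaf cJ9033)) (BT.node 9034 (BT.leaf cJ9034) (BT.leaf cJ9035)))) (BT.node 9040 (BT.node 9038 (BT.node 9037 (BT.node 9036 (BT.leaf cJ9036) (BT.leaf cJ9037)) (BT.leaf cJ9038)) (BT.node 9039 (BT.leaf cJ9039) (BT.leaf cJ9040))) (BT.node 9042 (BT.node 9041 (BT.leaf cJ9041) (BT.leaf cJ9042)) (BT.node 9043 (BT.leaf cJ9043) (BT.leaf cJ9044)))))) (BT.node 9064 (BT.node 9054 (BT.node 9049 (BT.node 9047 (BT.node 9046 (BT.node 9045 (BT.leaf cJ9045) (BT.leaf cJ9046)) (BT.leaf cJ9047)) (BT.node 9048 (BT.leaf cJ9048) (BT.leaf cJ9049))) (BT.node 9052 (BT.node 9051 (BT.node 9050 (BT.leaf cJ9050) (BT.leaf cJ9051)) (BT.leaf cJ9052)) (BT.node 9053 (BT.leaf cJ9053) (BT.leaf cJ9054)))) (BT.node 9059 (BT.node 9057 (BT.node 9056 (BT.node 9055 (BT.leaf cJ9055) (BT.leaf cJ9056)) (BT.leaf cJ9057)) (BT.node 9058 (BT.leaf cJ9058) (BT.leaf cJ9059))) (BT.node 9062 (BT.node 9061 (BT.node 9060 (BT.leaf cJ9060) (BT.leaf cJ9061)) (BT.leaf cJ9062)) (BT.node 9063 (BT.leaf cJ9063) (BT.leaf cJ9064))))) (BT.node 9074 (BT.node 9069 (BT.node 9067 (BT.node 9066 (BT.node 9065 (BT.leaf cJ9065) (BT.leaf cJ9066)) (BT.leaf cJ9067)) (BT.node 9068 (BT.leaf cJ9068) (BT.leaf cJ9069))) (BT.node 9072 (BT.node 9071 (BT.node 9070 (BT.leaf cJ9070) (BT.leaf cJ9071)) (BT.leaf cJ9072)) (BT.node 9073 (BT.leaf cJ9073) (BT.leaf cJ9074)))) (BT.node 9079 (BT.node 9077 (BT.node 9076 (BT.node 9075 (BT.leaf cJ9075) (BT.leaf cJ9076)) (BT.leaf cJ9077)) (BT.node 9078 (BT.leaf cJ9078) (BT.leaf cJ9079))) (BT.node 9081 (BT.node 9080 (BT.leaf cJ9080) (BT.leaf cJ9081)) (BT.node 9082 (BT.leaf cJ9082) (BT.leaf cJ9083))))))))) (BT.node 9240 (BT.node 9162 (BT.node 9123 (BT.node 9103 (BT.node 9093 (BT.node 9088 (BT.node 9086 (BT.node 9085 (BT.node 9084 (BT.leaf cJ9084) (BT.leaf cJ9085)) (BT.leaf cJ9086)) (BT.node 9087 (BT.leaf cJ9087) (BT.leaf cJ9088))) (BT.node 9091 (BT.node 9090 (BT.node 9089 (BT.leaf cJ9089) (BT.leaf cJ9090)) (BT.leaf cJ9091)) (BT.node 9092 (BT.leaf cJ9092) (BT.leaf cJ9093)))) (BT.node 9098 (BT.node 9096 (BT.node 9095 (BT.node 9094 (BT.leaf cJ9094) (BT.leaf cJ9095)) (BT.leaf cJ9096)) (BT.node 9097 (BT.leaf cJ9097) (BT.leaf cJ9098))) (BT.node 9101 (BT.node 9100 (BT.node 9099 (BT.leaf cJ9099) (BT.leaf cJ9100)) (BT.leaf cJ9101)) (BT.node 9102 (BT.leaf cJ9102) (BT.leaf cJ9103))))) (BT.node 9113 (BT.node 9108 (BT.node 9106 (BT.node 9105 (BT.node 9104 (BT.leaf cJ9104) (BT.leaf cJ9105)) (BT.leaf cJ9106)) (BT.node 9107 (BT.leaf cJ9107) (BT.leaf cJ9108))) (BT.node 9111 (BT.node 9110 (BT.node 9109 (BT.leaf cJ9109) (BT.leaf cJ9110)) (BT.leaf cJ9111)) (BT.node 9112 (BT.leaf cJ9112) (BT.leaf cJ9113)))) (BT.node 9118 (BT.node 9116 (BT.node 9115 (BT.node 9114 (BT.leaf cJ9114) (BT.leaf cJ9115)) (BT.leaf cJ9116)) (BT.node 9117 (BT.leaf cJ9117) (BT.leaf cJ9118))) (BT.node 9121 (BT.node 9120 (BT.node 9119 (BT.leaf cJ9119) (BT.leaf cJ9120)) (BT.leaf cJ9121)) (BT.node 9122 (BT.leaf cJ9122) (BT.leaf cJ9123)))))) (BT.node 9143 (BT.node 9133 (BT.node 9128 (BT.node 9126 (BT.node 9125 (BT.node 9124 (BT.leaf cJ9124) (BT.leaf cJ9125)) (BT.leaf cJ9126)) (BT.node 9127 (BT.leaf cJ9127) (BT.leaf cJ9128))) (BT.node 9131 (BT.node 9130 (BT.node 9129 (BT.leaf cJ9129) (BT.leaf cJ9130)) (BT.leaf cJ9131)) (BT.node 9132 (BT.leaf cJ9132) (BT.leaf cJ9133)))) (BT.node 9138 (BT.node 9136 (BT.node 9135 (BT.node 9134 (BT.leaf cJ9134) (BT.leaf cJ9135)) (BT.leaf cJ9136)) (BT.node 9137 (BT.leaf cJ9137) (BT.leaf cJ9138))) (BT.node 9141 (BT.node 9140 (BT.node 9139 (BT.leaf cJ9139) (BT.leaf cJ9140)) (BT.leaf cJ9141)) (BT.node 9142 (BT.leaf cJ9142) (BT.leaf cJ9143))))) (BT.node 9153 (BT.node 9148 (BT.node 9146 (BT.node 9145 (BT.node 9144 (BT.leaf cJ9144) (BT.leaf cJ9145)) (BT.leaf cJ9146)) (BT.node 9147 (BT.leaf cJ9147) (BT.leaf cJ9148))) (BT.node 9151 (BT.node 9150 (BT.node 9149 (BT.leaf cJ9149) (BT.leaf cJ9150)) (BT.leaf cJ9151)) (BT.node 9152 (BT.leaf cJ9152) (BT.leaf cJ9153)))) (BT.node 9158 (BT.node 9156 (BT.node 9155 (BT.node 9154 (BT.leaf cJ9154) (BT.leaf cJ9155)) (BT.leaf cJ9156)) (BT.node 9157 (BT.leaf cJ9157) (BT.leaf cJ9158))) (BT.node 9160 (BT.node 9159 (BT.leaf cJ9159) (BT.leaf cJ9160)) (BT.node 9161 (BT.leaf cJ9161) (BT.leaf cJ9162))))))) (BT.node 9201 (BT.node 9182 (BT.node 9172 (BT.node 9167 (BT.node 9165 (BT.node 9164 (BT.node 9163 (BT.leaf cJ9163) (BT.leaf cJ9164)) (BT.leaf cJ9165)) (BT.node 9166 (BT.leaf cJ9166) (BT.leaf cJ9167))) (BT.node 9170 (BT.node 9169 (BT.node 9168 (BT.leaf cJ9168) (BT.leaf cJ9169)) (BT.leaf cJ9170)) (BT.node 9171 (BT.leaf cJ9171) (BT.leaf cJ9172)))) (BT.node 9177 (BT.node 9175 (BT.node 9174 (BT.node 9173 (BT.leaf cJ9173) (BT.leaf cJ9174)) (BT.leaf cJ9175)) (BT.node 9176 (BT.leaf cJ9176) (BT.leaf cJ9177))) (BT.node 9180 (BT.node 9179 (BT.node 9178 (BT.leaf cJ9178) (BT.leaf cJ9179)) (BT.leaf cJ9180)) (BT.node 9181 (BT.leaf cJ9181) (BT.leaf cJ9182))))) (BT.node 9192 (BT.node 9187 (BT.node 9185 (BT.node 9184 (BT.node 9183 (BT.leaf cJ9183) (BT.leaf cJ9184)) (BT.leaf cJ9185)) (BT.node 9186 (BT.leaf cJ9186) (BT.leaf cJ9187))) (BT.node 9190 (BT.node 9189 (BT.node 9188 (BT.leaf cJ9188) (BT.leaf cJ9189)) (BT.leaf cJ9190)) (BT.node 9191 (BT.leaf cJ9191) (BT.leaf cJ9192)))) (BT.node 9197 (BT.node 9195 (BT.node 9194 (BT.node 9193 (BT.leaf cJ9193) (BT.leaf cJ9194)) (BT.leaf cJ9195)) (BT.node 9196 (BT.leaf cJ9196) (BT.leaf cJ9197))) (BT.node 9199 (BT.node 9198 (BT.leaf cJ9198) (BT.leaf cJ9199)) (BT.node 9200 (BT.leaf cJ9200) (BT.leaf cJ9201)))))) (BT.node 9221 (BT.node 9211 (BT.node 9206 (BT.node 9204 (BT.node 9203 (BT.node 9202 (BT.leaf cJ9202) (BT.leaf cJ9203)) (BT.leaf cJ9204)) (BT.node 9205 (BT.leaf cJ9205) (BT.leaf cJ9206))) (BT.node 9209 (BT.node 9208 (BT.node 9207 (BT.leaf cJ9207) (BT.leaf cJ9208)) (BT.leaf cJ9209)) (BT.node 9210 (BT.leaf cJ9210) (BT.leaf cJ9211)))) (BT.node 9216 (BT.node 9214 (BT.node 9213 (BT.node 9212 (BT.leaf cJ9212) (BT.leaf cJ9213)) (BT.leaf cJ9214)) (BT.node 9215 (BT.leaf cJ9215) (BT.leaf cJ9216))) (BT.node 9219 (BT.node 9218 (BT.node 9217 (BT.leaf cJ9217) (BT.leaf cJ9218)) (BT.leaf cJ9219)) (BT.node 9220 (BT.leaf cJ9220) (BT.leaf cJ9221))))) (BT.node 9231 (BT.node 9226 (BT.node 9224 (BT.node 9223 (BT.node 9222 (BT.leaf cJ9222) (BT.leaf cJ9223)) (BT.leaf cJ9224)) (BT.node 9225 (BT.leaf cJ9225) (BT.leaf cJ9226))) (BT.node 9229 (BT.node 9228 (BT.node 9227 (BT.leaf cJ9227) (BT.leaf cJ9228)) (BT.leaf cJ9229)) (BT.node 9230 (BT.leaf cJ9230) (BT.leaf cJ9231)))) (BT.node 9236 (BT.node 9234 (BT.node 9233 (BT.node 9232 (BT.leaf cJ9232) (BT.leaf cJ9233)) (BT.leaf cJ9234)) (BT.node 9235 (BT.leaf cJ9235) (BT.leaf cJ9236))) (BT.node 9238 (BT.node 9237 (BT.leaf cJ9237) (BT.leaf cJ9238)) (BT.node 9239 (BT.leaf cJ9239) (BT.leaf cJ9240)))))))) (BT.node 9318 (BT.node 9279 (BT.node 9260 (BT.node 9250 (BT.node 9245 (BT.node 9243 (BT.node 9242 (BT.node 9241 (BT.leaf cJ9241) (BT.leaf cJ9242)) (BT.leaf cJ9243)) (BT.node 9244 (BT.leaf cJ9244) (BT.leaf cJ9245))) (BT.node 9248 (BT.node 9247 (BT.node 9246 (BT.leaf cJ9246) (BT.leaf cJ9247)) (BT.leaf cJ9248)) (BT.node 9249 (BT.leaf cJ9249) (BT.leaf cJ9250)))) (BT.node 9255 (BT.node 9253 (BT.node 9252 (BT.node 9251 (BT.leaf cJ9251) (BT.leaf cJ9252)) (BT.leaf cJ9253)) (BT.node 9254 (BT.leaf cJ9254) (BT.leaf cJ9255))) (BT.node 9258 (BT.node 9257 (BT.node 9256 (BT.leaf cJ9256) (BT.leaf cJ9257)) (BT.leaf cJ9258)) (BT.node 9259 (BT.leaf cJ9259) (BT.leaf cJ9260))))) (BT.node 9270 (BT.node 9265 (BT.node 9263 (BT.node 9262 (BT.node 9261 (BT.leaf cJ9261) (BT.leaf cJ9262)) (BT.leaf cJ9263)) (BT.node 9264 (BT.leaf cJ9264) (BT.leaf cJ9265))) (BT.node 9268 (BT.node 9267 (BT.node 9266 (BT.leaf cJ9266) (BT.leaf cJ9267)) (BT.leaf cJ9268)) (BT.node 9269 (BT.leaf cJ9269) (BT.leaf cJ9270)))) (BT.node 9275 (BT.node 9273 (BT.node 9272 (BT.node 9271 (BT.leaf cJ9271) (BT.leaf cJ9272)) (BT.leaf cJ9273)) (BT.node 9274 (BT.leaf cJ9274) (BT.leaf cJ9275))) (BT.node 9277 (BT.node 9276 (BT.leaf cJ9276) (BT.leaf cJ9277)) (BT.node 9278 (BT.leaf cJ9278) (BT.leaf cJ9279)))))) (BT.node 9299 (BT.node 9289 (BT.node 9284 (BT.node 9282 (BT.node 9281 (BT.node 9280 (BT.leaf cJ9280) (BT.leaf cJ9281)) (BT.leaf cJ9282)) (BT.node 9283 (BT.leaf cJ9283) (BT.leaf cJ9284))) (BT.node 9287 (BT.node 9286 (BT.node 9285 (BT.leaf cJ9285) (BT.leaf cJ9286)) (BT.leaf cJ9287)) (BT.node 9288 (BT.leaf cJ9288) (BT.leaf cJ9289)))) (BT.node 9294 (BT.node 9292 (BT.node 9291 (BT.node 9290 (BT.leaf cJ9290) (BT.leaf cJ9291)) (BT.leaf cJ9292)) (BT.node 9293 (BT.leaf cJ9293) (BT.leaf cJ9294))) (BT.node 9297 (BT.node 9296 (BT.node 9295 (BT.leaf cJ9295) (BT.leaf cJ9296)) (BT.leaf cJ9297)) (BT.node 9298 (BT.leaf cJ9298) (BT.leaf cJ9299))))) (BT.node 9309 (BT.node 9304 (BT.node 9302 (BT.node 9301 (BT.node 9300 (BT.leaf cJ9300) (BT.leaf cJ9301)) (BT.leaf cJ9302)) (BT.node 9303 (BT.leaf cJ9303) (BT.leaf cJ9304))) (BT.node 9307 (BT.node 9306 (BT.node 9305 (BT.leaf cJ9305) (BT.leaf cJ9306)) (BT.leaf cJ9307)) (BT.node 9308 (BT.leaf cJ9308) (BT.leaf cJ9309)))) (BT.node 9314 (BT.node 9312 (BT.node 9311 (BT.node 9310 (BT.leaf cJ9310) (BT.leaf cJ9311)) (BT.leaf cJ9312)) (BT.node 9313 (BT.leaf cJ9313) (BT.leaf cJ9314))) (BT.node 9316 (BT.node 9315 (BT.leaf cJ9315) (BT.leaf cJ9316)) (BT.node 9317 (BT.leaf cJ9317) (BT.leaf cJ9318))))))) (BT.node 9357 (BT.node 9338 (BT.node 9328 (BT.node 9323 (BT.node 9321 (BT.node 9320 (BT.node 9319 (BT.leaf cJ9319) (BT.leaf cJ9320)) (BT.leaf cJ9321)) (BT.node 9322 (BT.leaf cJ9322) (BT.leaf cJ9323))) (BT.node 9326 (BT.node 9325 (BT.node 9324 (BT.leaf cJ9324) (BT.leaf cJ9325)) (BT.leaf cJ9326)) (BT.node 9327 (BT.leaf cJ9327) (BT.leaf cJ9328)))) (BT.node 9333 (BT.node 9331 (BT.node 9330 (BT.node 9329 (BT.leaf cJ9329) (BT.leaf cJ9330)) (BT.leaf cJ9331)) (BT.node 9332 (BT.leaf cJ9332) (BT.leaf cJ9333))) (BT.node 9336 (BT.node 9335 (BT.node 9334 (BT.leaf cJ9334) (BT.leaf cJ9335)) (BT.leaf cJ9336)) (BT.node 9337 (BT.leaf cJ9337) (BT.leaf cJ9338))))) (BT.node 9348 (BT.node 9343 (BT.node 9341 (BT.node 9340 (BT.node 9339 (BT.leaf cJ9339) (BT.leaf cJ9340)) (BT.leaf cJ9341)) (BT.node 9342 (BT.leaf cJ9342) (BT.leaf cJ9343))) (BT.node 9346 (BT.node 9345 (BT.node 9344 (BT.leaf cJ9344) (BT.leaf cJ9345)) (BT.leaf cJ9346)) (BT.node 9347 (BT.leaf cJ9347) (BT.leaf cJ9348)))) (BT.node 9353 (BT.node 9351 (BT.node 9350 (BT.node 9349 (BT.leaf cJ9349) (BT.leaf cJ9350)) (BT.leaf cJ9351)) (BT.node 9352 (BT.leaf cJ9352) (BT.leaf cJ9353))) (BT.node 9355 (BT.node 9354 (BT.leaf cJ9354) (BT.leaf cJ9355)) (BT.node 9356 (BT.leaf cJ9356) (BT.leaf cJ9357)))))) (BT.node 9377 (BT.node 9367 (BT.node 9362 (BT.node 9360 (BT.node 9359 (BT.node 9358 (BT.leaf cJ9358) (BT.leaf cJ9359)) (BT.leaf cJ9360)) (BT.node 9361 (BT.leaf cJ9361) (BT.leaf cJ9362))) (BT.node 9365 (BT.node 9364 (BT.node 9363 (BT.leaf cJ9363) (BT.leaf cJ9364)) (BT.leaf cJ9365)) (BT.node 9366 (BT.leaf cJ9366) (BT.leaf cJ9367)))) (BT.node 9372 (BT.node 9370 (BT.node 9369 (BT.node 9368 (BT.leaf cJ9368) (BT.leaf cJ9369)) (BT.leaf cJ9370)) (BT.node 9371 (BT.leaf cJ9371) (BT.leaf cJ9372))) (BT.node 9375 (BT.node 9374 (BT.node 9373 (BT.leaf cJ9373) (BT.leaf cJ9374)) (BT.leaf cJ9375)) (BT.node 9376 (BT.leaf cJ9376) (BT.leaf cJ9377))))) (BT.node 9387 (BT.node 9382 (BT.node 9380 (BT.node 9379 (BT.node 9378 (BT.leaf cJ9378) (BT.leaf cJ9379)) (BT.leaf cJ9380)) (BT.node 9381 (BT.leaf cJ9381) (BT.leaf cJ9382))) (BT.node 9385 (BT.node 9384 (BT.node 9383 (BT.leaf cJ9383) (BT.leaf cJ9384)) (BT.leaf cJ9385)) (BT.node 9386 (BT.leaf cJ9386) (BT.leaf cJ9387)))) (BT.node 9392 (BT.node 9390 (BT.node 9389 (BT.node 9388 (BT.leaf cJ9388) (BT.leaf cJ9389)) (BT.leaf cJ9390)) (BT.node 9391 (BT.leaf cJ9391) (BT.leaf cJ9392))) (BT.node 9394 (BT.node 9393 (BT.leaf cJ9393) (BT.leaf cJ9394)) (BT.node 9395 (BT.leaf cJ9395) (BT.leaf cJ9396)))))))))) (BT.node 9709 (BT.node 9553 (BT.node 9475 (BT.node 9436 (BT.node 9416 (BT.node 9406 (BT.node 9401 (BT.node 9399 (BT.node 9398 (BT.node 9397 (BT.leaf cJ9397) (BT.leaf cJ9398)) (BT.leaf cJ9399)) (BT.node 9400 (BT.leaf cJ9400) (BT.leaf cJ9401))) (BT.node 9404 (BT.node 9403 (BT.node 9402 (BT.leaf cJ9402) (BT.leaf cJ9403)) (BT.leaf cJ9404)) (BT.node 9405 (BT.leaf cJ9405) (BT.leaf cJ9406)))) (BT.node 9411 (BT.node 9409 (BT.node 9408 (BT.node 9407 (BT.leaf cJ9407) (BT.leaf cJ9408)) (BT.leaf cJ9409)) (BT.node 9410 (BT.leaf cJ9410) (BT.leaf cJ9411))) (BT.node 9414 (BT.node 9413 (BT.node 9412 (BT.leaf cJ9412) (BT.leaf cJ9413)) (BT.leaf cJ9414)) (BT.node 9415 (BT.leaf cJ9415) (BT.leaf cJ9416))))) (BT.node 9426 (BT.node 9421 (BT.node 9419 (BT.node 9418 (BT.node 9417 (BT.leaf cJ9417) (BT.leaf cJ9418)) (BT.leaf cJ9419)) (BT.node 9420 (BT.leaf cJ9420) (BT.leaf cJ9421))) (BT.node 9424 (BT.node 9423 (BT.node 9422 (BT.leaf cJ9422) (BT.leaf cJ9423)) (BT.leaf cJ9424)) (BT.node 9425 (BT.leaf cJ9425) (BT.leaf cJ9426)))) (BT.node 9431 (BT.node 9429 (BT.node 9428 (BT.node 9427 (BT.leaf cJ9427) (BT.leaf cJ9428)) (BT.leaf cJ9429)) (BT.node 9430 (BT.leaf cJ9430) (BT.leaf cJ9431))) (BT.node 9434 (BT.node 9433 (BT.node 9432 (BT.leaf cJ9432) (BT.leaf cJ9433)) (BT.leaf cJ9434)) (BT.node 9435 (BT.leaf cJ9435) (BT.leaf cJ9436)))))) (BT.node 9456 (BT.node 9446 (BT.node 9441 (BT.node 9439 (BT.node 9438 (BT.node 9437 (BT.leaf cJ9437) (BT.leaf cJ9438)) (BT.leaf cJ9439)) (BT.node 9440 (BT.leaf cJ9440) (BT.leaf cJ9441))) (BT.node 9444 (BT.node 9443 (BT.node 9442 (BT.leaf cJ9442) (BT.leaf cJ9443)) (BT.leaf cJ9444)) (BT.node 9445 (BT.leaf cJ9445) (BT.leaf cJ9446)))) (BT.node 9451 (BT.node 9449 (BT.node 9448 (BT.node 9447 (BT.leaf cJ9447) (BT.leaf cJ9448)) (BT.leaf cJ9449)) (BT.node 9450 (BT.leaf cJ9450) (BT.leaf cJ9451))) (BT.node 9454 (BT.node 9453 (BT.node 9452 (BT.leaf cJ9452) (BT.leaf cJ9453)) (BT.leaf cJ9454)) (BT.node 9455 (BT.leaf cJ9455) (BT.leaf cJ9456))))) (BT.node 9466 (BT.node 9461 (BT.node 9459 (BT.node 9458 (BT.node 9457 (BT.leaf cJ9457) (BT.leaf cJ9458)) (BT.leaf cJ9459)) (BT.node 9460 (BT.leaf cJ9460) (BT.leaf cJ9461))) (BT.node 9464 (BT.node 9463 (BT.node 9462 (BT.leaf cJ9462) (BT.leaf cJ9463)) (BT.leaf cJ9464)) (BT.node 9465 (BT.leaf cJ9465) (BT.leaf cJ9466)))) (BT.node 9471 (BT.node 9469 (BT.node 9468 (BT.node 9467 (BT.leaf cJ9467) (BT.leaf cJ9468)) (BT.leaf cJ9469)) (BT.node 9470 (BT.leaf cJ9470) (BT.leaf cJ9471))) (BT.node 9473 (BT.node 9472 (BT.leaf cJ9472) (BT.leaf cJ9473)) (BT.node 9474 (BT.leaf cJ9474) (BT.leaf cJ9475))))))) (BT.node 9514 (BT.node 9495 (BT.node 9485 (BT.node 9480 (BT.node 9478 (BT.node 9477 (BT.node 9476 (BT.leaf cJ9476) (BT.leaf cJ9477)) (BT.leaf cJ9478)) (BT.node 9479 (BT.leaf cJ9479) (BT.leaf cJ9480))) (BT.node 9483 (BT.node 9482 (BT.node 9481 (BT.leaf cJ9481) (BT.leaf cJ9482)) (BT.leaf cJ9483)) (BT.node 9484 (BT.leaf cJ9484) (BT.leaf cJ9485)))) (BT.node 9490 (BT.node 9488 (BT.node 9487 (BT.node 9486 (BT.leaf cJ9486) (BT.leaf cJ9487)) (BT.leaf cJ9488)) (BT.node 9489 (BT.leaf cJ9489) (BT.leaf cJ9490))) (BT.node 9493 (BT.node 9492 (BT.node 9491 (BT.leaf cJ9491) (BT.leaf cJ9492)) (BT.leaf cJ9493)) (BT.node 9494 (BT.leaf cJ9494) (BT.leaf cJ9495))))) (BT.node 9505 (BT.node 9500 (BT.node 9498 (BT.node 9497 (BT.node 9496 (BT.leaf cJ9496) (BT.leaf cJ9497)) (BT.leaf cJ9498)) (BT.node 9499 (BT.leaf cJ9499) (BT.leaf cJ9500))) (BT.node 9503 (BT.node 9502 (BT.node 9501 (BT.leaf cJ9501) (BT.leaf cJ9502)) (BT.leaf cJ9503)) (BT.node 9504 (BT.leaf cJ9504) (BT.leaf cJ9505)))) (BT.node 9510 (BT.node 9508 (BT.node 9507 (BT.node 9506 (BT.leaf cJ9506) (BT.leaf cJ9507)) (BT.leaf cJ9508)) (BT.node 9509 (BT.leaf cJ9509) (BT.leaf cJ9510))) (BT.node 9512 (BT.node 9511 (BT.leaf cJ9511) (BT.leaf cJ9512)) (BT.node 9513 (BT.leaf cJ9513) (BT.leaf cJ9514)))))) (BT.node 9534 (BT.node 9524 (BT.node 9519 (BT.node 9517 (BT.node 9516 (BT.node 9515 (BT.leaf cJ9515) (BT.leaf cJ9516)) (BT.leaf cJ9517)) (BT.node 9518 (BT.leaf cJ9518) (BT.leaf cJ9519))) (BT.node 9522 (BT.node 9521 (BT.node 9520 (BT.leaf cJ9520) (BT.leaf cJ9521)) (BT.leaf cJ9522)) (BT.node 9523 (BT.leaf cJ9523) (BT.leaf cJ9524)))) (BT.node 9529 (BT.node 9527 (BT.node 9526 (BT.node 9525 (BT.leaf cJ9525) (BT.leaf cJ9526)) (BT.leaf cJ9527)) (BT.node 9528 (BT.leaf cJ9528) (BT.leaf cJ9529))) (BT.node 9532 (BT.node 9531 (BT.node 9530 (BT.leaf cJ9530) (BT.leaf cJ9531)) (BT.leaf cJ9532)) (BT.node 9533 (BT.leaf cJ9533) (BT.leaf cJ9534))))) (BT.node 9544 (BT.node 9539 (BT.node 9537 (BT.node 9536 (BT.node 9535 (BT.leaf cJ9535) (BT.leaf cJ9536)) (BT.leaf cJ9537)) (BT.node 9538 (BT.leaf cJ9538) (BT.leaf cJ9539))) (BT.node 9542 (BT.node 9541 (BT.node 9540 (BT.leaf cJ9540) (BT.leaf cJ9541)) (BT.leaf cJ9542)) (BT.node 9543 (BT.leaf cJ9543) (BT.leaf cJ9544)))) (BT.node 9549 (BT.node 9547 (BT.node 9546 (BT.node 9545 (BT.leaf cJ9545) (BT.leaf cJ9546)) (BT.leaf cJ9547)) (BT.node 9548 (BT.leaf cJ9548) (BT.leaf cJ9549))) (BT.node 9551 (BT.node 9550 (BT.leaf cJ9550) (BT.leaf cJ9551)) (BT.node 9552 (BT.leaf cJ9552) (BT.leaf cJ9553)))))))) (BT.node 9631 (BT.node 9592 (BT.node 9573 (BT.node 9563 (BT.node 9558 (BT.node 9556 (BT.node 9555 (BT.node 9554 (BT.leaf cJ9554) (BT.leaf cJ9555)) (BT.leaf cJ9556)) (BT.node 9557 (BT.leaf cJ9557) (BT.leaf cJ9558))) (BT.node 9561 (BT.node 9560 (BT.node 9559 (BT.leaf cJ9559) (BT.leaf cJ9560)) (BT.leaf cJ9561)) (BT.node 9562 (BT.leaf cJ9562) (BT.leaf cJ9563)))) (BT.node 9568 (BT.node 9566 (BT.node 9565 (BT.node 9564 (BT.leaf cJ9564) (BT.leaf cJ9565)) (BT.leaf cJ9566)) (BT.node 9567 (BT.leaf cJ9567) (BT.leaf cJ9568))) (BT.node 9571 (BT.node 9570 (BT.node 9569 (BT.leaf cJ9569) (BT.leaf cJ9570)) (BT.leaf cJ9571)) (BT.node 9572 (BT.leaf cJ9572) (BT.leaf cJ9573))))) (BT.node 9583 (BT.node 9578 (BT.node 9576 (BT.node 9575 (BT.node 9574 (BT.leaf cJ9574) (BT.leaf cJ9575)) (BT.leaf cJ9576)) (BT.node 9577 (BT.leaf cJ9577) (BT.leaf cJ9578))) (BT.node 9581 (BT.node 9580 (BT.node 9579 (BT.leaf cJ9579) (BT.leaf cJ9580)) (BT.leaf cJ9581)) (BT.node 9582 (BT.leaf cJ9582) (BT.leaf cJ9583)))) (BT.node 9588 (BT.node 9586 (BT.node 9585 (BT.node 9584 (BT.leaf cJ9584) (BT.leaf cJ9585)) (BT.leaf cJ9586)) (BT.node 9587 (BT.leaf cJ9587) (BT.leaf cJ9588))) (BT.node 9590 (BT.node 9589 (BT.leaf cJ9589) (BT.leaf cJ9590)) (BT.node 9591 (BT.leaf cJ9591) (BT.leaf cJ9592)))))) (BT.node 9612 (BT.node 9602 (BT.node 9597 (BT.node 9595 (BT.node 9594 (BT.node 9593 (BT.leaf cJ9593) (BT.leaf cJ9594)) (BT.leaf cJ9595)) (BT.node 9596 (BT.leaf cJ9596) (BT.leaf cJ9597))) (BT.node 9600 (BT.node 9599 (BT.node 9598 (BT.leaf cJ9598) (BT.leaf cJ9599)) (BT.leaf cJ9600)) (BT.node 9601 (BT.leaf cJ9601) (BT.leaf cJ9602)))) (BT.node 9607 (BT.node 9605 (BT.node 9604 (BT.node 9603 (BT.leaf cJ9603) (BT.leaf cJ9604)) (BT.leaf cJ9605)) (BT.node 9606 (BT.leaf cJ9606) (BT.leaf cJ9607))) (BT.node 9610 (BT.node 9609 (BT.node 9608 (BT.leaf cJ9608) (BT.leaf cJ9609)) (BT.leaf cJ9610)) (BT.node 9611 (BT.leaf cJ9611) (BT.leaf cJ9612))))) (BT.node 9622 (BT.node 9617 (BT.node 9615 (BT.node 9614 (BT.node 9613 (BT.leaf cJ9613) (BT.leaf cJ9614)) (BT.leaf cJ9615)) (BT.node 9616 (BT.leaf cJ9616) (BT.leaf cJ9617))) (BT.node 9620 (BT.node 9619 (BT.node 9618 (BT.leaf cJ9618) (BT.leaf cJ9619)) (BT.leaf cJ9620)) (BT.node 9621 (BT.leaf cJ9621) (BT.leaf cJ9622)))) (BT.node 9627 (BT.node 9625 (BT.node 9624 (BT.node 9623 (BT.leaf cJ9623) (BT.leaf cJ9624)) (BT.leaf cJ9625)) (BT.node 9626 (BT.leaf cJ9626) (BT.leaf cJ9627))) (BT.node 9629 (BT.node 9628 (BT.leaf cJ9628) (BT.leaf cJ9629)) (BT.node 9630 (BT.leaf cJ9630) (BT.leaf cJ9631))))))) (BT.node 9670 (BT.node 9651 (BT.node 9641 (BT.node 9636 (BT.node 9634 (BT.node 9633 (BT.node 9632 (BT.leaf cJ9632) (BT.leaf cJ9633)) (BT.leaf cJ9634)) (BT.node 9635 (BT.leaf cJ9635) (BT.leaf cJ9636))) (BT.node 9639 (BT.node 9638 (BT.node 9637 (BT.leaf cJ9637) (BT.leaf cJ9638)) (BT.leaf cJ9639)) (BT.node 9640 (BT.leaf cJ9640) (BT.leaf cJ9641)))) (BT.node 9646 (BT.node 9644 (BT.node 9643 (BT.node 9642 (BT.leaf cJ9642) (BT.leaf cJ9643)) (BT.leaf cJ9644)) (BT.node 9645 (BT.leaf cJ9645) (BT.leaf cJ9646))) (BT.node 9649 (BT.node 9648 (BT.node 9647 (BT.leaf cJ9647) (BT.leaf cJ9648)) (BT.leaf cJ9649)) (BT.node 9650 (BT.leaf cJ9650) (BT.leaf cJ9651))))) (BT.node 9661 (BT.node 9656 (BT.node 9654 (BT.node 9653 (BT.node 9652 (BT.leaf cJ9652) (BT.leaf cJ9653)) (BT.leaf cJ9654)) (BT.node 9655 (BT.leaf cJ9655) (BT.leaf cJ9656))) (BT.node 9659 (BT.node 9658 (BT.node 9657 (BT.leaf cJ9657) (BT.leaf cJ9658)) (BT.leaf cJ9659)) (BT.node 9660 (BT.leaf cJ9660) (BT.leaf cJ9661)))) (BT.node 9666 (BT.node 9664 (BT.node 9663 (BT.node 9662 (BT.leaf cJ9662) (BT.leaf cJ9663)) (BT.leaf cJ9664)) (BT.node 9665 (BT.leaf cJ9665) (BT.leaf cJ9666))) (BT.node 9668 (BT.node 9667 (BT.leaf cJ9667) (BT.leaf cJ9668)) (BT.node 9669 (BT.leaf cJ9669) (BT.leaf cJ9670)))))) (BT.node 9690 (BT.node 9680 (BT.node 9675 (BT.node 9673 (BT.node 9672 (BT.node 9671 (BT.leaf cJ9671) (BT.leaf cJ9672)) (BT.leaf cJ9673)) (BT.node 9674 (BT.leaf cJ9674) (BT.leaf cJ9675))) (BT.node 9678 (BT.node 9677 (BT.node 9676 (BT.leaf cJ9676) (BT.leaf cJ9677)) (BT.leaf cJ9678)) (BT.node 9679 (BT.leaf cJ9679) (BT.leaf cJ9680)))) (BT.node 9685 (BT.node 9683 (BT.node 9682 (BT.node 9681 (BT.leaf cJ9681) (BT.leaf cJ9682)) (BT.leaf cJ9683)) (BT.node 9684 (BT.leaf cJ9684) (BT.leaf cJ9685))) (BT.node 9688 (BT.node 9687 (BT.node 9686 (BT.leaf cJ9686) (BT.leaf cJ9687)) (BT.leaf cJ9688)) (BT.node 9689 (BT.leaf cJ9689) (BT.leaf cJ9690))))) (BT.node 9700 (BT.node 9695 (BT.node 9693 (BT.node 9692 (BT.node 9691 (BT.leaf cJ9691) (BT.leaf cJ9692)) (BT.leaf cJ9693)) (BT.node 9694 (BT.leaf cJ9694) (BT.leaf cJ9695))) (BT.node 9698 (BT.node 9697 (BT.node 9696 (BT.leaf cJ9696) (BT.leaf cJ9697)) (BT.leaf cJ9698)) (BT.node 9699 (BT.leaf cJ9699) (BT.leaf cJ9700)))) (BT.node 9705 (BT.node 9703 (BT.node 9702 (BT.node 9701 (BT.leaf cJ9701) (BT.leaf cJ9702)) (BT.leaf cJ9703)) (BT.node 9704 (BT.leaf cJ9704) (BT.leaf cJ9705))) (BT.node 9707 (BT.node 9706 (BT.leaf cJ9706) (BT.leaf cJ9707)) (BT.node 9708 (BT.leaf cJ9708) (BT.leaf cJ9709))))))))) (BT.node 9866 (BT.node 9788 (BT.node 9749 (BT.node 9729 (BT.node 9719 (BT.node 9714 (BT.node 9712 (BT.node 9711 (BT.node 9710 (BT.leaf cJ9710) (BT.leaf cJ9711)) (BT.leaf cJ9712)) (BT.node 9713 (BT.leaf cJ9713) (BT.leaf cJ9714))) (BT.node 9717 (BT.node 9716 (BT.node 9715 (BT.leaf cJ9715) (BT.leaf cJ9716)) (BT.leaf cJ9717)) (BT.node 9718 (BT.leaf cJ9718) (BT.leaf cJ9719)))) (BT.node 9724 (BT.node 9722 (BT.node 9721 (BT.node 9720 (BT.leaf cJ9720) (BT.leaf cJ9721)) (BT.leaf cJ9722)) (BT.node 9723 (BT.leaf cJ9723) (BT.leaf cJ9724))) (BT.node 9727 (BT.node 9726 (BT.node 9725 (BT.leaf cJ9725) (BT.leaf cJ9726)) (BT.leaf cJ9727)) (BT.node 9728 (BT.leaf cJ9728) (BT.leaf cJ9729))))) (BT.node 9739 (BT.node 9734 (BT.node 9732 (BT.node 9731 (BT.node 9730 (BT.leaf cJ9730) (BT.leaf cJ9731)) (BT.leaf cJ9732)) (BT.node 9733 (BT.leaf cJ9733) (BT.leaf cJ9734))) (BT.node 9737 (BT.node 9736 (BT.node 9735 (BT.leaf cJ9735) (BT.leaf cJ9736)) (BT.leaf cJ9737)) (BT.node 9738 (BT.leaf cJ9738) (BT.leaf cJ9739)))) (BT.node 9744 (BT.node 9742 (BT.node 9741 (BT.node 9740 (BT.leaf cJ9740) (BT.leaf cJ9741)) (BT.leaf cJ9742)) (BT.node 9743 (BT.leaf cJ9743) (BT.leaf cJ9744))) (BT.node 9747 (BT.node 9746 (BT.node 9745 (BT.leaf cJ9745) (BT.leaf cJ9746)) (BT.leaf cJ9747)) (BT.node 9748 (BT.leaf cJ9748) (BT.leaf cJ9749)))))) (BT.node 9769 (BT.node 9759 (BT.node 9754 (BT.node 9752 (BT.node 9751 (BT.node 9750 (BT.leaf cJ9750) (BT.leaf cJ9751)) (BT.leaf cJ9752)) (BT.node 9753 (BT.leaf cJ9753) (BT.leaf cJ9754))) (BT.node 9757 (BT.node 9756 (BT.node 9755 (BT.leaf cJ9755) (BT.leaf cJ9756)) (BT.leaf cJ9757)) (BT.node 9758 (BT.leaf cJ9758) (BT.leaf cJ9759)))) (BT.node 9764 (BT.node 9762 (BT.node 9761 (BT.node 9760 (BT.leaf cJ9760) (BT.leaf cJ9761)) (BT.leaf cJ9762)) (BT.node 9763 (BT.leaf cJ9763) (BT.leaf cJ9764))) (BT.node 9767 (BT.node 9766 (BT.node 9765 (BT.leaf cJ9765) (BT.leaf cJ9766)) (BT.leaf cJ9767)) (BT.node 9768 (BT.leaf cJ9768) (BT.leaf cJ9769))))) (BT.node 9779 (BT.node 9774 (BT.node 9772 (BT.node 9771 (BT.node 9770 (BT.leaf cJ9770) (BT.leaf cJ9771)) (BT.leaf cJ9772)) (BT.node 9773 (BT.leaf cJ9773) (BT.leaf cJ9774))) (BT.node 9777 (BT.node 9776 (BT.node 9775 (BT.leaf cJ9775) (BT.leaf cJ9776)) (BT.leaf cJ9777)) (BT.node 9778 (BT.leaf cJ9778) (BT.leaf cJ9779)))) (BT.node 9784 (BT.node 9782 (BT.node 9781 (BT.node 9780 (BT.leaf cJ9780) (BT.leaf cJ9781)) (BT.leaf cJ9782)) (BT.node 9783 (BT.leaf cJ9783) (BT.leaf cJ9784))) (BT.node 9786 (BT.node 9785 (BT.leaf cJ9785) (BT.leaf cJ9786)) (BT.node 9787 (BT.leaf cJ9787) (BT.leaf cJ9788))))))) (BT.node 9827 (BT.node 9808 (BT.node 9798 (BT.node 9793 (BT.node 9791 (BT.node 9790 (BT.node 9789 (BT.leaf cJ9789) (BT.leaf cJ9790)) (BT.leaf cJ9791)) (BT.node 9792 (BT.leaf cJ9792) (BT.leaf cJ9793))) (BT.node 9796 (BT.node 9795 (BT.node 9794 (BT.leaf cJ9794) (BT.leaf cJ9795)) (BT.leaf cJ9796)) (BT.node 9797 (BT.leaf cJ9797) (BT.leaf cJ9798)))) (BT.node 9803 (BT.node 9801 (BT.node 9800 (BT.node 9799 (BT.leaf cJ9799) (BT.leaf cJ9800)) (BT.leaf cJ9801)) (BT.node 9802 (BT.leaf cJ9802) (BT.leaf cJ9803))) (BT.node 9806 (BT.node 9805 (BT.node 9804 (BT.leaf cJ9804) (BT.leaf cJ9805)) (BT.leaf cJ9806)) (BT.node 9807 (BT.leaf cJ9807) (BT.leaf cJ9808))))) (BT.node 9818 (BT.node 9813 (BT.node 9811 (BT.node 9810 (BT.node 9809 (BT.leaf cJ9809) (BT.leaf cJ9810)) (BT.leaf cJ9811)) (BT.node 9812 (BT.leaf cJ9812) (BT.leaf cJ9813))) (BT.node 9816 (BT.node 9815 (BT.node 9814 (BT.leaf cJ9814) (BT.leaf cJ9815)) (BT.leaf cJ9816)) (BT.node 9817 (BT.leaf cJ9817) (BT.leaf cJ9818)))) (BT.node 9823 (BT.node 9821 (BT.node 9820 (BT.node 9819 (BT.leaf cJ9819) (BT.leaf cJ9820)) (BT.leaf cJ9821)) (BT.node 9822 (BT.leaf cJ9822) (BT.leaf cJ9823))) (BT.node 9825 (BT.node 9824 (BT.leaf cJ9824) (BT.leaf cJ9825)) (BT.node 9826 (BT.leaf cJ9826) (BT.leaf cJ9827)))))) (BT.node 9847 (BT.node 9837 (BT.node 9832 (BT.node 9830 (BT.node 9829 (BT.node 9828 (BT.leaf cJ9828) (BT.leaf cJ9829)) (BT.leaf cJ9830)) (BT.node 9831 (BT.leaf cJ9831) (BT.leaf cJ9832))) (BT.node 9835 (BT.node 9834 (BT.node 9833 (BT.leaf cJ9833) (BT.leaf cJ9834)) (BT.leaf cJ9835)) (BT.node 9836 (BT.leaf cJ9836) (BT.leaf cJ9837)))) (BT.node 9842 (BT.node 9840 (BT.node 9839 (BT.node 9838 (BT.leaf cJ9838) (BT.leaf cJ9839)) (BT.leaf cJ9840)) (BT.node 9841 (BT.leaf cJ9841) (BT.leaf cJ9842))) (BT.node 9845 (BT.node 9844 (BT.node 9843 (BT.leaf cJ9843) (BT.leaf cJ9844)) (BT.leaf cJ9845)) (BT.node 9846 (BT.leaf cJ9846) (BT.leaf cJ9847))))) (BT.node 9857 (BT.node 9852 (BT.node 9850 (BT.node 9849 (BT.node 9848 (BT.leaf cJ9848) (BT.leaf cJ9849)) (BT.leaf cJ9850)) (BT.node 9851 (BT.leaf cJ9851) (BT.leaf cJ9852))) (BT.node 9855 (BT.node 9854 (BT.node 9853 (BT.leaf cJ9853) (BT.leaf cJ9854)) (BT.leaf cJ9855)) (BT.node 9856 (BT.leaf cJ9856) (BT.leaf cJ9857)))) (BT.node 9862 (BT.node 9860 (BT.node 9859 (BT.node 9858 (BT.leaf cJ9858) (BT.leaf cJ9859)) (BT.leaf cJ9860)) (BT.node 9861 (BT.leaf cJ9861) (BT.leaf cJ9862))) (BT.node 9864 (BT.node 9863 (BT.leaf cJ9863) (BT.leaf cJ9864)) (BT.node 9865 (BT.leaf cJ9865) (BT.leaf cJ9866)))))))) (BT.node 9944 (BT.node 9905 (BT.node 9886 (BT.node 9876 (BT.node 9871 (BT.node 9869 (BT.node 9868 (BT.node 9867 (BT.leaf cJ9867) (BT.leaf cJ9868)) (BT.leaf cJ9869)) (BT.node 9870 (BT.leaf cJ9870) (BT.leaf cJ9871))) (BT.node 9874 (BT.node 9873 (BT.node 9872 (BT.leaf cJ9872) (BT.leaf cJ9873)) (BT.leaf cJ9874)) (BT.node 9875 (BT.leaf cJ9875) (BT.leaf cJ9876)))) (BT.node 9881 (BT.node 9879 (BT.node 9878 (BT.node 9877 (BT.leaf cJ9877) (BT.leaf cJ9878)) (BT.leaf cJ9879)) (BT.node 9880 (BT.leaf cJ9880) (BT.leaf cJ9881))) (BT.node 9884 (BT.node 9883 (BT.node 9882 (BT.leaf cJ9882) (BT.leaf cJ9883)) (BT.leaf cJ9884)) (BT.node 9885 (BT.leaf cJ9885) (BT.leaf cJ9886))))) (BT.node 9896 (BT.node 9891 (BT.node 9889 (BT.node 9888 (BT.node 9887 (BT.leaf cJ9887) (BT.leaf cJ9888)) (BT.leaf cJ9889)) (BT.node 9890 (BT.leaf cJ9890) (BT.leaf cJ9891))) (BT.node 9894 (BT.node 9893 (BT.node 9892 (BT.leaf cJ9892) (BT.leaf cJ9893)) (BT.leaf cJ9894)) (BT.node 9895 (BT.leaf cJ9895) (BT.leaf cJ9896)))) (BT.node 9901 (BT.node 9899 (BT.node 9898 (BT.node 9897 (BT.leaf cJ9897) (BT.leaf cJ9898)) (BT.leaf cJ9899)) (BT.node 9900 (BT.leaf cJ9900) (BT.leaf cJ9901))) (BT.node 9903 (BT.node 9902 (BT.leaf cJ9902) (BT.leaf cJ9903)) (BT.node 9904 (BT.leaf cJ9904) (BT.leaf cJ9905)))))) (BT.node 9925 (BT.node 9915 (BT.node 9910 (BT.node 9908 (BT.node 9907 (BT.node 9906 (BT.leaf cJ9906) (BT.leaf cJ9907)) (BT.leaf cJ9908)) (BT.node 9909 (BT.leaf cJ9909) (BT.leaf cJ9910))) (BT.node 9913 (BT.node 9912 (BT.node 9911 (BT.leaf cJ9911) (BT.leaf cJ9912)) (BT.leaf cJ9913)) (BT.node 9914 (BT.leaf cJ9914) (BT.leaf cJ9915)))) (BT.node 9920 (BT.node 9918 (BT.node 9917 (BT.node 9916 (BT.leaf cJ9916) (BT.leaf cJ9917)) (BT.leaf cJ9918)) (BT.node 9919 (BT.leaf cJ9919) (BT.leaf cJ9920))) (BT.node 9923 (BT.node 9922 (BT.node 9921 (BT.leaf cJ9921) (BT.leaf cJ9922)) (BT.leaf cJ9923)) (BT.node 9924 (BT.leaf cJ9924) (BT.leaf cJ9925))))) (BT.node 9935 (BT.node 9930 (BT.node 9928 (BT.node 9927 (BT.node 9926 (BT.leaf cJ9926) (BT.leaf cJ9927)) (BT.leaf cJ9928)) (BT.node 9929 (BT.leaf cJ9929) (BT.leaf cJ9930))) (BT.node 9933 (BT.node 9932 (BT.node 9931 (BT.leaf cJ9931) (BT.leaf cJ9932)) (BT.leaf cJ9933)) (BT.node 9934 (BT.leaf cJ9934) (BT.leaf cJ9935)))) (BT.node 9940 (BT.node 9938 (BT.node 9937 (BT.node 9936 (BT.leaf cJ9936) (BT.leaf cJ9937)) (BT.leaf cJ9938)) (BT.node 9939 (BT.leaf cJ9939) (BT.leaf cJ9940))) (BT.node 9942 (BT.node 9941 (BT.leaf cJ9941) (BT.leaf cJ9942)) (BT.node 9943 (BT.leaf cJ9943) (BT.leaf cJ9944))))))) (BT.node 9983 (BT.node 9964 (BT.node 9954 (BT.node 9949 (BT.node 9947 (BT.node 9946 (BT.node 9945 (BT.leaf cJ9945) (BT.leaf cJ9946)) (BT.leaf cJ9947)) (BT.node 9948 (BT.leaf cJ9948) (BT.leaf cJ9949))) (BT.node 9952 (BT.node 9951 (BT.node 9950 (BT.leaf cJ9950) (BT.leaf cJ9951)) (BT.leaf cJ9952)) (BT.node 9953 (BT.leaf cJ9953) (BT.leaf cJ9954)))) (BT.node 9959 (BT.node 9957 (BT.node 9956 (BT.node 9955 (BT.leaf cJ9955) (BT.leaf cJ9956)) (BT.leaf cJ9957)) (BT.node 9958 (BT.leaf cJ9958) (BT.leaf cJ9959))) (BT.node 9962 (BT.node 9961 (BT.node 9960 (BT.leaf cJ9960) (BT.leaf cJ9961)) (BT.leaf cJ9962)) (BT.node 9963 (BT.leaf cJ9963) (BT.leaf cJ9964))))) (BT.node 9974 (BT.node 9969 (BT.node 9967 (BT.node 9966 (BT.node 9965 (BT.leaf cJ9965) (BT.leaf cJ9966)) (BT.leaf cJ9967)) (BT.node 9968 (BT.leaf cJ9968) (BT.leaf cJ9969))) (BT.node 9972 (BT.node 9971 (BT.node 9970 (BT.leaf cJ9970) (BT.leaf cJ9971)) (BT.leaf cJ9972)) (BT.node 9973 (BT.leaf cJ9973) (BT.leaf cJ9974)))) (BT.node 9979 (BT.node 9977 (BT.node 9976 (BT.node 9975 (BT.leaf cJ9975) (BT.leaf cJ9976)) (BT.leaf cJ9977)) (BT.node 9978 (BT.leaf cJ9978) (BT.leaf cJ9979))) (BT.node 9981 (BT.node 9980 (BT.leaf cJ9980) (BT.leaf cJ9981)) (BT.node 9982 (BT.leaf cJ9982) (BT.leaf cJ9983)))))) (BT.node 10003 (BT.node 9993 (BT.node 9988 (BT.node 9986 (BT.node 9985 (BT.node 9984 (BT.leaf cJ9984) (BT.leaf cJ9985)) (BT.leaf cJ9986)) (BT.node 9987 (BT.leaf cJ9987) (BT.leaf cJ9988))) (BT.node 9991 (BT.node 9990 (BT.node 9989 (BT.leaf cJ9989) (BT.leaf cJ9990)) (BT.leaf cJ9991)) (BT.node 9992 (BT.leaf cJ9992) (BT.leaf cJ9993)))) (BT.node 9998 (BT.node 9996 (BT.node 9995 (BT.node 9994 (BT.leaf cJ9994) (BT.leaf cJ9995)) (BT.leaf cJ9996)) (BT.node 9997 (BT.leaf cJ9997) (BT.leaf cJ9998))) (BT.node 10001 (BT.node 10000 (BT.node 9999 (BT.leaf cJ9999) (BT.leaf cJ10000)) (BT.leaf cJ10001)) (BT.node 10002 (BT.leaf cJ10002) (BT.leaf cJ10003))))) (BT.node 10013 (BT.node 10008 (BT.node 10006 (BT.node 10005 (BT.node 10004 (BT.leaf cJ10004) (BT.leaf cJ10005)) (BT.leaf cJ10006)) (BT.node 10007 (BT.leaf cJ10007) (BT.leaf cJ10008))) (BT.node 10011 (BT.node 10010 (BT.node 10009 (BT.leaf cJ10009) (BT.leaf cJ10010)) (BT.leaf cJ10011)) (BT.node 10012 (BT.leaf cJ10012) (BT.leaf cJ10013)))) (BT.node 10018 (BT.node 10016 (BT.node 10015 (BT.node 10014 (BT.leaf cJ10014) (BT.leaf cJ10015)) (BT.leaf cJ10016)) (BT.node 10017 (BT.leaf cJ10017) (BT.leaf cJ10018))) (BT.node 10020 (BT.node 10019 (BT.leaf cJ10019) (BT.leaf cJ10020)) (BT.node 10021 (BT.leaf cJ10021) (BT.leaf cJ10022))))))))))))))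
/-- parent chunks -/
def parCT : BT ℕ := (BT.node 385 (BT.node 192 (BT.node 96 (BT.node 48 (BT.node 24 (BT.node 12 (BT.node 6 (BT.node 3 (BT.node 1 (BT.node 0 (BT.leaf cP0) (BT.leaf cP1)) (BT.node 2 (BT.leaf cP2) (BT.leaf cP3))) (BT.node 5 (BT.node 4 (BT.leaf cP4) (BT.leaf cP5)) (BT.leaf cP6))) (BT.node 9 (BT.node 8 (BT.node 7 (BT.leaf cP7) (BT.leaf cP8)) (BT.leaf cP9)) (BT.node 11 (BT.node 10 (BT.leaf cP10) (BT.leaf cP11)) (BT.leaf cP12)))) (BT.node 18 (BT.node 15 (BT.node 14 (BT.node 13 (BT.leaf cP13) (BT.leaf cP14)) (BT.leaf cP15)) (BT.node 17 (BT.node 16 (BT.leaf cP16) (BT.leaf cP17)) (BT.leaf cP18))) (BT.node 21 (BT.node 20 (BT.node 19 (BT.leaf cP19) (BT.leaf cP20)) (BT.leaf cP21)) (BT.node 23 (BT.node 22 (BT.leaf cP22) (BT.leaf cP23)) (BT.leaf cP24))))) (BT.node 36 (BT.node 30 (BT.node 27 (BT.node 26 (BT.node 25 (BT.leaf cP25) (BT.leaf cP26)) (BT.leaf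 cP27)) (BT.node 29 (BT.node 28 (BT.leaf cP28) (BT.leaf cP29)) (BT.leaf cP30))) (BT.node 33 (BT.node 32 (BT.node 31 (BT.leaf cP31) (BT.leaf cP32)) (BT.leaf cP33)) (BT.node 35 (BT.node 34 (BT.leaf cP34) (BT.leaf cP35)) (BT.leaf cP36)))) (BT.node 42 (BT.node 39 (BT.node 38 (BT.node 37 (BT.leaf cP37) (BT.leaf cP38)) (BT.leaf cP39)) (BT.node 41 (BT.node 40 (BT.leaf cP40) (BT.leaf cP41)) (BT.leaf cP42))) (BT.node 45 (BT.node 44 (BT.node 43 (BT.leaf cP43) (BT.leaf cP44)) (BT.leaf cP45)) (BT.node 47 (BT.node 46 (BT.leaf cP46) (BT.leaf cP47)) (BT.leaf cP48)))))) (BT.node 72 (BT.node 60 (BT.node 54 (BT.node 51 (BT.node 50 (BT.node 49 (BT.leaf cP49) (BT.leaf cP50)) (BT.leaf cP51)) (BT.node 53 (BT.node 52 (BT.leaf cP52) (BT.leaf cP53)) (BT.leaf cP54))) (BT.node 57 (BT.node 56 (BT.node 55 (BT.leaf cP55) (BT.leaf cP56)) (BT.leaf cP57)) (BT.node 59 (BT.node 58 (BT.leaf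 cP58) (BT.leaf cP59)) (BT.leaf cP60)))) (BT.node 66 (BT.node 63 (BT.node 62 (BT.node 61 (BT.leaf cP61) (BT.leaf cP62)) (BT.leaf cP63)) (BT.node 65 (BT.node 64 (BT.leaf cP64) (BT.leaf cP65)) (BT.leaf cP66))) (BT.node 69 (BT.node 68 (BT.node 67 (BT.leaf cP67) (BT.leaf cP68)) (BT.leaf cP69)) (BT.node 71 (BT.node 70 (BT.leaf cP70) (BT.leaf cP71)) (BT.leaf cP72))))) (BT.node 84 (BT.node 78 (BT.node 75 (BT.node 74 (BT.node 73 (BT.leaf cP73) (BT.leaf cP74)) (BT.leaf cP75)) (BT.node 77 (BT.node 76 (BT.leaf cP76) (BT.leaf cP77)) (BT.leaf cP78))) (BT.node 81 (BT.node 80 (BT.node 79 (BT.leaf cP79) (BT.leaf cP80)) (BT.leaf cP81)) (BT.node 83 (BT.node 82 (BT.leaf cP82) (BT.leaf cP83)) (BT.leaf cP84)))) (BT.node 90 (BT.node 87 (BT.node 86 (BT.node 85 (BT.leaf cP85) (BT.leaf cP86)) (BT.leaf cP87)) (BT.node 89 (BT.node 88 (BT.leaf cP88) (BT.leaf cP89)) (BT.leaf cP90)))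 (BT.node 93 (BT.node 92 (BT.node 91 (BT.leaf cP91) (BT.leaf cP92)) (BT.leaf cP93)) (BT.node 95 (BT.node 94 (BT.leaf cP94) (BT.leaf cP95)) (BT.leaf cP96))))))) (BT.node 144 (BT.node 120 (BT.node 108 (BT.node 102 (BT.node 99 (BT.node 98 (BT.node 97 (BT.leaf cP97) (BT.leaf cP98)) (BT.leaf cP99)) (BT.node 101 (BT.node 100 (BT.leaf cP100) (BT.leaf cP101)) (BT.leaf cP102))) (BT.node 105 (BT.node 104 (BT.node 103 (BT.leaf cP103) (BT.leaf cP104)) (BT.leaf cP105)) (BT.node 107 (BT.node 106 (BT.leaf cP106) (BT.leaf cP107)) (BT.leaf cP108)))) (BT.node 114 (BT.node 111 (BT.node 110 (BT.node 109 (BT.leaf cP109) (BT.leaf cP110)) (BT.leaf cP111)) (BT.node 113 (BT.node 112 (BT.leaf cP112) (BT.leaf cP113)) (BT.leaf cP114))) (BT.node 117 (BT.node 116 (BT.node 115 (BT.leaf cP115) (BT.leaf cP116)) (BT.leaf cP117)) (BT.node 119 (BT.node 118 (BT.leaf cP118) (BT.leaf cP119))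 (BT.leaf cP120))))) (BT.node 132 (BT.node 126 (BT.node 123 (BT.node 122 (BT.node 121 (BT.leaf cP121) (BT.leaf cP122)) (BT.leaf cP123)) (BT.node 125 (BT.node 124 (BT.leaf cP124) (BT.leaf cP125)) (BT.leaf cP126))) (BT.node 129 (BT.node 128 (BT.node 127 (BT.leaf cP127) (BT.leaf cP128)) (BT.leaf cP129)) (BT.node 131 (BT.node 130 (BT.leaf cP130) (BT.leaf cP131)) (BT.leaf cP132)))) (BT.node 138 (BT.node 135 (BT.node 134 (BT.node 133 (BT.leaf cP133) (BT.leaf cP134)) (BT.leaf cP135)) (BT.node 137 (BT.node 136 (BT.leaf cP136) (BT.leaf cP137)) (BT.leaf cP138))) (BT.node 141 (BT.node 140 (BT.node 139 (BT.leaf cP139) (BT.leaf cP140)) (BT.leaf cP141)) (BT.node 143 (BT.node 142 (BT.leaf cP142) (BT.leaf cP143)) (BT.leaf cP144)))))) (BT.node 168 (BT.node 156 (BT.node 150 (BT.node 147 (BT.node 146 (BT.node 145 (BT.leaf cP145) (BT.leaf cP146)) (BT.leaf cP147)) (BT.node 149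 (BT.node 148 (BT.leaf cP148) (BT.leaf cP149)) (BT.leaf cP150))) (BT.node 153 (BT.node 152 (BT.node 151 (BT.leaf cP151) (BT.leaf cP152)) (BT.leaf cP153)) (BT.node 155 (BT.node 154 (BT.leaf cP154) (BT.leaf cP155)) (BT.leaf cP156)))) (BT.node 162 (BT.node 159 (BT.node 158 (BT.node 157 (BT.leaf cP157) (BT.leaf cP158)) (BT.leaf cP159)) (BT.node 161 (BT.node 160 (BT.leaf cP160) (BT.leaf cP161)) (BT.leaf cP162))) (BT.node 165 (BT.node 164 (BT.node 163 (BT.leaf cP163) (BT.leaf cP164)) (BT.leaf cP165)) (BT.node 167 (BT.node 166 (BT.leaf cP166) (BT.leaf cP167)) (BT.leaf cP168))))) (BT.node 180 (BT.node 174 (BT.node 171 (BT.node 170 (BT.node 169 (BT.leaf cP169) (BT.leaf cP170)) (BT.leaf cP171)) (BT.node 173 (BT.node 172 (BT.leaf cP172) (BT.leaf cP173)) (BT.leaf cP174))) (BT.node 177 (BT.node 176 (BT.node 175 (BT.leaf cP175) (BT.leaf cP176)) (BT.leaf cP177)) (BT.node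 179 (BT.node 178 (BT.leaf cP178) (BT.leaf cP179)) (BT.leaf cP180)))) (BT.node 186 (BT.node 183 (BT.node 182 (BT.node 181 (BT.leaf cP181) (BT.leaf cP182)) (BT.leaf cP183)) (BT.node 185 (BT.node 184 (BT.leaf cP184) (BT.leaf cP185)) (BT.leaf cP186))) (BT.node 189 (BT.node 188 (BT.node 187 (BT.leaf cP187) (BT.leaf cP188)) (BT.leaf cP189)) (BT.node 191 (BT.node 190 (BT.leaf cP190) (BT.leaf cP191)) (BT.leaf cP192)))))))) (BT.node 289 (BT.node 241 (BT.node 217 (BT.node 205 (BT.node 199 (BT.node 196 (BT.node 194 (BT.node 193 (BT.leaf cP193) (BT.leaf cP194)) (BT.node 195 (BT.leaf cP195) (BT.leaf cP196))) (BT.node 198 (BT.node 197 (BT.leaf cP197) (BT.leaf cP198)) (BT.leaf cP199))) (BT.node 202 (BT.node 201 (BT.node 200 (BT.leaf cP200) (BT.leaf cP201)) (BT.leaf cP202)) (BT.node 204 (BT.node 203 (BT.leaf cP203) (BT.leaf cP204)) (BT.leaf cP205)))) (BT.node 211 (BT.node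 208 (BT.node 207 (BT.node 206 (BT.leaf cP206) (BT.leaf cP207)) (BT.leaf cP208)) (BT.node 210 (BT.node 209 (BT.leaf cP209) (BT.leaf cP210)) (BT.leaf cP211))) (BT.node 214 (BT.node 213 (BT.node 212 (BT.leaf cP212) (BT.leaf cP213)) (BT.leaf cP214)) (BT.node 216 (BT.node 215 (BT.leaf cP215) (BT.leaf cP216)) (BT.leaf cP217))))) (BT.node 229 (BT.node 223 (BT.node 220 (BT.node 219 (BT.node 218 (BT.leaf cP218) (BT.leaf cP219)) (BT.leaf cP220)) (BT.node 222 (BT.node 221 (BT.leaf cP221) (BT.leaf cP222)) (BT.leaf cP223))) (BT.node 226 (BT.node 225 (BT.node 224 (BT.leaf cP224) (BT.leaf cP225)) (BT.leaf cP226)) (BT.node 228 (BT.node 227 (BT.leaf cP227) (BT.leaf cP228)) (BT.leaf cP229)))) (BT.node 235 (BT.node 232 (BT.node 231 (BT.node 230 (BT.leaf cP230) (BT.leaf cP231)) (BT.leaf cP232)) (BT.node 234 (BT.node 233 (BT.leaf cP233) (BT.leaf cP234)) (BT.leaf cP235))) (BT.node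 238 (BT.node 237 (BT.node 236 (BT.leaf cP236) (BT.leaf cP237)) (BT.leaf cP238)) (BT.node 240 (BT.node 239 (BT.leaf cP239) (BT.leaf cP240)) (BT.leaf cP241)))))) (BT.node 265 (BT.node 253 (BT.node 247 (BT.node 244 (BT.node 243 (BT.node 242 (BT.leaf cP242) (BT.leaf cP243)) (BT.leaf cP244)) (BT.node 246 (BT.node 245 (BT.leaf cP245) (BT.leaf cP246)) (BT.leaf cP247))) (BT.node 250 (BT.node 249 (BT.node 248 (BT.leaf cP248) (BT.leaf cP249)) (BT.leaf cP250)) (BT.node 252 (BT.node 251 (BT.leaf cP251) (BT.leaf cP252)) (BT.leaf cP253)))) (BT.node 259 (BT.node 256 (BT.node 255 (BT.node 254 (BT.leaf cP254) (BT.leaf cP255)) (BT.leaf cP256)) (BT.node 258 (BT.node 257 (BT.leaf cP257) (BT.leaf cP258)) (BT.leaf cP259))) (BT.node 262 (BT.node 261 (BT.node 260 (BT.leaf cP260) (BT.leaf cP261)) (BT.leaf cP262)) (BT.node 264 (BT.node 263 (BT.leaf cP263) (BT.leaf cP264)) (BT.leaf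 cP265))))) (BT.node 277 (BT.node 271 (BT.node 268 (BT.node 267 (BT.node 266 (BT.leaf cP266) (BT.leaf cP267)) (BT.leaf cP268)) (BT.node 270 (BT.node 269 (BT.leaf cP269) (BT.leaf cP270)) (BT.leaf cP271))) (BT.node 274 (BT.node 273 (BT.node 272 (BT.leaf cP272) (BT.leaf cP273)) (BT.leaf cP274)) (BT.node 276 (BT.node 275 (BT.leaf cP275) (BT.leaf cP276)) (BT.leaf cP277)))) (BT.node 283 (BT.node 280 (BT.node 279 (BT.node 278 (BT.leaf cP278) (BT.leaf cP279)) (BT.leaf cP280)) (BT.node 282 (BT.node 281 (BT.leaf cP281) (BT.leaf cP282)) (BT.leaf cP283))) (BT.node 286 (BT.node 285 (BT.node 284 (BT.leaf cP284) (BT.leaf cP285)) (BT.leaf cP286)) (BT.node 288 (BT.node 287 (BT.leaf cP287) (BT.leaf cP288)) (BT.leaf cP289))))))) (BT.node 337 (BT.node 313 (BT.node 301 (BT.node 295 (BT.node 292 (BT.node 291 (BT.node 290 (BT.leaf cP290) (BT.leaf cP291)) (BT.leaf cP292)) (BT.node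 294 (BT.node 293 (BT.leaf cP293) (BT.leaf cP294)) (BT.leaf cP295))) (BT.node 298 (BT.node 297 (BT.node 296 (BT.leaf cP296) (BT.leaf cP297)) (BT.leaf cP298)) (BT.node 300 (BT.node 299 (BT.leaf cP299) (BT.leaf cP300)) (BT.leaf cP301)))) (BT.node 307 (BT.node 304 (BT.node 303 (BT.node 302 (BT.leaf cP302) (BT.leaf cP303)) (BT.leaf cP304)) (BT.node 306 (BT.node 305 (BT.leaf cP305) (BT.leaf cP306)) (BT.leaf cP307))) (BT.node 310 (BT.node 309 (BT.node 308 (BT.leaf cP308) (BT.leaf cP309)) (BT.leaf cP310)) (BT.node 312 (BT.node 311 (BT.leaf cP311) (BT.leaf cP312)) (BT.leaf cP313))))) (BT.node 325 (BT.node 319 (BT.node 316 (BT.node 315 (BT.node 314 (BT.leaf cP314) (BT.leaf cP315)) (BT.leaf cP316)) (BT.node 318 (BT.node 317 (BT.leaf cP317) (BT.leaf cP318)) (BT.leaf cP319))) (BT.node 322 (BT.node 321 (BT.node 320 (BT.leaf cP320) (BT.leaf cP321)) (BT.leaf cP322)) (BT.node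 324 (BT.node 323 (BT.leaf cP323) (BT.leaf cP324)) (BT.leaf cP325)))) (BT.node 331 (BT.node 328 (BT.node 327 (BT.node 326 (BT.leaf cP326) (BT.leaf cP327)) (BT.leaf cP328)) (BT.node 330 (BT.node 329 (BT.leaf cP329) (BT.leaf cP330)) (BT.leaf cP331))) (BT.node 334 (BT.node 333 (BT.node 332 (BT.leaf cP332) (BT.leaf cP333)) (BT.leaf cP334)) (BT.node 336 (BT.node 335 (BT.leaf cP335) (BT.leaf cP336)) (BT.leaf cP337)))))) (BT.node 361 (BT.node 349 (BT.node 343 (BT.node 340 (BT.node 339 (BT.node 338 (BT.leaf cP338) (BT.leaf cP339)) (BT.leaf cP340)) (BT.node 342 (BT.node 341 (BT.leaf cP341) (BT.leaf cP342)) (BT.leaf cP343))) (BT.node 346 (BT.node 345 (BT.node 344 (BT.leaf cP344) (BT.leaf cP345)) (BT.leaf cP346)) (BT.node 348 (BT.node 347 (BT.leaf cP347) (BT.leaf cP348)) (BT.leaf cP349)))) (BT.node 355 (BT.node 352 (BT.node 351 (BT.node 350 (BT.leaf cP350) (BT.leaf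 cP351)) (BT.leaf cP352)) (BT.node 354 (BT.node 353 (BT.leaf cP353) (BT.leaf cP354)) (BT.leaf cP355))) (BT.node 358 (BT.node 357 (BT.node 356 (BT.leaf cP356) (BT.leaf cP357)) (BT.leaf cP358)) (BT.node 360 (BT.node 359 (BT.leaf cP359) (BT.leaf cP360)) (BT.leaf cP361))))) (BT.node 373 (BT.node 367 (BT.node 364 (BT.node 363 (BT.node 362 (BT.leaf cP362) (BT.leaf cP363)) (BT.leaf cP364)) (BT.node 366 (BT.node 365 (BT.leaf cP365) (BT.leaf cP366)) (BT.leaf cP367))) (BT.node 370 (BT.node 369 (BT.node 368 (BT.leaf cP368) (BT.leaf cP369)) (BT.leaf cP370)) (BT.node 372 (BT.node 371 (BT.leaf cP371) (BT.leaf cP372)) (BT.leaf cP373)))) (BT.node 379 (BT.node 376 (BT.node 375 (BT.node 374 (BT.leaf cP374) (BT.leaf cP375)) (BT.leaf cP376)) (BT.node 378 (BT.node 377 (BT.leaf cP377) (BT.leaf cP378)) (BT.leaf cP379))) (BT.node 382 (BT.node 381 (BT.node 380 (BT.leaf cP380) (BT.leaf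 cP381)) (BT.leaf cP382)) (BT.node 384 (BT.node 383 (BT.leaf cP383) (BT.leaf cP384)) (BT.leaf cP385))))))))) (BT.node 578 (BT.node 482 (BT.node 434 (BT.node 410 (BT.node 398 (BT.node 392 (BT.node 389 (BT.node 387 (BT.node 386 (BT.leaf cP386) (BT.leaf cP387)) (BT.node 388 (BT.leaf cP388) (BT.leaf cP389))) (BT.node 391 (BT.node 390 (BT.leaf cP390) (BT.leaf cP391)) (BT.leaf cP392))) (BT.node 395 (BT.node 394 (BT.node 393 (BT.leaf cP393) (BT.leaf cP394)) (BT.leaf cP395)) (BT.node 397 (BT.node 396 (BT.leaf cP396) (BT.leaf cP397)) (BT.leaf cP398)))) (BT.node 404 (BT.node 401 (BT.node 400 (BT.node 399 (BT.leaf cP399) (BT.leaf cP400)) (BT.leaf cP401)) (BT.node 403 (BT.node 402 (BT.leaf cP402) (BT.leaf cP403)) (BT.leaf cP404))) (BT.node 407 (BT.node 406 (BT.node 405 (BT.leaf cP405) (BT.leaf cP406)) (BT.leaf cP407)) (BT.node 409 (BT.node 408 (BT.leaf cP408) (BT.leaf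 cP409)) (BT.leaf cP410))))) (BT.node 422 (BT.node 416 (BT.node 413 (BT.node 412 (BT.node 411 (BT.leaf cP411) (BT.leaf cP412)) (BT.leaf cP413)) (BT.node 415 (BT.node 414 (BT.leaf cP414) (BT.leaf cP415)) (BT.leaf cP416))) (BT.node 419 (BT.node 418 (BT.node 417 (BT.leaf cP417) (BT.leaf cP418)) (BT.leaf cP419)) (BT.node 421 (BT.node 420 (BT.leaf cP420) (BT.leaf cP421)) (BT.leaf cP422)))) (BT.node 428 (BT.node 425 (BT.node 424 (BT.node 423 (BT.leaf cP423) (BT.leaf cP424)) (BT.leaf cP425)) (BT.node 427 (BT.node 426 (BT.leaf cP426) (BT.leaf cP427)) (BT.leaf cP428))) (BT.node 431 (BT.node 430 (BT.node 429 (BT.leaf cP429) (BT.leaf cP430)) (BT.leaf cP431)) (BT.node 433 (BT.node 432 (BT.leaf cP432) (BT.leaf cP433)) (BT.leaf cP434)))))) (BT.node 458 (BT.node 446 (BT.node 440 (BT.node 437 (BT.node 436 (BT.node 435 (BT.leaf cP435) (BT.leaf cP436)) (BT.leaf cP437)) (BT.node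 439 (BT.node 438 (BT.leaf cP438) (BT.leaf cP439)) (BT.leaf cP440))) (BT.node 443 (BT.node 442 (BT.node 441 (BT.leaf cP441) (BT.leaf cP442)) (BT.leaf cP443)) (BT.node 445 (BT.node 444 (BT.leaf cP444) (BT.leaf cP445)) (BT.leaf cP446)))) (BT.node 452 (BT.node 449 (BT.node 448 (BT.node 447 (BT.leaf cP447) (BT.leaf cP448)) (BT.leaf cP449)) (BT.node 451 (BT.node 450 (BT.leaf cP450) (BT.leaf cP451)) (BT.leaf cP452))) (BT.node 455 (BT.node 454 (BT.node 453 (BT.leaf cP453) (BT.leaf cP454)) (BT.leaf cP455)) (BT.node 457 (BT.node 456 (BT.leaf cP456) (BT.leaf cP457)) (BT.leaf cP458))))) (BT.node 470 (BT.node 464 (BT.node 461 (BT.node 460 (BT.node 459 (BT.leaf cP459) (BT.leaf cP460)) (BT.leaf cP461)) (BT.node 463 (BT.node 462 (BT.leaf cP462) (BT.leaf cP463)) (BT.leaf cP464))) (BT.node 467 (BT.node 466 (BT.node 465 (BT.leaf cP465) (BT.leaf cP466)) (BT.leaf cP467)) (BT.node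 469 (BT.node 468 (BT.leaf cP468) (BT.leaf cP469)) (BT.leaf cP470)))) (BT.node 476 (BT.node 473 (BT.node 472 (BT.node 471 (BT.leaf cP471) (BT.leaf cP472)) (BT.leaf cP473)) (BT.node 475 (BT.node 474 (BT.leaf cP474) (BT.leaf cP475)) (BT.leaf cP476))) (BT.node 479 (BT.node 478 (BT.node 477 (BT.leaf cP477) (BT.leaf cP478)) (BT.leaf cP479)) (BT.node 481 (BT.node 480 (BT.leaf cP480) (BT.leaf cP481)) (BT.leaf cP482))))))) (BT.node 530 (BT.node 506 (BT.node 494 (BT.node 488 (BT.node 485 (BT.node 484 (BT.node 483 (BT.leaf cP483) (BT.leaf cP484)) (BT.leaf cP485)) (BT.node 487 (BT.node 486 (BT.leaf cP486) (BT.leaf cP487)) (BT.leaf cP488))) (BT.node 491 (BT.node 490 (BT.node 489 (BT.leaf cP489) (BT.leaf cP490)) (BT.leaf cP491)) (BT.node 493 (BT.node 492 (BT.leaf cP492) (BT.leaf cP493)) (BT.leaf cP494)))) (BT.node 500 (BT.node 497 (BT.node 496 (BT.node 495 (BT.leaf cP495)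 (BT.leaf cP496)) (BT.leaf cP497)) (BT.node 499 (BT.node 498 (BT.leaf cP498) (BT.leaf cP499)) (BT.leaf cP500))) (BT.node 503 (BT.node 502 (BT.node 501 (BT.leaf cP501) (BT.leaf cP502)) (BT.leaf cP503)) (BT.node 505 (BT.node 504 (BT.leaf cP504) (BT.leaf cP505)) (BT.leaf cP506))))) (BT.node 518 (BT.node 512 (BT.node 509 (BT.node 508 (BT.node 507 (BT.leaf cP507) (BT.leaf cP508)) (BT.leaf cP509)) (BT.node 511 (BT.node 510 (BT.leaf cP510) (BT.leaf cP511)) (BT.leaf cP512))) (BT.node 515 (BT.node 514 (BT.node 513 (BT.leaf cP513) (BT.leaf cP514)) (BT.leaf cP515)) (BT.node 517 (BT.node 516 (BT.leaf cP516) (BT.leaf cP517)) (BT.leaf cP518)))) (BT.node 524 (BT.node 521 (BT.node 520 (BT.node 519 (BT.leaf cP519) (BT.leaf cP520)) (BT.leaf cP521)) (BT.node 523 (BT.node 522 (BT.leaf cP522) (BT.leaf cP523)) (BT.leaf cP524))) (BT.node 527 (BT.node 526 (BT.node 525 (BT.leaf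 cP525) (BT.leaf cP526)) (BT.leaf cP527)) (BT.node 529 (BT.node 528 (BT.leaf cP528) (BT.leaf cP529)) (BT.leaf cP530)))))) (BT.node 554 (BT.node 542 (BT.node 536 (BT.node 533 (BT.node 532 (BT.node 531 (BT.leaf cP531) (BT.leaf cP532)) (BT.leaf cP533)) (BT.node 535 (BT.node 534 (BT.leaf cP534) (BT.leaf cP535)) (BT.leaf cP536))) (BT.node 539 (BT.node 538 (BT.node 537 (BT.leaf cP537) (BT.leaf cP538)) (BT.leaf cP539)) (BT.node 541 (BT.node 540 (BT.leaf cP540) (BT.leaf cP541)) (BT.leaf cP542)))) (BT.node 548 (BT.node 545 (BT.node 544 (BT.node 543 (BT.leaf cP543) (BT.leaf cP544)) (BT.leaf cP545)) (BT.node 547 (BT.node 546 (BT.leaf cP546) (BT.leaf cP547)) (BT.leaf cP548))) (BT.node 551 (BT.node 550 (BT.node 549 (BT.leaf cP549) (BT.leaf cP550)) (BT.leaf cP551)) (BT.node 553 (BT.node 552 (BT.leaf cP552) (BT.leaf cP553)) (BT.leaf cP554))))) (BT.node 566 (BT.node 560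 (BT.node 557 (BT.node 556 (BT.node 555 (BT.leaf cP555) (BT.leaf cP556)) (BT.leaf cP557)) (BT.node 559 (BT.node 558 (BT.leaf cP558) (BT.leaf cP559)) (BT.leaf cP560))) (BT.node 563 (BT.node 562 (BT.node 561 (BT.leaf cP561) (BT.leaf cP562)) (BT.leaf cP563)) (BT.node 565 (BT.node 564 (BT.leaf cP564) (BT.leaf cP565)) (BT.leaf cP566)))) (BT.node 572 (BT.node 569 (BT.node 568 (BT.node 567 (BT.leaf cP567) (BT.leaf cP568)) (BT.leaf cP569)) (BT.node 571 (BT.node 570 (BT.leaf cP570) (BT.leaf cP571)) (BT.leaf cP572))) (BT.node 575 (BT.node 574 (BT.node 573 (BT.leaf cP573) (BT.leaf cP574)) (BT.leaf cP575)) (BT.node 577 (BT.node 576 (BT.leaf cP576) (BT.leaf cP577)) (BT.leaf cP578)))))))) (BT.node 674 (BT.node 626 (BT.node 602 (BT.node 590 (BT.node 584 (BT.node 581 (BT.node 580 (BT.node 579 (BT.leaf cP579) (BT.leaf cP580)) (BT.leaf cP581)) (BT.node 583 (BT.node 582 (BT.leaf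 cP582) (BT.leaf cP583)) (BT.leaf cP584))) (BT.node 587 (BT.node 586 (BT.node 585 (BT.leaf cP585) (BT.leaf cP586)) (BT.leaf cP587)) (BT.node 589 (BT.node 588 (BT.leaf cP588) (BT.leaf cP589)) (BT.leaf cP590)))) (BT.node 596 (BT.node 593 (BT.node 592 (BT.node 591 (BT.leaf cP591) (BT.leaf cP592)) (BT.leaf cP593)) (BT.node 595 (BT.node 594 (BT.leaf cP594) (BT.leaf cP595)) (BT.leaf cP596))) (BT.node 599 (BT.node 598 (BT.node 597 (BT.leaf cP597) (BT.leaf cP598)) (BT.leaf cP599)) (BT.node 601 (BT.node 600 (BT.leaf cP600) (BT.leaf cP601)) (BT.leaf cP602))))) (BT.node 614 (BT.node 608 (BT.node 605 (BT.node 604 (BT.node 603 (BT.leaf cP603) (BT.leaf cP604)) (BT.leaf cP605)) (BT.node 607 (BT.node 606 (BT.leaf cP606) (BT.leaf cP607)) (BT.leaf cP608))) (BT.node 611 (BT.node 610 (BT.node 609 (BT.leaf cP609) (BT.leaf cP610)) (BT.leaf cP611)) (BT.node 613 (BT.node 612 (BT.leaf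 cP612) (BT.leaf cP613)) (BT.leaf cP614)))) (BT.node 620 (BT.node 617 (BT.node 616 (BT.node 615 (BT.leaf cP615) (BT.leaf cP616)) (BT.leaf cP617)) (BT.node 619 (BT.node 618 (BT.leaf cP618) (BT.leaf cP619)) (BT.leaf cP620))) (BT.node 623 (BT.node 622 (BT.node 621 (BT.leaf cP621) (BT.leaf cP622)) (BT.leaf cP623)) (BT.node 625 (BT.node 624 (BT.leaf cP624) (BT.leaf cP625)) (BT.leaf cP626)))))) (BT.node 650 (BT.node 638 (BT.node 632 (BT.node 629 (BT.node 628 (BT.node 627 (BT.leaf cP627) (BT.leaf cP628)) (BT.leaf cP629)) (BT.node 631 (BT.node 630 (BT.leaf cP630) (BT.leaf cP631)) (BT.leaf cP632))) (BT.node 635 (BT.node 634 (BT.node 633 (BT.leaf cP633) (BT.leaf cP634)) (BT.leaf cP635)) (BT.node 637 (BT.node 636 (BT.leaf cP636) (BT.leaf cP637)) (BT.leaf cP638)))) (BT.node 644 (BT.node 641 (BT.node 640 (BT.node 639 (BT.leaf cP639) (BT.leaf cP640)) (BT.leaf cP641))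 (BT.node 643 (BT.node 642 (BT.leaf cP642) (BT.leaf cP643)) (BT.leaf cP644))) (BT.node 647 (BT.node 646 (BT.node 645 (BT.leaf cP645) (BT.leaf cP646)) (BT.leaf cP647)) (BT.node 649 (BT.node 648 (BT.leaf cP648) (BT.leaf cP649)) (BT.leaf cP650))))) (BT.node 662 (BT.node 656 (BT.node 653 (BT.node 652 (BT.node 651 (BT.leaf cP651) (BT.leaf cP652)) (BT.leaf cP653)) (BT.node 655 (BT.node 654 (BT.leaf cP654) (BT.leaf cP655)) (BT.leaf cP656))) (BT.node 659 (BT.node 658 (BT.node 657 (BT.leaf cP657) (BT.leaf cP658)) (BT.leaf cP659)) (BT.node 661 (BT.node 660 (BT.leaf cP660) (BT.leaf cP661)) (BT.leaf cP662)))) (BT.node 668 (BT.node 665 (BT.node 664 (BT.node 663 (BT.leaf cP663) (BT.leaf cP664)) (BT.leaf cP665)) (BT.node 667 (BT.node 666 (BT.leaf cP666) (BT.leaf cP667)) (BT.leaf cP668))) (BT.node 671 (BT.node 670 (BT.node 669 (BT.leaf cP669) (BT.leaf cP670)) (BT.leaf cP671))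 (BT.node 673 (BT.node 672 (BT.leaf cP672) (BT.leaf cP673)) (BT.leaf cP674))))))) (BT.node 722 (BT.node 698 (BT.node 686 (BT.node 680 (BT.node 677 (BT.node 676 (BT.node 675 (BT.leaf cP675) (BT.leaf cP676)) (BT.leaf cP677)) (BT.node 679 (BT.node 678 (BT.leaf cP678) (BT.leaf cP679)) (BT.leaf cP680))) (BT.node 683 (BT.node 682 (BT.node 681 (BT.leaf cP681) (BT.leaf cP682)) (BT.leaf cP683)) (BT.node 685 (BT.node 684 (BT.leaf cP684) (BT.leaf cP685)) (BT.leaf cP686)))) (BT.node 692 (BT.node 689 (BT.node 688 (BT.node 687 (BT.leaf cP687) (BT.leaf cP688)) (BT.leaf cP689)) (BT.node 691 (BT.node 690 (BT.leaf cP690) (BT.leaf cP691)) (BT.leaf cP692))) (BT.node 695 (BT.node 694 (BT.node 693 (BT.leaf cP693) (BT.leaf cP694)) (BT.leaf cP695)) (BT.node 697 (BT.node 696 (BT.leaf cP696) (BT.leaf cP697)) (BT.leaf cP698))))) (BT.node 710 (BT.node 704 (BT.node 701 (BT.node 700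 (BT.node 699 (BT.leaf cP699) (BT.leaf cP700)) (BT.leaf cP701)) (BT.node 703 (BT.node 702 (BT.leaf cP702) (BT.leaf cP703)) (BT.leaf cP704))) (BT.node 707 (BT.node 706 (BT.node 705 (BT.leaf cP705) (BT.leaf cP706)) (BT.leaf cP707)) (BT.node 709 (BT.node 708 (BT.leaf cP708) (BT.leaf cP709)) (BT.leaf cP710)))) (BT.node 716 (BT.node 713 (BT.node 712 (BT.node 711 (BT.leaf cP711) (BT.leaf cP712)) (BT.leaf cP713)) (BT.node 715 (BT.node 714 (BT.leaf cP714) (BT.leaf cP715)) (BT.leaf cP716))) (BT.node 719 (BT.node 718 (BT.node 717 (BT.leaf cP717) (BT.leaf cP718)) (BT.leaf cP719)) (BT.node 721 (BT.node 720 (BT.leaf cP720) (BT.leaf cP721)) (BT.leaf cP722)))))) (BT.node 746 (BT.node 734 (BT.node 728 (BT.node 725 (BT.node 724 (BT.node 723 (BT.leaf cP723) (BT.leaf cP724)) (BT.leaf cP725)) (BT.node 727 (BT.node 726 (BT.leaf cP726) (BT.leaf cP727)) (BT.leaf cP728))) (BT.node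 731 (BT.node 730 (BT.node 729 (BT.leaf cP729) (BT.leaf cP730)) (BT.leaf cP731)) (BT.node 733 (BT.node 732 (BT.leaf cP732) (BT.leaf cP733)) (BT.leaf cP734)))) (BT.node 740 (BT.node 737 (BT.node 736 (BT.node 735 (BT.leaf cP735) (BT.leaf cP736)) (BT.leaf cP737)) (BT.node 739 (BT.node 738 (BT.leaf cP738) (BT.leaf cP739)) (BT.leaf cP740))) (BT.node 743 (BT.node 742 (BT.node 741 (BT.leaf cP741) (BT.leaf cP742)) (BT.leaf cP743)) (BT.node 745 (BT.node 744 (BT.leaf cP744) (BT.leaf cP745)) (BT.leaf cP746))))) (BT.node 758 (BT.node 752 (BT.node 749 (BT.node 748 (BT.node 747 (BT.leaf cP747) (BT.leaf cP748)) (BT.leaf cP749)) (BT.node 751 (BT.node 750 (BT.leaf cP750) (BT.leaf cP751)) (BT.leaf cP752))) (BT.node 755 (BT.node 754 (BT.node 753 (BT.leaf cP753) (BT.leaf cP754)) (BT.leaf cP755)) (BT.node 757 (BT.node 756 (BT.leaf cP756) (BT.leaf cP757)) (BT.leaf cP758)))) (BT.node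 764 (BT.node 761 (BT.node 760 (BT.node 759 (BT.leaf cP759) (BT.leaf cP760)) (BT.leaf cP761)) (BT.node 763 (BT.node 762 (BT.leaf cP762) (BT.leaf cP763)) (BT.leaf cP764))) (BT.node 767 (BT.node 766 (BT.node 765 (BT.leaf cP765) (BT.leaf cP766)) (BT.leaf cP767)) (BT.node 769 (BT.node 768 (BT.leaf cP768) (BT.leaf cP769)) (BT.leaf cP770))))))))))
/-- the certificate -/
def data : Data where
  k := 12
  N := 394454
  W := 41
  MW := 2199023255552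
  B := 524288
  CH := 512
  NCH := 771
  colE := colET
  JW := 64
  MJ := 18446744073709551616
  A := 1048576
  colJ := colJT
  PW := 28
  MP := 268435456
  parC := parCT
  inv := (BT.node 6 (BT.node 3 (BT.node 1 (BT.node 0 (BT.leaf 0) (BT.leaf 1)) (BT.node 2 (BT.leaf 2) (BT.leaf 3))) (BT.node 5 (BT.node 4 (BT.leaf 4) (BT.leaf 5)) (BT.leaf 6))) (BT.node 9 (BT.node 8 (BT.node 7 (BT.leaf 7) (BT.leaf 8)) (BT.leaf 9)) (BT.node 11 (BT.node 10 (BT.leaf 10) (BT.leaf 11)) (BT.leaf 12))))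
  rel := relT
  sub := subT
  fuel := 64

end Cfsg.Agent.Lib.Helper28.TCFi24Data
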