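import Cfsg.Agent.Lib.Helper28.TCFi24Table
set_option autoImplicit false
set_option maxRecDepth 100000
set_option maxHeartbeats 0

namespace Cfsg.Agent.Lib.Helper28.TCFi24L1
open Cfsg.Agent.Lib.Helper28.TC2Upper Cfsg.Agent.Lib.Helper28.TC2Lower Cfsg.Agent.Lib.Helper28.TCFi24Table

theorem rel11 : table.relOK chkPaths 5610 510 = true := by decide +kernel
theorem rel12 : table.relOK chkPaths 6120 510 = true := by decide +kernel
theorem rel13 : table.relOK chkPaths 6630 510 = true := by decide +kernel
theorem rel14 : table.relOK chkPaths 7140 510 = true := by decide +kernel
theorem rel15 : table.relOK chkPaths 7650 510 = true := by decide +kernel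
theorem rel16 : table.relOK chkPaths 8160 510 = true := by decide +kernel
theorem rel17 : table.relOK chkPaths 8670 510 = true := by decide +kernel
theorem rel18 : table.relOK chkPaths 9180 510 = true := by decide +kernel
theorem rel19 : table.relOK chkPaths 9690 510 = true := by decide +kernel
theorem rel20 : table.relOK chkPaths 10200 510 = true := by decide +kernel
theorem rel21 : table.relOK chkPaths 10710 510 = true := by decide +kernel

end Cfsg.Agent.Lib.Helper28.TCFi24L1
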