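import Cfsg.Agent.Lib.Helper28.TCFi24Table
import Cfsg.Agent.Lib.Helper28.TCFi24L1
set_option autoImplicit false
set_option maxRecDepth 100000
set_option maxHeartbeats 0

namespace Cfsg.Agent.Lib.Helper28.TCFi24L4
open Cfsg.Agent.Lib.Helper28.TC2Upper Cfsg.Agent.Lib.Helper28.TC2Lower Cfsg.Agent.Lib.Helper28.TCFi24Table

theorem rel44 : table.relOK chkPaths 22440 510 = true := by decide +kernel
theorem rel45 : table.relOK chkPaths 22950 510 = true := by decide +kernel
theorem rel46 : table.relOK chkPaths 23460 510 = true := by decide +kernel
theorem rel47 : table.relOK chkPaths 23970 510 = true := by decide +kernel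
theorem rel48 : table.relOK chkPaths 24480 510 = true := by decide +kernel
theorem rel49 : table.relOK chkPaths 24990 510 = true := by decide +kernel
theorem rel50 : table.relOK chkPaths 25500 510 = true := by decide +kernel
theorem rel51 : table.relOK chkPaths 26010 510 = true := by decide +kernel
theorem rel52 : table.relOK chkPaths 26520 510 = true := by decide +kernel
theorem rel53 : table.relOK chkPaths 27030 510 = true := by decide +kernel
theorem rel54 : table.relOK chkPaths 27540 510 = true := by decide +kernel

end Cfsg.Agent.Lib.Helper28.TCFi24L4
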