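import Cfsg.Agent.Lib.Helper28.TCFi24Table
import Cfsg.Agent.Lib.Helper28.TCFi24L4
set_option autoImplicit false
set_option maxRecDepth 100000
set_option maxHeartbeats 0

namespace Cfsg.Agent.Lib.Helper28.TCFi24L7
open Cfsg.Agent.Lib.Helper28.TC2Upper Cfsg.Agent.Lib.Helper28.TC2Lower Cfsg.Agent.Lib.Helper28.TCFi24Table

theorem rel77 : table.relOK chkPaths 39270 510 = true := by decide +kernel
theorem rel78 : table.relOK chkPaths 39780 510 = true := by decide +kernel
theorem rel79 : table.relOK chkPaths 40290 510 = true := by decide +kernel
theorem rel80 : table.relOK chkPaths 40800 510 = true := by decide +kernel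
theorem rel81 : table.relOK chkPaths 41310 510 = true := by decide +kernel
theorem rel82 : table.relOK chkPaths 41820 510 = true := by decide +kernel
theorem rel83 : table.relOK chkPaths 42330 510 = true := by decide +kernel
theorem rel84 : table.relOK chkPaths 42840 510 = true := by decide +kernel
theorem rel85 : table.relOK chkPaths 43350 510 = true := by decide +kernel
theorem rel86 : table.relOK chkPaths 43860 510 = true := by decide +kernel
theorem rel87 : table.relOK chkPaths 44370 510 = true := by decide +kernel

end Cfsg.Agent.Lib.Helper28.TCFi24L7
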