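import Cfsg.Agent.Lib.Helper28.TCFi24Table
import Cfsg.Agent.Lib.Helper28.TCFi24L7
set_option autoImplicit false
set_option maxRecDepth 100000
set_option maxHeartbeats 0

namespace Cfsg.Agent.Lib.Helper28.TCFi24L10
open Cfsg.Agent.Lib.Helper28.TC2Upper Cfsg.Agent.Lib.Helper28.TC2Lower Cfsg.Agent.Lib.Helper28.TCFi24Table

theorem rel110 : table.relOK chkPaths 56100 510 = true := by decide +kernel
theorem rel111 : table.relOK chkPaths 56610 510 = true := by decide +kernel
theorem rel112 : table.relOK chkPaths 57120 510 = true := by decide +kernel
theorem rel113 : table.relOK chkPaths 57630 510 = true := by decide +kernel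
theorem rel114 : table.relOK chkPaths 58140 510 = true := by decide +kernel
theorem rel115 : table.relOK chkPaths 58650 510 = true := by decide +kernel
theorem rel116 : table.relOK chkPaths 59160 510 = true := by decide +kernel
theorem rel117 : table.relOK chkPaths 59670 510 = true := by decide +kernel
theorem rel118 : table.relOK chkPaths 60180 510 = true := by decide +kernel
theorem rel119 : table.relOK chkPaths 60690 510 = true := by decide +kernel
theorem rel120 : table.relOK chkPaths 61200 510 = true := by decide +kernel

end Cfsg.Agent.Lib.Helper28.TCFi24L10
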