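import Cfsg.Agent.Lib.Helper28.TCFi24Table
set_option autoImplicit false
set_option maxRecDepth 100000
set_option maxHeartbeats 0

namespace Cfsg.Agent.Lib.Helper28.TCFi24L2
open Cfsg.Agent.Lib.Helper28.TC2Upper Cfsg.Agent.Lib.Helper28.TC2Lower Cfsg.Agent.Lib.Helper28.TCFi24Table

theorem rel22 : table.relOK chkPaths 11220 510 = true := by decide +kernel
theorem rel23 : table.relOK chkPaths 11730 510 = true := by decide +kernel
theorem rel24 : table.relOK chkPaths 12240 510 = true := by decide +kernel
theorem rel25 : table.relOK chkPaths 12750 510 = true := by decide +kernel
theorem rel26 : table.relOK chkPaths 13260 510 = true := by decide +kernel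
theorem rel27 : table.relOK chkPaths 13770 510 = true := by decide +kernel
theorem rel28 : table.relOK chkPaths 14280 510 = true := by decide +kernel
theorem rel29 : table.relOK chkPaths 14790 510 = true := by decide +kernel
theorem rel30 : table.relOK chkPaths 15300 510 = true := by decide +kernel
theorem rel31 : table.relOK chkPaths 15810 510 = true := by decide +kernel
theorem rel32 : table.relOK chkPaths 16320 510 = true := by decide +kernel

end Cfsg.Agent.Lib.Helper28.TCFi24L2
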