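import Cfsg.Agent.Lib.Helper28.TCFi24Table
import Cfsg.Agent.Lib.Helper28.TCFi24L2
set_option autoImplicit false
set_option maxRecDepth 100000
set_option maxHeartbeats 0

namespace Cfsg.Agent.Lib.Helper28.TCFi24L5
open Cfsg.Agent.Lib.Helper28.TC2Upper Cfsg.Agent.Lib.Helper28.TC2Lower Cfsg.Agent.Lib.Helper28.TCFi24Table

theorem rel55 : table.relOK chkPaths 28050 510 = true := by decide +kernel
theorem rel56 : table.relOK chkPaths 28560 510 = true := by decide +kernel
theorem rel57 : table.relOK chkPaths 29070 510 = true := by decide +kernel
theorem rel58 : table.relOK chkPaths 29580 510 = true := by decide +kernel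
theorem rel59 : table.relOK chkPaths 30090 510 = true := by decide +kernel
theorem rel60 : table.relOK chkPaths 30600 510 = true := by decide +kernel
theorem rel61 : table.relOK chkPaths 31110 510 = true := by decide +kernel
theorem rel62 : table.relOK chkPaths 31620 510 = true := by decide +kernel
theorem rel63 : table.relOK chkPaths 32130 510 = true := by decide +kernel
theorem rel64 : table.relOK chkPaths 32640 510 = true := by decide +kernel
theorem rel65 : table.relOK chkPaths 33150 510 = true := by decide +kernel

end Cfsg.Agent.Lib.Helper28.TCFi24L5
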