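import Cfsg.Agent.Lib.Helper28.TCFi24Table
import Cfsg.Agent.Lib.Helper28.TCFi24L5
set_option autoImplicit false
set_option maxRecDepth 100000
set_option maxHeartbeats 0

namespace Cfsg.Agent.Lib.Helper28.TCFi24L8
open Cfsg.Agent.Lib.Helper28.TC2Upper Cfsg.Agent.Lib.Helper28.TC2Lower Cfsg.Agent.Lib.Helper28.TCFi24Table

theorem rel88 : table.relOK chkPaths 44880 510 = true := by decide +kernel
theorem rel89 : table.relOK chkPaths 45390 510 = true := by decide +kernel
theorem rel90 : table.relOK chkPaths 45900 510 = true := by decide +kernel
theorem rel91 : table.relOK chkPaths 46410 510 = true := by decide +kernel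
theorem rel92 : table.relOK chkPaths 46920 510 = true := by decide +kernel
theorem rel93 : table.relOK chkPaths 47430 510 = true := by decide +kernel
theorem rel94 : table.relOK chkPaths 47940 510 = true := by decide +kernel
theorem rel95 : table.relOK chkPaths 48450 510 = true := by decide +kernel
theorem rel96 : table.relOK chkPaths 48960 510 = true := by decide +kernel
theorem rel97 : table.relOK chkPaths 49470 510 = true := by decide +kernel
theorem rel98 : table.relOK chkPaths 49980 510 = true := by decide +kernel

end Cfsg.Agent.Lib.Helper28.TCFi24L8
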