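import Cfsg.Agent.Lib.Helper28.TCFi24Table
import Cfsg.Agent.Lib.Helper28.TCFi24L8
set_option autoImplicit false
set_option maxRecDepth 100000
set_option maxHeartbeats 0

namespace Cfsg.Agent.Lib.Helper28.TCFi24L11
open Cfsg.Agent.Lib.Helper28.TC2Upper Cfsg.Agent.Lib.Helper28.TC2Lower Cfsg.Agent.Lib.Helper28.TCFi24Table

theorem rel121 : table.relOK chkPaths 61710 510 = true := by decide +kernel
theorem rel122 : table.relOK chkPaths 62220 510 = true := by decide +kernel
theorem rel123 : table.relOK chkPaths 62730 510 = true := by decide +kernel
theorem rel124 : table.relOK chkPaths 63240 510 = true := by decide +kernel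
theorem rel125 : table.relOK chkPaths 63750 510 = true := by decide +kernel
theorem rel126 : table.relOK chkPaths 64260 510 = true := by decide +kernel
theorem rel127 : table.relOK chkPaths 64770 510 = true := by decide +kernel
theorem rel128 : table.relOK chkPaths 65280 510 = true := by decide +kernel
theorem rel129 : table.relOK chkPaths 65790 510 = true := by decide +kernel
theorem rel130 : table.relOK chkPaths 66300 510 = true := by decide +kernel
theorem rel131 : table.relOK chkPaths 66810 510 = true := by decide +kernel

end Cfsg.Agent.Lib.Helper28.TCFi24L11
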