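import Cfsg.Agent.Lib.Helper28.TCFi24Table
import Cfsg.Agent.Lib.Helper28.TCFi24L0
set_option autoImplicit false
set_option maxRecDepth 100000
set_option maxHeartbeats 0

namespace Cfsg.Agent.Lib.Helper28.TCFi24L3
open Cfsg.Agent.Lib.Helper28.TC2Upper Cfsg.Agent.Lib.Helper28.TC2Lower Cfsg.Agent.Lib.Helper28.TCFi24Table

theorem rel33 : table.relOK chkPaths 16830 510 = true := by decide +kernel
theorem rel34 : table.relOK chkPaths 17340 510 = true := by decide +kernel
theorem rel35 : table.relOK chkPaths 17850 510 = true := by decide +kernel
theorem rel36 : table.relOK chkPaths 18360 510 = true := by decide +kernel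
theorem rel37 : table.relOK chkPaths 18870 510 = true := by decide +kernel
theorem rel38 : table.relOK chkPaths 19380 510 = true := by decide +kernel
theorem rel39 : table.relOK chkPaths 19890 510 = true := by decide +kernel
theorem rel40 : table.relOK chkPaths 20400 510 = true := by decide +kernel
theorem rel41 : table.relOK chkPaths 20910 510 = true := by decide +kernel
theorem rel42 : table.relOK chkPaths 21420 510 = true := by decide +kernel
theorem rel43 : table.relOK chkPaths 21930 510 = true := by decide +kernel

end Cfsg.Agent.Lib.Helper28.TCFi24L3
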