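import Cfsg.Agent.Lib.Helper28.TCFi24Table
import Cfsg.Agent.Lib.Helper28.TCFi24L3
set_option autoImplicit false
set_option maxRecDepth 100000
set_option maxHeartbeats 0

namespace Cfsg.Agent.Lib.Helper28.TCFi24L6
open Cfsg.Agent.Lib.Helper28.TC2Upper Cfsg.Agent.Lib.Helper28.TC2Lower Cfsg.Agent.Lib.Helper28.TCFi24Table

theorem rel66 : table.relOK chkPaths 33660 510 = true := by decide +kernel
theorem rel67 : table.relOK chkPaths 34170 510 = true := by decide +kernel
theorem rel68 : table.relOK chkPaths 34680 510 = true := by decide +kernel
theorem rel69 : table.relOK chkPaths 35190 510 = true := by decide +kernel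
theorem rel70 : table.relOK chkPaths 35700 510 = true := by decide +kernel
theorem rel71 : table.relOK chkPaths 36210 510 = true := by decide +kernel
theorem rel72 : table.relOK chkPaths 36720 510 = true := by decide +kernel
theorem rel73 : table.relOK chkPaths 37230 510 = true := by decide +kernel
theorem rel74 : table.relOK chkPaths 37740 510 = true := by decide +kernel
theorem rel75 : table.relOK chkPaths 38250 510 = true := by decide +kernel
theorem rel76 : table.relOK chkPaths 38760 510 = true := by decide +kernel

end Cfsg.Agent.Lib.Helper28.TCFi24L6
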