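import Cfsg.Agent.Lib.Helper28.TCFi24Table
import Cfsg.Agent.Lib.Helper28.TCFi24L6
set_option autoImplicit false
set_option maxRecDepth 100000
set_option maxHeartbeats 0

namespace Cfsg.Agent.Lib.Helper28.TCFi24L9
open Cfsg.Agent.Lib.Helper28.TC2Upper Cfsg.Agent.Lib.Helper28.TC2Lower Cfsg.Agent.Lib.Helper28.TCFi24Table

theorem rel99 : table.relOK chkPaths 50490 510 = true := by decide +kernel
theorem rel100 : table.relOK chkPaths 51000 510 = true := by decide +kernel
theorem rel101 : table.relOK chkPaths 51510 510 = true := by decide +kernel
theorem rel102 : table.relOK chkPaths 52020 510 = true := by decide +kernel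
theorem rel103 : table.relOK chkPaths 52530 510 = true := by decide +kernel
theorem rel104 : table.relOK chkPaths 53040 510 = true := by decide +kernel
theorem rel105 : table.relOK chkPaths 53550 510 = true := by decide +kernel
theorem rel106 : table.relOK chkPaths 54060 510 = true := by decide +kernel
theorem rel107 : table.relOK chkPaths 54570 510 = true := by decide +kernel
theorem rel108 : table.relOK chkPaths 55080 510 = true := by decide +kernel
theorem rel109 : table.relOK chkPaths 55590 510 = true := by decide +kernel

end Cfsg.Agent.Lib.Helper28.TCFi24L9
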