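import Cfsg.Agent.Lib.Helper28.TCFi24Table
import Cfsg.Agent.Lib.Helper28.TCFi24L9
set_option autoImplicit false
set_option maxRecDepth 100000
set_option maxHeartbeats 0

namespace Cfsg.Agent.Lib.Helper28.TCFi24L12
open Cfsg.Agent.Lib.Helper28.TC2Upper Cfsg.Agent.Lib.Helper28.TC2Lower Cfsg.Agent.Lib.Helper28.TCFi24Table

theorem rel132 : table.relOK chkPaths 67320 510 = true := by decide +kernel
theorem rel133 : table.relOK chkPaths 67830 510 = true := by decide +kernel
theorem rel134 : table.relOK chkPaths 68340 510 = true := by decide +kernel
theorem rel135 : table.relOK chkPaths 68850 510 = true := by decide +kernel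
theorem rel136 : table.relOK chkPaths 69360 510 = true := by decide +kernel
theorem rel137 : table.relOK chkPaths 69870 510 = true := by decide +kernel
theorem rel138 : table.relOK chkPaths 70380 510 = true := by decide +kernel
theorem rel139 : table.relOK chkPaths 70890 510 = true := by decide +kernel
theorem rel140 : table.relOK chkPaths 71400 510 = true := by decide +kernel
theorem rel141 : table.relOK chkPaths 71910 510 = true := by decide +kernel
theorem rel142 : table.relOK chkPaths 72420 510 = true := by decide +kernel

end Cfsg.Agent.Lib.Helper28.TCFi24L12
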