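import Cfsg.Agent.Lib.Helper28.TCFi24Table
import Cfsg.Agent.Lib.Helper28.TCFi24L10
set_option autoImplicit false
set_option maxRecDepth 100000
set_option maxHeartbeats 0

namespace Cfsg.Agent.Lib.Helper28.TCFi24L13
open Cfsg.Agent.Lib.Helper28.TC2Upper Cfsg.Agent.Lib.Helper28.TC2Lower Cfsg.Agent.Lib.Helper28.TCFi24Table

theorem rel143 : table.relOK chkPaths 72930 510 = true := by decide +kernel
theorem rel144 : table.relOK chkPaths 73440 510 = true := by decide +kernel
theorem rel145 : table.relOK chkPaths 73950 510 = true := by decide +kernel
theorem rel146 : table.relOK chkPaths 74460 510 = true := by decide +kernel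
theorem rel147 : table.relOK chkPaths 74970 510 = true := by decide +kernel
theorem rel148 : table.relOK chkPaths 75480 510 = true := by decide +kernel
theorem rel149 : table.relOK chkPaths 75990 510 = true := by decide +kernel
theorem rel150 : table.relOK chkPaths 76500 510 = true := by decide +kernel
theorem rel151 : table.relOK chkPaths 77010 510 = true := by decide +kernel
theorem rel152 : table.relOK chkPaths 77520 510 = true := by decide +kernel
theorem rel153 : table.relOK chkPaths 78030 510 = true := by decide +kernel

end Cfsg.Agent.Lib.Helper28.TCFi24L13
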