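import Cfsg.Agent.Lib.Helper28.TCFi24Table
import Cfsg.Agent.Lib.Helper28.TCFi24L11
set_option autoImplicit false
set_option maxRecDepth 100000
set_option maxHeartbeats 0

namespace Cfsg.Agent.Lib.Helper28.TCFi24L14
open Cfsg.Agent.Lib.Helper28.TC2Upper Cfsg.Agent.Lib.Helper28.TC2Lower Cfsg.Agent.Lib.Helper28.TCFi24Table

theorem rel154 : table.relOK chkPaths 78540 510 = true := by decide +kernel
theorem rel155 : table.relOK chkPaths 79050 510 = true := by decide +kernel
theorem rel156 : table.relOK chkPaths 79560 510 = true := by decide +kernel
theorem rel157 : table.relOK chkPaths 80070 510 = true := by decide +kernel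
theorem rel158 : table.relOK chkPaths 80580 510 = true := by decide +kernel
theorem rel159 : table.relOK chkPaths 81090 510 = true := by decide +kernel
theorem rel160 : table.relOK chkPaths 81600 510 = true := by decide +kernel
theorem rel161 : table.relOK chkPaths 82110 510 = true := by decide +kernel
theorem rel162 : table.relOK chkPaths 82620 510 = true := by decide +kernel
theorem rel163 : table.relOK chkPaths 83130 510 = true := by decide +kernel
theorem rel164 : table.relOK chkPaths 83640 510 = true := by decide +kernel

end Cfsg.Agent.Lib.Helper28.TCFi24L14
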