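import Cfsg.Agent.Lib.Helper28.TCFi24Table
import Cfsg.Agent.Lib.Helper28.TCFi24L12
set_option autoImplicit false
set_option maxRecDepth 100000
set_option maxHeartbeats 0

namespace Cfsg.Agent.Lib.Helper28.TCFi24L15
open Cfsg.Agent.Lib.Helper28.TC2Upper Cfsg.Agent.Lib.Helper28.TC2Lower Cfsg.Agent.Lib.Helper28.TCFi24Table

theorem rel165 : table.relOK chkPaths 84150 510 = true := by decide +kernel
theorem rel166 : table.relOK chkPaths 84660 510 = true := by decide +kernel
theorem rel167 : table.relOK chkPaths 85170 510 = true := by decide +kernel
theorem rel168 : table.relOK chkPaths 85680 510 = true := by decide +kernel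
theorem rel169 : table.relOK chkPaths 86190 510 = true := by decide +kernel
theorem rel170 : table.relOK chkPaths 86700 510 = true := by decide +kernel
theorem rel171 : table.relOK chkPaths 87210 510 = true := by decide +kernel
theorem rel172 : table.relOK chkPaths 87720 510 = true := by decide +kernel
theorem rel173 : table.relOK chkPaths 88230 510 = true := by decide +kernel
theorem rel174 : table.relOK chkPaths 88740 510 = true := by decide +kernel
theorem rel175 : table.relOK chkPaths 89250 510 = true := by decide +kernel

end Cfsg.Agent.Lib.Helper28.TCFi24L15
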