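import Cfsg.Agent.Lib.Helper28.TCFi24Table
import Cfsg.Agent.Lib.Helper28.TCFi24L13
set_option autoImplicit false
set_option maxRecDepth 100000
set_option maxHeartbeats 0

namespace Cfsg.Agent.Lib.Helper28.TCFi24L16
open Cfsg.Agent.Lib.Helper28.TC2Upper Cfsg.Agent.Lib.Helper28.TC2Lower Cfsg.Agent.Lib.Helper28.TCFi24Table

theorem rel176 : table.relOK chkPaths 89760 510 = true := by decide +kernel
theorem rel177 : table.relOK chkPaths 90270 510 = true := by decide +kernel
theorem rel178 : table.relOK chkPaths 90780 510 = true := by decide +kernel
theorem rel179 : table.relOK chkPaths 91290 510 = true := by decide +kernel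
theorem rel180 : table.relOK chkPaths 91800 510 = true := by decide +kernel
theorem rel181 : table.relOK chkPaths 92310 510 = true := by decide +kernel
theorem rel182 : table.relOK chkPaths 92820 510 = true := by decide +kernel
theorem rel183 : table.relOK chkPaths 93330 510 = true := by decide +kernel
theorem rel184 : table.relOK chkPaths 93840 510 = true := by decide +kernel
theorem rel185 : table.relOK chkPaths 94350 510 = true := by decide +kernel
theorem rel186 : table.relOK chkPaths 94860 510 = true := by decide +kernel

end Cfsg.Agent.Lib.Helper28.TCFi24L16
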