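import Cfsg.Agent.Lib.Helper28.TCFi24Table
import Cfsg.Agent.Lib.Helper28.TCFi24L14
set_option autoImplicit false
set_option maxRecDepth 100000
set_option maxHeartbeats 0

namespace Cfsg.Agent.Lib.Helper28.TCFi24L17
open Cfsg.Agent.Lib.Helper28.TC2Upper Cfsg.Agent.Lib.Helper28.TC2Lower Cfsg.Agent.Lib.Helper28.TCFi24Table

theorem rel187 : table.relOK chkPaths 95370 510 = true := by decide +kernel
theorem rel188 : table.relOK chkPaths 95880 510 = true := by decide +kernel
theorem rel189 : table.relOK chkPaths 96390 510 = true := by decide +kernel
theorem rel190 : table.relOK chkPaths 96900 510 = true := by decide +kernel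
theorem rel191 : table.relOK chkPaths 97410 510 = true := by decide +kernel
theorem rel192 : table.relOK chkPaths 97920 510 = true := by decide +kernel
theorem rel193 : table.relOK chkPaths 98430 510 = true := by decide +kernel
theorem rel194 : table.relOK chkPaths 98940 510 = true := by decide +kernel
theorem rel195 : table.relOK chkPaths 99450 510 = true := by decide +kernel
theorem rel196 : table.relOK chkPaths 99960 510 = true := by decide +kernel
theorem rel197 : table.relOK chkPaths 100470 510 = true := by decide +kernel

end Cfsg.Agent.Lib.Helper28.TCFi24L17
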