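import Cfsg.Agent.Lib.Helper28.TCFi24Table
import Cfsg.Agent.Lib.Helper28.TCFi24L15
set_option autoImplicit false
set_option maxRecDepth 100000
set_option maxHeartbeats 0

namespace Cfsg.Agent.Lib.Helper28.TCFi24L18
open Cfsg.Agent.Lib.Helper28.TC2Upper Cfsg.Agent.Lib.Helper28.TC2Lower Cfsg.Agent.Lib.Helper28.TCFi24Table

theorem rel198 : table.relOK chkPaths 100980 510 = true := by decide +kernel
theorem rel199 : table.relOK chkPaths 101490 510 = true := by decide +kernel
theorem rel200 : table.relOK chkPaths 102000 510 = true := by decide +kernel
theorem rel201 : table.relOK chkPaths 102510 510 = true := by decide +kernel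
theorem rel202 : table.relOK chkPaths 103020 510 = true := by decide +kernel
theorem rel203 : table.relOK chkPaths 103530 510 = true := by decide +kernel
theorem rel204 : table.relOK chkPaths 104040 510 = true := by decide +kernel
theorem rel205 : table.relOK chkPaths 104550 510 = true := by decide +kernel
theorem rel206 : table.relOK chkPaths 105060 510 = true := by decide +kernel
theorem rel207 : table.relOK chkPaths 105570 510 = true := by decide +kernel
theorem rel208 : table.relOK chkPaths 106080 510 = true := by decide +kernel

end Cfsg.Agent.Lib.Helper28.TCFi24L18
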