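import Cfsg.Agent.Lib.Helper28.TCFi24Table
import Cfsg.Agent.Lib.Helper28.TCFi24L16
set_option autoImplicit false
set_option maxRecDepth 100000
set_option maxHeartbeats 0

namespace Cfsg.Agent.Lib.Helper28.TCFi24L19
open Cfsg.Agent.Lib.Helper28.TC2Upper Cfsg.Agent.Lib.Helper28.TC2Lower Cfsg.Agent.Lib.Helper28.TCFi24Table

theorem rel209 : table.relOK chkPaths 106590 510 = true := by decide +kernel
theorem rel210 : table.relOK chkPaths 107100 510 = true := by decide +kernel
theorem rel211 : table.relOK chkPaths 107610 510 = true := by decide +kernel
theorem rel212 : table.relOK chkPaths 108120 510 = true := by decide +kernel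
theorem rel213 : table.relOK chkPaths 108630 510 = true := by decide +kernel
theorem rel214 : table.relOK chkPaths 109140 510 = true := by decide +kernel
theorem rel215 : table.relOK chkPaths 109650 510 = true := by decide +kernel
theorem rel216 : table.relOK chkPaths 110160 510 = true := by decide +kernel
theorem rel217 : table.relOK chkPaths 110670 510 = true := by decide +kernel
theorem rel218 : table.relOK chkPaths 111180 510 = true := by decide +kernel
theorem rel219 : table.relOK chkPaths 111690 510 = true := by decide +kernel

end Cfsg.Agent.Lib.Helper28.TCFi24L19
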