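import Cfsg.Agent.Lib.Helper28.TCFi24Table
import Cfsg.Agent.Lib.Helper28.TCFi24L17
set_option autoImplicit false
set_option maxRecDepth 100000
set_option maxHeartbeats 0

namespace Cfsg.Agent.Lib.Helper28.TCFi24L20
open Cfsg.Agent.Lib.Helper28.TC2Upper Cfsg.Agent.Lib.Helper28.TC2Lower Cfsg.Agent.Lib.Helper28.TCFi24Table

theorem rel220 : table.relOK chkPaths 112200 510 = true := by decide +kernel
theorem rel221 : table.relOK chkPaths 112710 510 = true := by decide +kernel
theorem rel222 : table.relOK chkPaths 113220 510 = true := by decide +kernel
theorem rel223 : table.relOK chkPaths 113730 510 = true := by decide +kernel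
theorem rel224 : table.relOK chkPaths 114240 510 = true := by decide +kernel
theorem rel225 : table.relOK chkPaths 114750 510 = true := by decide +kernel
theorem rel226 : table.relOK chkPaths 115260 510 = true := by decide +kernel
theorem rel227 : table.relOK chkPaths 115770 510 = true := by decide +kernel
theorem rel228 : table.relOK chkPaths 116280 510 = true := by decide +kernel
theorem rel229 : table.relOK chkPaths 116790 510 = true := by decide +kernel
theorem rel230 : table.relOK chkPaths 117300 510 = true := by decide +kernel

end Cfsg.Agent.Lib.Helper28.TCFi24L20
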