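import Cfsg.Agent.Lib.Helper28.TCFi24Table
import Cfsg.Agent.Lib.Helper28.TCFi24L18
set_option autoImplicit false
set_option maxRecDepth 100000
set_option maxHeartbeats 0

namespace Cfsg.Agent.Lib.Helper28.TCFi24L21
open Cfsg.Agent.Lib.Helper28.TC2Upper Cfsg.Agent.Lib.Helper28.TC2Lower Cfsg.Agent.Lib.Helper28.TCFi24Table

theorem rel231 : table.relOK chkPaths 117810 510 = true := by decide +kernel
theorem rel232 : table.relOK chkPaths 118320 510 = true := by decide +kernel
theorem rel233 : table.relOK chkPaths 118830 510 = true := by decide +kernel
theorem rel234 : table.relOK chkPaths 119340 510 = true := by decide +kernel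
theorem rel235 : table.relOK chkPaths 119850 510 = true := by decide +kernel
theorem rel236 : table.relOK chkPaths 120360 510 = true := by decide +kernel
theorem rel237 : table.relOK chkPaths 120870 510 = true := by decide +kernel
theorem rel238 : table.relOK chkPaths 121380 510 = true := by decide +kernel
theorem rel239 : table.relOK chkPaths 121890 510 = true := by decide +kernel
theorem rel240 : table.relOK chkPaths 122400 510 = true := by decide +kernel
theorem rel241 : table.relOK chkPaths 122910 510 = true := by decide +kernel

end Cfsg.Agent.Lib.Helper28.TCFi24L21
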