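import Cfsg.Agent.Lib.Helper28.TCFi24Table
import Cfsg.Agent.Lib.Helper28.TCFi24L20
set_option autoImplicit false
set_option maxRecDepth 100000
set_option maxHeartbeats 0

namespace Cfsg.Agent.Lib.Helper28.TCFi24L23
open Cfsg.Agent.Lib.Helper28.TC2Upper Cfsg.Agent.Lib.Helper28.TC2Lower Cfsg.Agent.Lib.Helper28.TCFi24Table

theorem rel253 : table.relOK chkPaths 129030 510 = true := by decide +kernel
theorem rel254 : table.relOK chkPaths 129540 510 = true := by decide +kernel
theorem rel255 : table.relOK chkPaths 130050 510 = true := by decide +kernel
theorem rel256 : table.relOK chkPaths 130560 510 = true := by decide +kernel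
theorem rel257 : table.relOK chkPaths 131070 510 = true := by decide +kernel
theorem rel258 : table.relOK chkPaths 131580 510 = true := by decide +kernel
theorem rel259 : table.relOK chkPaths 132090 510 = true := by decide +kernel
theorem rel260 : table.relOK chkPaths 132600 510 = true := by decide +kernel
theorem rel261 : table.relOK chkPaths 133110 510 = true := by decide +kernel
theorem rel262 : table.relOK chkPaths 133620 510 = true := by decide +kernel
theorem rel263 : table.relOK chkPaths 134130 510 = true := by decide +kernel

end Cfsg.Agent.Lib.Helper28.TCFi24L23
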