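import Cfsg.Agent.Lib.Helper28.TCFi24Table
import Cfsg.Agent.Lib.Helper28.TCFi24L21
set_option autoImplicit false
set_option maxRecDepth 100000
set_option maxHeartbeats 0

namespace Cfsg.Agent.Lib.Helper28.TCFi24L24
open Cfsg.Agent.Lib.Helper28.TC2Upper Cfsg.Agent.Lib.Helper28.TC2Lower Cfsg.Agent.Lib.Helper28.TCFi24Table

theorem rel264 : table.relOK chkPaths 134640 510 = true := by decide +kernel
theorem rel265 : table.relOK chkPaths 135150 510 = true := by decide +kernel
theorem rel266 : table.relOK chkPaths 135660 510 = true := by decide +kernel
theorem rel267 : table.relOK chkPaths 136170 510 = true := by decide +kernel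
theorem rel268 : table.relOK chkPaths 136680 510 = true := by decide +kernel
theorem rel269 : table.relOK chkPaths 137190 510 = true := by decide +kernel
theorem rel270 : table.relOK chkPaths 137700 510 = true := by decide +kernel
theorem rel271 : table.relOK chkPaths 138210 510 = true := by decide +kernel
theorem rel272 : table.relOK chkPaths 138720 510 = true := by decide +kernel
theorem rel273 : table.relOK chkPaths 139230 510 = true := by decide +kernel
theorem rel274 : table.relOK chkPaths 139740 510 = true := by decide +kernel

end Cfsg.Agent.Lib.Helper28.TCFi24L24
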