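import Cfsg.Agent.Lib.Helper28.TCFi24Table
import Cfsg.Agent.Lib.Helper28.TCFi24L19
set_option autoImplicit false
set_option maxRecDepth 100000
set_option maxHeartbeats 0

namespace Cfsg.Agent.Lib.Helper28.TCFi24L22
open Cfsg.Agent.Lib.Helper28.TC2Upper Cfsg.Agent.Lib.Helper28.TC2Lower Cfsg.Agent.Lib.Helper28.TCFi24Table

theorem rel242 : table.relOK chkPaths 123420 510 = true := by decide +kernel
theorem rel243 : table.relOK chkPaths 123930 510 = true := by decide +kernel
theorem rel244 : table.relOK chkPaths 124440 510 = true := by decide +kernel
theorem rel245 : table.relOK chkPaths 124950 510 = true := by decide +kernel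
theorem rel246 : table.relOK chkPaths 125460 510 = true := by decide +kernel
theorem rel247 : table.relOK chkPaths 125970 510 = true := by decide +kernel
theorem rel248 : table.relOK chkPaths 126480 510 = true := by decide +kernel
theorem rel249 : table.relOK chkPaths 126990 510 = true := by decide +kernel
theorem rel250 : table.relOK chkPaths 127500 510 = true := by decide +kernel
theorem rel251 : table.relOK chkPaths 128010 510 = true := by decide +kernel
theorem rel252 : table.relOK chkPaths 128520 510 = true := by decide +kernel

end Cfsg.Agent.Lib.Helper28.TCFi24L22
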