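import Cfsg.Agent.Lib.Helper28.TCFi24Table
import Cfsg.Agent.Lib.Helper28.TCFi24L22
set_option autoImplicit false
set_option maxRecDepth 100000
set_option maxHeartbeats 0

namespace Cfsg.Agent.Lib.Helper28.TCFi24L25
open Cfsg.Agent.Lib.Helper28.TC2Upper Cfsg.Agent.Lib.Helper28.TC2Lower Cfsg.Agent.Lib.Helper28.TCFi24Table

theorem rel275 : table.relOK chkPaths 140250 510 = true := by decide +kernel
theorem rel276 : table.relOK chkPaths 140760 510 = true := by decide +kernel
theorem rel277 : table.relOK chkPaths 141270 510 = true := by decide +kernel
theorem rel278 : table.relOK chkPaths 141780 510 = true := by decide +kernel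
theorem rel279 : table.relOK chkPaths 142290 510 = true := by decide +kernel
theorem rel280 : table.relOK chkPaths 142800 510 = true := by decide +kernel
theorem rel281 : table.relOK chkPaths 143310 510 = true := by decide +kernel
theorem rel282 : table.relOK chkPaths 143820 510 = true := by decide +kernel
theorem rel283 : table.relOK chkPaths 144330 510 = true := by decide +kernel
theorem rel284 : table.relOK chkPaths 144840 510 = true := by decide +kernel
theorem rel285 : table.relOK chkPaths 145350 510 = true := by decide +kernel

end Cfsg.Agent.Lib.Helper28.TCFi24L25
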