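import Cfsg.Agent.Lib.Helper28.TCFi24Table
import Cfsg.Agent.Lib.Helper28.TCFi24L23
set_option autoImplicit false
set_option maxRecDepth 100000
set_option maxHeartbeats 0

namespace Cfsg.Agent.Lib.Helper28.TCFi24L26
open Cfsg.Agent.Lib.Helper28.TC2Upper Cfsg.Agent.Lib.Helper28.TC2Lower Cfsg.Agent.Lib.Helper28.TCFi24Table

theorem rel286 : table.relOK chkPaths 145860 510 = true := by decide +kernel
theorem rel287 : table.relOK chkPaths 146370 510 = true := by decide +kernel
theorem rel288 : table.relOK chkPaths 146880 510 = true := by decide +kernel
theorem rel289 : table.relOK chkPaths 147390 510 = true := by decide +kernel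
theorem rel290 : table.relOK chkPaths 147900 510 = true := by decide +kernel
theorem rel291 : table.relOK chkPaths 148410 510 = true := by decide +kernel
theorem rel292 : table.relOK chkPaths 148920 510 = true := by decide +kernel
theorem rel293 : table.relOK chkPaths 149430 510 = true := by decide +kernel
theorem rel294 : table.relOK chkPaths 149940 510 = true := by decide +kernel
theorem rel295 : table.relOK chkPaths 150450 510 = true := by decide +kernel
theorem rel296 : table.relOK chkPaths 150960 510 = true := by decide +kernel

end Cfsg.Agent.Lib.Helper28.TCFi24L26
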