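import Cfsg.Agent.Lib.Helper28.TCFi24Table
import Cfsg.Agent.Lib.Helper28.TCFi24L24
set_option autoImplicit false
set_option maxRecDepth 100000
set_option maxHeartbeats 0

namespace Cfsg.Agent.Lib.Helper28.TCFi24L27
open Cfsg.Agent.Lib.Helper28.TC2Upper Cfsg.Agent.Lib.Helper28.TC2Lower Cfsg.Agent.Lib.Helper28.TCFi24Table

theorem rel297 : table.relOK chkPaths 151470 510 = true := by decide +kernel
theorem rel298 : table.relOK chkPaths 151980 510 = true := by decide +kernel
theorem rel299 : table.relOK chkPaths 152490 510 = true := by decide +kernel
theorem rel300 : table.relOK chkPaths 153000 510 = true := by decide +kernel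
theorem rel301 : table.relOK chkPaths 153510 510 = true := by decide +kernel
theorem rel302 : table.relOK chkPaths 154020 510 = true := by decide +kernel
theorem rel303 : table.relOK chkPaths 154530 510 = true := by decide +kernel
theorem rel304 : table.relOK chkPaths 155040 510 = true := by decide +kernel
theorem rel305 : table.relOK chkPaths 155550 510 = true := by decide +kernel
theorem rel306 : table.relOK chkPaths 156060 510 = true := by decide +kernel
theorem rel307 : table.relOK chkPaths 156570 510 = true := by decide +kernel

end Cfsg.Agent.Lib.Helper28.TCFi24L27
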