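import Cfsg.Agent.Lib.Helper28.TCFi24Table
import Cfsg.Agent.Lib.Helper28.TCFi24L25
set_option autoImplicit false
set_option maxRecDepth 100000
set_option maxHeartbeats 0

namespace Cfsg.Agent.Lib.Helper28.TCFi24L28
open Cfsg.Agent.Lib.Helper28.TC2Upper Cfsg.Agent.Lib.Helper28.TC2Lower Cfsg.Agent.Lib.Helper28.TCFi24Table

theorem rel308 : table.relOK chkPaths 157080 510 = true := by decide +kernel
theorem rel309 : table.relOK chkPaths 157590 510 = true := by decide +kernel
theorem rel310 : table.relOK chkPaths 158100 510 = true := by decide +kernel
theorem rel311 : table.relOK chkPaths 158610 510 = true := by decide +kernel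
theorem rel312 : table.relOK chkPaths 159120 510 = true := by decide +kernel
theorem rel313 : table.relOK chkPaths 159630 510 = true := by decide +kernel
theorem rel314 : table.relOK chkPaths 160140 510 = true := by decide +kernel
theorem rel315 : table.relOK chkPaths 160650 510 = true := by decide +kernel
theorem rel316 : table.relOK chkPaths 161160 510 = true := by decide +kernel
theorem rel317 : table.relOK chkPaths 161670 510 = true := by decide +kernel
theorem rel318 : table.relOK chkPaths 162180 510 = true := by decide +kernel

end Cfsg.Agent.Lib.Helper28.TCFi24L28
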