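import Cfsg.Agent.Lib.Helper28.TCFi24Table
import Cfsg.Agent.Lib.Helper28.TCFi24L26
set_option autoImplicit false
set_option maxRecDepth 100000
set_option maxHeartbeats 0

namespace Cfsg.Agent.Lib.Helper28.TCFi24L29
open Cfsg.Agent.Lib.Helper28.TC2Upper Cfsg.Agent.Lib.Helper28.TC2Lower Cfsg.Agent.Lib.Helper28.TCFi24Table

theorem rel319 : table.relOK chkPaths 162690 510 = true := by decide +kernel
theorem rel320 : table.relOK chkPaths 163200 510 = true := by decide +kernel
theorem rel321 : table.relOK chkPaths 163710 510 = true := by decide +kernel
theorem rel322 : table.relOK chkPaths 164220 510 = true := by decide +kernel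
theorem rel323 : table.relOK chkPaths 164730 510 = true := by decide +kernel
theorem rel324 : table.relOK chkPaths 165240 510 = true := by decide +kernel
theorem rel325 : table.relOK chkPaths 165750 510 = true := by decide +kernel
theorem rel326 : table.relOK chkPaths 166260 510 = true := by decide +kernel
theorem rel327 : table.relOK chkPaths 166770 510 = true := by decide +kernel
theorem rel328 : table.relOK chkPaths 167280 510 = true := by decide +kernel
theorem rel329 : table.relOK chkPaths 167790 510 = true := by decide +kernel

end Cfsg.Agent.Lib.Helper28.TCFi24L29
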