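import Cfsg.Agent.Lib.Helper28.TCFi24Table
import Cfsg.Agent.Lib.Helper28.TCFi24L27
set_option autoImplicit false
set_option maxRecDepth 100000
set_option maxHeartbeats 0

namespace Cfsg.Agent.Lib.Helper28.TCFi24L30
open Cfsg.Agent.Lib.Helper28.TC2Upper Cfsg.Agent.Lib.Helper28.TC2Lower Cfsg.Agent.Lib.Helper28.TCFi24Table

theorem rel330 : table.relOK chkPaths 168300 510 = true := by decide +kernel
theorem rel331 : table.relOK chkPaths 168810 510 = true := by decide +kernel
theorem rel332 : table.relOK chkPaths 169320 510 = true := by decide +kernel
theorem rel333 : table.relOK chkPaths 169830 510 = true := by decide +kernel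
theorem rel334 : table.relOK chkPaths 170340 510 = true := by decide +kernel
theorem rel335 : table.relOK chkPaths 170850 510 = true := by decide +kernel
theorem rel336 : table.relOK chkPaths 171360 510 = true := by decide +kernel
theorem rel337 : table.relOK chkPaths 171870 510 = true := by decide +kernel
theorem rel338 : table.relOK chkPaths 172380 510 = true := by decide +kernel
theorem rel339 : table.relOK chkPaths 172890 510 = true := by decide +kernel
theorem rel340 : table.relOK chkPaths 173400 510 = true := by decide +kernel

end Cfsg.Agent.Lib.Helper28.TCFi24L30
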