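import Cfsg.Agent.Lib.Helper28.TCFi24Table
import Cfsg.Agent.Lib.Helper28.TCFi24L28
set_option autoImplicit false
set_option maxRecDepth 100000
set_option maxHeartbeats 0

namespace Cfsg.Agent.Lib.Helper28.TCFi24L31
open Cfsg.Agent.Lib.Helper28.TC2Upper Cfsg.Agent.Lib.Helper28.TC2Lower Cfsg.Agent.Lib.Helper28.TCFi24Table

theorem rel341 : table.relOK chkPaths 173910 510 = true := by decide +kernel
theorem rel342 : table.relOK chkPaths 174420 510 = true := by decide +kernel
theorem rel343 : table.relOK chkPaths 174930 510 = true := by decide +kernel
theorem rel344 : table.relOK chkPaths 175440 510 = true := by decide +kernel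
theorem rel345 : table.relOK chkPaths 175950 510 = true := by decide +kernel
theorem rel346 : table.relOK chkPaths 176460 510 = true := by decide +kernel
theorem rel347 : table.relOK chkPaths 176970 510 = true := by decide +kernel
theorem rel348 : table.relOK chkPaths 177480 510 = true := by decide +kernel
theorem rel349 : table.relOK chkPaths 177990 510 = true := by decide +kernel
theorem rel350 : table.relOK chkPaths 178500 510 = true := by decide +kernel
theorem rel351 : table.relOK chkPaths 179010 510 = true := by decide +kernel

end Cfsg.Agent.Lib.Helper28.TCFi24L31
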