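import Cfsg.Agent.Lib.Helper28.TCFi24Table
import Cfsg.Agent.Lib.Helper28.TCFi24L29
set_option autoImplicit false
set_option maxRecDepth 100000
set_option maxHeartbeats 0

namespace Cfsg.Agent.Lib.Helper28.TCFi24L32
open Cfsg.Agent.Lib.Helper28.TC2Upper Cfsg.Agent.Lib.Helper28.TC2Lower Cfsg.Agent.Lib.Helper28.TCFi24Table

theorem rel352 : table.relOK chkPaths 179520 510 = true := by decide +kernel
theorem rel353 : table.relOK chkPaths 180030 510 = true := by decide +kernel
theorem rel354 : table.relOK chkPaths 180540 510 = true := by decide +kernel
theorem rel355 : table.relOK chkPaths 181050 510 = true := by decide +kernel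
theorem rel356 : table.relOK chkPaths 181560 510 = true := by decide +kernel
theorem rel357 : table.relOK chkPaths 182070 510 = true := by decide +kernel
theorem rel358 : table.relOK chkPaths 182580 510 = true := by decide +kernel
theorem rel359 : table.relOK chkPaths 183090 510 = true := by decide +kernel
theorem rel360 : table.relOK chkPaths 183600 510 = true := by decide +kernel
theorem rel361 : table.relOK chkPaths 184110 510 = true := by decide +kernel
theorem rel362 : table.relOK chkPaths 184620 510 = true := by decide +kernel

end Cfsg.Agent.Lib.Helper28.TCFi24L32
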