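import Cfsg.Agent.Lib.Helper28.TCFi24Table
import Cfsg.Agent.Lib.Helper28.TCFi24L30
set_option autoImplicit false
set_option maxRecDepth 100000
set_option maxHeartbeats 0

namespace Cfsg.Agent.Lib.Helper28.TCFi24L33
open Cfsg.Agent.Lib.Helper28.TC2Upper Cfsg.Agent.Lib.Helper28.TC2Lower Cfsg.Agent.Lib.Helper28.TCFi24Table

theorem rel363 : table.relOK chkPaths 185130 510 = true := by decide +kernel
theorem rel364 : table.relOK chkPaths 185640 510 = true := by decide +kernel
theorem rel365 : table.relOK chkPaths 186150 510 = true := by decide +kernel
theorem rel366 : table.relOK chkPaths 186660 510 = true := by decide +kernel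
theorem rel367 : table.relOK chkPaths 187170 510 = true := by decide +kernel
theorem rel368 : table.relOK chkPaths 187680 510 = true := by decide +kernel
theorem rel369 : table.relOK chkPaths 188190 510 = true := by decide +kernel
theorem rel370 : table.relOK chkPaths 188700 510 = true := by decide +kernel
theorem rel371 : table.relOK chkPaths 189210 510 = true := by decide +kernel
theorem rel372 : table.relOK chkPaths 189720 510 = true := by decide +kernel
theorem rel373 : table.relOK chkPaths 190230 510 = true := by decide +kernel

end Cfsg.Agent.Lib.Helper28.TCFi24L33
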