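import Cfsg.Agent.Lib.Helper28.TCFi24Table
import Cfsg.Agent.Lib.Helper28.TCFi24L31
set_option autoImplicit false
set_option maxRecDepth 100000
set_option maxHeartbeats 0

namespace Cfsg.Agent.Lib.Helper28.TCFi24L34
open Cfsg.Agent.Lib.Helper28.TC2Upper Cfsg.Agent.Lib.Helper28.TC2Lower Cfsg.Agent.Lib.Helper28.TCFi24Table

theorem rel374 : table.relOK chkPaths 190740 510 = true := by decide +kernel
theorem rel375 : table.relOK chkPaths 191250 510 = true := by decide +kernel
theorem rel376 : table.relOK chkPaths 191760 510 = true := by decide +kernel
theorem rel377 : table.relOK chkPaths 192270 510 = true := by decide +kernel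
theorem rel378 : table.relOK chkPaths 192780 510 = true := by decide +kernel
theorem rel379 : table.relOK chkPaths 193290 510 = true := by decide +kernel
theorem rel380 : table.relOK chkPaths 193800 510 = true := by decide +kernel
theorem rel381 : table.relOK chkPaths 194310 510 = true := by decide +kernel
theorem rel382 : table.relOK chkPaths 194820 510 = true := by decide +kernel
theorem rel383 : table.relOK chkPaths 195330 510 = true := by decide +kernel
theorem rel384 : table.relOK chkPaths 195840 510 = true := by decide +kernel

end Cfsg.Agent.Lib.Helper28.TCFi24L34
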