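import Cfsg.Agent.Lib.Helper28.TCFi24Table
import Cfsg.Agent.Lib.Helper28.TCFi24L33
set_option autoImplicit false
set_option maxRecDepth 100000
set_option maxHeartbeats 0

namespace Cfsg.Agent.Lib.Helper28.TCFi24L36
open Cfsg.Agent.Lib.Helper28.TC2Upper Cfsg.Agent.Lib.Helper28.TC2Lower Cfsg.Agent.Lib.Helper28.TCFi24Table

theorem rel396 : table.relOK chkPaths 201960 510 = true := by decide +kernel
theorem rel397 : table.relOK chkPaths 202470 510 = true := by decide +kernel
theorem rel398 : table.relOK chkPaths 202980 510 = true := by decide +kernel
theorem rel399 : table.relOK chkPaths 203490 510 = true := by decide +kernel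
theorem rel400 : table.relOK chkPaths 204000 510 = true := by decide +kernel
theorem rel401 : table.relOK chkPaths 204510 510 = true := by decide +kernel
theorem rel402 : table.relOK chkPaths 205020 510 = true := by decide +kernel
theorem rel403 : table.relOK chkPaths 205530 510 = true := by decide +kernel
theorem rel404 : table.relOK chkPaths 206040 510 = true := by decide +kernel
theorem rel405 : table.relOK chkPaths 206550 510 = true := by decide +kernel
theorem rel406 : table.relOK chkPaths 207060 510 = true := by decide +kernel

end Cfsg.Agent.Lib.Helper28.TCFi24L36
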