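import Cfsg.Agent.Lib.Helper28.TCFi24Table
import Cfsg.Agent.Lib.Helper28.TCFi24L34
set_option autoImplicit false
set_option maxRecDepth 100000
set_option maxHeartbeats 0

namespace Cfsg.Agent.Lib.Helper28.TCFi24L37
open Cfsg.Agent.Lib.Helper28.TC2Upper Cfsg.Agent.Lib.Helper28.TC2Lower Cfsg.Agent.Lib.Helper28.TCFi24Table

theorem rel407 : table.relOK chkPaths 207570 510 = true := by decide +kernel
theorem rel408 : table.relOK chkPaths 208080 510 = true := by decide +kernel
theorem rel409 : table.relOK chkPaths 208590 510 = true := by decide +kernel
theorem rel410 : table.relOK chkPaths 209100 510 = true := by decide +kernel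
theorem rel411 : table.relOK chkPaths 209610 510 = true := by decide +kernel
theorem rel412 : table.relOK chkPaths 210120 510 = true := by decide +kernel
theorem rel413 : table.relOK chkPaths 210630 510 = true := by decide +kernel
theorem rel414 : table.relOK chkPaths 211140 510 = true := by decide +kernel
theorem rel415 : table.relOK chkPaths 211650 510 = true := by decide +kernel
theorem rel416 : table.relOK chkPaths 212160 510 = true := by decide +kernel
theorem rel417 : table.relOK chkPaths 212670 510 = true := by decide +kernel

end Cfsg.Agent.Lib.Helper28.TCFi24L37
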