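import Cfsg.Agent.Lib.Helper28.TCFi24Table
import Cfsg.Agent.Lib.Helper28.TCFi24L32
set_option autoImplicit false
set_option maxRecDepth 100000
set_option maxHeartbeats 0

namespace Cfsg.Agent.Lib.Helper28.TCFi24L35
open Cfsg.Agent.Lib.Helper28.TC2Upper Cfsg.Agent.Lib.Helper28.TC2Lower Cfsg.Agent.Lib.Helper28.TCFi24Table

theorem rel385 : table.relOK chkPaths 196350 510 = true := by decide +kernel
theorem rel386 : table.relOK chkPaths 196860 510 = true := by decide +kernel
theorem rel387 : table.relOK chkPaths 197370 510 = true := by decide +kernel
theorem rel388 : table.relOK chkPaths 197880 510 = true := by decide +kernel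
theorem rel389 : table.relOK chkPaths 198390 510 = true := by decide +kernel
theorem rel390 : table.relOK chkPaths 198900 510 = true := by decide +kernel
theorem rel391 : table.relOK chkPaths 199410 510 = true := by decide +kernel
theorem rel392 : table.relOK chkPaths 199920 510 = true := by decide +kernel
theorem rel393 : table.relOK chkPaths 200430 510 = true := by decide +kernel
theorem rel394 : table.relOK chkPaths 200940 510 = true := by decide +kernel
theorem rel395 : table.relOK chkPaths 201450 510 = true := by decide +kernel

end Cfsg.Agent.Lib.Helper28.TCFi24L35
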