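import Cfsg.Agent.Lib.Helper28.TCFi24Table
import Cfsg.Agent.Lib.Helper28.TCFi24L35
set_option autoImplicit false
set_option maxRecDepth 100000
set_option maxHeartbeats 0

namespace Cfsg.Agent.Lib.Helper28.TCFi24L38
open Cfsg.Agent.Lib.Helper28.TC2Upper Cfsg.Agent.Lib.Helper28.TC2Lower Cfsg.Agent.Lib.Helper28.TCFi24Table

theorem rel418 : table.relOK chkPaths 213180 510 = true := by decide +kernel
theorem rel419 : table.relOK chkPaths 213690 510 = true := by decide +kernel
theorem rel420 : table.relOK chkPaths 214200 510 = true := by decide +kernel
theorem rel421 : table.relOK chkPaths 214710 510 = true := by decide +kernel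
theorem rel422 : table.relOK chkPaths 215220 510 = true := by decide +kernel
theorem rel423 : table.relOK chkPaths 215730 510 = true := by decide +kernel
theorem rel424 : table.relOK chkPaths 216240 510 = true := by decide +kernel
theorem rel425 : table.relOK chkPaths 216750 510 = true := by decide +kernel
theorem rel426 : table.relOK chkPaths 217260 510 = true := by decide +kernel
theorem rel427 : table.relOK chkPaths 217770 510 = true := by decide +kernel
theorem rel428 : table.relOK chkPaths 218280 510 = true := by decide +kernel

end Cfsg.Agent.Lib.Helper28.TCFi24L38
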