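import Cfsg.Agent.Lib.Helper28.TCFi24Table
import Cfsg.Agent.Lib.Helper28.TCFi24L36
set_option autoImplicit false
set_option maxRecDepth 100000
set_option maxHeartbeats 0

namespace Cfsg.Agent.Lib.Helper28.TCFi24L39
open Cfsg.Agent.Lib.Helper28.TC2Upper Cfsg.Agent.Lib.Helper28.TC2Lower Cfsg.Agent.Lib.Helper28.TCFi24Table

theorem rel429 : table.relOK chkPaths 218790 510 = true := by decide +kernel
theorem rel430 : table.relOK chkPaths 219300 510 = true := by decide +kernel
theorem rel431 : table.relOK chkPaths 219810 510 = true := by decide +kernel
theorem rel432 : table.relOK chkPaths 220320 510 = true := by decide +kernel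
theorem rel433 : table.relOK chkPaths 220830 510 = true := by decide +kernel
theorem rel434 : table.relOK chkPaths 221340 510 = true := by decide +kernel
theorem rel435 : table.relOK chkPaths 221850 510 = true := by decide +kernel
theorem rel436 : table.relOK chkPaths 222360 510 = true := by decide +kernel
theorem rel437 : table.relOK chkPaths 222870 510 = true := by decide +kernel
theorem rel438 : table.relOK chkPaths 223380 510 = true := by decide +kernel
theorem rel439 : table.relOK chkPaths 223890 510 = true := by decide +kernel

end Cfsg.Agent.Lib.Helper28.TCFi24L39
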