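import Cfsg.Agent.Lib.Helper28.TCFi24Table
import Cfsg.Agent.Lib.Helper28.TCFi24L37
set_option autoImplicit false
set_option maxRecDepth 100000
set_option maxHeartbeats 0

namespace Cfsg.Agent.Lib.Helper28.TCFi24L40
open Cfsg.Agent.Lib.Helper28.TC2Upper Cfsg.Agent.Lib.Helper28.TC2Lower Cfsg.Agent.Lib.Helper28.TCFi24Table

theorem rel440 : table.relOK chkPaths 224400 510 = true := by decide +kernel
theorem rel441 : table.relOK chkPaths 224910 510 = true := by decide +kernel
theorem rel442 : table.relOK chkPaths 225420 510 = true := by decide +kernel
theorem rel443 : table.relOK chkPaths 225930 510 = true := by decide +kernel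
theorem rel444 : table.relOK chkPaths 226440 510 = true := by decide +kernel
theorem rel445 : table.relOK chkPaths 226950 510 = true := by decide +kernel
theorem rel446 : table.relOK chkPaths 227460 510 = true := by decide +kernel
theorem rel447 : table.relOK chkPaths 227970 510 = true := by decide +kernel
theorem rel448 : table.relOK chkPaths 228480 510 = true := by decide +kernel
theorem rel449 : table.relOK chkPaths 228990 510 = true := by decide +kernel
theorem rel450 : table.relOK chkPaths 229500 510 = true := by decide +kernel

end Cfsg.Agent.Lib.Helper28.TCFi24L40
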