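import Cfsg.Agent.Lib.Helper28.TCFi24Table
import Cfsg.Agent.Lib.Helper28.TCFi24L38
set_option autoImplicit false
set_option maxRecDepth 100000
set_option maxHeartbeats 0

namespace Cfsg.Agent.Lib.Helper28.TCFi24L41
open Cfsg.Agent.Lib.Helper28.TC2Upper Cfsg.Agent.Lib.Helper28.TC2Lower Cfsg.Agent.Lib.Helper28.TCFi24Table

theorem rel451 : table.relOK chkPaths 230010 510 = true := by decide +kernel
theorem rel452 : table.relOK chkPaths 230520 510 = true := by decide +kernel
theorem rel453 : table.relOK chkPaths 231030 510 = true := by decide +kernel
theorem rel454 : table.relOK chkPaths 231540 510 = true := by decide +kernel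
theorem rel455 : table.relOK chkPaths 232050 510 = true := by decide +kernel
theorem rel456 : table.relOK chkPaths 232560 510 = true := by decide +kernel
theorem rel457 : table.relOK chkPaths 233070 510 = true := by decide +kernel
theorem rel458 : table.relOK chkPaths 233580 510 = true := by decide +kernel
theorem rel459 : table.relOK chkPaths 234090 510 = true := by decide +kernel
theorem rel460 : table.relOK chkPaths 234600 510 = true := by decide +kernel
theorem rel461 : table.relOK chkPaths 235110 510 = true := by decide +kernel

end Cfsg.Agent.Lib.Helper28.TCFi24L41
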