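import Cfsg.Agent.Lib.Helper28.TCFi24Table
import Cfsg.Agent.Lib.Helper28.TCFi24L39
set_option autoImplicit false
set_option maxRecDepth 100000
set_option maxHeartbeats 0

namespace Cfsg.Agent.Lib.Helper28.TCFi24L42
open Cfsg.Agent.Lib.Helper28.TC2Upper Cfsg.Agent.Lib.Helper28.TC2Lower Cfsg.Agent.Lib.Helper28.TCFi24Table

theorem rel462 : table.relOK chkPaths 235620 510 = true := by decide +kernel
theorem rel463 : table.relOK chkPaths 236130 510 = true := by decide +kernel
theorem rel464 : table.relOK chkPaths 236640 510 = true := by decide +kernel
theorem rel465 : table.relOK chkPaths 237150 510 = true := by decide +kernel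
theorem rel466 : table.relOK chkPaths 237660 510 = true := by decide +kernel
theorem rel467 : table.relOK chkPaths 238170 510 = true := by decide +kernel
theorem rel468 : table.relOK chkPaths 238680 510 = true := by decide +kernel
theorem rel469 : table.relOK chkPaths 239190 510 = true := by decide +kernel
theorem rel470 : table.relOK chkPaths 239700 510 = true := by decide +kernel
theorem rel471 : table.relOK chkPaths 240210 510 = true := by decide +kernel
theorem rel472 : table.relOK chkPaths 240720 510 = true := by decide +kernel

end Cfsg.Agent.Lib.Helper28.TCFi24L42
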