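import Cfsg.Agent.Lib.Helper28.TCFi24Table
import Cfsg.Agent.Lib.Helper28.TCFi24L40
set_option autoImplicit false
set_option maxRecDepth 100000
set_option maxHeartbeats 0

namespace Cfsg.Agent.Lib.Helper28.TCFi24L43
open Cfsg.Agent.Lib.Helper28.TC2Upper Cfsg.Agent.Lib.Helper28.TC2Lower Cfsg.Agent.Lib.Helper28.TCFi24Table

theorem rel473 : table.relOK chkPaths 241230 510 = true := by decide +kernel
theorem rel474 : table.relOK chkPaths 241740 510 = true := by decide +kernel
theorem rel475 : table.relOK chkPaths 242250 510 = true := by decide +kernel
theorem rel476 : table.relOK chkPaths 242760 510 = true := by decide +kernel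
theorem rel477 : table.relOK chkPaths 243270 510 = true := by decide +kernel
theorem rel478 : table.relOK chkPaths 243780 510 = true := by decide +kernel
theorem rel479 : table.relOK chkPaths 244290 510 = true := by decide +kernel
theorem rel480 : table.relOK chkPaths 244800 510 = true := by decide +kernel
theorem rel481 : table.relOK chkPaths 245310 510 = true := by decide +kernel
theorem rel482 : table.relOK chkPaths 245820 510 = true := by decide +kernel
theorem rel483 : table.relOK chkPaths 246330 510 = true := by decide +kernel

end Cfsg.Agent.Lib.Helper28.TCFi24L43
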