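import Cfsg.Agent.Lib.Helper28.TCFi24Table
import Cfsg.Agent.Lib.Helper28.TCFi24L41
set_option autoImplicit false
set_option maxRecDepth 100000
set_option maxHeartbeats 0

namespace Cfsg.Agent.Lib.Helper28.TCFi24L44
open Cfsg.Agent.Lib.Helper28.TC2Upper Cfsg.Agent.Lib.Helper28.TC2Lower Cfsg.Agent.Lib.Helper28.TCFi24Table

theorem rel484 : table.relOK chkPaths 246840 510 = true := by decide +kernel
theorem rel485 : table.relOK chkPaths 247350 510 = true := by decide +kernel
theorem rel486 : table.relOK chkPaths 247860 510 = true := by decide +kernel
theorem rel487 : table.relOK chkPaths 248370 510 = true := by decide +kernel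
theorem rel488 : table.relOK chkPaths 248880 510 = true := by decide +kernel
theorem rel489 : table.relOK chkPaths 249390 510 = true := by decide +kernel
theorem rel490 : table.relOK chkPaths 249900 510 = true := by decide +kernel
theorem rel491 : table.relOK chkPaths 250410 510 = true := by decide +kernel
theorem rel492 : table.relOK chkPaths 250920 510 = true := by decide +kernel
theorem rel493 : table.relOK chkPaths 251430 510 = true := by decide +kernel
theorem rel494 : table.relOK chkPaths 251940 510 = true := by decide +kernel

end Cfsg.Agent.Lib.Helper28.TCFi24L44
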