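import Cfsg.Agent.Lib.Helper28.TCFi24Table
import Cfsg.Agent.Lib.Helper28.TCFi24L42
set_option autoImplicit false
set_option maxRecDepth 100000
set_option maxHeartbeats 0

namespace Cfsg.Agent.Lib.Helper28.TCFi24L45
open Cfsg.Agent.Lib.Helper28.TC2Upper Cfsg.Agent.Lib.Helper28.TC2Lower Cfsg.Agent.Lib.Helper28.TCFi24Table

theorem rel495 : table.relOK chkPaths 252450 510 = true := by decide +kernel
theorem rel496 : table.relOK chkPaths 252960 510 = true := by decide +kernel
theorem rel497 : table.relOK chkPaths 253470 510 = true := by decide +kernel
theorem rel498 : table.relOK chkPaths 253980 510 = true := by decide +kernel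
theorem rel499 : table.relOK chkPaths 254490 510 = true := by decide +kernel
theorem rel500 : table.relOK chkPaths 255000 510 = true := by decide +kernel
theorem rel501 : table.relOK chkPaths 255510 510 = true := by decide +kernel
theorem rel502 : table.relOK chkPaths 256020 510 = true := by decide +kernel
theorem rel503 : table.relOK chkPaths 256530 510 = true := by decide +kernel
theorem rel504 : table.relOK chkPaths 257040 510 = true := by decide +kernel
theorem rel505 : table.relOK chkPaths 257550 510 = true := by decide +kernel

end Cfsg.Agent.Lib.Helper28.TCFi24L45
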