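import Cfsg.Agent.Lib.Helper28.TCFi24Table
import Cfsg.Agent.Lib.Helper28.TCFi24L43
set_option autoImplicit false
set_option maxRecDepth 100000
set_option maxHeartbeats 0

namespace Cfsg.Agent.Lib.Helper28.TCFi24L46
open Cfsg.Agent.Lib.Helper28.TC2Upper Cfsg.Agent.Lib.Helper28.TC2Lower Cfsg.Agent.Lib.Helper28.TCFi24Table

theorem rel506 : table.relOK chkPaths 258060 510 = true := by decide +kernel
theorem rel507 : table.relOK chkPaths 258570 510 = true := by decide +kernel
theorem rel508 : table.relOK chkPaths 259080 510 = true := by decide +kernel
theorem rel509 : table.relOK chkPaths 259590 510 = true := by decide +kernel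
theorem rel510 : table.relOK chkPaths 260100 510 = true := by decide +kernel
theorem rel511 : table.relOK chkPaths 260610 510 = true := by decide +kernel
theorem rel512 : table.relOK chkPaths 261120 510 = true := by decide +kernel
theorem rel513 : table.relOK chkPaths 261630 510 = true := by decide +kernel
theorem rel514 : table.relOK chkPaths 262140 510 = true := by decide +kernel
theorem rel515 : table.relOK chkPaths 262650 510 = true := by decide +kernel
theorem rel516 : table.relOK chkPaths 263160 510 = true := by decide +kernel

end Cfsg.Agent.Lib.Helper28.TCFi24L46
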