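import Cfsg.Agent.Lib.Helper28.TCFi24Table
import Cfsg.Agent.Lib.Helper28.TCFi24L44
set_option autoImplicit false
set_option maxRecDepth 100000
set_option maxHeartbeats 0

namespace Cfsg.Agent.Lib.Helper28.TCFi24L47
open Cfsg.Agent.Lib.Helper28.TC2Upper Cfsg.Agent.Lib.Helper28.TC2Lower Cfsg.Agent.Lib.Helper28.TCFi24Table

theorem rel517 : table.relOK chkPaths 263670 510 = true := by decide +kernel
theorem rel518 : table.relOK chkPaths 264180 510 = true := by decide +kernel
theorem rel519 : table.relOK chkPaths 264690 510 = true := by decide +kernel
theorem rel520 : table.relOK chkPaths 265200 510 = true := by decide +kernel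
theorem rel521 : table.relOK chkPaths 265710 510 = true := by decide +kernel
theorem rel522 : table.relOK chkPaths 266220 510 = true := by decide +kernel
theorem rel523 : table.relOK chkPaths 266730 510 = true := by decide +kernel
theorem rel524 : table.relOK chkPaths 267240 510 = true := by decide +kernel
theorem rel525 : table.relOK chkPaths 267750 510 = true := by decide +kernel
theorem rel526 : table.relOK chkPaths 268260 510 = true := by decide +kernel
theorem rel527 : table.relOK chkPaths 268770 510 = true := by decide +kernel

end Cfsg.Agent.Lib.Helper28.TCFi24L47
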