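import Cfsg.Agent.Lib.Helper28.TCFi24Table
import Cfsg.Agent.Lib.Helper28.TCFi24L46
set_option autoImplicit false
set_option maxRecDepth 100000
set_option maxHeartbeats 0

namespace Cfsg.Agent.Lib.Helper28.TCFi24L49
open Cfsg.Agent.Lib.Helper28.TC2Upper Cfsg.Agent.Lib.Helper28.TC2Lower Cfsg.Agent.Lib.Helper28.TCFi24Table

theorem rel539 : table.relOK chkPaths 274890 510 = true := by decide +kernel
theorem rel540 : table.relOK chkPaths 275400 510 = true := by decide +kernel
theorem rel541 : table.relOK chkPaths 275910 510 = true := by decide +kernel
theorem rel542 : table.relOK chkPaths 276420 510 = true := by decide +kernel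
theorem rel543 : table.relOK chkPaths 276930 510 = true := by decide +kernel
theorem rel544 : table.relOK chkPaths 277440 510 = true := by decide +kernel
theorem rel545 : table.relOK chkPaths 277950 510 = true := by decide +kernel
theorem rel546 : table.relOK chkPaths 278460 510 = true := by decide +kernel
theorem rel547 : table.relOK chkPaths 278970 510 = true := by decide +kernel
theorem rel548 : table.relOK chkPaths 279480 510 = true := by decide +kernel
theorem rel549 : table.relOK chkPaths 279990 510 = true := by decide +kernel

end Cfsg.Agent.Lib.Helper28.TCFi24L49
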