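import Cfsg.Agent.Lib.Helper28.TCFi24Table
import Cfsg.Agent.Lib.Helper28.TCFi24L47
set_option autoImplicit false
set_option maxRecDepth 100000
set_option maxHeartbeats 0

namespace Cfsg.Agent.Lib.Helper28.TCFi24L50
open Cfsg.Agent.Lib.Helper28.TC2Upper Cfsg.Agent.Lib.Helper28.TC2Lower Cfsg.Agent.Lib.Helper28.TCFi24Table

theorem rel550 : table.relOK chkPaths 280500 510 = true := by decide +kernel
theorem rel551 : table.relOK chkPaths 281010 510 = true := by decide +kernel
theorem rel552 : table.relOK chkPaths 281520 510 = true := by decide +kernel
theorem rel553 : table.relOK chkPaths 282030 510 = true := by decide +kernel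
theorem rel554 : table.relOK chkPaths 282540 510 = true := by decide +kernel
theorem rel555 : table.relOK chkPaths 283050 510 = true := by decide +kernel
theorem rel556 : table.relOK chkPaths 283560 510 = true := by decide +kernel
theorem rel557 : table.relOK chkPaths 284070 510 = true := by decide +kernel
theorem rel558 : table.relOK chkPaths 284580 510 = true := by decide +kernel
theorem rel559 : table.relOK chkPaths 285090 510 = true := by decide +kernel
theorem rel560 : table.relOK chkPaths 285600 510 = true := by decide +kernel

end Cfsg.Agent.Lib.Helper28.TCFi24L50
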