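import Cfsg.Agent.Lib.Helper28.TCFi24Table
import Cfsg.Agent.Lib.Helper28.TCFi24L45
set_option autoImplicit false
set_option maxRecDepth 100000
set_option maxHeartbeats 0

namespace Cfsg.Agent.Lib.Helper28.TCFi24L48
open Cfsg.Agent.Lib.Helper28.TC2Upper Cfsg.Agent.Lib.Helper28.TC2Lower Cfsg.Agent.Lib.Helper28.TCFi24Table

theorem rel528 : table.relOK chkPaths 269280 510 = true := by decide +kernel
theorem rel529 : table.relOK chkPaths 269790 510 = true := by decide +kernel
theorem rel530 : table.relOK chkPaths 270300 510 = true := by decide +kernel
theorem rel531 : table.relOK chkPaths 270810 510 = true := by decide +kernel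
theorem rel532 : table.relOK chkPaths 271320 510 = true := by decide +kernel
theorem rel533 : table.relOK chkPaths 271830 510 = true := by decide +kernel
theorem rel534 : table.relOK chkPaths 272340 510 = true := by decide +kernel
theorem rel535 : table.relOK chkPaths 272850 510 = true := by decide +kernel
theorem rel536 : table.relOK chkPaths 273360 510 = true := by decide +kernel
theorem rel537 : table.relOK chkPaths 273870 510 = true := by decide +kernel
theorem rel538 : table.relOK chkPaths 274380 510 = true := by decide +kernel

end Cfsg.Agent.Lib.Helper28.TCFi24L48
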