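import Cfsg.Agent.Lib.Helper28.TCFi24Table
import Cfsg.Agent.Lib.Helper28.TCFi24L48
set_option autoImplicit false
set_option maxRecDepth 100000
set_option maxHeartbeats 0

namespace Cfsg.Agent.Lib.Helper28.TCFi24L51
open Cfsg.Agent.Lib.Helper28.TC2Upper Cfsg.Agent.Lib.Helper28.TC2Lower Cfsg.Agent.Lib.Helper28.TCFi24Table

theorem rel561 : table.relOK chkPaths 286110 510 = true := by decide +kernel
theorem rel562 : table.relOK chkPaths 286620 510 = true := by decide +kernel
theorem rel563 : table.relOK chkPaths 287130 510 = true := by decide +kernel
theorem rel564 : table.relOK chkPaths 287640 510 = true := by decide +kernel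
theorem rel565 : table.relOK chkPaths 288150 510 = true := by decide +kernel
theorem rel566 : table.relOK chkPaths 288660 510 = true := by decide +kernel
theorem rel567 : table.relOK chkPaths 289170 510 = true := by decide +kernel
theorem rel568 : table.relOK chkPaths 289680 510 = true := by decide +kernel
theorem rel569 : table.relOK chkPaths 290190 510 = true := by decide +kernel
theorem rel570 : table.relOK chkPaths 290700 510 = true := by decide +kernel
theorem rel571 : table.relOK chkPaths 291210 510 = true := by decide +kernel

end Cfsg.Agent.Lib.Helper28.TCFi24L51
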