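import Cfsg.Agent.Lib.Helper28.TCFi24Table
import Cfsg.Agent.Lib.Helper28.TCFi24L49
set_option autoImplicit false
set_option maxRecDepth 100000
set_option maxHeartbeats 0

namespace Cfsg.Agent.Lib.Helper28.TCFi24L52
open Cfsg.Agent.Lib.Helper28.TC2Upper Cfsg.Agent.Lib.Helper28.TC2Lower Cfsg.Agent.Lib.Helper28.TCFi24Table

theorem rel572 : table.relOK chkPaths 291720 510 = true := by decide +kernel
theorem rel573 : table.relOK chkPaths 292230 510 = true := by decide +kernel
theorem rel574 : table.relOK chkPaths 292740 510 = true := by decide +kernel
theorem rel575 : table.relOK chkPaths 293250 510 = true := by decide +kernel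
theorem rel576 : table.relOK chkPaths 293760 510 = true := by decide +kernel
theorem rel577 : table.relOK chkPaths 294270 510 = true := by decide +kernel
theorem rel578 : table.relOK chkPaths 294780 510 = true := by decide +kernel
theorem rel579 : table.relOK chkPaths 295290 510 = true := by decide +kernel
theorem rel580 : table.relOK chkPaths 295800 510 = true := by decide +kernel
theorem rel581 : table.relOK chkPaths 296310 510 = true := by decide +kernel
theorem rel582 : table.relOK chkPaths 296820 510 = true := by decide +kernel

end Cfsg.Agent.Lib.Helper28.TCFi24L52
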