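import Cfsg.Agent.Lib.Helper28.TCFi24Table
import Cfsg.Agent.Lib.Helper28.TCFi24L50
set_option autoImplicit false
set_option maxRecDepth 100000
set_option maxHeartbeats 0

namespace Cfsg.Agent.Lib.Helper28.TCFi24L53
open Cfsg.Agent.Lib.Helper28.TC2Upper Cfsg.Agent.Lib.Helper28.TC2Lower Cfsg.Agent.Lib.Helper28.TCFi24Table

theorem rel583 : table.relOK chkPaths 297330 510 = true := by decide +kernel
theorem rel584 : table.relOK chkPaths 297840 510 = true := by decide +kernel
theorem rel585 : table.relOK chkPaths 298350 510 = true := by decide +kernel
theorem rel586 : table.relOK chkPaths 298860 510 = true := by decide +kernel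
theorem rel587 : table.relOK chkPaths 299370 510 = true := by decide +kernel
theorem rel588 : table.relOK chkPaths 299880 510 = true := by decide +kernel
theorem rel589 : table.relOK chkPaths 300390 510 = true := by decide +kernel
theorem rel590 : table.relOK chkPaths 300900 510 = true := by decide +kernel
theorem rel591 : table.relOK chkPaths 301410 510 = true := by decide +kernel
theorem rel592 : table.relOK chkPaths 301920 510 = true := by decide +kernel
theorem rel593 : table.relOK chkPaths 302430 510 = true := by decide +kernel

end Cfsg.Agent.Lib.Helper28.TCFi24L53
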