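import Cfsg.Agent.Lib.Helper28.TCFi24Table
import Cfsg.Agent.Lib.Helper28.TCFi24L51
set_option autoImplicit false
set_option maxRecDepth 100000
set_option maxHeartbeats 0

namespace Cfsg.Agent.Lib.Helper28.TCFi24L54
open Cfsg.Agent.Lib.Helper28.TC2Upper Cfsg.Agent.Lib.Helper28.TC2Lower Cfsg.Agent.Lib.Helper28.TCFi24Table

theorem rel594 : table.relOK chkPaths 302940 510 = true := by decide +kernel
theorem rel595 : table.relOK chkPaths 303450 510 = true := by decide +kernel
theorem rel596 : table.relOK chkPaths 303960 510 = true := by decide +kernel
theorem rel597 : table.relOK chkPaths 304470 510 = true := by decide +kernel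
theorem rel598 : table.relOK chkPaths 304980 510 = true := by decide +kernel
theorem rel599 : table.relOK chkPaths 305490 510 = true := by decide +kernel
theorem rel600 : table.relOK chkPaths 306000 510 = true := by decide +kernel
theorem rel601 : table.relOK chkPaths 306510 426 = true := by decide +kernel

end Cfsg.Agent.Lib.Helper28.TCFi24L54
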