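import Cfsg.Agent.Lib.Helper28.TC2Range
import Cfsg.Agent.Lib.Helper28.TCFi24Data
import Cfsg.Agent.Lib.Helper28.TCFi24Table
set_option autoImplicit false
set_option maxRecDepth 100000
set_option maxHeartbeats 0

namespace Cfsg.Agent.Lib.Helper28.TCFi24M1
open Cfsg.Agent.Lib.Helper28.TC2Upper Cfsg.Agent.Lib.Helper28.TC2Lower Cfsg.Agent.Lib.Helper28.TC2Range Cfsg.Agent.Lib.Helper28.TCFi24Data Cfsg.Agent.Lib.Helper28.TCFi24Table

theorem fin10 : Data.finalRange data 83330 8333 = true := by decide +kernel
theorem fin11 : Data.finalRange data 91663 8333 = true := by decide +kernel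
theorem fin12 : Data.finalRange data 99996 8333 = true := by decide +kernel
theorem fin13 : Data.finalRange data 108329 8333 = true := by decide +kernel
theorem fin14 : Data.finalRange data 116662 8333 = true := by decide +kernel
theorem fin15 : Data.finalRange data 124995 8333 = true := by decide +kernel
theorem fin16 : Data.finalRange data 133328 8333 = true := by decide +kernel
theorem fin17 : Data.finalRange data 141661 8333 = true := by decide +kernel
theorem fin18 : Data.finalRange data 149994 8333 = true := by decide +kernel
theorem fin19 : Data.finalRange data 158327 8333 = true := by decide +kernel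

end Cfsg.Agent.Lib.Helper28.TCFi24M1
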