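import Cfsg.Agent.Lib.Helper28.TC2Range
import Cfsg.Agent.Lib.Helper28.TCFi24Data
import Cfsg.Agent.Lib.Helper28.TCFi24Table
import Cfsg.Agent.Lib.Helper28.TCFi24M1
set_option autoImplicit false
set_option maxRecDepth 100000
set_option maxHeartbeats 0

namespace Cfsg.Agent.Lib.Helper28.TCFi24M3
open Cfsg.Agent.Lib.Helper28.TC2Upper Cfsg.Agent.Lib.Helper28.TC2Lower Cfsg.Agent.Lib.Helper28.TC2Range Cfsg.Agent.Lib.Helper28.TCFi24Data Cfsg.Agent.Lib.Helper28.TCFi24Table

theorem fin30 : Data.finalRange data 249990 8333 = true := by decide +kernel
theorem fin31 : Data.finalRange data 258323 8333 = true := by decide +kernel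
theorem fin32 : Data.finalRange data 266656 8333 = true := by decide +kernel
theorem fin33 : Data.finalRange data 274989 8333 = true := by decide +kernel
theorem fin34 : Data.finalRange data 283322 8333 = true := by decide +kernel
theorem fin35 : Data.finalRange data 291655 8333 = true := by decide +kernel
theorem fin36 : Data.finalRange data 299988 8333 = true := by decide +kernel
theorem fin37 : Data.finalRange data 308321 8333 = true := by decide +kernel
theorem fin38 : Data.finalRange data 316654 8333 = true := by decide +kernel
theorem fin39 : Data.finalRange data 324987 8333 = true := by decide +kernel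

end Cfsg.Agent.Lib.Helper28.TCFi24M3
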