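import Cfsg.Agent.Lib.Helper28.TC2Range
import Cfsg.Agent.Lib.Helper28.TCFi24Data
import Cfsg.Agent.Lib.Helper28.TCFi24Table
import Cfsg.Agent.Lib.Helper28.TCFi24M2
set_option autoImplicit false
set_option maxRecDepth 100000
set_option maxHeartbeats 0

namespace Cfsg.Agent.Lib.Helper28.TCFi24M4
open Cfsg.Agent.Lib.Helper28.TC2Upper Cfsg.Agent.Lib.Helper28.TC2Lower Cfsg.Agent.Lib.Helper28.TC2Range Cfsg.Agent.Lib.Helper28.TCFi24Data Cfsg.Agent.Lib.Helper28.TCFi24Table

theorem fin40 : Data.finalRange data 333320 8333 = true := by decide +kernel
theorem fin41 : Data.finalRange data 341653 8333 = true := by decide +kernel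
theorem fin42 : Data.finalRange data 349986 8333 = true := by decide +kernel
theorem fin43 : Data.finalRange data 358319 8333 = true := by decide +kernel
theorem fin44 : Data.finalRange data 366652 8333 = true := by decide +kernel
theorem fin45 : Data.finalRange data 374985 8333 = true := by decide +kernel
theorem fin46 : Data.finalRange data 383318 8333 = true := by decide +kernel
theorem fin47 : Data.finalRange data 391651 2803 = true := by decide +kernel
theorem cnt0 : Data.countFrom data 0 40000 = 28214 := by decide +kernel
theorem cnt1 : Data.countFrom data 40000 40000 = 18553 := by decide +kernel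

end Cfsg.Agent.Lib.Helper28.TCFi24M4
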