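import Cfsg.Agent.Lib.Helper28.TC2Range
import Cfsg.Agent.Lib.Helper28.TCFi24Data
import Cfsg.Agent.Lib.Helper28.TCFi24Table
import Cfsg.Agent.Lib.Helper28.TCFi24M3
set_option autoImplicit false
set_option maxRecDepth 100000
set_option maxHeartbeats 0

namespace Cfsg.Agent.Lib.Helper28.TCFi24M5
open Cfsg.Agent.Lib.Helper28.TC2Upper Cfsg.Agent.Lib.Helper28.TC2Lower Cfsg.Agent.Lib.Helper28.TC2Range Cfsg.Agent.Lib.Helper28.TCFi24Data Cfsg.Agent.Lib.Helper28.TCFi24Table

theorem cnt2 : Data.countFrom data 80000 40000 = 15051 := by decide +kernel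
theorem cnt3 : Data.countFrom data 120000 40000 = 12308 := by decide +kernel
theorem cnt4 : Data.countFrom data 160000 40000 = 38385 := by decide +kernel
theorem cnt5 : Data.countFrom data 200000 40000 = 39990 := by decide +kernel
theorem cnt6 : Data.countFrom data 240000 40000 = 39981 := by decide +kernel
theorem cnt7 : Data.countFrom data 280000 40000 = 40000 := by decide +kernel
theorem cnt8 : Data.countFrom data 320000 40000 = 40000 := by decide +kernel
theorem cnt9 : Data.countFrom data 360000 34454 = 34454 := by decide +kernel
theorem prm0 : Table.permRange table 0 12500 = true := by decide +kernel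
theorem prm1 : Table.permRange table 12500 12500 = true := by decide +kernel

end Cfsg.Agent.Lib.Helper28.TCFi24M5
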