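import Cfsg.Agent.Lib.Helper28.TC2Range
import Cfsg.Agent.Lib.Helper28.TCFi24Data
import Cfsg.Agent.Lib.Helper28.TCFi24Table
import Cfsg.Agent.Lib.Helper28.TCFi24M4
set_option autoImplicit false
set_option maxRecDepth 100000
set_option maxHeartbeats 0

namespace Cfsg.Agent.Lib.Helper28.TCFi24M6
open Cfsg.Agent.Lib.Helper28.TC2Upper Cfsg.Agent.Lib.Helper28.TC2Lower Cfsg.Agent.Lib.Helper28.TC2Range Cfsg.Agent.Lib.Helper28.TCFi24Data Cfsg.Agent.Lib.Helper28.TCFi24Table

theorem prm2 : Table.permRange table 25000 12500 = true := by decide +kernel
theorem prm3 : Table.permRange table 37500 12500 = true := by decide +kernel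
theorem prm4 : Table.permRange table 50000 12500 = true := by decide +kernel
theorem prm5 : Table.permRange table 62500 12500 = true := by decide +kernel
theorem prm6 : Table.permRange table 75000 12500 = true := by decide +kernel
theorem prm7 : Table.permRange table 87500 12500 = true := by decide +kernel
theorem prm8 : Table.permRange table 100000 12500 = true := by decide +kernel
theorem prm9 : Table.permRange table 112500 12500 = true := by decide +kernel
theorem prm10 : Table.permRange table 125000 12500 = true := by decide +kernel
theorem prm11 : Table.permRange table 137500 12500 = true := by decide +kernel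

end Cfsg.Agent.Lib.Helper28.TCFi24M6
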