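import Cfsg.Agent.Lib.Helper28.TC2Range
import Cfsg.Agent.Lib.Helper28.TCFi24Data
import Cfsg.Agent.Lib.Helper28.TCFi24Table
import Cfsg.Agent.Lib.Helper28.TCFi24M6
set_option autoImplicit false
set_option maxRecDepth 100000
set_option maxHeartbeats 0

namespace Cfsg.Agent.Lib.Helper28.TCFi24M8
open Cfsg.Agent.Lib.Helper28.TC2Upper Cfsg.Agent.Lib.Helper28.TC2Lower Cfsg.Agent.Lib.Helper28.TC2Range Cfsg.Agent.Lib.Helper28.TCFi24Data Cfsg.Agent.Lib.Helper28.TCFi24Table

theorem prm22 : Table.permRange table 275000 12500 = true := by decide +kernel
theorem prm23 : Table.permRange table 287500 12500 = true := by decide +kernel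
theorem prm24 : Table.permRange table 300000 6936 = true := by decide +kernel
theorem tre0 : Table.treeRange table 0 100000 = true := by decide +kernel
theorem tre1 : Table.treeRange table 100000 100000 = true := by decide +kernel
theorem tre2 : Table.treeRange table 200000 100000 = true := by decide +kernel
theorem tre3 : Table.treeRange table 300000 6935 = true := by decide +kernel

end Cfsg.Agent.Lib.Helper28.TCFi24M8
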