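import Cfsg.Agent.Lib.Helper28.TCFi24Data
set_option autoImplicit false
set_option maxRecDepth 100000
set_option maxHeartbeats 0

namespace Cfsg.Agent.Lib.Helper28.TCFi24U1
open Cfsg.Agent.Lib.Helper28.TC2Upper Cfsg.Agent.Lib.Helper28.TCFi24Data

theorem chk10 : data.checkRange 7270 916 = true := by decide +kernel
theorem chk11 : data.checkRange 8186 791 = true := by decide +kernel
theorem chk12 : data.checkRange 8977 892 = true := by decide +kernel
theorem chk13 : data.checkRange 9869 1224 = true := by decide +kernel
theorem chk14 : data.checkRange 11093 776 = true := by decide +kernel
theorem chk15 : data.checkRange 11869 658 = true := by decide +kernel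
theorem chk16 : data.checkRange 12527 640 = true := by decide +kernel
theorem chk17 : data.checkRange 13167 639 = true := by decide +kernel
theorem chk18 : data.checkRange 13806 755 = true := by decide +kernel
theorem chk19 : data.checkRange 14561 674 = true := by decide +kernel

end Cfsg.Agent.Lib.Helper28.TCFi24U1
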