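import Cfsg.Agent.Lib.Helper28.TCFi24Data
set_option autoImplicit false
set_option maxRecDepth 100000
set_option maxHeartbeats 0

namespace Cfsg.Agent.Lib.Helper28.TCFi24U2
open Cfsg.Agent.Lib.Helper28.TC2Upper Cfsg.Agent.Lib.Helper28.TCFi24Data

theorem chk20 : data.checkRange 15235 652 = true := by decide +kernel
theorem chk21 : data.checkRange 15887 681 = true := by decide +kernel
theorem chk22 : data.checkRange 16568 676 = true := by decide +kernel
theorem chk23 : data.checkRange 17244 768 = true := by decide +kernel
theorem chk24 : data.checkRange 18012 792 = true := by decide +kernel
theorem chk25 : data.checkRange 18804 702 = true := by decide +kernel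
theorem chk26 : data.checkRange 19506 703 = true := by decide +kernel
theorem chk27 : data.checkRange 20209 737 = true := by decide +kernel
theorem chk28 : data.checkRange 20946 627 = true := by decide +kernel
theorem chk29 : data.checkRange 21573 758 = true := by decide +kernel

end Cfsg.Agent.Lib.Helper28.TCFi24U2
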