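import Cfsg.Agent.Lib.Helper28.TCFi24Data
import Cfsg.Agent.Lib.Helper28.TCFi24U2
set_option autoImplicit false
set_option maxRecDepth 100000
set_option maxHeartbeats 0

namespace Cfsg.Agent.Lib.Helper28.TCFi24U6
open Cfsg.Agent.Lib.Helper28.TC2Upper Cfsg.Agent.Lib.Helper28.TCFi24Data

theorem chk60 : data.checkRange 47500 843 = true := by decide +kernel
theorem chk61 : data.checkRange 48343 1073 = true := by decide +kernel
theorem chk62 : data.checkRange 49416 683 = true := by decide +kernel
theorem chk63 : data.checkRange 50099 680 = true := by decide +kernel
theorem chk64 : data.checkRange 50779 645 = true := by decide +kernel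
theorem chk65 : data.checkRange 51424 799 = true := by decide +kernel
theorem chk66 : data.checkRange 52223 1041 = true := by decide +kernel
theorem chk67 : data.checkRange 53264 1069 = true := by decide +kernel
theorem chk68 : data.checkRange 54333 722 = true := by decide +kernel
theorem chk69 : data.checkRange 55055 1017 = true := by decide +kernel

end Cfsg.Agent.Lib.Helper28.TCFi24U6
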