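import Cfsg.Agent.Lib.Helper28.TCFi24Data
import Cfsg.Agent.Lib.Helper28.TCFi24U6
set_option autoImplicit false
set_option maxRecDepth 100000
set_option maxHeartbeats 0

namespace Cfsg.Agent.Lib.Helper28.TCFi24U10
open Cfsg.Agent.Lib.Helper28.TC2Upper Cfsg.Agent.Lib.Helper28.TCFi24Data

theorem chk100 : data.checkRange 87457 753 = true := by decide +kernel
theorem chk101 : data.checkRange 88210 1645 = true := by decide +kernel
theorem chk102 : data.checkRange 89855 1449 = true := by decide +kernel
theorem chk103 : data.checkRange 91304 862 = true := by decide +kernel
theorem chk104 : data.checkRange 92166 1360 = true := by decide +kernel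
theorem chk105 : data.checkRange 93526 1029 = true := by decide +kernel
theorem chk106 : data.checkRange 94555 705 = true := by decide +kernel
theorem chk107 : data.checkRange 95260 865 = true := by decide +kernel
theorem chk108 : data.checkRange 96125 802 = true := by decide +kernel
theorem chk109 : data.checkRange 96927 733 = true := by decide +kernel

end Cfsg.Agent.Lib.Helper28.TCFi24U10
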