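import Cfsg.Agent.Lib.Helper28.TCFi24Data
import Cfsg.Agent.Lib.Helper28.TCFi24U0
set_option autoImplicit false
set_option maxRecDepth 100000
set_option maxHeartbeats 0

namespace Cfsg.Agent.Lib.Helper28.TCFi24U4
open Cfsg.Agent.Lib.Helper28.TC2Upper Cfsg.Agent.Lib.Helper28.TCFi24Data

theorem chk40 : data.checkRange 29972 1122 = true := by decide +kernel
theorem chk41 : data.checkRange 31094 872 = true := by decide +kernel
theorem chk42 : data.checkRange 31966 964 = true := by decide +kernel
theorem chk43 : data.checkRange 32930 749 = true := by decide +kernel
theorem chk44 : data.checkRange 33679 708 = true := by decide +kernel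
theorem chk45 : data.checkRange 34387 895 = true := by decide +kernel
theorem chk46 : data.checkRange 35282 836 = true := by decide +kernel
theorem chk47 : data.checkRange 36118 742 = true := by decide +kernel
theorem chk48 : data.checkRange 36860 649 = true := by decide +kernel
theorem chk49 : data.checkRange 37509 692 = true := by decide +kernel

end Cfsg.Agent.Lib.Helper28.TCFi24U4
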