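import Cfsg.Agent.Lib.Helper28.TCFi24Data
import Cfsg.Agent.Lib.Helper28.TCFi24U4
set_option autoImplicit false
set_option maxRecDepth 100000
set_option maxHeartbeats 0

namespace Cfsg.Agent.Lib.Helper28.TCFi24U8
open Cfsg.Agent.Lib.Helper28.TC2Upper Cfsg.Agent.Lib.Helper28.TCFi24Data

theorem chk80 : data.checkRange 66558 1234 = true := by decide +kernel
theorem chk81 : data.checkRange 67792 780 = true := by decide +kernel
theorem chk82 : data.checkRange 68572 751 = true := by decide +kernel
theorem chk83 : data.checkRange 69323 708 = true := by decide +kernel
theorem chk84 : data.checkRange 70031 677 = true := by decide +kernel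
theorem chk85 : data.checkRange 70708 656 = true := by decide +kernel
theorem chk86 : data.checkRange 71364 1126 = true := by decide +kernel
theorem chk87 : data.checkRange 72490 1145 = true := by decide +kernel
theorem chk88 : data.checkRange 73635 1370 = true := by decide +kernel
theorem chk89 : data.checkRange 75005 794 = true := by decide +kernel

end Cfsg.Agent.Lib.Helper28.TCFi24U8
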