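import Cfsg.Agent.Lib.Helper28.TCFi24Data
import Cfsg.Agent.Lib.Helper28.TCFi24U8
set_option autoImplicit false
set_option maxRecDepth 100000
set_option maxHeartbeats 0

namespace Cfsg.Agent.Lib.Helper28.TCFi24U12
open Cfsg.Agent.Lib.Helper28.TC2Upper Cfsg.Agent.Lib.Helper28.TCFi24Data

theorem chk120 : data.checkRange 110863 1026 = true := by decide +kernel
theorem chk121 : data.checkRange 111889 1003 = true := by decide +kernel
theorem chk122 : data.checkRange 112892 2540 = true := by decide +kernel
theorem chk123 : data.checkRange 115432 1892 = true := by decide +kernel
theorem chk124 : data.checkRange 117324 791 = true := by decide +kernel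
theorem chk125 : data.checkRange 118115 824 = true := by decide +kernel
theorem chk126 : data.checkRange 118939 881 = true := by decide +kernel
theorem chk127 : data.checkRange 119820 872 = true := by decide +kernel
theorem chk128 : data.checkRange 120692 764 = true := by decide +kernel
theorem chk129 : data.checkRange 121456 883 = true := by decide +kernel

end Cfsg.Agent.Lib.Helper28.TCFi24U12
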