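import Cfsg.Agent.Lib.Helper28.TCFi24Data
import Cfsg.Agent.Lib.Helper28.TCFi24U1
set_option autoImplicit false
set_option maxRecDepth 100000
set_option maxHeartbeats 0

namespace Cfsg.Agent.Lib.Helper28.TCFi24U5
open Cfsg.Agent.Lib.Helper28.TC2Upper Cfsg.Agent.Lib.Helper28.TCFi24Data

theorem chk50 : data.checkRange 38201 913 = true := by decide +kernel
theorem chk51 : data.checkRange 39114 850 = true := by decide +kernel
theorem chk52 : data.checkRange 39964 792 = true := by decide +kernel
theorem chk53 : data.checkRange 40756 1537 = true := by decide +kernel
theorem chk54 : data.checkRange 42293 707 = true := by decide +kernel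
theorem chk55 : data.checkRange 43000 1140 = true := by decide +kernel
theorem chk56 : data.checkRange 44140 937 = true := by decide +kernel
theorem chk57 : data.checkRange 45077 685 = true := by decide +kernel
theorem chk58 : data.checkRange 45762 707 = true := by decide +kernel
theorem chk59 : data.checkRange 46469 1031 = true := by decide +kernel

end Cfsg.Agent.Lib.Helper28.TCFi24U5
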