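import Cfsg.Agent.Lib.Helper28.TCFi24Data
import Cfsg.Agent.Lib.Helper28.TCFi24U5
set_option autoImplicit false
set_option maxRecDepth 100000
set_option maxHeartbeats 0

namespace Cfsg.Agent.Lib.Helper28.TCFi24U9
open Cfsg.Agent.Lib.Helper28.TC2Upper Cfsg.Agent.Lib.Helper28.TCFi24Data

theorem chk90 : data.checkRange 75799 736 = true := by decide +kernel
theorem chk91 : data.checkRange 76535 1466 = true := by decide +kernel
theorem chk92 : data.checkRange 78001 2147 = true := by decide +kernel
theorem chk93 : data.checkRange 80148 888 = true := by decide +kernel
theorem chk94 : data.checkRange 81036 1430 = true := by decide +kernel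
theorem chk95 : data.checkRange 82466 1557 = true := by decide +kernel
theorem chk96 : data.checkRange 84023 1193 = true := by decide +kernel
theorem chk97 : data.checkRange 85216 711 = true := by decide +kernel
theorem chk98 : data.checkRange 85927 843 = true := by decide +kernel
theorem chk99 : data.checkRange 86770 687 = true := by decide +kernel

end Cfsg.Agent.Lib.Helper28.TCFi24U9
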