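import Cfsg.Agent.Lib.Helper28.TCFi24Data
import Cfsg.Agent.Lib.Helper28.TCFi24U9
set_option autoImplicit false
set_option maxRecDepth 100000
set_option maxHeartbeats 0

namespace Cfsg.Agent.Lib.Helper28.TCFi24U13
open Cfsg.Agent.Lib.Helper28.TC2Upper Cfsg.Agent.Lib.Helper28.TCFi24Data

theorem chk130 : data.checkRange 122339 2251 = true := by decide +kernel
theorem chk131 : data.checkRange 124590 2134 = true := by decide +kernel
theorem chk132 : data.checkRange 126724 978 = true := by decide +kernel
theorem chk133 : data.checkRange 127702 1662 = true := by decide +kernel
theorem chk134 : data.checkRange 129364 1472 = true := by decide +kernel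
theorem chk135 : data.checkRange 130836 834 = true := by decide +kernel
theorem chk136 : data.checkRange 131670 988 = true := by decide +kernel
theorem chk137 : data.checkRange 132658 756 = true := by decide +kernel
theorem chk138 : data.checkRange 133414 932 = true := by decide +kernel
theorem chk139 : data.checkRange 134346 903 = true := by decide +kernel

end Cfsg.Agent.Lib.Helper28.TCFi24U13
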