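import Cfsg.Agent.Lib.Helper28.TCFi24Data
import Cfsg.Agent.Lib.Helper28.TCFi24U10
set_option autoImplicit false
set_option maxRecDepth 100000
set_option maxHeartbeats 0

namespace Cfsg.Agent.Lib.Helper28.TCFi24U14
open Cfsg.Agent.Lib.Helper28.TC2Upper Cfsg.Agent.Lib.Helper28.TCFi24Data

theorem chk140 : data.checkRange 135249 659 = true := by decide +kernel
theorem chk141 : data.checkRange 135908 680 = true := by decide +kernel
theorem chk142 : data.checkRange 136588 738 = true := by decide +kernel
theorem chk143 : data.checkRange 137326 980 = true := by decide +kernel
theorem chk144 : data.checkRange 138306 2586 = true := by decide +kernel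
theorem chk145 : data.checkRange 140892 1456 = true := by decide +kernel
theorem chk146 : data.checkRange 142348 2533 = true := by decide +kernel
theorem chk147 : data.checkRange 144881 1026 = true := by decide +kernel
theorem chk148 : data.checkRange 145907 1180 = true := by decide +kernel
theorem chk149 : data.checkRange 147087 2676 = true := by decide +kernel

end Cfsg.Agent.Lib.Helper28.TCFi24U14
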