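import Cfsg.Agent.Lib.Helper28.TCFi24Data
set_option autoImplicit false
set_option maxRecDepth 100000
set_option maxHeartbeats 0

namespace Cfsg.Agent.Lib.Helper28.TCFi24U3
open Cfsg.Agent.Lib.Helper28.TC2Upper Cfsg.Agent.Lib.Helper28.TCFi24Data

theorem chk30 : data.checkRange 22331 750 = true := by decide +kernel
theorem chk31 : data.checkRange 23081 936 = true := by decide +kernel
theorem chk32 : data.checkRange 24017 865 = true := by decide +kernel
theorem chk33 : data.checkRange 24882 661 = true := by decide +kernel
theorem chk34 : data.checkRange 25543 802 = true := by decide +kernel
theorem chk35 : data.checkRange 26345 803 = true := by decide +kernel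
theorem chk36 : data.checkRange 27148 647 = true := by decide +kernel
theorem chk37 : data.checkRange 27795 657 = true := by decide +kernel
theorem chk38 : data.checkRange 28452 806 = true := by decide +kernel
theorem chk39 : data.checkRange 29258 714 = true := by decide +kernel

end Cfsg.Agent.Lib.Helper28.TCFi24U3
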