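import Cfsg.Agent.Lib.Helper28.TCFi24Data
import Cfsg.Agent.Lib.Helper28.TCFi24U3
set_option autoImplicit false
set_option maxRecDepth 100000
set_option maxHeartbeats 0

namespace Cfsg.Agent.Lib.Helper28.TCFi24U7
open Cfsg.Agent.Lib.Helper28.TC2Upper Cfsg.Agent.Lib.Helper28.TCFi24Data

theorem chk70 : data.checkRange 56072 1849 = true := by decide +kernel
theorem chk71 : data.checkRange 57921 752 = true := by decide +kernel
theorem chk72 : data.checkRange 58673 1243 = true := by decide +kernel
theorem chk73 : data.checkRange 59916 1347 = true := by decide +kernel
theorem chk74 : data.checkRange 61263 764 = true := by decide +kernel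
theorem chk75 : data.checkRange 62027 734 = true := by decide +kernel
theorem chk76 : data.checkRange 62761 653 = true := by decide +kernel
theorem chk77 : data.checkRange 63414 1172 = true := by decide +kernel
theorem chk78 : data.checkRange 64586 1216 = true := by decide +kernel
theorem chk79 : data.checkRange 65802 756 = true := by decide +kernel

end Cfsg.Agent.Lib.Helper28.TCFi24U7
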