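import Cfsg.Agent.Lib.Helper28.TCFi24Data
import Cfsg.Agent.Lib.Helper28.TCFi24U7
set_option autoImplicit false
set_option maxRecDepth 100000
set_option maxHeartbeats 0

namespace Cfsg.Agent.Lib.Helper28.TCFi24U11
open Cfsg.Agent.Lib.Helper28.TC2Upper Cfsg.Agent.Lib.Helper28.TCFi24Data

theorem chk110 : data.checkRange 97660 637 = true := by decide +kernel
theorem chk111 : data.checkRange 98297 712 = true := by decide +kernel
theorem chk112 : data.checkRange 99009 1080 = true := by decide +kernel
theorem chk113 : data.checkRange 100089 1685 = true := by decide +kernel
theorem chk114 : data.checkRange 101774 1103 = true := by decide +kernel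
theorem chk115 : data.checkRange 102877 1659 = true := by decide +kernel
theorem chk116 : data.checkRange 104536 911 = true := by decide +kernel
theorem chk117 : data.checkRange 105447 798 = true := by decide +kernel
theorem chk118 : data.checkRange 106245 1863 = true := by decide +kernel
theorem chk119 : data.checkRange 108108 2755 = true := by decide +kernel

end Cfsg.Agent.Lib.Helper28.TCFi24U11
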