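import Cfsg.Agent.Lib.Helper28.TCFi24Data
import Cfsg.Agent.Lib.Helper28.TCFi24U11
set_option autoImplicit false
set_option maxRecDepth 100000
set_option maxHeartbeats 0

namespace Cfsg.Agent.Lib.Helper28.TCFi24U15
open Cfsg.Agent.Lib.Helper28.TC2Upper Cfsg.Agent.Lib.Helper28.TCFi24Data

theorem chk150 : data.checkRange 149763 3358 = true := by decide +kernel
theorem chk151 : data.checkRange 153121 1273 = true := by decide +kernel
theorem chk152 : data.checkRange 154394 1060 = true := by decide +kernel
theorem chk153 : data.checkRange 155454 2608 = true := by decide +kernel
theorem chk154 : data.checkRange 158062 3230 = true := by decide +kernel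
theorem chk155 : data.checkRange 161292 951 = true := by decide +kernel
theorem chk156 : data.checkRange 162243 616 = true := by decide +kernel
theorem chk157 : data.checkRange 162859 616 = true := by decide +kernel
theorem chk158 : data.checkRange 163475 616 = true := by decide +kernel
theorem chk159 : data.checkRange 164091 616 = true := by decide +kernel

end Cfsg.Agent.Lib.Helper28.TCFi24U15
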