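import Cfsg.Agent.Lib.Helper28.TCFi24Data
import Cfsg.Agent.Lib.Helper28.TCFi24U12
set_option autoImplicit false
set_option maxRecDepth 100000
set_option maxHeartbeats 0

namespace Cfsg.Agent.Lib.Helper28.TCFi24U16
open Cfsg.Agent.Lib.Helper28.TC2Upper Cfsg.Agent.Lib.Helper28.TCFi24Data

theorem chk160 : data.checkRange 164707 616 = true := by decide +kernel
theorem chk161 : data.checkRange 165323 616 = true := by decide +kernel
theorem chk162 : data.checkRange 165939 616 = true := by decide +kernel
theorem chk163 : data.checkRange 166555 616 = true := by decide +kernel
theorem chk164 : data.checkRange 167171 622 = true := by decide +kernel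
theorem chk165 : data.checkRange 167793 616 = true := by decide +kernel
theorem chk166 : data.checkRange 168409 618 = true := by decide +kernel
theorem chk167 : data.checkRange 169027 616 = true := by decide +kernel
theorem chk168 : data.checkRange 169643 616 = true := by decide +kernel
theorem chk169 : data.checkRange 170259 616 = true := by decide +kernel

end Cfsg.Agent.Lib.Helper28.TCFi24U16
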