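import Cfsg.Agent.Lib.Helper28.TCFi24Data
import Cfsg.Agent.Lib.Helper28.TCFi24U13
set_option autoImplicit false
set_option maxRecDepth 100000
set_option maxHeartbeats 0

namespace Cfsg.Agent.Lib.Helper28.TCFi24U17
open Cfsg.Agent.Lib.Helper28.TC2Upper Cfsg.Agent.Lib.Helper28.TCFi24Data

theorem chk170 : data.checkRange 170875 616 = true := by decide +kernel
theorem chk171 : data.checkRange 171491 616 = true := by decide +kernel
theorem chk172 : data.checkRange 172107 616 = true := by decide +kernel
theorem chk173 : data.checkRange 172723 616 = true := by decide +kernel
theorem chk174 : data.checkRange 173339 616 = true := by decide +kernel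
theorem chk175 : data.checkRange 173955 616 = true := by decide +kernel
theorem chk176 : data.checkRange 174571 616 = true := by decide +kernel
theorem chk177 : data.checkRange 175187 616 = true := by decide +kernel
theorem chk178 : data.checkRange 175803 617 = true := by decide +kernel
theorem chk179 : data.checkRange 176420 616 = true := by decide +kernel

end Cfsg.Agent.Lib.Helper28.TCFi24U17
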