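import Cfsg.Agent.Lib.Helper28.TCFi24Data
import Cfsg.Agent.Lib.Helper28.TCFi24U14
set_option autoImplicit false
set_option maxRecDepth 100000
set_option maxHeartbeats 0

namespace Cfsg.Agent.Lib.Helper28.TCFi24U18
open Cfsg.Agent.Lib.Helper28.TC2Upper Cfsg.Agent.Lib.Helper28.TCFi24Data

theorem chk180 : data.checkRange 177036 616 = true := by decide +kernel
theorem chk181 : data.checkRange 177652 616 = true := by decide +kernel
theorem chk182 : data.checkRange 178268 616 = true := by decide +kernel
theorem chk183 : data.checkRange 178884 616 = true := by decide +kernel
theorem chk184 : data.checkRange 179500 616 = true := by decide +kernel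
theorem chk185 : data.checkRange 180116 616 = true := by decide +kernel
theorem chk186 : data.checkRange 180732 616 = true := by decide +kernel
theorem chk187 : data.checkRange 181348 616 = true := by decide +kernel
theorem chk188 : data.checkRange 181964 616 = true := by decide +kernel
theorem chk189 : data.checkRange 182580 616 = true := by decide +kernel

end Cfsg.Agent.Lib.Helper28.TCFi24U18
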