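import Cfsg.Agent.Lib.Helper28.TCFi24Data
import Cfsg.Agent.Lib.Helper28.TCFi24U15
set_option autoImplicit false
set_option maxRecDepth 100000
set_option maxHeartbeats 0

namespace Cfsg.Agent.Lib.Helper28.TCFi24U19
open Cfsg.Agent.Lib.Helper28.TC2Upper Cfsg.Agent.Lib.Helper28.TCFi24Data

theorem chk190 : data.checkRange 183196 616 = true := by decide +kernel
theorem chk191 : data.checkRange 183812 616 = true := by decide +kernel
theorem chk192 : data.checkRange 184428 616 = true := by decide +kernel
theorem chk193 : data.checkRange 185044 616 = true := by decide +kernel
theorem chk194 : data.checkRange 185660 616 = true := by decide +kernel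
theorem chk195 : data.checkRange 186276 616 = true := by decide +kernel
theorem chk196 : data.checkRange 186892 616 = true := by decide +kernel
theorem chk197 : data.checkRange 187508 616 = true := by decide +kernel
theorem chk198 : data.checkRange 188124 616 = true := by decide +kernel
theorem chk199 : data.checkRange 188740 616 = true := by decide +kernel

end Cfsg.Agent.Lib.Helper28.TCFi24U19
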