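import Cfsg.Agent.Lib.Helper28.TCFi24Data
import Cfsg.Agent.Lib.Helper28.TCFi24U16
set_option autoImplicit false
set_option maxRecDepth 100000
set_option maxHeartbeats 0

namespace Cfsg.Agent.Lib.Helper28.TCFi24U20
open Cfsg.Agent.Lib.Helper28.TC2Upper Cfsg.Agent.Lib.Helper28.TCFi24Data

theorem chk200 : data.checkRange 189356 616 = true := by decide +kernel
theorem chk201 : data.checkRange 189972 616 = true := by decide +kernel
theorem chk202 : data.checkRange 190588 616 = true := by decide +kernel
theorem chk203 : data.checkRange 191204 616 = true := by decide +kernel
theorem chk204 : data.checkRange 191820 616 = true := by decide +kernel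
theorem chk205 : data.checkRange 192436 616 = true := by decide +kernel
theorem chk206 : data.checkRange 193052 616 = true := by decide +kernel
theorem chk207 : data.checkRange 193668 616 = true := by decide +kernel
theorem chk208 : data.checkRange 194284 616 = true := by decide +kernel
theorem chk209 : data.checkRange 194900 616 = true := by decide +kernel

end Cfsg.Agent.Lib.Helper28.TCFi24U20
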