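import Cfsg.Agent.Lib.Helper28.TCFi24Data
import Cfsg.Agent.Lib.Helper28.TCFi24U17
set_option autoImplicit false
set_option maxRecDepth 100000
set_option maxHeartbeats 0

namespace Cfsg.Agent.Lib.Helper28.TCFi24U21
open Cfsg.Agent.Lib.Helper28.TC2Upper Cfsg.Agent.Lib.Helper28.TCFi24Data

theorem chk210 : data.checkRange 195516 616 = true := by decide +kernel
theorem chk211 : data.checkRange 196132 616 = true := by decide +kernel
theorem chk212 : data.checkRange 196748 616 = true := by decide +kernel
theorem chk213 : data.checkRange 197364 616 = true := by decide +kernel
theorem chk214 : data.checkRange 197980 616 = true := by decide +kernel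
theorem chk215 : data.checkRange 198596 616 = true := by decide +kernel
theorem chk216 : data.checkRange 199212 616 = true := by decide +kernel
theorem chk217 : data.checkRange 199828 616 = true := by decide +kernel
theorem chk218 : data.checkRange 200444 616 = true := by decide +kernel
theorem chk219 : data.checkRange 201060 616 = true := by decide +kernel

end Cfsg.Agent.Lib.Helper28.TCFi24U21
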