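import Cfsg.Agent.Lib.Helper28.TCFi24Data
import Cfsg.Agent.Lib.Helper28.TCFi24U18
set_option autoImplicit false
set_option maxRecDepth 100000
set_option maxHeartbeats 0

namespace Cfsg.Agent.Lib.Helper28.TCFi24U22
open Cfsg.Agent.Lib.Helper28.TC2Upper Cfsg.Agent.Lib.Helper28.TCFi24Data

theorem chk220 : data.checkRange 201676 616 = true := by decide +kernel
theorem chk221 : data.checkRange 202292 616 = true := by decide +kernel
theorem chk222 : data.checkRange 202908 616 = true := by decide +kernel
theorem chk223 : data.checkRange 203524 616 = true := by decide +kernel
theorem chk224 : data.checkRange 204140 616 = true := by decide +kernel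
theorem chk225 : data.checkRange 204756 616 = true := by decide +kernel
theorem chk226 : data.checkRange 205372 616 = true := by decide +kernel
theorem chk227 : data.checkRange 205988 616 = true := by decide +kernel
theorem chk228 : data.checkRange 206604 616 = true := by decide +kernel
theorem chk229 : data.checkRange 207220 616 = true := by decide +kernel

end Cfsg.Agent.Lib.Helper28.TCFi24U22
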