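import Cfsg.Agent.Lib.Helper28.TCFi24Data
import Cfsg.Agent.Lib.Helper28.TCFi24U19
set_option autoImplicit false
set_option maxRecDepth 100000
set_option maxHeartbeats 0

namespace Cfsg.Agent.Lib.Helper28.TCFi24U23
open Cfsg.Agent.Lib.Helper28.TC2Upper Cfsg.Agent.Lib.Helper28.TCFi24Data

theorem chk230 : data.checkRange 207836 616 = true := by decide +kernel
theorem chk231 : data.checkRange 208452 616 = true := by decide +kernel
theorem chk232 : data.checkRange 209068 616 = true := by decide +kernel
theorem chk233 : data.checkRange 209684 616 = true := by decide +kernel
theorem chk234 : data.checkRange 210300 616 = true := by decide +kernel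
theorem chk235 : data.checkRange 210916 616 = true := by decide +kernel
theorem chk236 : data.checkRange 211532 616 = true := by decide +kernel
theorem chk237 : data.checkRange 212148 616 = true := by decide +kernel
theorem chk238 : data.checkRange 212764 616 = true := by decide +kernel
theorem chk239 : data.checkRange 213380 616 = true := by decide +kernel

end Cfsg.Agent.Lib.Helper28.TCFi24U23
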