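import Cfsg.Agent.Lib.Helper28.TCFi24Data
import Cfsg.Agent.Lib.Helper28.TCFi24U21
set_option autoImplicit false
set_option maxRecDepth 100000
set_option maxHeartbeats 0

namespace Cfsg.Agent.Lib.Helper28.TCFi24U25
open Cfsg.Agent.Lib.Helper28.TC2Upper Cfsg.Agent.Lib.Helper28.TCFi24Data

theorem chk250 : data.checkRange 220156 616 = true := by decide +kernel
theorem chk251 : data.checkRange 220772 616 = true := by decide +kernel
theorem chk252 : data.checkRange 221388 616 = true := by decide +kernel
theorem chk253 : data.checkRange 222004 616 = true := by decide +kernel
theorem chk254 : data.checkRange 222620 616 = true := by decide +kernel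
theorem chk255 : data.checkRange 223236 616 = true := by decide +kernel
theorem chk256 : data.checkRange 223852 616 = true := by decide +kernel
theorem chk257 : data.checkRange 224468 616 = true := by decide +kernel
theorem chk258 : data.checkRange 225084 616 = true := by decide +kernel
theorem chk259 : data.checkRange 225700 616 = true := by decide +kernel

end Cfsg.Agent.Lib.Helper28.TCFi24U25
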