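import Cfsg.Agent.Lib.Helper28.TCFi24Data
import Cfsg.Agent.Lib.Helper28.TCFi24U22
set_option autoImplicit false
set_option maxRecDepth 100000
set_option maxHeartbeats 0

namespace Cfsg.Agent.Lib.Helper28.TCFi24U26
open Cfsg.Agent.Lib.Helper28.TC2Upper Cfsg.Agent.Lib.Helper28.TCFi24Data

theorem chk260 : data.checkRange 226316 616 = true := by decide +kernel
theorem chk261 : data.checkRange 226932 616 = true := by decide +kernel
theorem chk262 : data.checkRange 227548 616 = true := by decide +kernel
theorem chk263 : data.checkRange 228164 616 = true := by decide +kernel
theorem chk264 : data.checkRange 228780 616 = true := by decide +kernel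
theorem chk265 : data.checkRange 229396 616 = true := by decide +kernel
theorem chk266 : data.checkRange 230012 616 = true := by decide +kernel
theorem chk267 : data.checkRange 230628 616 = true := by decide +kernel
theorem chk268 : data.checkRange 231244 616 = true := by decide +kernel
theorem chk269 : data.checkRange 231860 616 = true := by decide +kernel

end Cfsg.Agent.Lib.Helper28.TCFi24U26
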