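import Cfsg.Agent.Lib.Helper28.TCFi24Data
import Cfsg.Agent.Lib.Helper28.TCFi24U23
set_option autoImplicit false
set_option maxRecDepth 100000
set_option maxHeartbeats 0

namespace Cfsg.Agent.Lib.Helper28.TCFi24U27
open Cfsg.Agent.Lib.Helper28.TC2Upper Cfsg.Agent.Lib.Helper28.TCFi24Data

theorem chk270 : data.checkRange 232476 620 = true := by decide +kernel
theorem chk271 : data.checkRange 233096 618 = true := by decide +kernel
theorem chk272 : data.checkRange 233714 616 = true := by decide +kernel
theorem chk273 : data.checkRange 234330 616 = true := by decide +kernel
theorem chk274 : data.checkRange 234946 617 = true := by decide +kernel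
theorem chk275 : data.checkRange 235563 616 = true := by decide +kernel
theorem chk276 : data.checkRange 236179 616 = true := by decide +kernel
theorem chk277 : data.checkRange 236795 616 = true := by decide +kernel
theorem chk278 : data.checkRange 237411 616 = true := by decide +kernel
theorem chk279 : data.checkRange 238027 616 = true := by decide +kernel

end Cfsg.Agent.Lib.Helper28.TCFi24U27
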