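import Cfsg.Agent.Lib.Helper28.TCFi24Data
import Cfsg.Agent.Lib.Helper28.TCFi24U20
set_option autoImplicit false
set_option maxRecDepth 100000
set_option maxHeartbeats 0

namespace Cfsg.Agent.Lib.Helper28.TCFi24U24
open Cfsg.Agent.Lib.Helper28.TC2Upper Cfsg.Agent.Lib.Helper28.TCFi24Data

theorem chk240 : data.checkRange 213996 616 = true := by decide +kernel
theorem chk241 : data.checkRange 214612 616 = true := by decide +kernel
theorem chk242 : data.checkRange 215228 616 = true := by decide +kernel
theorem chk243 : data.checkRange 215844 616 = true := by decide +kernel
theorem chk244 : data.checkRange 216460 616 = true := by decide +kernel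
theorem chk245 : data.checkRange 217076 616 = true := by decide +kernel
theorem chk246 : data.checkRange 217692 616 = true := by decide +kernel
theorem chk247 : data.checkRange 218308 616 = true := by decide +kernel
theorem chk248 : data.checkRange 218924 616 = true := by decide +kernel
theorem chk249 : data.checkRange 219540 616 = true := by decide +kernel

end Cfsg.Agent.Lib.Helper28.TCFi24U24
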