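import Cfsg.Agent.Lib.Helper28.TCFi24Data
import Cfsg.Agent.Lib.Helper28.TCFi24U24
set_option autoImplicit false
set_option maxRecDepth 100000
set_option maxHeartbeats 0

namespace Cfsg.Agent.Lib.Helper28.TCFi24U28
open Cfsg.Agent.Lib.Helper28.TC2Upper Cfsg.Agent.Lib.Helper28.TCFi24Data

theorem chk280 : data.checkRange 238643 616 = true := by decide +kernel
theorem chk281 : data.checkRange 239259 616 = true := by decide +kernel
theorem chk282 : data.checkRange 239875 616 = true := by decide +kernel
theorem chk283 : data.checkRange 240491 616 = true := by decide +kernel
theorem chk284 : data.checkRange 241107 616 = true := by decide +kernel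
theorem chk285 : data.checkRange 241723 616 = true := by decide +kernel
theorem chk286 : data.checkRange 242339 616 = true := by decide +kernel
theorem chk287 : data.checkRange 242955 616 = true := by decide +kernel
theorem chk288 : data.checkRange 243571 621 = true := by decide +kernel
theorem chk289 : data.checkRange 244192 617 = true := by decide +kernel

end Cfsg.Agent.Lib.Helper28.TCFi24U28
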