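import Cfsg.Agent.Lib.Helper28.TCFi24Data
import Cfsg.Agent.Lib.Helper28.TCFi24U25
set_option autoImplicit false
set_option maxRecDepth 100000
set_option maxHeartbeats 0

namespace Cfsg.Agent.Lib.Helper28.TCFi24U29
open Cfsg.Agent.Lib.Helper28.TC2Upper Cfsg.Agent.Lib.Helper28.TCFi24Data

theorem chk290 : data.checkRange 244809 616 = true := by decide +kernel
theorem chk291 : data.checkRange 245425 616 = true := by decide +kernel
theorem chk292 : data.checkRange 246041 616 = true := by decide +kernel
theorem chk293 : data.checkRange 246657 616 = true := by decide +kernel
theorem chk294 : data.checkRange 247273 623 = true := by decide +kernel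
theorem chk295 : data.checkRange 247896 616 = true := by decide +kernel
theorem chk296 : data.checkRange 248512 616 = true := by decide +kernel
theorem chk297 : data.checkRange 249128 616 = true := by decide +kernel
theorem chk298 : data.checkRange 249744 616 = true := by decide +kernel
theorem chk299 : data.checkRange 250360 616 = true := by decide +kernel

end Cfsg.Agent.Lib.Helper28.TCFi24U29
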