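import Cfsg.Agent.Lib.Helper28.TCFi24Data
import Cfsg.Agent.Lib.Helper28.TCFi24U26
set_option autoImplicit false
set_option maxRecDepth 100000
set_option maxHeartbeats 0

namespace Cfsg.Agent.Lib.Helper28.TCFi24U30
open Cfsg.Agent.Lib.Helper28.TC2Upper Cfsg.Agent.Lib.Helper28.TCFi24Data

theorem chk300 : data.checkRange 250976 616 = true := by decide +kernel
theorem chk301 : data.checkRange 251592 616 = true := by decide +kernel
theorem chk302 : data.checkRange 252208 616 = true := by decide +kernel
theorem chk303 : data.checkRange 252824 616 = true := by decide +kernel
theorem chk304 : data.checkRange 253440 616 = true := by decide +kernel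
theorem chk305 : data.checkRange 254056 616 = true := by decide +kernel
theorem chk306 : data.checkRange 254672 616 = true := by decide +kernel
theorem chk307 : data.checkRange 255288 616 = true := by decide +kernel
theorem chk308 : data.checkRange 255904 616 = true := by decide +kernel
theorem chk309 : data.checkRange 256520 616 = true := by decide +kernel

end Cfsg.Agent.Lib.Helper28.TCFi24U30
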