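import Cfsg.Agent.Lib.Helper28.TCFi24Data
import Cfsg.Agent.Lib.Helper28.TCFi24U27
set_option autoImplicit false
set_option maxRecDepth 100000
set_option maxHeartbeats 0

namespace Cfsg.Agent.Lib.Helper28.TCFi24U31
open Cfsg.Agent.Lib.Helper28.TC2Upper Cfsg.Agent.Lib.Helper28.TCFi24Data

theorem chk310 : data.checkRange 257136 616 = true := by decide +kernel
theorem chk311 : data.checkRange 257752 616 = true := by decide +kernel
theorem chk312 : data.checkRange 258368 616 = true := by decide +kernel
theorem chk313 : data.checkRange 258984 616 = true := by decide +kernel
theorem chk314 : data.checkRange 259600 616 = true := by decide +kernel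
theorem chk315 : data.checkRange 260216 616 = true := by decide +kernel
theorem chk316 : data.checkRange 260832 616 = true := by decide +kernel
theorem chk317 : data.checkRange 261448 616 = true := by decide +kernel
theorem chk318 : data.checkRange 262064 616 = true := by decide +kernel
theorem chk319 : data.checkRange 262680 616 = true := by decide +kernel

end Cfsg.Agent.Lib.Helper28.TCFi24U31
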