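import Cfsg.Agent.Lib.Helper28.TCFi24Data
import Cfsg.Agent.Lib.Helper28.TCFi24U28
set_option autoImplicit false
set_option maxRecDepth 100000
set_option maxHeartbeats 0

namespace Cfsg.Agent.Lib.Helper28.TCFi24U32
open Cfsg.Agent.Lib.Helper28.TC2Upper Cfsg.Agent.Lib.Helper28.TCFi24Data

theorem chk320 : data.checkRange 263296 616 = true := by decide +kernel
theorem chk321 : data.checkRange 263912 616 = true := by decide +kernel
theorem chk322 : data.checkRange 264528 616 = true := by decide +kernel
theorem chk323 : data.checkRange 265144 616 = true := by decide +kernel
theorem chk324 : data.checkRange 265760 616 = true := by decide +kernel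
theorem chk325 : data.checkRange 266376 616 = true := by decide +kernel
theorem chk326 : data.checkRange 266992 616 = true := by decide +kernel
theorem chk327 : data.checkRange 267608 616 = true := by decide +kernel
theorem chk328 : data.checkRange 268224 616 = true := by decide +kernel
theorem chk329 : data.checkRange 268840 616 = true := by decide +kernel

end Cfsg.Agent.Lib.Helper28.TCFi24U32
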