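import Cfsg.Agent.Lib.Helper28.TCFi24Data
import Cfsg.Agent.Lib.Helper28.TCFi24U29
set_option autoImplicit false
set_option maxRecDepth 100000
set_option maxHeartbeats 0

namespace Cfsg.Agent.Lib.Helper28.TCFi24U33
open Cfsg.Agent.Lib.Helper28.TC2Upper Cfsg.Agent.Lib.Helper28.TCFi24Data

theorem chk330 : data.checkRange 269456 616 = true := by decide +kernel
theorem chk331 : data.checkRange 270072 616 = true := by decide +kernel
theorem chk332 : data.checkRange 270688 616 = true := by decide +kernel
theorem chk333 : data.checkRange 271304 616 = true := by decide +kernel
theorem chk334 : data.checkRange 271920 616 = true := by decide +kernel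
theorem chk335 : data.checkRange 272536 616 = true := by decide +kernel
theorem chk336 : data.checkRange 273152 616 = true := by decide +kernel
theorem chk337 : data.checkRange 273768 616 = true := by decide +kernel
theorem chk338 : data.checkRange 274384 616 = true := by decide +kernel
theorem chk339 : data.checkRange 275000 616 = true := by decide +kernel

end Cfsg.Agent.Lib.Helper28.TCFi24U33
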