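import Cfsg.Agent.Lib.Helper28.TCFi24Data
import Cfsg.Agent.Lib.Helper28.TCFi24U30
set_option autoImplicit false
set_option maxRecDepth 100000
set_option maxHeartbeats 0

namespace Cfsg.Agent.Lib.Helper28.TCFi24U34
open Cfsg.Agent.Lib.Helper28.TC2Upper Cfsg.Agent.Lib.Helper28.TCFi24Data

theorem chk340 : data.checkRange 275616 616 = true := by decide +kernel
theorem chk341 : data.checkRange 276232 616 = true := by decide +kernel
theorem chk342 : data.checkRange 276848 616 = true := by decide +kernel
theorem chk343 : data.checkRange 277464 616 = true := by decide +kernel
theorem chk344 : data.checkRange 278080 616 = true := by decide +kernel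
theorem chk345 : data.checkRange 278696 616 = true := by decide +kernel
theorem chk346 : data.checkRange 279312 616 = true := by decide +kernel
theorem chk347 : data.checkRange 279928 616 = true := by decide +kernel
theorem chk348 : data.checkRange 280544 616 = true := by decide +kernel
theorem chk349 : data.checkRange 281160 616 = true := by decide +kernel

end Cfsg.Agent.Lib.Helper28.TCFi24U34
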