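import Cfsg.Agent.Lib.Helper28.TCFi24Data
import Cfsg.Agent.Lib.Helper28.TCFi24U31
set_option autoImplicit false
set_option maxRecDepth 100000
set_option maxHeartbeats 0

namespace Cfsg.Agent.Lib.Helper28.TCFi24U35
open Cfsg.Agent.Lib.Helper28.TC2Upper Cfsg.Agent.Lib.Helper28.TCFi24Data

theorem chk350 : data.checkRange 281776 616 = true := by decide +kernel
theorem chk351 : data.checkRange 282392 616 = true := by decide +kernel
theorem chk352 : data.checkRange 283008 616 = true := by decide +kernel
theorem chk353 : data.checkRange 283624 616 = true := by decide +kernel
theorem chk354 : data.checkRange 284240 616 = true := by decide +kernel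
theorem chk355 : data.checkRange 284856 616 = true := by decide +kernel
theorem chk356 : data.checkRange 285472 616 = true := by decide +kernel
theorem chk357 : data.checkRange 286088 616 = true := by decide +kernel
theorem chk358 : data.checkRange 286704 616 = true := by decide +kernel
theorem chk359 : data.checkRange 287320 616 = true := by decide +kernel

end Cfsg.Agent.Lib.Helper28.TCFi24U35
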