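import Cfsg.Agent.Lib.Helper28.TCFi24Data
import Cfsg.Agent.Lib.Helper28.TCFi24U32
set_option autoImplicit false
set_option maxRecDepth 100000
set_option maxHeartbeats 0

namespace Cfsg.Agent.Lib.Helper28.TCFi24U36
open Cfsg.Agent.Lib.Helper28.TC2Upper Cfsg.Agent.Lib.Helper28.TCFi24Data

theorem chk360 : data.checkRange 287936 616 = true := by decide +kernel
theorem chk361 : data.checkRange 288552 616 = true := by decide +kernel
theorem chk362 : data.checkRange 289168 616 = true := by decide +kernel
theorem chk363 : data.checkRange 289784 616 = true := by decide +kernel
theorem chk364 : data.checkRange 290400 616 = true := by decide +kernel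
theorem chk365 : data.checkRange 291016 616 = true := by decide +kernel
theorem chk366 : data.checkRange 291632 616 = true := by decide +kernel
theorem chk367 : data.checkRange 292248 616 = true := by decide +kernel
theorem chk368 : data.checkRange 292864 616 = true := by decide +kernel
theorem chk369 : data.checkRange 293480 616 = true := by decide +kernel

end Cfsg.Agent.Lib.Helper28.TCFi24U36
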