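import Cfsg.Agent.Lib.Helper28.TCFi24Data
import Cfsg.Agent.Lib.Helper28.TCFi24U34
set_option autoImplicit false
set_option maxRecDepth 100000
set_option maxHeartbeats 0

namespace Cfsg.Agent.Lib.Helper28.TCFi24U38
open Cfsg.Agent.Lib.Helper28.TC2Upper Cfsg.Agent.Lib.Helper28.TCFi24Data

theorem chk380 : data.checkRange 300256 616 = true := by decide +kernel
theorem chk381 : data.checkRange 300872 616 = true := by decide +kernel
theorem chk382 : data.checkRange 301488 616 = true := by decide +kernel
theorem chk383 : data.checkRange 302104 616 = true := by decide +kernel
theorem chk384 : data.checkRange 302720 616 = true := by decide +kernel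
theorem chk385 : data.checkRange 303336 616 = true := by decide +kernel
theorem chk386 : data.checkRange 303952 616 = true := by decide +kernel
theorem chk387 : data.checkRange 304568 616 = true := by decide +kernel
theorem chk388 : data.checkRange 305184 616 = true := by decide +kernel
theorem chk389 : data.checkRange 305800 616 = true := by decide +kernel

end Cfsg.Agent.Lib.Helper28.TCFi24U38
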