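import Cfsg.Agent.Lib.Helper28.TCFi24Data
import Cfsg.Agent.Lib.Helper28.TCFi24U35
set_option autoImplicit false
set_option maxRecDepth 100000
set_option maxHeartbeats 0

namespace Cfsg.Agent.Lib.Helper28.TCFi24U39
open Cfsg.Agent.Lib.Helper28.TC2Upper Cfsg.Agent.Lib.Helper28.TCFi24Data

theorem chk390 : data.checkRange 306416 616 = true := by decide +kernel
theorem chk391 : data.checkRange 307032 616 = true := by decide +kernel
theorem chk392 : data.checkRange 307648 616 = true := by decide +kernel
theorem chk393 : data.checkRange 308264 616 = true := by decide +kernel
theorem chk394 : data.checkRange 308880 616 = true := by decide +kernel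
theorem chk395 : data.checkRange 309496 616 = true := by decide +kernel
theorem chk396 : data.checkRange 310112 616 = true := by decide +kernel
theorem chk397 : data.checkRange 310728 616 = true := by decide +kernel
theorem chk398 : data.checkRange 311344 616 = true := by decide +kernel
theorem chk399 : data.checkRange 311960 616 = true := by decide +kernel

end Cfsg.Agent.Lib.Helper28.TCFi24U39
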