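import Cfsg.Agent.Lib.Helper28.TCFi24Data
import Cfsg.Agent.Lib.Helper28.TCFi24U36
set_option autoImplicit false
set_option maxRecDepth 100000
set_option maxHeartbeats 0

namespace Cfsg.Agent.Lib.Helper28.TCFi24U40
open Cfsg.Agent.Lib.Helper28.TC2Upper Cfsg.Agent.Lib.Helper28.TCFi24Data

theorem chk400 : data.checkRange 312576 616 = true := by decide +kernel
theorem chk401 : data.checkRange 313192 616 = true := by decide +kernel
theorem chk402 : data.checkRange 313808 616 = true := by decide +kernel
theorem chk403 : data.checkRange 314424 616 = true := by decide +kernel
theorem chk404 : data.checkRange 315040 616 = true := by decide +kernel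
theorem chk405 : data.checkRange 315656 616 = true := by decide +kernel
theorem chk406 : data.checkRange 316272 616 = true := by decide +kernel
theorem chk407 : data.checkRange 316888 616 = true := by decide +kernel
theorem chk408 : data.checkRange 317504 616 = true := by decide +kernel
theorem chk409 : data.checkRange 318120 616 = true := by decide +kernel

end Cfsg.Agent.Lib.Helper28.TCFi24U40
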