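import Cfsg.Agent.Lib.Helper28.TCFi24Data
import Cfsg.Agent.Lib.Helper28.TCFi24U33
set_option autoImplicit false
set_option maxRecDepth 100000
set_option maxHeartbeats 0

namespace Cfsg.Agent.Lib.Helper28.TCFi24U37
open Cfsg.Agent.Lib.Helper28.TC2Upper Cfsg.Agent.Lib.Helper28.TCFi24Data

theorem chk370 : data.checkRange 294096 616 = true := by decide +kernel
theorem chk371 : data.checkRange 294712 616 = true := by decide +kernel
theorem chk372 : data.checkRange 295328 616 = true := by decide +kernel
theorem chk373 : data.checkRange 295944 616 = true := by decide +kernel
theorem chk374 : data.checkRange 296560 616 = true := by decide +kernel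
theorem chk375 : data.checkRange 297176 616 = true := by decide +kernel
theorem chk376 : data.checkRange 297792 616 = true := by decide +kernel
theorem chk377 : data.checkRange 298408 616 = true := by decide +kernel
theorem chk378 : data.checkRange 299024 616 = true := by decide +kernel
theorem chk379 : data.checkRange 299640 616 = true := by decide +kernel

end Cfsg.Agent.Lib.Helper28.TCFi24U37
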