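import Cfsg.Agent.Lib.Helper28.TCFi24Data
import Cfsg.Agent.Lib.Helper28.TCFi24U37
set_option autoImplicit false
set_option maxRecDepth 100000
set_option maxHeartbeats 0

namespace Cfsg.Agent.Lib.Helper28.TCFi24U41
open Cfsg.Agent.Lib.Helper28.TC2Upper Cfsg.Agent.Lib.Helper28.TCFi24Data

theorem chk410 : data.checkRange 318736 616 = true := by decide +kernel
theorem chk411 : data.checkRange 319352 616 = true := by decide +kernel
theorem chk412 : data.checkRange 319968 616 = true := by decide +kernel
theorem chk413 : data.checkRange 320584 616 = true := by decide +kernel
theorem chk414 : data.checkRange 321200 616 = true := by decide +kernel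
theorem chk415 : data.checkRange 321816 616 = true := by decide +kernel
theorem chk416 : data.checkRange 322432 616 = true := by decide +kernel
theorem chk417 : data.checkRange 323048 616 = true := by decide +kernel
theorem chk418 : data.checkRange 323664 616 = true := by decide +kernel
theorem chk419 : data.checkRange 324280 616 = true := by decide +kernel

end Cfsg.Agent.Lib.Helper28.TCFi24U41
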