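import Cfsg.Agent.Lib.Helper28.TCFi24Data
import Cfsg.Agent.Lib.Helper28.TCFi24U38
set_option autoImplicit false
set_option maxRecDepth 100000
set_option maxHeartbeats 0

namespace Cfsg.Agent.Lib.Helper28.TCFi24U42
open Cfsg.Agent.Lib.Helper28.TC2Upper Cfsg.Agent.Lib.Helper28.TCFi24Data

theorem chk420 : data.checkRange 324896 616 = true := by decide +kernel
theorem chk421 : data.checkRange 325512 616 = true := by decide +kernel
theorem chk422 : data.checkRange 326128 616 = true := by decide +kernel
theorem chk423 : data.checkRange 326744 616 = true := by decide +kernel
theorem chk424 : data.checkRange 327360 616 = true := by decide +kernel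
theorem chk425 : data.checkRange 327976 616 = true := by decide +kernel
theorem chk426 : data.checkRange 328592 616 = true := by decide +kernel
theorem chk427 : data.checkRange 329208 616 = true := by decide +kernel
theorem chk428 : data.checkRange 329824 616 = true := by decide +kernel
theorem chk429 : data.checkRange 330440 616 = true := by decide +kernel

end Cfsg.Agent.Lib.Helper28.TCFi24U42
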