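import Cfsg.Agent.Lib.Helper28.TCFi24Data
import Cfsg.Agent.Lib.Helper28.TCFi24U39
set_option autoImplicit false
set_option maxRecDepth 100000
set_option maxHeartbeats 0

namespace Cfsg.Agent.Lib.Helper28.TCFi24U43
open Cfsg.Agent.Lib.Helper28.TC2Upper Cfsg.Agent.Lib.Helper28.TCFi24Data

theorem chk430 : data.checkRange 331056 616 = true := by decide +kernel
theorem chk431 : data.checkRange 331672 616 = true := by decide +kernel
theorem chk432 : data.checkRange 332288 616 = true := by decide +kernel
theorem chk433 : data.checkRange 332904 616 = true := by decide +kernel
theorem chk434 : data.checkRange 333520 616 = true := by decide +kernel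
theorem chk435 : data.checkRange 334136 616 = true := by decide +kernel
theorem chk436 : data.checkRange 334752 616 = true := by decide +kernel
theorem chk437 : data.checkRange 335368 616 = true := by decide +kernel
theorem chk438 : data.checkRange 335984 616 = true := by decide +kernel
theorem chk439 : data.checkRange 336600 616 = true := by decide +kernel

end Cfsg.Agent.Lib.Helper28.TCFi24U43
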