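import Cfsg.Agent.Lib.Helper28.TCFi24Data
import Cfsg.Agent.Lib.Helper28.TCFi24U40
set_option autoImplicit false
set_option maxRecDepth 100000
set_option maxHeartbeats 0

namespace Cfsg.Agent.Lib.Helper28.TCFi24U44
open Cfsg.Agent.Lib.Helper28.TC2Upper Cfsg.Agent.Lib.Helper28.TCFi24Data

theorem chk440 : data.checkRange 337216 616 = true := by decide +kernel
theorem chk441 : data.checkRange 337832 616 = true := by decide +kernel
theorem chk442 : data.checkRange 338448 616 = true := by decide +kernel
theorem chk443 : data.checkRange 339064 616 = true := by decide +kernel
theorem chk444 : data.checkRange 339680 616 = true := by decide +kernel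
theorem chk445 : data.checkRange 340296 616 = true := by decide +kernel
theorem chk446 : data.checkRange 340912 616 = true := by decide +kernel
theorem chk447 : data.checkRange 341528 616 = true := by decide +kernel
theorem chk448 : data.checkRange 342144 616 = true := by decide +kernel
theorem chk449 : data.checkRange 342760 616 = true := by decide +kernel

end Cfsg.Agent.Lib.Helper28.TCFi24U44
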