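import Cfsg.Agent.Lib.Helper28.TCFi24Data
import Cfsg.Agent.Lib.Helper28.TCFi24U41
set_option autoImplicit false
set_option maxRecDepth 100000
set_option maxHeartbeats 0

namespace Cfsg.Agent.Lib.Helper28.TCFi24U45
open Cfsg.Agent.Lib.Helper28.TC2Upper Cfsg.Agent.Lib.Helper28.TCFi24Data

theorem chk450 : data.checkRange 343376 616 = true := by decide +kernel
theorem chk451 : data.checkRange 343992 616 = true := by decide +kernel
theorem chk452 : data.checkRange 344608 616 = true := by decide +kernel
theorem chk453 : data.checkRange 345224 616 = true := by decide +kernel
theorem chk454 : data.checkRange 345840 616 = true := by decide +kernel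
theorem chk455 : data.checkRange 346456 616 = true := by decide +kernel
theorem chk456 : data.checkRange 347072 616 = true := by decide +kernel
theorem chk457 : data.checkRange 347688 616 = true := by decide +kernel
theorem chk458 : data.checkRange 348304 616 = true := by decide +kernel
theorem chk459 : data.checkRange 348920 616 = true := by decide +kernel

end Cfsg.Agent.Lib.Helper28.TCFi24U45
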