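import Cfsg.Agent.Lib.Helper28.TCFi24Data
import Cfsg.Agent.Lib.Helper28.TCFi24U42
set_option autoImplicit false
set_option maxRecDepth 100000
set_option maxHeartbeats 0

namespace Cfsg.Agent.Lib.Helper28.TCFi24U46
open Cfsg.Agent.Lib.Helper28.TC2Upper Cfsg.Agent.Lib.Helper28.TCFi24Data

theorem chk460 : data.checkRange 349536 616 = true := by decide +kernel
theorem chk461 : data.checkRange 350152 616 = true := by decide +kernel
theorem chk462 : data.checkRange 350768 616 = true := by decide +kernel
theorem chk463 : data.checkRange 351384 616 = true := by decide +kernel
theorem chk464 : data.checkRange 352000 616 = true := by decide +kernel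
theorem chk465 : data.checkRange 352616 616 = true := by decide +kernel
theorem chk466 : data.checkRange 353232 616 = true := by decide +kernel
theorem chk467 : data.checkRange 353848 616 = true := by decide +kernel
theorem chk468 : data.checkRange 354464 616 = true := by decide +kernel
theorem chk469 : data.checkRange 355080 616 = true := by decide +kernel

end Cfsg.Agent.Lib.Helper28.TCFi24U46
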