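import Cfsg.Agent.Lib.Helper28.TCFi24Data
import Cfsg.Agent.Lib.Helper28.TCFi24U43
set_option autoImplicit false
set_option maxRecDepth 100000
set_option maxHeartbeats 0

namespace Cfsg.Agent.Lib.Helper28.TCFi24U47
open Cfsg.Agent.Lib.Helper28.TC2Upper Cfsg.Agent.Lib.Helper28.TCFi24Data

theorem chk470 : data.checkRange 355696 616 = true := by decide +kernel
theorem chk471 : data.checkRange 356312 616 = true := by decide +kernel
theorem chk472 : data.checkRange 356928 616 = true := by decide +kernel
theorem chk473 : data.checkRange 357544 616 = true := by decide +kernel
theorem chk474 : data.checkRange 358160 616 = true := by decide +kernel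
theorem chk475 : data.checkRange 358776 616 = true := by decide +kernel
theorem chk476 : data.checkRange 359392 616 = true := by decide +kernel
theorem chk477 : data.checkRange 360008 616 = true := by decide +kernel
theorem chk478 : data.checkRange 360624 616 = true := by decide +kernel
theorem chk479 : data.checkRange 361240 616 = true := by decide +kernel

end Cfsg.Agent.Lib.Helper28.TCFi24U47
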