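import Cfsg.Agent.Lib.Helper28.TCFi24Data
import Cfsg.Agent.Lib.Helper28.TCFi24U44
set_option autoImplicit false
set_option maxRecDepth 100000
set_option maxHeartbeats 0

namespace Cfsg.Agent.Lib.Helper28.TCFi24U48
open Cfsg.Agent.Lib.Helper28.TC2Upper Cfsg.Agent.Lib.Helper28.TCFi24Data

theorem chk480 : data.checkRange 361856 616 = true := by decide +kernel
theorem chk481 : data.checkRange 362472 616 = true := by decide +kernel
theorem chk482 : data.checkRange 363088 616 = true := by decide +kernel
theorem chk483 : data.checkRange 363704 616 = true := by decide +kernel
theorem chk484 : data.checkRange 364320 616 = true := by decide +kernel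
theorem chk485 : data.checkRange 364936 616 = true := by decide +kernel
theorem chk486 : data.checkRange 365552 616 = true := by decide +kernel
theorem chk487 : data.checkRange 366168 616 = true := by decide +kernel
theorem chk488 : data.checkRange 366784 616 = true := by decide +kernel
theorem chk489 : data.checkRange 367400 616 = true := by decide +kernel

end Cfsg.Agent.Lib.Helper28.TCFi24U48
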