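import Cfsg.Agent.Lib.Helper28.TCFi24Data
import Cfsg.Agent.Lib.Helper28.TCFi24U45
set_option autoImplicit false
set_option maxRecDepth 100000
set_option maxHeartbeats 0

namespace Cfsg.Agent.Lib.Helper28.TCFi24U49
open Cfsg.Agent.Lib.Helper28.TC2Upper Cfsg.Agent.Lib.Helper28.TCFi24Data

theorem chk490 : data.checkRange 368016 616 = true := by decide +kernel
theorem chk491 : data.checkRange 368632 616 = true := by decide +kernel
theorem chk492 : data.checkRange 369248 616 = true := by decide +kernel
theorem chk493 : data.checkRange 369864 616 = true := by decide +kernel
theorem chk494 : data.checkRange 370480 616 = true := by decide +kernel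
theorem chk495 : data.checkRange 371096 616 = true := by decide +kernel
theorem chk496 : data.checkRange 371712 616 = true := by decide +kernel
theorem chk497 : data.checkRange 372328 616 = true := by decide +kernel
theorem chk498 : data.checkRange 372944 616 = true := by decide +kernel
theorem chk499 : data.checkRange 373560 616 = true := by decide +kernel

end Cfsg.Agent.Lib.Helper28.TCFi24U49
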