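import Cfsg.Agent.Lib.Helper28.TCFi24Data
import Cfsg.Agent.Lib.Helper28.TCFi24U47
set_option autoImplicit false
set_option maxRecDepth 100000
set_option maxHeartbeats 0

namespace Cfsg.Agent.Lib.Helper28.TCFi24U51
open Cfsg.Agent.Lib.Helper28.TC2Upper Cfsg.Agent.Lib.Helper28.TCFi24Data

theorem chk510 : data.checkRange 380336 616 = true := by decide +kernel
theorem chk511 : data.checkRange 380952 616 = true := by decide +kernel
theorem chk512 : data.checkRange 381568 616 = true := by decide +kernel
theorem chk513 : data.checkRange 382184 616 = true := by decide +kernel
theorem chk514 : data.checkRange 382800 616 = true := by decide +kernel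
theorem chk515 : data.checkRange 383416 616 = true := by decide +kernel
theorem chk516 : data.checkRange 384032 616 = true := by decide +kernel
theorem chk517 : data.checkRange 384648 616 = true := by decide +kernel
theorem chk518 : data.checkRange 385264 616 = true := by decide +kernel
theorem chk519 : data.checkRange 385880 616 = true := by decide +kernel

end Cfsg.Agent.Lib.Helper28.TCFi24U51
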