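import Cfsg.Agent.Lib.Helper28.TCFi24Data
import Cfsg.Agent.Lib.Helper28.TCFi24U48
set_option autoImplicit false
set_option maxRecDepth 100000
set_option maxHeartbeats 0

namespace Cfsg.Agent.Lib.Helper28.TCFi24U52
open Cfsg.Agent.Lib.Helper28.TC2Upper Cfsg.Agent.Lib.Helper28.TCFi24Data

theorem chk520 : data.checkRange 386496 616 = true := by decide +kernel
theorem chk521 : data.checkRange 387112 616 = true := by decide +kernel
theorem chk522 : data.checkRange 387728 616 = true := by decide +kernel
theorem chk523 : data.checkRange 388344 616 = true := by decide +kernel
theorem chk524 : data.checkRange 388960 616 = true := by decide +kernel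
theorem chk525 : data.checkRange 389576 616 = true := by decide +kernel
theorem chk526 : data.checkRange 390192 616 = true := by decide +kernel
theorem chk527 : data.checkRange 390808 616 = true := by decide +kernel
theorem chk528 : data.checkRange 391424 616 = true := by decide +kernel
theorem chk529 : data.checkRange 392040 616 = true := by decide +kernel

end Cfsg.Agent.Lib.Helper28.TCFi24U52
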