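import Cfsg.Agent.Lib.Helper28.TCFi24Data
import Cfsg.Agent.Lib.Helper28.TCFi24U49
set_option autoImplicit false
set_option maxRecDepth 100000
set_option maxHeartbeats 0

namespace Cfsg.Agent.Lib.Helper28.TCFi24U53
open Cfsg.Agent.Lib.Helper28.TC2Upper Cfsg.Agent.Lib.Helper28.TCFi24Data

theorem chk530 : data.checkRange 392656 616 = true := by decide +kernel
theorem chk531 : data.checkRange 393272 616 = true := by decide +kernel
theorem chk532 : data.checkRange 393888 566 = true := by decide +kernel

end Cfsg.Agent.Lib.Helper28.TCFi24U53
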