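import Cfsg.Agent.Lib.Helper28.F23NIso
import Cfsg.Agent.Lib.Helper28.TCFi24Link
import Cfsg.Agent.S1690
import Cfsg.Agent.S1691
set_option autoImplicit false
set_option maxRecDepth 100000
set_option linter.style.haveILetI false

/-!
# The order of the presented group Fi24 is at most `2 |Fi24'|`

The subgroup `H` generated by all generators but `k` has index 306936 (S1690); modulo the central involution
`l = (abcdefh)^9` it is a quotient of the group `PN ≅ Fi23` of `F23NIso`.
-/

namespace Cfsg.Agent.Lib.Helper28.Fi24Upper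
open Cfsg Cfsg.Spor Cfsg.Agent.Lib.Helper28.TC2Tower Cfsg.Agent.Lib.Helper28.TC2Glue
open Cfsg.Agent.Lib.Helper28.Fi24GlueA Cfsg.Agent.Lib.Helper28.F23NIso

/-- the generators of `PN` as generators of `Fi24` -/
def up24 : GenN → Fi24.Gen
  | .a => .a
  | .b => .b
  | .c => .c
  | .d => .d
  | .e => .e
  | .f => .f
  | .g => .g
  | .j => .j
  | .h => .h
  | .i => .i

/-- the relators of `Fi24` -/
abbrev rels24 : Set (FreeGroup Fi24.Gen) := Cfsg.Agent.Lib.Helper28.TCFi24Link.rels

theorem up24_cox : ∀ L ∈ coxWords Cfsg.Agent.Lib.Helper28.TCF23NW0Def.edges,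
    upWord up24 L ∈ Cfsg.Agent.Lib.Helper28.TCFi24Link.relWords := by decide +kernel

theorem comm_of_sq {G : Type*} [Group G] (x y : G) (hx : x * x = 1) (hy : y * y = 1)
    (h : (x * y) ^ 2 = 1) : x * y = y * x := by
  have hxi : x⁻¹ = x := inv_eq_of_mul_eq_one_right hx
  have hyi : y⁻¹ = y := inv_eq_of_mul_eq_one_right hy
  have h2 : (x * y) * (x * y) = 1 := by rw [← pow_two]; exact h
  have h3 : (x * y)⁻¹ = x * y := inv_eq_of_mul_eq_one_right h2
  rw [mul_inv_rev, hxi, hyi] at h3
  exact h3.symm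

/-- the images of the generators of `PN` -/
noncomputable def f24 : GenN → Fi24 := fun x => PresentedGroup.of (up24 x)

/-- the central involution -/
noncomputable def z24 : Fi24 := PresentedGroup.of Fi24.Gen.l

theorem hcomm (x : GenN) : f24 x * z24 = z24 * f24 x := by
  apply comm_of_sq _ _ (Cfsg.Agent.S1691.gen_sq _) (Cfsg.Agent.S1691.gen_sq _)
  have := Cfsg.Agent.S1691.cox_rel (up24 x) Fi24.Gen.l
  have hl : coxLabel Fi24.edges (up24 x) Fi24.Gen.l = 2 := by cases x <;> decide
  rw [hl] at this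
  exact this

theorem hz2 : z24 ^ 2 = 1 := by
  rw [pow_two]; exact Cfsg.Agent.S1691.gen_sq _

theorem hrel24 : ∀ r ∈ relsN, ∃ i : ℤ, FreeGroup.lift f24 r = z24 ^ i := by
  intro r hr
  obtain ⟨L, hL, rfl⟩ := (Cfsg.Agent.Lib.Helper28.TCF23NW0Link.link.hrels r).mp hr
  have e0 : FreeGroup.lift f24 (FreeGroup.mk L) =
      PresentedGroup.mk rels24 (FreeGroup.mk (upWord up24 L)) := by
    rw [← map_mk]; exact lift_of_up rels24 up24 _
  rw [e0]
  rcases List.mem_append.mp hL with h | h
  · refine ⟨0, ?_⟩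
    rw [zpow_zero]
    exact PresentedGroup.one_of_mem
      ((Cfsg.Agent.Lib.Helper28.TCFi24Link.link.hrels _).mpr ⟨_, up24_cox L h, rfl⟩)
  · refine ⟨1, ?_⟩
    rw [zpow_one]
    unfold Cfsg.Agent.Lib.Helper28.TCF23NW0Link.extraWords at h
    rw [List.mem_singleton] at h
    subst h
    have hmem : Fi24.l * (((Fi24.a * Fi24.b * Fi24.c * Fi24.d * Fi24.e * Fi24.f * Fi24.h) ^ 9)⁻¹) ∈ rels24 := by
      refine Or.inr ?_
      show _ ∈ Fi24.extra
      unfold Fi24.extra
      exact List.mem_cons_self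
    have h1 := PresentedGroup.one_of_mem hmem
    rw [map_mul, map_inv, mul_inv_eq_one] at h1
    exact h1.symm

/-- the subgroup generated by all generators but `k` -/
abbrev H24 : Subgroup Fi24 :=
  (Subgroup.closure Cfsg.Agent.Lib.Helper28.TCFi24Link.S).map (PresentedGroup.mk rels24)

theorem H_le : H24 ≤ Subgroup.closure (Set.range f24 ∪ {z24}) := by
  rw [Subgroup.map_le_iff_le_comap, Subgroup.closure_le]
  intro s hs
  simp only [Cfsg.Agent.Lib.Helper28.TCFi24Link.S, Set.mem_insert_iff, Set.mem_singleton_iff] at hs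
  rw [SetLike.mem_coe, Subgroup.mem_comap]
  rcases hs with rfl | rfl | rfl | rfl | rfl | rfl | rfl | rfl | rfl | rfl | rfl
  exacts [Subgroup.subset_closure (Or.inl ⟨.a, rfl⟩), Subgroup.subset_closure (Or.inl ⟨.b, rfl⟩),
    Subgroup.subset_closure (Or.inl ⟨.c, rfl⟩), Subgroup.subset_closure (Or.inl ⟨.d, rfl⟩),
    Subgroup.subset_closure (Or.inl ⟨.e, rfl⟩), Subgroup.subset_closure (Or.inl ⟨.f, rfl⟩),
    Subgroup.subset_closure (Or.inl ⟨.g, rfl⟩), Subgroup.subset_closure (Or.inl ⟨.h, rfl⟩),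
    Subgroup.subset_closure (Or.inl ⟨.i, rfl⟩), Subgroup.subset_closure (Or.inl ⟨.j, rfl⟩),
    Subgroup.subset_closure (Or.inr rfl)]

/-- the order of `H` -/
theorem card_H : Finite H24 ∧ Nat.card H24 ≤ 8178940946586009600 := by
  obtain ⟨hfinP, hcP⟩ := card_PN
  haveI := hfinP
  obtain ⟨hfinK, hcK⟩ := card_closure_le_of_central relsN f24 z24 2 (by norm_num) hcomm hz2 hrel24
  haveI := hfinK
  have hfinH : Finite H24 :=
    Finite.of_injective (Subgroup.inclusion H_le) (Subgroup.inclusion_injective H_le)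
  refine ⟨hfinH, ?_⟩
  have hle := Subgroup.card_le_of_le H_le
  rw [hcP] at hcK
  omega

/-- the order of `Fi24` -/
theorem card_G : Finite Fi24 ∧ Nat.card Fi24 ≤ 2510411418381323442585600 := by
  obtain ⟨hfinH, hcH⟩ := card_H
  have hidx : H24.index = 306936 := Cfsg.Agent.S1690.result
  haveI := hfinH
  have hfin : Finite Fi24 := finite_of_index H24 (by rw [hidx]; norm_num)
  refine ⟨hfin, ?_⟩
  have := card_le_of_index H24 hidx hcH
  calc Nat.card Fi24 ≤ 306936 * 8178940946586009600 := this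
    _ = 2510411418381323442585600 := by norm_num

end Cfsg.Agent.Lib.Helper28.Fi24Upper
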