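import Cfsg.Agent.Lib.Helper28.TCFi24BWTable
import Cfsg.Agent.Lib.Helper28.TCFi24Table
set_option autoImplicit false
set_option maxRecDepth 100000
set_option maxHeartbeats 0

namespace Cfsg.Agent.Lib.Helper28.TCFi24BWChk2
open Cfsg.Agent.Lib.Helper28.TC2Upper Cfsg.Agent.Lib.Helper28.TC2Lower Cfsg.Agent.Lib.Helper28.TC2Orbit Cfsg.Agent.Lib.Helper28.TC2Range Cfsg.Agent.Lib.Helper28.TC2Bsgs Cfsg.Agent.Lib.Helper28.TCFi24BWTable

theorem cnt0 : orb0.count 306936 1 = 306936 := by decide +kernel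
theorem hgens0 : BT.all (fun s => decide (s ∈ A0)) orb0.gens = true := by decide +kernel
theorem hA0 : ∀ w ∈ A0, (∀ l ∈ w, l < Cfsg.Agent.Lib.Helper28.TCFi24Table.table.k) ∧ ∀ q ∈ ([] : List ℕ), Cfsg.Agent.Lib.Helper28.TCFi24Table.table.walkT w q = q := by decide +kernel
theorem conn1_0 : OrbData.connOKc orb1 Cfsg.Agent.Lib.Helper28.TCFi24Table.table 1 0 31250 = true := by decide +kernel
theorem conn1_1 : OrbData.connOKc orb1 Cfsg.Agent.Lib.Helper28.TCFi24Table.table 1 31250 31250 = true := by decide +kernel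

end Cfsg.Agent.Lib.Helper28.TCFi24BWChk2
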