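import Cfsg.Agent.Lib.Helper28.TCFi24BWTable
import Cfsg.Agent.Lib.Helper28.TCFi24Table
import Cfsg.Agent.Lib.Helper28.TCFi24BWChk9
set_option autoImplicit false
set_option maxRecDepth 100000
set_option maxHeartbeats 0

namespace Cfsg.Agent.Lib.Helper28.TCFi24BWChk12
open Cfsg.Agent.Lib.Helper28.TC2Upper Cfsg.Agent.Lib.Helper28.TC2Lower Cfsg.Agent.Lib.Helper28.TC2Orbit Cfsg.Agent.Lib.Helper28.TC2Range Cfsg.Agent.Lib.Helper28.TC2Bsgs Cfsg.Agent.Lib.Helper28.TCFi24BWTable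

theorem conn4_8 : OrbData.connOKc orb4 Cfsg.Agent.Lib.Helper28.TCFi24Table.table 1 250000 31250 = true := by decide +kernel
theorem conn4_9 : OrbData.connOKc orb4 Cfsg.Agent.Lib.Helper28.TCFi24Table.table 1 281250 25686 = true := by decide +kernel
theorem cnt4 : orb4.count 306936 1 = 180 := by decide +kernel
theorem hgens4 : BT.all (fun s => decide (s ∈ A4)) orb4.gens = true := by decide +kernel
theorem hA4 : ∀ w ∈ A4, (∀ l ∈ w, l < Cfsg.Agent.Lib.Helper28.TCFi24Table.table.k) ∧ ∀ q ∈ ([113, 24, 6, 0] : List ℕ), Cfsg.Agent.Lib.Helper28.TCFi24Table.table.walkT w q = q := by decide +kernel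

end Cfsg.Agent.Lib.Helper28.TCFi24BWChk12
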