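import Cfsg.Agent.Lib.Helper28.TCFi24BWTable
import Cfsg.Agent.Lib.Helper28.TCFi24Table
import Cfsg.Agent.Lib.Helper28.TCFi24BWChk7
set_option autoImplicit false
set_option maxRecDepth 100000
set_option maxHeartbeats 0

namespace Cfsg.Agent.Lib.Helper28.TCFi24BWChk10
open Cfsg.Agent.Lib.Helper28.TC2Upper Cfsg.Agent.Lib.Helper28.TC2Lower Cfsg.Agent.Lib.Helper28.TC2Orbit Cfsg.Agent.Lib.Helper28.TC2Range Cfsg.Agent.Lib.Helper28.TC2Bsgs Cfsg.Agent.Lib.Helper28.TCFi24BWTable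

theorem hgens3 : BT.all (fun s => decide (s ∈ A3)) orb3.gens = true := by decide +kernel
theorem hA3 : ∀ w ∈ A3, (∀ l ∈ w, l < Cfsg.Agent.Lib.Helper28.TCFi24Table.table.k) ∧ ∀ q ∈ ([24, 6, 0] : List ℕ), Cfsg.Agent.Lib.Helper28.TCFi24Table.table.walkT w q = q := by decide +kernel
theorem conn4_0 : OrbData.connOKc orb4 Cfsg.Agent.Lib.Helper28.TCFi24Table.table 1 0 31250 = true := by decide +kernel
theorem conn4_1 : OrbData.connOKc orb4 Cfsg.Agent.Lib.Helper28.TCFi24Table.table 1 31250 31250 = true := by decide +kernel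
theorem conn4_2 : OrbData.connOKc orb4 Cfsg.Agent.Lib.Helper28.TCFi24Table.table 1 62500 31250 = true := by decide +kernel

end Cfsg.Agent.Lib.Helper28.TCFi24BWChk10
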