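import Cfsg.Agent.Lib.Helper28.TCFi24BWTable
import Cfsg.Agent.Lib.Helper28.TCFi24Table
import Cfsg.Agent.Lib.Helper28.TCFi24BWChk11
set_option autoImplicit false
set_option maxRecDepth 100000
set_option maxHeartbeats 0

namespace Cfsg.Agent.Lib.Helper28.TCFi24BWChk14
open Cfsg.Agent.Lib.Helper28.TC2Upper Cfsg.Agent.Lib.Helper28.TC2Lower Cfsg.Agent.Lib.Helper28.TC2Orbit Cfsg.Agent.Lib.Helper28.TC2Range Cfsg.Agent.Lib.Helper28.TC2Bsgs Cfsg.Agent.Lib.Helper28.TCFi24BWTable

theorem conn5_5 : OrbData.connOKc orb5 Cfsg.Agent.Lib.Helper28.TCFi24Table.table 1 156250 31250 = true := by decide +kernel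
theorem conn5_6 : OrbData.connOKc orb5 Cfsg.Agent.Lib.Helper28.TCFi24Table.table 1 187500 31250 = true := by decide +kernel
theorem conn5_7 : OrbData.connOKc orb5 Cfsg.Agent.Lib.Helper28.TCFi24Table.table 1 218750 31250 = true := by decide +kernel
theorem conn5_8 : OrbData.connOKc orb5 Cfsg.Agent.Lib.Helper28.TCFi24Table.table 1 250000 31250 = true := by decide +kernel
theorem conn5_9 : OrbData.connOKc orb5 Cfsg.Agent.Lib.Helper28.TCFi24Table.table 1 281250 25686 = true := by decide +kernel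

end Cfsg.Agent.Lib.Helper28.TCFi24BWChk14
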