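import Cfsg.Agent.Lib.Helper28.TCFi24BWTable
import Cfsg.Agent.Lib.Helper28.TCFi24Table
import Cfsg.Agent.Lib.Helper28.TCFi24BWChk15
set_option autoImplicit false
set_option maxRecDepth 100000
set_option maxHeartbeats 0

namespace Cfsg.Agent.Lib.Helper28.TCFi24BWChk18
open Cfsg.Agent.Lib.Helper28.TC2Upper Cfsg.Agent.Lib.Helper28.TC2Lower Cfsg.Agent.Lib.Helper28.TC2Orbit Cfsg.Agent.Lib.Helper28.TC2Range Cfsg.Agent.Lib.Helper28.TC2Bsgs Cfsg.Agent.Lib.Helper28.TCFi24BWTable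

theorem hA6 : ∀ w ∈ A6, (∀ l ∈ w, l < Cfsg.Agent.Lib.Helper28.TCFi24Table.table.k) ∧ ∀ q ∈ ([116, 510, 113, 24, 6, 0] : List ℕ), Cfsg.Agent.Lib.Helper28.TCFi24Table.table.walkT w q = q := by decide +kernel
theorem conn7_0 : OrbData.connOKc orb7 Cfsg.Agent.Lib.Helper28.TCFi24Table.table 1 0 31250 = true := by decide +kernel
theorem conn7_1 : OrbData.connOKc orb7 Cfsg.Agent.Lib.Helper28.TCFi24Table.table 1 31250 31250 = true := by decide +kernel
theorem conn7_2 : OrbData.connOKc orb7 Cfsg.Agent.Lib.Helper28.TCFi24Table.table 1 62500 31250 = true := by decide +kernel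
theorem conn7_3 : OrbData.connOKc orb7 Cfsg.Agent.Lib.Helper28.TCFi24Table.table 1 93750 31250 = true := by decide +kernel

end Cfsg.Agent.Lib.Helper28.TCFi24BWChk18
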