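import Cfsg.Agent.Lib.Helper28.TCFi24BWChk0
import Cfsg.Agent.Lib.Helper28.TCFi24BWChk1
import Cfsg.Agent.Lib.Helper28.TCFi24BWChk2
import Cfsg.Agent.Lib.Helper28.TCFi24BWChk3
import Cfsg.Agent.Lib.Helper28.TCFi24BWChk4
import Cfsg.Agent.Lib.Helper28.TCFi24BWChk5
import Cfsg.Agent.Lib.Helper28.TCFi24BWChk6
import Cfsg.Agent.Lib.Helper28.TCFi24BWChk7
import Cfsg.Agent.Lib.Helper28.TCFi24BWChk8
import Cfsg.Agent.Lib.Helper28.TCFi24BWChk9
import Cfsg.Agent.Lib.Helper28.TCFi24BWChk10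
import Cfsg.Agent.Lib.Helper28.TCFi24BWChk11
import Cfsg.Agent.Lib.Helper28.TCFi24BWChk12
import Cfsg.Agent.Lib.Helper28.TCFi24BWChk13
import Cfsg.Agent.Lib.Helper28.TCFi24BWChk14
import Cfsg.Agent.Lib.Helper28.TCFi24BWChk15
import Cfsg.Agent.Lib.Helper28.TCFi24BWChk16
import Cfsg.Agent.Lib.Helper28.TCFi24BWChk17
import Cfsg.Agent.Lib.Helper28.TCFi24BWChk18
import Cfsg.Agent.Lib.Helper28.TCFi24BWChk19
import Cfsg.Agent.Lib.Helper28.TCFi24BWChk20
import Cfsg.Agent.Lib.Helper28.TCFi24BWChk21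
import Cfsg.Agent.Lib.Helper28.TCFi24BWChk22
import Cfsg.Agent.Lib.Helper28.TCFi24BWChk23
import Cfsg.Agent.Lib.Helper28.TCFi24BWChk24
import Cfsg.Agent.Lib.Helper28.TCFi24BWChk25
import Cfsg.Agent.Lib.Helper28.TCFi24BWChk26
import Cfsg.Agent.Lib.Helper28.TCFi24BWChk27
import Cfsg.Agent.Lib.Helper28.TCFi24BWChk28

set_option autoImplicit false
set_option maxRecDepth 100000

namespace Cfsg.Agent.Lib.Helper28.TCFi24BWMain
open Cfsg.Agent.Lib.Helper28.TC2Upper Cfsg.Agent.Lib.Helper28.TC2Lower Cfsg.Agent.Lib.Helper28.TC2Orbit Cfsg.Agent.Lib.Helper28.TC2Range Cfsg.Agent.Lib.Helper28.TC2Bsgs Cfsg.Agent.Lib.Helper28.TC2BsgsW Cfsg.Agent.Lib.Helper28.TCFi24BWTable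

/-- the coset table -/
noncomputable abbrev tbl : Table := Cfsg.Agent.Lib.Helper28.TCFi24Table.table

section
variable (hT : tbl.OK) (Γ : Subgroup (Equiv.Perm (Fin tbl.n))) (hΓ : ∀ l, l < tbl.k → Table.sigma hT l ∈ Γ)

theorem hconn0 : ∀ p, p < tbl.n → orb0.oid p = 1 →
    (orb0.depth p = 0 ∧ orb0.roots.look 1 = p) ∨
    (orb0.depth p ≠ 0 ∧ orb0.parent p < tbl.n ∧ orb0.oid (orb0.parent p) = 1 ∧
      orb0.depth (orb0.parent p) + 1 = orb0.depth p ∧
      tbl.walkT (orb0.gens.look (orb0.gen p)) (orb0.parent p) = p) := by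
  intro p hp
  have hp' : p < 306936 := hp
  rcases Nat.lt_or_ge p 31250 with h0 | h0
  · exact (OrbData.connOKc_iff orb0 tbl 1 0 31250).mp Cfsg.Agent.Lib.Helper28.TCFi24BWChk0.conn0_0 p (by omega) (by omega)
  rcases Nat.lt_or_ge p 62500 with h1 | h1
  · exact (OrbData.connOKc_iff orb0 tbl 1 31250 31250).mp Cfsg.Agent.Lib.Helper28.TCFi24BWChk0.conn0_1 p (by omega) (by omega)
  rcases Nat.lt_or_ge p 93750 with h2 | h2
  · exact (OrbData.connOKc_iff orb0 tbl 1 62500 31250).mp Cfsg.Agent.Lib.Helper28.TCFi24BWChk0.conn0_2 p (by omega) (by omega)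
  rcases Nat.lt_or_ge p 125000 with h3 | h3
  · exact (OrbData.connOKc_iff orb0 tbl 1 93750 31250).mp Cfsg.Agent.Lib.Helper28.TCFi24BWChk0.conn0_3 p (by omega) (by omega)
  rcases Nat.lt_or_ge p 156250 with h4 | h4
  · exact (OrbData.connOKc_iff orb0 tbl 1 125000 31250).mp Cfsg.Agent.Lib.Helper28.TCFi24BWChk0.conn0_4 p (by omega) (by omega)
  rcases Nat.lt_or_ge p 187500 with h5 | h5
  · exact (OrbData.connOKc_iff orb0 tbl 1 156250 31250).mp Cfsg.Agent.Lib.Helper28.TCFi24BWChk1.conn0_5 p (by omega) (by omega)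
  rcases Nat.lt_or_ge p 218750 with h6 | h6
  · exact (OrbData.connOKc_iff orb0 tbl 1 187500 31250).mp Cfsg.Agent.Lib.Helper28.TCFi24BWChk1.conn0_6 p (by omega) (by omega)
  rcases Nat.lt_or_ge p 250000 with h7 | h7
  · exact (OrbData.connOKc_iff orb0 tbl 1 218750 31250).mp Cfsg.Agent.Lib.Helper28.TCFi24BWChk1.conn0_7 p (by omega) (by omega)
  rcases Nat.lt_or_ge p 281250 with h8 | h8
  · exact (OrbData.connOKc_iff orb0 tbl 1 250000 31250).mp Cfsg.Agent.Lib.Helper28.TCFi24BWChk1.conn0_8 p (by omega) (by omega)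
  exact (OrbData.connOKc_iff orb0 tbl 1 281250 25686).mp Cfsg.Agent.Lib.Helper28.TCFi24BWChk1.conn0_9 p (by omega) (by omega)

include hΓ in
theorem lev0 : 306936 * Nat.card (pstab Γ (toFin tbl.n [0])) ≤
    Nat.card (pstab Γ (toFin tbl.n [])) :=
  level_boundWN hT Γ [] A0 orb0 1 0 306936 rfl (by decide) Cfsg.Agent.Lib.Helper28.TCFi24BWChk2.cnt0 hΓ Cfsg.Agent.Lib.Helper28.TCFi24BWChk2.hA0
    (BT.All_of_all (fun _ h => of_decide_eq_true h) _ Cfsg.Agent.Lib.Helper28.TCFi24BWChk2.hgens0) hconn0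

theorem hconn1 : ∀ p, p < tbl.n → orb1.oid p = 1 →
    (orb1.depth p = 0 ∧ orb1.roots.look 1 = p) ∨
    (orb1.depth p ≠ 0 ∧ orb1.parent p < tbl.n ∧ orb1.oid (orb1.parent p) = 1 ∧
      orb1.depth (orb1.parent p) + 1 = orb1.depth p ∧
      tbl.walkT (orb1.gens.look (orb1.gen p)) (orb1.parent p) = p) := by
  intro p hp
  have hp' : p < 306936 := hp
  rcases Nat.lt_or_ge p 31250 with h0 | h0
  · exact (OrbData.connOKc_iff orb1 tbl 1 0 31250).mp Cfsg.Agent.Lib.Helper28.TCFi24BWChk2.conn1_0 p (by omega) (by omega)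
  rcases Nat.lt_or_ge p 62500 with h1 | h1
  · exact (OrbData.connOKc_iff orb1 tbl 1 31250 31250).mp Cfsg.Agent.Lib.Helper28.TCFi24BWChk2.conn1_1 p (by omega) (by omega)
  rcases Nat.lt_or_ge p 93750 with h2 | h2
  · exact (OrbData.connOKc_iff orb1 tbl 1 62500 31250).mp Cfsg.Agent.Lib.Helper28.TCFi24BWChk3.conn1_2 p (by omega) (by omega)
  rcases Nat.lt_or_ge p 125000 with h3 | h3
  · exact (OrbData.connOKc_iff orb1 tbl 1 93750 31250).mp Cfsg.Agent.Lib.Helper28.TCFi24BWChk3.conn1_3 p (by omega) (by omega)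
  rcases Nat.lt_or_ge p 156250 with h4 | h4
  · exact (OrbData.connOKc_iff orb1 tbl 1 125000 31250).mp Cfsg.Agent.Lib.Helper28.TCFi24BWChk3.conn1_4 p (by omega) (by omega)
  rcases Nat.lt_or_ge p 187500 with h5 | h5
  · exact (OrbData.connOKc_iff orb1 tbl 1 156250 31250).mp Cfsg.Agent.Lib.Helper28.TCFi24BWChk3.conn1_5 p (by omega) (by omega)
  rcases Nat.lt_or_ge p 218750 with h6 | h6
  · exact (OrbData.connOKc_iff orb1 tbl 1 187500 31250).mp Cfsg.Agent.Lib.Helper28.TCFi24BWChk3.conn1_6 p (by omega) (by omega)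
  rcases Nat.lt_or_ge p 250000 with h7 | h7
  · exact (OrbData.connOKc_iff orb1 tbl 1 218750 31250).mp Cfsg.Agent.Lib.Helper28.TCFi24BWChk4.conn1_7 p (by omega) (by omega)
  rcases Nat.lt_or_ge p 281250 with h8 | h8
  · exact (OrbData.connOKc_iff orb1 tbl 1 250000 31250).mp Cfsg.Agent.Lib.Helper28.TCFi24BWChk4.conn1_8 p (by omega) (by omega)
  exact (OrbData.connOKc_iff orb1 tbl 1 281250 25686).mp Cfsg.Agent.Lib.Helper28.TCFi24BWChk4.conn1_9 p (by omega) (by omega)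

include hΓ in
theorem lev1 : 31671 * Nat.card (pstab Γ (toFin tbl.n [6, 0])) ≤
    Nat.card (pstab Γ (toFin tbl.n [0])) :=
  level_boundWN hT Γ [0] A1 orb1 1 6 31671 rfl (by decide) Cfsg.Agent.Lib.Helper28.TCFi24BWChk4.cnt1 hΓ Cfsg.Agent.Lib.Helper28.TCFi24BWChk5.hA1
    (BT.All_of_all (fun _ h => of_decide_eq_true h) _ Cfsg.Agent.Lib.Helper28.TCFi24BWChk4.hgens1) hconn1

theorem hconn2 : ∀ p, p < tbl.n → orb2.oid p = 1 →
    (orb2.depth p = 0 ∧ orb2.roots.look 1 = p) ∨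
    (orb2.depth p ≠ 0 ∧ orb2.parent p < tbl.n ∧ orb2.oid (orb2.parent p) = 1 ∧
      orb2.depth (orb2.parent p) + 1 = orb2.depth p ∧
      tbl.walkT (orb2.gens.look (orb2.gen p)) (orb2.parent p) = p) := by
  intro p hp
  have hp' : p < 306936 := hp
  rcases Nat.lt_or_ge p 31250 with h0 | h0
  · exact (OrbData.connOKc_iff orb2 tbl 1 0 31250).mp Cfsg.Agent.Lib.Helper28.TCFi24BWChk5.conn2_0 p (by omega) (by omega)
  rcases Nat.lt_or_ge p 62500 with h1 | h1
  · exact (OrbData.connOKc_iff orb2 tbl 1 31250 31250).mp Cfsg.Agent.Lib.Helper28.TCFi24BWChk5.conn2_1 p (by omega) (by omega)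
  rcases Nat.lt_or_ge p 93750 with h2 | h2
  · exact (OrbData.connOKc_iff orb2 tbl 1 62500 31250).mp Cfsg.Agent.Lib.Helper28.TCFi24BWChk5.conn2_2 p (by omega) (by omega)
  rcases Nat.lt_or_ge p 125000 with h3 | h3
  · exact (OrbData.connOKc_iff orb2 tbl 1 93750 31250).mp Cfsg.Agent.Lib.Helper28.TCFi24BWChk5.conn2_3 p (by omega) (by omega)
  rcases Nat.lt_or_ge p 156250 with h4 | h4
  · exact (OrbData.connOKc_iff orb2 tbl 1 125000 31250).mp Cfsg.Agent.Lib.Helper28.TCFi24BWChk6.conn2_4 p (by omega) (by omega)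
  rcases Nat.lt_or_ge p 187500 with h5 | h5
  · exact (OrbData.connOKc_iff orb2 tbl 1 156250 31250).mp Cfsg.Agent.Lib.Helper28.TCFi24BWChk6.conn2_5 p (by omega) (by omega)
  rcases Nat.lt_or_ge p 218750 with h6 | h6
  · exact (OrbData.connOKc_iff orb2 tbl 1 187500 31250).mp Cfsg.Agent.Lib.Helper28.TCFi24BWChk6.conn2_6 p (by omega) (by omega)
  rcases Nat.lt_or_ge p 250000 with h7 | h7
  · exact (OrbData.connOKc_iff orb2 tbl 1 218750 31250).mp Cfsg.Agent.Lib.Helper28.TCFi24BWChk6.conn2_7 p (by omega) (by omega)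
  rcases Nat.lt_or_ge p 281250 with h8 | h8
  · exact (OrbData.connOKc_iff orb2 tbl 1 250000 31250).mp Cfsg.Agent.Lib.Helper28.TCFi24BWChk6.conn2_8 p (by omega) (by omega)
  exact (OrbData.connOKc_iff orb2 tbl 1 281250 25686).mp Cfsg.Agent.Lib.Helper28.TCFi24BWChk7.conn2_9 p (by omega) (by omega)

include hΓ in
theorem lev2 : 3510 * Nat.card (pstab Γ (toFin tbl.n [24, 6, 0])) ≤
    Nat.card (pstab Γ (toFin tbl.n [6, 0])) :=
  level_boundWN hT Γ [6, 0] A2 orb2 1 24 3510 rfl (by decide) Cfsg.Agent.Lib.Helper28.TCFi24BWChk7.cnt2 hΓ Cfsg.Agent.Lib.Helper28.TCFi24BWChk7.hA2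
    (BT.All_of_all (fun _ h => of_decide_eq_true h) _ Cfsg.Agent.Lib.Helper28.TCFi24BWChk7.hgens2) hconn2

theorem hconn3 : ∀ p, p < tbl.n → orb3.oid p = 1 →
    (orb3.depth p = 0 ∧ orb3.roots.look 1 = p) ∨
    (orb3.depth p ≠ 0 ∧ orb3.parent p < tbl.n ∧ orb3.oid (orb3.parent p) = 1 ∧
      orb3.depth (orb3.parent p) + 1 = orb3.depth p ∧
      tbl.walkT (orb3.gens.look (orb3.gen p)) (orb3.parent p) = p) := by
  intro p hp
  have hp' : p < 306936 := hp
  rcases Nat.lt_or_ge p 31250 with h0 | h0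
  · exact (OrbData.connOKc_iff orb3 tbl 1 0 31250).mp Cfsg.Agent.Lib.Helper28.TCFi24BWChk7.conn3_0 p (by omega) (by omega)
  rcases Nat.lt_or_ge p 62500 with h1 | h1
  · exact (OrbData.connOKc_iff orb3 tbl 1 31250 31250).mp Cfsg.Agent.Lib.Helper28.TCFi24BWChk8.conn3_1 p (by omega) (by omega)
  rcases Nat.lt_or_ge p 93750 with h2 | h2
  · exact (OrbData.connOKc_iff orb3 tbl 1 62500 31250).mp Cfsg.Agent.Lib.Helper28.TCFi24BWChk8.conn3_2 p (by omega) (by omega)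
  rcases Nat.lt_or_ge p 125000 with h3 | h3
  · exact (OrbData.connOKc_iff orb3 tbl 1 93750 31250).mp Cfsg.Agent.Lib.Helper28.TCFi24BWChk8.conn3_3 p (by omega) (by omega)
  rcases Nat.lt_or_ge p 156250 with h4 | h4
  · exact (OrbData.connOKc_iff orb3 tbl 1 125000 31250).mp Cfsg.Agent.Lib.Helper28.TCFi24BWChk8.conn3_4 p (by omega) (by omega)
  rcases Nat.lt_or_ge p 187500 with h5 | h5
  · exact (OrbData.connOKc_iff orb3 tbl 1 156250 31250).mp Cfsg.Agent.Lib.Helper28.TCFi24BWChk8.conn3_5 p (by omega) (by omega)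
  rcases Nat.lt_or_ge p 218750 with h6 | h6
  · exact (OrbData.connOKc_iff orb3 tbl 1 187500 31250).mp Cfsg.Agent.Lib.Helper28.TCFi24BWChk9.conn3_6 p (by omega) (by omega)
  rcases Nat.lt_or_ge p 250000 with h7 | h7
  · exact (OrbData.connOKc_iff orb3 tbl 1 218750 31250).mp Cfsg.Agent.Lib.Helper28.TCFi24BWChk9.conn3_7 p (by omega) (by omega)
  rcases Nat.lt_or_ge p 281250 with h8 | h8
  · exact (OrbData.connOKc_iff orb3 tbl 1 250000 31250).mp Cfsg.Agent.Lib.Helper28.TCFi24BWChk9.conn3_8 p (by omega) (by omega)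
  exact (OrbData.connOKc_iff orb3 tbl 1 281250 25686).mp Cfsg.Agent.Lib.Helper28.TCFi24BWChk9.conn3_9 p (by omega) (by omega)

include hΓ in
theorem lev3 : 693 * Nat.card (pstab Γ (toFin tbl.n [113, 24, 6, 0])) ≤
    Nat.card (pstab Γ (toFin tbl.n [24, 6, 0])) :=
  level_boundWN hT Γ [24, 6, 0] A3 orb3 1 113 693 rfl (by decide) Cfsg.Agent.Lib.Helper28.TCFi24BWChk9.cnt3 hΓ Cfsg.Agent.Lib.Helper28.TCFi24BWChk10.hA3
    (BT.All_of_all (fun _ h => of_decide_eq_true h) _ Cfsg.Agent.Lib.Helper28.TCFi24BWChk10.hgens3) hconn3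

theorem hconn4 : ∀ p, p < tbl.n → orb4.oid p = 1 →
    (orb4.depth p = 0 ∧ orb4.roots.look 1 = p) ∨
    (orb4.depth p ≠ 0 ∧ orb4.parent p < tbl.n ∧ orb4.oid (orb4.parent p) = 1 ∧
      orb4.depth (orb4.parent p) + 1 = orb4.depth p ∧
      tbl.walkT (orb4.gens.look (orb4.gen p)) (orb4.parent p) = p) := by
  intro p hp
  have hp' : p < 306936 := hp
  rcases Nat.lt_or_ge p 31250 with h0 | h0
  · exact (OrbData.connOKc_iff orb4 tbl 1 0 31250).mp Cfsg.Agent.Lib.Helper28.TCFi24BWChk10.conn4_0 p (by omega) (by omega)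
  rcases Nat.lt_or_ge p 62500 with h1 | h1
  · exact (OrbData.connOKc_iff orb4 tbl 1 31250 31250).mp Cfsg.Agent.Lib.Helper28.TCFi24BWChk10.conn4_1 p (by omega) (by omega)
  rcases Nat.lt_or_ge p 93750 with h2 | h2
  · exact (OrbData.connOKc_iff orb4 tbl 1 62500 31250).mp Cfsg.Agent.Lib.Helper28.TCFi24BWChk10.conn4_2 p (by omega) (by omega)
  rcases Nat.lt_or_ge p 125000 with h3 | h3
  · exact (OrbData.connOKc_iff orb4 tbl 1 93750 31250).mp Cfsg.Agent.Lib.Helper28.TCFi24BWChk11.conn4_3 p (by omega) (by omega)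
  rcases Nat.lt_or_ge p 156250 with h4 | h4
  · exact (OrbData.connOKc_iff orb4 tbl 1 125000 31250).mp Cfsg.Agent.Lib.Helper28.TCFi24BWChk11.conn4_4 p (by omega) (by omega)
  rcases Nat.lt_or_ge p 187500 with h5 | h5
  · exact (OrbData.connOKc_iff orb4 tbl 1 156250 31250).mp Cfsg.Agent.Lib.Helper28.TCFi24BWChk11.conn4_5 p (by omega) (by omega)
  rcases Nat.lt_or_ge p 218750 with h6 | h6
  · exact (OrbData.connOKc_iff orb4 tbl 1 187500 31250).mp Cfsg.Agent.Lib.Helper28.TCFi24BWChk11.conn4_6 p (by omega) (by omega)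
  rcases Nat.lt_or_ge p 250000 with h7 | h7
  · exact (OrbData.connOKc_iff orb4 tbl 1 218750 31250).mp Cfsg.Agent.Lib.Helper28.TCFi24BWChk11.conn4_7 p (by omega) (by omega)
  rcases Nat.lt_or_ge p 281250 with h8 | h8
  · exact (OrbData.connOKc_iff orb4 tbl 1 250000 31250).mp Cfsg.Agent.Lib.Helper28.TCFi24BWChk12.conn4_8 p (by omega) (by omega)
  exact (OrbData.connOKc_iff orb4 tbl 1 281250 25686).mp Cfsg.Agent.Lib.Helper28.TCFi24BWChk12.conn4_9 p (by omega) (by omega)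

include hΓ in
theorem lev4 : 180 * Nat.card (pstab Γ (toFin tbl.n [510, 113, 24, 6, 0])) ≤
    Nat.card (pstab Γ (toFin tbl.n [113, 24, 6, 0])) :=
  level_boundWN hT Γ [113, 24, 6, 0] A4 orb4 1 510 180 rfl (by decide) Cfsg.Agent.Lib.Helper28.TCFi24BWChk12.cnt4 hΓ Cfsg.Agent.Lib.Helper28.TCFi24BWChk12.hA4
    (BT.All_of_all (fun _ h => of_decide_eq_true h) _ Cfsg.Agent.Lib.Helper28.TCFi24BWChk12.hgens4) hconn4

theorem hconn5 : ∀ p, p < tbl.n → orb5.oid p = 1 →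
    (orb5.depth p = 0 ∧ orb5.roots.look 1 = p) ∨
    (orb5.depth p ≠ 0 ∧ orb5.parent p < tbl.n ∧ orb5.oid (orb5.parent p) = 1 ∧
      orb5.depth (orb5.parent p) + 1 = orb5.depth p ∧
      tbl.walkT (orb5.gens.look (orb5.gen p)) (orb5.parent p) = p) := by
  intro p hp
  have hp' : p < 306936 := hp
  rcases Nat.lt_or_ge p 31250 with h0 | h0
  · exact (OrbData.connOKc_iff orb5 tbl 1 0 31250).mp Cfsg.Agent.Lib.Helper28.TCFi24BWChk13.conn5_0 p (by omega) (by omega)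
  rcases Nat.lt_or_ge p 62500 with h1 | h1
  · exact (OrbData.connOKc_iff orb5 tbl 1 31250 31250).mp Cfsg.Agent.Lib.Helper28.TCFi24BWChk13.conn5_1 p (by omega) (by omega)
  rcases Nat.lt_or_ge p 93750 with h2 | h2
  · exact (OrbData.connOKc_iff orb5 tbl 1 62500 31250).mp Cfsg.Agent.Lib.Helper28.TCFi24BWChk13.conn5_2 p (by omega) (by omega)
  rcases Nat.lt_or_ge p 125000 with h3 | h3
  · exact (OrbData.connOKc_iff orb5 tbl 1 93750 31250).mp Cfsg.Agent.Lib.Helper28.TCFi24BWChk13.conn5_3 p (by omega) (by omega)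
  rcases Nat.lt_or_ge p 156250 with h4 | h4
  · exact (OrbData.connOKc_iff orb5 tbl 1 125000 31250).mp Cfsg.Agent.Lib.Helper28.TCFi24BWChk13.conn5_4 p (by omega) (by omega)
  rcases Nat.lt_or_ge p 187500 with h5 | h5
  · exact (OrbData.connOKc_iff orb5 tbl 1 156250 31250).mp Cfsg.Agent.Lib.Helper28.TCFi24BWChk14.conn5_5 p (by omega) (by omega)
  rcases Nat.lt_or_ge p 218750 with h6 | h6
  · exact (OrbData.connOKc_iff orb5 tbl 1 187500 31250).mp Cfsg.Agent.Lib.Helper28.TCFi24BWChk14.conn5_6 p (by omega) (by omega)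
  rcases Nat.lt_or_ge p 250000 with h7 | h7
  · exact (OrbData.connOKc_iff orb5 tbl 1 218750 31250).mp Cfsg.Agent.Lib.Helper28.TCFi24BWChk14.conn5_7 p (by omega) (by omega)
  rcases Nat.lt_or_ge p 281250 with h8 | h8
  · exact (OrbData.connOKc_iff orb5 tbl 1 250000 31250).mp Cfsg.Agent.Lib.Helper28.TCFi24BWChk14.conn5_8 p (by omega) (by omega)
  exact (OrbData.connOKc_iff orb5 tbl 1 281250 25686).mp Cfsg.Agent.Lib.Helper28.TCFi24BWChk14.conn5_9 p (by omega) (by omega)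

include hΓ in
theorem lev5 : 48 * Nat.card (pstab Γ (toFin tbl.n [116, 510, 113, 24, 6, 0])) ≤
    Nat.card (pstab Γ (toFin tbl.n [510, 113, 24, 6, 0])) :=
  level_boundWN hT Γ [510, 113, 24, 6, 0] A5 orb5 1 116 48 rfl (by decide) Cfsg.Agent.Lib.Helper28.TCFi24BWChk15.cnt5 hΓ Cfsg.Agent.Lib.Helper28.TCFi24BWChk15.hA5
    (BT.All_of_all (fun _ h => of_decide_eq_true h) _ Cfsg.Agent.Lib.Helper28.TCFi24BWChk15.hgens5) hconn5

theorem hconn6 : ∀ p, p < tbl.n → orb6.oid p = 1 →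
    (orb6.depth p = 0 ∧ orb6.roots.look 1 = p) ∨
    (orb6.depth p ≠ 0 ∧ orb6.parent p < tbl.n ∧ orb6.oid (orb6.parent p) = 1 ∧
      orb6.depth (orb6.parent p) + 1 = orb6.depth p ∧
      tbl.walkT (orb6.gens.look (orb6.gen p)) (orb6.parent p) = p) := by
  intro p hp
  have hp' : p < 306936 := hp
  rcases Nat.lt_or_ge p 31250 with h0 | h0
  · exact (OrbData.connOKc_iff orb6 tbl 1 0 31250).mp Cfsg.Agent.Lib.Helper28.TCFi24BWChk15.conn6_0 p (by omega) (by omega)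
  rcases Nat.lt_or_ge p 62500 with h1 | h1
  · exact (OrbData.connOKc_iff orb6 tbl 1 31250 31250).mp Cfsg.Agent.Lib.Helper28.TCFi24BWChk15.conn6_1 p (by omega) (by omega)
  rcases Nat.lt_or_ge p 93750 with h2 | h2
  · exact (OrbData.connOKc_iff orb6 tbl 1 62500 31250).mp Cfsg.Agent.Lib.Helper28.TCFi24BWChk16.conn6_2 p (by omega) (by omega)
  rcases Nat.lt_or_ge p 125000 with h3 | h3
  · exact (OrbData.connOKc_iff orb6 tbl 1 93750 31250).mp Cfsg.Agent.Lib.Helper28.TCFi24BWChk16.conn6_3 p (by omega) (by omega)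
  rcases Nat.lt_or_ge p 156250 with h4 | h4
  · exact (OrbData.connOKc_iff orb6 tbl 1 125000 31250).mp Cfsg.Agent.Lib.Helper28.TCFi24BWChk16.conn6_4 p (by omega) (by omega)
  rcases Nat.lt_or_ge p 187500 with h5 | h5
  · exact (OrbData.connOKc_iff orb6 tbl 1 156250 31250).mp Cfsg.Agent.Lib.Helper28.TCFi24BWChk16.conn6_5 p (by omega) (by omega)
  rcases Nat.lt_or_ge p 218750 with h6 | h6
  · exact (OrbData.connOKc_iff orb6 tbl 1 187500 31250).mp Cfsg.Agent.Lib.Helper28.TCFi24BWChk16.conn6_6 p (by omega) (by omega)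
  rcases Nat.lt_or_ge p 250000 with h7 | h7
  · exact (OrbData.connOKc_iff orb6 tbl 1 218750 31250).mp Cfsg.Agent.Lib.Helper28.TCFi24BWChk17.conn6_7 p (by omega) (by omega)
  rcases Nat.lt_or_ge p 281250 with h8 | h8
  · exact (OrbData.connOKc_iff orb6 tbl 1 250000 31250).mp Cfsg.Agent.Lib.Helper28.TCFi24BWChk17.conn6_8 p (by omega) (by omega)
  exact (OrbData.connOKc_iff orb6 tbl 1 281250 25686).mp Cfsg.Agent.Lib.Helper28.TCFi24BWChk17.conn6_9 p (by omega) (by omega)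

include hΓ in
theorem lev6 : 96 * Nat.card (pstab Γ (toFin tbl.n [1, 116, 510, 113, 24, 6, 0])) ≤
    Nat.card (pstab Γ (toFin tbl.n [116, 510, 113, 24, 6, 0])) :=
  level_boundWN hT Γ [116, 510, 113, 24, 6, 0] A6 orb6 1 1 96 rfl (by decide) Cfsg.Agent.Lib.Helper28.TCFi24BWChk17.cnt6 hΓ Cfsg.Agent.Lib.Helper28.TCFi24BWChk18.hA6
    (BT.All_of_all (fun _ h => of_decide_eq_true h) _ Cfsg.Agent.Lib.Helper28.TCFi24BWChk17.hgens6) hconn6

theorem hconn7 : ∀ p, p < tbl.n → orb7.oid p = 1 →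
    (orb7.depth p = 0 ∧ orb7.roots.look 1 = p) ∨
    (orb7.depth p ≠ 0 ∧ orb7.parent p < tbl.n ∧ orb7.oid (orb7.parent p) = 1 ∧
      orb7.depth (orb7.parent p) + 1 = orb7.depth p ∧
      tbl.walkT (orb7.gens.look (orb7.gen p)) (orb7.parent p) = p) := by
  intro p hp
  have hp' : p < 306936 := hp
  rcases Nat.lt_or_ge p 31250 with h0 | h0
  · exact (OrbData.connOKc_iff orb7 tbl 1 0 31250).mp Cfsg.Agent.Lib.Helper28.TCFi24BWChk18.conn7_0 p (by omega) (by omega)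
  rcases Nat.lt_or_ge p 62500 with h1 | h1
  · exact (OrbData.connOKc_iff orb7 tbl 1 31250 31250).mp Cfsg.Agent.Lib.Helper28.TCFi24BWChk18.conn7_1 p (by omega) (by omega)
  rcases Nat.lt_or_ge p 93750 with h2 | h2
  · exact (OrbData.connOKc_iff orb7 tbl 1 62500 31250).mp Cfsg.Agent.Lib.Helper28.TCFi24BWChk18.conn7_2 p (by omega) (by omega)
  rcases Nat.lt_or_ge p 125000 with h3 | h3
  · exact (OrbData.connOKc_iff orb7 tbl 1 93750 31250).mp Cfsg.Agent.Lib.Helper28.TCFi24BWChk18.conn7_3 p (by omega) (by omega)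
  rcases Nat.lt_or_ge p 156250 with h4 | h4
  · exact (OrbData.connOKc_iff orb7 tbl 1 125000 31250).mp Cfsg.Agent.Lib.Helper28.TCFi24BWChk19.conn7_4 p (by omega) (by omega)
  rcases Nat.lt_or_ge p 187500 with h5 | h5
  · exact (OrbData.connOKc_iff orb7 tbl 1 156250 31250).mp Cfsg.Agent.Lib.Helper28.TCFi24BWChk19.conn7_5 p (by omega) (by omega)
  rcases Nat.lt_or_ge p 218750 with h6 | h6
  · exact (OrbData.connOKc_iff orb7 tbl 1 187500 31250).mp Cfsg.Agent.Lib.Helper28.TCFi24BWChk19.conn7_6 p (by omega) (by omega)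
  rcases Nat.lt_or_ge p 250000 with h7 | h7
  · exact (OrbData.connOKc_iff orb7 tbl 1 218750 31250).mp Cfsg.Agent.Lib.Helper28.TCFi24BWChk19.conn7_7 p (by omega) (by omega)
  rcases Nat.lt_or_ge p 281250 with h8 | h8
  · exact (OrbData.connOKc_iff orb7 tbl 1 250000 31250).mp Cfsg.Agent.Lib.Helper28.TCFi24BWChk19.conn7_8 p (by omega) (by omega)
  exact (OrbData.connOKc_iff orb7 tbl 1 281250 25686).mp Cfsg.Agent.Lib.Helper28.TCFi24BWChk20.conn7_9 p (by omega) (by omega)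

include hΓ in
theorem lev7 : 8 * Nat.card (pstab Γ (toFin tbl.n [11, 1, 116, 510, 113, 24, 6, 0])) ≤
    Nat.card (pstab Γ (toFin tbl.n [1, 116, 510, 113, 24, 6, 0])) :=
  level_boundWN hT Γ [1, 116, 510, 113, 24, 6, 0] A7 orb7 1 11 8 rfl (by decide) Cfsg.Agent.Lib.Helper28.TCFi24BWChk20.cnt7 hΓ Cfsg.Agent.Lib.Helper28.TCFi24BWChk20.hA7
    (BT.All_of_all (fun _ h => of_decide_eq_true h) _ Cfsg.Agent.Lib.Helper28.TCFi24BWChk20.hgens7) hconn7

theorem hconn8 : ∀ p, p < tbl.n → orb8.oid p = 1 →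
    (orb8.depth p = 0 ∧ orb8.roots.look 1 = p) ∨
    (orb8.depth p ≠ 0 ∧ orb8.parent p < tbl.n ∧ orb8.oid (orb8.parent p) = 1 ∧
      orb8.depth (orb8.parent p) + 1 = orb8.depth p ∧
      tbl.walkT (orb8.gens.look (orb8.gen p)) (orb8.parent p) = p) := by
  intro p hp
  have hp' : p < 306936 := hp
  rcases Nat.lt_or_ge p 31250 with h0 | h0
  · exact (OrbData.connOKc_iff orb8 tbl 1 0 31250).mp Cfsg.Agent.Lib.Helper28.TCFi24BWChk20.conn8_0 p (by omega) (by omega)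
  rcases Nat.lt_or_ge p 62500 with h1 | h1
  · exact (OrbData.connOKc_iff orb8 tbl 1 31250 31250).mp Cfsg.Agent.Lib.Helper28.TCFi24BWChk21.conn8_1 p (by omega) (by omega)
  rcases Nat.lt_or_ge p 93750 with h2 | h2
  · exact (OrbData.connOKc_iff orb8 tbl 1 62500 31250).mp Cfsg.Agent.Lib.Helper28.TCFi24BWChk21.conn8_2 p (by omega) (by omega)
  rcases Nat.lt_or_ge p 125000 with h3 | h3
  · exact (OrbData.connOKc_iff orb8 tbl 1 93750 31250).mp Cfsg.Agent.Lib.Helper28.TCFi24BWChk21.conn8_3 p (by omega) (by omega)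
  rcases Nat.lt_or_ge p 156250 with h4 | h4
  · exact (OrbData.connOKc_iff orb8 tbl 1 125000 31250).mp Cfsg.Agent.Lib.Helper28.TCFi24BWChk21.conn8_4 p (by omega) (by omega)
  rcases Nat.lt_or_ge p 187500 with h5 | h5
  · exact (OrbData.connOKc_iff orb8 tbl 1 156250 31250).mp Cfsg.Agent.Lib.Helper28.TCFi24BWChk21.conn8_5 p (by omega) (by omega)
  rcases Nat.lt_or_ge p 218750 with h6 | h6
  · exact (OrbData.connOKc_iff orb8 tbl 1 187500 31250).mp Cfsg.Agent.Lib.Helper28.TCFi24BWChk22.conn8_6 p (by omega) (by omega)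
  rcases Nat.lt_or_ge p 250000 with h7 | h7
  · exact (OrbData.connOKc_iff orb8 tbl 1 218750 31250).mp Cfsg.Agent.Lib.Helper28.TCFi24BWChk22.conn8_7 p (by omega) (by omega)
  rcases Nat.lt_or_ge p 281250 with h8 | h8
  · exact (OrbData.connOKc_iff orb8 tbl 1 250000 31250).mp Cfsg.Agent.Lib.Helper28.TCFi24BWChk22.conn8_8 p (by omega) (by omega)
  exact (OrbData.connOKc_iff orb8 tbl 1 281250 25686).mp Cfsg.Agent.Lib.Helper28.TCFi24BWChk22.conn8_9 p (by omega) (by omega)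

include hΓ in
theorem lev8 : 4 * Nat.card (pstab Γ (toFin tbl.n [5, 11, 1, 116, 510, 113, 24, 6, 0])) ≤
    Nat.card (pstab Γ (toFin tbl.n [11, 1, 116, 510, 113, 24, 6, 0])) :=
  level_boundWN hT Γ [11, 1, 116, 510, 113, 24, 6, 0] A8 orb8 1 5 4 rfl (by decide) Cfsg.Agent.Lib.Helper28.TCFi24BWChk22.cnt8 hΓ Cfsg.Agent.Lib.Helper28.TCFi24BWChk23.hA8
    (BT.All_of_all (fun _ h => of_decide_eq_true h) _ Cfsg.Agent.Lib.Helper28.TCFi24BWChk23.hgens8) hconn8

theorem hconn9 : ∀ p, p < tbl.n → orb9.oid p = 1 →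
    (orb9.depth p = 0 ∧ orb9.roots.look 1 = p) ∨
    (orb9.depth p ≠ 0 ∧ orb9.parent p < tbl.n ∧ orb9.oid (orb9.parent p) = 1 ∧
      orb9.depth (orb9.parent p) + 1 = orb9.depth p ∧
      tbl.walkT (orb9.gens.look (orb9.gen p)) (orb9.parent p) = p) := by
  intro p hp
  have hp' : p < 306936 := hp
  rcases Nat.lt_or_ge p 31250 with h0 | h0
  · exact (OrbData.connOKc_iff orb9 tbl 1 0 31250).mp Cfsg.Agent.Lib.Helper28.TCFi24BWChk23.conn9_0 p (by omega) (by omega)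
  rcases Nat.lt_or_ge p 62500 with h1 | h1
  · exact (OrbData.connOKc_iff orb9 tbl 1 31250 31250).mp Cfsg.Agent.Lib.Helper28.TCFi24BWChk23.conn9_1 p (by omega) (by omega)
  rcases Nat.lt_or_ge p 93750 with h2 | h2
  · exact (OrbData.connOKc_iff orb9 tbl 1 62500 31250).mp Cfsg.Agent.Lib.Helper28.TCFi24BWChk23.conn9_2 p (by omega) (by omega)
  rcases Nat.lt_or_ge p 125000 with h3 | h3
  · exact (OrbData.connOKc_iff orb9 tbl 1 93750 31250).mp Cfsg.Agent.Lib.Helper28.TCFi24BWChk24.conn9_3 p (by omega) (by omega)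
  rcases Nat.lt_or_ge p 156250 with h4 | h4
  · exact (OrbData.connOKc_iff orb9 tbl 1 125000 31250).mp Cfsg.Agent.Lib.Helper28.TCFi24BWChk24.conn9_4 p (by omega) (by omega)
  rcases Nat.lt_or_ge p 187500 with h5 | h5
  · exact (OrbData.connOKc_iff orb9 tbl 1 156250 31250).mp Cfsg.Agent.Lib.Helper28.TCFi24BWChk24.conn9_5 p (by omega) (by omega)
  rcases Nat.lt_or_ge p 218750 with h6 | h6
  · exact (OrbData.connOKc_iff orb9 tbl 1 187500 31250).mp Cfsg.Agent.Lib.Helper28.TCFi24BWChk24.conn9_6 p (by omega) (by omega)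
  rcases Nat.lt_or_ge p 250000 with h7 | h7
  · exact (OrbData.connOKc_iff orb9 tbl 1 218750 31250).mp Cfsg.Agent.Lib.Helper28.TCFi24BWChk24.conn9_7 p (by omega) (by omega)
  rcases Nat.lt_or_ge p 281250 with h8 | h8
  · exact (OrbData.connOKc_iff orb9 tbl 1 250000 31250).mp Cfsg.Agent.Lib.Helper28.TCFi24BWChk25.conn9_8 p (by omega) (by omega)
  exact (OrbData.connOKc_iff orb9 tbl 1 281250 25686).mp Cfsg.Agent.Lib.Helper28.TCFi24BWChk25.conn9_9 p (by omega) (by omega)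

include hΓ in
theorem lev9 : 2 * Nat.card (pstab Γ (toFin tbl.n [21, 5, 11, 1, 116, 510, 113, 24, 6, 0])) ≤
    Nat.card (pstab Γ (toFin tbl.n [5, 11, 1, 116, 510, 113, 24, 6, 0])) :=
  level_boundWN hT Γ [5, 11, 1, 116, 510, 113, 24, 6, 0] A9 orb9 1 21 2 rfl (by decide) Cfsg.Agent.Lib.Helper28.TCFi24BWChk25.cnt9 hΓ Cfsg.Agent.Lib.Helper28.TCFi24BWChk25.hA9
    (BT.All_of_all (fun _ h => of_decide_eq_true h) _ Cfsg.Agent.Lib.Helper28.TCFi24BWChk25.hgens9) hconn9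

theorem hconn10 : ∀ p, p < tbl.n → orb10.oid p = 1 →
    (orb10.depth p = 0 ∧ orb10.roots.look 1 = p) ∨
    (orb10.depth p ≠ 0 ∧ orb10.parent p < tbl.n ∧ orb10.oid (orb10.parent p) = 1 ∧
      orb10.depth (orb10.parent p) + 1 = orb10.depth p ∧
      tbl.walkT (orb10.gens.look (orb10.gen p)) (orb10.parent p) = p) := by
  intro p hp
  have hp' : p < 306936 := hp
  rcases Nat.lt_or_ge p 31250 with h0 | h0
  · exact (OrbData.connOKc_iff orb10 tbl 1 0 31250).mp Cfsg.Agent.Lib.Helper28.TCFi24BWChk26.conn10_0 p (by omega) (by omega)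
  rcases Nat.lt_or_ge p 62500 with h1 | h1
  · exact (OrbData.connOKc_iff orb10 tbl 1 31250 31250).mp Cfsg.Agent.Lib.Helper28.TCFi24BWChk26.conn10_1 p (by omega) (by omega)
  rcases Nat.lt_or_ge p 93750 with h2 | h2
  · exact (OrbData.connOKc_iff orb10 tbl 1 62500 31250).mp Cfsg.Agent.Lib.Helper28.TCFi24BWChk26.conn10_2 p (by omega) (by omega)
  rcases Nat.lt_or_ge p 125000 with h3 | h3
  · exact (OrbData.connOKc_iff orb10 tbl 1 93750 31250).mp Cfsg.Agent.Lib.Helper28.TCFi24BWChk26.conn10_3 p (by omega) (by omega)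
  rcases Nat.lt_or_ge p 156250 with h4 | h4
  · exact (OrbData.connOKc_iff orb10 tbl 1 125000 31250).mp Cfsg.Agent.Lib.Helper28.TCFi24BWChk26.conn10_4 p (by omega) (by omega)
  rcases Nat.lt_or_ge p 187500 with h5 | h5
  · exact (OrbData.connOKc_iff orb10 tbl 1 156250 31250).mp Cfsg.Agent.Lib.Helper28.TCFi24BWChk27.conn10_5 p (by omega) (by omega)
  rcases Nat.lt_or_ge p 218750 with h6 | h6
  · exact (OrbData.connOKc_iff orb10 tbl 1 187500 31250).mp Cfsg.Agent.Lib.Helper28.TCFi24BWChk27.conn10_6 p (by omega) (by omega)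
  rcases Nat.lt_or_ge p 250000 with h7 | h7
  · exact (OrbData.connOKc_iff orb10 tbl 1 218750 31250).mp Cfsg.Agent.Lib.Helper28.TCFi24BWChk27.conn10_7 p (by omega) (by omega)
  rcases Nat.lt_or_ge p 281250 with h8 | h8
  · exact (OrbData.connOKc_iff orb10 tbl 1 250000 31250).mp Cfsg.Agent.Lib.Helper28.TCFi24BWChk27.conn10_8 p (by omega) (by omega)
  exact (OrbData.connOKc_iff orb10 tbl 1 281250 25686).mp Cfsg.Agent.Lib.Helper28.TCFi24BWChk27.conn10_9 p (by omega) (by omega)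

include hΓ in
theorem lev10 : 2 * Nat.card (pstab Γ (toFin tbl.n [45, 21, 5, 11, 1, 116, 510, 113, 24, 6, 0])) ≤
    Nat.card (pstab Γ (toFin tbl.n [21, 5, 11, 1, 116, 510, 113, 24, 6, 0])) :=
  level_boundWN hT Γ [21, 5, 11, 1, 116, 510, 113, 24, 6, 0] A10 orb10 1 45 2 rfl (by decide) Cfsg.Agent.Lib.Helper28.TCFi24BWChk28.cnt10 hΓ Cfsg.Agent.Lib.Helper28.TCFi24BWChk28.hA10
    (BT.All_of_all (fun _ h => of_decide_eq_true h) _ Cfsg.Agent.Lib.Helper28.TCFi24BWChk28.hgens10) hconn10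

include hΓ in
/-- the chain of stabilisers -/
theorem chain : 2510411418381323442585600 * Nat.card (pstab Γ (toFin tbl.n [45, 21, 5, 11, 1, 116, 510, 113, 24, 6, 0])) ≤ Nat.card (pstab Γ (toFin tbl.n [])) := by
  have h0 := lev0 hT Γ hΓ
  have h1 := lev1 hT Γ hΓ
  have h2 := lev2 hT Γ hΓ
  have h3 := lev3 hT Γ hΓ
  have h4 := lev4 hT Γ hΓ
  have h5 := lev5 hT Γ hΓ
  have h6 := lev6 hT Γ hΓ
  have h7 := lev7 hT Γ hΓ
  have h8 := lev8 hT Γ hΓ
  have h9 := lev9 hT Γ hΓ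
  have h10 := lev10 hT Γ hΓ
  have e : (2510411418381323442585600 : ℕ) = 306936 * 31671 * 3510 * 693 * 180 * 48 * 96 * 8 * 4 * 2 * 2 := by norm_num
  rw [e]
  calc 306936 * 31671 * 3510 * 693 * 180 * 48 * 96 * 8 * 4 * 2 * 2 * Nat.card (pstab Γ (toFin tbl.n [45, 21, 5, 11, 1, 116, 510, 113, 24, 6, 0]))
      _ ≤ 306936 * 31671 * 3510 * 693 * 180 * 48 * 96 * 8 * 4 * 2 * Nat.card (pstab Γ (toFin tbl.n [21, 5, 11, 1, 116, 510, 113, 24, 6, 0])) := by
        have := Nat.mul_le_mul_left (306936 * 31671 * 3510 * 693 * 180 * 48 * 96 * 8 * 4 * 2) h10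
        calc _ = (306936 * 31671 * 3510 * 693 * 180 * 48 * 96 * 8 * 4 * 2) * (2 * Nat.card (pstab Γ (toFin tbl.n [45, 21, 5, 11, 1, 116, 510, 113, 24, 6, 0]))) := by ring
          _ ≤ _ := this
      _ ≤ 306936 * 31671 * 3510 * 693 * 180 * 48 * 96 * 8 * 4 * Nat.card (pstab Γ (toFin tbl.n [5, 11, 1, 116, 510, 113, 24, 6, 0])) := by
        have := Nat.mul_le_mul_left (306936 * 31671 * 3510 * 693 * 180 * 48 * 96 * 8 * 4) h9
        calc _ = (306936 * 31671 * 3510 * 693 * 180 * 48 * 96 * 8 * 4) * (2 * Nat.card (pstab Γ (toFin tbl.n [21, 5, 11, 1, 116, 510, 113, 24, 6, 0]))) := by ring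
          _ ≤ _ := this
      _ ≤ 306936 * 31671 * 3510 * 693 * 180 * 48 * 96 * 8 * Nat.card (pstab Γ (toFin tbl.n [11, 1, 116, 510, 113, 24, 6, 0])) := by
        have := Nat.mul_le_mul_left (306936 * 31671 * 3510 * 693 * 180 * 48 * 96 * 8) h8
        calc _ = (306936 * 31671 * 3510 * 693 * 180 * 48 * 96 * 8) * (4 * Nat.card (pstab Γ (toFin tbl.n [5, 11, 1, 116, 510, 113, 24, 6, 0]))) := by ring
          _ ≤ _ := this
      _ ≤ 306936 * 31671 * 3510 * 693 * 180 * 48 * 96 * Nat.card (pstab Γ (toFin tbl.n [1, 116, 510, 113, 24, 6, 0])) := by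
        have := Nat.mul_le_mul_left (306936 * 31671 * 3510 * 693 * 180 * 48 * 96) h7
        calc _ = (306936 * 31671 * 3510 * 693 * 180 * 48 * 96) * (8 * Nat.card (pstab Γ (toFin tbl.n [11, 1, 116, 510, 113, 24, 6, 0]))) := by ring
          _ ≤ _ := this
      _ ≤ 306936 * 31671 * 3510 * 693 * 180 * 48 * Nat.card (pstab Γ (toFin tbl.n [116, 510, 113, 24, 6, 0])) := by
        have := Nat.mul_le_mul_left (306936 * 31671 * 3510 * 693 * 180 * 48) h6
        calc _ = (306936 * 31671 * 3510 * 693 * 180 * 48) * (96 * Nat.card (pstab Γ (toFin tbl.n [1, 116, 510, 113, 24, 6, 0]))) := by ring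
          _ ≤ _ := this
      _ ≤ 306936 * 31671 * 3510 * 693 * 180 * Nat.card (pstab Γ (toFin tbl.n [510, 113, 24, 6, 0])) := by
        have := Nat.mul_le_mul_left (306936 * 31671 * 3510 * 693 * 180) h5
        calc _ = (306936 * 31671 * 3510 * 693 * 180) * (48 * Nat.card (pstab Γ (toFin tbl.n [116, 510, 113, 24, 6, 0]))) := by ring
          _ ≤ _ := this
      _ ≤ 306936 * 31671 * 3510 * 693 * Nat.card (pstab Γ (toFin tbl.n [113, 24, 6, 0])) := by
        have := Nat.mul_le_mul_left (306936 * 31671 * 3510 * 693) h4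
        calc _ = (306936 * 31671 * 3510 * 693) * (180 * Nat.card (pstab Γ (toFin tbl.n [510, 113, 24, 6, 0]))) := by ring
          _ ≤ _ := this
      _ ≤ 306936 * 31671 * 3510 * Nat.card (pstab Γ (toFin tbl.n [24, 6, 0])) := by
        have := Nat.mul_le_mul_left (306936 * 31671 * 3510) h3
        calc _ = (306936 * 31671 * 3510) * (693 * Nat.card (pstab Γ (toFin tbl.n [113, 24, 6, 0]))) := by ring
          _ ≤ _ := this
      _ ≤ 306936 * 31671 * Nat.card (pstab Γ (toFin tbl.n [6, 0])) := by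
        have := Nat.mul_le_mul_left (306936 * 31671) h2
        calc _ = (306936 * 31671) * (3510 * Nat.card (pstab Γ (toFin tbl.n [24, 6, 0]))) := by ring
          _ ≤ _ := this
      _ ≤ 306936 * Nat.card (pstab Γ (toFin tbl.n [0])) := by
        have := Nat.mul_le_mul_left (306936) h1
        calc _ = (306936) * (31671 * Nat.card (pstab Γ (toFin tbl.n [6, 0]))) := by ring
          _ ≤ _ := this
      _ ≤ Nat.card (pstab Γ (toFin tbl.n [])) := h0

include hΓ in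
/-- the order of a group containing the letters of the coset table -/
theorem card_base : 2510411418381323442585600 ≤ Nat.card Γ := by
  have h := chain hT Γ hΓ
  have h1 : 1 ≤ Nat.card (pstab Γ (toFin tbl.n [45, 21, 5, 11, 1, 116, 510, 113, 24, 6, 0])) := one_le_card _ _
  have h2 : Nat.card (pstab Γ (toFin tbl.n [])) = Nat.card Γ := rfl
  calc 2510411418381323442585600 = 2510411418381323442585600 * 1 := by norm_num
    _ ≤ 2510411418381323442585600 * Nat.card (pstab Γ (toFin tbl.n [45, 21, 5, 11, 1, 116, 510, 113, 24, 6, 0])) := Nat.mul_le_mul_left _ h1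
    _ ≤ _ := h
    _ = _ := h2

end

/-- the base -/
def base : List ℕ := [45, 21, 5, 11, 1, 116, 510, 113, 24, 6, 0]

end Cfsg.Agent.Lib.Helper28.TCFi24BWMain
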