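import Cfsg.Agent.Lib.Helper28.TCFi24Orb
import Cfsg.Agent.Lib.Helper28.TCFi24OrbChk1
set_option autoImplicit false
set_option maxRecDepth 100000
set_option maxHeartbeats 0

namespace Cfsg.Agent.Lib.Helper28.TCFi24OrbChk4
open Cfsg.Agent.Lib.Helper28.TC2Upper Cfsg.Agent.Lib.Helper28.TC2Lower Cfsg.Agent.Lib.Helper28.TC2Orbit Cfsg.Agent.Lib.Helper28.TCFi24Table Cfsg.Agent.Lib.Helper28.TCFi24Orb

theorem clo20 : orbData.closedOK table subPaths 208320 10416 = true := by decide +kernel
theorem clo21 : orbData.closedOK table subPaths 218736 10416 = true := by decide +kernel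
theorem clo22 : orbData.closedOK table subPaths 229152 10416 = true := by decide +kernel
theorem clo23 : orbData.closedOK table subPaths 239568 10416 = true := by decide +kernel
theorem clo24 : orbData.closedOK table subPaths 249984 10416 = true := by decide +kernel

end Cfsg.Agent.Lib.Helper28.TCFi24OrbChk4
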