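import Cfsg.Agent.Lib.Helper28.TCFi24Orb
import Cfsg.Agent.Lib.Helper28.TCFi24OrbChk2
set_option autoImplicit false
set_option maxRecDepth 100000
set_option maxHeartbeats 0

namespace Cfsg.Agent.Lib.Helper28.TCFi24OrbChk5
open Cfsg.Agent.Lib.Helper28.TC2Upper Cfsg.Agent.Lib.Helper28.TC2Lower Cfsg.Agent.Lib.Helper28.TC2Orbit Cfsg.Agent.Lib.Helper28.TCFi24Table Cfsg.Agent.Lib.Helper28.TCFi24Orb

theorem clo25 : orbData.closedOK table subPaths 260400 10416 = true := by decide +kernel
theorem clo26 : orbData.closedOK table subPaths 270816 10416 = true := by decide +kernel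
theorem clo27 : orbData.closedOK table subPaths 281232 10416 = true := by decide +kernel
theorem clo28 : orbData.closedOK table subPaths 291648 10416 = true := by decide +kernel
theorem clo29 : orbData.closedOK table subPaths 302064 4872 = true := by decide +kernel

end Cfsg.Agent.Lib.Helper28.TCFi24OrbChk5
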