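import Cfsg.Agent.Lib.Helper28.TCFi24Orb
import Cfsg.Agent.Lib.Helper28.TCFi24OrbChk3
set_option autoImplicit false
set_option maxRecDepth 100000
set_option maxHeartbeats 0

namespace Cfsg.Agent.Lib.Helper28.TCFi24OrbChk6
open Cfsg.Agent.Lib.Helper28.TC2Upper Cfsg.Agent.Lib.Helper28.TC2Lower Cfsg.Agent.Lib.Helper28.TC2Orbit Cfsg.Agent.Lib.Helper28.TCFi24Table Cfsg.Agent.Lib.Helper28.TCFi24Orb

theorem conn0 : orbData.connOK table 0 31250 = true := by decide +kernel
theorem conn1 : orbData.connOK table 31250 31250 = true := by decide +kernel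
theorem conn2 : orbData.connOK table 62500 31250 = true := by decide +kernel
theorem conn3 : orbData.connOK table 93750 31250 = true := by decide +kernel
theorem conn4 : orbData.connOK table 125000 31250 = true := by decide +kernel

end Cfsg.Agent.Lib.Helper28.TCFi24OrbChk6
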