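import Cfsg.Agent.Lib.Helper28.TCFi24Orb
import Cfsg.Agent.Lib.Helper28.TCFi24OrbChk4
set_option autoImplicit false
set_option maxRecDepth 100000
set_option maxHeartbeats 0

namespace Cfsg.Agent.Lib.Helper28.TCFi24OrbChk7
open Cfsg.Agent.Lib.Helper28.TC2Upper Cfsg.Agent.Lib.Helper28.TC2Lower Cfsg.Agent.Lib.Helper28.TC2Orbit Cfsg.Agent.Lib.Helper28.TCFi24Table Cfsg.Agent.Lib.Helper28.TCFi24Orb

theorem conn5 : orbData.connOK table 156250 31250 = true := by decide +kernel
theorem conn6 : orbData.connOK table 187500 31250 = true := by decide +kernel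
theorem conn7 : orbData.connOK table 218750 31250 = true := by decide +kernel
theorem conn8 : orbData.connOK table 250000 31250 = true := by decide +kernel
theorem conn9 : orbData.connOK table 281250 25686 = true := by decide +kernel

end Cfsg.Agent.Lib.Helper28.TCFi24OrbChk7
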