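import Cfsg.Agent.S1690
import Cfsg.Agent.Lib.Helper28.TC2GlueOrb
import Cfsg.Agent.Lib.Helper28.TCFi24OrbChk0
import Cfsg.Agent.Lib.Helper28.TCFi24OrbChk1
import Cfsg.Agent.Lib.Helper28.TCFi24OrbChk2
import Cfsg.Agent.Lib.Helper28.TCFi24OrbChk3
import Cfsg.Agent.Lib.Helper28.TCFi24OrbChk4
import Cfsg.Agent.Lib.Helper28.TCFi24OrbChk5
import Cfsg.Agent.Lib.Helper28.TCFi24OrbChk6
import Cfsg.Agent.Lib.Helper28.TCFi24OrbChk7
import Cfsg.Agent.Lib.Helper28.TCFi24OrbChk8

set_option autoImplicit false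
set_option maxRecDepth 100000

namespace Cfsg.Agent.Lib.Helper28.TCFi24Main
open Cfsg.Agent.Lib.Helper28.TC2Upper Cfsg.Agent.Lib.Helper28.TC2Lower Cfsg.Agent.Lib.Helper28.TC2Glue Cfsg.Agent.Lib.Helper28.TC2GlueOrb Cfsg.Agent.Lib.Helper28.TC2Orbit
open Cfsg.Agent.Lib.Helper28.TCFi24Data Cfsg.Agent.Lib.Helper28.TCFi24Table Cfsg.Agent.Lib.Helper28.TCFi24Link Cfsg.Agent.Lib.Helper28.TCFi24M Cfsg.Agent.Lib.Helper28.TCFi24Orb

theorem hT : table.OK := Cfsg.Agent.S1690.hT

theorem hn : 0 < table.n := by decide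

theorem main : ((Subgroup.closure S).map (PresentedGroup.mk rels)).index = table.n ∧
    ∃ φ : PresentedGroup rels →* Equiv.Perm (Fin table.n),
      (∀ x, φ (PresentedGroup.of x) = Table.sigma hT (lw (x, true))) ∧
      ∃ f : PresentedGroup rels ⧸ (Subgroup.closure S).map (PresentedGroup.mk rels) → Fin table.n,
        Function.Bijective f ∧ (∀ g q, f (g • q) = φ g (f q)) ∧ f (QuotientGroup.mk 1) = ⟨0, hn⟩ :=
  index_eq link Cfsg.Agent.S1690.hchk Cfsg.Agent.S1690.hfin Cfsg.Agent.S1690.hcount hT hn Cfsg.Agent.S1690.hrelT Cfsg.Agent.S1690.hsubT Cfsg.Agent.S1690.htree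

theorem hclosed : ∀ p, p < table.n → ∀ s ∈ subPaths, orbData.oid (table.walkT s p) = orbData.oid p := by
  intro p hp
  have hp' : p < 306936 := hp
  rcases Nat.lt_or_ge p 10416 with h0 | h0
  · exact (orbData.closedOK_iff table subPaths 0 10416).mp Cfsg.Agent.Lib.Helper28.TCFi24OrbChk0.clo0 p (by omega) (by omega)
  rcases Nat.lt_or_ge p 20832 with h1 | h1
  · exact (orbData.closedOK_iff table subPaths 10416 10416).mp Cfsg.Agent.Lib.Helper28.TCFi24OrbChk0.clo1 p (by omega) (by omega)
  rcases Nat.lt_or_ge p 31248 with h2 | h2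
  · exact (orbData.closedOK_iff table subPaths 20832 10416).mp Cfsg.Agent.Lib.Helper28.TCFi24OrbChk0.clo2 p (by omega) (by omega)
  rcases Nat.lt_or_ge p 41664 with h3 | h3
  · exact (orbData.closedOK_iff table subPaths 31248 10416).mp Cfsg.Agent.Lib.Helper28.TCFi24OrbChk0.clo3 p (by omega) (by omega)
  rcases Nat.lt_or_ge p 52080 with h4 | h4
  · exact (orbData.closedOK_iff table subPaths 41664 10416).mp Cfsg.Agent.Lib.Helper28.TCFi24OrbChk0.clo4 p (by omega) (by omega)
  rcases Nat.lt_or_ge p 62496 with h5 | h5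
  · exact (orbData.closedOK_iff table subPaths 52080 10416).mp Cfsg.Agent.Lib.Helper28.TCFi24OrbChk1.clo5 p (by omega) (by omega)
  rcases Nat.lt_or_ge p 72912 with h6 | h6
  · exact (orbData.closedOK_iff table subPaths 62496 10416).mp Cfsg.Agent.Lib.Helper28.TCFi24OrbChk1.clo6 p (by omega) (by omega)
  rcases Nat.lt_or_ge p 83328 with h7 | h7
  · exact (orbData.closedOK_iff table subPaths 72912 10416).mp Cfsg.Agent.Lib.Helper28.TCFi24OrbChk1.clo7 p (by omega) (by omega)
  rcases Nat.lt_or_ge p 93744 with h8 | h8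
  · exact (orbData.closedOK_iff table subPaths 83328 10416).mp Cfsg.Agent.Lib.Helper28.TCFi24OrbChk1.clo8 p (by omega) (by omega)
  rcases Nat.lt_or_ge p 104160 with h9 | h9
  · exact (orbData.closedOK_iff table subPaths 93744 10416).mp Cfsg.Agent.Lib.Helper28.TCFi24OrbChk1.clo9 p (by omega) (by omega)
  rcases Nat.lt_or_ge p 114576 with h10 | h10
  · exact (orbData.closedOK_iff table subPaths 104160 10416).mp Cfsg.Agent.Lib.Helper28.TCFi24OrbChk2.clo10 p (by omega) (by omega)
  rcases Nat.lt_or_ge p 124992 with h11 | h11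
  · exact (orbData.closedOK_iff table subPaths 114576 10416).mp Cfsg.Agent.Lib.Helper28.TCFi24OrbChk2.clo11 p (by omega) (by omega)
  rcases Nat.lt_or_ge p 135408 with h12 | h12
  · exact (orbData.closedOK_iff table subPaths 124992 10416).mp Cfsg.Agent.Lib.Helper28.TCFi24OrbChk2.clo12 p (by omega) (by omega)
  rcases Nat.lt_or_ge p 145824 with h13 | h13
  · exact (orbData.closedOK_iff table subPaths 135408 10416).mp Cfsg.Agent.Lib.Helper28.TCFi24OrbChk2.clo13 p (by omega) (by omega)
  rcases Nat.lt_or_ge p 156240 with h14 | h14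
  · exact (orbData.closedOK_iff table subPaths 145824 10416).mp Cfsg.Agent.Lib.Helper28.TCFi24OrbChk2.clo14 p (by omega) (by omega)
  rcases Nat.lt_or_ge p 166656 with h15 | h15
  · exact (orbData.closedOK_iff table subPaths 156240 10416).mp Cfsg.Agent.Lib.Helper28.TCFi24OrbChk3.clo15 p (by omega) (by omega)
  rcases Nat.lt_or_ge p 177072 with h16 | h16
  · exact (orbData.closedOK_iff table subPaths 166656 10416).mp Cfsg.Agent.Lib.Helper28.TCFi24OrbChk3.clo16 p (by omega) (by omega)
  rcases Nat.lt_or_ge p 187488 with h17 | h17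
  · exact (orbData.closedOK_iff table subPaths 177072 10416).mp Cfsg.Agent.Lib.Helper28.TCFi24OrbChk3.clo17 p (by omega) (by omega)
  rcases Nat.lt_or_ge p 197904 with h18 | h18
  · exact (orbData.closedOK_iff table subPaths 187488 10416).mp Cfsg.Agent.Lib.Helper28.TCFi24OrbChk3.clo18 p (by omega) (by omega)
  rcases Nat.lt_or_ge p 208320 with h19 | h19
  · exact (orbData.closedOK_iff table subPaths 197904 10416).mp Cfsg.Agent.Lib.Helper28.TCFi24OrbChk3.clo19 p (by omega) (by omega)
  rcases Nat.lt_or_ge p 218736 with h20 | h20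
  · exact (orbData.closedOK_iff table subPaths 208320 10416).mp Cfsg.Agent.Lib.Helper28.TCFi24OrbChk4.clo20 p (by omega) (by omega)
  rcases Nat.lt_or_ge p 229152 with h21 | h21
  · exact (orbData.closedOK_iff table subPaths 218736 10416).mp Cfsg.Agent.Lib.Helper28.TCFi24OrbChk4.clo21 p (by omega) (by omega)
  rcases Nat.lt_or_ge p 239568 with h22 | h22
  · exact (orbData.closedOK_iff table subPaths 229152 10416).mp Cfsg.Agent.Lib.Helper28.TCFi24OrbChk4.clo22 p (by omega) (by omega)
  rcases Nat.lt_or_ge p 249984 with h23 | h23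
  · exact (orbData.closedOK_iff table subPaths 239568 10416).mp Cfsg.Agent.Lib.Helper28.TCFi24OrbChk4.clo23 p (by omega) (by omega)
  rcases Nat.lt_or_ge p 260400 with h24 | h24
  · exact (orbData.closedOK_iff table subPaths 249984 10416).mp Cfsg.Agent.Lib.Helper28.TCFi24OrbChk4.clo24 p (by omega) (by omega)
  rcases Nat.lt_or_ge p 270816 with h25 | h25
  · exact (orbData.closedOK_iff table subPaths 260400 10416).mp Cfsg.Agent.Lib.Helper28.TCFi24OrbChk5.clo25 p (by omega) (by omega)
  rcases Nat.lt_or_ge p 281232 with h26 | h26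
  · exact (orbData.closedOK_iff table subPaths 270816 10416).mp Cfsg.Agent.Lib.Helper28.TCFi24OrbChk5.clo26 p (by omega) (by omega)
  rcases Nat.lt_or_ge p 291648 with h27 | h27
  · exact (orbData.closedOK_iff table subPaths 281232 10416).mp Cfsg.Agent.Lib.Helper28.TCFi24OrbChk5.clo27 p (by omega) (by omega)
  rcases Nat.lt_or_ge p 302064 with h28 | h28
  · exact (orbData.closedOK_iff table subPaths 291648 10416).mp Cfsg.Agent.Lib.Helper28.TCFi24OrbChk5.clo28 p (by omega) (by omega)
  exact (orbData.closedOK_iff table subPaths 302064 4872).mp Cfsg.Agent.Lib.Helper28.TCFi24OrbChk5.clo29 p (by omega) (by omega)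

theorem hconn : ∀ p, p < table.n →
    (orbData.depth p = 0 ∧ orbData.roots.look (orbData.oid p) = p) ∨
    (orbData.depth p ≠ 0 ∧ orbData.parent p < table.n ∧ orbData.oid (orbData.parent p) = orbData.oid p ∧
      orbData.depth (orbData.parent p) + 1 = orbData.depth p ∧
      table.walkT (orbData.gens.look (orbData.gen p)) (orbData.parent p) = p) := by
  intro p hp
  have hp' : p < 306936 := hp
  rcases Nat.lt_or_ge p 31250 with h0 | h0
  · exact (orbData.connOK_iff table 0 31250).mp Cfsg.Agent.Lib.Helper28.TCFi24OrbChk6.conn0 p (by omega) (by omega)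
  rcases Nat.lt_or_ge p 62500 with h1 | h1
  · exact (orbData.connOK_iff table 31250 31250).mp Cfsg.Agent.Lib.Helper28.TCFi24OrbChk6.conn1 p (by omega) (by omega)
  rcases Nat.lt_or_ge p 93750 with h2 | h2
  · exact (orbData.connOK_iff table 62500 31250).mp Cfsg.Agent.Lib.Helper28.TCFi24OrbChk6.conn2 p (by omega) (by omega)
  rcases Nat.lt_or_ge p 125000 with h3 | h3
  · exact (orbData.connOK_iff table 93750 31250).mp Cfsg.Agent.Lib.Helper28.TCFi24OrbChk6.conn3 p (by omega) (by omega)
  rcases Nat.lt_or_ge p 156250 with h4 | h4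
  · exact (orbData.connOK_iff table 125000 31250).mp Cfsg.Agent.Lib.Helper28.TCFi24OrbChk6.conn4 p (by omega) (by omega)
  rcases Nat.lt_or_ge p 187500 with h5 | h5
  · exact (orbData.connOK_iff table 156250 31250).mp Cfsg.Agent.Lib.Helper28.TCFi24OrbChk7.conn5 p (by omega) (by omega)
  rcases Nat.lt_or_ge p 218750 with h6 | h6
  · exact (orbData.connOK_iff table 187500 31250).mp Cfsg.Agent.Lib.Helper28.TCFi24OrbChk7.conn6 p (by omega) (by omega)
  rcases Nat.lt_or_ge p 250000 with h7 | h7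
  · exact (orbData.connOK_iff table 218750 31250).mp Cfsg.Agent.Lib.Helper28.TCFi24OrbChk7.conn7 p (by omega) (by omega)
  rcases Nat.lt_or_ge p 281250 with h8 | h8
  · exact (orbData.connOK_iff table 250000 31250).mp Cfsg.Agent.Lib.Helper28.TCFi24OrbChk7.conn8 p (by omega) (by omega)
  exact (orbData.connOK_iff table 281250 25686).mp Cfsg.Agent.Lib.Helper28.TCFi24OrbChk7.conn9 p (by omega) (by omega)

theorem hgens : BT.all (fun s => decide (s ∈ subPaths)) orbData.gens = true := Cfsg.Agent.Lib.Helper28.TCFi24OrbChk8.hgens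
theorem cntc0 : orbData.count table.n 0 = 1 := Cfsg.Agent.Lib.Helper28.TCFi24OrbChk8.cntc0

end Cfsg.Agent.Lib.Helper28.TCFi24Main
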