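import Cfsg.Agent.Lib.Helper28.TC2Simple
import Cfsg.Agent.Lib.Helper28.TCFi24Main
set_option autoImplicit false
set_option maxRecDepth 100000
set_option maxHeartbeats 0

namespace Cfsg.Agent.Lib.Helper28.TCFi24FinalChk
open Cfsg.Agent.Lib.Helper28.TC2Upper Cfsg.Agent.Lib.Helper28.TC2Lower Cfsg.Agent.Lib.Helper28.TC2Orbit Cfsg.Agent.Lib.Helper28.TC2Glue Cfsg.Agent.Lib.Helper28.TC2Simple Cfsg.Agent.Lib.Helper28.TCFi24Table Cfsg.Agent.Lib.Helper28.TCFi24Link Cfsg.Agent.Lib.Helper28.TCFi24Orb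

/-- the element of order 29 -/
def tWord : List (Cfsg.Spor.Fi24.Gen × Bool) := [(.g, true), (.i, true), (.a, true), (.k, true), (.g, true), (.l, true), (.b, true), (.g, true), (.h, true), (.c, true), (.a, true), (.b, true), (.j, true), (.k, true), (.e, true), (.f, true), (.c, true), (.l, true), (.d, true), (.e, true), (.f, true), (.g, true), (.j, true), (.k, true), (.e, true), (.c, true), (.h, true), (.d, true)]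
/-- the path of its power -/
def tPath : List ℕ := [5, 10, 4, 6, 1, 9, 8, 7, 6, 5, 0, 4, 7, 6, 1, 9, 3, 2, 4, 10, 8, 3, 0, 8, 1, 2, 11, 8, 5, 10, 4, 6, 1, 9, 8, 7, 6, 5, 0, 4, 7, 6, 1, 9, 3, 2, 4, 10, 8, 3, 0, 8, 1, 2, 11, 8, 5, 10, 4, 6, 1, 9, 8, 7, 6, 5, 0, 4, 7, 6, 1, 9, 3, 2, 4, 10, 8, 3, 0, 8, 1, 2, 11, 8, 5, 10, 4, 6, 1, 9, 8, 7, 6, 5, 0, 4, 7, 6, 1, 9, 3, 2, 4, 10, 8, 3, 0, 8, 1, 2, 11, 8, 5, 10, 4, 6, 1, 9, 8, 7, 6, 5, 0, 4, 7, 6, 1, 9, 3, 2, 4, 10, 8, 3, 0, 8, 1, 2, 11, 8, 5, 10, 4, 6, 1, 9, 8, 7, 6, 5, 0, 4, 7, 6, 1, 9, 3, 2, 4, 10, 8, 3, 0, 8, 1, 2, 11, 8, 5, 10, 4, 6, 1, 9, 8, 7, 6, 5, 0, 4, 7, 6, 1, 9, 3, 2, 4, 10, 8, 3, 0, 8, 1, 2, 11, 8, 5, 10, 4, 6, 1, 9, 8, 7, 6, 5, 0, 4, 7, 6, 1, 9, 3, 2, 4, 10, 8, 3, 0, 8, 1, 2, 11, 8, 5, 10, 4, 6, 1, 9, 8, 7,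 6, 5, 0, 4, 7, 6, 1, 9, 3, 2, 4, 10, 8, 3, 0, 8, 1, 2, 11, 8, 5, 10, 4, 6, 1, 9, 8, 7, 6, 5, 0, 4, 7, 6, 1, 9, 3, 2, 4, 10, 8, 3, 0, 8, 1, 2, 11, 8, 5, 10, 4, 6, 1, 9, 8, 7, 6, 5, 0, 4, 7, 6, 1, 9, 3, 2, 4, 10, 8, 3, 0, 8, 1, 2, 11, 8, 5, 10, 4, 6, 1, 9, 8, 7, 6, 5, 0, 4, 7, 6, 1, 9, 3, 2, 4, 10, 8, 3, 0, 8, 1, 2, 11, 8, 5, 10, 4, 6, 1, 9, 8, 7, 6, 5, 0, 4, 7, 6, 1, 9, 3, 2, 4, 10, 8, 3, 0, 8, 1, 2, 11, 8, 5, 10, 4, 6, 1, 9, 8, 7, 6, 5, 0, 4, 7, 6, 1, 9, 3, 2, 4, 10, 8, 3, 0, 8, 1, 2, 11, 8, 5, 10, 4, 6, 1, 9, 8, 7, 6, 5, 0, 4, 7, 6, 1, 9, 3, 2, 4, 10, 8, 3, 0, 8, 1, 2, 11, 8, 5, 10, 4, 6, 1, 9, 8, 7, 6, 5, 0, 4, 7, 6, 1, 9, 3, 2, 4, 10, 8, 3, 0, 8, 1, 2, 11, 8, 5, 10, 4, 6, 1, 9, 8, 7, 6, 5, 0, 4, 7, 6, 1, 9, 3, 2, 4, 10, 8, 3, 0, 8, 1, 2, 11, 8, 5, 10, 4, 6, 1,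 9, 8, 7, 6, 5, 0, 4, 7, 6, 1, 9, 3, 2, 4, 10, 8, 3, 0, 8, 1, 2, 11, 8, 5, 10, 4, 6, 1, 9, 8, 7, 6, 5, 0, 4, 7, 6, 1, 9, 3, 2, 4, 10, 8, 3, 0, 8, 1, 2, 11, 8, 5, 10, 4, 6, 1, 9, 8, 7, 6, 5, 0, 4, 7, 6, 1, 9, 3, 2, 4, 10, 8, 3, 0, 8, 1, 2, 11, 8, 5, 10, 4, 6, 1, 9, 8, 7, 6, 5, 0, 4, 7, 6, 1, 9, 3, 2, 4, 10, 8, 3, 0, 8, 1, 2, 11, 8, 5, 10, 4, 6, 1, 9, 8, 7, 6, 5, 0, 4, 7, 6, 1, 9, 3, 2, 4, 10, 8, 3, 0, 8, 1, 2, 11, 8, 5, 10, 4, 6, 1, 9, 8, 7, 6, 5, 0, 4, 7, 6, 1, 9, 3, 2, 4, 10, 8, 3, 0, 8, 1, 2, 11, 8, 5, 10, 4, 6, 1, 9, 8, 7, 6, 5, 0, 4, 7, 6, 1, 9, 3, 2, 4, 10, 8, 3, 0, 8, 1, 2, 11, 8, 5, 10, 4, 6, 1, 9, 8, 7, 6, 5, 0, 4, 7, 6, 1, 9, 3, 2, 4, 10, 8, 3, 0, 8, 1, 2, 11, 8, 5, 10, 4, 6, 1, 9, 8, 7, 6, 5, 0, 4, 7, 6, 1, 9, 3, 2, 4, 10, 8, 3, 0, 8, 1, 2, 11, 8, 5, 10,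 4, 6, 1, 9, 8, 7, 6, 5, 0, 4, 7, 6, 1, 9, 3, 2, 4, 10, 8, 3, 0, 8, 1, 2, 11, 8, 5, 10, 4, 6, 1, 9, 8, 7, 6, 5, 0, 4, 7, 6, 1, 9, 3, 2, 4, 10, 8, 3, 0, 8, 1, 2, 11, 8, 5, 10, 4, 6, 1, 9, 8, 7, 6, 5, 0, 4, 7, 6, 1, 9, 3, 2, 4, 10, 8, 3, 0, 8, 1, 2, 11, 8]
theorem tPath_eq : pathOf lw (List.replicate 29 tWord).flatten = tPath := by decide +kernel
/-- the base of the stabiliser chain -/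
def base : List ℕ := [45, 21, 5, 11, 1, 116, 510, 113, 24, 6, 0]
theorem tfix : ∀ b ∈ base, table.walkT tPath b = b := by decide +kernel
/-- a coset of the second class -/
def yWord : List (Cfsg.Spor.Fi24.Gen × Bool) := [(.k, true), (.a, true), (.l, true), (.k, true)]
/-- an element of the subgroup -/
def hWord : List (Cfsg.Spor.Fi24.Gen × Bool) := [(.b, true)]
theorem hg0 : orbData.oid (table.walkT (pathOf lw [(.k, true)]) 0) = 1 := by decide +kernel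
theorem hy : orbData.oid (table.walkT (pathOf lw yWord) 0) = 2 := by decide +kernel
theorem hz : orbData.oid (table.walkT (pathOf lw (yWord ++ hWord ++ yWord)) 0) = 1 := by decide +kernel
theorem h00 : orbData.oid 0 = 0 := by decide +kernel
theorem cl0 : clsOK orbData 3 0 250000 = true := by decide +kernel
theorem cl1 : clsOK orbData 3 250000 56936 = true := by decide +kernel

theorem hclsAll : ∀ p, p < table.n → orbData.oid p < 3 := by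
  intro p hp
  have hp' : p < 306936 := hp
  rcases Nat.lt_or_ge p 250000 with h0 | h0
  · exact (clsOK_iff orbData 3 0 250000).mp cl0 p (by omega) (by omega)
  exact (clsOK_iff orbData 3 250000 56936).mp cl1 p (by omega) (by omega)

end Cfsg.Agent.Lib.Helper28.TCFi24FinalChk
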