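import Cfsg.Agent.Lib.Helper28.TC2Upper
import Cfsg.Agent.Lib.Helper28.TCFi24WCDataC0
set_option autoImplicit false
set_option maxRecDepth 100000

namespace Cfsg.Agent.Lib.Helper28.TCFi24WCData
open Cfsg.Agent.Lib.Helper28.TC2Upper

/-- relators -/
def relT : BT (ℕ × List ℕ × List ℕ) := (BT.node 73 (BT.node 36 (BT.node 18 (BT.node 9 (BT.node 4 (BT.node 2 (BT.node 1 (BT.node 0 (BT.leaf (2, [0, 0], [0, 0])) (BT.leaf (6, [1, 0, 1, 0, 1, 0], [0, 1, 0, 1, 0, 1]))) (BT.leaf (4, [2, 0, 2, 0], [0, 2, 0, 2]))) (BT.node 3 (BT.leaf (4, [3, 0, 3, 0], [0, 3, 0, 3])) (BT.leaf (4, [4, 0, 4, 0], [0, 4, 0, 4])))) (BT.node 7 (BT.node 6 (BT.node 5 (BT.leaf (4, [5, 0, 5, 0], [0, 5, 0, 5])) (BT.leaf (4, [6, 0, 6, 0], [0, 6, 0, 6]))) (BT.leaf (4, [7, 0, 7, 0], [0, 7, 0, 7]))) (BT.node 8 (BT.leaf (4, [8, 0, 8, 0], [0, 8, 0,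 8])) (BT.leaf (4, [10, 0, 10, 0], [0, 10, 0, 10]))))) (BT.node 14 (BT.node 12 (BT.node 11 (BT.node 10 (BT.leaf (4, [9, 0, 9, 0], [0, 9, 0, 9])) (BT.leaf (4, [11, 0, 11, 0], [0, 11, 0, 11]))) (BT.leaf (6, [0, 1, 0, 1, 0, 1], [1, 0, 1, 0, 1, 0]))) (BT.node 13 (BT.leaf (2, [1, 1], [1, 1])) (BT.leaf (6, [2, 1, 2, 1, 2, 1], [1, 2, 1, 2, 1, 2])))) (BT.node 16 (BT.node 15 (BT.leaf (4, [3, 1, 3, 1], [1, 3, 1, 3])) (BT.leaf (4, [4, 1, 4, 1], [1, 4, 1, 4]))) (BT.node 17 (BT.leaf (4, [5, 1, 5, 1], [1, 5, 1, 5])) (BT.leaf (4, [6, 1, 6, 1], [1, 6, 1, 6])))))) (BT.node 27 (BT.node 23 (BT.node 21 (BT.node 20 (BT.node 19 (BT.leaf (4, [7, 1, 7, 1], [1, 7, 1, 7])) (BT.leaf (4, [8, 1, 8, 1], [1, 8, 1, 8]))) (BT.leaf (4, [10, 1, 10, 1], [1, 10, 1, 10]))) (BT.node 22 (BT.leaf (4, [9, 1, 9, 1], [1, 9, 1, 9])) (BT.leaf (4,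 [11, 1, 11, 1], [1, 11, 1, 11])))) (BT.node 25 (BT.node 24 (BT.leaf (4, [0, 2, 0, 2], [2, 0, 2, 0])) (BT.leaf (6, [1, 2, 1, 2, 1, 2], [2, 1, 2, 1, 2, 1]))) (BT.node 26 (BT.leaf (2, [2, 2], [2, 2])) (BT.leaf (6, [3, 2, 3, 2, 3, 2], [2, 3, 2, 3, 2, 3]))))) (BT.node 32 (BT.node 30 (BT.node 29 (BT.node 28 (BT.leaf (4, [4, 2, 4, 2], [2, 4, 2, 4])) (BT.leaf (4, [5, 2, 5, 2], [2, 5, 2, 5]))) (BT.leaf (4, [6, 2, 6, 2], [2, 6, 2, 6]))) (BT.node 31 (BT.leaf (4, [7, 2, 7, 2], [2, 7, 2, 7])) (BT.leaf (4, [8, 2, 8, 2], [2, 8, 2, 8])))) (BT.node 34 (BT.node 33 (BT.leaf (4, [10, 2, 10, 2], [2, 10, 2, 10])) (BT.leaf (4, [9, 2, 9, 2], [2, 9, 2, 9]))) (BT.node 35 (BT.leaf (4, [11, 2, 11, 2], [2, 11, 2, 11])) (BT.leaf (4, [0, 3, 0, 3], [3, 0, 3, 0]))))))) (BT.node 55 (BT.node 46 (BT.node 41 (BT.node 39 (BT.node 38 (BT.node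 37 (BT.leaf (4, [1, 3, 1, 3], [3, 1, 3, 1])) (BT.leaf (6, [2, 3, 2, 3, 2, 3], [3, 2, 3, 2, 3, 2]))) (BT.leaf (2, [3, 3], [3, 3]))) (BT.node 40 (BT.leaf (6, [4, 3, 4, 3, 4, 3], [3, 4, 3, 4, 3, 4])) (BT.leaf (4, [5, 3, 5, 3], [3, 5, 3, 5])))) (BT.node 44 (BT.node 43 (BT.node 42 (BT.leaf (4, [6, 3, 6, 3], [3, 6, 3, 6])) (BT.leaf (4, [7, 3, 7, 3], [3, 7, 3, 7]))) (BT.leaf (4, [8, 3, 8, 3], [3, 8, 3, 8]))) (BT.node 45 (BT.leaf (4, [10, 3, 10, 3], [3, 10, 3, 10])) (BT.leaf (4, [9, 3, 9, 3], [3, 9, 3, 9]))))) (BT.node 51 (BT.node 49 (BT.node 48 (BT.node 47 (BT.leaf (4, [11, 3, 11, 3], [3, 11, 3, 11])) (BT.leaf (4, [0, 4, 0, 4], [4, 0, 4, 0]))) (BT.leaf (4, [1, 4, 1, 4], [4, 1, 4, 1]))) (BT.node 50 (BT.leaf (4, [2, 4, 2, 4], [4, 2, 4, 2])) (BT.leaf (6, [3, 4, 3, 4, 3, 4], [4, 3, 4, 3, 4, 3])))) (BT.node 53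 (BT.node 52 (BT.leaf (2, [4, 4], [4, 4])) (BT.leaf (6, [5, 4, 5, 4, 5, 4], [4, 5, 4, 5, 4, 5]))) (BT.node 54 (BT.leaf (4, [6, 4, 6, 4], [4, 6, 4, 6])) (BT.leaf (4, [7, 4, 7, 4], [4, 7, 4, 7])))))) (BT.node 64 (BT.node 60 (BT.node 58 (BT.node 57 (BT.node 56 (BT.leaf (4, [8, 4, 8, 4], [4, 8, 4, 8])) (BT.leaf (4, [10, 4, 10, 4], [4, 10, 4, 10]))) (BT.leaf (4, [9, 4, 9, 4], [4, 9, 4, 9]))) (BT.node 59 (BT.leaf (4, [11, 4, 11, 4], [4, 11, 4, 11])) (BT.leaf (4, [0, 5, 0, 5], [5, 0, 5, 0])))) (BT.node 62 (BT.node 61 (BT.leaf (4, [1, 5, 1, 5], [5, 1, 5, 1])) (BT.leaf (4, [2, 5, 2, 5], [5, 2, 5, 2]))) (BT.node 63 (BT.leaf (4, [3, 5, 3, 5], [5, 3, 5, 3])) (BT.leaf (6, [4, 5, 4, 5, 4, 5], [5, 4, 5, 4, 5, 4]))))) (BT.node 69 (BT.node 67 (BT.node 66 (BT.node 65 (BT.leaf (2, [5, 5], [5, 5])) (BT.leaf (6, [6, 5, 6,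 5, 6, 5], [5, 6, 5, 6, 5, 6]))) (BT.leaf (4, [7, 5, 7, 5], [5, 7, 5, 7]))) (BT.node 68 (BT.leaf (4, [8, 5, 8, 5], [5, 8, 5, 8])) (BT.leaf (6, [10, 5, 10, 5, 10, 5], [5, 10, 5, 10, 5, 10])))) (BT.node 71 (BT.node 70 (BT.leaf (4, [9, 5, 9, 5], [5, 9, 5, 9])) (BT.leaf (4, [11, 5, 11, 5], [5, 11, 5, 11]))) (BT.node 72 (BT.leaf (4, [0, 6, 0, 6], [6, 0, 6, 0])) (BT.leaf (4, [1, 6, 1, 6], [6, 1, 6, 1])))))))) (BT.node 110 (BT.node 92 (BT.node 83 (BT.node 78 (BT.node 76 (BT.node 75 (BT.node 74 (BT.leaf (4, [2, 6, 2, 6], [6, 2, 6, 2])) (BT.leaf (4, [3, 6, 3, 6], [6, 3, 6, 3]))) (BT.leaf (4, [4, 6, 4, 6], [6, 4, 6, 4]))) (BT.node 77 (BT.leaf (6, [5, 6, 5, 6, 5, 6], [6, 5, 6, 5, 6, 5])) (BT.leaf (2, [6, 6], [6, 6])))) (BT.node 81 (BT.node 80 (BT.node 79 (BT.leaf (6, [7, 6, 7, 6, 7, 6], [6, 7, 6, 7, 6, 7])) (BT.leaf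 (4, [8, 6, 8, 6], [6, 8, 6, 8]))) (BT.leaf (4, [10, 6, 10, 6], [6, 10, 6, 10]))) (BT.node 82 (BT.leaf (4, [9, 6, 9, 6], [6, 9, 6, 9])) (BT.leaf (4, [11, 6, 11, 6], [6, 11, 6, 11]))))) (BT.node 88 (BT.node 86 (BT.node 85 (BT.node 84 (BT.leaf (4, [0, 7, 0, 7], [7, 0, 7, 0])) (BT.leaf (4, [1, 7, 1, 7], [7, 1, 7, 1]))) (BT.leaf (4, [2, 7, 2, 7], [7, 2, 7, 2]))) (BT.node 87 (BT.leaf (4, [3, 7, 3, 7], [7, 3, 7, 3])) (BT.leaf (4, [4, 7, 4, 7], [7, 4, 7, 4])))) (BT.node 90 (BT.node 89 (BT.leaf (4, [5, 7, 5, 7], [7, 5, 7, 5])) (BT.leaf (6, [6, 7, 6, 7, 6, 7], [7, 6, 7, 6, 7, 6]))) (BT.node 91 (BT.leaf (2, [7, 7], [7, 7])) (BT.leaf (6, [8, 7, 8, 7, 8, 7], [7, 8, 7, 8, 7, 8])))))) (BT.node 101 (BT.node 97 (BT.node 95 (BT.node 94 (BT.node 93 (BT.leaf (4, [10, 7, 10, 7], [7, 10, 7, 10])) (BT.leaf (4, [9, 7, 9, 7],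 [7, 9, 7, 9]))) (BT.leaf (4, [11, 7, 11, 7], [7, 11, 7, 11]))) (BT.node 96 (BT.leaf (4, [0, 8, 0, 8], [8, 0, 8, 0])) (BT.leaf (4, [1, 8, 1, 8], [8, 1, 8, 1])))) (BT.node 99 (BT.node 98 (BT.leaf (4, [2, 8, 2, 8], [8, 2, 8, 2])) (BT.leaf (4, [3, 8, 3, 8], [8, 3, 8, 3]))) (BT.node 100 (BT.leaf (4, [4, 8, 4, 8], [8, 4, 8, 4])) (BT.leaf (4, [5, 8, 5, 8], [8, 5, 8, 5]))))) (BT.node 106 (BT.node 104 (BT.node 103 (BT.node 102 (BT.leaf (4, [6, 8, 6, 8], [8, 6, 8, 6])) (BT.leaf (6, [7, 8, 7, 8, 7, 8], [8, 7, 8, 7, 8, 7]))) (BT.leaf (2, [8, 8], [8, 8]))) (BT.node 105 (BT.leaf (4, [10, 8, 10, 8], [8, 10, 8, 10])) (BT.leaf (6, [9, 8, 9, 8, 9, 8], [8, 9, 8, 9, 8, 9])))) (BT.node 108 (BT.node 107 (BT.leaf (4, [11, 8, 11, 8], [8, 11, 8, 11])) (BT.leaf (4, [0, 10, 0, 10], [10, 0, 10, 0]))) (BT.node 109 (BT.leaf (4,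 [1, 10, 1, 10], [10, 1, 10, 1])) (BT.leaf (4, [2, 10, 2, 10], [10, 2, 10, 2]))))))) (BT.node 128 (BT.node 119 (BT.node 115 (BT.node 113 (BT.node 112 (BT.node 111 (BT.leaf (4, [3, 10, 3, 10], [10, 3, 10, 3])) (BT.leaf (4, [4, 10, 4, 10], [10, 4, 10, 4]))) (BT.leaf (6, [5, 10, 5, 10, 5, 10], [10, 5, 10, 5, 10, 5]))) (BT.node 114 (BT.leaf (4, [6, 10, 6, 10], [10, 6, 10, 6])) (BT.leaf (4, [7, 10, 7, 10], [10, 7, 10, 7])))) (BT.node 117 (BT.node 116 (BT.leaf (4, [8, 10, 8, 10], [10, 8, 10, 8])) (BT.leaf (2, [10, 10], [10, 10]))) (BT.node 118 (BT.leaf (4, [9, 10, 9, 10], [10, 9, 10, 9])) (BT.leaf (6, [11, 10, 11, 10, 11, 10], [10, 11, 10, 11, 10, 11]))))) (BT.node 124 (BT.node 122 (BT.node 121 (BT.node 120 (BT.leaf (4, [0, 9, 0, 9], [9, 0, 9, 0])) (BT.leaf (4, [1, 9, 1, 9], [9, 1, 9, 1]))) (BT.leaf (4, [2,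 9, 2, 9], [9, 2, 9, 2]))) (BT.node 123 (BT.leaf (4, [3, 9, 3, 9], [9, 3, 9, 3])) (BT.leaf (4, [4, 9, 4, 9], [9, 4, 9, 4])))) (BT.node 126 (BT.node 125 (BT.leaf (4, [5, 9, 5, 9], [9, 5, 9, 5])) (BT.leaf (4, [6, 9, 6, 9], [9, 6, 9, 6]))) (BT.node 127 (BT.leaf (4, [7, 9, 7, 9], [9, 7, 9, 7])) (BT.leaf (6, [8, 9, 8, 9, 8, 9], [9, 8, 9, 8, 9, 8])))))) (BT.node 137 (BT.node 133 (BT.node 131 (BT.node 130 (BT.node 129 (BT.leaf (4, [10, 9, 10, 9], [9, 10, 9, 10])) (BT.leaf (2, [9, 9], [9, 9]))) (BT.leaf (4, [11, 9, 11, 9], [9, 11, 9, 11]))) (BT.node 132 (BT.leaf (4, [0, 11, 0, 11], [11, 0, 11, 0])) (BT.leaf (4, [1, 11, 1, 11], [11, 1, 11, 1])))) (BT.node 135 (BT.node 134 (BT.leaf (4, [2, 11, 2, 11], [11, 2, 11, 2])) (BT.leaf (4, [3, 11, 3, 11], [11, 3, 11, 3]))) (BT.node 136 (BT.leaf (4, [4, 11, 4, 11], [11,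 4, 11, 4])) (BT.leaf (4, [5, 11, 5, 11], [11, 5, 11, 5]))))) (BT.node 142 (BT.node 140 (BT.node 139 (BT.node 138 (BT.leaf (4, [6, 11, 6, 11], [11, 6, 11, 6])) (BT.leaf (4, [7, 11, 7, 11], [11, 7, 11, 7]))) (BT.leaf (4, [8, 11, 8, 11], [11, 8, 11, 8]))) (BT.node 141 (BT.leaf (6, [10, 11, 10, 11, 10, 11], [11, 10, 11, 10, 11, 10])) (BT.leaf (4, [9, 11, 9, 11], [11, 9, 11, 9])))) (BT.node 144 (BT.node 143 (BT.leaf (2, [11, 11], [11, 11])) (BT.leaf (64, [2, 3, 4, 5, 6, 7, 10, 2, 3, 4, 5, 6, 7, 10, 2, 3, 4, 5, 6, 7, 10, 2, 3, 4, 5, 6, 7, 10, 2, 3, 4, 5, 6, 7, 10, 2, 3, 4, 5, 6, 7, 10, 2, 3, 4, 5, 6, 7, 10, 2, 3, 4, 5, 6, 7, 10, 2, 3, 4, 5, 6, 7, 10, 0], [0, 10, 7, 6, 5, 4, 3, 2, 10, 7, 6, 5, 4, 3, 2, 10, 7, 6, 5, 4, 3, 2, 10, 7, 6, 5, 4, 3, 2, 10, 7, 6, 5, 4, 3, 2, 10, 7, 6, 5, 4, 3, 2, 10, 7, 6, 5, 4, 3,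 2, 10, 7, 6, 5, 4, 3, 2, 10, 7, 6, 5, 4, 3, 2]))) (BT.node 145 (BT.leaf (238, [11, 10, 5, 9, 8, 7, 6, 5, 0, 1, 2, 3, 4, 5, 11, 10, 5, 9, 8, 7, 6, 5, 0, 1, 2, 3, 4, 5, 11, 10, 5, 9, 8, 7, 6, 5, 0, 1, 2, 3, 4, 5, 11, 10, 5, 9, 8, 7, 6, 5, 0, 1, 2, 3, 4, 5, 11, 10, 5, 9, 8, 7, 6, 5, 0, 1, 2, 3, 4, 5, 11, 10, 5, 9, 8, 7, 6, 5, 0, 1, 2, 3, 4, 5, 11, 10, 5, 9, 8, 7, 6, 5, 0, 1, 2, 3, 4, 5, 11, 10, 5, 9, 8, 7, 6, 5, 0, 1, 2, 3, 4, 5, 11, 10, 5, 9, 8, 7, 6, 5, 0, 1, 2, 3, 4, 5, 11, 10, 5, 9, 8, 7, 6, 5, 0, 1, 2, 3, 4, 5, 11, 10, 5, 9, 8, 7, 6, 5, 0, 1, 2, 3, 4, 5, 11, 10, 5, 9, 8, 7, 6, 5, 0, 1, 2, 3, 4, 5, 11, 10, 5, 9, 8, 7, 6, 5, 0, 1, 2, 3, 4, 5, 11, 10, 5, 9, 8, 7, 6, 5, 0, 1, 2, 3, 4, 5, 11, 10, 5, 9, 8, 7, 6, 5, 0, 1, 2, 3, 4, 5, 11, 10, 5, 9, 8, 7, 6, 5, 0, 1, 2, 3, 4, 5, 11, 10, 5, 9, 8, 7, 6, 5, 0,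 1, 2, 3, 4, 5], [5, 4, 3, 2, 1, 0, 5, 6, 7, 8, 9, 5, 10, 11, 5, 4, 3, 2, 1, 0, 5, 6, 7, 8, 9, 5, 10, 11, 5, 4, 3, 2, 1, 0, 5, 6, 7, 8, 9, 5, 10, 11, 5, 4, 3, 2, 1, 0, 5, 6, 7, 8, 9, 5, 10, 11, 5, 4, 3, 2, 1, 0, 5, 6, 7, 8, 9, 5, 10, 11, 5, 4, 3, 2, 1, 0, 5, 6, 7, 8, 9, 5, 10, 11, 5, 4, 3, 2, 1, 0, 5, 6, 7, 8, 9, 5, 10, 11, 5, 4, 3, 2, 1, 0, 5, 6, 7, 8, 9, 5, 10, 11, 5, 4, 3, 2, 1, 0, 5, 6, 7, 8, 9, 5, 10, 11, 5, 4, 3, 2, 1, 0, 5, 6, 7, 8, 9, 5, 10, 11, 5, 4, 3, 2, 1, 0, 5, 6, 7, 8, 9, 5, 10, 11, 5, 4, 3, 2, 1, 0, 5, 6, 7, 8, 9, 5, 10, 11, 5, 4, 3, 2, 1, 0, 5, 6, 7, 8, 9, 5, 10, 11, 5, 4, 3, 2, 1, 0, 5, 6, 7, 8, 9, 5, 10, 11, 5, 4, 3, 2, 1, 0, 5, 6, 7, 8, 9, 5, 10, 11, 5, 4, 3, 2, 1, 0, 5, 6, 7, 8, 9, 5, 10, 11, 5, 4, 3, 2, 1, 0, 5, 6, 7, 8, 9, 5, 10, 11])) (BT.leaf (28, [5, 10, 4, 6, 1, 9, 8, 7, 6,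 5, 0, 4, 7, 6, 1, 9, 3, 2, 4, 10, 8, 3, 0, 8, 1, 2, 11, 8], [8, 11, 2, 1, 8, 0, 3, 8, 10, 4, 2, 3, 9, 1, 6, 7, 4, 0, 5, 6, 7, 8, 9, 1, 6, 4, 10, 5])))))))))
/-- subgroup generators -/
def subT : BT (ℕ × List ℕ × List ℕ) := (BT.leaf (1, [2], [2]))
/-- fact chunks -/
def colET : BT ℕ := (BT.node 110 (BT.node 55 (BT.node 27 (BT.node 13 (BT.node 6 (BT.node 3 (BT.node 1 (BT.node 0 (BT.leaf cE0) (BT.leaf cE1)) (BT.node 2 (BT.leaf cE2) (BT.leaf cE3))) (BT.node 5 (BT.node 4 (BT.leaf cE4) (BT.leaf cE5)) (BT.leaf cE6))) (BT.node 10 (BT.node 8 (BT.node 7 (BT.leaf cE7) (BT.leaf cE8)) (BT.node 9 (BT.leaf cE9) (BT.leaf cE10))) (BT.node 12 (BT.node 11 (BT.leaf cE11) (BT.leaf cE12)) (BT.leaf cE13)))) (BT.node 20 (BT.node 17 (BT.node 15 (BT.node 14 (BT.leaf cE14) (BT.leaf cE15)) (BT.node 16 (BT.leaf cE16) (BT.leaf cE17)))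 (BT.node 19 (BT.node 18 (BT.leaf cE18) (BT.leaf cE19)) (BT.leaf cE20))) (BT.node 24 (BT.node 22 (BT.node 21 (BT.leaf cE21) (BT.leaf cE22)) (BT.node 23 (BT.leaf cE23) (BT.leaf cE24))) (BT.node 26 (BT.node 25 (BT.leaf cE25) (BT.leaf cE26)) (BT.leaf cE27))))) (BT.node 41 (BT.node 34 (BT.node 31 (BT.node 29 (BT.node 28 (BT.leaf cE28) (BT.leaf cE29)) (BT.node 30 (BT.leaf cE30) (BT.leaf cE31))) (BT.node 33 (BT.node 32 (BT.leaf cE32) (BT.leaf cE33)) (BT.leaf cE34))) (BT.node 38 (BT.node 36 (BT.node 35 (BT.leaf cE35) (BT.leaf cE36)) (BT.node 37 (BT.leaf cE37) (BT.leaf cE38))) (BT.node 40 (BT.node 39 (BT.leaf cE39) (BT.leaf cE40)) (BT.leaf cE41)))) (BT.node 48 (BT.node 45 (BT.node 43 (BT.node 42 (BT.leaf cE42) (BT.leaf cE43)) (BT.node 44 (BT.leaf cE44) (BT.leaf cE45))) (BT.node 47 (BT.node 46 (BT.leaf cE46)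 (BT.leaf cE47)) (BT.leaf cE48))) (BT.node 52 (BT.node 50 (BT.node 49 (BT.leaf cE49) (BT.leaf cE50)) (BT.node 51 (BT.leaf cE51) (BT.leaf cE52))) (BT.node 54 (BT.node 53 (BT.leaf cE53) (BT.leaf cE54)) (BT.leaf cE55)))))) (BT.node 83 (BT.node 69 (BT.node 62 (BT.node 59 (BT.node 57 (BT.node 56 (BT.leaf cE56) (BT.leaf cE57)) (BT.node 58 (BT.leaf cE58) (BT.leaf cE59))) (BT.node 61 (BT.node 60 (BT.leaf cE60) (BT.leaf cE61)) (BT.leaf cE62))) (BT.node 66 (BT.node 64 (BT.node 63 (BT.leaf cE63) (BT.leaf cE64)) (BT.node 65 (BT.leaf cE65) (BT.leaf cE66))) (BT.node 68 (BT.node 67 (BT.leaf cE67) (BT.leaf cE68)) (BT.leaf cE69)))) (BT.node 76 (BT.node 73 (BT.node 71 (BT.node 70 (BT.leaf cE70) (BT.leaf cE71)) (BT.node 72 (BT.leaf cE72) (BT.leaf cE73))) (BT.node 75 (BT.node 74 (BT.leaf cE74) (BT.leaf cE75)) (BT.leaf cE76)))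 (BT.node 80 (BT.node 78 (BT.node 77 (BT.leaf cE77) (BT.leaf cE78)) (BT.node 79 (BT.leaf cE79) (BT.leaf cE80))) (BT.node 82 (BT.node 81 (BT.leaf cE81) (BT.leaf cE82)) (BT.leaf cE83))))) (BT.node 97 (BT.node 90 (BT.node 87 (BT.node 85 (BT.node 84 (BT.leaf cE84) (BT.leaf cE85)) (BT.node 86 (BT.leaf cE86) (BT.leaf cE87))) (BT.node 89 (BT.node 88 (BT.leaf cE88) (BT.leaf cE89)) (BT.leaf cE90))) (BT.node 94 (BT.node 92 (BT.node 91 (BT.leaf cE91) (BT.leaf cE92)) (BT.node 93 (BT.leaf cE93) (BT.leaf cE94))) (BT.node 96 (BT.node 95 (BT.leaf cE95) (BT.leaf cE96)) (BT.leaf cE97)))) (BT.node 104 (BT.node 101 (BT.node 99 (BT.node 98 (BT.leaf cE98) (BT.leaf cE99)) (BT.node 100 (BT.leaf cE100) (BT.leaf cE101))) (BT.node 103 (BT.node 102 (BT.leaf cE102) (BT.leaf cE103)) (BT.leaf cE104))) (BT.node 107 (BT.node 106 (BT.node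 105 (BT.leaf cE105) (BT.leaf cE106)) (BT.leaf cE107)) (BT.node 109 (BT.node 108 (BT.leaf cE108) (BT.leaf cE109)) (BT.leaf cE110))))))) (BT.node 165 (BT.node 138 (BT.node 124 (BT.node 117 (BT.node 114 (BT.node 112 (BT.node 111 (BT.leaf cE111) (BT.leaf cE112)) (BT.node 113 (BT.leaf cE113) (BT.leaf cE114))) (BT.node 116 (BT.node 115 (BT.leaf cE115) (BT.leaf cE116)) (BT.leaf cE117))) (BT.node 121 (BT.node 119 (BT.node 118 (BT.leaf cE118) (BT.leaf cE119)) (BT.node 120 (BT.leaf cE120) (BT.leaf cE121))) (BT.node 123 (BT.node 122 (BT.leaf cE122) (BT.leaf cE123)) (BT.leaf cE124)))) (BT.node 131 (BT.node 128 (BT.node 126 (BT.node 125 (BT.leaf cE125) (BT.leaf cE126)) (BT.node 127 (BT.leaf cE127) (BT.leaf cE128))) (BT.node 130 (BT.node 129 (BT.leaf cE129) (BT.leaf cE130)) (BT.leaf cE131))) (BT.node 135 (BT.node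 133 (BT.node 132 (BT.leaf cE132) (BT.leaf cE133)) (BT.node 134 (BT.leaf cE134) (BT.leaf cE135))) (BT.node 137 (BT.node 136 (BT.leaf cE136) (BT.leaf cE137)) (BT.leaf cE138))))) (BT.node 152 (BT.node 145 (BT.node 142 (BT.node 140 (BT.node 139 (BT.leaf cE139) (BT.leaf cE140)) (BT.node 141 (BT.leaf cE141) (BT.leaf cE142))) (BT.node 144 (BT.node 143 (BT.leaf cE143) (BT.leaf cE144)) (BT.leaf cE145))) (BT.node 149 (BT.node 147 (BT.node 146 (BT.leaf cE146) (BT.leaf cE147)) (BT.node 148 (BT.leaf cE148) (BT.leaf cE149))) (BT.node 151 (BT.node 150 (BT.leaf cE150) (BT.leaf cE151)) (BT.leaf cE152)))) (BT.node 159 (BT.node 156 (BT.node 154 (BT.node 153 (BT.leaf cE153) (BT.leaf cE154)) (BT.node 155 (BT.leaf cE155) (BT.leaf cE156))) (BT.node 158 (BT.node 157 (BT.leaf cE157) (BT.leaf cE158)) (BT.leaf cE159))) (BT.node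 162 (BT.node 161 (BT.node 160 (BT.leaf cE160) (BT.leaf cE161)) (BT.leaf cE162)) (BT.node 164 (BT.node 163 (BT.leaf cE163) (BT.leaf cE164)) (BT.leaf cE165)))))) (BT.node 193 (BT.node 179 (BT.node 172 (BT.node 169 (BT.node 167 (BT.node 166 (BT.leaf cE166) (BT.leaf cE167)) (BT.node 168 (BT.leaf cE168) (BT.leaf cE169))) (BT.node 171 (BT.node 170 (BT.leaf cE170) (BT.leaf cE171)) (BT.leaf cE172))) (BT.node 176 (BT.node 174 (BT.node 173 (BT.leaf cE173) (BT.leaf cE174)) (BT.node 175 (BT.leaf cE175) (BT.leaf cE176))) (BT.node 178 (BT.node 177 (BT.leaf cE177) (BT.leaf cE178)) (BT.leaf cE179)))) (BT.node 186 (BT.node 183 (BT.node 181 (BT.node 180 (BT.leaf cE180) (BT.leaf cE181)) (BT.node 182 (BT.leaf cE182) (BT.leaf cE183))) (BT.node 185 (BT.node 184 (BT.leaf cE184) (BT.leaf cE185)) (BT.leaf cE186))) (BT.node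 190 (BT.node 188 (BT.node 187 (BT.leaf cE187) (BT.leaf cE188)) (BT.node 189 (BT.leaf cE189) (BT.leaf cE190))) (BT.node 192 (BT.node 191 (BT.leaf cE191) (BT.leaf cE192)) (BT.leaf cE193))))) (BT.node 207 (BT.node 200 (BT.node 197 (BT.node 195 (BT.node 194 (BT.leaf cE194) (BT.leaf cE195)) (BT.node 196 (BT.leaf cE196) (BT.leaf cE197))) (BT.node 199 (BT.node 198 (BT.leaf cE198) (BT.leaf cE199)) (BT.leaf cE200))) (BT.node 204 (BT.node 202 (BT.node 201 (BT.leaf cE201) (BT.leaf cE202)) (BT.node 203 (BT.leaf cE203) (BT.leaf cE204))) (BT.node 206 (BT.node 205 (BT.leaf cE205) (BT.leaf cE206)) (BT.leaf cE207)))) (BT.node 214 (BT.node 211 (BT.node 209 (BT.node 208 (BT.leaf cE208) (BT.leaf cE209)) (BT.node 210 (BT.leaf cE210) (BT.leaf cE211))) (BT.node 213 (BT.node 212 (BT.leaf cE212) (BT.leaf cE213)) (BT.leaf cE214)))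 (BT.node 217 (BT.node 216 (BT.node 215 (BT.leaf cE215) (BT.leaf cE216)) (BT.leaf cE217)) (BT.node 219 (BT.node 218 (BT.leaf cE218) (BT.leaf cE219)) (BT.leaf cE220))))))))
/-- justification chunks -/
def colJT : BT ℕ := (BT.node 110 (BT.node 55 (BT.node 27 (BT.node 13 (BT.node 6 (BT.node 3 (BT.node 1 (BT.node 0 (BT.leaf cJ0) (BT.leaf cJ1)) (BT.node 2 (BT.leaf cJ2) (BT.leaf cJ3))) (BT.node 5 (BT.node 4 (BT.leaf cJ4) (BT.leaf cJ5)) (BT.leaf cJ6))) (BT.node 10 (BT.node 8 (BT.node 7 (BT.leaf cJ7) (BT.leaf cJ8)) (BT.node 9 (BT.leaf cJ9) (BT.leaf cJ10))) (BT.node 12 (BT.node 11 (BT.leaf cJ11) (BT.leaf cJ12)) (BT.leaf cJ13)))) (BT.node 20 (BT.node 17 (BT.node 15 (BT.node 14 (BT.leaf cJ14) (BT.leaf cJ15)) (BT.node 16 (BT.leaf cJ16) (BT.leaf cJ17))) (BT.node 19 (BT.node 18 (BT.leaf cJ18) (BT.leaf cJ19)) (BT.leaf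 cJ20))) (BT.node 24 (BT.node 22 (BT.node 21 (BT.leaf cJ21) (BT.leaf cJ22)) (BT.node 23 (BT.leaf cJ23) (BT.leaf cJ24))) (BT.node 26 (BT.node 25 (BT.leaf cJ25) (BT.leaf cJ26)) (BT.leaf cJ27))))) (BT.node 41 (BT.node 34 (BT.node 31 (BT.node 29 (BT.node 28 (BT.leaf cJ28) (BT.leaf cJ29)) (BT.node 30 (BT.leaf cJ30) (BT.leaf cJ31))) (BT.node 33 (BT.node 32 (BT.leaf cJ32) (BT.leaf cJ33)) (BT.leaf cJ34))) (BT.node 38 (BT.node 36 (BT.node 35 (BT.leaf cJ35) (BT.leaf cJ36)) (BT.node 37 (BT.leaf cJ37) (BT.leaf cJ38))) (BT.node 40 (BT.node 39 (BT.leaf cJ39) (BT.leaf cJ40)) (BT.leaf cJ41)))) (BT.node 48 (BT.node 45 (BT.node 43 (BT.node 42 (BT.leaf cJ42) (BT.leaf cJ43)) (BT.node 44 (BT.leaf cJ44) (BT.leaf cJ45))) (BT.node 47 (BT.node 46 (BT.leaf cJ46) (BT.leaf cJ47)) (BT.leaf cJ48))) (BT.node 52 (BT.node 50 (BT.node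 49 (BT.leaf cJ49) (BT.leaf cJ50)) (BT.node 51 (BT.leaf cJ51) (BT.leaf cJ52))) (BT.node 54 (BT.node 53 (BT.leaf cJ53) (BT.leaf cJ54)) (BT.leaf cJ55)))))) (BT.node 83 (BT.node 69 (BT.node 62 (BT.node 59 (BT.node 57 (BT.node 56 (BT.leaf cJ56) (BT.leaf cJ57)) (BT.node 58 (BT.leaf cJ58) (BT.leaf cJ59))) (BT.node 61 (BT.node 60 (BT.leaf cJ60) (BT.leaf cJ61)) (BT.leaf cJ62))) (BT.node 66 (BT.node 64 (BT.node 63 (BT.leaf cJ63) (BT.leaf cJ64)) (BT.node 65 (BT.leaf cJ65) (BT.leaf cJ66))) (BT.node 68 (BT.node 67 (BT.leaf cJ67) (BT.leaf cJ68)) (BT.leaf cJ69)))) (BT.node 76 (BT.node 73 (BT.node 71 (BT.node 70 (BT.leaf cJ70) (BT.leaf cJ71)) (BT.node 72 (BT.leaf cJ72) (BT.leaf cJ73))) (BT.node 75 (BT.node 74 (BT.leaf cJ74) (BT.leaf cJ75)) (BT.leaf cJ76))) (BT.node 80 (BT.node 78 (BT.node 77 (BT.leaf cJ77) (BT.leaf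 cJ78)) (BT.node 79 (BT.leaf cJ79) (BT.leaf cJ80))) (BT.node 82 (BT.node 81 (BT.leaf cJ81) (BT.leaf cJ82)) (BT.leaf cJ83))))) (BT.node 97 (BT.node 90 (BT.node 87 (BT.node 85 (BT.node 84 (BT.leaf cJ84) (BT.leaf cJ85)) (BT.node 86 (BT.leaf cJ86) (BT.leaf cJ87))) (BT.node 89 (BT.node 88 (BT.leaf cJ88) (BT.leaf cJ89)) (BT.leaf cJ90))) (BT.node 94 (BT.node 92 (BT.node 91 (BT.leaf cJ91) (BT.leaf cJ92)) (BT.node 93 (BT.leaf cJ93) (BT.leaf cJ94))) (BT.node 96 (BT.node 95 (BT.leaf cJ95) (BT.leaf cJ96)) (BT.leaf cJ97)))) (BT.node 104 (BT.node 101 (BT.node 99 (BT.node 98 (BT.leaf cJ98) (BT.leaf cJ99)) (BT.node 100 (BT.leaf cJ100) (BT.leaf cJ101))) (BT.node 103 (BT.node 102 (BT.leaf cJ102) (BT.leaf cJ103)) (BT.leaf cJ104))) (BT.node 107 (BT.node 106 (BT.node 105 (BT.leaf cJ105) (BT.leaf cJ106)) (BT.leaf cJ107))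 (BT.node 109 (BT.node 108 (BT.leaf cJ108) (BT.leaf cJ109)) (BT.leaf cJ110))))))) (BT.node 165 (BT.node 138 (BT.node 124 (BT.node 117 (BT.node 114 (BT.node 112 (BT.node 111 (BT.leaf cJ111) (BT.leaf cJ112)) (BT.node 113 (BT.leaf cJ113) (BT.leaf cJ114))) (BT.node 116 (BT.node 115 (BT.leaf cJ115) (BT.leaf cJ116)) (BT.leaf cJ117))) (BT.node 121 (BT.node 119 (BT.node 118 (BT.leaf cJ118) (BT.leaf cJ119)) (BT.node 120 (BT.leaf cJ120) (BT.leaf cJ121))) (BT.node 123 (BT.node 122 (BT.leaf cJ122) (BT.leaf cJ123)) (BT.leaf cJ124)))) (BT.node 131 (BT.node 128 (BT.node 126 (BT.node 125 (BT.leaf cJ125) (BT.leaf cJ126)) (BT.node 127 (BT.leaf cJ127) (BT.leaf cJ128))) (BT.node 130 (BT.node 129 (BT.leaf cJ129) (BT.leaf cJ130)) (BT.leaf cJ131))) (BT.node 135 (BT.node 133 (BT.node 132 (BT.leaf cJ132) (BT.leaf cJ133)) (BT.node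 134 (BT.leaf cJ134) (BT.leaf cJ135))) (BT.node 137 (BT.node 136 (BT.leaf cJ136) (BT.leaf cJ137)) (BT.leaf cJ138))))) (BT.node 152 (BT.node 145 (BT.node 142 (BT.node 140 (BT.node 139 (BT.leaf cJ139) (BT.leaf cJ140)) (BT.node 141 (BT.leaf cJ141) (BT.leaf cJ142))) (BT.node 144 (BT.node 143 (BT.leaf cJ143) (BT.leaf cJ144)) (BT.leaf cJ145))) (BT.node 149 (BT.node 147 (BT.node 146 (BT.leaf cJ146) (BT.leaf cJ147)) (BT.node 148 (BT.leaf cJ148) (BT.leaf cJ149))) (BT.node 151 (BT.node 150 (BT.leaf cJ150) (BT.leaf cJ151)) (BT.leaf cJ152)))) (BT.node 159 (BT.node 156 (BT.node 154 (BT.node 153 (BT.leaf cJ153) (BT.leaf cJ154)) (BT.node 155 (BT.leaf cJ155) (BT.leaf cJ156))) (BT.node 158 (BT.node 157 (BT.leaf cJ157) (BT.leaf cJ158)) (BT.leaf cJ159))) (BT.node 162 (BT.node 161 (BT.node 160 (BT.leaf cJ160) (BT.leaf cJ161))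 (BT.leaf cJ162)) (BT.node 164 (BT.node 163 (BT.leaf cJ163) (BT.leaf cJ164)) (BT.leaf cJ165)))))) (BT.node 193 (BT.node 179 (BT.node 172 (BT.node 169 (BT.node 167 (BT.node 166 (BT.leaf cJ166) (BT.leaf cJ167)) (BT.node 168 (BT.leaf cJ168) (BT.leaf cJ169))) (BT.node 171 (BT.node 170 (BT.leaf cJ170) (BT.leaf cJ171)) (BT.leaf cJ172))) (BT.node 176 (BT.node 174 (BT.node 173 (BT.leaf cJ173) (BT.leaf cJ174)) (BT.node 175 (BT.leaf cJ175) (BT.leaf cJ176))) (BT.node 178 (BT.node 177 (BT.leaf cJ177) (BT.leaf cJ178)) (BT.leaf cJ179)))) (BT.node 186 (BT.node 183 (BT.node 181 (BT.node 180 (BT.leaf cJ180) (BT.leaf cJ181)) (BT.node 182 (BT.leaf cJ182) (BT.leaf cJ183))) (BT.node 185 (BT.node 184 (BT.leaf cJ184) (BT.leaf cJ185)) (BT.leaf cJ186))) (BT.node 190 (BT.node 188 (BT.node 187 (BT.leaf cJ187) (BT.leaf cJ188))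 (BT.node 189 (BT.leaf cJ189) (BT.leaf cJ190))) (BT.node 192 (BT.node 191 (BT.leaf cJ191) (BT.leaf cJ192)) (BT.leaf cJ193))))) (BT.node 207 (BT.node 200 (BT.node 197 (BT.node 195 (BT.node 194 (BT.leaf cJ194) (BT.leaf cJ195)) (BT.node 196 (BT.leaf cJ196) (BT.leaf cJ197))) (BT.node 199 (BT.node 198 (BT.leaf cJ198) (BT.leaf cJ199)) (BT.leaf cJ200))) (BT.node 204 (BT.node 202 (BT.node 201 (BT.leaf cJ201) (BT.leaf cJ202)) (BT.node 203 (BT.leaf cJ203) (BT.leaf cJ204))) (BT.node 206 (BT.node 205 (BT.leaf cJ205) (BT.leaf cJ206)) (BT.leaf cJ207)))) (BT.node 214 (BT.node 211 (BT.node 209 (BT.node 208 (BT.leaf cJ208) (BT.leaf cJ209)) (BT.node 210 (BT.leaf cJ210) (BT.leaf cJ211))) (BT.node 213 (BT.node 212 (BT.leaf cJ212) (BT.leaf cJ213)) (BT.leaf cJ214))) (BT.node 217 (BT.node 216 (BT.node 215 (BT.leaf cJ215) (BT.leaf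 cJ216)) (BT.leaf cJ217)) (BT.node 219 (BT.node 218 (BT.leaf cJ218) (BT.leaf cJ219)) (BT.leaf cJ220))))))))
/-- parent chunks -/
def parCT : BT ℕ := (BT.node 8 (BT.node 4 (BT.node 2 (BT.node 1 (BT.node 0 (BT.leaf cP0) (BT.leaf cP1)) (BT.leaf cP2)) (BT.node 3 (BT.leaf cP3) (BT.leaf cP4))) (BT.node 6 (BT.node 5 (BT.leaf cP5) (BT.leaf cP6)) (BT.node 7 (BT.leaf cP7) (BT.leaf cP8)))) (BT.node 12 (BT.node 10 (BT.node 9 (BT.leaf cP9) (BT.leaf cP10)) (BT.node 11 (BT.leaf cP11) (BT.leaf cP12))) (BT.node 14 (BT.node 13 (BT.leaf cP13) (BT.leaf cP14)) (BT.node 15 (BT.leaf cP15) (BT.leaf cP16)))))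
/-- the certificate -/
def data : Data where
  k := 12
  N := 8694
  W := 29
  MW := 536870912
  B := 16384
  CH := 512
  NCH := 17
  colE := colET
  JW := 64
  MJ := 18446744073709551616
  A := 1048576
  colJ := colJT
  PW := 23
  MP := 8388608
  parC := parCT
  inv := (BT.node 6 (BT.node 3 (BT.node 1 (BT.node 0 (BT.leaf 0) (BT.leaf 1)) (BT.node 2 (BT.leaf 2) (BT.leaf 3))) (BT.node 5 (BT.node 4 (BT.leaf 4) (BT.leaf 5)) (BT.leaf 6))) (BT.node 9 (BT.node 8 (BT.node 7 (BT.leaf 7) (BT.leaf 8)) (BT.leaf 9)) (BT.node 11 (BT.node 10 (BT.leaf 10) (BT.leaf 11)) (BT.leaf 12))))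
  rel := relT
  sub := subT
  fuel := 64

end Cfsg.Agent.Lib.Helper28.TCFi24WCData
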