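import Cfsg.Prelude.Def_SporCoxeter
import Cfsg.Prelude.Def_Spor_Fi24
set_option autoImplicit false

namespace Cfsg.Agent.Lib.Helper28.TCFi24WCDef

/-- the generators -/
abbrev Gen : Type := Cfsg.Spor.Fi24.Gen

/-- the Coxeter graph -/
def edges : List (Gen × ℕ × Gen) := Cfsg.Spor.Fi24.edges

/-- the further relators -/
def extra : List (FreeGroup Gen) := Cfsg.Spor.Fi24.extra ++ [
  FreeGroup.mk [(.g, true), (.i, true), (.a, true), (.k, true), (.g, true), (.l, true), (.b, true), (.g, true), (.h, true), (.c, true), (.a, true), (.b, true), (.j, true), (.k, true), (.e, true), (.f, true), (.c, true), (.l, true), (.d, true), (.e, true), (.f, true), (.g, true), (.j, true), (.k, true), (.e, true), (.c, true), (.h, true), (.d, true)] ]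

end Cfsg.Agent.Lib.Helper28.TCFi24WCDef
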