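import Cfsg.Agent.Lib.Helper28.TC2Range
import Cfsg.Agent.Lib.Helper28.TCFi24WCData
import Cfsg.Agent.Lib.Helper28.TCFi24WCTable
set_option autoImplicit false
set_option maxRecDepth 100000
set_option maxHeartbeats 0

namespace Cfsg.Agent.Lib.Helper28.TCFi24WCM0
open Cfsg.Agent.Lib.Helper28.TC2Upper Cfsg.Agent.Lib.Helper28.TC2Lower Cfsg.Agent.Lib.Helper28.TC2Range Cfsg.Agent.Lib.Helper28.TCFi24WCData Cfsg.Agent.Lib.Helper28.TCFi24WCTable

theorem fin0 : Data.finalRange data 0 6944 = true := by decide +kernel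
theorem fin1 : Data.finalRange data 6944 1750 = true := by decide +kernel
theorem cnt0 : Data.countFrom data 0 8694 = 1 := by decide +kernel
theorem prm0 : Table.permRange table 0 1 = true := by decide +kernel

end Cfsg.Agent.Lib.Helper28.TCFi24WCM0
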