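import Cfsg.Agent.Lib.Helper28.TCFi23BTable
import Cfsg.Agent.Lib.Helper28.TCFi23W0Table
set_option autoImplicit false
set_option maxRecDepth 100000
set_option maxHeartbeats 0

namespace Cfsg.Agent.Lib.Helper28.TCFi23BChk1
open Cfsg.Agent.Lib.Helper28.TC2Upper Cfsg.Agent.Lib.Helper28.TC2Lower Cfsg.Agent.Lib.Helper28.TC2Orbit Cfsg.Agent.Lib.Helper28.TC2Range Cfsg.Agent.Lib.Helper28.TC2Bsgs Cfsg.Agent.Lib.Helper28.TCFi23BTable

theorem prm5 : Table.permRange btable 18380 3676 = true := by decide +kernel
theorem prm6 : Table.permRange btable 22056 3676 = true := by decide +kernel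
theorem prm7 : Table.permRange btable 25732 3676 = true := by decide +kernel
theorem prm8 : Table.permRange btable 29408 2263 = true := by decide +kernel
theorem agr0 : agreeRange Cfsg.Agent.Lib.Helper28.TCFi23W0Table.table btable 10 0 12500 = true := by decide +kernel

end Cfsg.Agent.Lib.Helper28.TCFi23BChk1
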