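import Cfsg.Agent.Lib.Helper28.TCFi23BTable
import Cfsg.Agent.Lib.Helper28.TCFi23W0Table
import Cfsg.Agent.Lib.Helper28.TCFi23BChk7
set_option autoImplicit false
set_option maxRecDepth 100000
set_option maxHeartbeats 0

namespace Cfsg.Agent.Lib.Helper28.TCFi23BChk10
open Cfsg.Agent.Lib.Helper28.TC2Upper Cfsg.Agent.Lib.Helper28.TC2Lower Cfsg.Agent.Lib.Helper28.TC2Orbit Cfsg.Agent.Lib.Helper28.TC2Range Cfsg.Agent.Lib.Helper28.TC2Bsgs Cfsg.Agent.Lib.Helper28.TCFi23BTable

theorem def19_2 : defRange btable defs 19 20000 10000 = true := by decide +kernel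
theorem def19_3 : defRange btable defs 19 30000 1671 = true := by decide +kernel
theorem def20_0 : defRange btable defs 20 0 11904 = true := by decide +kernel
theorem def20_1 : defRange btable defs 20 11904 11904 = true := by decide +kernel
theorem def20_2 : defRange btable defs 20 23808 7863 = true := by decide +kernel

end Cfsg.Agent.Lib.Helper28.TCFi23BChk10
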