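import Cfsg.Agent.Lib.Helper28.TCFi23BTable
import Cfsg.Agent.Lib.Helper28.TCFi23W0Table
set_option autoImplicit false
set_option maxRecDepth 100000
set_option maxHeartbeats 0

namespace Cfsg.Agent.Lib.Helper28.TCFi23BChk2
open Cfsg.Agent.Lib.Helper28.TC2Upper Cfsg.Agent.Lib.Helper28.TC2Lower Cfsg.Agent.Lib.Helper28.TC2Orbit Cfsg.Agent.Lib.Helper28.TC2Range Cfsg.Agent.Lib.Helper28.TC2Bsgs Cfsg.Agent.Lib.Helper28.TCFi23BTable

theorem agr1 : agreeRange Cfsg.Agent.Lib.Helper28.TCFi23W0Table.table btable 10 12500 12500 = true := by decide +kernel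
theorem agr2 : agreeRange Cfsg.Agent.Lib.Helper28.TCFi23W0Table.table btable 10 25000 6671 = true := by decide +kernel
theorem def10_0 : defRange btable defs 10 0 17857 = true := by decide +kernel
theorem def10_1 : defRange btable defs 10 17857 13814 = true := by decide +kernel
theorem def11_0 : defRange btable defs 11 0 17857 = true := by decide +kernel

end Cfsg.Agent.Lib.Helper28.TCFi23BChk2
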