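import Cfsg.Agent.Lib.Helper28.TCFi23BTable
import Cfsg.Agent.Lib.Helper28.TCFi23W0Table
import Cfsg.Agent.Lib.Helper28.TCFi23BChk12
set_option autoImplicit false
set_option maxRecDepth 100000
set_option maxHeartbeats 0

namespace Cfsg.Agent.Lib.Helper28.TCFi23BChk15
open Cfsg.Agent.Lib.Helper28.TC2Upper Cfsg.Agent.Lib.Helper28.TC2Lower Cfsg.Agent.Lib.Helper28.TC2Orbit Cfsg.Agent.Lib.Helper28.TC2Range Cfsg.Agent.Lib.Helper28.TC2Bsgs Cfsg.Agent.Lib.Helper28.TCFi23BTable

theorem def26_1 : defRange btable defs 26 5555 5555 = true := by decide +kernel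
theorem def26_2 : defRange btable defs 26 11110 5555 = true := by decide +kernel
theorem def26_3 : defRange btable defs 26 16665 5555 = true := by decide +kernel
theorem def26_4 : defRange btable defs 26 22220 5555 = true := by decide +kernel
theorem def26_5 : defRange btable defs 26 27775 3896 = true := by decide +kernel

end Cfsg.Agent.Lib.Helper28.TCFi23BChk15
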