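import Cfsg.Agent.Lib.Helper28.TCFi23BTable
import Cfsg.Agent.Lib.Helper28.TCFi23W0Table
import Cfsg.Agent.Lib.Helper28.TCFi23BChk26
set_option autoImplicit false
set_option maxRecDepth 100000
set_option maxHeartbeats 0

namespace Cfsg.Agent.Lib.Helper28.TCFi23BChk29
open Cfsg.Agent.Lib.Helper28.TC2Upper Cfsg.Agent.Lib.Helper28.TC2Lower Cfsg.Agent.Lib.Helper28.TC2Orbit Cfsg.Agent.Lib.Helper28.TC2Range Cfsg.Agent.Lib.Helper28.TC2Bsgs Cfsg.Agent.Lib.Helper28.TCFi23BTable

theorem conn6_1 : OrbData.connOKc orb6 btable 1 31250 421 = true := by decide +kernel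
theorem cnt6 : orb6.count 31671 1 = 3 := by decide +kernel
theorem hgens6 : BT.all (fun s => decide (s ∈ A6.map fun l => [l])) orb6.gens = true := by decide +kernel
theorem hA6 : ∀ l ∈ A6, l < btable.k ∧ ∀ q ∈ ([5, 4, 3, 1, 2, 0] : List ℕ), btable.tau l q = q := by decide +kernel
theorem conn7_0 : OrbData.connOKc orb7 btable 1 0 31250 = true := by decide +kernel

end Cfsg.Agent.Lib.Helper28.TCFi23BChk29
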