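import Cfsg.Agent.Lib.Helper28.TCFi23BTable
import Cfsg.Agent.Lib.Helper28.TCFi23W0Table
import Cfsg.Agent.Lib.Helper28.TCFi23BChk28
set_option autoImplicit false
set_option maxRecDepth 100000
set_option maxHeartbeats 0

namespace Cfsg.Agent.Lib.Helper28.TCFi23BChk31
open Cfsg.Agent.Lib.Helper28.TC2Upper Cfsg.Agent.Lib.Helper28.TC2Lower Cfsg.Agent.Lib.Helper28.TC2Orbit Cfsg.Agent.Lib.Helper28.TC2Range Cfsg.Agent.Lib.Helper28.TC2Bsgs Cfsg.Agent.Lib.Helper28.TCFi23BTable

theorem conn8_1 : OrbData.connOKc orb8 btable 1 31250 421 = true := by decide +kernel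
theorem cnt8 : orb8.count 31671 1 = 2 := by decide +kernel
theorem hgens8 : BT.all (fun s => decide (s ∈ A8.map fun l => [l])) orb8.gens = true := by decide +kernel
theorem hA8 : ∀ l ∈ A8, l < btable.k ∧ ∀ q ∈ ([7, 6, 5, 4, 3, 1, 2, 0] : List ℕ), btable.tau l q = q := by decide +kernel
theorem hinvOK : btable.invOK = true := by decide +kernel

end Cfsg.Agent.Lib.Helper28.TCFi23BChk31
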