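import Cfsg.Agent.Lib.Helper28.TCFi23BChk0
import Cfsg.Agent.Lib.Helper28.TCFi23BChk1
import Cfsg.Agent.Lib.Helper28.TCFi23BChk2
import Cfsg.Agent.Lib.Helper28.TCFi23BChk3
import Cfsg.Agent.Lib.Helper28.TCFi23BChk4
import Cfsg.Agent.Lib.Helper28.TCFi23BChk5
import Cfsg.Agent.Lib.Helper28.TCFi23BChk6
import Cfsg.Agent.Lib.Helper28.TCFi23BChk7
import Cfsg.Agent.Lib.Helper28.TCFi23BChk8
import Cfsg.Agent.Lib.Helper28.TCFi23BChk9
import Cfsg.Agent.Lib.Helper28.TCFi23BChk10
import Cfsg.Agent.Lib.Helper28.TCFi23BChk11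
import Cfsg.Agent.Lib.Helper28.TCFi23BChk12
import Cfsg.Agent.Lib.Helper28.TCFi23BChk13
import Cfsg.Agent.Lib.Helper28.TCFi23BChk14
import Cfsg.Agent.Lib.Helper28.TCFi23BChk15
import Cfsg.Agent.Lib.Helper28.TCFi23BChk16
import Cfsg.Agent.Lib.Helper28.TCFi23BChk17
import Cfsg.Agent.Lib.Helper28.TCFi23BChk18
import Cfsg.Agent.Lib.Helper28.TCFi23BChk19
import Cfsg.Agent.Lib.Helper28.TCFi23BChk20
import Cfsg.Agent.Lib.Helper28.TCFi23BChk21
import Cfsg.Agent.Lib.Helper28.TCFi23BChk22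
import Cfsg.Agent.Lib.Helper28.TCFi23BChk23
import Cfsg.Agent.Lib.Helper28.TCFi23BChk24
import Cfsg.Agent.Lib.Helper28.TCFi23BChk25
import Cfsg.Agent.Lib.Helper28.TCFi23BChk26
import Cfsg.Agent.Lib.Helper28.TCFi23BChk27
import Cfsg.Agent.Lib.Helper28.TCFi23BChk28
import Cfsg.Agent.Lib.Helper28.TCFi23BChk29
import Cfsg.Agent.Lib.Helper28.TCFi23BChk30
import Cfsg.Agent.Lib.Helper28.TCFi23BChk31
import Cfsg.Agent.Lib.Helper28.TCFi23BChk32

set_option autoImplicit false
set_option maxRecDepth 100000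

namespace Cfsg.Agent.Lib.Helper28.TCFi23BMain
open Cfsg.Agent.Lib.Helper28.TC2Upper Cfsg.Agent.Lib.Helper28.TC2Lower Cfsg.Agent.Lib.Helper28.TC2Orbit Cfsg.Agent.Lib.Helper28.TC2Range Cfsg.Agent.Lib.Helper28.TC2Bsgs Cfsg.Agent.Lib.Helper28.TCFi23BTable

theorem hpermAll : ∀ p, p < btable.n → Table.permRow btable p = true := by
  intro p hp
  have hp' : p < 31671 := hp
  rcases Nat.lt_or_ge p 3676 with h0 | h0
  · exact (Table.permRange_iff btable 0 3676).mp Cfsg.Agent.Lib.Helper28.TCFi23BChk0.prm0 p (by omega) (by omega)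
  rcases Nat.lt_or_ge p 7352 with h1 | h1
  · exact (Table.permRange_iff btable 3676 3676).mp Cfsg.Agent.Lib.Helper28.TCFi23BChk0.prm1 p (by omega) (by omega)
  rcases Nat.lt_or_ge p 11028 with h2 | h2
  · exact (Table.permRange_iff btable 7352 3676).mp Cfsg.Agent.Lib.Helper28.TCFi23BChk0.prm2 p (by omega) (by omega)
  rcases Nat.lt_or_ge p 14704 with h3 | h3
  · exact (Table.permRange_iff btable 11028 3676).mp Cfsg.Agent.Lib.Helper28.TCFi23BChk0.prm3 p (by omega) (by omega)
  rcases Nat.lt_or_ge p 18380 with h4 | h4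
  · exact (Table.permRange_iff btable 14704 3676).mp Cfsg.Agent.Lib.Helper28.TCFi23BChk0.prm4 p (by omega) (by omega)
  rcases Nat.lt_or_ge p 22056 with h5 | h5
  · exact (Table.permRange_iff btable 18380 3676).mp Cfsg.Agent.Lib.Helper28.TCFi23BChk1.prm5 p (by omega) (by omega)
  rcases Nat.lt_or_ge p 25732 with h6 | h6
  · exact (Table.permRange_iff btable 22056 3676).mp Cfsg.Agent.Lib.Helper28.TCFi23BChk1.prm6 p (by omega) (by omega)
  rcases Nat.lt_or_ge p 29408 with h7 | h7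
  · exact (Table.permRange_iff btable 25732 3676).mp Cfsg.Agent.Lib.Helper28.TCFi23BChk1.prm7 p (by omega) (by omega)
  exact (Table.permRange_iff btable 29408 2263).mp Cfsg.Agent.Lib.Helper28.TCFi23BChk1.prm8 p (by omega) (by omega)

theorem hTB : btable.OK := Table.ok_of_rows btable Cfsg.Agent.Lib.Helper28.TCFi23BChk31.hinvOK hpermAll

theorem hagree : ∀ p, p < Cfsg.Agent.Lib.Helper28.TCFi23W0Table.table.n → ∀ l, l < Cfsg.Agent.Lib.Helper28.TCFi23W0Table.table.k →
    btable.tau l p = Cfsg.Agent.Lib.Helper28.TCFi23W0Table.table.tau l p := by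
  intro p hp
  have hp' : p < 31671 := hp
  rcases Nat.lt_or_ge p 12500 with h0 | h0
  · exact (agreeRange_iff _ btable 10 0 12500).mp Cfsg.Agent.Lib.Helper28.TCFi23BChk1.agr0 p (by omega) (by omega)
  rcases Nat.lt_or_ge p 25000 with h1 | h1
  · exact (agreeRange_iff _ btable 10 12500 12500).mp Cfsg.Agent.Lib.Helper28.TCFi23BChk2.agr1 p (by omega) (by omega)
  exact (agreeRange_iff _ btable 10 25000 6671).mp Cfsg.Agent.Lib.Helper28.TCFi23BChk2.agr2 p (by omega) (by omega)

theorem hdef10 : ∀ p, p < btable.n → btable.walkT (defs.look 10) p = btable.tau 10 p := by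
  intro p hp
  have hp' : p < 31671 := hp
  rcases Nat.lt_or_ge p 17857 with h0 | h0
  · exact (defRange_iff defs 10 0 17857).mp Cfsg.Agent.Lib.Helper28.TCFi23BChk2.def10_0 p (by omega) (by omega)
  exact (defRange_iff defs 10 17857 13814).mp Cfsg.Agent.Lib.Helper28.TCFi23BChk2.def10_1 p (by omega) (by omega)

theorem hdef11 : ∀ p, p < btable.n → btable.walkT (defs.look 11) p = btable.tau 11 p := by
  intro p hp
  have hp' : p < 31671 := hp
  rcases Nat.lt_or_ge p 17857 with h0 | h0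
  · exact (defRange_iff defs 11 0 17857).mp Cfsg.Agent.Lib.Helper28.TCFi23BChk2.def11_0 p (by omega) (by omega)
  exact (defRange_iff defs 11 17857 13814).mp Cfsg.Agent.Lib.Helper28.TCFi23BChk3.def11_1 p (by omega) (by omega)

theorem hdef12 : ∀ p, p < btable.n → btable.walkT (defs.look 12) p = btable.tau 12 p := by
  intro p hp
  have hp' : p < 31671 := hp
  rcases Nat.lt_or_ge p 8620 with h0 | h0
  · exact (defRange_iff defs 12 0 8620).mp Cfsg.Agent.Lib.Helper28.TCFi23BChk3.def12_0 p (by omega) (by omega)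
  rcases Nat.lt_or_ge p 17240 with h1 | h1
  · exact (defRange_iff defs 12 8620 8620).mp Cfsg.Agent.Lib.Helper28.TCFi23BChk3.def12_1 p (by omega) (by omega)
  rcases Nat.lt_or_ge p 25860 with h2 | h2
  · exact (defRange_iff defs 12 17240 8620).mp Cfsg.Agent.Lib.Helper28.TCFi23BChk3.def12_2 p (by omega) (by omega)
  exact (defRange_iff defs 12 25860 5811).mp Cfsg.Agent.Lib.Helper28.TCFi23BChk3.def12_3 p (by omega) (by omega)

theorem hdef13 : ∀ p, p < btable.n → btable.walkT (defs.look 13) p = btable.tau 13 p := by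
  intro p hp
  have hp' : p < 31671 := hp
  rcases Nat.lt_or_ge p 8620 with h0 | h0
  · exact (defRange_iff defs 13 0 8620).mp Cfsg.Agent.Lib.Helper28.TCFi23BChk4.def13_0 p (by omega) (by omega)
  rcases Nat.lt_or_ge p 17240 with h1 | h1
  · exact (defRange_iff defs 13 8620 8620).mp Cfsg.Agent.Lib.Helper28.TCFi23BChk4.def13_1 p (by omega) (by omega)
  rcases Nat.lt_or_ge p 25860 with h2 | h2
  · exact (defRange_iff defs 13 17240 8620).mp Cfsg.Agent.Lib.Helper28.TCFi23BChk4.def13_2 p (by omega) (by omega)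
  exact (defRange_iff defs 13 25860 5811).mp Cfsg.Agent.Lib.Helper28.TCFi23BChk4.def13_3 p (by omega) (by omega)

theorem hdef14 : ∀ p, p < btable.n → btable.walkT (defs.look 14) p = btable.tau 14 p := by
  intro p hp
  have hp' : p < 31671 := hp
  rcases Nat.lt_or_ge p 7352 with h0 | h0
  · exact (defRange_iff defs 14 0 7352).mp Cfsg.Agent.Lib.Helper28.TCFi23BChk4.def14_0 p (by omega) (by omega)
  rcases Nat.lt_or_ge p 14704 with h1 | h1
  · exact (defRange_iff defs 14 7352 7352).mp Cfsg.Agent.Lib.Helper28.TCFi23BChk5.def14_1 p (by omega) (by omega)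
  rcases Nat.lt_or_ge p 22056 with h2 | h2
  · exact (defRange_iff defs 14 14704 7352).mp Cfsg.Agent.Lib.Helper28.TCFi23BChk5.def14_2 p (by omega) (by omega)
  rcases Nat.lt_or_ge p 29408 with h3 | h3
  · exact (defRange_iff defs 14 22056 7352).mp Cfsg.Agent.Lib.Helper28.TCFi23BChk5.def14_3 p (by omega) (by omega)
  exact (defRange_iff defs 14 29408 2263).mp Cfsg.Agent.Lib.Helper28.TCFi23BChk5.def14_4 p (by omega) (by omega)

theorem hdef15 : ∀ p, p < btable.n → btable.walkT (defs.look 15) p = btable.tau 15 p := by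
  intro p hp
  have hp' : p < 31671 := hp
  rcases Nat.lt_or_ge p 7352 with h0 | h0
  · exact (defRange_iff defs 15 0 7352).mp Cfsg.Agent.Lib.Helper28.TCFi23BChk5.def15_0 p (by omega) (by omega)
  rcases Nat.lt_or_ge p 14704 with h1 | h1
  · exact (defRange_iff defs 15 7352 7352).mp Cfsg.Agent.Lib.Helper28.TCFi23BChk6.def15_1 p (by omega) (by omega)
  rcases Nat.lt_or_ge p 22056 with h2 | h2
  · exact (defRange_iff defs 15 14704 7352).mp Cfsg.Agent.Lib.Helper28.TCFi23BChk6.def15_2 p (by omega) (by omega)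
  rcases Nat.lt_or_ge p 29408 with h3 | h3
  · exact (defRange_iff defs 15 22056 7352).mp Cfsg.Agent.Lib.Helper28.TCFi23BChk6.def15_3 p (by omega) (by omega)
  exact (defRange_iff defs 15 29408 2263).mp Cfsg.Agent.Lib.Helper28.TCFi23BChk6.def15_4 p (by omega) (by omega)

theorem hdef16 : ∀ p, p < btable.n → btable.walkT (defs.look 16) p = btable.tau 16 p := by
  intro p hp
  have hp' : p < 31671 := hp
  rcases Nat.lt_or_ge p 7352 with h0 | h0
  · exact (defRange_iff defs 16 0 7352).mp Cfsg.Agent.Lib.Helper28.TCFi23BChk6.def16_0 p (by omega) (by omega)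
  rcases Nat.lt_or_ge p 14704 with h1 | h1
  · exact (defRange_iff defs 16 7352 7352).mp Cfsg.Agent.Lib.Helper28.TCFi23BChk7.def16_1 p (by omega) (by omega)
  rcases Nat.lt_or_ge p 22056 with h2 | h2
  · exact (defRange_iff defs 16 14704 7352).mp Cfsg.Agent.Lib.Helper28.TCFi23BChk7.def16_2 p (by omega) (by omega)
  rcases Nat.lt_or_ge p 29408 with h3 | h3
  · exact (defRange_iff defs 16 22056 7352).mp Cfsg.Agent.Lib.Helper28.TCFi23BChk7.def16_3 p (by omega) (by omega)
  exact (defRange_iff defs 16 29408 2263).mp Cfsg.Agent.Lib.Helper28.TCFi23BChk7.def16_4 p (by omega) (by omega)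

theorem hdef17 : ∀ p, p < btable.n → btable.walkT (defs.look 17) p = btable.tau 17 p := by
  intro p hp
  have hp' : p < 31671 := hp
  rcases Nat.lt_or_ge p 7352 with h0 | h0
  · exact (defRange_iff defs 17 0 7352).mp Cfsg.Agent.Lib.Helper28.TCFi23BChk7.def17_0 p (by omega) (by omega)
  rcases Nat.lt_or_ge p 14704 with h1 | h1
  · exact (defRange_iff defs 17 7352 7352).mp Cfsg.Agent.Lib.Helper28.TCFi23BChk8.def17_1 p (by omega) (by omega)
  rcases Nat.lt_or_ge p 22056 with h2 | h2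
  · exact (defRange_iff defs 17 14704 7352).mp Cfsg.Agent.Lib.Helper28.TCFi23BChk8.def17_2 p (by omega) (by omega)
  rcases Nat.lt_or_ge p 29408 with h3 | h3
  · exact (defRange_iff defs 17 22056 7352).mp Cfsg.Agent.Lib.Helper28.TCFi23BChk8.def17_3 p (by omega) (by omega)
  exact (defRange_iff defs 17 29408 2263).mp Cfsg.Agent.Lib.Helper28.TCFi23BChk8.def17_4 p (by omega) (by omega)

theorem hdef18 : ∀ p, p < btable.n → btable.walkT (defs.look 18) p = btable.tau 18 p := by
  intro p hp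
  have hp' : p < 31671 := hp
  rcases Nat.lt_or_ge p 10000 with h0 | h0
  · exact (defRange_iff defs 18 0 10000).mp Cfsg.Agent.Lib.Helper28.TCFi23BChk8.def18_0 p (by omega) (by omega)
  rcases Nat.lt_or_ge p 20000 with h1 | h1
  · exact (defRange_iff defs 18 10000 10000).mp Cfsg.Agent.Lib.Helper28.TCFi23BChk9.def18_1 p (by omega) (by omega)
  rcases Nat.lt_or_ge p 30000 with h2 | h2
  · exact (defRange_iff defs 18 20000 10000).mp Cfsg.Agent.Lib.Helper28.TCFi23BChk9.def18_2 p (by omega) (by omega)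
  exact (defRange_iff defs 18 30000 1671).mp Cfsg.Agent.Lib.Helper28.TCFi23BChk9.def18_3 p (by omega) (by omega)

theorem hdef19 : ∀ p, p < btable.n → btable.walkT (defs.look 19) p = btable.tau 19 p := by
  intro p hp
  have hp' : p < 31671 := hp
  rcases Nat.lt_or_ge p 10000 with h0 | h0
  · exact (defRange_iff defs 19 0 10000).mp Cfsg.Agent.Lib.Helper28.TCFi23BChk9.def19_0 p (by omega) (by omega)
  rcases Nat.lt_or_ge p 20000 with h1 | h1
  · exact (defRange_iff defs 19 10000 10000).mp Cfsg.Agent.Lib.Helper28.TCFi23BChk9.def19_1 p (by omega) (by omega)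
  rcases Nat.lt_or_ge p 30000 with h2 | h2
  · exact (defRange_iff defs 19 20000 10000).mp Cfsg.Agent.Lib.Helper28.TCFi23BChk10.def19_2 p (by omega) (by omega)
  exact (defRange_iff defs 19 30000 1671).mp Cfsg.Agent.Lib.Helper28.TCFi23BChk10.def19_3 p (by omega) (by omega)

theorem hdef20 : ∀ p, p < btable.n → btable.walkT (defs.look 20) p = btable.tau 20 p := by
  intro p hp
  have hp' : p < 31671 := hp
  rcases Nat.lt_or_ge p 11904 with h0 | h0
  · exact (defRange_iff defs 20 0 11904).mp Cfsg.Agent.Lib.Helper28.TCFi23BChk10.def20_0 p (by omega) (by omega)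
  rcases Nat.lt_or_ge p 23808 with h1 | h1
  · exact (defRange_iff defs 20 11904 11904).mp Cfsg.Agent.Lib.Helper28.TCFi23BChk10.def20_1 p (by omega) (by omega)
  exact (defRange_iff defs 20 23808 7863).mp Cfsg.Agent.Lib.Helper28.TCFi23BChk10.def20_2 p (by omega) (by omega)

theorem hdef21 : ∀ p, p < btable.n → btable.walkT (defs.look 21) p = btable.tau 21 p := by
  intro p hp
  have hp' : p < 31671 := hp
  rcases Nat.lt_or_ge p 11904 with h0 | h0
  · exact (defRange_iff defs 21 0 11904).mp Cfsg.Agent.Lib.Helper28.TCFi23BChk11.def21_0 p (by omega) (by omega)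
  rcases Nat.lt_or_ge p 23808 with h1 | h1
  · exact (defRange_iff defs 21 11904 11904).mp Cfsg.Agent.Lib.Helper28.TCFi23BChk11.def21_1 p (by omega) (by omega)
  exact (defRange_iff defs 21 23808 7863).mp Cfsg.Agent.Lib.Helper28.TCFi23BChk11.def21_2 p (by omega) (by omega)

theorem hdef22 : ∀ p, p < btable.n → btable.walkT (defs.look 22) p = btable.tau 22 p := by
  intro p hp
  have hp' : p < 31671 := hp
  rcases Nat.lt_or_ge p 8620 with h0 | h0
  · exact (defRange_iff defs 22 0 8620).mp Cfsg.Agent.Lib.Helper28.TCFi23BChk11.def22_0 p (by omega) (by omega)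
  rcases Nat.lt_or_ge p 17240 with h1 | h1
  · exact (defRange_iff defs 22 8620 8620).mp Cfsg.Agent.Lib.Helper28.TCFi23BChk11.def22_1 p (by omega) (by omega)
  rcases Nat.lt_or_ge p 25860 with h2 | h2
  · exact (defRange_iff defs 22 17240 8620).mp Cfsg.Agent.Lib.Helper28.TCFi23BChk12.def22_2 p (by omega) (by omega)
  exact (defRange_iff defs 22 25860 5811).mp Cfsg.Agent.Lib.Helper28.TCFi23BChk12.def22_3 p (by omega) (by omega)

theorem hdef23 : ∀ p, p < btable.n → btable.walkT (defs.look 23) p = btable.tau 23 p := by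
  intro p hp
  have hp' : p < 31671 := hp
  rcases Nat.lt_or_ge p 8620 with h0 | h0
  · exact (defRange_iff defs 23 0 8620).mp Cfsg.Agent.Lib.Helper28.TCFi23BChk12.def23_0 p (by omega) (by omega)
  rcases Nat.lt_or_ge p 17240 with h1 | h1
  · exact (defRange_iff defs 23 8620 8620).mp Cfsg.Agent.Lib.Helper28.TCFi23BChk12.def23_1 p (by omega) (by omega)
  rcases Nat.lt_or_ge p 25860 with h2 | h2
  · exact (defRange_iff defs 23 17240 8620).mp Cfsg.Agent.Lib.Helper28.TCFi23BChk12.def23_2 p (by omega) (by omega)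
  exact (defRange_iff defs 23 25860 5811).mp Cfsg.Agent.Lib.Helper28.TCFi23BChk13.def23_3 p (by omega) (by omega)

theorem hdef24 : ∀ p, p < btable.n → btable.walkT (defs.look 24) p = btable.tau 24 p := by
  intro p hp
  have hp' : p < 31671 := hp
  rcases Nat.lt_or_ge p 8333 with h0 | h0
  · exact (defRange_iff defs 24 0 8333).mp Cfsg.Agent.Lib.Helper28.TCFi23BChk13.def24_0 p (by omega) (by omega)
  rcases Nat.lt_or_ge p 16666 with h1 | h1
  · exact (defRange_iff defs 24 8333 8333).mp Cfsg.Agent.Lib.Helper28.TCFi23BChk13.def24_1 p (by omega) (by omega)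
  rcases Nat.lt_or_ge p 24999 with h2 | h2
  · exact (defRange_iff defs 24 16666 8333).mp Cfsg.Agent.Lib.Helper28.TCFi23BChk13.def24_2 p (by omega) (by omega)
  exact (defRange_iff defs 24 24999 6672).mp Cfsg.Agent.Lib.Helper28.TCFi23BChk13.def24_3 p (by omega) (by omega)

theorem hdef25 : ∀ p, p < btable.n → btable.walkT (defs.look 25) p = btable.tau 25 p := by
  intro p hp
  have hp' : p < 31671 := hp
  rcases Nat.lt_or_ge p 8333 with h0 | h0
  · exact (defRange_iff defs 25 0 8333).mp Cfsg.Agent.Lib.Helper28.TCFi23BChk14.def25_0 p (by omega) (by omega)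
  rcases Nat.lt_or_ge p 16666 with h1 | h1
  · exact (defRange_iff defs 25 8333 8333).mp Cfsg.Agent.Lib.Helper28.TCFi23BChk14.def25_1 p (by omega) (by omega)
  rcases Nat.lt_or_ge p 24999 with h2 | h2
  · exact (defRange_iff defs 25 16666 8333).mp Cfsg.Agent.Lib.Helper28.TCFi23BChk14.def25_2 p (by omega) (by omega)
  exact (defRange_iff defs 25 24999 6672).mp Cfsg.Agent.Lib.Helper28.TCFi23BChk14.def25_3 p (by omega) (by omega)

theorem hdef26 : ∀ p, p < btable.n → btable.walkT (defs.look 26) p = btable.tau 26 p := by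
  intro p hp
  have hp' : p < 31671 := hp
  rcases Nat.lt_or_ge p 5555 with h0 | h0
  · exact (defRange_iff defs 26 0 5555).mp Cfsg.Agent.Lib.Helper28.TCFi23BChk14.def26_0 p (by omega) (by omega)
  rcases Nat.lt_or_ge p 11110 with h1 | h1
  · exact (defRange_iff defs 26 5555 5555).mp Cfsg.Agent.Lib.Helper28.TCFi23BChk15.def26_1 p (by omega) (by omega)
  rcases Nat.lt_or_ge p 16665 with h2 | h2
  · exact (defRange_iff defs 26 11110 5555).mp Cfsg.Agent.Lib.Helper28.TCFi23BChk15.def26_2 p (by omega) (by omega)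
  rcases Nat.lt_or_ge p 22220 with h3 | h3
  · exact (defRange_iff defs 26 16665 5555).mp Cfsg.Agent.Lib.Helper28.TCFi23BChk15.def26_3 p (by omega) (by omega)
  rcases Nat.lt_or_ge p 27775 with h4 | h4
  · exact (defRange_iff defs 26 22220 5555).mp Cfsg.Agent.Lib.Helper28.TCFi23BChk15.def26_4 p (by omega) (by omega)
  exact (defRange_iff defs 26 27775 3896).mp Cfsg.Agent.Lib.Helper28.TCFi23BChk15.def26_5 p (by omega) (by omega)

theorem hdef27 : ∀ p, p < btable.n → btable.walkT (defs.look 27) p = btable.tau 27 p := by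
  intro p hp
  have hp' : p < 31671 := hp
  rcases Nat.lt_or_ge p 5555 with h0 | h0
  · exact (defRange_iff defs 27 0 5555).mp Cfsg.Agent.Lib.Helper28.TCFi23BChk16.def27_0 p (by omega) (by omega)
  rcases Nat.lt_or_ge p 11110 with h1 | h1
  · exact (defRange_iff defs 27 5555 5555).mp Cfsg.Agent.Lib.Helper28.TCFi23BChk16.def27_1 p (by omega) (by omega)
  rcases Nat.lt_or_ge p 16665 with h2 | h2
  · exact (defRange_iff defs 27 11110 5555).mp Cfsg.Agent.Lib.Helper28.TCFi23BChk16.def27_2 p (by omega) (by omega)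
  rcases Nat.lt_or_ge p 22220 with h3 | h3
  · exact (defRange_iff defs 27 16665 5555).mp Cfsg.Agent.Lib.Helper28.TCFi23BChk16.def27_3 p (by omega) (by omega)
  rcases Nat.lt_or_ge p 27775 with h4 | h4
  · exact (defRange_iff defs 27 22220 5555).mp Cfsg.Agent.Lib.Helper28.TCFi23BChk16.def27_4 p (by omega) (by omega)
  exact (defRange_iff defs 27 27775 3896).mp Cfsg.Agent.Lib.Helper28.TCFi23BChk17.def27_5 p (by omega) (by omega)

theorem hdef28 : ∀ p, p < btable.n → btable.walkT (defs.look 28) p = btable.tau 28 p := by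
  intro p hp
  have hp' : p < 31671 := hp
  rcases Nat.lt_or_ge p 8064 with h0 | h0
  · exact (defRange_iff defs 28 0 8064).mp Cfsg.Agent.Lib.Helper28.TCFi23BChk17.def28_0 p (by omega) (by omega)
  rcases Nat.lt_or_ge p 16128 with h1 | h1
  · exact (defRange_iff defs 28 8064 8064).mp Cfsg.Agent.Lib.Helper28.TCFi23BChk17.def28_1 p (by omega) (by omega)
  rcases Nat.lt_or_ge p 24192 with h2 | h2
  · exact (defRange_iff defs 28 16128 8064).mp Cfsg.Agent.Lib.Helper28.TCFi23BChk17.def28_2 p (by omega) (by omega)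
  exact (defRange_iff defs 28 24192 7479).mp Cfsg.Agent.Lib.Helper28.TCFi23BChk17.def28_3 p (by omega) (by omega)

theorem hdef29 : ∀ p, p < btable.n → btable.walkT (defs.look 29) p = btable.tau 29 p := by
  intro p hp
  have hp' : p < 31671 := hp
  rcases Nat.lt_or_ge p 8064 with h0 | h0
  · exact (defRange_iff defs 29 0 8064).mp Cfsg.Agent.Lib.Helper28.TCFi23BChk18.def29_0 p (by omega) (by omega)
  rcases Nat.lt_or_ge p 16128 with h1 | h1
  · exact (defRange_iff defs 29 8064 8064).mp Cfsg.Agent.Lib.Helper28.TCFi23BChk18.def29_1 p (by omega) (by omega)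
  rcases Nat.lt_or_ge p 24192 with h2 | h2
  · exact (defRange_iff defs 29 16128 8064).mp Cfsg.Agent.Lib.Helper28.TCFi23BChk18.def29_2 p (by omega) (by omega)
  exact (defRange_iff defs 29 24192 7479).mp Cfsg.Agent.Lib.Helper28.TCFi23BChk18.def29_3 p (by omega) (by omega)

theorem hdef30 : ∀ p, p < btable.n → btable.walkT (defs.look 30) p = btable.tau 30 p := by
  intro p hp
  have hp' : p < 31671 := hp
  rcases Nat.lt_or_ge p 9259 with h0 | h0
  · exact (defRange_iff defs 30 0 9259).mp Cfsg.Agent.Lib.Helper28.TCFi23BChk18.def30_0 p (by omega) (by omega)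
  rcases Nat.lt_or_ge p 18518 with h1 | h1
  · exact (defRange_iff defs 30 9259 9259).mp Cfsg.Agent.Lib.Helper28.TCFi23BChk19.def30_1 p (by omega) (by omega)
  rcases Nat.lt_or_ge p 27777 with h2 | h2
  · exact (defRange_iff defs 30 18518 9259).mp Cfsg.Agent.Lib.Helper28.TCFi23BChk19.def30_2 p (by omega) (by omega)
  exact (defRange_iff defs 30 27777 3894).mp Cfsg.Agent.Lib.Helper28.TCFi23BChk19.def30_3 p (by omega) (by omega)

theorem hdef31 : ∀ p, p < btable.n → btable.walkT (defs.look 31) p = btable.tau 31 p := by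
  intro p hp
  have hp' : p < 31671 := hp
  rcases Nat.lt_or_ge p 9259 with h0 | h0
  · exact (defRange_iff defs 31 0 9259).mp Cfsg.Agent.Lib.Helper28.TCFi23BChk19.def31_0 p (by omega) (by omega)
  rcases Nat.lt_or_ge p 18518 with h1 | h1
  · exact (defRange_iff defs 31 9259 9259).mp Cfsg.Agent.Lib.Helper28.TCFi23BChk19.def31_1 p (by omega) (by omega)
  rcases Nat.lt_or_ge p 27777 with h2 | h2
  · exact (defRange_iff defs 31 18518 9259).mp Cfsg.Agent.Lib.Helper28.TCFi23BChk20.def31_2 p (by omega) (by omega)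
  exact (defRange_iff defs 31 27777 3894).mp Cfsg.Agent.Lib.Helper28.TCFi23BChk20.def31_3 p (by omega) (by omega)

theorem hdef32 : ∀ p, p < btable.n → btable.walkT (defs.look 32) p = btable.tau 32 p := by
  intro p hp
  have hp' : p < 31671 := hp
  rcases Nat.lt_or_ge p 5952 with h0 | h0
  · exact (defRange_iff defs 32 0 5952).mp Cfsg.Agent.Lib.Helper28.TCFi23BChk20.def32_0 p (by omega) (by omega)
  rcases Nat.lt_or_ge p 11904 with h1 | h1
  · exact (defRange_iff defs 32 5952 5952).mp Cfsg.Agent.Lib.Helper28.TCFi23BChk20.def32_1 p (by omega) (by omega)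
  rcases Nat.lt_or_ge p 17856 with h2 | h2
  · exact (defRange_iff defs 32 11904 5952).mp Cfsg.Agent.Lib.Helper28.TCFi23BChk20.def32_2 p (by omega) (by omega)
  rcases Nat.lt_or_ge p 23808 with h3 | h3
  · exact (defRange_iff defs 32 17856 5952).mp Cfsg.Agent.Lib.Helper28.TCFi23BChk21.def32_3 p (by omega) (by omega)
  rcases Nat.lt_or_ge p 29760 with h4 | h4
  · exact (defRange_iff defs 32 23808 5952).mp Cfsg.Agent.Lib.Helper28.TCFi23BChk21.def32_4 p (by omega) (by omega)
  exact (defRange_iff defs 32 29760 1911).mp Cfsg.Agent.Lib.Helper28.TCFi23BChk21.def32_5 p (by omega) (by omega)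

theorem hdef33 : ∀ p, p < btable.n → btable.walkT (defs.look 33) p = btable.tau 33 p := by
  intro p hp
  have hp' : p < 31671 := hp
  rcases Nat.lt_or_ge p 5952 with h0 | h0
  · exact (defRange_iff defs 33 0 5952).mp Cfsg.Agent.Lib.Helper28.TCFi23BChk21.def33_0 p (by omega) (by omega)
  rcases Nat.lt_or_ge p 11904 with h1 | h1
  · exact (defRange_iff defs 33 5952 5952).mp Cfsg.Agent.Lib.Helper28.TCFi23BChk21.def33_1 p (by omega) (by omega)
  rcases Nat.lt_or_ge p 17856 with h2 | h2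
  · exact (defRange_iff defs 33 11904 5952).mp Cfsg.Agent.Lib.Helper28.TCFi23BChk22.def33_2 p (by omega) (by omega)
  rcases Nat.lt_or_ge p 23808 with h3 | h3
  · exact (defRange_iff defs 33 17856 5952).mp Cfsg.Agent.Lib.Helper28.TCFi23BChk22.def33_3 p (by omega) (by omega)
  rcases Nat.lt_or_ge p 29760 with h4 | h4
  · exact (defRange_iff defs 33 23808 5952).mp Cfsg.Agent.Lib.Helper28.TCFi23BChk22.def33_4 p (by omega) (by omega)
  exact (defRange_iff defs 33 29760 1911).mp Cfsg.Agent.Lib.Helper28.TCFi23BChk22.def33_5 p (by omega) (by omega)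

theorem hdef : ∀ e, 10 ≤ e → e < btable.k → ∀ p, p < btable.n → btable.walkT (defs.look e) p = btable.tau e p := by
  intro e h1 h2 p hp
  have h2' : e < 34 := h2
  interval_cases e
  · exact hdef10 p hp
  · exact hdef11 p hp
  · exact hdef12 p hp
  · exact hdef13 p hp
  · exact hdef14 p hp
  · exact hdef15 p hp
  · exact hdef16 p hp
  · exact hdef17 p hp
  · exact hdef18 p hp
  · exact hdef19 p hp
  · exact hdef20 p hp
  · exact hdef21 p hp
  · exact hdef22 p hp
  · exact hdef23 p hp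
  · exact hdef24 p hp
  · exact hdef25 p hp
  · exact hdef26 p hp
  · exact hdef27 p hp
  · exact hdef28 p hp
  · exact hdef29 p hp
  · exact hdef30 p hp
  · exact hdef31 p hp
  · exact hdef32 p hp
  · exact hdef33 p hp

theorem hΓ : ∀ l, l < btable.k → Table.sigma hTB l ∈ baseGroup hTB 10 :=
  sigma_mem_baseGroup hTB 10 defs Cfsg.Agent.Lib.Helper28.TCFi23BChk32.dlt hdef

theorem hconn0 : ∀ p, p < btable.n → orb0.oid p = 1 →
    (orb0.depth p = 0 ∧ orb0.roots.look 1 = p) ∨
    (orb0.depth p ≠ 0 ∧ orb0.parent p < btable.n ∧ orb0.oid (orb0.parent p) = 1 ∧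
      orb0.depth (orb0.parent p) + 1 = orb0.depth p ∧
      btable.walkT (orb0.gens.look (orb0.gen p)) (orb0.parent p) = p) := by
  intro p hp
  have hp' : p < 31671 := hp
  rcases Nat.lt_or_ge p 31250 with h0 | h0
  · exact (OrbData.connOKc_iff orb0 btable 1 0 31250).mp Cfsg.Agent.Lib.Helper28.TCFi23BChk22.conn0_0 p (by omega) (by omega)
  exact (OrbData.connOKc_iff orb0 btable 1 31250 421).mp Cfsg.Agent.Lib.Helper28.TCFi23BChk23.conn0_1 p (by omega) (by omega)

theorem lev0 : 31671 * Nat.card (pstab (baseGroup hTB 10) (toFin btable.n [0])) ≤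
    Nat.card (pstab (baseGroup hTB 10) (toFin btable.n [])) :=
  level_boundN hTB _ [] A0 orb0 1 0 31671 rfl (by decide) Cfsg.Agent.Lib.Helper28.TCFi23BChk23.cnt0 hΓ Cfsg.Agent.Lib.Helper28.TCFi23BChk23.hA0
    (BT.All_of_all (fun _ h => of_decide_eq_true h) _ Cfsg.Agent.Lib.Helper28.TCFi23BChk23.hgens0) hconn0

theorem hconn1 : ∀ p, p < btable.n → orb1.oid p = 1 →
    (orb1.depth p = 0 ∧ orb1.roots.look 1 = p) ∨
    (orb1.depth p ≠ 0 ∧ orb1.parent p < btable.n ∧ orb1.oid (orb1.parent p) = 1 ∧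
      orb1.depth (orb1.parent p) + 1 = orb1.depth p ∧
      btable.walkT (orb1.gens.look (orb1.gen p)) (orb1.parent p) = p) := by
  intro p hp
  have hp' : p < 31671 := hp
  rcases Nat.lt_or_ge p 31250 with h0 | h0
  · exact (OrbData.connOKc_iff orb1 btable 1 0 31250).mp Cfsg.Agent.Lib.Helper28.TCFi23BChk23.conn1_0 p (by omega) (by omega)
  exact (OrbData.connOKc_iff orb1 btable 1 31250 421).mp Cfsg.Agent.Lib.Helper28.TCFi23BChk24.conn1_1 p (by omega) (by omega)

theorem lev1 : 28160 * Nat.card (pstab (baseGroup hTB 10) (toFin btable.n [2, 0])) ≤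
    Nat.card (pstab (baseGroup hTB 10) (toFin btable.n [0])) :=
  level_boundN hTB _ [0] A1 orb1 1 2 28160 rfl (by decide) Cfsg.Agent.Lib.Helper28.TCFi23BChk24.cnt1 hΓ Cfsg.Agent.Lib.Helper28.TCFi23BChk24.hA1
    (BT.All_of_all (fun _ h => of_decide_eq_true h) _ Cfsg.Agent.Lib.Helper28.TCFi23BChk24.hgens1) hconn1

theorem hconn2 : ∀ p, p < btable.n → orb2.oid p = 1 →
    (orb2.depth p = 0 ∧ orb2.roots.look 1 = p) ∨
    (orb2.depth p ≠ 0 ∧ orb2.parent p < btable.n ∧ orb2.oid (orb2.parent p) = 1 ∧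
      orb2.depth (orb2.parent p) + 1 = orb2.depth p ∧
      btable.walkT (orb2.gens.look (orb2.gen p)) (orb2.parent p) = p) := by
  intro p hp
  have hp' : p < 31671 := hp
  rcases Nat.lt_or_ge p 31250 with h0 | h0
  · exact (OrbData.connOKc_iff orb2 btable 1 0 31250).mp Cfsg.Agent.Lib.Helper28.TCFi23BChk24.conn2_0 p (by omega) (by omega)
  exact (OrbData.connOKc_iff orb2 btable 1 31250 421).mp Cfsg.Agent.Lib.Helper28.TCFi23BChk25.conn2_1 p (by omega) (by omega)

theorem lev2 : 3159 * Nat.card (pstab (baseGroup hTB 10) (toFin btable.n [1, 2, 0])) ≤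
    Nat.card (pstab (baseGroup hTB 10) (toFin btable.n [2, 0])) :=
  level_boundN hTB _ [2, 0] A2 orb2 1 1 3159 rfl (by decide) Cfsg.Agent.Lib.Helper28.TCFi23BChk25.cnt2 hΓ Cfsg.Agent.Lib.Helper28.TCFi23BChk25.hA2
    (BT.All_of_all (fun _ h => of_decide_eq_true h) _ Cfsg.Agent.Lib.Helper28.TCFi23BChk25.hgens2) hconn2

theorem hconn3 : ∀ p, p < btable.n → orb3.oid p = 1 →
    (orb3.depth p = 0 ∧ orb3.roots.look 1 = p) ∨
    (orb3.depth p ≠ 0 ∧ orb3.parent p < btable.n ∧ orb3.oid (orb3.parent p) = 1 ∧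
      orb3.depth (orb3.parent p) + 1 = orb3.depth p ∧
      btable.walkT (orb3.gens.look (orb3.gen p)) (orb3.parent p) = p) := by
  intro p hp
  have hp' : p < 31671 := hp
  rcases Nat.lt_or_ge p 31250 with h0 | h0
  · exact (OrbData.connOKc_iff orb3 btable 1 0 31250).mp Cfsg.Agent.Lib.Helper28.TCFi23BChk25.conn3_0 p (by omega) (by omega)
  exact (OrbData.connOKc_iff orb3 btable 1 31250 421).mp Cfsg.Agent.Lib.Helper28.TCFi23BChk26.conn3_1 p (by omega) (by omega)

theorem lev3 : 288 * Nat.card (pstab (baseGroup hTB 10) (toFin btable.n [3, 1, 2, 0])) ≤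
    Nat.card (pstab (baseGroup hTB 10) (toFin btable.n [1, 2, 0])) :=
  level_boundN hTB _ [1, 2, 0] A3 orb3 1 3 288 rfl (by decide) Cfsg.Agent.Lib.Helper28.TCFi23BChk26.cnt3 hΓ Cfsg.Agent.Lib.Helper28.TCFi23BChk26.hA3
    (BT.All_of_all (fun _ h => of_decide_eq_true h) _ Cfsg.Agent.Lib.Helper28.TCFi23BChk26.hgens3) hconn3

theorem hconn4 : ∀ p, p < btable.n → orb4.oid p = 1 →
    (orb4.depth p = 0 ∧ orb4.roots.look 1 = p) ∨
    (orb4.depth p ≠ 0 ∧ orb4.parent p < btable.n ∧ orb4.oid (orb4.parent p) = 1 ∧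
      orb4.depth (orb4.parent p) + 1 = orb4.depth p ∧
      btable.walkT (orb4.gens.look (orb4.gen p)) (orb4.parent p) = p) := by
  intro p hp
  have hp' : p < 31671 := hp
  rcases Nat.lt_or_ge p 31250 with h0 | h0
  · exact (OrbData.connOKc_iff orb4 btable 1 0 31250).mp Cfsg.Agent.Lib.Helper28.TCFi23BChk26.conn4_0 p (by omega) (by omega)
  exact (OrbData.connOKc_iff orb4 btable 1 31250 421).mp Cfsg.Agent.Lib.Helper28.TCFi23BChk27.conn4_1 p (by omega) (by omega)

theorem lev4 : 35 * Nat.card (pstab (baseGroup hTB 10) (toFin btable.n [4, 3, 1, 2, 0])) ≤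
    Nat.card (pstab (baseGroup hTB 10) (toFin btable.n [3, 1, 2, 0])) :=
  level_boundN hTB _ [3, 1, 2, 0] A4 orb4 1 4 35 rfl (by decide) Cfsg.Agent.Lib.Helper28.TCFi23BChk27.cnt4 hΓ Cfsg.Agent.Lib.Helper28.TCFi23BChk27.hA4
    (BT.All_of_all (fun _ h => of_decide_eq_true h) _ Cfsg.Agent.Lib.Helper28.TCFi23BChk27.hgens4) hconn4

theorem hconn5 : ∀ p, p < btable.n → orb5.oid p = 1 →
    (orb5.depth p = 0 ∧ orb5.roots.look 1 = p) ∨
    (orb5.depth p ≠ 0 ∧ orb5.parent p < btable.n ∧ orb5.oid (orb5.parent p) = 1 ∧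
      orb5.depth (orb5.parent p) + 1 = orb5.depth p ∧
      btable.walkT (orb5.gens.look (orb5.gen p)) (orb5.parent p) = p) := by
  intro p hp
  have hp' : p < 31671 := hp
  rcases Nat.lt_or_ge p 31250 with h0 | h0
  · exact (OrbData.connOKc_iff orb5 btable 1 0 31250).mp Cfsg.Agent.Lib.Helper28.TCFi23BChk27.conn5_0 p (by omega) (by omega)
  exact (OrbData.connOKc_iff orb5 btable 1 31250 421).mp Cfsg.Agent.Lib.Helper28.TCFi23BChk28.conn5_1 p (by omega) (by omega)

theorem lev5 : 12 * Nat.card (pstab (baseGroup hTB 10) (toFin btable.n [5, 4, 3, 1, 2, 0])) ≤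
    Nat.card (pstab (baseGroup hTB 10) (toFin btable.n [4, 3, 1, 2, 0])) :=
  level_boundN hTB _ [4, 3, 1, 2, 0] A5 orb5 1 5 12 rfl (by decide) Cfsg.Agent.Lib.Helper28.TCFi23BChk28.cnt5 hΓ Cfsg.Agent.Lib.Helper28.TCFi23BChk28.hA5
    (BT.All_of_all (fun _ h => of_decide_eq_true h) _ Cfsg.Agent.Lib.Helper28.TCFi23BChk28.hgens5) hconn5

theorem hconn6 : ∀ p, p < btable.n → orb6.oid p = 1 →
    (orb6.depth p = 0 ∧ orb6.roots.look 1 = p) ∨
    (orb6.depth p ≠ 0 ∧ orb6.parent p < btable.n ∧ orb6.oid (orb6.parent p) = 1 ∧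
      orb6.depth (orb6.parent p) + 1 = orb6.depth p ∧
      btable.walkT (orb6.gens.look (orb6.gen p)) (orb6.parent p) = p) := by
  intro p hp
  have hp' : p < 31671 := hp
  rcases Nat.lt_or_ge p 31250 with h0 | h0
  · exact (OrbData.connOKc_iff orb6 btable 1 0 31250).mp Cfsg.Agent.Lib.Helper28.TCFi23BChk28.conn6_0 p (by omega) (by omega)
  exact (OrbData.connOKc_iff orb6 btable 1 31250 421).mp Cfsg.Agent.Lib.Helper28.TCFi23BChk29.conn6_1 p (by omega) (by omega)

theorem lev6 : 3 * Nat.card (pstab (baseGroup hTB 10) (toFin btable.n [6, 5, 4, 3, 1, 2, 0])) ≤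
    Nat.card (pstab (baseGroup hTB 10) (toFin btable.n [5, 4, 3, 1, 2, 0])) :=
  level_boundN hTB _ [5, 4, 3, 1, 2, 0] A6 orb6 1 6 3 rfl (by decide) Cfsg.Agent.Lib.Helper28.TCFi23BChk29.cnt6 hΓ Cfsg.Agent.Lib.Helper28.TCFi23BChk29.hA6
    (BT.All_of_all (fun _ h => of_decide_eq_true h) _ Cfsg.Agent.Lib.Helper28.TCFi23BChk29.hgens6) hconn6

theorem hconn7 : ∀ p, p < btable.n → orb7.oid p = 1 →
    (orb7.depth p = 0 ∧ orb7.roots.look 1 = p) ∨
    (orb7.depth p ≠ 0 ∧ orb7.parent p < btable.n ∧ orb7.oid (orb7.parent p) = 1 ∧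
      orb7.depth (orb7.parent p) + 1 = orb7.depth p ∧
      btable.walkT (orb7.gens.look (orb7.gen p)) (orb7.parent p) = p) := by
  intro p hp
  have hp' : p < 31671 := hp
  rcases Nat.lt_or_ge p 31250 with h0 | h0
  · exact (OrbData.connOKc_iff orb7 btable 1 0 31250).mp Cfsg.Agent.Lib.Helper28.TCFi23BChk29.conn7_0 p (by omega) (by omega)
  exact (OrbData.connOKc_iff orb7 btable 1 31250 421).mp Cfsg.Agent.Lib.Helper28.TCFi23BChk30.conn7_1 p (by omega) (by omega)

theorem lev7 : 2 * Nat.card (pstab (baseGroup hTB 10) (toFin btable.n [7, 6, 5, 4, 3, 1, 2, 0])) ≤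
    Nat.card (pstab (baseGroup hTB 10) (toFin btable.n [6, 5, 4, 3, 1, 2, 0])) :=
  level_boundN hTB _ [6, 5, 4, 3, 1, 2, 0] A7 orb7 1 7 2 rfl (by decide) Cfsg.Agent.Lib.Helper28.TCFi23BChk30.cnt7 hΓ Cfsg.Agent.Lib.Helper28.TCFi23BChk30.hA7
    (BT.All_of_all (fun _ h => of_decide_eq_true h) _ Cfsg.Agent.Lib.Helper28.TCFi23BChk30.hgens7) hconn7

theorem hconn8 : ∀ p, p < btable.n → orb8.oid p = 1 →
    (orb8.depth p = 0 ∧ orb8.roots.look 1 = p) ∨
    (orb8.depth p ≠ 0 ∧ orb8.parent p < btable.n ∧ orb8.oid (orb8.parent p) = 1 ∧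
      orb8.depth (orb8.parent p) + 1 = orb8.depth p ∧
      btable.walkT (orb8.gens.look (orb8.gen p)) (orb8.parent p) = p) := by
  intro p hp
  have hp' : p < 31671 := hp
  rcases Nat.lt_or_ge p 31250 with h0 | h0
  · exact (OrbData.connOKc_iff orb8 btable 1 0 31250).mp Cfsg.Agent.Lib.Helper28.TCFi23BChk30.conn8_0 p (by omega) (by omega)
  exact (OrbData.connOKc_iff orb8 btable 1 31250 421).mp Cfsg.Agent.Lib.Helper28.TCFi23BChk31.conn8_1 p (by omega) (by omega)

theorem lev8 : 2 * Nat.card (pstab (baseGroup hTB 10) (toFin btable.n [8, 7, 6, 5, 4, 3, 1, 2, 0])) ≤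
    Nat.card (pstab (baseGroup hTB 10) (toFin btable.n [7, 6, 5, 4, 3, 1, 2, 0])) :=
  level_boundN hTB _ [7, 6, 5, 4, 3, 1, 2, 0] A8 orb8 1 8 2 rfl (by decide) Cfsg.Agent.Lib.Helper28.TCFi23BChk31.cnt8 hΓ Cfsg.Agent.Lib.Helper28.TCFi23BChk31.hA8
    (BT.All_of_all (fun _ h => of_decide_eq_true h) _ Cfsg.Agent.Lib.Helper28.TCFi23BChk31.hgens8) hconn8

/-- the order of the group generated by the letters of the coset table -/
theorem card_base : 4089470473293004800 ≤ Nat.card (baseGroup hTB 10) := by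
  have h : 31671 * (28160 * (3159 * (288 * (35 * (12 * (3 * (2 * (2 * 1)))))))) ≤ Nat.card (pstab (baseGroup hTB 10) (toFin btable.n [])) :=
    chain_stepN lev0 (chain_stepN lev1 (chain_stepN lev2 (chain_stepN lev3 (chain_stepN lev4 (chain_stepN lev5 (chain_stepN lev6 (chain_stepN lev7 (chain_stepN lev8 (one_le_card _ _)))))))))
  have e : (4089470473293004800 : ℕ) = 31671 * (28160 * (3159 * (288 * (35 * (12 * (3 * (2 * (2 * 1)))))))) := by norm_num
  rw [e]
  exact h

end Cfsg.Agent.Lib.Helper28.TCFi23BMain
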