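import Cfsg.Agent.Lib.Helper28.TC2Simple
import Cfsg.Agent.Lib.Helper28.TCFi23W0Main
set_option autoImplicit false
set_option maxRecDepth 100000
set_option maxHeartbeats 0

namespace Cfsg.Agent.Lib.Helper28.TCFi23FinalChk
open Cfsg.Agent.Lib.Helper28.TC2Upper Cfsg.Agent.Lib.Helper28.TC2Lower Cfsg.Agent.Lib.Helper28.TC2Orbit Cfsg.Agent.Lib.Helper28.TC2Glue Cfsg.Agent.Lib.Helper28.TC2Simple Cfsg.Agent.Lib.Helper28.TCFi23W0Table Cfsg.Agent.Lib.Helper28.TCFi23W0Link

/-- the element of order 17 -/
def tWord : List (Cfsg.Spor.Fi23.Gen × Bool) := [(.b, true), (.c, true), (.b, true), (.d, true), (.h, true), (.a, true), (.j, true), (.e, true), (.b, true), (.f, true), (.g, true)]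
/-- the path of its power -/
def tPath : List ℕ := [6, 5, 1, 4, 7, 0, 8, 3, 1, 2, 1, 6, 5, 1, 4, 7, 0, 8, 3, 1, 2, 1, 6, 5, 1, 4, 7, 0, 8, 3, 1, 2, 1, 6, 5, 1, 4, 7, 0, 8, 3, 1, 2, 1, 6, 5, 1, 4, 7, 0, 8, 3, 1, 2, 1, 6, 5, 1, 4, 7, 0, 8, 3, 1, 2, 1, 6, 5, 1, 4, 7, 0, 8, 3, 1, 2, 1, 6, 5, 1, 4, 7, 0, 8, 3, 1, 2, 1, 6, 5, 1, 4, 7, 0, 8, 3, 1, 2, 1, 6, 5, 1, 4, 7, 0, 8, 3, 1, 2, 1, 6, 5, 1, 4, 7, 0, 8, 3, 1, 2, 1, 6, 5, 1, 4, 7, 0, 8, 3, 1, 2, 1, 6, 5, 1, 4, 7, 0, 8, 3, 1, 2, 1, 6, 5, 1, 4, 7, 0, 8, 3, 1, 2, 1, 6, 5, 1, 4, 7, 0, 8, 3, 1, 2, 1, 6, 5, 1, 4, 7, 0, 8, 3, 1, 2, 1, 6, 5, 1, 4, 7, 0, 8, 3, 1, 2, 1]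
theorem tPath_eq : pathOf lw (List.replicate 17 tWord).flatten = tPath := by decide +kernel
/-- a coset of the second class -/
def yWord : List (Cfsg.Spor.Fi23.Gen × Bool) := [(.j, true), (.g, true), (.f, true), (.e, true), (.d, true), (.h, true), (.c, true), (.d, true), (.e, true), (.f, true), (.g, true), (.j, true)]
/-- an element of the subgroup -/
def hWord : List (Cfsg.Spor.Fi23.Gen × Bool) := [(.b, true)]
theorem hg0 : orbData.oid (table.walkT (pathOf lw [(.j, true)]) 0) = 1 := by decide +kernel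
theorem hy : orbData.oid (table.walkT (pathOf lw yWord) 0) = 2 := by decide +kernel
theorem hz : orbData.oid (table.walkT (pathOf lw (yWord ++ hWord ++ yWord)) 0) = 1 := by decide +kernel
theorem h00 : orbData.oid 0 = 0 := by decide +kernel
theorem tp0 : table.relOK [tPath] 0 1336 = true := by decide +kernel
theorem tp1 : table.relOK [tPath] 1336 1336 = true := by decide +kernel
theorem tp2 : table.relOK [tPath] 2672 1336 = true := by decide +kernel
theorem tp3 : table.relOK [tPath] 4008 1336 = true := by decide +kernel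
theorem tp4 : table.relOK [tPath] 5344 1336 = true := by decide +kernel
theorem tp5 : table.relOK [tPath] 6680 1336 = true := by decide +kernel
theorem tp6 : table.relOK [tPath] 8016 1336 = true := by decide +kernel
theorem tp7 : table.relOK [tPath] 9352 1336 = true := by decide +kernel
theorem tp8 : table.relOK [tPath] 10688 1336 = true := by decide +kernel
theorem tp9 : table.relOK [tPath] 12024 1336 = true := by decide +kernel
theorem tp10 : table.relOK [tPath] 13360 1336 = true := by decide +kernel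
theorem tp11 : table.relOK [tPath] 14696 1336 = true := by decide +kernel
theorem tp12 : table.relOK [tPath] 16032 1336 = true := by decide +kernel
theorem tp13 : table.relOK [tPath] 17368 1336 = true := by decide +kernel
theorem tp14 : table.relOK [tPath] 18704 1336 = true := by decide +kernel
theorem tp15 : table.relOK [tPath] 20040 1336 = true := by decide +kernel
theorem tp16 : table.relOK [tPath] 21376 1336 = true := by decide +kernel
theorem tp17 : table.relOK [tPath] 22712 1336 = true := by decide +kernel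
theorem tp18 : table.relOK [tPath] 24048 1336 = true := by decide +kernel
theorem tp19 : table.relOK [tPath] 25384 1336 = true := by decide +kernel
theorem tp20 : table.relOK [tPath] 26720 1336 = true := by decide +kernel
theorem tp21 : table.relOK [tPath] 28056 1336 = true := by decide +kernel
theorem tp22 : table.relOK [tPath] 29392 1336 = true := by decide +kernel
theorem tp23 : table.relOK [tPath] 30728 943 = true := by decide +kernel
theorem cl0 : clsOK orbData 3 0 31671 = true := by decide +kernel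

theorem htfix : ∀ p, p < table.n → table.walkT tPath p = p := by
  intro p hp
  have hp' : p < 31671 := hp
  rcases Nat.lt_or_ge p 1336 with h0 | h0
  · exact (Table.relOK_iff [tPath] 0 1336).mp tp0 p (by omega) (by omega) _ (List.mem_singleton.mpr rfl)
  rcases Nat.lt_or_ge p 2672 with h1 | h1
  · exact (Table.relOK_iff [tPath] 1336 1336).mp tp1 p (by omega) (by omega) _ (List.mem_singleton.mpr rfl)
  rcases Nat.lt_or_ge p 4008 with h2 | h2
  · exact (Table.relOK_iff [tPath] 2672 1336).mp tp2 p (by omega) (by omega) _ (List.mem_singleton.mpr rfl)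
  rcases Nat.lt_or_ge p 5344 with h3 | h3
  · exact (Table.relOK_iff [tPath] 4008 1336).mp tp3 p (by omega) (by omega) _ (List.mem_singleton.mpr rfl)
  rcases Nat.lt_or_ge p 6680 with h4 | h4
  · exact (Table.relOK_iff [tPath] 5344 1336).mp tp4 p (by omega) (by omega) _ (List.mem_singleton.mpr rfl)
  rcases Nat.lt_or_ge p 8016 with h5 | h5
  · exact (Table.relOK_iff [tPath] 6680 1336).mp tp5 p (by omega) (by omega) _ (List.mem_singleton.mpr rfl)
  rcases Nat.lt_or_ge p 9352 with h6 | h6
  · exact (Table.relOK_iff [tPath] 8016 1336).mp tp6 p (by omega) (by omega) _ (List.mem_singleton.mpr rfl)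
  rcases Nat.lt_or_ge p 10688 with h7 | h7
  · exact (Table.relOK_iff [tPath] 9352 1336).mp tp7 p (by omega) (by omega) _ (List.mem_singleton.mpr rfl)
  rcases Nat.lt_or_ge p 12024 with h8 | h8
  · exact (Table.relOK_iff [tPath] 10688 1336).mp tp8 p (by omega) (by omega) _ (List.mem_singleton.mpr rfl)
  rcases Nat.lt_or_ge p 13360 with h9 | h9
  · exact (Table.relOK_iff [tPath] 12024 1336).mp tp9 p (by omega) (by omega) _ (List.mem_singleton.mpr rfl)
  rcases Nat.lt_or_ge p 14696 with h10 | h10
  · exact (Table.relOK_iff [tPath] 13360 1336).mp tp10 p (by omega) (by omega) _ (List.mem_singleton.mpr rfl)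
  rcases Nat.lt_or_ge p 16032 with h11 | h11
  · exact (Table.relOK_iff [tPath] 14696 1336).mp tp11 p (by omega) (by omega) _ (List.mem_singleton.mpr rfl)
  rcases Nat.lt_or_ge p 17368 with h12 | h12
  · exact (Table.relOK_iff [tPath] 16032 1336).mp tp12 p (by omega) (by omega) _ (List.mem_singleton.mpr rfl)
  rcases Nat.lt_or_ge p 18704 with h13 | h13
  · exact (Table.relOK_iff [tPath] 17368 1336).mp tp13 p (by omega) (by omega) _ (List.mem_singleton.mpr rfl)
  rcases Nat.lt_or_ge p 20040 with h14 | h14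
  · exact (Table.relOK_iff [tPath] 18704 1336).mp tp14 p (by omega) (by omega) _ (List.mem_singleton.mpr rfl)
  rcases Nat.lt_or_ge p 21376 with h15 | h15
  · exact (Table.relOK_iff [tPath] 20040 1336).mp tp15 p (by omega) (by omega) _ (List.mem_singleton.mpr rfl)
  rcases Nat.lt_or_ge p 22712 with h16 | h16
  · exact (Table.relOK_iff [tPath] 21376 1336).mp tp16 p (by omega) (by omega) _ (List.mem_singleton.mpr rfl)
  rcases Nat.lt_or_ge p 24048 with h17 | h17
  · exact (Table.relOK_iff [tPath] 22712 1336).mp tp17 p (by omega) (by omega) _ (List.mem_singleton.mpr rfl)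
  rcases Nat.lt_or_ge p 25384 with h18 | h18
  · exact (Table.relOK_iff [tPath] 24048 1336).mp tp18 p (by omega) (by omega) _ (List.mem_singleton.mpr rfl)
  rcases Nat.lt_or_ge p 26720 with h19 | h19
  · exact (Table.relOK_iff [tPath] 25384 1336).mp tp19 p (by omega) (by omega) _ (List.mem_singleton.mpr rfl)
  rcases Nat.lt_or_ge p 28056 with h20 | h20
  · exact (Table.relOK_iff [tPath] 26720 1336).mp tp20 p (by omega) (by omega) _ (List.mem_singleton.mpr rfl)
  rcases Nat.lt_or_ge p 29392 with h21 | h21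
  · exact (Table.relOK_iff [tPath] 28056 1336).mp tp21 p (by omega) (by omega) _ (List.mem_singleton.mpr rfl)
  rcases Nat.lt_or_ge p 30728 with h22 | h22
  · exact (Table.relOK_iff [tPath] 29392 1336).mp tp22 p (by omega) (by omega) _ (List.mem_singleton.mpr rfl)
  exact (Table.relOK_iff [tPath] 30728 943).mp tp23 p (by omega) (by omega) _ (List.mem_singleton.mpr rfl)

theorem hclsAll : ∀ p, p < table.n → orbData.oid p < 3 := by
  intro p hp
  have hp' : p < 31671 := hp
  exact (clsOK_iff orbData 3 0 31671).mp cl0 p (by omega) (by omega)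

end Cfsg.Agent.Lib.Helper28.TCFi23FinalChk
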