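import Cfsg.Agent.Lib.Helper28.TC2Upper
import Cfsg.Agent.Lib.Helper28.TCFi23W1DataC0
set_option autoImplicit false
set_option maxRecDepth 100000

namespace Cfsg.Agent.Lib.Helper28.TCFi23W1Data
open Cfsg.Agent.Lib.Helper28.TC2Upper

/-- relators -/
def relT : BT (ℕ × List ℕ × List ℕ) := (BT.node 41 (BT.node 20 (BT.node 10 (BT.node 5 (BT.node 2 (BT.node 1 (BT.node 0 (BT.leaf (2, [0, 0], [0, 0])) (BT.leaf (6, [1, 0, 1, 0, 1, 0], [0, 1, 0, 1, 0, 1]))) (BT.leaf (4, [2, 0, 2, 0], [0, 2, 0, 2]))) (BT.node 4 (BT.node 3 (BT.leaf (4, [3, 0, 3, 0], [0, 3, 0, 3])) (BT.leaf (4, [4, 0, 4, 0], [0, 4, 0, 4]))) (BT.leaf (4, [5, 0, 5, 0], [0, 5, 0, 5])))) (BT.node 8 (BT.node 7 (BT.node 6 (BT.leaf (4, [7, 0, 7, 0], [0, 7, 0, 7])) (BT.leaf (4, [6, 0, 6, 0], [0, 6, 0, 6]))) (BT.leaf (4, [8, 0, 8, 0], [0, 8, 0, 8]))) (BT.node 9 (BT.leaf (6, [0, 1, 0, 1, 0,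 1], [1, 0, 1, 0, 1, 0])) (BT.leaf (2, [1, 1], [1, 1]))))) (BT.node 15 (BT.node 13 (BT.node 12 (BT.node 11 (BT.leaf (6, [2, 1, 2, 1, 2, 1], [1, 2, 1, 2, 1, 2])) (BT.leaf (4, [3, 1, 3, 1], [1, 3, 1, 3]))) (BT.leaf (4, [4, 1, 4, 1], [1, 4, 1, 4]))) (BT.node 14 (BT.leaf (4, [5, 1, 5, 1], [1, 5, 1, 5])) (BT.leaf (4, [7, 1, 7, 1], [1, 7, 1, 7])))) (BT.node 18 (BT.node 17 (BT.node 16 (BT.leaf (4, [6, 1, 6, 1], [1, 6, 1, 6])) (BT.leaf (4, [8, 1, 8, 1], [1, 8, 1, 8]))) (BT.leaf (4, [0, 2, 0, 2], [2, 0, 2, 0]))) (BT.node 19 (BT.leaf (6, [1, 2, 1, 2, 1, 2], [2, 1, 2, 1, 2, 1])) (BT.leaf (2, [2, 2], [2, 2])))))) (BT.node 31 (BT.node 26 (BT.node 23 (BT.node 22 (BT.node 21 (BT.leaf (6, [3, 2, 3, 2, 3, 2], [2, 3, 2, 3, 2, 3])) (BT.leaf (4, [4, 2, 4, 2], [2, 4, 2, 4]))) (BT.leaf (4, [5, 2, 5, 2], [2, 5, 2, 5]))) (BT.node 25 (BT.node 24 (BT.leaf (4,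 [7, 2, 7, 2], [2, 7, 2, 7])) (BT.leaf (4, [6, 2, 6, 2], [2, 6, 2, 6]))) (BT.leaf (4, [8, 2, 8, 2], [2, 8, 2, 8])))) (BT.node 29 (BT.node 28 (BT.node 27 (BT.leaf (4, [0, 3, 0, 3], [3, 0, 3, 0])) (BT.leaf (4, [1, 3, 1, 3], [3, 1, 3, 1]))) (BT.leaf (6, [2, 3, 2, 3, 2, 3], [3, 2, 3, 2, 3, 2]))) (BT.node 30 (BT.leaf (2, [3, 3], [3, 3])) (BT.leaf (6, [4, 3, 4, 3, 4, 3], [3, 4, 3, 4, 3, 4]))))) (BT.node 36 (BT.node 34 (BT.node 33 (BT.node 32 (BT.leaf (4, [5, 3, 5, 3], [3, 5, 3, 5])) (BT.leaf (6, [7, 3, 7, 3, 7, 3], [3, 7, 3, 7, 3, 7]))) (BT.leaf (4, [6, 3, 6, 3], [3, 6, 3, 6]))) (BT.node 35 (BT.leaf (4, [8, 3, 8, 3], [3, 8, 3, 8])) (BT.leaf (4, [0, 4, 0, 4], [4, 0, 4, 0])))) (BT.node 39 (BT.node 38 (BT.node 37 (BT.leaf (4, [1, 4, 1, 4], [4, 1, 4, 1])) (BT.leaf (4, [2, 4, 2, 4], [4, 2, 4, 2]))) (BT.leaf (6, [3, 4, 3, 4, 3, 4], [4, 3, 4, 3, 4,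 3]))) (BT.node 40 (BT.leaf (2, [4, 4], [4, 4])) (BT.leaf (6, [5, 4, 5, 4, 5, 4], [4, 5, 4, 5, 4, 5]))))))) (BT.node 62 (BT.node 52 (BT.node 47 (BT.node 44 (BT.node 43 (BT.node 42 (BT.leaf (4, [7, 4, 7, 4], [4, 7, 4, 7])) (BT.leaf (4, [6, 4, 6, 4], [4, 6, 4, 6]))) (BT.leaf (4, [8, 4, 8, 4], [4, 8, 4, 8]))) (BT.node 46 (BT.node 45 (BT.leaf (4, [0, 5, 0, 5], [5, 0, 5, 0])) (BT.leaf (4, [1, 5, 1, 5], [5, 1, 5, 1]))) (BT.leaf (4, [2, 5, 2, 5], [5, 2, 5, 2])))) (BT.node 50 (BT.node 49 (BT.node 48 (BT.leaf (4, [3, 5, 3, 5], [5, 3, 5, 3])) (BT.leaf (6, [4, 5, 4, 5, 4, 5], [5, 4, 5, 4, 5, 4]))) (BT.leaf (2, [5, 5], [5, 5]))) (BT.node 51 (BT.leaf (4, [7, 5, 7, 5], [5, 7, 5, 7])) (BT.leaf (6, [6, 5, 6, 5, 6, 5], [5, 6, 5, 6, 5, 6]))))) (BT.node 57 (BT.node 55 (BT.node 54 (BT.node 53 (BT.leaf (4, [8, 5, 8, 5], [5, 8, 5, 8])) (BT.leaf (4, [0, 7,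 0, 7], [7, 0, 7, 0]))) (BT.leaf (4, [1, 7, 1, 7], [7, 1, 7, 1]))) (BT.node 56 (BT.leaf (4, [2, 7, 2, 7], [7, 2, 7, 2])) (BT.leaf (6, [3, 7, 3, 7, 3, 7], [7, 3, 7, 3, 7, 3])))) (BT.node 60 (BT.node 59 (BT.node 58 (BT.leaf (4, [4, 7, 4, 7], [7, 4, 7, 4])) (BT.leaf (4, [5, 7, 5, 7], [7, 5, 7, 5]))) (BT.leaf (2, [7, 7], [7, 7]))) (BT.node 61 (BT.leaf (4, [6, 7, 6, 7], [7, 6, 7, 6])) (BT.leaf (6, [8, 7, 8, 7, 8, 7], [7, 8, 7, 8, 7, 8])))))) (BT.node 72 (BT.node 67 (BT.node 65 (BT.node 64 (BT.node 63 (BT.leaf (4, [0, 6, 0, 6], [6, 0, 6, 0])) (BT.leaf (4, [1, 6, 1, 6], [6, 1, 6, 1]))) (BT.leaf (4, [2, 6, 2, 6], [6, 2, 6, 2]))) (BT.node 66 (BT.leaf (4, [3, 6, 3, 6], [6, 3, 6, 3])) (BT.leaf (4, [4, 6, 4, 6], [6, 4, 6, 4])))) (BT.node 70 (BT.node 69 (BT.node 68 (BT.leaf (6, [5, 6, 5, 6, 5, 6], [6, 5, 6, 5, 6, 5])) (BT.leaf (4, [7, 6, 7, 6], [6,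 7, 6, 7]))) (BT.leaf (2, [6, 6], [6, 6]))) (BT.node 71 (BT.leaf (4, [8, 6, 8, 6], [6, 8, 6, 8])) (BT.leaf (4, [0, 8, 0, 8], [8, 0, 8, 0]))))) (BT.node 77 (BT.node 75 (BT.node 74 (BT.node 73 (BT.leaf (4, [1, 8, 1, 8], [8, 1, 8, 1])) (BT.leaf (4, [2, 8, 2, 8], [8, 2, 8, 2]))) (BT.leaf (4, [3, 8, 3, 8], [8, 3, 8, 3]))) (BT.node 76 (BT.leaf (4, [4, 8, 4, 8], [8, 4, 8, 4])) (BT.leaf (4, [5, 8, 5, 8], [8, 5, 8, 5])))) (BT.node 80 (BT.node 79 (BT.node 78 (BT.leaf (6, [7, 8, 7, 8, 7, 8], [8, 7, 8, 7, 8, 7])) (BT.leaf (4, [6, 8, 6, 8], [8, 6, 8, 6]))) (BT.leaf (2, [8, 8], [8, 8]))) (BT.node 81 (BT.leaf (90, [8, 7, 3, 5, 4, 3, 1, 2, 3, 8, 7, 3, 5, 4, 3, 1, 2, 3, 8, 7, 3, 5, 4, 3, 1, 2, 3, 8, 7, 3, 5, 4, 3, 1, 2, 3, 8, 7, 3, 5, 4, 3, 1, 2, 3, 8, 7, 3, 5, 4, 3, 1, 2, 3, 8, 7, 3, 5, 4, 3, 1, 2, 3, 8, 7, 3, 5, 4, 3, 1, 2, 3, 8, 7, 3, 5, 4, 3, 1, 2,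 3, 8, 7, 3, 5, 4, 3, 1, 2, 3], [3, 2, 1, 3, 4, 5, 3, 7, 8, 3, 2, 1, 3, 4, 5, 3, 7, 8, 3, 2, 1, 3, 4, 5, 3, 7, 8, 3, 2, 1, 3, 4, 5, 3, 7, 8, 3, 2, 1, 3, 4, 5, 3, 7, 8, 3, 2, 1, 3, 4, 5, 3, 7, 8, 3, 2, 1, 3, 4, 5, 3, 7, 8, 3, 2, 1, 3, 4, 5, 3, 7, 8, 3, 2, 1, 3, 4, 5, 3, 7, 8, 3, 2, 1, 3, 4, 5, 3, 7, 8])) (BT.leaf (63, [7, 5, 4, 3, 2, 1, 0, 7, 5, 4, 3, 2, 1, 0, 7, 5, 4, 3, 2, 1, 0, 7, 5, 4, 3, 2, 1, 0, 7, 5, 4, 3, 2, 1, 0, 7, 5, 4, 3, 2, 1, 0, 7, 5, 4, 3, 2, 1, 0, 7, 5, 4, 3, 2, 1, 0, 7, 5, 4, 3, 2, 1, 0], [0, 1, 2, 3, 4, 5, 7, 0, 1, 2, 3, 4, 5, 7, 0, 1, 2, 3, 4, 5, 7, 0, 1, 2, 3, 4, 5, 7, 0, 1, 2, 3, 4, 5, 7, 0, 1, 2, 3, 4, 5, 7, 0, 1, 2, 3, 4, 5, 7, 0, 1, 2, 3, 4, 5, 7, 0, 1, 2, 3, 4, 5, 7]))))))))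
/-- subgroup generators -/
def subT : BT (ℕ × List ℕ × List ℕ) := (BT.node 3 (BT.node 1 (BT.node 0 (BT.leaf (1, [1], [1])) (BT.leaf (1, [2], [2]))) (BT.node 2 (BT.leaf (1, [3], [3])) (BT.leaf (1, [4], [4])))) (BT.node 5 (BT.node 4 (BT.leaf (1, [5], [5])) (BT.leaf (1, [6], [6]))) (BT.node 6 (BT.leaf (1, [7], [7])) (BT.leaf (1, [8], [8])))))
/-- fact chunks -/
def colET : BT ℕ := (BT.node 204 (BT.node 102 (BT.node 51 (BT.node 25 (BT.node 12 (BT.node 6 (BT.node 3 (BT.node 1 (BT.node 0 (BT.leaf cE0) (BT.leaf cE1)) (BT.node 2 (BT.leaf cE2) (BT.leaf cE3))) (BT.node 5 (BT.node 4 (BT.leaf cE4) (BT.leaf cE5)) (BT.leaf cE6))) (BT.node 9 (BT.node 8 (BT.node 7 (BT.leaf cE7) (BT.leaf cE8)) (BT.leaf cE9)) (BT.node 11 (BT.node 10 (BT.leaf cE10) (BT.leaf cE11)) (BT.leaf cE12)))) (BT.node 19 (BT.node 16 (BT.node 14 (BT.node 13 (BT.leaf cE13) (BT.leaf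 cE14)) (BT.node 15 (BT.leaf cE15) (BT.leaf cE16))) (BT.node 18 (BT.node 17 (BT.leaf cE17) (BT.leaf cE18)) (BT.leaf cE19))) (BT.node 22 (BT.node 21 (BT.node 20 (BT.leaf cE20) (BT.leaf cE21)) (BT.leaf cE22)) (BT.node 24 (BT.node 23 (BT.leaf cE23) (BT.leaf cE24)) (BT.leaf cE25))))) (BT.node 38 (BT.node 32 (BT.node 29 (BT.node 27 (BT.node 26 (BT.leaf cE26) (BT.leaf cE27)) (BT.node 28 (BT.leaf cE28) (BT.leaf cE29))) (BT.node 31 (BT.node 30 (BT.leaf cE30) (BT.leaf cE31)) (BT.leaf cE32))) (BT.node 35 (BT.node 34 (BT.node 33 (BT.leaf cE33) (BT.leaf cE34)) (BT.leaf cE35)) (BT.node 37 (BT.node 36 (BT.leaf cE36) (BT.leaf cE37)) (BT.leaf cE38)))) (BT.node 45 (BT.node 42 (BT.node 40 (BT.node 39 (BT.leaf cE39) (BT.leaf cE40)) (BT.node 41 (BT.leaf cE41) (BT.leaf cE42))) (BT.node 44 (BT.node 43 (BT.leaf cE43) (BT.leaf cE44)) (BT.leaf cE45))) (BT.node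 48 (BT.node 47 (BT.node 46 (BT.leaf cE46) (BT.leaf cE47)) (BT.leaf cE48)) (BT.node 50 (BT.node 49 (BT.leaf cE49) (BT.leaf cE50)) (BT.leaf cE51)))))) (BT.node 77 (BT.node 64 (BT.node 58 (BT.node 55 (BT.node 53 (BT.node 52 (BT.leaf cE52) (BT.leaf cE53)) (BT.node 54 (BT.leaf cE54) (BT.leaf cE55))) (BT.node 57 (BT.node 56 (BT.leaf cE56) (BT.leaf cE57)) (BT.leaf cE58))) (BT.node 61 (BT.node 60 (BT.node 59 (BT.leaf cE59) (BT.leaf cE60)) (BT.leaf cE61)) (BT.node 63 (BT.node 62 (BT.leaf cE62) (BT.leaf cE63)) (BT.leaf cE64)))) (BT.node 71 (BT.node 68 (BT.node 66 (BT.node 65 (BT.leaf cE65) (BT.leaf cE66)) (BT.node 67 (BT.leaf cE67) (BT.leaf cE68))) (BT.node 70 (BT.node 69 (BT.leaf cE69) (BT.leaf cE70)) (BT.leaf cE71))) (BT.node 74 (BT.node 73 (BT.node 72 (BT.leaf cE72) (BT.leaf cE73)) (BT.leaf cE74)) (BT.node 76 (BT.node 75 (BT.leaf cE75) (BT.leaf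 cE76)) (BT.leaf cE77))))) (BT.node 90 (BT.node 84 (BT.node 81 (BT.node 79 (BT.node 78 (BT.leaf cE78) (BT.leaf cE79)) (BT.node 80 (BT.leaf cE80) (BT.leaf cE81))) (BT.node 83 (BT.node 82 (BT.leaf cE82) (BT.leaf cE83)) (BT.leaf cE84))) (BT.node 87 (BT.node 86 (BT.node 85 (BT.leaf cE85) (BT.leaf cE86)) (BT.leaf cE87)) (BT.node 89 (BT.node 88 (BT.leaf cE88) (BT.leaf cE89)) (BT.leaf cE90)))) (BT.node 96 (BT.node 93 (BT.node 92 (BT.node 91 (BT.leaf cE91) (BT.leaf cE92)) (BT.leaf cE93)) (BT.node 95 (BT.node 94 (BT.leaf cE94) (BT.leaf cE95)) (BT.leaf cE96))) (BT.node 99 (BT.node 98 (BT.node 97 (BT.leaf cE97) (BT.leaf cE98)) (BT.leaf cE99)) (BT.node 101 (BT.node 100 (BT.leaf cE100) (BT.leaf cE101)) (BT.leaf cE102))))))) (BT.node 153 (BT.node 128 (BT.node 115 (BT.node 109 (BT.node 106 (BT.node 104 (BT.node 103 (BT.leaf cE103) (BT.leaf cE104)) (BT.node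 105 (BT.leaf cE105) (BT.leaf cE106))) (BT.node 108 (BT.node 107 (BT.leaf cE107) (BT.leaf cE108)) (BT.leaf cE109))) (BT.node 112 (BT.node 111 (BT.node 110 (BT.leaf cE110) (BT.leaf cE111)) (BT.leaf cE112)) (BT.node 114 (BT.node 113 (BT.leaf cE113) (BT.leaf cE114)) (BT.leaf cE115)))) (BT.node 122 (BT.node 119 (BT.node 117 (BT.node 116 (BT.leaf cE116) (BT.leaf cE117)) (BT.node 118 (BT.leaf cE118) (BT.leaf cE119))) (BT.node 121 (BT.node 120 (BT.leaf cE120) (BT.leaf cE121)) (BT.leaf cE122))) (BT.node 125 (BT.node 124 (BT.node 123 (BT.leaf cE123) (BT.leaf cE124)) (BT.leaf cE125)) (BT.node 127 (BT.node 126 (BT.leaf cE126) (BT.leaf cE127)) (BT.leaf cE128))))) (BT.node 141 (BT.node 135 (BT.node 132 (BT.node 130 (BT.node 129 (BT.leaf cE129) (BT.leaf cE130)) (BT.node 131 (BT.leaf cE131) (BT.leaf cE132))) (BT.node 134 (BT.node 133 (BT.leaf cE133)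 (BT.leaf cE134)) (BT.leaf cE135))) (BT.node 138 (BT.node 137 (BT.node 136 (BT.leaf cE136) (BT.leaf cE137)) (BT.leaf cE138)) (BT.node 140 (BT.node 139 (BT.leaf cE139) (BT.leaf cE140)) (BT.leaf cE141)))) (BT.node 147 (BT.node 144 (BT.node 143 (BT.node 142 (BT.leaf cE142) (BT.leaf cE143)) (BT.leaf cE144)) (BT.node 146 (BT.node 145 (BT.leaf cE145) (BT.leaf cE146)) (BT.leaf cE147))) (BT.node 150 (BT.node 149 (BT.node 148 (BT.leaf cE148) (BT.leaf cE149)) (BT.leaf cE150)) (BT.node 152 (BT.node 151 (BT.leaf cE151) (BT.leaf cE152)) (BT.leaf cE153)))))) (BT.node 179 (BT.node 166 (BT.node 160 (BT.node 157 (BT.node 155 (BT.node 154 (BT.leaf cE154) (BT.leaf cE155)) (BT.node 156 (BT.leaf cE156) (BT.leaf cE157))) (BT.node 159 (BT.node 158 (BT.leaf cE158) (BT.leaf cE159)) (BT.leaf cE160))) (BT.node 163 (BT.node 162 (BT.node 161 (BT.leaf cE161) (BT.leaf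 cE162)) (BT.leaf cE163)) (BT.node 165 (BT.node 164 (BT.leaf cE164) (BT.leaf cE165)) (BT.leaf cE166)))) (BT.node 173 (BT.node 170 (BT.node 168 (BT.node 167 (BT.leaf cE167) (BT.leaf cE168)) (BT.node 169 (BT.leaf cE169) (BT.leaf cE170))) (BT.node 172 (BT.node 171 (BT.leaf cE171) (BT.leaf cE172)) (BT.leaf cE173))) (BT.node 176 (BT.node 175 (BT.node 174 (BT.leaf cE174) (BT.leaf cE175)) (BT.leaf cE176)) (BT.node 178 (BT.node 177 (BT.leaf cE177) (BT.leaf cE178)) (BT.leaf cE179))))) (BT.node 192 (BT.node 186 (BT.node 183 (BT.node 181 (BT.node 180 (BT.leaf cE180) (BT.leaf cE181)) (BT.node 182 (BT.leaf cE182) (BT.leaf cE183))) (BT.node 185 (BT.node 184 (BT.leaf cE184) (BT.leaf cE185)) (BT.leaf cE186))) (BT.node 189 (BT.node 188 (BT.node 187 (BT.leaf cE187) (BT.leaf cE188)) (BT.leaf cE189)) (BT.node 191 (BT.node 190 (BT.leaf cE190) (BT.leaf cE191))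 (BT.leaf cE192)))) (BT.node 198 (BT.node 195 (BT.node 194 (BT.node 193 (BT.leaf cE193) (BT.leaf cE194)) (BT.leaf cE195)) (BT.node 197 (BT.node 196 (BT.leaf cE196) (BT.leaf cE197)) (BT.leaf cE198))) (BT.node 201 (BT.node 200 (BT.node 199 (BT.leaf cE199) (BT.leaf cE200)) (BT.leaf cE201)) (BT.node 203 (BT.node 202 (BT.leaf cE202) (BT.leaf cE203)) (BT.leaf cE204)))))))) (BT.node 307 (BT.node 256 (BT.node 230 (BT.node 217 (BT.node 211 (BT.node 208 (BT.node 206 (BT.node 205 (BT.leaf cE205) (BT.leaf cE206)) (BT.node 207 (BT.leaf cE207) (BT.leaf cE208))) (BT.node 210 (BT.node 209 (BT.leaf cE209) (BT.leaf cE210)) (BT.leaf cE211))) (BT.node 214 (BT.node 213 (BT.node 212 (BT.leaf cE212) (BT.leaf cE213)) (BT.leaf cE214)) (BT.node 216 (BT.node 215 (BT.leaf cE215) (BT.leaf cE216)) (BT.leaf cE217)))) (BT.node 224 (BT.node 221 (BT.node 219 (BT.node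 218 (BT.leaf cE218) (BT.leaf cE219)) (BT.node 220 (BT.leaf cE220) (BT.leaf cE221))) (BT.node 223 (BT.node 222 (BT.leaf cE222) (BT.leaf cE223)) (BT.leaf cE224))) (BT.node 227 (BT.node 226 (BT.node 225 (BT.leaf cE225) (BT.leaf cE226)) (BT.leaf cE227)) (BT.node 229 (BT.node 228 (BT.leaf cE228) (BT.leaf cE229)) (BT.leaf cE230))))) (BT.node 243 (BT.node 237 (BT.node 234 (BT.node 232 (BT.node 231 (BT.leaf cE231) (BT.leaf cE232)) (BT.node 233 (BT.leaf cE233) (BT.leaf cE234))) (BT.node 236 (BT.node 235 (BT.leaf cE235) (BT.leaf cE236)) (BT.leaf cE237))) (BT.node 240 (BT.node 239 (BT.node 238 (BT.leaf cE238) (BT.leaf cE239)) (BT.leaf cE240)) (BT.node 242 (BT.node 241 (BT.leaf cE241) (BT.leaf cE242)) (BT.leaf cE243)))) (BT.node 250 (BT.node 247 (BT.node 245 (BT.node 244 (BT.leaf cE244) (BT.leaf cE245)) (BT.node 246 (BT.leaf cE246) (BT.leaf cE247)))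 (BT.node 249 (BT.node 248 (BT.leaf cE248) (BT.leaf cE249)) (BT.leaf cE250))) (BT.node 253 (BT.node 252 (BT.node 251 (BT.leaf cE251) (BT.leaf cE252)) (BT.leaf cE253)) (BT.node 255 (BT.node 254 (BT.leaf cE254) (BT.leaf cE255)) (BT.leaf cE256)))))) (BT.node 282 (BT.node 269 (BT.node 263 (BT.node 260 (BT.node 258 (BT.node 257 (BT.leaf cE257) (BT.leaf cE258)) (BT.node 259 (BT.leaf cE259) (BT.leaf cE260))) (BT.node 262 (BT.node 261 (BT.leaf cE261) (BT.leaf cE262)) (BT.leaf cE263))) (BT.node 266 (BT.node 265 (BT.node 264 (BT.leaf cE264) (BT.leaf cE265)) (BT.leaf cE266)) (BT.node 268 (BT.node 267 (BT.leaf cE267) (BT.leaf cE268)) (BT.leaf cE269)))) (BT.node 276 (BT.node 273 (BT.node 271 (BT.node 270 (BT.leaf cE270) (BT.leaf cE271)) (BT.node 272 (BT.leaf cE272) (BT.leaf cE273))) (BT.node 275 (BT.node 274 (BT.leaf cE274) (BT.leaf cE275)) (BT.leaf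 cE276))) (BT.node 279 (BT.node 278 (BT.node 277 (BT.leaf cE277) (BT.leaf cE278)) (BT.leaf cE279)) (BT.node 281 (BT.node 280 (BT.leaf cE280) (BT.leaf cE281)) (BT.leaf cE282))))) (BT.node 295 (BT.node 289 (BT.node 286 (BT.node 284 (BT.node 283 (BT.leaf cE283) (BT.leaf cE284)) (BT.node 285 (BT.leaf cE285) (BT.leaf cE286))) (BT.node 288 (BT.node 287 (BT.leaf cE287) (BT.leaf cE288)) (BT.leaf cE289))) (BT.node 292 (BT.node 291 (BT.node 290 (BT.leaf cE290) (BT.leaf cE291)) (BT.leaf cE292)) (BT.node 294 (BT.node 293 (BT.leaf cE293) (BT.leaf cE294)) (BT.leaf cE295)))) (BT.node 301 (BT.node 298 (BT.node 297 (BT.node 296 (BT.leaf cE296) (BT.leaf cE297)) (BT.leaf cE298)) (BT.node 300 (BT.node 299 (BT.leaf cE299) (BT.leaf cE300)) (BT.leaf cE301))) (BT.node 304 (BT.node 303 (BT.node 302 (BT.leaf cE302) (BT.leaf cE303)) (BT.leaf cE304)) (BT.node 306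 (BT.node 305 (BT.leaf cE305) (BT.leaf cE306)) (BT.leaf cE307))))))) (BT.node 358 (BT.node 333 (BT.node 320 (BT.node 314 (BT.node 311 (BT.node 309 (BT.node 308 (BT.leaf cE308) (BT.leaf cE309)) (BT.node 310 (BT.leaf cE310) (BT.leaf cE311))) (BT.node 313 (BT.node 312 (BT.leaf cE312) (BT.leaf cE313)) (BT.leaf cE314))) (BT.node 317 (BT.node 316 (BT.node 315 (BT.leaf cE315) (BT.leaf cE316)) (BT.leaf cE317)) (BT.node 319 (BT.node 318 (BT.leaf cE318) (BT.leaf cE319)) (BT.leaf cE320)))) (BT.node 327 (BT.node 324 (BT.node 322 (BT.node 321 (BT.leaf cE321) (BT.leaf cE322)) (BT.node 323 (BT.leaf cE323) (BT.leaf cE324))) (BT.node 326 (BT.node 325 (BT.leaf cE325) (BT.leaf cE326)) (BT.leaf cE327))) (BT.node 330 (BT.node 329 (BT.node 328 (BT.leaf cE328) (BT.leaf cE329)) (BT.leaf cE330)) (BT.node 332 (BT.node 331 (BT.leaf cE331) (BT.leaf cE332)) (BT.leaf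 cE333))))) (BT.node 346 (BT.node 340 (BT.node 337 (BT.node 335 (BT.node 334 (BT.leaf cE334) (BT.leaf cE335)) (BT.node 336 (BT.leaf cE336) (BT.leaf cE337))) (BT.node 339 (BT.node 338 (BT.leaf cE338) (BT.leaf cE339)) (BT.leaf cE340))) (BT.node 343 (BT.node 342 (BT.node 341 (BT.leaf cE341) (BT.leaf cE342)) (BT.leaf cE343)) (BT.node 345 (BT.node 344 (BT.leaf cE344) (BT.leaf cE345)) (BT.leaf cE346)))) (BT.node 352 (BT.node 349 (BT.node 348 (BT.node 347 (BT.leaf cE347) (BT.leaf cE348)) (BT.leaf cE349)) (BT.node 351 (BT.node 350 (BT.leaf cE350) (BT.leaf cE351)) (BT.leaf cE352))) (BT.node 355 (BT.node 354 (BT.node 353 (BT.leaf cE353) (BT.leaf cE354)) (BT.leaf cE355)) (BT.node 357 (BT.node 356 (BT.leaf cE356) (BT.leaf cE357)) (BT.leaf cE358)))))) (BT.node 384 (BT.node 371 (BT.node 365 (BT.node 362 (BT.node 360 (BT.node 359 (BT.leaf cE359) (BT.leaf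 cE360)) (BT.node 361 (BT.leaf cE361) (BT.leaf cE362))) (BT.node 364 (BT.node 363 (BT.leaf cE363) (BT.leaf cE364)) (BT.leaf cE365))) (BT.node 368 (BT.node 367 (BT.node 366 (BT.leaf cE366) (BT.leaf cE367)) (BT.leaf cE368)) (BT.node 370 (BT.node 369 (BT.leaf cE369) (BT.leaf cE370)) (BT.leaf cE371)))) (BT.node 378 (BT.node 375 (BT.node 373 (BT.node 372 (BT.leaf cE372) (BT.leaf cE373)) (BT.node 374 (BT.leaf cE374) (BT.leaf cE375))) (BT.node 377 (BT.node 376 (BT.leaf cE376) (BT.leaf cE377)) (BT.leaf cE378))) (BT.node 381 (BT.node 380 (BT.node 379 (BT.leaf cE379) (BT.leaf cE380)) (BT.leaf cE381)) (BT.node 383 (BT.node 382 (BT.leaf cE382) (BT.leaf cE383)) (BT.leaf cE384))))) (BT.node 397 (BT.node 391 (BT.node 388 (BT.node 386 (BT.node 385 (BT.leaf cE385) (BT.leaf cE386)) (BT.node 387 (BT.leaf cE387) (BT.leaf cE388))) (BT.node 390 (BT.node 389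 (BT.leaf cE389) (BT.leaf cE390)) (BT.leaf cE391))) (BT.node 394 (BT.node 393 (BT.node 392 (BT.leaf cE392) (BT.leaf cE393)) (BT.leaf cE394)) (BT.node 396 (BT.node 395 (BT.leaf cE395) (BT.leaf cE396)) (BT.leaf cE397)))) (BT.node 403 (BT.node 400 (BT.node 399 (BT.node 398 (BT.leaf cE398) (BT.leaf cE399)) (BT.leaf cE400)) (BT.node 402 (BT.node 401 (BT.leaf cE401) (BT.leaf cE402)) (BT.leaf cE403))) (BT.node 406 (BT.node 405 (BT.node 404 (BT.leaf cE404) (BT.leaf cE405)) (BT.leaf cE406)) (BT.node 408 (BT.node 407 (BT.leaf cE407) (BT.leaf cE408)) (BT.leaf cE409)))))))))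
/-- justification chunks -/
def colJT : BT ℕ := (BT.node 204 (BT.node 102 (BT.node 51 (BT.node 25 (BT.node 12 (BT.node 6 (BT.node 3 (BT.node 1 (BT.node 0 (BT.leaf cJ0) (BT.leaf cJ1)) (BT.node 2 (BT.leaf cJ2) (BT.leaf cJ3))) (BT.node 5 (BT.node 4 (BT.leaf cJ4) (BT.leaf cJ5)) (BT.leaf cJ6))) (BT.node 9 (BT.node 8 (BT.node 7 (BT.leaf cJ7) (BT.leaf cJ8)) (BT.leaf cJ9)) (BT.node 11 (BT.node 10 (BT.leaf cJ10) (BT.leaf cJ11)) (BT.leaf cJ12)))) (BT.node 19 (BT.node 16 (BT.node 14 (BT.node 13 (BT.leaf cJ13) (BT.leaf cJ14)) (BT.node 15 (BT.leaf cJ15) (BT.leaf cJ16))) (BT.node 18 (BT.node 17 (BT.leaf cJ17) (BT.leaf cJ18)) (BT.leaf cJ19))) (BT.node 22 (BT.node 21 (BT.node 20 (BT.leaf cJ20) (BT.leaf cJ21)) (BT.leaf cJ22)) (BT.node 24 (BT.node 23 (BT.leaf cJ23) (BT.leaf cJ24)) (BT.leaf cJ25))))) (BT.node 38 (BT.node 32 (BT.node 29 (BT.node 27 (BT.node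 26 (BT.leaf cJ26) (BT.leaf cJ27)) (BT.node 28 (BT.leaf cJ28) (BT.leaf cJ29))) (BT.node 31 (BT.node 30 (BT.leaf cJ30) (BT.leaf cJ31)) (BT.leaf cJ32))) (BT.node 35 (BT.node 34 (BT.node 33 (BT.leaf cJ33) (BT.leaf cJ34)) (BT.leaf cJ35)) (BT.node 37 (BT.node 36 (BT.leaf cJ36) (BT.leaf cJ37)) (BT.leaf cJ38)))) (BT.node 45 (BT.node 42 (BT.node 40 (BT.node 39 (BT.leaf cJ39) (BT.leaf cJ40)) (BT.node 41 (BT.leaf cJ41) (BT.leaf cJ42))) (BT.node 44 (BT.node 43 (BT.leaf cJ43) (BT.leaf cJ44)) (BT.leaf cJ45))) (BT.node 48 (BT.node 47 (BT.node 46 (BT.leaf cJ46) (BT.leaf cJ47)) (BT.leaf cJ48)) (BT.node 50 (BT.node 49 (BT.leaf cJ49) (BT.leaf cJ50)) (BT.leaf cJ51)))))) (BT.node 77 (BT.node 64 (BT.node 58 (BT.node 55 (BT.node 53 (BT.node 52 (BT.leaf cJ52) (BT.leaf cJ53)) (BT.node 54 (BT.leaf cJ54) (BT.leaf cJ55))) (BT.node 57 (BT.node 56 (BT.leaf cJ56)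 (BT.leaf cJ57)) (BT.leaf cJ58))) (BT.node 61 (BT.node 60 (BT.node 59 (BT.leaf cJ59) (BT.leaf cJ60)) (BT.leaf cJ61)) (BT.node 63 (BT.node 62 (BT.leaf cJ62) (BT.leaf cJ63)) (BT.leaf cJ64)))) (BT.node 71 (BT.node 68 (BT.node 66 (BT.node 65 (BT.leaf cJ65) (BT.leaf cJ66)) (BT.node 67 (BT.leaf cJ67) (BT.leaf cJ68))) (BT.node 70 (BT.node 69 (BT.leaf cJ69) (BT.leaf cJ70)) (BT.leaf cJ71))) (BT.node 74 (BT.node 73 (BT.node 72 (BT.leaf cJ72) (BT.leaf cJ73)) (BT.leaf cJ74)) (BT.node 76 (BT.node 75 (BT.leaf cJ75) (BT.leaf cJ76)) (BT.leaf cJ77))))) (BT.node 90 (BT.node 84 (BT.node 81 (BT.node 79 (BT.node 78 (BT.leaf cJ78) (BT.leaf cJ79)) (BT.node 80 (BT.leaf cJ80) (BT.leaf cJ81))) (BT.node 83 (BT.node 82 (BT.leaf cJ82) (BT.leaf cJ83)) (BT.leaf cJ84))) (BT.node 87 (BT.node 86 (BT.node 85 (BT.leaf cJ85) (BT.leaf cJ86)) (BT.leaf cJ87)) (BT.node 89 (BT.node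 88 (BT.leaf cJ88) (BT.leaf cJ89)) (BT.leaf cJ90)))) (BT.node 96 (BT.node 93 (BT.node 92 (BT.node 91 (BT.leaf cJ91) (BT.leaf cJ92)) (BT.leaf cJ93)) (BT.node 95 (BT.node 94 (BT.leaf cJ94) (BT.leaf cJ95)) (BT.leaf cJ96))) (BT.node 99 (BT.node 98 (BT.node 97 (BT.leaf cJ97) (BT.leaf cJ98)) (BT.leaf cJ99)) (BT.node 101 (BT.node 100 (BT.leaf cJ100) (BT.leaf cJ101)) (BT.leaf cJ102))))))) (BT.node 153 (BT.node 128 (BT.node 115 (BT.node 109 (BT.node 106 (BT.node 104 (BT.node 103 (BT.leaf cJ103) (BT.leaf cJ104)) (BT.node 105 (BT.leaf cJ105) (BT.leaf cJ106))) (BT.node 108 (BT.node 107 (BT.leaf cJ107) (BT.leaf cJ108)) (BT.leaf cJ109))) (BT.node 112 (BT.node 111 (BT.node 110 (BT.leaf cJ110) (BT.leaf cJ111)) (BT.leaf cJ112)) (BT.node 114 (BT.node 113 (BT.leaf cJ113) (BT.leaf cJ114)) (BT.leaf cJ115)))) (BT.node 122 (BT.node 119 (BT.node 117 (BT.node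 116 (BT.leaf cJ116) (BT.leaf cJ117)) (BT.node 118 (BT.leaf cJ118) (BT.leaf cJ119))) (BT.node 121 (BT.node 120 (BT.leaf cJ120) (BT.leaf cJ121)) (BT.leaf cJ122))) (BT.node 125 (BT.node 124 (BT.node 123 (BT.leaf cJ123) (BT.leaf cJ124)) (BT.leaf cJ125)) (BT.node 127 (BT.node 126 (BT.leaf cJ126) (BT.leaf cJ127)) (BT.leaf cJ128))))) (BT.node 141 (BT.node 135 (BT.node 132 (BT.node 130 (BT.node 129 (BT.leaf cJ129) (BT.leaf cJ130)) (BT.node 131 (BT.leaf cJ131) (BT.leaf cJ132))) (BT.node 134 (BT.node 133 (BT.leaf cJ133) (BT.leaf cJ134)) (BT.leaf cJ135))) (BT.node 138 (BT.node 137 (BT.node 136 (BT.leaf cJ136) (BT.leaf cJ137)) (BT.leaf cJ138)) (BT.node 140 (BT.node 139 (BT.leaf cJ139) (BT.leaf cJ140)) (BT.leaf cJ141)))) (BT.node 147 (BT.node 144 (BT.node 143 (BT.node 142 (BT.leaf cJ142) (BT.leaf cJ143)) (BT.leaf cJ144)) (BT.node 146 (BT.node 145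 (BT.leaf cJ145) (BT.leaf cJ146)) (BT.leaf cJ147))) (BT.node 150 (BT.node 149 (BT.node 148 (BT.leaf cJ148) (BT.leaf cJ149)) (BT.leaf cJ150)) (BT.node 152 (BT.node 151 (BT.leaf cJ151) (BT.leaf cJ152)) (BT.leaf cJ153)))))) (BT.node 179 (BT.node 166 (BT.node 160 (BT.node 157 (BT.node 155 (BT.node 154 (BT.leaf cJ154) (BT.leaf cJ155)) (BT.node 156 (BT.leaf cJ156) (BT.leaf cJ157))) (BT.node 159 (BT.node 158 (BT.leaf cJ158) (BT.leaf cJ159)) (BT.leaf cJ160))) (BT.node 163 (BT.node 162 (BT.node 161 (BT.leaf cJ161) (BT.leaf cJ162)) (BT.leaf cJ163)) (BT.node 165 (BT.node 164 (BT.leaf cJ164) (BT.leaf cJ165)) (BT.leaf cJ166)))) (BT.node 173 (BT.node 170 (BT.node 168 (BT.node 167 (BT.leaf cJ167) (BT.leaf cJ168)) (BT.node 169 (BT.leaf cJ169) (BT.leaf cJ170))) (BT.node 172 (BT.node 171 (BT.leaf cJ171) (BT.leaf cJ172)) (BT.leaf cJ173))) (BT.node 176 (BT.node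 175 (BT.node 174 (BT.leaf cJ174) (BT.leaf cJ175)) (BT.leaf cJ176)) (BT.node 178 (BT.node 177 (BT.leaf cJ177) (BT.leaf cJ178)) (BT.leaf cJ179))))) (BT.node 192 (BT.node 186 (BT.node 183 (BT.node 181 (BT.node 180 (BT.leaf cJ180) (BT.leaf cJ181)) (BT.node 182 (BT.leaf cJ182) (BT.leaf cJ183))) (BT.node 185 (BT.node 184 (BT.leaf cJ184) (BT.leaf cJ185)) (BT.leaf cJ186))) (BT.node 189 (BT.node 188 (BT.node 187 (BT.leaf cJ187) (BT.leaf cJ188)) (BT.leaf cJ189)) (BT.node 191 (BT.node 190 (BT.leaf cJ190) (BT.leaf cJ191)) (BT.leaf cJ192)))) (BT.node 198 (BT.node 195 (BT.node 194 (BT.node 193 (BT.leaf cJ193) (BT.leaf cJ194)) (BT.leaf cJ195)) (BT.node 197 (BT.node 196 (BT.leaf cJ196) (BT.leaf cJ197)) (BT.leaf cJ198))) (BT.node 201 (BT.node 200 (BT.node 199 (BT.leaf cJ199) (BT.leaf cJ200)) (BT.leaf cJ201)) (BT.node 203 (BT.node 202 (BT.leaf cJ202)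 (BT.leaf cJ203)) (BT.leaf cJ204)))))))) (BT.node 307 (BT.node 256 (BT.node 230 (BT.node 217 (BT.node 211 (BT.node 208 (BT.node 206 (BT.node 205 (BT.leaf cJ205) (BT.leaf cJ206)) (BT.node 207 (BT.leaf cJ207) (BT.leaf cJ208))) (BT.node 210 (BT.node 209 (BT.leaf cJ209) (BT.leaf cJ210)) (BT.leaf cJ211))) (BT.node 214 (BT.node 213 (BT.node 212 (BT.leaf cJ212) (BT.leaf cJ213)) (BT.leaf cJ214)) (BT.node 216 (BT.node 215 (BT.leaf cJ215) (BT.leaf cJ216)) (BT.leaf cJ217)))) (BT.node 224 (BT.node 221 (BT.node 219 (BT.node 218 (BT.leaf cJ218) (BT.leaf cJ219)) (BT.node 220 (BT.leaf cJ220) (BT.leaf cJ221))) (BT.node 223 (BT.node 222 (BT.leaf cJ222) (BT.leaf cJ223)) (BT.leaf cJ224))) (BT.node 227 (BT.node 226 (BT.node 225 (BT.leaf cJ225) (BT.leaf cJ226)) (BT.leaf cJ227)) (BT.node 229 (BT.node 228 (BT.leaf cJ228) (BT.leaf cJ229)) (BT.leaf cJ230)))))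 (BT.node 243 (BT.node 237 (BT.node 234 (BT.node 232 (BT.node 231 (BT.leaf cJ231) (BT.leaf cJ232)) (BT.node 233 (BT.leaf cJ233) (BT.leaf cJ234))) (BT.node 236 (BT.node 235 (BT.leaf cJ235) (BT.leaf cJ236)) (BT.leaf cJ237))) (BT.node 240 (BT.node 239 (BT.node 238 (BT.leaf cJ238) (BT.leaf cJ239)) (BT.leaf cJ240)) (BT.node 242 (BT.node 241 (BT.leaf cJ241) (BT.leaf cJ242)) (BT.leaf cJ243)))) (BT.node 250 (BT.node 247 (BT.node 245 (BT.node 244 (BT.leaf cJ244) (BT.leaf cJ245)) (BT.node 246 (BT.leaf cJ246) (BT.leaf cJ247))) (BT.node 249 (BT.node 248 (BT.leaf cJ248) (BT.leaf cJ249)) (BT.leaf cJ250))) (BT.node 253 (BT.node 252 (BT.node 251 (BT.leaf cJ251) (BT.leaf cJ252)) (BT.leaf cJ253)) (BT.node 255 (BT.node 254 (BT.leaf cJ254) (BT.leaf cJ255)) (BT.leaf cJ256)))))) (BT.node 282 (BT.node 269 (BT.node 263 (BT.node 260 (BT.node 258 (BT.node 257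 (BT.leaf cJ257) (BT.leaf cJ258)) (BT.node 259 (BT.leaf cJ259) (BT.leaf cJ260))) (BT.node 262 (BT.node 261 (BT.leaf cJ261) (BT.leaf cJ262)) (BT.leaf cJ263))) (BT.node 266 (BT.node 265 (BT.node 264 (BT.leaf cJ264) (BT.leaf cJ265)) (BT.leaf cJ266)) (BT.node 268 (BT.node 267 (BT.leaf cJ267) (BT.leaf cJ268)) (BT.leaf cJ269)))) (BT.node 276 (BT.node 273 (BT.node 271 (BT.node 270 (BT.leaf cJ270) (BT.leaf cJ271)) (BT.node 272 (BT.leaf cJ272) (BT.leaf cJ273))) (BT.node 275 (BT.node 274 (BT.leaf cJ274) (BT.leaf cJ275)) (BT.leaf cJ276))) (BT.node 279 (BT.node 278 (BT.node 277 (BT.leaf cJ277) (BT.leaf cJ278)) (BT.leaf cJ279)) (BT.node 281 (BT.node 280 (BT.leaf cJ280) (BT.leaf cJ281)) (BT.leaf cJ282))))) (BT.node 295 (BT.node 289 (BT.node 286 (BT.node 284 (BT.node 283 (BT.leaf cJ283) (BT.leaf cJ284)) (BT.node 285 (BT.leaf cJ285) (BT.leaf cJ286)))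 (BT.node 288 (BT.node 287 (BT.leaf cJ287) (BT.leaf cJ288)) (BT.leaf cJ289))) (BT.node 292 (BT.node 291 (BT.node 290 (BT.leaf cJ290) (BT.leaf cJ291)) (BT.leaf cJ292)) (BT.node 294 (BT.node 293 (BT.leaf cJ293) (BT.leaf cJ294)) (BT.leaf cJ295)))) (BT.node 301 (BT.node 298 (BT.node 297 (BT.node 296 (BT.leaf cJ296) (BT.leaf cJ297)) (BT.leaf cJ298)) (BT.node 300 (BT.node 299 (BT.leaf cJ299) (BT.leaf cJ300)) (BT.leaf cJ301))) (BT.node 304 (BT.node 303 (BT.node 302 (BT.leaf cJ302) (BT.leaf cJ303)) (BT.leaf cJ304)) (BT.node 306 (BT.node 305 (BT.leaf cJ305) (BT.leaf cJ306)) (BT.leaf cJ307))))))) (BT.node 358 (BT.node 333 (BT.node 320 (BT.node 314 (BT.node 311 (BT.node 309 (BT.node 308 (BT.leaf cJ308) (BT.leaf cJ309)) (BT.node 310 (BT.leaf cJ310) (BT.leaf cJ311))) (BT.node 313 (BT.node 312 (BT.leaf cJ312) (BT.leaf cJ313)) (BT.leaf cJ314))) (BT.node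 317 (BT.node 316 (BT.node 315 (BT.leaf cJ315) (BT.leaf cJ316)) (BT.leaf cJ317)) (BT.node 319 (BT.node 318 (BT.leaf cJ318) (BT.leaf cJ319)) (BT.leaf cJ320)))) (BT.node 327 (BT.node 324 (BT.node 322 (BT.node 321 (BT.leaf cJ321) (BT.leaf cJ322)) (BT.node 323 (BT.leaf cJ323) (BT.leaf cJ324))) (BT.node 326 (BT.node 325 (BT.leaf cJ325) (BT.leaf cJ326)) (BT.leaf cJ327))) (BT.node 330 (BT.node 329 (BT.node 328 (BT.leaf cJ328) (BT.leaf cJ329)) (BT.leaf cJ330)) (BT.node 332 (BT.node 331 (BT.leaf cJ331) (BT.leaf cJ332)) (BT.leaf cJ333))))) (BT.node 346 (BT.node 340 (BT.node 337 (BT.node 335 (BT.node 334 (BT.leaf cJ334) (BT.leaf cJ335)) (BT.node 336 (BT.leaf cJ336) (BT.leaf cJ337))) (BT.node 339 (BT.node 338 (BT.leaf cJ338) (BT.leaf cJ339)) (BT.leaf cJ340))) (BT.node 343 (BT.node 342 (BT.node 341 (BT.leaf cJ341) (BT.leaf cJ342)) (BT.leaf cJ343))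 (BT.node 345 (BT.node 344 (BT.leaf cJ344) (BT.leaf cJ345)) (BT.leaf cJ346)))) (BT.node 352 (BT.node 349 (BT.node 348 (BT.node 347 (BT.leaf cJ347) (BT.leaf cJ348)) (BT.leaf cJ349)) (BT.node 351 (BT.node 350 (BT.leaf cJ350) (BT.leaf cJ351)) (BT.leaf cJ352))) (BT.node 355 (BT.node 354 (BT.node 353 (BT.leaf cJ353) (BT.leaf cJ354)) (BT.leaf cJ355)) (BT.node 357 (BT.node 356 (BT.leaf cJ356) (BT.leaf cJ357)) (BT.leaf cJ358)))))) (BT.node 384 (BT.node 371 (BT.node 365 (BT.node 362 (BT.node 360 (BT.node 359 (BT.leaf cJ359) (BT.leaf cJ360)) (BT.node 361 (BT.leaf cJ361) (BT.leaf cJ362))) (BT.node 364 (BT.node 363 (BT.leaf cJ363) (BT.leaf cJ364)) (BT.leaf cJ365))) (BT.node 368 (BT.node 367 (BT.node 366 (BT.leaf cJ366) (BT.leaf cJ367)) (BT.leaf cJ368)) (BT.node 370 (BT.node 369 (BT.leaf cJ369) (BT.leaf cJ370)) (BT.leaf cJ371)))) (BT.node 378 (BT.node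 375 (BT.node 373 (BT.node 372 (BT.leaf cJ372) (BT.leaf cJ373)) (BT.node 374 (BT.leaf cJ374) (BT.leaf cJ375))) (BT.node 377 (BT.node 376 (BT.leaf cJ376) (BT.leaf cJ377)) (BT.leaf cJ378))) (BT.node 381 (BT.node 380 (BT.node 379 (BT.leaf cJ379) (BT.leaf cJ380)) (BT.leaf cJ381)) (BT.node 383 (BT.node 382 (BT.leaf cJ382) (BT.leaf cJ383)) (BT.leaf cJ384))))) (BT.node 397 (BT.node 391 (BT.node 388 (BT.node 386 (BT.node 385 (BT.leaf cJ385) (BT.leaf cJ386)) (BT.node 387 (BT.leaf cJ387) (BT.leaf cJ388))) (BT.node 390 (BT.node 389 (BT.leaf cJ389) (BT.leaf cJ390)) (BT.leaf cJ391))) (BT.node 394 (BT.node 393 (BT.node 392 (BT.leaf cJ392) (BT.leaf cJ393)) (BT.leaf cJ394)) (BT.node 396 (BT.node 395 (BT.leaf cJ395) (BT.leaf cJ396)) (BT.leaf cJ397)))) (BT.node 403 (BT.node 400 (BT.node 399 (BT.node 398 (BT.leaf cJ398) (BT.leaf cJ399)) (BT.leaf cJ400))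 (BT.node 402 (BT.node 401 (BT.leaf cJ401) (BT.leaf cJ402)) (BT.leaf cJ403))) (BT.node 406 (BT.node 405 (BT.node 404 (BT.leaf cJ404) (BT.leaf cJ405)) (BT.leaf cJ406)) (BT.node 408 (BT.node 407 (BT.leaf cJ407) (BT.leaf cJ408)) (BT.leaf cJ409)))))))))
/-- parent chunks -/
def parCT : BT ℕ := (BT.node 20 (BT.node 10 (BT.node 5 (BT.node 2 (BT.node 1 (BT.node 0 (BT.leaf cP0) (BT.leaf cP1)) (BT.leaf cP2)) (BT.node 4 (BT.node 3 (BT.leaf cP3) (BT.leaf cP4)) (BT.leaf cP5))) (BT.node 8 (BT.node 7 (BT.node 6 (BT.leaf cP6) (BT.leaf cP7)) (BT.leaf cP8)) (BT.node 9 (BT.leaf cP9) (BT.leaf cP10)))) (BT.node 15 (BT.node 13 (BT.node 12 (BT.node 11 (BT.leaf cP11) (BT.leaf cP12)) (BT.leaf cP13)) (BT.node 14 (BT.leaf cP14) (BT.leaf cP15))) (BT.node 18 (BT.node 17 (BT.node 16 (BT.leaf cP16) (BT.leaf cP17)) (BT.leaf cP18)) (BT.node 19 (BT.leaf cP19) (BT.leaf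 cP20))))) (BT.node 30 (BT.node 25 (BT.node 23 (BT.node 22 (BT.node 21 (BT.leaf cP21) (BT.leaf cP22)) (BT.leaf cP23)) (BT.node 24 (BT.leaf cP24) (BT.leaf cP25))) (BT.node 28 (BT.node 27 (BT.node 26 (BT.leaf cP26) (BT.leaf cP27)) (BT.leaf cP28)) (BT.node 29 (BT.leaf cP29) (BT.leaf cP30)))) (BT.node 35 (BT.node 33 (BT.node 32 (BT.node 31 (BT.leaf cP31) (BT.leaf cP32)) (BT.leaf cP33)) (BT.node 34 (BT.leaf cP34) (BT.leaf cP35))) (BT.node 38 (BT.node 37 (BT.node 36 (BT.leaf cP36) (BT.leaf cP37)) (BT.leaf cP38)) (BT.node 39 (BT.leaf cP39) (BT.leaf cP40))))))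
/-- the certificate -/
def data : Data where
  k := 9
  N := 20592
  W := 33
  MW := 8589934592
  B := 32768
  CH := 512
  NCH := 41
  colE := colET
  JW := 64
  MJ := 18446744073709551616
  A := 1048576
  colJ := colJT
  PW := 24
  MP := 16777216
  parC := parCT
  inv := (BT.node 4 (BT.node 2 (BT.node 1 (BT.node 0 (BT.leaf 0) (BT.leaf 1)) (BT.leaf 2)) (BT.node 3 (BT.leaf 3) (BT.leaf 4))) (BT.node 7 (BT.node 6 (BT.node 5 (BT.leaf 5) (BT.leaf 6)) (BT.leaf 7)) (BT.node 8 (BT.leaf 8) (BT.leaf 9))))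
  rel := relT
  sub := subT
  fuel := 64

end Cfsg.Agent.Lib.Helper28.TCFi23W1Data
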