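import Cfsg.Agent.Lib.Helper28.TCFi23W1Data
import Cfsg.Agent.Lib.Helper28.TCFi23W1U0
set_option autoImplicit false
set_option maxRecDepth 100000
set_option maxHeartbeats 0

namespace Cfsg.Agent.Lib.Helper28.TCFi23W1U4
open Cfsg.Agent.Lib.Helper28.TC2Upper Cfsg.Agent.Lib.Helper28.TCFi23W1Data

theorem chk20 : data.checkRange 17100 600 = true := by decide +kernel
theorem chk21 : data.checkRange 17700 600 = true := by decide +kernel
theorem chk22 : data.checkRange 18300 600 = true := by decide +kernel
theorem chk23 : data.checkRange 18900 600 = true := by decide +kernel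
theorem chk24 : data.checkRange 19500 600 = true := by decide +kernel

end Cfsg.Agent.Lib.Helper28.TCFi23W1U4
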