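import Cfsg.Agent.Lib.Helper28.TC2GlueOrb
import Cfsg.Agent.Lib.Helper28.TC2Range
import Cfsg.Agent.Lib.Helper28.TCFi23W1Link
import Cfsg.Agent.Lib.Helper28.TCFi23W1M
import Cfsg.Agent.Lib.Helper28.TCFi23W1M0
import Cfsg.Agent.Lib.Helper28.TCFi23W1M1
import Cfsg.Agent.Lib.Helper28.TCFi23W1U0
import Cfsg.Agent.Lib.Helper28.TCFi23W1U1
import Cfsg.Agent.Lib.Helper28.TCFi23W1U2
import Cfsg.Agent.Lib.Helper28.TCFi23W1U3
import Cfsg.Agent.Lib.Helper28.TCFi23W1U4
import Cfsg.Agent.Lib.Helper28.TCFi23W1U5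
import Cfsg.Agent.Lib.Helper28.TCFi23W1L0
import Cfsg.Agent.Lib.Helper28.TCFi23W1L1
import Cfsg.Agent.Lib.Helper28.TCFi23W1L2

set_option autoImplicit false
set_option maxRecDepth 100000
open Cfsg

namespace Cfsg.Agent.Lib.Helper28.TCFi23W1Main
open Cfsg.Agent.Lib.Helper28.TC2Upper Cfsg.Agent.Lib.Helper28.TC2Lower Cfsg.Agent.Lib.Helper28.TC2Glue Cfsg.Agent.Lib.Helper28.TC2GlueOrb Cfsg.Agent.Lib.Helper28.TC2Orbit Cfsg.Agent.Lib.Helper28.TC2Range
open Cfsg.Agent.Lib.Helper28.TCFi23W1Data Cfsg.Agent.Lib.Helper28.TCFi23W1Table Cfsg.Agent.Lib.Helper28.TCFi23W1Link Cfsg.Agent.Lib.Helper28.TCFi23W1M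

theorem hchk : ∀ v, v < data.N → data.checkNode v = true := by
  intro v hv
  have hv' : v < 20592 := hv
  rcases Nat.lt_or_ge v 682 with h0 | h0
  · exact (data.checkRange_iff 0 682).mp Cfsg.Agent.Lib.Helper28.TCFi23W1U0.chk0 v (by omega) (by omega)
  rcases Nat.lt_or_ge v 1477 with h1 | h1
  · exact (data.checkRange_iff 682 795).mp Cfsg.Agent.Lib.Helper28.TCFi23W1U0.chk1 v (by omega) (by omega)
  rcases Nat.lt_or_ge v 2474 with h2 | h2
  · exact (data.checkRange_iff 1477 997).mp Cfsg.Agent.Lib.Helper28.TCFi23W1U0.chk2 v (by omega) (by omega)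
  rcases Nat.lt_or_ge v 3493 with h3 | h3
  · exact (data.checkRange_iff 2474 1019).mp Cfsg.Agent.Lib.Helper28.TCFi23W1U0.chk3 v (by omega) (by omega)
  rcases Nat.lt_or_ge v 4658 with h4 | h4
  · exact (data.checkRange_iff 3493 1165).mp Cfsg.Agent.Lib.Helper28.TCFi23W1U0.chk4 v (by omega) (by omega)
  rcases Nat.lt_or_ge v 6102 with h5 | h5
  · exact (data.checkRange_iff 4658 1444).mp Cfsg.Agent.Lib.Helper28.TCFi23W1U1.chk5 v (by omega) (by omega)
  rcases Nat.lt_or_ge v 7286 with h6 | h6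
  · exact (data.checkRange_iff 6102 1184).mp Cfsg.Agent.Lib.Helper28.TCFi23W1U1.chk6 v (by omega) (by omega)
  rcases Nat.lt_or_ge v 8678 with h7 | h7
  · exact (data.checkRange_iff 7286 1392).mp Cfsg.Agent.Lib.Helper28.TCFi23W1U1.chk7 v (by omega) (by omega)
  rcases Nat.lt_or_ge v 10061 with h8 | h8
  · exact (data.checkRange_iff 8678 1383).mp Cfsg.Agent.Lib.Helper28.TCFi23W1U1.chk8 v (by omega) (by omega)
  rcases Nat.lt_or_ge v 10839 with h9 | h9
  · exact (data.checkRange_iff 10061 778).mp Cfsg.Agent.Lib.Helper28.TCFi23W1U1.chk9 v (by omega) (by omega)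
  rcases Nat.lt_or_ge v 11694 with h10 | h10
  · exact (data.checkRange_iff 10839 855).mp Cfsg.Agent.Lib.Helper28.TCFi23W1U2.chk10 v (by omega) (by omega)
  rcases Nat.lt_or_ge v 12298 with h11 | h11
  · exact (data.checkRange_iff 11694 604).mp Cfsg.Agent.Lib.Helper28.TCFi23W1U2.chk11 v (by omega) (by omega)
  rcases Nat.lt_or_ge v 12898 with h12 | h12
  · exact (data.checkRange_iff 12298 600).mp Cfsg.Agent.Lib.Helper28.TCFi23W1U2.chk12 v (by omega) (by omega)
  rcases Nat.lt_or_ge v 13500 with h13 | h13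
  · exact (data.checkRange_iff 12898 602).mp Cfsg.Agent.Lib.Helper28.TCFi23W1U2.chk13 v (by omega) (by omega)
  rcases Nat.lt_or_ge v 14100 with h14 | h14
  · exact (data.checkRange_iff 13500 600).mp Cfsg.Agent.Lib.Helper28.TCFi23W1U2.chk14 v (by omega) (by omega)
  rcases Nat.lt_or_ge v 14700 with h15 | h15
  · exact (data.checkRange_iff 14100 600).mp Cfsg.Agent.Lib.Helper28.TCFi23W1U3.chk15 v (by omega) (by omega)
  rcases Nat.lt_or_ge v 15300 with h16 | h16
  · exact (data.checkRange_iff 14700 600).mp Cfsg.Agent.Lib.Helper28.TCFi23W1U3.chk16 v (by omega) (by omega)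
  rcases Nat.lt_or_ge v 15900 with h17 | h17
  · exact (data.checkRange_iff 15300 600).mp Cfsg.Agent.Lib.Helper28.TCFi23W1U3.chk17 v (by omega) (by omega)
  rcases Nat.lt_or_ge v 16500 with h18 | h18
  · exact (data.checkRange_iff 15900 600).mp Cfsg.Agent.Lib.Helper28.TCFi23W1U3.chk18 v (by omega) (by omega)
  rcases Nat.lt_or_ge v 17100 with h19 | h19
  · exact (data.checkRange_iff 16500 600).mp Cfsg.Agent.Lib.Helper28.TCFi23W1U3.chk19 v (by omega) (by omega)
  rcases Nat.lt_or_ge v 17700 with h20 | h20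
  · exact (data.checkRange_iff 17100 600).mp Cfsg.Agent.Lib.Helper28.TCFi23W1U4.chk20 v (by omega) (by omega)
  rcases Nat.lt_or_ge v 18300 with h21 | h21
  · exact (data.checkRange_iff 17700 600).mp Cfsg.Agent.Lib.Helper28.TCFi23W1U4.chk21 v (by omega) (by omega)
  rcases Nat.lt_or_ge v 18900 with h22 | h22
  · exact (data.checkRange_iff 18300 600).mp Cfsg.Agent.Lib.Helper28.TCFi23W1U4.chk22 v (by omega) (by omega)
  rcases Nat.lt_or_ge v 19500 with h23 | h23
  · exact (data.checkRange_iff 18900 600).mp Cfsg.Agent.Lib.Helper28.TCFi23W1U4.chk23 v (by omega) (by omega)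
  rcases Nat.lt_or_ge v 20100 with h24 | h24
  · exact (data.checkRange_iff 19500 600).mp Cfsg.Agent.Lib.Helper28.TCFi23W1U4.chk24 v (by omega) (by omega)
  exact (data.checkRange_iff 20100 492).mp Cfsg.Agent.Lib.Helper28.TCFi23W1U5.chk25 v (by omega) (by omega)

theorem hrows : ∀ v, v < data.N → Data.rowOK data v = true := by
  intro v hv
  have hv' : v < 20592 := hv
  rcases Nat.lt_or_ge v 9259 with h0 | h0
  · exact (Data.finalRange_iff data 0 9259).mp Cfsg.Agent.Lib.Helper28.TCFi23W1M0.fin0 v (by omega) (by omega)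
  rcases Nat.lt_or_ge v 18518 with h1 | h1
  · exact (Data.finalRange_iff data 9259 9259).mp Cfsg.Agent.Lib.Helper28.TCFi23W1M0.fin1 v (by omega) (by omega)
  exact (Data.finalRange_iff data 18518 2074).mp Cfsg.Agent.Lib.Helper28.TCFi23W1M0.fin2 v (by omega) (by omega)

theorem hfin : data.finalOK = true := Data.finalOK_of_rows data hlive0 (by decide) hrows

theorem pc0 : Data.countFrom data 0 20592 = 14080 := Cfsg.Agent.Lib.Helper28.TCFi23W1M0.cnt0

theorem hcount : data.countLive = table.n := by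
  rw [Data.countLive_eq]
  exact pc0

theorem hpermAll : ∀ p, p < table.n → Table.permRow table p = true := by
  intro p hp
  have hp' : p < 14080 := hp
  rcases Nat.lt_or_ge p 13888 with h0 | h0
  · exact (Table.permRange_iff table 0 13888).mp Cfsg.Agent.Lib.Helper28.TCFi23W1M0.prm0 p (by omega) (by omega)
  exact (Table.permRange_iff table 13888 192).mp Cfsg.Agent.Lib.Helper28.TCFi23W1M1.prm1 p (by omega) (by omega)

theorem hT : table.OK := Table.ok_of_rows table hinvOK hpermAll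

theorem htreeAll : ∀ i, i < Nat.pred table.n → Table.treeRow table i = true := by
  intro p hp
  have hp' : p < 14079 := hp
  exact (Table.treeRange_iff table 0 14079).mp Cfsg.Agent.Lib.Helper28.TCFi23W1M1.tre0 p (by omega) (by omega)

theorem htree : table.treeOK = true := Table.treeOK_of_rows table htreeAll

theorem hchkT : ∀ P ∈ chkPaths, ∀ p, p < table.n → table.walkT P p = p := by
  intro P hm p hp
  have hp' : p < 14080 := hp
  rcases Nat.lt_or_ge p 798 with h0 | h0
  · exact (Table.relOK_iff chkPaths 0 798).mp Cfsg.Agent.Lib.Helper28.TCFi23W1L0.rel0 p (by omega) (by omega) _ hm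
  rcases Nat.lt_or_ge p 1596 with h1 | h1
  · exact (Table.relOK_iff chkPaths 798 798).mp Cfsg.Agent.Lib.Helper28.TCFi23W1L0.rel1 p (by omega) (by omega) _ hm
  rcases Nat.lt_or_ge p 2394 with h2 | h2
  · exact (Table.relOK_iff chkPaths 1596 798).mp Cfsg.Agent.Lib.Helper28.TCFi23W1L0.rel2 p (by omega) (by omega) _ hm
  rcases Nat.lt_or_ge p 3192 with h3 | h3
  · exact (Table.relOK_iff chkPaths 2394 798).mp Cfsg.Agent.Lib.Helper28.TCFi23W1L0.rel3 p (by omega) (by omega) _ hm
  rcases Nat.lt_or_ge p 3990 with h4 | h4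
  · exact (Table.relOK_iff chkPaths 3192 798).mp Cfsg.Agent.Lib.Helper28.TCFi23W1L0.rel4 p (by omega) (by omega) _ hm
  rcases Nat.lt_or_ge p 4788 with h5 | h5
  · exact (Table.relOK_iff chkPaths 3990 798).mp Cfsg.Agent.Lib.Helper28.TCFi23W1L0.rel5 p (by omega) (by omega) _ hm
  rcases Nat.lt_or_ge p 5586 with h6 | h6
  · exact (Table.relOK_iff chkPaths 4788 798).mp Cfsg.Agent.Lib.Helper28.TCFi23W1L1.rel6 p (by omega) (by omega) _ hm
  rcases Nat.lt_or_ge p 6384 with h7 | h7
  · exact (Table.relOK_iff chkPaths 5586 798).mp Cfsg.Agent.Lib.Helper28.TCFi23W1L1.rel7 p (by omega) (by omega) _ hm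
  rcases Nat.lt_or_ge p 7182 with h8 | h8
  · exact (Table.relOK_iff chkPaths 6384 798).mp Cfsg.Agent.Lib.Helper28.TCFi23W1L1.rel8 p (by omega) (by omega) _ hm
  rcases Nat.lt_or_ge p 7980 with h9 | h9
  · exact (Table.relOK_iff chkPaths 7182 798).mp Cfsg.Agent.Lib.Helper28.TCFi23W1L1.rel9 p (by omega) (by omega) _ hm
  rcases Nat.lt_or_ge p 8778 with h10 | h10
  · exact (Table.relOK_iff chkPaths 7980 798).mp Cfsg.Agent.Lib.Helper28.TCFi23W1L1.rel10 p (by omega) (by omega) _ hm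
  rcases Nat.lt_or_ge p 9576 with h11 | h11
  · exact (Table.relOK_iff chkPaths 8778 798).mp Cfsg.Agent.Lib.Helper28.TCFi23W1L1.rel11 p (by omega) (by omega) _ hm
  rcases Nat.lt_or_ge p 10374 with h12 | h12
  · exact (Table.relOK_iff chkPaths 9576 798).mp Cfsg.Agent.Lib.Helper28.TCFi23W1L2.rel12 p (by omega) (by omega) _ hm
  rcases Nat.lt_or_ge p 11172 with h13 | h13
  · exact (Table.relOK_iff chkPaths 10374 798).mp Cfsg.Agent.Lib.Helper28.TCFi23W1L2.rel13 p (by omega) (by omega) _ hm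
  rcases Nat.lt_or_ge p 11970 with h14 | h14
  · exact (Table.relOK_iff chkPaths 11172 798).mp Cfsg.Agent.Lib.Helper28.TCFi23W1L2.rel14 p (by omega) (by omega) _ hm
  rcases Nat.lt_or_ge p 12768 with h15 | h15
  · exact (Table.relOK_iff chkPaths 11970 798).mp Cfsg.Agent.Lib.Helper28.TCFi23W1L2.rel15 p (by omega) (by omega) _ hm
  rcases Nat.lt_or_ge p 13566 with h16 | h16
  · exact (Table.relOK_iff chkPaths 12768 798).mp Cfsg.Agent.Lib.Helper28.TCFi23W1L2.rel16 p (by omega) (by omega) _ hm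
  exact (Table.relOK_iff chkPaths 13566 514).mp Cfsg.Agent.Lib.Helper28.TCFi23W1L2.rel17 p (by omega) (by omega) _ hm

theorem hrelT : ∀ L ∈ relWords, ∀ p, p < table.n → table.walkT (pathOf lw L) p = p :=
  fun L hL => Table.fix_of_covered hT chkPaths hchkT _ (hcov _ (hrelmem L hL)).1 (hcov _ (hrelmem L hL)).2

theorem hsubT : ∀ L ∈ subWords, table.walkT (pathOf lw L) 0 = 0 :=
  fun L hL => (Table.subOK_iff subPaths).mp hsub0 _ (hsubmem L hL)

theorem hn : 0 < table.n := by decide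

theorem main : ((Subgroup.closure S).map (PresentedGroup.mk rels)).index = table.n ∧
    ∃ φ : PresentedGroup rels →* Equiv.Perm (Fin table.n),
      (∀ x, φ (PresentedGroup.of x) = Table.sigma hT (lw (x, true))) ∧
      ∃ f : PresentedGroup rels ⧸ (Subgroup.closure S).map (PresentedGroup.mk rels) → Fin table.n,
        Function.Bijective f ∧ (∀ g q, f (g • q) = φ g (f q)) ∧ f (QuotientGroup.mk 1) = ⟨0, hn⟩ :=
  index_eq link hchk hfin hcount hT hn hrelT hsubT htree

end Cfsg.Agent.Lib.Helper28.TCFi23W1Main
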