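import Cfsg.Agent.Lib.Helper28.TC2Upper
import Cfsg.Agent.Lib.Helper28.TCFi23W2DataC0
set_option autoImplicit false
set_option maxRecDepth 100000

namespace Cfsg.Agent.Lib.Helper28.TCFi23W2Data
open Cfsg.Agent.Lib.Helper28.TC2Upper

/-- relators -/
def relT : BT (ℕ × List ℕ × List ℕ) := (BT.node 32 (BT.node 16 (BT.node 8 (BT.node 4 (BT.node 2 (BT.node 1 (BT.node 0 (BT.leaf (2, [0, 0], [0, 0])) (BT.leaf (6, [1, 0, 1, 0, 1, 0], [0, 1, 0, 1, 0, 1]))) (BT.leaf (4, [2, 0, 2, 0], [0, 2, 0, 2]))) (BT.node 3 (BT.leaf (4, [3, 0, 3, 0], [0, 3, 0, 3])) (BT.leaf (4, [4, 0, 4, 0], [0, 4, 0, 4])))) (BT.node 6 (BT.node 5 (BT.leaf (4, [6, 0, 6, 0], [0, 6, 0, 6])) (BT.leaf (4, [5, 0, 5, 0], [0, 5, 0, 5]))) (BT.node 7 (BT.leaf (4, [7, 0, 7, 0], [0, 7, 0, 7])) (BT.leaf (6, [0, 1, 0, 1, 0, 1], [1, 0, 1, 0, 1, 0]))))) (BT.node 12 (BT.node 10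 (BT.node 9 (BT.leaf (2, [1, 1], [1, 1])) (BT.leaf (6, [2, 1, 2, 1, 2, 1], [1, 2, 1, 2, 1, 2]))) (BT.node 11 (BT.leaf (4, [3, 1, 3, 1], [1, 3, 1, 3])) (BT.leaf (4, [4, 1, 4, 1], [1, 4, 1, 4])))) (BT.node 14 (BT.node 13 (BT.leaf (4, [6, 1, 6, 1], [1, 6, 1, 6])) (BT.leaf (4, [5, 1, 5, 1], [1, 5, 1, 5]))) (BT.node 15 (BT.leaf (4, [7, 1, 7, 1], [1, 7, 1, 7])) (BT.leaf (4, [0, 2, 0, 2], [2, 0, 2, 0])))))) (BT.node 24 (BT.node 20 (BT.node 18 (BT.node 17 (BT.leaf (6, [1, 2, 1, 2, 1, 2], [2, 1, 2, 1, 2, 1])) (BT.leaf (2, [2, 2], [2, 2]))) (BT.node 19 (BT.leaf (6, [3, 2, 3, 2, 3, 2], [2, 3, 2, 3, 2, 3])) (BT.leaf (4, [4, 2, 4, 2], [2, 4, 2, 4])))) (BT.node 22 (BT.node 21 (BT.leaf (6, [6, 2, 6, 2, 6, 2], [2, 6, 2, 6, 2, 6])) (BT.leaf (4, [5, 2, 5, 2], [2, 5, 2, 5]))) (BT.node 23 (BT.leaf (4, [7, 2, 7, 2], [2, 7, 2, 7])) (BT.leaf (4,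 [0, 3, 0, 3], [3, 0, 3, 0]))))) (BT.node 28 (BT.node 26 (BT.node 25 (BT.leaf (4, [1, 3, 1, 3], [3, 1, 3, 1])) (BT.leaf (6, [2, 3, 2, 3, 2, 3], [3, 2, 3, 2, 3, 2]))) (BT.node 27 (BT.leaf (2, [3, 3], [3, 3])) (BT.leaf (6, [4, 3, 4, 3, 4, 3], [3, 4, 3, 4, 3, 4])))) (BT.node 30 (BT.node 29 (BT.leaf (4, [6, 3, 6, 3], [3, 6, 3, 6])) (BT.leaf (4, [5, 3, 5, 3], [3, 5, 3, 5]))) (BT.node 31 (BT.leaf (4, [7, 3, 7, 3], [3, 7, 3, 7])) (BT.leaf (4, [0, 4, 0, 4], [4, 0, 4, 0]))))))) (BT.node 48 (BT.node 40 (BT.node 36 (BT.node 34 (BT.node 33 (BT.leaf (4, [1, 4, 1, 4], [4, 1, 4, 1])) (BT.leaf (4, [2, 4, 2, 4], [4, 2, 4, 2]))) (BT.node 35 (BT.leaf (6, [3, 4, 3, 4, 3, 4], [4, 3, 4, 3, 4, 3])) (BT.leaf (2, [4, 4], [4, 4])))) (BT.node 38 (BT.node 37 (BT.leaf (4, [6, 4, 6, 4], [4, 6, 4, 6])) (BT.leaf (6, [5, 4, 5, 4, 5, 4], [4, 5, 4, 5, 4,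 5]))) (BT.node 39 (BT.leaf (4, [7, 4, 7, 4], [4, 7, 4, 7])) (BT.leaf (4, [0, 6, 0, 6], [6, 0, 6, 0]))))) (BT.node 44 (BT.node 42 (BT.node 41 (BT.leaf (4, [1, 6, 1, 6], [6, 1, 6, 1])) (BT.leaf (6, [2, 6, 2, 6, 2, 6], [6, 2, 6, 2, 6, 2]))) (BT.node 43 (BT.leaf (4, [3, 6, 3, 6], [6, 3, 6, 3])) (BT.leaf (4, [4, 6, 4, 6], [6, 4, 6, 4])))) (BT.node 46 (BT.node 45 (BT.leaf (2, [6, 6], [6, 6])) (BT.leaf (4, [5, 6, 5, 6], [6, 5, 6, 5]))) (BT.node 47 (BT.leaf (6, [7, 6, 7, 6, 7, 6], [6, 7, 6, 7, 6, 7])) (BT.leaf (4, [0, 5, 0, 5], [5, 0, 5, 0])))))) (BT.node 56 (BT.node 52 (BT.node 50 (BT.node 49 (BT.leaf (4, [1, 5, 1, 5], [5, 1, 5, 1])) (BT.leaf (4, [2, 5, 2, 5], [5, 2, 5, 2]))) (BT.node 51 (BT.leaf (4, [3, 5, 3, 5], [5, 3, 5, 3])) (BT.leaf (6, [4, 5, 4, 5, 4, 5], [5, 4, 5, 4, 5, 4])))) (BT.node 54 (BT.node 53 (BT.leaf (4, [6, 5,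 6, 5], [5, 6, 5, 6])) (BT.leaf (2, [5, 5], [5, 5]))) (BT.node 55 (BT.leaf (4, [7, 5, 7, 5], [5, 7, 5, 7])) (BT.leaf (4, [0, 7, 0, 7], [7, 0, 7, 0]))))) (BT.node 60 (BT.node 58 (BT.node 57 (BT.leaf (4, [1, 7, 1, 7], [7, 1, 7, 1])) (BT.leaf (4, [2, 7, 2, 7], [7, 2, 7, 2]))) (BT.node 59 (BT.leaf (4, [3, 7, 3, 7], [7, 3, 7, 3])) (BT.leaf (4, [4, 7, 4, 7], [7, 4, 7, 4])))) (BT.node 62 (BT.node 61 (BT.leaf (6, [6, 7, 6, 7, 6, 7], [7, 6, 7, 6, 7, 6])) (BT.leaf (4, [5, 7, 5, 7], [7, 5, 7, 5]))) (BT.node 63 (BT.leaf (2, [7, 7], [7, 7])) (BT.leaf (90, [7, 6, 2, 4, 3, 2, 0, 1, 2, 7, 6, 2, 4, 3, 2, 0, 1, 2, 7, 6, 2, 4, 3, 2, 0, 1, 2, 7, 6, 2, 4, 3, 2, 0, 1, 2, 7, 6, 2, 4, 3, 2, 0, 1, 2, 7, 6, 2, 4, 3, 2, 0, 1, 2, 7, 6, 2, 4, 3, 2, 0, 1, 2, 7, 6, 2, 4, 3, 2, 0, 1, 2, 7, 6, 2, 4, 3, 2, 0, 1, 2, 7, 6, 2, 4, 3, 2, 0, 1, 2], [2, 1, 0, 2,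 3, 4, 2, 6, 7, 2, 1, 0, 2, 3, 4, 2, 6, 7, 2, 1, 0, 2, 3, 4, 2, 6, 7, 2, 1, 0, 2, 3, 4, 2, 6, 7, 2, 1, 0, 2, 3, 4, 2, 6, 7, 2, 1, 0, 2, 3, 4, 2, 6, 7, 2, 1, 0, 2, 3, 4, 2, 6, 7, 2, 1, 0, 2, 3, 4, 2, 6, 7, 2, 1, 0, 2, 3, 4, 2, 6, 7, 2, 1, 0, 2, 3, 4, 2, 6, 7]))))))))
/-- subgroup generators -/
def subT : BT (ℕ × List ℕ × List ℕ) := (BT.node 3 (BT.node 1 (BT.node 0 (BT.leaf (1, [0], [0])) (BT.leaf (1, [1], [1]))) (BT.node 2 (BT.leaf (1, [2], [2])) (BT.leaf (1, [3], [3])))) (BT.node 5 (BT.node 4 (BT.leaf (1, [4], [4])) (BT.leaf (1, [6], [6]))) (BT.leaf (1, [7], [7]))))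
/-- fact chunks -/
def colET : BT ℕ := (BT.node 107 (BT.node 53 (BT.node 26 (BT.node 13 (BT.node 6 (BT.node 3 (BT.node 1 (BT.node 0 (BT.leaf cE0) (BT.leaf cE1)) (BT.node 2 (BT.leaf cE2) (BT.leaf cE3))) (BT.node 5 (BT.node 4 (BT.leaf cE4) (BT.leaf cE5)) (BT.leaf cE6))) (BT.node 10 (BT.node 8 (BT.node 7 (BT.leaf cE7) (BT.leaf cE8)) (BT.node 9 (BT.leaf cE9) (BT.leaf cE10))) (BT.node 12 (BT.node 11 (BT.leaf cE11) (BT.leaf cE12)) (BT.leaf cE13)))) (BT.node 20 (BT.node 17 (BT.node 15 (BT.node 14 (BT.leaf cE14) (BT.leaf cE15)) (BT.node 16 (BT.leaf cE16) (BT.leaf cE17))) (BT.node 19 (BT.node 18 (BT.leaf cE18) (BT.leaf cE19)) (BT.leaf cE20))) (BT.node 23 (BT.node 22 (BT.node 21 (BT.leaf cE21) (BT.leaf cE22)) (BT.leaf cE23)) (BT.node 25 (BT.node 24 (BT.leaf cE24) (BT.leaf cE25)) (BT.leaf cE26))))) (BT.node 40 (BT.node 33 (BT.node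 30 (BT.node 28 (BT.node 27 (BT.leaf cE27) (BT.leaf cE28)) (BT.node 29 (BT.leaf cE29) (BT.leaf cE30))) (BT.node 32 (BT.node 31 (BT.leaf cE31) (BT.leaf cE32)) (BT.leaf cE33))) (BT.node 37 (BT.node 35 (BT.node 34 (BT.leaf cE34) (BT.leaf cE35)) (BT.node 36 (BT.leaf cE36) (BT.leaf cE37))) (BT.node 39 (BT.node 38 (BT.leaf cE38) (BT.leaf cE39)) (BT.leaf cE40)))) (BT.node 47 (BT.node 44 (BT.node 42 (BT.node 41 (BT.leaf cE41) (BT.leaf cE42)) (BT.node 43 (BT.leaf cE43) (BT.leaf cE44))) (BT.node 46 (BT.node 45 (BT.leaf cE45) (BT.leaf cE46)) (BT.leaf cE47))) (BT.node 50 (BT.node 49 (BT.node 48 (BT.leaf cE48) (BT.leaf cE49)) (BT.leaf cE50)) (BT.node 52 (BT.node 51 (BT.leaf cE51) (BT.leaf cE52)) (BT.leaf cE53)))))) (BT.node 80 (BT.node 67 (BT.node 60 (BT.node 57 (BT.node 55 (BT.node 54 (BT.leaf cE54) (BT.leaf cE55)) (BT.node 56 (BT.leaf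 cE56) (BT.leaf cE57))) (BT.node 59 (BT.node 58 (BT.leaf cE58) (BT.leaf cE59)) (BT.leaf cE60))) (BT.node 64 (BT.node 62 (BT.node 61 (BT.leaf cE61) (BT.leaf cE62)) (BT.node 63 (BT.leaf cE63) (BT.leaf cE64))) (BT.node 66 (BT.node 65 (BT.leaf cE65) (BT.leaf cE66)) (BT.leaf cE67)))) (BT.node 74 (BT.node 71 (BT.node 69 (BT.node 68 (BT.leaf cE68) (BT.leaf cE69)) (BT.node 70 (BT.leaf cE70) (BT.leaf cE71))) (BT.node 73 (BT.node 72 (BT.leaf cE72) (BT.leaf cE73)) (BT.leaf cE74))) (BT.node 77 (BT.node 76 (BT.node 75 (BT.leaf cE75) (BT.leaf cE76)) (BT.leaf cE77)) (BT.node 79 (BT.node 78 (BT.leaf cE78) (BT.leaf cE79)) (BT.leaf cE80))))) (BT.node 94 (BT.node 87 (BT.node 84 (BT.node 82 (BT.node 81 (BT.leaf cE81) (BT.leaf cE82)) (BT.node 83 (BT.leaf cE83) (BT.leaf cE84))) (BT.node 86 (BT.node 85 (BT.leaf cE85) (BT.leaf cE86)) (BT.leaf cE87)))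 (BT.node 91 (BT.node 89 (BT.node 88 (BT.leaf cE88) (BT.leaf cE89)) (BT.node 90 (BT.leaf cE90) (BT.leaf cE91))) (BT.node 93 (BT.node 92 (BT.leaf cE92) (BT.leaf cE93)) (BT.leaf cE94)))) (BT.node 101 (BT.node 98 (BT.node 96 (BT.node 95 (BT.leaf cE95) (BT.leaf cE96)) (BT.node 97 (BT.leaf cE97) (BT.leaf cE98))) (BT.node 100 (BT.node 99 (BT.leaf cE99) (BT.leaf cE100)) (BT.leaf cE101))) (BT.node 104 (BT.node 103 (BT.node 102 (BT.leaf cE102) (BT.leaf cE103)) (BT.leaf cE104)) (BT.node 106 (BT.node 105 (BT.leaf cE105) (BT.leaf cE106)) (BT.leaf cE107))))))) (BT.node 161 (BT.node 134 (BT.node 121 (BT.node 114 (BT.node 111 (BT.node 109 (BT.node 108 (BT.leaf cE108) (BT.leaf cE109)) (BT.node 110 (BT.leaf cE110) (BT.leaf cE111))) (BT.node 113 (BT.node 112 (BT.leaf cE112) (BT.leaf cE113)) (BT.leaf cE114))) (BT.node 118 (BT.node 116 (BT.node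 115 (BT.leaf cE115) (BT.leaf cE116)) (BT.node 117 (BT.leaf cE117) (BT.leaf cE118))) (BT.node 120 (BT.node 119 (BT.leaf cE119) (BT.leaf cE120)) (BT.leaf cE121)))) (BT.node 128 (BT.node 125 (BT.node 123 (BT.node 122 (BT.leaf cE122) (BT.leaf cE123)) (BT.node 124 (BT.leaf cE124) (BT.leaf cE125))) (BT.node 127 (BT.node 126 (BT.leaf cE126) (BT.leaf cE127)) (BT.leaf cE128))) (BT.node 131 (BT.node 130 (BT.node 129 (BT.leaf cE129) (BT.leaf cE130)) (BT.leaf cE131)) (BT.node 133 (BT.node 132 (BT.leaf cE132) (BT.leaf cE133)) (BT.leaf cE134))))) (BT.node 148 (BT.node 141 (BT.node 138 (BT.node 136 (BT.node 135 (BT.leaf cE135) (BT.leaf cE136)) (BT.node 137 (BT.leaf cE137) (BT.leaf cE138))) (BT.node 140 (BT.node 139 (BT.leaf cE139) (BT.leaf cE140)) (BT.leaf cE141))) (BT.node 145 (BT.node 143 (BT.node 142 (BT.leaf cE142) (BT.leaf cE143))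 (BT.node 144 (BT.leaf cE144) (BT.leaf cE145))) (BT.node 147 (BT.node 146 (BT.leaf cE146) (BT.leaf cE147)) (BT.leaf cE148)))) (BT.node 155 (BT.node 152 (BT.node 150 (BT.node 149 (BT.leaf cE149) (BT.leaf cE150)) (BT.node 151 (BT.leaf cE151) (BT.leaf cE152))) (BT.node 154 (BT.node 153 (BT.leaf cE153) (BT.leaf cE154)) (BT.leaf cE155))) (BT.node 158 (BT.node 157 (BT.node 156 (BT.leaf cE156) (BT.leaf cE157)) (BT.leaf cE158)) (BT.node 160 (BT.node 159 (BT.leaf cE159) (BT.leaf cE160)) (BT.leaf cE161)))))) (BT.node 188 (BT.node 175 (BT.node 168 (BT.node 165 (BT.node 163 (BT.node 162 (BT.leaf cE162) (BT.leaf cE163)) (BT.node 164 (BT.leaf cE164) (BT.leaf cE165))) (BT.node 167 (BT.node 166 (BT.leaf cE166) (BT.leaf cE167)) (BT.leaf cE168))) (BT.node 172 (BT.node 170 (BT.node 169 (BT.leaf cE169) (BT.leaf cE170)) (BT.node 171 (BT.leaf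 cE171) (BT.leaf cE172))) (BT.node 174 (BT.node 173 (BT.leaf cE173) (BT.leaf cE174)) (BT.leaf cE175)))) (BT.node 182 (BT.node 179 (BT.node 177 (BT.node 176 (BT.leaf cE176) (BT.leaf cE177)) (BT.node 178 (BT.leaf cE178) (BT.leaf cE179))) (BT.node 181 (BT.node 180 (BT.leaf cE180) (BT.leaf cE181)) (BT.leaf cE182))) (BT.node 185 (BT.node 184 (BT.node 183 (BT.leaf cE183) (BT.leaf cE184)) (BT.leaf cE185)) (BT.node 187 (BT.node 186 (BT.leaf cE186) (BT.leaf cE187)) (BT.leaf cE188))))) (BT.node 202 (BT.node 195 (BT.node 192 (BT.node 190 (BT.node 189 (BT.leaf cE189) (BT.leaf cE190)) (BT.node 191 (BT.leaf cE191) (BT.leaf cE192))) (BT.node 194 (BT.node 193 (BT.leaf cE193) (BT.leaf cE194)) (BT.leaf cE195))) (BT.node 199 (BT.node 197 (BT.node 196 (BT.leaf cE196) (BT.leaf cE197)) (BT.node 198 (BT.leaf cE198) (BT.leaf cE199))) (BT.node 201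 (BT.node 200 (BT.leaf cE200) (BT.leaf cE201)) (BT.leaf cE202)))) (BT.node 209 (BT.node 206 (BT.node 204 (BT.node 203 (BT.leaf cE203) (BT.leaf cE204)) (BT.node 205 (BT.leaf cE205) (BT.leaf cE206))) (BT.node 208 (BT.node 207 (BT.leaf cE207) (BT.leaf cE208)) (BT.leaf cE209))) (BT.node 212 (BT.node 211 (BT.node 210 (BT.leaf cE210) (BT.leaf cE211)) (BT.leaf cE212)) (BT.node 214 (BT.node 213 (BT.leaf cE213) (BT.leaf cE214)) (BT.leaf cE215))))))))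
/-- justification chunks -/
def colJT : BT ℕ := (BT.node 107 (BT.node 53 (BT.node 26 (BT.node 13 (BT.node 6 (BT.node 3 (BT.node 1 (BT.node 0 (BT.leaf cJ0) (BT.leaf cJ1)) (BT.node 2 (BT.leaf cJ2) (BT.leaf cJ3))) (BT.node 5 (BT.node 4 (BT.leaf cJ4) (BT.leaf cJ5)) (BT.leaf cJ6))) (BT.node 10 (BT.node 8 (BT.node 7 (BT.leaf cJ7) (BT.leaf cJ8)) (BT.node 9 (BT.leaf cJ9) (BT.leaf cJ10))) (BT.node 12 (BT.node 11 (BT.leaf cJ11) (BT.leaf cJ12)) (BT.leaf cJ13)))) (BT.node 20 (BT.node 17 (BT.node 15 (BT.node 14 (BT.leaf cJ14) (BT.leaf cJ15)) (BT.node 16 (BT.leaf cJ16) (BT.leaf cJ17))) (BT.node 19 (BT.node 18 (BT.leaf cJ18) (BT.leaf cJ19)) (BT.leaf cJ20))) (BT.node 23 (BT.node 22 (BT.node 21 (BT.leaf cJ21) (BT.leaf cJ22)) (BT.leaf cJ23)) (BT.node 25 (BT.node 24 (BT.leaf cJ24) (BT.leaf cJ25)) (BT.leaf cJ26))))) (BT.node 40 (BT.node 33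 (BT.node 30 (BT.node 28 (BT.node 27 (BT.leaf cJ27) (BT.leaf cJ28)) (BT.node 29 (BT.leaf cJ29) (BT.leaf cJ30))) (BT.node 32 (BT.node 31 (BT.leaf cJ31) (BT.leaf cJ32)) (BT.leaf cJ33))) (BT.node 37 (BT.node 35 (BT.node 34 (BT.leaf cJ34) (BT.leaf cJ35)) (BT.node 36 (BT.leaf cJ36) (BT.leaf cJ37))) (BT.node 39 (BT.node 38 (BT.leaf cJ38) (BT.leaf cJ39)) (BT.leaf cJ40)))) (BT.node 47 (BT.node 44 (BT.node 42 (BT.node 41 (BT.leaf cJ41) (BT.leaf cJ42)) (BT.node 43 (BT.leaf cJ43) (BT.leaf cJ44))) (BT.node 46 (BT.node 45 (BT.leaf cJ45) (BT.leaf cJ46)) (BT.leaf cJ47))) (BT.node 50 (BT.node 49 (BT.node 48 (BT.leaf cJ48) (BT.leaf cJ49)) (BT.leaf cJ50)) (BT.node 52 (BT.node 51 (BT.leaf cJ51) (BT.leaf cJ52)) (BT.leaf cJ53)))))) (BT.node 80 (BT.node 67 (BT.node 60 (BT.node 57 (BT.node 55 (BT.node 54 (BT.leaf cJ54) (BT.leaf cJ55)) (BT.node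 56 (BT.leaf cJ56) (BT.leaf cJ57))) (BT.node 59 (BT.node 58 (BT.leaf cJ58) (BT.leaf cJ59)) (BT.leaf cJ60))) (BT.node 64 (BT.node 62 (BT.node 61 (BT.leaf cJ61) (BT.leaf cJ62)) (BT.node 63 (BT.leaf cJ63) (BT.leaf cJ64))) (BT.node 66 (BT.node 65 (BT.leaf cJ65) (BT.leaf cJ66)) (BT.leaf cJ67)))) (BT.node 74 (BT.node 71 (BT.node 69 (BT.node 68 (BT.leaf cJ68) (BT.leaf cJ69)) (BT.node 70 (BT.leaf cJ70) (BT.leaf cJ71))) (BT.node 73 (BT.node 72 (BT.leaf cJ72) (BT.leaf cJ73)) (BT.leaf cJ74))) (BT.node 77 (BT.node 76 (BT.node 75 (BT.leaf cJ75) (BT.leaf cJ76)) (BT.leaf cJ77)) (BT.node 79 (BT.node 78 (BT.leaf cJ78) (BT.leaf cJ79)) (BT.leaf cJ80))))) (BT.node 94 (BT.node 87 (BT.node 84 (BT.node 82 (BT.node 81 (BT.leaf cJ81) (BT.leaf cJ82)) (BT.node 83 (BT.leaf cJ83) (BT.leaf cJ84))) (BT.node 86 (BT.node 85 (BT.leaf cJ85) (BT.leaf cJ86))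 (BT.leaf cJ87))) (BT.node 91 (BT.node 89 (BT.node 88 (BT.leaf cJ88) (BT.leaf cJ89)) (BT.node 90 (BT.leaf cJ90) (BT.leaf cJ91))) (BT.node 93 (BT.node 92 (BT.leaf cJ92) (BT.leaf cJ93)) (BT.leaf cJ94)))) (BT.node 101 (BT.node 98 (BT.node 96 (BT.node 95 (BT.leaf cJ95) (BT.leaf cJ96)) (BT.node 97 (BT.leaf cJ97) (BT.leaf cJ98))) (BT.node 100 (BT.node 99 (BT.leaf cJ99) (BT.leaf cJ100)) (BT.leaf cJ101))) (BT.node 104 (BT.node 103 (BT.node 102 (BT.leaf cJ102) (BT.leaf cJ103)) (BT.leaf cJ104)) (BT.node 106 (BT.node 105 (BT.leaf cJ105) (BT.leaf cJ106)) (BT.leaf cJ107))))))) (BT.node 161 (BT.node 134 (BT.node 121 (BT.node 114 (BT.node 111 (BT.node 109 (BT.node 108 (BT.leaf cJ108) (BT.leaf cJ109)) (BT.node 110 (BT.leaf cJ110) (BT.leaf cJ111))) (BT.node 113 (BT.node 112 (BT.leaf cJ112) (BT.leaf cJ113)) (BT.leaf cJ114))) (BT.node 118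 (BT.node 116 (BT.node 115 (BT.leaf cJ115) (BT.leaf cJ116)) (BT.node 117 (BT.leaf cJ117) (BT.leaf cJ118))) (BT.node 120 (BT.node 119 (BT.leaf cJ119) (BT.leaf cJ120)) (BT.leaf cJ121)))) (BT.node 128 (BT.node 125 (BT.node 123 (BT.node 122 (BT.leaf cJ122) (BT.leaf cJ123)) (BT.node 124 (BT.leaf cJ124) (BT.leaf cJ125))) (BT.node 127 (BT.node 126 (BT.leaf cJ126) (BT.leaf cJ127)) (BT.leaf cJ128))) (BT.node 131 (BT.node 130 (BT.node 129 (BT.leaf cJ129) (BT.leaf cJ130)) (BT.leaf cJ131)) (BT.node 133 (BT.node 132 (BT.leaf cJ132) (BT.leaf cJ133)) (BT.leaf cJ134))))) (BT.node 148 (BT.node 141 (BT.node 138 (BT.node 136 (BT.node 135 (BT.leaf cJ135) (BT.leaf cJ136)) (BT.node 137 (BT.leaf cJ137) (BT.leaf cJ138))) (BT.node 140 (BT.node 139 (BT.leaf cJ139) (BT.leaf cJ140)) (BT.leaf cJ141))) (BT.node 145 (BT.node 143 (BT.node 142 (BT.leaf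 cJ142) (BT.leaf cJ143)) (BT.node 144 (BT.leaf cJ144) (BT.leaf cJ145))) (BT.node 147 (BT.node 146 (BT.leaf cJ146) (BT.leaf cJ147)) (BT.leaf cJ148)))) (BT.node 155 (BT.node 152 (BT.node 150 (BT.node 149 (BT.leaf cJ149) (BT.leaf cJ150)) (BT.node 151 (BT.leaf cJ151) (BT.leaf cJ152))) (BT.node 154 (BT.node 153 (BT.leaf cJ153) (BT.leaf cJ154)) (BT.leaf cJ155))) (BT.node 158 (BT.node 157 (BT.node 156 (BT.leaf cJ156) (BT.leaf cJ157)) (BT.leaf cJ158)) (BT.node 160 (BT.node 159 (BT.leaf cJ159) (BT.leaf cJ160)) (BT.leaf cJ161)))))) (BT.node 188 (BT.node 175 (BT.node 168 (BT.node 165 (BT.node 163 (BT.node 162 (BT.leaf cJ162) (BT.leaf cJ163)) (BT.node 164 (BT.leaf cJ164) (BT.leaf cJ165))) (BT.node 167 (BT.node 166 (BT.leaf cJ166) (BT.leaf cJ167)) (BT.leaf cJ168))) (BT.node 172 (BT.node 170 (BT.node 169 (BT.leaf cJ169) (BT.leaf cJ170))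 (BT.node 171 (BT.leaf cJ171) (BT.leaf cJ172))) (BT.node 174 (BT.node 173 (BT.leaf cJ173) (BT.leaf cJ174)) (BT.leaf cJ175)))) (BT.node 182 (BT.node 179 (BT.node 177 (BT.node 176 (BT.leaf cJ176) (BT.leaf cJ177)) (BT.node 178 (BT.leaf cJ178) (BT.leaf cJ179))) (BT.node 181 (BT.node 180 (BT.leaf cJ180) (BT.leaf cJ181)) (BT.leaf cJ182))) (BT.node 185 (BT.node 184 (BT.node 183 (BT.leaf cJ183) (BT.leaf cJ184)) (BT.leaf cJ185)) (BT.node 187 (BT.node 186 (BT.leaf cJ186) (BT.leaf cJ187)) (BT.leaf cJ188))))) (BT.node 202 (BT.node 195 (BT.node 192 (BT.node 190 (BT.node 189 (BT.leaf cJ189) (BT.leaf cJ190)) (BT.node 191 (BT.leaf cJ191) (BT.leaf cJ192))) (BT.node 194 (BT.node 193 (BT.leaf cJ193) (BT.leaf cJ194)) (BT.leaf cJ195))) (BT.node 199 (BT.node 197 (BT.node 196 (BT.leaf cJ196) (BT.leaf cJ197)) (BT.node 198 (BT.leaf cJ198) (BT.leaf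 cJ199))) (BT.node 201 (BT.node 200 (BT.leaf cJ200) (BT.leaf cJ201)) (BT.leaf cJ202)))) (BT.node 209 (BT.node 206 (BT.node 204 (BT.node 203 (BT.leaf cJ203) (BT.leaf cJ204)) (BT.node 205 (BT.leaf cJ205) (BT.leaf cJ206))) (BT.node 208 (BT.node 207 (BT.leaf cJ207) (BT.leaf cJ208)) (BT.leaf cJ209))) (BT.node 212 (BT.node 211 (BT.node 210 (BT.leaf cJ210) (BT.leaf cJ211)) (BT.leaf cJ212)) (BT.node 214 (BT.node 213 (BT.leaf cJ213) (BT.leaf cJ214)) (BT.leaf cJ215))))))))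
/-- parent chunks -/
def parCT : BT ℕ := (BT.node 11 (BT.node 5 (BT.node 2 (BT.node 1 (BT.node 0 (BT.leaf cP0) (BT.leaf cP1)) (BT.leaf cP2)) (BT.node 4 (BT.node 3 (BT.leaf cP3) (BT.leaf cP4)) (BT.leaf cP5))) (BT.node 8 (BT.node 7 (BT.node 6 (BT.leaf cP6) (BT.leaf cP7)) (BT.leaf cP8)) (BT.node 10 (BT.node 9 (BT.leaf cP9) (BT.leaf cP10)) (BT.leaf cP11)))) (BT.node 17 (BT.node 14 (BT.node 13 (BT.node 12 (BT.leaf cP12) (BT.leaf cP13)) (BT.leaf cP14)) (BT.node 16 (BT.node 15 (BT.leaf cP15) (BT.leaf cP16)) (BT.leaf cP17))) (BT.node 20 (BT.node 19 (BT.node 18 (BT.leaf cP18) (BT.leaf cP19)) (BT.leaf cP20)) (BT.node 22 (BT.node 21 (BT.leaf cP21) (BT.leaf cP22)) (BT.leaf cP23)))))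
/-- the certificate -/
def data : Data where
  k := 8
  N := 11815
  W := 28
  MW := 268435456
  B := 16384
  CH := 512
  NCH := 24
  colE := colET
  JW := 64
  MJ := 18446744073709551616
  A := 1048576
  colJ := colJT
  PW := 23
  MP := 8388608
  parC := parCT
  inv := (BT.node 4 (BT.node 2 (BT.node 1 (BT.node 0 (BT.leaf 0) (BT.leaf 1)) (BT.leaf 2)) (BT.node 3 (BT.leaf 3) (BT.leaf 4))) (BT.node 6 (BT.node 5 (BT.leaf 5) (BT.leaf 6)) (BT.node 7 (BT.leaf 7) (BT.leaf 8))))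
  rel := relT
  sub := subT
  fuel := 64

end Cfsg.Agent.Lib.Helper28.TCFi23W2Data
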