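import Cfsg.Agent.Lib.Helper28.TCFi23W4Data
import Cfsg.Agent.Lib.Helper28.TCFi23W4U4
set_option autoImplicit false
set_option maxRecDepth 100000
set_option maxHeartbeats 0

namespace Cfsg.Agent.Lib.Helper28.TCFi23W4U10
open Cfsg.Agent.Lib.Helper28.TC2Upper Cfsg.Agent.Lib.Helper28.TCFi23W4Data

theorem chk50 : data.checkRange 42900 858 = true := by decide +kernel
theorem chk51 : data.checkRange 43758 858 = true := by decide +kernel
theorem chk52 : data.checkRange 44616 858 = true := by decide +kernel
theorem chk53 : data.checkRange 45474 858 = true := by decide +kernel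
theorem chk54 : data.checkRange 46332 858 = true := by decide +kernel

end Cfsg.Agent.Lib.Helper28.TCFi23W4U10
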