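import Cfsg.Agent.Lib.Helper28.TCFi23W4Data
import Cfsg.Agent.Lib.Helper28.TCFi23W4U2
set_option autoImplicit false
set_option maxRecDepth 100000
set_option maxHeartbeats 0

namespace Cfsg.Agent.Lib.Helper28.TCFi23W4U8
open Cfsg.Agent.Lib.Helper28.TC2Upper Cfsg.Agent.Lib.Helper28.TCFi23W4Data

theorem chk40 : data.checkRange 34320 858 = true := by decide +kernel
theorem chk41 : data.checkRange 35178 858 = true := by decide +kernel
theorem chk42 : data.checkRange 36036 858 = true := by decide +kernel
theorem chk43 : data.checkRange 36894 858 = true := by decide +kernel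
theorem chk44 : data.checkRange 37752 858 = true := by decide +kernel

end Cfsg.Agent.Lib.Helper28.TCFi23W4U8
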