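import Cfsg.Agent.Lib.Helper28.TC2Upper
import Cfsg.Agent.Lib.Helper28.TCFi23WCDataC0
set_option autoImplicit false
set_option maxRecDepth 100000

namespace Cfsg.Agent.Lib.Helper28.TCFi23WCData
open Cfsg.Agent.Lib.Helper28.TC2Upper

/-- relators -/
def relT : BT (ℕ × List ℕ × List ℕ) := (BT.node 51 (BT.node 25 (BT.node 12 (BT.node 6 (BT.node 3 (BT.node 1 (BT.node 0 (BT.leaf (2, [0, 0], [0, 0])) (BT.leaf (6, [1, 0, 1, 0, 1, 0], [0, 1, 0, 1, 0, 1]))) (BT.node 2 (BT.leaf (4, [2, 0, 2, 0], [0, 2, 0, 2])) (BT.leaf (4, [3, 0, 3, 0], [0, 3, 0, 3])))) (BT.node 5 (BT.node 4 (BT.leaf (4, [4, 0, 4, 0], [0, 4, 0, 4])) (BT.leaf (4, [5, 0, 5, 0], [0, 5, 0, 5]))) (BT.leaf (4, [6, 0, 6, 0], [0, 6, 0, 6])))) (BT.node 9 (BT.node 8 (BT.node 7 (BT.leaf (4, [8, 0, 8, 0],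 [0, 8, 0, 8])) (BT.leaf (4, [7, 0, 7, 0], [0, 7, 0, 7]))) (BT.leaf (4, [9, 0, 9, 0], [0, 9, 0, 9]))) (BT.node 11 (BT.node 10 (BT.leaf (6, [0, 1, 0, 1, 0, 1], [1, 0, 1, 0, 1, 0])) (BT.leaf (2, [1, 1], [1, 1]))) (BT.leaf (6, [2, 1, 2, 1, 2, 1], [1, 2, 1, 2, 1, 2]))))) (BT.node 19 (BT.node 16 (BT.node 14 (BT.node 13 (BT.leaf (4, [3, 1, 3, 1], [1, 3, 1, 3])) (BT.leaf (4, [4, 1, 4, 1], [1, 4, 1, 4]))) (BT.node 15 (BT.leaf (4, [5, 1, 5, 1], [1, 5, 1, 5])) (BT.leaf (4, [6, 1, 6, 1], [1, 6, 1, 6])))) (BT.node 18 (BT.node 17 (BT.leaf (4, [8, 1, 8, 1], [1, 8, 1, 8])) (BT.leaf (4, [7, 1, 7, 1], [1, 7, 1, 7]))) (BT.leaf (4, [9, 1, 9, 1], [1, 9, 1, 9])))) (BT.node 22 (BT.node 21 (BT.node 20 (BT.leaf (4, [0, 2, 0, 2], [2, 0, 2, 0])) (BT.leaf (6, [1, 2, 1, 2, 1, 2],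 [2, 1, 2, 1, 2, 1]))) (BT.leaf (2, [2, 2], [2, 2]))) (BT.node 24 (BT.node 23 (BT.leaf (6, [3, 2, 3, 2, 3, 2], [2, 3, 2, 3, 2, 3])) (BT.leaf (4, [4, 2, 4, 2], [2, 4, 2, 4]))) (BT.leaf (4, [5, 2, 5, 2], [2, 5, 2, 5])))))) (BT.node 38 (BT.node 32 (BT.node 29 (BT.node 27 (BT.node 26 (BT.leaf (4, [6, 2, 6, 2], [2, 6, 2, 6])) (BT.leaf (4, [8, 2, 8, 2], [2, 8, 2, 8]))) (BT.node 28 (BT.leaf (4, [7, 2, 7, 2], [2, 7, 2, 7])) (BT.leaf (4, [9, 2, 9, 2], [2, 9, 2, 9])))) (BT.node 31 (BT.node 30 (BT.leaf (4, [0, 3, 0, 3], [3, 0, 3, 0])) (BT.leaf (4, [1, 3, 1, 3], [3, 1, 3, 1]))) (BT.leaf (6, [2, 3, 2, 3, 2, 3], [3, 2, 3, 2, 3, 2])))) (BT.node 35 (BT.node 34 (BT.node 33 (BT.leaf (2, [3, 3], [3, 3])) (BT.leaf (6, [4, 3, 4, 3, 4, 3], [3, 4, 3, 4, 3, 4]))) (BT.leaf (4,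 [5, 3, 5, 3], [3, 5, 3, 5]))) (BT.node 37 (BT.node 36 (BT.leaf (4, [6, 3, 6, 3], [3, 6, 3, 6])) (BT.leaf (6, [8, 3, 8, 3, 8, 3], [3, 8, 3, 8, 3, 8]))) (BT.leaf (4, [7, 3, 7, 3], [3, 7, 3, 7]))))) (BT.node 45 (BT.node 42 (BT.node 40 (BT.node 39 (BT.leaf (4, [9, 3, 9, 3], [3, 9, 3, 9])) (BT.leaf (4, [0, 4, 0, 4], [4, 0, 4, 0]))) (BT.node 41 (BT.leaf (4, [1, 4, 1, 4], [4, 1, 4, 1])) (BT.leaf (4, [2, 4, 2, 4], [4, 2, 4, 2])))) (BT.node 44 (BT.node 43 (BT.leaf (6, [3, 4, 3, 4, 3, 4], [4, 3, 4, 3, 4, 3])) (BT.leaf (2, [4, 4], [4, 4]))) (BT.leaf (6, [5, 4, 5, 4, 5, 4], [4, 5, 4, 5, 4, 5])))) (BT.node 48 (BT.node 47 (BT.node 46 (BT.leaf (4, [6, 4, 6, 4], [4, 6, 4, 6])) (BT.leaf (4, [8, 4, 8, 4], [4, 8, 4, 8]))) (BT.leaf (4, [7, 4, 7, 4], [4, 7, 4, 7]))) (BT.node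 50 (BT.node 49 (BT.leaf (4, [9, 4, 9, 4], [4, 9, 4, 9])) (BT.leaf (4, [0, 5, 0, 5], [5, 0, 5, 0]))) (BT.leaf (4, [1, 5, 1, 5], [5, 1, 5, 1]))))))) (BT.node 77 (BT.node 64 (BT.node 58 (BT.node 55 (BT.node 53 (BT.node 52 (BT.leaf (4, [2, 5, 2, 5], [5, 2, 5, 2])) (BT.leaf (4, [3, 5, 3, 5], [5, 3, 5, 3]))) (BT.node 54 (BT.leaf (6, [4, 5, 4, 5, 4, 5], [5, 4, 5, 4, 5, 4])) (BT.leaf (2, [5, 5], [5, 5])))) (BT.node 57 (BT.node 56 (BT.leaf (6, [6, 5, 6, 5, 6, 5], [5, 6, 5, 6, 5, 6])) (BT.leaf (4, [8, 5, 8, 5], [5, 8, 5, 8]))) (BT.leaf (4, [7, 5, 7, 5], [5, 7, 5, 7])))) (BT.node 61 (BT.node 60 (BT.node 59 (BT.leaf (4, [9, 5, 9, 5], [5, 9, 5, 9])) (BT.leaf (4, [0, 6, 0, 6], [6, 0, 6, 0]))) (BT.leaf (4, [1, 6, 1, 6], [6, 1, 6, 1]))) (BT.node 63 (BT.node 62 (BT.leaf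 (4, [2, 6, 2, 6], [6, 2, 6, 2])) (BT.leaf (4, [3, 6, 3, 6], [6, 3, 6, 3]))) (BT.leaf (4, [4, 6, 4, 6], [6, 4, 6, 4]))))) (BT.node 71 (BT.node 68 (BT.node 66 (BT.node 65 (BT.leaf (6, [5, 6, 5, 6, 5, 6], [6, 5, 6, 5, 6, 5])) (BT.leaf (2, [6, 6], [6, 6]))) (BT.node 67 (BT.leaf (4, [8, 6, 8, 6], [6, 8, 6, 8])) (BT.leaf (6, [7, 6, 7, 6, 7, 6], [6, 7, 6, 7, 6, 7])))) (BT.node 70 (BT.node 69 (BT.leaf (4, [9, 6, 9, 6], [6, 9, 6, 9])) (BT.leaf (4, [0, 8, 0, 8], [8, 0, 8, 0]))) (BT.leaf (4, [1, 8, 1, 8], [8, 1, 8, 1])))) (BT.node 74 (BT.node 73 (BT.node 72 (BT.leaf (4, [2, 8, 2, 8], [8, 2, 8, 2])) (BT.leaf (6, [3, 8, 3, 8, 3, 8], [8, 3, 8, 3, 8, 3]))) (BT.leaf (4, [4, 8, 4, 8], [8, 4, 8, 4]))) (BT.node 76 (BT.node 75 (BT.leaf (4, [5, 8, 5, 8], [8, 5, 8, 5]))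 (BT.leaf (4, [6, 8, 6, 8], [8, 6, 8, 6]))) (BT.leaf (2, [8, 8], [8, 8])))))) (BT.node 90 (BT.node 84 (BT.node 81 (BT.node 79 (BT.node 78 (BT.leaf (4, [7, 8, 7, 8], [8, 7, 8, 7])) (BT.leaf (6, [9, 8, 9, 8, 9, 8], [8, 9, 8, 9, 8, 9]))) (BT.node 80 (BT.leaf (4, [0, 7, 0, 7], [7, 0, 7, 0])) (BT.leaf (4, [1, 7, 1, 7], [7, 1, 7, 1])))) (BT.node 83 (BT.node 82 (BT.leaf (4, [2, 7, 2, 7], [7, 2, 7, 2])) (BT.leaf (4, [3, 7, 3, 7], [7, 3, 7, 3]))) (BT.leaf (4, [4, 7, 4, 7], [7, 4, 7, 4])))) (BT.node 87 (BT.node 86 (BT.node 85 (BT.leaf (4, [5, 7, 5, 7], [7, 5, 7, 5])) (BT.leaf (6, [6, 7, 6, 7, 6, 7], [7, 6, 7, 6, 7, 6]))) (BT.leaf (4, [8, 7, 8, 7], [7, 8, 7, 8]))) (BT.node 89 (BT.node 88 (BT.leaf (2, [7, 7], [7, 7])) (BT.leaf (4, [9, 7, 9, 7], [7, 9, 7, 9]))) (BT.leaf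 (4, [0, 9, 0, 9], [9, 0, 9, 0]))))) (BT.node 96 (BT.node 93 (BT.node 92 (BT.node 91 (BT.leaf (4, [1, 9, 1, 9], [9, 1, 9, 1])) (BT.leaf (4, [2, 9, 2, 9], [9, 2, 9, 2]))) (BT.leaf (4, [3, 9, 3, 9], [9, 3, 9, 3]))) (BT.node 95 (BT.node 94 (BT.leaf (4, [4, 9, 4, 9], [9, 4, 9, 4])) (BT.leaf (4, [5, 9, 5, 9], [9, 5, 9, 5]))) (BT.leaf (4, [6, 9, 6, 9], [9, 6, 9, 6])))) (BT.node 99 (BT.node 98 (BT.node 97 (BT.leaf (6, [8, 9, 8, 9, 8, 9], [9, 8, 9, 8, 9, 8])) (BT.leaf (4, [7, 9, 7, 9], [9, 7, 9, 7]))) (BT.leaf (2, [9, 9], [9, 9]))) (BT.node 101 (BT.node 100 (BT.leaf (90, [9, 8, 3, 5, 4, 3, 1, 2, 3, 9, 8, 3, 5, 4, 3, 1, 2, 3, 9, 8, 3, 5, 4, 3, 1, 2, 3, 9, 8, 3, 5, 4, 3, 1, 2, 3, 9, 8, 3, 5, 4, 3, 1, 2, 3, 9, 8, 3, 5, 4, 3, 1, 2, 3, 9, 8, 3, 5, 4, 3, 1, 2, 3,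 9, 8, 3, 5, 4, 3, 1, 2, 3, 9, 8, 3, 5, 4, 3, 1, 2, 3, 9, 8, 3, 5, 4, 3, 1, 2, 3], [3, 2, 1, 3, 4, 5, 3, 8, 9, 3, 2, 1, 3, 4, 5, 3, 8, 9, 3, 2, 1, 3, 4, 5, 3, 8, 9, 3, 2, 1, 3, 4, 5, 3, 8, 9, 3, 2, 1, 3, 4, 5, 3, 8, 9, 3, 2, 1, 3, 4, 5, 3, 8, 9, 3, 2, 1, 3, 4, 5, 3, 8, 9, 3, 2, 1, 3, 4, 5, 3, 8, 9, 3, 2, 1, 3, 4, 5, 3, 8, 9, 3, 2, 1, 3, 4, 5, 3, 8, 9])) (BT.leaf (63, [8, 5, 4, 3, 2, 1, 0, 8, 5, 4, 3, 2, 1, 0, 8, 5, 4, 3, 2, 1, 0, 8, 5, 4, 3, 2, 1, 0, 8, 5, 4, 3, 2, 1, 0, 8, 5, 4, 3, 2, 1, 0, 8, 5, 4, 3, 2, 1, 0, 8, 5, 4, 3, 2, 1, 0, 8, 5, 4, 3, 2, 1, 0], [0, 1, 2, 3, 4, 5, 8, 0, 1, 2, 3, 4, 5, 8, 0, 1, 2, 3, 4, 5, 8, 0, 1, 2, 3, 4, 5, 8, 0, 1, 2, 3, 4, 5, 8, 0, 1, 2, 3, 4, 5, 8, 0, 1, 2, 3, 4, 5, 8, 0, 1, 2, 3, 4, 5, 8, 0, 1, 2, 3, 4, 5, 8]))) (BT.leaf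 (11, [6, 5, 1, 4, 7, 0, 8, 3, 1, 2, 1], [1, 2, 1, 3, 8, 0, 7, 4, 1, 5, 6]))))))))
/-- subgroup generators -/
def subT : BT (ℕ × List ℕ × List ℕ) := (BT.leaf (0, [], []))
/-- fact chunks -/
def colET : BT ℕ := (BT.node 10 (BT.node 5 (BT.node 2 (BT.node 1 (BT.node 0 (BT.leaf cE0) (BT.leaf cE1)) (BT.leaf cE2)) (BT.node 4 (BT.node 3 (BT.leaf cE3) (BT.leaf cE4)) (BT.leaf cE5))) (BT.node 8 (BT.node 7 (BT.node 6 (BT.leaf cE6) (BT.leaf cE7)) (BT.leaf cE8)) (BT.node 9 (BT.leaf cE9) (BT.leaf cE10)))) (BT.node 16 (BT.node 13 (BT.node 12 (BT.node 11 (BT.leaf cE11) (BT.leaf cE12)) (BT.leaf cE13)) (BT.node 15 (BT.node 14 (BT.leaf cE14) (BT.leaf cE15)) (BT.leaf cE16))) (BT.node 19 (BT.node 18 (BT.node 17 (BT.leaf cE17) (BT.leaf cE18)) (BT.leaf cE19)) (BT.node 20 (BT.leaf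 cE20) (BT.leaf cE21)))))
/-- justification chunks -/
def colJT : BT ℕ := (BT.node 10 (BT.node 5 (BT.node 2 (BT.node 1 (BT.node 0 (BT.leaf cJ0) (BT.leaf cJ1)) (BT.leaf cJ2)) (BT.node 4 (BT.node 3 (BT.leaf cJ3) (BT.leaf cJ4)) (BT.leaf cJ5))) (BT.node 8 (BT.node 7 (BT.node 6 (BT.leaf cJ6) (BT.leaf cJ7)) (BT.leaf cJ8)) (BT.node 9 (BT.leaf cJ9) (BT.leaf cJ10)))) (BT.node 16 (BT.node 13 (BT.node 12 (BT.node 11 (BT.leaf cJ11) (BT.leaf cJ12)) (BT.leaf cJ13)) (BT.node 15 (BT.node 14 (BT.leaf cJ14) (BT.leaf cJ15)) (BT.leaf cJ16))) (BT.node 19 (BT.node 18 (BT.node 17 (BT.leaf cJ17) (BT.leaf cJ18)) (BT.leaf cJ19)) (BT.node 20 (BT.leaf cJ20) (BT.leaf cJ21)))))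
/-- parent chunks -/
def parCT : BT ℕ := (BT.node 0 (BT.leaf cP0) (BT.leaf cP1))
/-- the certificate -/
def data : Data where
  k := 10
  N := 620
  W := 21
  MW := 2097152
  B := 1024
  CH := 512
  NCH := 2
  colE := colET
  JW := 64
  MJ := 18446744073709551616
  A := 1048576
  colJ := colJT
  PW := 19
  MP := 524288
  parC := parCT
  inv := (BT.node 5 (BT.node 2 (BT.node 1 (BT.node 0 (BT.leaf 0) (BT.leaf 1)) (BT.leaf 2)) (BT.node 4 (BT.node 3 (BT.leaf 3) (BT.leaf 4)) (BT.leaf 5))) (BT.node 8 (BT.node 7 (BT.node 6 (BT.leaf 6) (BT.leaf 7)) (BT.leaf 8)) (BT.node 9 (BT.leaf 9) (BT.leaf 10))))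
  rel := relT
  sub := subT
  fuel := 64

end Cfsg.Agent.Lib.Helper28.TCFi23WCData
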