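import Cfsg.Agent.Lib.Helper28.TCONTable
set_option autoImplicit false
set_option maxRecDepth 100000
set_option maxHeartbeats 0

namespace Cfsg.Agent.Lib.Helper28.TCONL0
open Cfsg.Agent.Lib.Helper28.TC2Upper Cfsg.Agent.Lib.Helper28.TC2Lower Cfsg.Agent.Lib.Helper28.TCONTable

theorem rel0 : table.relOK relPaths 0 1209 = true := by decide +kernel
theorem rel1 : table.relOK relPaths 1209 1209 = true := by decide +kernel
theorem rel2 : table.relOK relPaths 2418 1209 = true := by decide +kernel
theorem rel3 : table.relOK relPaths 3627 1209 = true := by decide +kernel
theorem rel4 : table.relOK relPaths 4836 1209 = true := by decide +kernel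
theorem rel5 : table.relOK relPaths 6045 1209 = true := by decide +kernel
theorem rel6 : table.relOK relPaths 7254 1209 = true := by decide +kernel
theorem rel7 : table.relOK relPaths 8463 1209 = true := by decide +kernel
theorem rel8 : table.relOK relPaths 9672 1209 = true := by decide +kernel
theorem rel9 : table.relOK relPaths 10881 1209 = true := by decide +kernel
theorem rel10 : table.relOK relPaths 12090 1209 = true := by decide +kernel

end Cfsg.Agent.Lib.Helper28.TCONL0
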