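import Cfsg.Agent.Lib.Helper28.TCONTable
set_option autoImplicit false
set_option maxRecDepth 100000
set_option maxHeartbeats 0

namespace Cfsg.Agent.Lib.Helper28.TCONL1
open Cfsg.Agent.Lib.Helper28.TC2Upper Cfsg.Agent.Lib.Helper28.TC2Lower Cfsg.Agent.Lib.Helper28.TCONTable

theorem rel11 : table.relOK relPaths 13299 1209 = true := by decide +kernel
theorem rel12 : table.relOK relPaths 14508 1209 = true := by decide +kernel
theorem rel13 : table.relOK relPaths 15717 1209 = true := by decide +kernel
theorem rel14 : table.relOK relPaths 16926 1209 = true := by decide +kernel
theorem rel15 : table.relOK relPaths 18135 1209 = true := by decide +kernel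
theorem rel16 : table.relOK relPaths 19344 1209 = true := by decide +kernel
theorem rel17 : table.relOK relPaths 20553 1209 = true := by decide +kernel
theorem rel18 : table.relOK relPaths 21762 1209 = true := by decide +kernel
theorem rel19 : table.relOK relPaths 22971 1209 = true := by decide +kernel
theorem rel20 : table.relOK relPaths 24180 1209 = true := by decide +kernel
theorem rel21 : table.relOK relPaths 25389 1209 = true := by decide +kernel

end Cfsg.Agent.Lib.Helper28.TCONL1
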