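import Cfsg.Agent.Lib.Helper28.TCONTable
import Cfsg.Agent.Lib.Helper28.TCONL0
set_option autoImplicit false
set_option maxRecDepth 100000
set_option maxHeartbeats 0

namespace Cfsg.Agent.Lib.Helper28.TCONL2
open Cfsg.Agent.Lib.Helper28.TC2Upper Cfsg.Agent.Lib.Helper28.TC2Lower Cfsg.Agent.Lib.Helper28.TCONTable

theorem rel22 : table.relOK relPaths 26598 1209 = true := by decide +kernel
theorem rel23 : table.relOK relPaths 27807 1209 = true := by decide +kernel
theorem rel24 : table.relOK relPaths 29016 1209 = true := by decide +kernel
theorem rel25 : table.relOK relPaths 30225 1209 = true := by decide +kernel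
theorem rel26 : table.relOK relPaths 31434 1209 = true := by decide +kernel
theorem rel27 : table.relOK relPaths 32643 1209 = true := by decide +kernel
theorem rel28 : table.relOK relPaths 33852 1209 = true := by decide +kernel
theorem rel29 : table.relOK relPaths 35061 1209 = true := by decide +kernel
theorem rel30 : table.relOK relPaths 36270 1209 = true := by decide +kernel
theorem rel31 : table.relOK relPaths 37479 1209 = true := by decide +kernel
theorem rel32 : table.relOK relPaths 38688 1209 = true := by decide +kernel

end Cfsg.Agent.Lib.Helper28.TCONL2
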