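import Cfsg.Agent.Lib.Helper28.TCONTable
import Cfsg.Agent.Lib.Helper28.TCONL2
set_option autoImplicit false
set_option maxRecDepth 100000
set_option maxHeartbeats 0

namespace Cfsg.Agent.Lib.Helper28.TCONL4
open Cfsg.Agent.Lib.Helper28.TC2Upper Cfsg.Agent.Lib.Helper28.TC2Lower Cfsg.Agent.Lib.Helper28.TCONTable

theorem rel44 : table.relOK relPaths 53196 1209 = true := by decide +kernel
theorem rel45 : table.relOK relPaths 54405 1209 = true := by decide +kernel
theorem rel46 : table.relOK relPaths 55614 1209 = true := by decide +kernel
theorem rel47 : table.relOK relPaths 56823 1209 = true := by decide +kernel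
theorem rel48 : table.relOK relPaths 58032 1209 = true := by decide +kernel
theorem rel49 : table.relOK relPaths 59241 1209 = true := by decide +kernel
theorem rel50 : table.relOK relPaths 60450 1209 = true := by decide +kernel
theorem rel51 : table.relOK relPaths 61659 1209 = true := by decide +kernel
theorem rel52 : table.relOK relPaths 62868 1209 = true := by decide +kernel
theorem rel53 : table.relOK relPaths 64077 1209 = true := by decide +kernel
theorem rel54 : table.relOK relPaths 65286 1209 = true := by decide +kernel

end Cfsg.Agent.Lib.Helper28.TCONL4
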