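import Cfsg.Agent.Lib.Helper28.TCONTable
import Cfsg.Agent.Lib.Helper28.TCONL1
set_option autoImplicit false
set_option maxRecDepth 100000
set_option maxHeartbeats 0

namespace Cfsg.Agent.Lib.Helper28.TCONL3
open Cfsg.Agent.Lib.Helper28.TC2Upper Cfsg.Agent.Lib.Helper28.TC2Lower Cfsg.Agent.Lib.Helper28.TCONTable

theorem rel33 : table.relOK relPaths 39897 1209 = true := by decide +kernel
theorem rel34 : table.relOK relPaths 41106 1209 = true := by decide +kernel
theorem rel35 : table.relOK relPaths 42315 1209 = true := by decide +kernel
theorem rel36 : table.relOK relPaths 43524 1209 = true := by decide +kernel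
theorem rel37 : table.relOK relPaths 44733 1209 = true := by decide +kernel
theorem rel38 : table.relOK relPaths 45942 1209 = true := by decide +kernel
theorem rel39 : table.relOK relPaths 47151 1209 = true := by decide +kernel
theorem rel40 : table.relOK relPaths 48360 1209 = true := by decide +kernel
theorem rel41 : table.relOK relPaths 49569 1209 = true := by decide +kernel
theorem rel42 : table.relOK relPaths 50778 1209 = true := by decide +kernel
theorem rel43 : table.relOK relPaths 51987 1209 = true := by decide +kernel

end Cfsg.Agent.Lib.Helper28.TCONL3
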