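import Cfsg.Agent.Lib.Helper28.TCONTable
import Cfsg.Agent.Lib.Helper28.TCONL3
set_option autoImplicit false
set_option maxRecDepth 100000
set_option maxHeartbeats 0

namespace Cfsg.Agent.Lib.Helper28.TCONL5
open Cfsg.Agent.Lib.Helper28.TC2Upper Cfsg.Agent.Lib.Helper28.TC2Lower Cfsg.Agent.Lib.Helper28.TCONTable

theorem rel55 : table.relOK relPaths 66495 1209 = true := by decide +kernel
theorem rel56 : table.relOK relPaths 67704 1209 = true := by decide +kernel
theorem rel57 : table.relOK relPaths 68913 1209 = true := by decide +kernel
theorem rel58 : table.relOK relPaths 70122 1209 = true := by decide +kernel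
theorem rel59 : table.relOK relPaths 71331 1209 = true := by decide +kernel
theorem rel60 : table.relOK relPaths 72540 1209 = true := by decide +kernel
theorem rel61 : table.relOK relPaths 73749 1209 = true := by decide +kernel
theorem rel62 : table.relOK relPaths 74958 1209 = true := by decide +kernel
theorem rel63 : table.relOK relPaths 76167 1209 = true := by decide +kernel
theorem rel64 : table.relOK relPaths 77376 1209 = true := by decide +kernel
theorem rel65 : table.relOK relPaths 78585 1209 = true := by decide +kernel

end Cfsg.Agent.Lib.Helper28.TCONL5
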