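import Cfsg.Agent.Lib.Helper28.TCONTable
import Cfsg.Agent.Lib.Helper28.TCONL4
set_option autoImplicit false
set_option maxRecDepth 100000
set_option maxHeartbeats 0

namespace Cfsg.Agent.Lib.Helper28.TCONL6
open Cfsg.Agent.Lib.Helper28.TC2Upper Cfsg.Agent.Lib.Helper28.TC2Lower Cfsg.Agent.Lib.Helper28.TCONTable

theorem rel66 : table.relOK relPaths 79794 1209 = true := by decide +kernel
theorem rel67 : table.relOK relPaths 81003 1209 = true := by decide +kernel
theorem rel68 : table.relOK relPaths 82212 1209 = true := by decide +kernel
theorem rel69 : table.relOK relPaths 83421 1209 = true := by decide +kernel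
theorem rel70 : table.relOK relPaths 84630 1209 = true := by decide +kernel
theorem rel71 : table.relOK relPaths 85839 1209 = true := by decide +kernel
theorem rel72 : table.relOK relPaths 87048 1209 = true := by decide +kernel
theorem rel73 : table.relOK relPaths 88257 1209 = true := by decide +kernel
theorem rel74 : table.relOK relPaths 89466 1209 = true := by decide +kernel
theorem rel75 : table.relOK relPaths 90675 1209 = true := by decide +kernel
theorem rel76 : table.relOK relPaths 91884 1209 = true := by decide +kernel

end Cfsg.Agent.Lib.Helper28.TCONL6
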