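import Cfsg.Agent.Lib.Helper28.TCONTable
import Cfsg.Agent.Lib.Helper28.TCONL5
set_option autoImplicit false
set_option maxRecDepth 100000
set_option maxHeartbeats 0

namespace Cfsg.Agent.Lib.Helper28.TCONL7
open Cfsg.Agent.Lib.Helper28.TC2Upper Cfsg.Agent.Lib.Helper28.TC2Lower Cfsg.Agent.Lib.Helper28.TCONTable

theorem rel77 : table.relOK relPaths 93093 1209 = true := by decide +kernel
theorem rel78 : table.relOK relPaths 94302 1209 = true := by decide +kernel
theorem rel79 : table.relOK relPaths 95511 1209 = true := by decide +kernel
theorem rel80 : table.relOK relPaths 96720 1209 = true := by decide +kernel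
theorem rel81 : table.relOK relPaths 97929 1209 = true := by decide +kernel
theorem rel82 : table.relOK relPaths 99138 1209 = true := by decide +kernel
theorem rel83 : table.relOK relPaths 100347 1209 = true := by decide +kernel
theorem rel84 : table.relOK relPaths 101556 1209 = true := by decide +kernel
theorem rel85 : table.relOK relPaths 102765 1209 = true := by decide +kernel
theorem rel86 : table.relOK relPaths 103974 1209 = true := by decide +kernel
theorem rel87 : table.relOK relPaths 105183 1209 = true := by decide +kernel

end Cfsg.Agent.Lib.Helper28.TCONL7
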