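import Cfsg.Agent.Lib.Helper28.TCONTable
import Cfsg.Agent.Lib.Helper28.TCONL6
set_option autoImplicit false
set_option maxRecDepth 100000
set_option maxHeartbeats 0

namespace Cfsg.Agent.Lib.Helper28.TCONL8
open Cfsg.Agent.Lib.Helper28.TC2Upper Cfsg.Agent.Lib.Helper28.TC2Lower Cfsg.Agent.Lib.Helper28.TCONTable

theorem rel88 : table.relOK relPaths 106392 1209 = true := by decide +kernel
theorem rel89 : table.relOK relPaths 107601 1209 = true := by decide +kernel
theorem rel90 : table.relOK relPaths 108810 1209 = true := by decide +kernel
theorem rel91 : table.relOK relPaths 110019 1209 = true := by decide +kernel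
theorem rel92 : table.relOK relPaths 111228 1209 = true := by decide +kernel
theorem rel93 : table.relOK relPaths 112437 1209 = true := by decide +kernel
theorem rel94 : table.relOK relPaths 113646 1209 = true := by decide +kernel
theorem rel95 : table.relOK relPaths 114855 1209 = true := by decide +kernel
theorem rel96 : table.relOK relPaths 116064 1209 = true := by decide +kernel
theorem rel97 : table.relOK relPaths 117273 1209 = true := by decide +kernel
theorem rel98 : table.relOK relPaths 118482 1209 = true := by decide +kernel

end Cfsg.Agent.Lib.Helper28.TCONL8
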