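import Cfsg.Agent.Lib.Helper28.TCONTable
import Cfsg.Agent.Lib.Helper28.TCONL7
set_option autoImplicit false
set_option maxRecDepth 100000
set_option maxHeartbeats 0

namespace Cfsg.Agent.Lib.Helper28.TCONL9
open Cfsg.Agent.Lib.Helper28.TC2Upper Cfsg.Agent.Lib.Helper28.TC2Lower Cfsg.Agent.Lib.Helper28.TCONTable

theorem rel99 : table.relOK relPaths 119691 1209 = true := by decide +kernel
theorem rel100 : table.relOK relPaths 120900 1209 = true := by decide +kernel
theorem rel101 : table.relOK relPaths 122109 651 = true := by decide +kernel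

end Cfsg.Agent.Lib.Helper28.TCONL9
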