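import Cfsg.Agent.Lib.Helper28.TC2Upper
import Cfsg.Agent.Lib.Helper28.TCONDataC0
import Cfsg.Agent.Lib.Helper28.TCONDataC1
import Cfsg.Agent.Lib.Helper28.TCONDataC2
import Cfsg.Agent.Lib.Helper28.TCONDataC3
import Cfsg.Agent.Lib.Helper28.TCONDataC4
import Cfsg.Agent.Lib.Helper28.TCONDataC5
import Cfsg.Agent.Lib.Helper28.TCONDataC6
import Cfsg.Agent.Lib.Helper28.TCONDataC7
import Cfsg.Agent.Lib.Helper28.TCONDataC8
import Cfsg.Agent.Lib.Helper28.TCONDataC9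
set_option autoImplicit false
set_option maxRecDepth 100000

namespace Cfsg.Agent.Lib.Helper28.TCONData
open Cfsg.Agent.Lib.Helper28.TC2Upper

/-- relators -/
def relT : BT (ℕ × List ℕ × List ℕ) := (BT.node 21 (BT.node 10 (BT.node 5 (BT.node 2 (BT.node 1 (BT.node 0 (BT.leaf (2, [2, 2], [2, 2])) (BT.leaf (6, [3, 2, 3, 2, 3, 2], [2, 3, 2, 3, 2, 3]))) (BT.leaf (4, [4, 2, 4, 2], [2, 4, 2, 4]))) (BT.node 4 (BT.node 3 (BT.leaf (4, [5, 2, 5, 2], [2, 5, 2, 5])) (BT.leaf (4, [6, 2, 6, 2], [2, 6, 2, 6]))) (BT.leaf (4, [7, 2, 7, 2], [2, 7, 2, 7])))) (BT.node 8 (BT.node 7 (BT.node 6 (BT.leaf (6, [2, 3, 2, 3, 2, 3], [3, 2, 3, 2, 3, 2])) (BT.leaf (2, [3, 3], [3, 3]))) (BT.leaf (6, [4, 3, 4, 3, 4, 3], [3, 4, 3, 4, 3, 4]))) (BT.node 9 (BT.leaf (4, [5, 3, 5, 3], [3, 5, 3, 5])) (BT.leaf (4, [6, 3, 6, 3], [3, 6, 3, 6]))))) (BT.node 16 (BT.node 13 (BT.node 12 (BT.node 11 (BT.leaf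 (4, [7, 3, 7, 3], [3, 7, 3, 7])) (BT.leaf (4, [2, 4, 2, 4], [4, 2, 4, 2]))) (BT.leaf (6, [3, 4, 3, 4, 3, 4], [4, 3, 4, 3, 4, 3]))) (BT.node 15 (BT.node 14 (BT.leaf (2, [4, 4], [4, 4])) (BT.leaf (16, [5, 4, 5, 4, 5, 4, 5, 4, 5, 4, 5, 4, 5, 4, 5, 4], [4, 5, 4, 5, 4, 5, 4, 5, 4, 5, 4, 5, 4, 5, 4, 5]))) (BT.leaf (4, [6, 4, 6, 4], [4, 6, 4, 6])))) (BT.node 19 (BT.node 18 (BT.node 17 (BT.leaf (4, [7, 4, 7, 4], [4, 7, 4, 7])) (BT.leaf (4, [2, 5, 2, 5], [5, 2, 5, 2]))) (BT.leaf (4, [3, 5, 3, 5], [5, 3, 5, 3]))) (BT.node 20 (BT.leaf (16, [4, 5, 4, 5, 4, 5, 4, 5, 4, 5, 4, 5, 4, 5, 4, 5], [5, 4, 5, 4, 5, 4, 5, 4, 5, 4, 5, 4, 5, 4, 5, 4])) (BT.leaf (2, [5, 5], [5, 5])))))) (BT.node 32 (BT.node 27 (BT.node 24 (BT.node 23 (BT.node 22 (BT.leaf (6, [6, 5, 6, 5, 6, 5], [5, 6, 5, 6, 5, 6])) (BT.leaf (4, [7, 5, 7, 5], [5, 7, 5, 7]))) (BT.leaf (4, [2, 6, 2, 6], [6, 2, 6, 2]))) (BT.node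 26 (BT.node 25 (BT.leaf (4, [3, 6, 3, 6], [6, 3, 6, 3])) (BT.leaf (4, [4, 6, 4, 6], [6, 4, 6, 4]))) (BT.leaf (6, [5, 6, 5, 6, 5, 6], [6, 5, 6, 5, 6, 5])))) (BT.node 30 (BT.node 29 (BT.node 28 (BT.leaf (2, [6, 6], [6, 6])) (BT.leaf (6, [7, 6, 7, 6, 7, 6], [6, 7, 6, 7, 6, 7]))) (BT.leaf (4, [2, 7, 2, 7], [7, 2, 7, 2]))) (BT.node 31 (BT.leaf (4, [3, 7, 3, 7], [7, 3, 7, 3])) (BT.leaf (4, [4, 7, 4, 7], [7, 4, 7, 4]))))) (BT.node 37 (BT.node 35 (BT.node 34 (BT.node 33 (BT.leaf (4, [5, 7, 5, 7], [7, 5, 7, 5])) (BT.leaf (6, [6, 7, 6, 7, 6, 7], [7, 6, 7, 6, 7, 6]))) (BT.leaf (2, [7, 7], [7, 7]))) (BT.node 36 (BT.leaf (4, [1, 1, 7, 2], [2, 7, 0, 0])) (BT.leaf (10, [4, 5, 4, 5, 4, 5, 4, 5, 7, 2], [2, 7, 5, 4, 5, 4, 5, 4, 5, 4])))) (BT.node 40 (BT.node 39 (BT.node 38 (BT.leaf (10, [0, 5, 0, 5, 4, 5, 1, 5, 1, 4], [4, 0, 5, 0, 5, 4, 5, 1, 5, 1])) (BT.leaf (10, [0, 4, 0, 4,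 5, 4, 1, 4, 1, 5], [5, 0, 4, 0, 4, 5, 4, 1, 4, 1]))) (BT.leaf (20, [0, 5, 4, 3, 0, 5, 4, 3, 0, 5, 4, 3, 0, 5, 4, 3, 0, 5, 4, 3], [3, 4, 5, 1, 3, 4, 5, 1, 3, 4, 5, 1, 3, 4, 5, 1, 3, 4, 5, 1]))) (BT.node 41 (BT.leaf (11, [4, 0, 4, 3, 0, 3, 4, 0, 4, 3, 0], [1, 3, 4, 1, 4, 3, 1, 3, 4, 1, 4])) (BT.leaf (11, [5, 0, 5, 6, 0, 6, 5, 0, 5, 6, 0], [1, 6, 5, 1, 5, 6, 1, 6, 5, 1, 5])))))))
/-- subgroup generators -/
def subT : BT (ℕ × List ℕ × List ℕ) := (BT.node 2 (BT.node 1 (BT.node 0 (BT.leaf (1, [2], [2])) (BT.leaf (1, [3], [3]))) (BT.leaf (1, [4], [4]))) (BT.node 4 (BT.node 3 (BT.leaf (1, [5], [5])) (BT.leaf (1, [6], [6]))) (BT.leaf (1, [7], [7]))))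
/-- fact chunks -/
def colET : BT ℕ := (BT.node 2015 (BT.node 1007 (BT.node 503 (BT.node 251 (BT.node 125 (BT.node 62 (BT.node 31 (BT.node 15 (BT.node 7 (BT.node 3 (BT.node 1 (BT.node 0 (BT.leaf cE0) (BT.leaf cE1)) (BT.node 2 (BT.leaf cE2) (BT.leaf cE3))) (BT.node 5 (BT.node 4 (BT.leaf cE4) (BT.leaf cE5)) (BT.node 6 (BT.leaf cE6) (BT.leaf cE7)))) (BT.node 11 (BT.node 9 (BT.node 8 (BT.leaf cE8) (BT.leaf cE9)) (BT.node 10 (BT.leaf cE10) (BT.leaf cE11))) (BT.node 13 (BT.node 12 (BT.leaf cE12) (BT.leaf cE13)) (BT.node 14 (BT.leaf cE14) (BT.leaf cE15))))) (BT.node 23 (BT.node 19 (BT.node 17 (BT.node 16 (BT.leaf cE16) (BT.leaf cE17)) (BT.node 18 (BT.leaf cE18) (BT.leaf cE19))) (BT.node 21 (BT.node 20 (BT.leaf cE20) (BT.leaf cE21)) (BT.node 22 (BT.leaf cE22) (BT.leaf cE23)))) (BT.node 27 (BT.node 25 (BT.node 24 (BT.leaf cE24) (BT.leaf cE25)) (BT.node 26 (BT.leaf cE26) (BT.leaf cE27))) (BT.node 29 (BT.node 28 (BT.leaf cE28) (BT.leaf cE29)) (BT.node 30 (BT.leaf cE30) (BT.leaf cE31)))))) (BT.node 47 (BT.node 39 (BT.node 35 (BT.node 33 (BT.node 32 (BT.leaf cE32) (BT.leaf cE33)) (BT.node 34 (BT.leaf cE34) (BT.leaf cE35))) (BT.node 37 (BT.node 36 (BT.leaf cE36) (BT.leaf cE37)) (BT.node 38 (BT.leaf cE38) (BT.leaf cE39)))) (BT.node 43 (BT.node 41 (BT.node 40 (BT.leaf cE40) (BT.leaf cE41)) (BT.node 42 (BT.leaf cE42) (BT.leaf cE43))) (BT.node 45 (BT.node 44 (BT.leaf cE44) (BT.leaf cE45)) (BT.node 46 (BT.leaf cE46) (BT.leaf cE47))))) (BT.node 55 (BT.node 51 (BT.node 49 (BT.node 48 (BT.leaf cE48) (BT.leaf cE49)) (BT.node 50 (BT.leaf cE50) (BT.leaf cE51))) (BT.node 53 (BT.node 52 (BT.leaf cE52) (BT.leaf cE53)) (BT.node 54 (BT.leaf cE54) (BT.leaf cE55)))) (BT.node 59 (BT.node 57 (BT.node 56 (BT.leaf cE56) (BT.leaf cE57)) (BT.node 58 (BT.leaf cE58) (BT.leaf cE59))) (BT.node 61 (BT.node 60 (BT.leaf cE60) (BT.leaf cE61)) (BT.leaf cE62)))))) (BT.node 94 (BT.node 78 (BT.node 70 (BT.node 66 (BT.node 64 (BT.node 63 (BT.leaf cE63) (BT.leaf cE64)) (BT.node 65 (BT.leaf cE65) (BT.leaf cE66))) (BT.node 68 (BT.node 67 (BT.leaf cE67) (BT.leaf cE68)) (BT.node 69 (BT.leaf cE69) (BT.leaf cE70)))) (BT.node 74 (BT.node 72 (BT.node 71 (BT.leaf cE71) (BT.leaf cE72)) (BT.node 73 (BT.leaf cE73) (BT.leaf cE74))) (BT.node 76 (BT.node 75 (BT.leaf cE75) (BT.leaf cE76)) (BT.node 77 (BT.leaf cE77) (BT.leaf cE78))))) (BT.node 86 (BT.node 82 (BT.node 80 (BT.node 79 (BT.leaf cE79) (BT.leaf cE80)) (BT.node 81 (BT.leaf cE81) (BT.leaf cE82))) (BT.node 84 (BT.node 83 (BT.leaf cE83) (BT.leaf cE84)) (BT.node 85 (BT.leaf cE85) (BT.leaf cE86)))) (BT.node 90 (BT.node 88 (BT.node 87 (BT.leaf cE87) (BT.leaf cE88)) (BT.node 89 (BT.leaf cE89) (BT.leaf cE90))) (BT.node 92 (BT.node 91 (BT.leaf cE91) (BT.leaf cE92)) (BT.node 93 (BT.leaf cE93) (BT.leaf cE94)))))) (BT.node 110 (BT.node 102 (BT.node 98 (BT.node 96 (BT.node 95 (BT.leaf cE95) (BT.leaf cE96)) (BT.node 97 (BT.leaf cE97) (BT.leaf cE98))) (BT.node 100 (BT.node 99 (BT.leaf cE99) (BT.leaf cE100)) (BT.node 101 (BT.leaf cE101) (BT.leaf cE102)))) (BT.node 106 (BT.node 104 (BT.node 103 (BT.leaf cE103) (BT.leaf cE104)) (BT.node 105 (BT.leaf cE105) (BT.leaf cE106))) (BT.node 108 (BT.node 107 (BT.leaf cE107) (BT.leaf cE108)) (BT.node 109 (BT.leaf cE109) (BT.leaf cE110))))) (BT.node 118 (BT.node 114 (BT.node 112 (BT.node 111 (BT.leaf cE111) (BT.leaf cE112)) (BT.node 113 (BT.leaf cE113) (BT.leaf cE114))) (BT.node 116 (BT.node 115 (BT.leaf cE115) (BT.leaf cE116)) (BT.node 117 (BT.leaf cE117) (BT.leaf cE118)))) (BT.node 122 (BT.node 120 (BT.node 119 (BT.leaf cE119) (BT.leaf cE120)) (BT.node 121 (BT.leaf cE121) (BT.leaf cE122))) (BT.node 124 (BT.node 123 (BT.leaf cE123) (BT.leaf cE124)) (BT.leaf cE125))))))) (BT.node 188 (BT.node 157 (BT.node 141 (BT.node 133 (BT.node 129 (BT.node 127 (BT.node 126 (BT.leaf cE126) (BT.leaf cE127)) (BT.node 128 (BT.leaf cE128) (BT.leaf cE129))) (BT.node 131 (BT.node 130 (BT.leaf cE130) (BT.leaf cE131)) (BT.node 132 (BT.leaf cE132) (BT.leaf cE133)))) (BT.node 137 (BT.node 135 (BT.node 134 (BT.leaf cE134) (BT.leaf cE135)) (BT.node 136 (BT.leaf cE136) (BT.leaf cE137))) (BT.node 139 (BT.node 138 (BT.leaf cE138) (BT.leaf cE139)) (BT.node 140 (BT.leaf cE140) (BT.leaf cE141))))) (BT.node 149 (BT.node 145 (BT.node 143 (BT.node 142 (BT.leaf cE142) (BT.leaf cE143)) (BT.node 144 (BT.leaf cE144) (BT.leaf cE145))) (BT.node 147 (BT.node 146 (BT.leaf cE146) (BT.leaf cE147)) (BT.node 148 (BT.leaf cE148) (BT.leaf cE149)))) (BT.node 153 (BT.node 151 (BT.node 150 (BT.leaf cE150) (BT.leaf cE151)) (BT.node 152 (BT.leaf cE152) (BT.leaf cE153))) (BT.node 155 (BT.node 154 (BT.leaf cE154) (BT.leaf cE155)) (BT.node 156 (BT.leaf cE156) (BT.leaf cE157)))))) (BT.node 173 (BT.node 165 (BT.node 161 (BT.node 159 (BT.node 158 (BT.leaf cE158) (BT.leaf cE159)) (BT.node 160 (BT.leaf cE160) (BT.leaf cE161))) (BT.node 163 (BT.node 162 (BT.leaf cE162) (BT.leaf cE163)) (BT.node 164 (BT.leaf cE164) (BT.leaf cE165)))) (BT.node 169 (BT.node 167 (BT.node 166 (BT.leaf cE166) (BT.leaf cE167)) (BT.node 168 (BT.leaf cE168) (BT.leaf cE169))) (BT.node 171 (BT.node 170 (BT.leaf cE170) (BT.leaf cE171)) (BT.node 172 (BT.leaf cE172) (BT.leaf cE173))))) (BT.node 181 (BT.node 177 (BT.node 175 (BT.node 174 (BT.leaf cE174) (BT.leaf cE175)) (BT.node 176 (BT.leaf cE176) (BT.leaf cE177))) (BT.node 179 (BT.node 178 (BT.leaf cE178) (BT.leaf cE179)) (BT.node 180 (BT.leaf cE180) (BT.leaf cE181)))) (BT.node 185 (BT.node 183 (BT.node 182 (BT.leaf cE182) (BT.leaf cE183)) (BT.node 184 (BT.leaf cE184) (BT.leaf cE185))) (BT.node 187 (BT.node 186 (BT.leaf cE186) (BT.leaf cE187)) (BT.leaf cE188)))))) (BT.node 220 (BT.node 204 (BT.node 196 (BT.node 192 (BT.node 190 (BT.node 189 (BT.leaf cE189) (BT.leaf cE190)) (BT.node 191 (BT.leaf cE191) (BT.leaf cE192))) (BT.node 194 (BT.node 193 (BT.leaf cE193) (BT.leaf cE194)) (BT.node 195 (BT.leaf cE195) (BT.leaf cE196)))) (BT.node 200 (BT.node 198 (BT.node 197 (BT.leaf cE197) (BT.leaf cE198)) (BT.node 199 (BT.leaf cE199) (BT.leaf cE200))) (BT.node 202 (BT.node 201 (BT.leaf cE201) (BT.leaf cE202)) (BT.node 203 (BT.leaf cE203) (BT.leaf cE204))))) (BT.node 212 (BT.node 208 (BT.node 206 (BT.node 205 (BT.leaf cE205) (BT.leaf cE206)) (BT.node 207 (BT.leaf cE207) (BT.leaf cE208))) (BT.node 210 (BT.node 209 (BT.leaf cE209) (BT.leaf cE210)) (BT.node 211 (BT.leaf cE211) (BT.leaf cE212)))) (BT.node 216 (BT.node 214 (BT.node 213 (BT.leaf cE213) (BT.leaf cE214)) (BT.node 215 (BT.leaf cE215) (BT.leaf cE216))) (BT.node 218 (BT.node 217 (BT.leaf cE217) (BT.leaf cE218)) (BT.node 219 (BT.leaf cE219) (BT.leaf cE220)))))) (BT.node 236 (BT.node 228 (BT.node 224 (BT.node 222 (BT.node 221 (BT.leaf cE221) (BT.leaf cE222)) (BT.node 223 (BT.leaf cE223) (BT.leaf cE224))) (BT.node 226 (BT.node 225 (BT.leaf cE225) (BT.leaf cE226)) (BT.node 227 (BT.leaf cE227) (BT.leaf cE228)))) (BT.node 232 (BT.node 230 (BT.node 229 (BT.leaf cE229) (BT.leaf cE230)) (BT.node 231 (BT.leaf cE231) (BT.leaf cE232))) (BT.node 234 (BT.node 233 (BT.leaf cE233) (BT.leaf cE234)) (BT.node 235 (BT.leaf cE235) (BT.leaf cE236))))) (BT.node 244 (BT.node 240 (BT.node 238 (BT.node 237 (BT.leaf cE237) (BT.leaf cE238)) (BT.node 239 (BT.leaf cE239) (BT.leaf cE240))) (BT.node 242 (BT.node 241 (BT.leaf cE241) (BT.leaf cE242)) (BT.node 243 (BT.leaf cE243) (BT.leaf cE244)))) (BT.node 248 (BT.node 246 (BT.node 245 (BT.leaf cE245) (BT.leaf cE246)) (BT.node 247 (BT.leaf cE247) (BT.leaf cE248))) (BT.node 250 (BT.node 249 (BT.leaf cE249) (BT.leaf cE250)) (BT.leaf cE251)))))))) (BT.node 377 (BT.node 314 (BT.node 283 (BT.node 267 (BT.node 259 (BT.node 255 (BT.node 253 (BT.node 252 (BT.leaf cE252) (BT.leaf cE253)) (BT.node 254 (BT.leaf cE254) (BT.leaf cE255))) (BT.node 257 (BT.node 256 (BT.leaf cE256) (BT.leaf cE257)) (BT.node 258 (BT.leaf cE258) (BT.leaf cE259)))) (BT.node 263 (BT.node 261 (BT.node 260 (BT.leaf cE260) (BT.leaf cE261)) (BT.node 262 (BT.leaf cE262) (BT.leaf cE263))) (BT.node 265 (BT.node 264 (BT.leaf cE264) (BT.leaf cE265)) (BT.node 266 (BT.leaf cE266) (BT.leaf cE267))))) (BT.node 275 (BT.node 271 (BT.node 269 (BT.node 268 (BT.leaf cE268) (BT.leaf cE269)) (BT.node 270 (BT.leaf cE270) (BT.leaf cE271))) (BT.node 273 (BT.node 272 (BT.leaf cE272) (BT.leaf cE273)) (BT.node 274 (BT.leaf cE274) (BT.leaf cE275)))) (BT.node 279 (BT.node 277 (BT.node 276 (BT.leaf cE276) (BT.leaf cE277)) (BT.node 278 (BT.leaf cE278) (BT.leaf cE279))) (BT.node 281 (BT.node 280 (BT.leaf cE280) (BT.leaf cE281)) (BT.node 282 (BT.leaf cE282) (BT.leaf cE283)))))) (BT.node 299 (BT.node 291 (BT.node 287 (BT.node 285 (BT.node 284 (BT.leaf cE284) (BT.leaf cE285)) (BT.node 286 (BT.leaf cE286) (BT.leaf cE287))) (BT.node 289 (BT.node 288 (BT.leaf cE288) (BT.leaf cE289)) (BT.node 290 (BT.leaf cE290) (BT.leaf cE291)))) (BT.node 295 (BT.node 293 (BT.node 292 (BT.leaf cE292) (BT.leaf cE293)) (BT.node 294 (BT.leaf cE294) (BT.leaf cE295))) (BT.node 297 (BT.node 296 (BT.leaf cE296) (BT.leaf cE297)) (BT.node 298 (BT.leaf cE298) (BT.leaf cE299))))) (BT.node 307 (BT.node 303 (BT.node 301 (BT.node 300 (BT.leaf cE300) (BT.leaf cE301)) (BT.node 302 (BT.leaf cE302) (BT.leaf cE303))) (BT.node 305 (BT.node 304 (BT.leaf cE304) (BT.leaf cE305)) (BT.node 306 (BT.leaf cE306) (BT.leaf cE307)))) (BT.node 311 (BT.node 309 (BT.node 308 (BT.leaf cE308) (BT.leaf cE309)) (BT.node 310 (BT.leaf cE310) (BT.leaf cE311))) (BT.node 313 (BT.node 312 (BT.leaf cE312) (BT.leaf cE313)) (BT.leaf cE314)))))) (BT.node 346 (BT.node 330 (BT.node 322 (BT.node 318 (BT.node 316 (BT.node 315 (BT.leaf cE315) (BT.leaf cE316)) (BT.node 317 (BT.leaf cE317) (BT.leaf cE318))) (BT.node 320 (BT.node 319 (BT.leaf cE319) (BT.leaf cE320)) (BT.node 321 (BT.leaf cE321) (BT.leaf cE322)))) (BT.node 326 (BT.node 324 (BT.node 323 (BT.leaf cE323) (BT.leaf cE324)) (BT.node 325 (BT.leaf cE325) (BT.leaf cE326))) (BT.node 328 (BT.node 327 (BT.leaf cE327) (BT.leaf cE328)) (BT.node 329 (BT.leaf cE329) (BT.leaf cE330))))) (BT.node 338 (BT.node 334 (BT.node 332 (BT.node 331 (BT.leaf cE331) (BT.leaf cE332)) (BT.node 333 (BT.leaf cE333) (BT.leaf cE334))) (BT.node 336 (BT.node 335 (BT.leaf cE335) (BT.leaf cE336)) (BT.node 337 (BT.leaf cE337) (BT.leaf cE338)))) (BT.node 342 (BT.node 340 (BT.node 339 (BT.leaf cE339) (BT.leaf cE340)) (BT.node 341 (BT.leaf cE341) (BT.leaf cE342))) (BT.node 344 (BT.node 343 (BT.leaf cE343) (BT.leaf cE344)) (BT.node 345 (BT.leaf cE345) (BT.leaf cE346)))))) (BT.node 362 (BT.node 354 (BT.node 350 (BT.node 348 (BT.node 347 (BT.leaf cE347) (BT.leaf cE348)) (BT.node 349 (BT.leaf cE349) (BT.leaf cE350))) (BT.node 352 (BT.node 351 (BT.leaf cE351) (BT.leaf cE352)) (BT.node 353 (BT.leaf cE353) (BT.leaf cE354)))) (BT.node 358 (BT.node 356 (BT.node 355 (BT.leaf cE355) (BT.leaf cE356)) (BT.node 357 (BT.leaf cE357) (BT.leaf cE358))) (BT.node 360 (BT.node 359 (BT.leaf cE359) (BT.leaf cE360)) (BT.node 361 (BT.leaf cE361) (BT.leaf cE362))))) (BT.node 370 (BT.node 366 (BT.node 364 (BT.node 363 (BT.leaf cE363) (BT.leaf cE364)) (BT.node 365 (BT.leaf cE365) (BT.leaf cE366))) (BT.node 368 (BT.node 367 (BT.leaf cE367) (BT.leaf cE368)) (BT.node 369 (BT.leaf cE369) (BT.leaf cE370)))) (BT.node 374 (BT.node 372 (BT.node 371 (BT.leaf cE371) (BT.leaf cE372)) (BT.node 373 (BT.leaf cE373) (BT.leaf cE374))) (BT.node 376 (BT.node 375 (BT.leaf cE375) (BT.leaf cE376)) (BT.leaf cE377))))))) (BT.node 440 (BT.node 409 (BT.node 393 (BT.node 385 (BT.node 381 (BT.node 379 (BT.node 378 (BT.leaf cE378) (BT.leaf cE379)) (BT.node 380 (BT.leaf cE380) (BT.leaf cE381))) (BT.node 383 (BT.node 382 (BT.leaf cE382) (BT.leaf cE383)) (BT.node 384 (BT.leaf cE384) (BT.leaf cE385)))) (BT.node 389 (BT.node 387 (BT.node 386 (BT.leaf cE386) (BT.leaf cE387)) (BT.node 388 (BT.leaf cE388) (BT.leaf cE389))) (BT.node 391 (BT.node 390 (BT.leaf cE390) (BT.leaf cE391)) (BT.node 392 (BT.leaf cE392) (BT.leaf cE393))))) (BT.node 401 (BT.node 397 (BT.node 395 (BT.node 394 (BT.leaf cE394) (BT.leaf cE395)) (BT.node 396 (BT.leaf cE396) (BT.leaf cE397))) (BT.node 399 (BT.node 398 (BT.leaf cE398) (BT.leaf cE399)) (BT.node 400 (BT.leaf cE400) (BT.leaf cE401)))) (BT.node 405 (BT.node 403 (BT.node 402 (BT.leaf cE402) (BT.leaf cE403)) (BT.node 404 (BT.leaf cE404) (BT.leaf cE405))) (BT.node 407 (BT.node 406 (BT.leaf cE406) (BT.leaf cE407)) (BT.node 408 (BT.leaf cE408) (BT.leaf cE409)))))) (BT.node 425 (BT.node 417 (BT.node 413 (BT.node 411 (BT.node 410 (BT.leaf cE410) (BT.leaf cE411)) (BT.node 412 (BT.leaf cE412) (BT.leaf cE413))) (BT.node 415 (BT.node 414 (BT.leaf cE414) (BT.leaf cE415)) (BT.node 416 (BT.leaf cE416) (BT.leaf cE417)))) (BT.node 421 (BT.node 419 (BT.node 418 (BT.leaf cE418) (BT.leaf cE419)) (BT.node 420 (BT.leaf cE420) (BT.leaf cE421))) (BT.node 423 (BT.node 422 (BT.leaf cE422) (BT.leaf cE423)) (BT.node 424 (BT.leaf cE424) (BT.leaf cE425))))) (BT.node 433 (BT.node 429 (BT.node 427 (BT.node 426 (BT.leaf cE426) (BT.leaf cE427)) (BT.node 428 (BT.leaf cE428) (BT.leaf cE429))) (BT.node 431 (BT.node 430 (BT.leaf cE430) (BT.leaf cE431)) (BT.node 432 (BT.leaf cE432) (BT.leaf cE433)))) (BT.node 437 (BT.node 435 (BT.node 434 (BT.leaf cE434) (BT.leaf cE435)) (BT.node 436 (BT.leaf cE436) (BT.leaf cE437))) (BT.node 439 (BT.node 438 (BT.leaf cE438) (BT.leaf cE439)) (BT.leaf cE440)))))) (BT.node 472 (BT.node 456 (BT.node 448 (BT.node 444 (BT.node 442 (BT.node 441 (BT.leaf cE441) (BT.leaf cE442)) (BT.node 443 (BT.leaf cE443) (BT.leaf cE444))) (BT.node 446 (BT.node 445 (BT.leaf cE445) (BT.leaf cE446)) (BT.node 447 (BT.leaf cE447) (BT.leaf cE448)))) (BT.node 452 (BT.node 450 (BT.node 449 (BT.leaf cE449) (BT.leaf cE450)) (BT.node 451 (BT.leaf cE451) (BT.leaf cE452))) (BT.node 454 (BT.node 453 (BT.leaf cE453) (BT.leaf cE454)) (BT.node 455 (BT.leaf cE455) (BT.leaf cE456))))) (BT.node 464 (BT.node 460 (BT.node 458 (BT.node 457 (BT.leaf cE457) (BT.leaf cE458)) (BT.node 459 (BT.leaf cE459) (BT.leaf cE460))) (BT.node 462 (BT.node 461 (BT.leaf cE461) (BT.leaf cE462)) (BT.node 463 (BT.leaf cE463) (BT.leaf cE464)))) (BT.node 468 (BT.node 466 (BT.node 465 (BT.leaf cE465) (BT.leaf cE466)) (BT.node 467 (BT.leaf cE467) (BT.leaf cE468))) (BT.node 470 (BT.node 469 (BT.leaf cE469) (BT.leaf cE470)) (BT.node 471 (BT.leaf cE471) (BT.leaf cE472)))))) (BT.node 488 (BT.node 480 (BT.node 476 (BT.node 474 (BT.node 473 (BT.leaf cE473) (BT.leaf cE474)) (BT.node 475 (BT.leaf cE475) (BT.leaf cE476))) (BT.node 478 (BT.node 477 (BT.leaf cE477) (BT.leaf cE478)) (BT.node 479 (BT.leaf cE479) (BT.leaf cE480)))) (BT.node 484 (BT.node 482 (BT.node 481 (BT.leaf cE481) (BT.leaf cE482)) (BT.node 483 (BT.leaf cE483) (BT.leaf cE484))) (BT.node 486 (BT.node 485 (BT.leaf cE485) (BT.leaf cE486)) (BT.node 487 (BT.leaf cE487) (BT.leaf cE488))))) (BT.node 496 (BT.node 492 (BT.node 490 (BT.node 489 (BT.leaf cE489) (BT.leaf cE490)) (BT.node 491 (BT.leaf cE491) (BT.leaf cE492))) (BT.node 494 (BT.node 493 (BT.leaf cE493) (BT.leaf cE494)) (BT.node 495 (BT.leaf cE495) (BT.leaf cE496)))) (BT.node 500 (BT.node 498 (BT.node 497 (BT.leaf cE497) (BT.leaf cE498)) (BT.node 499 (BT.leaf cE499) (BT.leaf cE500))) (BT.node 502 (BT.node 501 (BT.leaf cE501) (BT.leaf cE502)) (BT.leaf cE503))))))))) (BT.node 755 (BT.node 629 (BT.node 566 (BT.node 535 (BT.node 519 (BT.node 511 (BT.node 507 (BT.node 505 (BT.node 504 (BT.leaf cE504) (BT.leaf cE505)) (BT.node 506 (BT.leaf cE506) (BT.leaf cE507))) (BT.node 509 (BT.node 508 (BT.leaf cE508) (BT.leaf cE509)) (BT.node 510 (BT.leaf cE510) (BT.leaf cE511)))) (BT.node 515 (BT.node 513 (BT.node 512 (BT.leaf cE512) (BT.leaf cE513)) (BT.node 514 (BT.leaf cE514) (BT.leaf cE515))) (BT.node 517 (BT.node 516 (BT.leaf cE516) (BT.leaf cE517)) (BT.node 518 (BT.leaf cE518) (BT.leaf cE519))))) (BT.node 527 (BT.node 523 (BT.node 521 (BT.node 520 (BT.leaf cE520) (BT.leaf cE521)) (BT.node 522 (BT.leaf cE522) (BT.leaf cE523))) (BT.node 525 (BT.node 524 (BT.leaf cE524) (BT.leaf cE525)) (BT.node 526 (BT.leaf cE526) (BT.leaf cE527)))) (BT.node 531 (BT.node 529 (BT.node 528 (BT.leaf cE528) (BT.leaf cE529)) (BT.node 530 (BT.leaf cE530) (BT.leaf cE531))) (BT.node 533 (BT.node 532 (BT.leaf cE532) (BT.leaf cE533)) (BT.node 534 (BT.leaf cE534) (BT.leaf cE535)))))) (BT.node 551 (BT.node 543 (BT.node 539 (BT.node 537 (BT.node 536 (BT.leaf cE536) (BT.leaf cE537)) (BT.node 538 (BT.leaf cE538) (BT.leaf cE539))) (BT.node 541 (BT.node 540 (BT.leaf cE540) (BT.leaf cE541)) (BT.node 542 (BT.leaf cE542) (BT.leaf cE543)))) (BT.node 547 (BT.node 545 (BT.node 544 (BT.leaf cE544) (BT.leaf cE545)) (BT.node 546 (BT.leaf cE546) (BT.leaf cE547))) (BT.node 549 (BT.node 548 (BT.leaf cE548) (BT.leaf cE549)) (BT.node 550 (BT.leaf cE550) (BT.leaf cE551))))) (BT.node 559 (BT.node 555 (BT.node 553 (BT.node 552 (BT.leaf cE552) (BT.leaf cE553)) (BT.node 554 (BT.leaf cE554) (BT.leaf cE555))) (BT.node 557 (BT.node 556 (BT.leaf cE556) (BT.leaf cE557)) (BT.node 558 (BT.leaf cE558) (BT.leaf cE559)))) (BT.node 563 (BT.node 561 (BT.node 560 (BT.leaf cE560) (BT.leaf cE561)) (BT.node 562 (BT.leaf cE562) (BT.leaf cE563))) (BT.node 565 (BT.node 564 (BT.leaf cE564) (BT.leaf cE565)) (BT.leaf cE566)))))) (BT.node 598 (BT.node 582 (BT.node 574 (BT.node 570 (BT.node 568 (BT.node 567 (BT.leaf cE567) (BT.leaf cE568)) (BT.node 569 (BT.leaf cE569) (BT.leaf cE570))) (BT.node 572 (BT.node 571 (BT.leaf cE571) (BT.leaf cE572)) (BT.node 573 (BT.leaf cE573) (BT.leaf cE574)))) (BT.node 578 (BT.node 576 (BT.node 575 (BT.leaf cE575) (BT.leaf cE576)) (BT.node 577 (BT.leaf cE577) (BT.leaf cE578))) (BT.node 580 (BT.node 579 (BT.leaf cE579) (BT.leaf cE580)) (BT.node 581 (BT.leaf cE581) (BT.leaf cE582))))) (BT.node 590 (BT.node 586 (BT.node 584 (BT.node 583 (BT.leaf cE583) (BT.leaf cE584)) (BT.node 585 (BT.leaf cE585) (BT.leaf cE586))) (BT.node 588 (BT.node 587 (BT.leaf cE587) (BT.leaf cE588)) (BT.node 589 (BT.leaf cE589) (BT.leaf cE590)))) (BT.node 594 (BT.node 592 (BT.node 591 (BT.leaf cE591) (BT.leaf cE592)) (BT.node 593 (BT.leaf cE593) (BT.leaf cE594))) (BT.node 596 (BT.node 595 (BT.leaf cE595) (BT.leaf cE596)) (BT.node 597 (BT.leaf cE597) (BT.leaf cE598)))))) (BT.node 614 (BT.node 606 (BT.node 602 (BT.node 600 (BT.node 599 (BT.leaf cE599) (BT.leaf cE600)) (BT.node 601 (BT.leaf cE601) (BT.leaf cE602))) (BT.node 604 (BT.node 603 (BT.leaf cE603) (BT.leaf cE604)) (BT.node 605 (BT.leaf cE605) (BT.leaf cE606)))) (BT.node 610 (BT.node 608 (BT.node 607 (BT.leaf cE607) (BT.leaf cE608)) (BT.node 609 (BT.leaf cE609) (BT.leaf cE610))) (BT.node 612 (BT.node 611 (BT.leaf cE611) (BT.leaf cE612)) (BT.node 613 (BT.leaf cE613) (BT.leaf cE614))))) (BT.node 622 (BT.node 618 (BT.node 616 (BT.node 615 (BT.leaf cE615) (BT.leaf cE616)) (BT.node 617 (BT.leaf cE617) (BT.leaf cE618))) (BT.node 620 (BT.node 619 (BT.leaf cE619) (BT.leaf cE620)) (BT.node 621 (BT.leaf cE621) (BT.leaf cE622)))) (BT.node 626 (BT.node 624 (BT.node 623 (BT.leaf cE623) (BT.leaf cE624)) (BT.node 625 (BT.leaf cE625) (BT.leaf cE626))) (BT.node 628 (BT.node 627 (BT.leaf cE627) (BT.leaf cE628)) (BT.leaf cE629))))))) (BT.node 692 (BT.node 661 (BT.node 645 (BT.node 637 (BT.node 633 (BT.node 631 (BT.node 630 (BT.leaf cE630) (BT.leaf cE631)) (BT.node 632 (BT.leaf cE632) (BT.leaf cE633))) (BT.node 635 (BT.node 634 (BT.leaf cE634) (BT.leaf cE635)) (BT.node 636 (BT.leaf cE636) (BT.leaf cE637)))) (BT.node 641 (BT.node 639 (BT.node 638 (BT.leaf cE638) (BT.leaf cE639)) (BT.node 640 (BT.leaf cE640) (BT.leaf cE641))) (BT.node 643 (BT.node 642 (BT.leaf cE642) (BT.leaf cE643)) (BT.node 644 (BT.leaf cE644) (BT.leaf cE645))))) (BT.node 653 (BT.node 649 (BT.node 647 (BT.node 646 (BT.leaf cE646) (BT.leaf cE647)) (BT.node 648 (BT.leaf cE648) (BT.leaf cE649))) (BT.node 651 (BT.node 650 (BT.leaf cE650) (BT.leaf cE651)) (BT.node 652 (BT.leaf cE652) (BT.leaf cE653)))) (BT.node 657 (BT.node 655 (BT.node 654 (BT.leaf cE654) (BT.leaf cE655)) (BT.node 656 (BT.leaf cE656) (BT.leaf cE657))) (BT.node 659 (BT.node 658 (BT.leaf cE658) (BT.leaf cE659)) (BT.node 660 (BT.leaf cE660) (BT.leaf cE661)))))) (BT.node 677 (BT.node 669 (BT.node 665 (BT.node 663 (BT.node 662 (BT.leaf cE662) (BT.leaf cE663)) (BT.node 664 (BT.leaf cE664) (BT.leaf cE665))) (BT.node 667 (BT.node 666 (BT.leaf cE666) (BT.leaf cE667)) (BT.node 668 (BT.leaf cE668) (BT.leaf cE669)))) (BT.node 673 (BT.node 671 (BT.node 670 (BT.leaf cE670) (BT.leaf cE671)) (BT.node 672 (BT.leaf cE672) (BT.leaf cE673))) (BT.node 675 (BT.node 674 (BT.leaf cE674) (BT.leaf cE675)) (BT.node 676 (BT.leaf cE676) (BT.leaf cE677))))) (BT.node 685 (BT.node 681 (BT.node 679 (BT.node 678 (BT.leaf cE678) (BT.leaf cE679)) (BT.node 680 (BT.leaf cE680) (BT.leaf cE681))) (BT.node 683 (BT.node 682 (BT.leaf cE682) (BT.leaf cE683)) (BT.node 684 (BT.leaf cE684) (BT.leaf cE685)))) (BT.node 689 (BT.node 687 (BT.node 686 (BT.leaf cE686) (BT.leaf cE687)) (BT.node 688 (BT.leaf cE688) (BT.leaf cE689))) (BT.node 691 (BT.node 690 (BT.leaf cE690) (BT.leaf cE691)) (BT.leaf cE692)))))) (BT.node 724 (BT.node 708 (BT.node 700 (BT.node 696 (BT.node 694 (BT.node 693 (BT.leaf cE693) (BT.leaf cE694)) (BT.node 695 (BT.leaf cE695) (BT.leaf cE696))) (BT.node 698 (BT.node 697 (BT.leaf cE697) (BT.leaf cE698)) (BT.node 699 (BT.leaf cE699) (BT.leaf cE700)))) (BT.node 704 (BT.node 702 (BT.node 701 (BT.leaf cE701) (BT.leaf cE702)) (BT.node 703 (BT.leaf cE703) (BT.leaf cE704))) (BT.node 706 (BT.node 705 (BT.leaf cE705) (BT.leaf cE706)) (BT.node 707 (BT.leaf cE707) (BT.leaf cE708))))) (BT.node 716 (BT.node 712 (BT.node 710 (BT.node 709 (BT.leaf cE709) (BT.leaf cE710)) (BT.node 711 (BT.leaf cE711) (BT.leaf cE712))) (BT.node 714 (BT.node 713 (BT.leaf cE713) (BT.leaf cE714)) (BT.node 715 (BT.leaf cE715) (BT.leaf cE716)))) (BT.node 720 (BT.node 718 (BT.node 717 (BT.leaf cE717) (BT.leaf cE718)) (BT.node 719 (BT.leaf cE719) (BT.leaf cE720))) (BT.node 722 (BT.node 721 (BT.leaf cE721) (BT.leaf cE722)) (BT.node 723 (BT.leaf cE723) (BT.leaf cE724)))))) (BT.node 740 (BT.node 732 (BT.node 728 (BT.node 726 (BT.node 725 (BT.leaf cE725) (BT.leaf cE726)) (BT.node 727 (BT.leaf cE727) (BT.leaf cE728))) (BT.node 730 (BT.node 729 (BT.leaf cE729) (BT.leaf cE730)) (BT.node 731 (BT.leaf cE731) (BT.leaf cE732)))) (BT.node 736 (BT.node 734 (BT.node 733 (BT.leaf cE733) (BT.leaf cE734)) (BT.node 735 (BT.leaf cE735) (BT.leaf cE736))) (BT.node 738 (BT.node 737 (BT.leaf cE737) (BT.leaf cE738)) (BT.node 739 (BT.leaf cE739) (BT.leaf cE740))))) (BT.node 748 (BT.node 744 (BT.node 742 (BT.node 741 (BT.leaf cE741) (BT.leaf cE742)) (BT.node 743 (BT.leaf cE743) (BT.leaf cE744))) (BT.node 746 (BT.node 745 (BT.leaf cE745) (BT.leaf cE746)) (BT.node 747 (BT.leaf cE747) (BT.leaf cE748)))) (BT.node 752 (BT.node 750 (BT.node 749 (BT.leaf cE749) (BT.leaf cE750)) (BT.node 751 (BT.leaf cE751) (BT.leaf cE752))) (BT.node 754 (BT.node 753 (BT.leaf cE753) (BT.leaf cE754)) (BT.leaf cE755)))))))) (BT.node 881 (BT.node 818 (BT.node 787 (BT.node 771 (BT.node 763 (BT.node 759 (BT.node 757 (BT.node 756 (BT.leaf cE756) (BT.leaf cE757)) (BT.node 758 (BT.leaf cE758) (BT.leaf cE759))) (BT.node 761 (BT.node 760 (BT.leaf cE760) (BT.leaf cE761)) (BT.node 762 (BT.leaf cE762) (BT.leaf cE763)))) (BT.node 767 (BT.node 765 (BT.node 764 (BT.leaf cE764) (BT.leaf cE765)) (BT.node 766 (BT.leaf cE766) (BT.leaf cE767))) (BT.node 769 (BT.node 768 (BT.leaf cE768) (BT.leaf cE769)) (BT.node 770 (BT.leaf cE770) (BT.leaf cE771))))) (BT.node 779 (BT.node 775 (BT.node 773 (BT.node 772 (BT.leaf cE772) (BT.leaf cE773)) (BT.node 774 (BT.leaf cE774) (BT.leaf cE775))) (BT.node 777 (BT.node 776 (BT.leaf cE776) (BT.leaf cE777)) (BT.node 778 (BT.leaf cE778) (BT.leaf cE779)))) (BT.node 783 (BT.node 781 (BT.node 780 (BT.leaf cE780) (BT.leaf cE781)) (BT.node 782 (BT.leaf cE782) (BT.leaf cE783))) (BT.node 785 (BT.node 784 (BT.leaf cE784) (BT.leaf cE785)) (BT.node 786 (BT.leaf cE786) (BT.leaf cE787)))))) (BT.node 803 (BT.node 795 (BT.node 791 (BT.node 789 (BT.node 788 (BT.leaf cE788) (BT.leaf cE789)) (BT.node 790 (BT.leaf cE790) (BT.leaf cE791))) (BT.node 793 (BT.node 792 (BT.leaf cE792) (BT.leaf cE793)) (BT.node 794 (BT.leaf cE794) (BT.leaf cE795)))) (BT.node 799 (BT.node 797 (BT.node 796 (BT.leaf cE796) (BT.leaf cE797)) (BT.node 798 (BT.leaf cE798) (BT.leaf cE799))) (BT.node 801 (BT.node 800 (BT.leaf cE800) (BT.leaf cE801)) (BT.node 802 (BT.leaf cE802) (BT.leaf cE803))))) (BT.node 811 (BT.node 807 (BT.node 805 (BT.node 804 (BT.leaf cE804) (BT.leaf cE805)) (BT.node 806 (BT.leaf cE806) (BT.leaf cE807))) (BT.node 809 (BT.node 808 (BT.leaf cE808) (BT.leaf cE809)) (BT.node 810 (BT.leaf cE810) (BT.leaf cE811)))) (BT.node 815 (BT.node 813 (BT.node 812 (BT.leaf cE812) (BT.leaf cE813)) (BT.node 814 (BT.leaf cE814) (BT.leaf cE815))) (BT.node 817 (BT.node 816 (BT.leaf cE816) (BT.leaf cE817)) (BT.leaf cE818)))))) (BT.node 850 (BT.node 834 (BT.node 826 (BT.node 822 (BT.node 820 (BT.node 819 (BT.leaf cE819) (BT.leaf cE820)) (BT.node 821 (BT.leaf cE821) (BT.leaf cE822))) (BT.node 824 (BT.node 823 (BT.leaf cE823) (BT.leaf cE824)) (BT.node 825 (BT.leaf cE825) (BT.leaf cE826)))) (BT.node 830 (BT.node 828 (BT.node 827 (BT.leaf cE827) (BT.leaf cE828)) (BT.node 829 (BT.leaf cE829) (BT.leaf cE830))) (BT.node 832 (BT.node 831 (BT.leaf cE831) (BT.leaf cE832)) (BT.node 833 (BT.leaf cE833) (BT.leaf cE834))))) (BT.node 842 (BT.node 838 (BT.node 836 (BT.node 835 (BT.leaf cE835) (BT.leaf cE836)) (BT.node 837 (BT.leaf cE837) (BT.leaf cE838))) (BT.node 840 (BT.node 839 (BT.leaf cE839) (BT.leaf cE840)) (BT.node 841 (BT.leaf cE841) (BT.leaf cE842)))) (BT.node 846 (BT.node 844 (BT.node 843 (BT.leaf cE843) (BT.leaf cE844)) (BT.node 845 (BT.leaf cE845) (BT.leaf cE846))) (BT.node 848 (BT.node 847 (BT.leaf cE847) (BT.leaf cE848)) (BT.node 849 (BT.leaf cE849) (BT.leaf cE850)))))) (BT.node 866 (BT.node 858 (BT.node 854 (BT.node 852 (BT.node 851 (BT.leaf cE851) (BT.leaf cE852)) (BT.node 853 (BT.leaf cE853) (BT.leaf cE854))) (BT.node 856 (BT.node 855 (BT.leaf cE855) (BT.leaf cE856)) (BT.node 857 (BT.leaf cE857) (BT.leaf cE858)))) (BT.node 862 (BT.node 860 (BT.node 859 (BT.leaf cE859) (BT.leaf cE860)) (BT.node 861 (BT.leaf cE861) (BT.leaf cE862))) (BT.node 864 (BT.node 863 (BT.leaf cE863) (BT.leaf cE864)) (BT.node 865 (BT.leaf cE865) (BT.leaf cE866))))) (BT.node 874 (BT.node 870 (BT.node 868 (BT.node 867 (BT.leaf cE867) (BT.leaf cE868)) (BT.node 869 (BT.leaf cE869) (BT.leaf cE870))) (BT.node 872 (BT.node 871 (BT.leaf cE871) (BT.leaf cE872)) (BT.node 873 (BT.leaf cE873) (BT.leaf cE874)))) (BT.node 878 (BT.node 876 (BT.node 875 (BT.leaf cE875) (BT.leaf cE876)) (BT.node 877 (BT.leaf cE877) (BT.leaf cE878))) (BT.node 880 (BT.node 879 (BT.leaf cE879) (BT.leaf cE880)) (BT.leaf cE881))))))) (BT.node 944 (BT.node 913 (BT.node 897 (BT.node 889 (BT.node 885 (BT.node 883 (BT.node 882 (BT.leaf cE882) (BT.leaf cE883)) (BT.node 884 (BT.leaf cE884) (BT.leaf cE885))) (BT.node 887 (BT.node 886 (BT.leaf cE886) (BT.leaf cE887)) (BT.node 888 (BT.leaf cE888) (BT.leaf cE889)))) (BT.node 893 (BT.node 891 (BT.node 890 (BT.leaf cE890) (BT.leaf cE891)) (BT.node 892 (BT.leaf cE892) (BT.leaf cE893))) (BT.node 895 (BT.node 894 (BT.leaf cE894) (BT.leaf cE895)) (BT.node 896 (BT.leaf cE896) (BT.leaf cE897))))) (BT.node 905 (BT.node 901 (BT.node 899 (BT.node 898 (BT.leaf cE898) (BT.leaf cE899)) (BT.node 900 (BT.leaf cE900) (BT.leaf cE901))) (BT.node 903 (BT.node 902 (BT.leaf cE902) (BT.leaf cE903)) (BT.node 904 (BT.leaf cE904) (BT.leaf cE905)))) (BT.node 909 (BT.node 907 (BT.node 906 (BT.leaf cE906) (BT.leaf cE907)) (BT.node 908 (BT.leaf cE908) (BT.leaf cE909))) (BT.node 911 (BT.node 910 (BT.leaf cE910) (BT.leaf cE911)) (BT.node 912 (BT.leaf cE912) (BT.leaf cE913)))))) (BT.node 929 (BT.node 921 (BT.node 917 (BT.node 915 (BT.node 914 (BT.leaf cE914) (BT.leaf cE915)) (BT.node 916 (BT.leaf cE916) (BT.leaf cE917))) (BT.node 919 (BT.node 918 (BT.leaf cE918) (BT.leaf cE919)) (BT.node 920 (BT.leaf cE920) (BT.leaf cE921)))) (BT.node 925 (BT.node 923 (BT.node 922 (BT.leaf cE922) (BT.leaf cE923)) (BT.node 924 (BT.leaf cE924) (BT.leaf cE925))) (BT.node 927 (BT.node 926 (BT.leaf cE926) (BT.leaf cE927)) (BT.node 928 (BT.leaf cE928) (BT.leaf cE929))))) (BT.node 937 (BT.node 933 (BT.node 931 (BT.node 930 (BT.leaf cE930) (BT.leaf cE931)) (BT.node 932 (BT.leaf cE932) (BT.leaf cE933))) (BT.node 935 (BT.node 934 (BT.leaf cE934) (BT.leaf cE935)) (BT.node 936 (BT.leaf cE936) (BT.leaf cE937)))) (BT.node 941 (BT.node 939 (BT.node 938 (BT.leaf cE938) (BT.leaf cE939)) (BT.node 940 (BT.leaf cE940) (BT.leaf cE941))) (BT.node 943 (BT.node 942 (BT.leaf cE942) (BT.leaf cE943)) (BT.leaf cE944)))))) (BT.node 976 (BT.node 960 (BT.node 952 (BT.node 948 (BT.node 946 (BT.node 945 (BT.leaf cE945) (BT.leaf cE946)) (BT.node 947 (BT.leaf cE947) (BT.leaf cE948))) (BT.node 950 (BT.node 949 (BT.leaf cE949) (BT.leaf cE950)) (BT.node 951 (BT.leaf cE951) (BT.leaf cE952)))) (BT.node 956 (BT.node 954 (BT.node 953 (BT.leaf cE953) (BT.leaf cE954)) (BT.node 955 (BT.leaf cE955) (BT.leaf cE956))) (BT.node 958 (BT.node 957 (BT.leaf cE957) (BT.leaf cE958)) (BT.node 959 (BT.leaf cE959) (BT.leaf cE960))))) (BT.node 968 (BT.node 964 (BT.node 962 (BT.node 961 (BT.leaf cE961) (BT.leaf cE962)) (BT.node 963 (BT.leaf cE963) (BT.leaf cE964))) (BT.node 966 (BT.node 965 (BT.leaf cE965) (BT.leaf cE966)) (BT.node 967 (BT.leaf cE967) (BT.leaf cE968)))) (BT.node 972 (BT.node 970 (BT.node 969 (BT.leaf cE969) (BT.leaf cE970)) (BT.node 971 (BT.leaf cE971) (BT.leaf cE972))) (BT.node 974 (BT.node 973 (BT.leaf cE973) (BT.leaf cE974)) (BT.node 975 (BT.leaf cE975) (BT.leaf cE976)))))) (BT.node 992 (BT.node 984 (BT.node 980 (BT.node 978 (BT.node 977 (BT.leaf cE977) (BT.leaf cE978)) (BT.node 979 (BT.leaf cE979) (BT.leaf cE980))) (BT.node 982 (BT.node 981 (BT.leaf cE981) (BT.leaf cE982)) (BT.node 983 (BT.leaf cE983) (BT.leaf cE984)))) (BT.node 988 (BT.node 986 (BT.node 985 (BT.leaf cE985) (BT.leaf cE986)) (BT.node 987 (BT.leaf cE987) (BT.leaf cE988))) (BT.node 990 (BT.node 989 (BT.leaf cE989) (BT.leaf cE990)) (BT.node 991 (BT.leaf cE991) (BT.leaf cE992))))) (BT.node 1000 (BT.node 996 (BT.node 994 (BT.node 993 (BT.leaf cE993) (BT.leaf cE994)) (BT.node 995 (BT.leaf cE995) (BT.leaf cE996))) (BT.node 998 (BT.node 997 (BT.leaf cE997) (BT.leaf cE998)) (BT.node 999 (BT.leaf cE999) (BT.leaf cE1000)))) (BT.node 1004 (BT.node 1002 (BT.node 1001 (BT.leaf cE1001) (BT.leaf cE1002)) (BT.node 1003 (BT.leaf cE1003) (BT.leaf cE1004))) (BT.node 1006 (BT.node 1005 (BT.leaf cE1005) (BT.leaf cE1006)) (BT.leaf cE1007)))))))))) (BT.node 1511 (BT.node 1259 (BT.node 1133 (BT.node 1070 (BT.node 1039 (BT.node 1023 (BT.node 1015 (BT.node 1011 (BT.node 1009 (BT.node 1008 (BT.leaf cE1008) (BT.leaf cE1009)) (BT.node 1010 (BT.leaf cE1010) (BT.leaf cE1011))) (BT.node 1013 (BT.node 1012 (BT.leaf cE1012) (BT.leaf cE1013)) (BT.node 1014 (BT.leaf cE1014) (BT.leaf cE1015)))) (BT.node 1019 (BT.node 1017 (BT.node 1016 (BT.leaf cE1016) (BT.leaf cE1017)) (BT.node 1018 (BT.leaf cE1018) (BT.leaf cE1019))) (BT.node 1021 (BT.node 1020 (BT.leaf cE1020) (BT.leaf cE1021)) (BT.node 1022 (BT.leaf cE1022) (BT.leaf cE1023))))) (BT.node 1031 (BT.node 1027 (BT.node 1025 (BT.node 1024 (BT.leaf cE1024) (BT.leaf cE1025)) (BT.node 1026 (BT.leaf cE1026) (BT.leaf cE1027))) (BT.node 1029 (BT.node 1028 (BT.leaf cE1028) (BT.leaf cE1029)) (BT.node 1030 (BT.leaf cE1030) (BT.leaf cE1031)))) (BT.node 1035 (BT.node 1033 (BT.node 1032 (BT.leaf cE1032) (BT.leaf cE1033)) (BT.node 1034 (BT.leaf cE1034) (BT.leaf cE1035))) (BT.node 1037 (BT.node 1036 (BT.leaf cE1036) (BT.leaf cE1037)) (BT.node 1038 (BT.leaf cE1038) (BT.leaf cE1039)))))) (BT.node 1055 (BT.node 1047 (BT.node 1043 (BT.node 1041 (BT.node 1040 (BT.leaf cE1040) (BT.leaf cE1041)) (BT.node 1042 (BT.leaf cE1042) (BT.leaf cE1043))) (BT.node 1045 (BT.node 1044 (BT.leaf cE1044) (BT.leaf cE1045)) (BT.node 1046 (BT.leaf cE1046) (BT.leaf cE1047)))) (BT.node 1051 (BT.node 1049 (BT.node 1048 (BT.leaf cE1048) (BT.leaf cE1049)) (BT.node 1050 (BT.leaf cE1050) (BT.leaf cE1051))) (BT.node 1053 (BT.node 1052 (BT.leaf cE1052) (BT.leaf cE1053)) (BT.node 1054 (BT.leaf cE1054) (BT.leaf cE1055))))) (BT.node 1063 (BT.node 1059 (BT.node 1057 (BT.node 1056 (BT.leaf cE1056) (BT.leaf cE1057)) (BT.node 1058 (BT.leaf cE1058) (BT.leaf cE1059))) (BT.node 1061 (BT.node 1060 (BT.leaf cE1060) (BT.leaf cE1061)) (BT.node 1062 (BT.leaf cE1062) (BT.leaf cE1063)))) (BT.node 1067 (BT.node 1065 (BT.node 1064 (BT.leaf cE1064) (BT.leaf cE1065)) (BT.node 1066 (BT.leaf cE1066) (BT.leaf cE1067))) (BT.node 1069 (BT.node 1068 (BT.leaf cE1068) (BT.leaf cE1069)) (BT.leaf cE1070)))))) (BT.node 1102 (BT.node 1086 (BT.node 1078 (BT.node 1074 (BT.node 1072 (BT.node 1071 (BT.leaf cE1071) (BT.leaf cE1072)) (BT.node 1073 (BT.leaf cE1073) (BT.leaf cE1074))) (BT.node 1076 (BT.node 1075 (BT.leaf cE1075) (BT.leaf cE1076)) (BT.node 1077 (BT.leaf cE1077) (BT.leaf cE1078)))) (BT.node 1082 (BT.node 1080 (BT.node 1079 (BT.leaf cE1079) (BT.leaf cE1080)) (BT.node 1081 (BT.leaf cE1081) (BT.leaf cE1082))) (BT.node 1084 (BT.node 1083 (BT.leaf cE1083) (BT.leaf cE1084)) (BT.node 1085 (BT.leaf cE1085) (BT.leaf cE1086))))) (BT.node 1094 (BT.node 1090 (BT.node 1088 (BT.node 1087 (BT.leaf cE1087) (BT.leaf cE1088)) (BT.node 1089 (BT.leaf cE1089) (BT.leaf cE1090))) (BT.node 1092 (BT.node 1091 (BT.leaf cE1091) (BT.leaf cE1092)) (BT.node 1093 (BT.leaf cE1093) (BT.leaf cE1094)))) (BT.node 1098 (BT.node 1096 (BT.node 1095 (BT.leaf cE1095) (BT.leaf cE1096)) (BT.node 1097 (BT.leaf cE1097) (BT.leaf cE1098))) (BT.node 1100 (BT.node 1099 (BT.leaf cE1099) (BT.leaf cE1100)) (BT.node 1101 (BT.leaf cE1101) (BT.leaf cE1102)))))) (BT.node 1118 (BT.node 1110 (BT.node 1106 (BT.node 1104 (BT.node 1103 (BT.leaf cE1103) (BT.leaf cE1104)) (BT.node 1105 (BT.leaf cE1105) (BT.leaf cE1106))) (BT.node 1108 (BT.node 1107 (BT.leaf cE1107) (BT.leaf cE1108)) (BT.node 1109 (BT.leaf cE1109) (BT.leaf cE1110)))) (BT.node 1114 (BT.node 1112 (BT.node 1111 (BT.leaf cE1111) (BT.leaf cE1112)) (BT.node 1113 (BT.leaf cE1113) (BT.leaf cE1114))) (BT.node 1116 (BT.node 1115 (BT.leaf cE1115) (BT.leaf cE1116)) (BT.node 1117 (BT.leaf cE1117) (BT.leaf cE1118))))) (BT.node 1126 (BT.node 1122 (BT.node 1120 (BT.node 1119 (BT.leaf cE1119) (BT.leaf cE1120)) (BT.node 1121 (BT.leaf cE1121) (BT.leaf cE1122))) (BT.node 1124 (BT.node 1123 (BT.leaf cE1123) (BT.leaf cE1124)) (BT.node 1125 (BT.leaf cE1125) (BT.leaf cE1126)))) (BT.node 1130 (BT.node 1128 (BT.node 1127 (BT.leaf cE1127) (BT.leaf cE1128)) (BT.node 1129 (BT.leaf cE1129) (BT.leaf cE1130))) (BT.node 1132 (BT.node 1131 (BT.leaf cE1131) (BT.leaf cE1132)) (BT.leaf cE1133))))))) (BT.node 1196 (BT.node 1165 (BT.node 1149 (BT.node 1141 (BT.node 1137 (BT.node 1135 (BT.node 1134 (BT.leaf cE1134) (BT.leaf cE1135)) (BT.node 1136 (BT.leaf cE1136) (BT.leaf cE1137))) (BT.node 1139 (BT.node 1138 (BT.leaf cE1138) (BT.leaf cE1139)) (BT.node 1140 (BT.leaf cE1140) (BT.leaf cE1141)))) (BT.node 1145 (BT.node 1143 (BT.node 1142 (BT.leaf cE1142) (BT.leaf cE1143)) (BT.node 1144 (BT.leaf cE1144) (BT.leaf cE1145))) (BT.node 1147 (BT.node 1146 (BT.leaf cE1146) (BT.leaf cE1147)) (BT.node 1148 (BT.leaf cE1148) (BT.leaf cE1149))))) (BT.node 1157 (BT.node 1153 (BT.node 1151 (BT.node 1150 (BT.leaf cE1150) (BT.leaf cE1151)) (BT.node 1152 (BT.leaf cE1152) (BT.leaf cE1153))) (BT.node 1155 (BT.node 1154 (BT.leaf cE1154) (BT.leaf cE1155)) (BT.node 1156 (BT.leaf cE1156) (BT.leaf cE1157)))) (BT.node 1161 (BT.node 1159 (BT.node 1158 (BT.leaf cE1158) (BT.leaf cE1159)) (BT.node 1160 (BT.leaf cE1160) (BT.leaf cE1161))) (BT.node 1163 (BT.node 1162 (BT.leaf cE1162) (BT.leaf cE1163)) (BT.node 1164 (BT.leaf cE1164) (BT.leaf cE1165)))))) (BT.node 1181 (BT.node 1173 (BT.node 1169 (BT.node 1167 (BT.node 1166 (BT.leaf cE1166) (BT.leaf cE1167)) (BT.node 1168 (BT.leaf cE1168) (BT.leaf cE1169))) (BT.node 1171 (BT.node 1170 (BT.leaf cE1170) (BT.leaf cE1171)) (BT.node 1172 (BT.leaf cE1172) (BT.leaf cE1173)))) (BT.node 1177 (BT.node 1175 (BT.node 1174 (BT.leaf cE1174) (BT.leaf cE1175)) (BT.node 1176 (BT.leaf cE1176) (BT.leaf cE1177))) (BT.node 1179 (BT.node 1178 (BT.leaf cE1178) (BT.leaf cE1179)) (BT.node 1180 (BT.leaf cE1180) (BT.leaf cE1181))))) (BT.node 1189 (BT.node 1185 (BT.node 1183 (BT.node 1182 (BT.leaf cE1182) (BT.leaf cE1183)) (BT.node 1184 (BT.leaf cE1184) (BT.leaf cE1185))) (BT.node 1187 (BT.node 1186 (BT.leaf cE1186) (BT.leaf cE1187)) (BT.node 1188 (BT.leaf cE1188) (BT.leaf cE1189)))) (BT.node 1193 (BT.node 1191 (BT.node 1190 (BT.leaf cE1190) (BT.leaf cE1191)) (BT.node 1192 (BT.leaf cE1192) (BT.leaf cE1193))) (BT.node 1195 (BT.node 1194 (BT.leaf cE1194) (BT.leaf cE1195)) (BT.leaf cE1196)))))) (BT.node 1228 (BT.node 1212 (BT.node 1204 (BT.node 1200 (BT.node 1198 (BT.node 1197 (BT.leaf cE1197) (BT.leaf cE1198)) (BT.node 1199 (BT.leaf cE1199) (BT.leaf cE1200))) (BT.node 1202 (BT.node 1201 (BT.leaf cE1201) (BT.leaf cE1202)) (BT.node 1203 (BT.leaf cE1203) (BT.leaf cE1204)))) (BT.node 1208 (BT.node 1206 (BT.node 1205 (BT.leaf cE1205) (BT.leaf cE1206)) (BT.node 1207 (BT.leaf cE1207) (BT.leaf cE1208))) (BT.node 1210 (BT.node 1209 (BT.leaf cE1209) (BT.leaf cE1210)) (BT.node 1211 (BT.leaf cE1211) (BT.leaf cE1212))))) (BT.node 1220 (BT.node 1216 (BT.node 1214 (BT.node 1213 (BT.leaf cE1213) (BT.leaf cE1214)) (BT.node 1215 (BT.leaf cE1215) (BT.leaf cE1216))) (BT.node 1218 (BT.node 1217 (BT.leaf cE1217) (BT.leaf cE1218)) (BT.node 1219 (BT.leaf cE1219) (BT.leaf cE1220)))) (BT.node 1224 (BT.node 1222 (BT.node 1221 (BT.leaf cE1221) (BT.leaf cE1222)) (BT.node 1223 (BT.leaf cE1223) (BT.leaf cE1224))) (BT.node 1226 (BT.node 1225 (BT.leaf cE1225) (BT.leaf cE1226)) (BT.node 1227 (BT.leaf cE1227) (BT.leaf cE1228)))))) (BT.node 1244 (BT.node 1236 (BT.node 1232 (BT.node 1230 (BT.node 1229 (BT.leaf cE1229) (BT.leaf cE1230)) (BT.node 1231 (BT.leaf cE1231) (BT.leaf cE1232))) (BT.node 1234 (BT.node 1233 (BT.leaf cE1233) (BT.leaf cE1234)) (BT.node 1235 (BT.leaf cE1235) (BT.leaf cE1236)))) (BT.node 1240 (BT.node 1238 (BT.node 1237 (BT.leaf cE1237) (BT.leaf cE1238)) (BT.node 1239 (BT.leaf cE1239) (BT.leaf cE1240))) (BT.node 1242 (BT.node 1241 (BT.leaf cE1241) (BT.leaf cE1242)) (BT.node 1243 (BT.leaf cE1243) (BT.leaf cE1244))))) (BT.node 1252 (BT.node 1248 (BT.node 1246 (BT.node 1245 (BT.leaf cE1245) (BT.leaf cE1246)) (BT.node 1247 (BT.leaf cE1247) (BT.leaf cE1248))) (BT.node 1250 (BT.node 1249 (BT.leaf cE1249) (BT.leaf cE1250)) (BT.node 1251 (BT.leaf cE1251) (BT.leaf cE1252)))) (BT.node 1256 (BT.node 1254 (BT.node 1253 (BT.leaf cE1253) (BT.leaf cE1254)) (BT.node 1255 (BT.leaf cE1255) (BT.leaf cE1256))) (BT.node 1258 (BT.node 1257 (BT.leaf cE1257) (BT.leaf cE1258)) (BT.leaf cE1259)))))))) (BT.node 1385 (BT.node 1322 (BT.node 1291 (BT.node 1275 (BT.node 1267 (BT.node 1263 (BT.node 1261 (BT.node 1260 (BT.leaf cE1260) (BT.leaf cE1261)) (BT.node 1262 (BT.leaf cE1262) (BT.leaf cE1263))) (BT.node 1265 (BT.node 1264 (BT.leaf cE1264) (BT.leaf cE1265)) (BT.node 1266 (BT.leaf cE1266) (BT.leaf cE1267)))) (BT.node 1271 (BT.node 1269 (BT.node 1268 (BT.leaf cE1268) (BT.leaf cE1269)) (BT.node 1270 (BT.leaf cE1270) (BT.leaf cE1271))) (BT.node 1273 (BT.node 1272 (BT.leaf cE1272) (BT.leaf cE1273)) (BT.node 1274 (BT.leaf cE1274) (BT.leaf cE1275))))) (BT.node 1283 (BT.node 1279 (BT.node 1277 (BT.node 1276 (BT.leaf cE1276) (BT.leaf cE1277)) (BT.node 1278 (BT.leaf cE1278) (BT.leaf cE1279))) (BT.node 1281 (BT.node 1280 (BT.leaf cE1280) (BT.leaf cE1281)) (BT.node 1282 (BT.leaf cE1282) (BT.leaf cE1283)))) (BT.node 1287 (BT.node 1285 (BT.node 1284 (BT.leaf cE1284) (BT.leaf cE1285)) (BT.node 1286 (BT.leaf cE1286) (BT.leaf cE1287))) (BT.node 1289 (BT.node 1288 (BT.leaf cE1288) (BT.leaf cE1289)) (BT.node 1290 (BT.leaf cE1290) (BT.leaf cE1291)))))) (BT.node 1307 (BT.node 1299 (BT.node 1295 (BT.node 1293 (BT.node 1292 (BT.leaf cE1292) (BT.leaf cE1293)) (BT.node 1294 (BT.leaf cE1294) (BT.leaf cE1295))) (BT.node 1297 (BT.node 1296 (BT.leaf cE1296) (BT.leaf cE1297)) (BT.node 1298 (BT.leaf cE1298) (BT.leaf cE1299)))) (BT.node 1303 (BT.node 1301 (BT.node 1300 (BT.leaf cE1300) (BT.leaf cE1301)) (BT.node 1302 (BT.leaf cE1302) (BT.leaf cE1303))) (BT.node 1305 (BT.node 1304 (BT.leaf cE1304) (BT.leaf cE1305)) (BT.node 1306 (BT.leaf cE1306) (BT.leaf cE1307))))) (BT.node 1315 (BT.node 1311 (BT.node 1309 (BT.node 1308 (BT.leaf cE1308) (BT.leaf cE1309)) (BT.node 1310 (BT.leaf cE1310) (BT.leaf cE1311))) (BT.node 1313 (BT.node 1312 (BT.leaf cE1312) (BT.leaf cE1313)) (BT.node 1314 (BT.leaf cE1314) (BT.leaf cE1315)))) (BT.node 1319 (BT.node 1317 (BT.node 1316 (BT.leaf cE1316) (BT.leaf cE1317)) (BT.node 1318 (BT.leaf cE1318) (BT.leaf cE1319))) (BT.node 1321 (BT.node 1320 (BT.leaf cE1320) (BT.leaf cE1321)) (BT.leaf cE1322)))))) (BT.node 1354 (BT.node 1338 (BT.node 1330 (BT.node 1326 (BT.node 1324 (BT.node 1323 (BT.leaf cE1323) (BT.leaf cE1324)) (BT.node 1325 (BT.leaf cE1325) (BT.leaf cE1326))) (BT.node 1328 (BT.node 1327 (BT.leaf cE1327) (BT.leaf cE1328)) (BT.node 1329 (BT.leaf cE1329) (BT.leaf cE1330)))) (BT.node 1334 (BT.node 1332 (BT.node 1331 (BT.leaf cE1331) (BT.leaf cE1332)) (BT.node 1333 (BT.leaf cE1333) (BT.leaf cE1334))) (BT.node 1336 (BT.node 1335 (BT.leaf cE1335) (BT.leaf cE1336)) (BT.node 1337 (BT.leaf cE1337) (BT.leaf cE1338))))) (BT.node 1346 (BT.node 1342 (BT.node 1340 (BT.node 1339 (BT.leaf cE1339) (BT.leaf cE1340)) (BT.node 1341 (BT.leaf cE1341) (BT.leaf cE1342))) (BT.node 1344 (BT.node 1343 (BT.leaf cE1343) (BT.leaf cE1344)) (BT.node 1345 (BT.leaf cE1345) (BT.leaf cE1346)))) (BT.node 1350 (BT.node 1348 (BT.node 1347 (BT.leaf cE1347) (BT.leaf cE1348)) (BT.node 1349 (BT.leaf cE1349) (BT.leaf cE1350))) (BT.node 1352 (BT.node 1351 (BT.leaf cE1351) (BT.leaf cE1352)) (BT.node 1353 (BT.leaf cE1353) (BT.leaf cE1354)))))) (BT.node 1370 (BT.node 1362 (BT.node 1358 (BT.node 1356 (BT.node 1355 (BT.leaf cE1355) (BT.leaf cE1356)) (BT.node 1357 (BT.leaf cE1357) (BT.leaf cE1358))) (BT.node 1360 (BT.node 1359 (BT.leaf cE1359) (BT.leaf cE1360)) (BT.node 1361 (BT.leaf cE1361) (BT.leaf cE1362)))) (BT.node 1366 (BT.node 1364 (BT.node 1363 (BT.leaf cE1363) (BT.leaf cE1364)) (BT.node 1365 (BT.leaf cE1365) (BT.leaf cE1366))) (BT.node 1368 (BT.node 1367 (BT.leaf cE1367) (BT.leaf cE1368)) (BT.node 1369 (BT.leaf cE1369) (BT.leaf cE1370))))) (BT.node 1378 (BT.node 1374 (BT.node 1372 (BT.node 1371 (BT.leaf cE1371) (BT.leaf cE1372)) (BT.node 1373 (BT.leaf cE1373) (BT.leaf cE1374))) (BT.node 1376 (BT.node 1375 (BT.leaf cE1375) (BT.leaf cE1376)) (BT.node 1377 (BT.leaf cE1377) (BT.leaf cE1378)))) (BT.node 1382 (BT.node 1380 (BT.node 1379 (BT.leaf cE1379) (BT.leaf cE1380)) (BT.node 1381 (BT.leaf cE1381) (BT.leaf cE1382))) (BT.node 1384 (BT.node 1383 (BT.leaf cE1383) (BT.leaf cE1384)) (BT.leaf cE1385))))))) (BT.node 1448 (BT.node 1417 (BT.node 1401 (BT.node 1393 (BT.node 1389 (BT.node 1387 (BT.node 1386 (BT.leaf cE1386) (BT.leaf cE1387)) (BT.node 1388 (BT.leaf cE1388) (BT.leaf cE1389))) (BT.node 1391 (BT.node 1390 (BT.leaf cE1390) (BT.leaf cE1391)) (BT.node 1392 (BT.leaf cE1392) (BT.leaf cE1393)))) (BT.node 1397 (BT.node 1395 (BT.node 1394 (BT.leaf cE1394) (BT.leaf cE1395)) (BT.node 1396 (BT.leaf cE1396) (BT.leaf cE1397))) (BT.node 1399 (BT.node 1398 (BT.leaf cE1398) (BT.leaf cE1399)) (BT.node 1400 (BT.leaf cE1400) (BT.leaf cE1401))))) (BT.node 1409 (BT.node 1405 (BT.node 1403 (BT.node 1402 (BT.leaf cE1402) (BT.leaf cE1403)) (BT.node 1404 (BT.leaf cE1404) (BT.leaf cE1405))) (BT.node 1407 (BT.node 1406 (BT.leaf cE1406) (BT.leaf cE1407)) (BT.node 1408 (BT.leaf cE1408) (BT.leaf cE1409)))) (BT.node 1413 (BT.node 1411 (BT.node 1410 (BT.leaf cE1410) (BT.leaf cE1411)) (BT.node 1412 (BT.leaf cE1412) (BT.leaf cE1413))) (BT.node 1415 (BT.node 1414 (BT.leaf cE1414) (BT.leaf cE1415)) (BT.node 1416 (BT.leaf cE1416) (BT.leaf cE1417)))))) (BT.node 1433 (BT.node 1425 (BT.node 1421 (BT.node 1419 (BT.node 1418 (BT.leaf cE1418) (BT.leaf cE1419)) (BT.node 1420 (BT.leaf cE1420) (BT.leaf cE1421))) (BT.node 1423 (BT.node 1422 (BT.leaf cE1422) (BT.leaf cE1423)) (BT.node 1424 (BT.leaf cE1424) (BT.leaf cE1425)))) (BT.node 1429 (BT.node 1427 (BT.node 1426 (BT.leaf cE1426) (BT.leaf cE1427)) (BT.node 1428 (BT.leaf cE1428) (BT.leaf cE1429))) (BT.node 1431 (BT.node 1430 (BT.leaf cE1430) (BT.leaf cE1431)) (BT.node 1432 (BT.leaf cE1432) (BT.leaf cE1433))))) (BT.node 1441 (BT.node 1437 (BT.node 1435 (BT.node 1434 (BT.leaf cE1434) (BT.leaf cE1435)) (BT.node 1436 (BT.leaf cE1436) (BT.leaf cE1437))) (BT.node 1439 (BT.node 1438 (BT.leaf cE1438) (BT.leaf cE1439)) (BT.node 1440 (BT.leaf cE1440) (BT.leaf cE1441)))) (BT.node 1445 (BT.node 1443 (BT.node 1442 (BT.leaf cE1442) (BT.leaf cE1443)) (BT.node 1444 (BT.leaf cE1444) (BT.leaf cE1445))) (BT.node 1447 (BT.node 1446 (BT.leaf cE1446) (BT.leaf cE1447)) (BT.leaf cE1448)))))) (BT.node 1480 (BT.node 1464 (BT.node 1456 (BT.node 1452 (BT.node 1450 (BT.node 1449 (BT.leaf cE1449) (BT.leaf cE1450)) (BT.node 1451 (BT.leaf cE1451) (BT.leaf cE1452))) (BT.node 1454 (BT.node 1453 (BT.leaf cE1453) (BT.leaf cE1454)) (BT.node 1455 (BT.leaf cE1455) (BT.leaf cE1456)))) (BT.node 1460 (BT.node 1458 (BT.node 1457 (BT.leaf cE1457) (BT.leaf cE1458)) (BT.node 1459 (BT.leaf cE1459) (BT.leaf cE1460))) (BT.node 1462 (BT.node 1461 (BT.leaf cE1461) (BT.leaf cE1462)) (BT.node 1463 (BT.leaf cE1463) (BT.leaf cE1464))))) (BT.node 1472 (BT.node 1468 (BT.node 1466 (BT.node 1465 (BT.leaf cE1465) (BT.leaf cE1466)) (BT.node 1467 (BT.leaf cE1467) (BT.leaf cE1468))) (BT.node 1470 (BT.node 1469 (BT.leaf cE1469) (BT.leaf cE1470)) (BT.node 1471 (BT.leaf cE1471) (BT.leaf cE1472)))) (BT.node 1476 (BT.node 1474 (BT.node 1473 (BT.leaf cE1473) (BT.leaf cE1474)) (BT.node 1475 (BT.leaf cE1475) (BT.leaf cE1476))) (BT.node 1478 (BT.node 1477 (BT.leaf cE1477) (BT.leaf cE1478)) (BT.node 1479 (BT.leaf cE1479) (BT.leaf cE1480)))))) (BT.node 1496 (BT.node 1488 (BT.node 1484 (BT.node 1482 (BT.node 1481 (BT.leaf cE1481) (BT.leaf cE1482)) (BT.node 1483 (BT.leaf cE1483) (BT.leaf cE1484))) (BT.node 1486 (BT.node 1485 (BT.leaf cE1485) (BT.leaf cE1486)) (BT.node 1487 (BT.leaf cE1487) (BT.leaf cE1488)))) (BT.node 1492 (BT.node 1490 (BT.node 1489 (BT.leaf cE1489) (BT.leaf cE1490)) (BT.node 1491 (BT.leaf cE1491) (BT.leaf cE1492))) (BT.node 1494 (BT.node 1493 (BT.leaf cE1493) (BT.leaf cE1494)) (BT.node 1495 (BT.leaf cE1495) (BT.leaf cE1496))))) (BT.node 1504 (BT.node 1500 (BT.node 1498 (BT.node 1497 (BT.leaf cE1497) (BT.leaf cE1498)) (BT.node 1499 (BT.leaf cE1499) (BT.leaf cE1500))) (BT.node 1502 (BT.node 1501 (BT.leaf cE1501) (BT.leaf cE1502)) (BT.node 1503 (BT.leaf cE1503) (BT.leaf cE1504)))) (BT.node 1508 (BT.node 1506 (BT.node 1505 (BT.leaf cE1505) (BT.leaf cE1506)) (BT.node 1507 (BT.leaf cE1507) (BT.leaf cE1508))) (BT.node 1510 (BT.node 1509 (BT.leaf cE1509) (BT.leaf cE1510)) (BT.leaf cE1511))))))))) (BT.node 1763 (BT.node 1637 (BT.node 1574 (BT.node 1543 (BT.node 1527 (BT.node 1519 (BT.node 1515 (BT.node 1513 (BT.node 1512 (BT.leaf cE1512) (BT.leaf cE1513)) (BT.node 1514 (BT.leaf cE1514) (BT.leaf cE1515))) (BT.node 1517 (BT.node 1516 (BT.leaf cE1516) (BT.leaf cE1517)) (BT.node 1518 (BT.leaf cE1518) (BT.leaf cE1519)))) (BT.node 1523 (BT.node 1521 (BT.node 1520 (BT.leaf cE1520) (BT.leaf cE1521)) (BT.node 1522 (BT.leaf cE1522) (BT.leaf cE1523))) (BT.node 1525 (BT.node 1524 (BT.leaf cE1524) (BT.leaf cE1525)) (BT.node 1526 (BT.leaf cE1526) (BT.leaf cE1527))))) (BT.node 1535 (BT.node 1531 (BT.node 1529 (BT.node 1528 (BT.leaf cE1528) (BT.leaf cE1529)) (BT.node 1530 (BT.leaf cE1530) (BT.leaf cE1531))) (BT.node 1533 (BT.node 1532 (BT.leaf cE1532) (BT.leaf cE1533)) (BT.node 1534 (BT.leaf cE1534) (BT.leaf cE1535)))) (BT.node 1539 (BT.node 1537 (BT.node 1536 (BT.leaf cE1536) (BT.leaf cE1537)) (BT.node 1538 (BT.leaf cE1538) (BT.leaf cE1539))) (BT.node 1541 (BT.node 1540 (BT.leaf cE1540) (BT.leaf cE1541)) (BT.node 1542 (BT.leaf cE1542) (BT.leaf cE1543)))))) (BT.node 1559 (BT.node 1551 (BT.node 1547 (BT.node 1545 (BT.node 1544 (BT.leaf cE1544) (BT.leaf cE1545)) (BT.node 1546 (BT.leaf cE1546) (BT.leaf cE1547))) (BT.node 1549 (BT.node 1548 (BT.leaf cE1548) (BT.leaf cE1549)) (BT.node 1550 (BT.leaf cE1550) (BT.leaf cE1551)))) (BT.node 1555 (BT.node 1553 (BT.node 1552 (BT.leaf cE1552) (BT.leaf cE1553)) (BT.node 1554 (BT.leaf cE1554) (BT.leaf cE1555))) (BT.node 1557 (BT.node 1556 (BT.leaf cE1556) (BT.leaf cE1557)) (BT.node 1558 (BT.leaf cE1558) (BT.leaf cE1559))))) (BT.node 1567 (BT.node 1563 (BT.node 1561 (BT.node 1560 (BT.leaf cE1560) (BT.leaf cE1561)) (BT.node 1562 (BT.leaf cE1562) (BT.leaf cE1563))) (BT.node 1565 (BT.node 1564 (BT.leaf cE1564) (BT.leaf cE1565)) (BT.node 1566 (BT.leaf cE1566) (BT.leaf cE1567)))) (BT.node 1571 (BT.node 1569 (BT.node 1568 (BT.leaf cE1568) (BT.leaf cE1569)) (BT.node 1570 (BT.leaf cE1570) (BT.leaf cE1571))) (BT.node 1573 (BT.node 1572 (BT.leaf cE1572) (BT.leaf cE1573)) (BT.leaf cE1574)))))) (BT.node 1606 (BT.node 1590 (BT.node 1582 (BT.node 1578 (BT.node 1576 (BT.node 1575 (BT.leaf cE1575) (BT.leaf cE1576)) (BT.node 1577 (BT.leaf cE1577) (BT.leaf cE1578))) (BT.node 1580 (BT.node 1579 (BT.leaf cE1579) (BT.leaf cE1580)) (BT.node 1581 (BT.leaf cE1581) (BT.leaf cE1582)))) (BT.node 1586 (BT.node 1584 (BT.node 1583 (BT.leaf cE1583) (BT.leaf cE1584)) (BT.node 1585 (BT.leaf cE1585) (BT.leaf cE1586))) (BT.node 1588 (BT.node 1587 (BT.leaf cE1587) (BT.leaf cE1588)) (BT.node 1589 (BT.leaf cE1589) (BT.leaf cE1590))))) (BT.node 1598 (BT.node 1594 (BT.node 1592 (BT.node 1591 (BT.leaf cE1591) (BT.leaf cE1592)) (BT.node 1593 (BT.leaf cE1593) (BT.leaf cE1594))) (BT.node 1596 (BT.node 1595 (BT.leaf cE1595) (BT.leaf cE1596)) (BT.node 1597 (BT.leaf cE1597) (BT.leaf cE1598)))) (BT.node 1602 (BT.node 1600 (BT.node 1599 (BT.leaf cE1599) (BT.leaf cE1600)) (BT.node 1601 (BT.leaf cE1601) (BT.leaf cE1602))) (BT.node 1604 (BT.node 1603 (BT.leaf cE1603) (BT.leaf cE1604)) (BT.node 1605 (BT.leaf cE1605) (BT.leaf cE1606)))))) (BT.node 1622 (BT.node 1614 (BT.node 1610 (BT.node 1608 (BT.node 1607 (BT.leaf cE1607) (BT.leaf cE1608)) (BT.node 1609 (BT.leaf cE1609) (BT.leaf cE1610))) (BT.node 1612 (BT.node 1611 (BT.leaf cE1611) (BT.leaf cE1612)) (BT.node 1613 (BT.leaf cE1613) (BT.leaf cE1614)))) (BT.node 1618 (BT.node 1616 (BT.node 1615 (BT.leaf cE1615) (BT.leaf cE1616)) (BT.node 1617 (BT.leaf cE1617) (BT.leaf cE1618))) (BT.node 1620 (BT.node 1619 (BT.leaf cE1619) (BT.leaf cE1620)) (BT.node 1621 (BT.leaf cE1621) (BT.leaf cE1622))))) (BT.node 1630 (BT.node 1626 (BT.node 1624 (BT.node 1623 (BT.leaf cE1623) (BT.leaf cE1624)) (BT.node 1625 (BT.leaf cE1625) (BT.leaf cE1626))) (BT.node 1628 (BT.node 1627 (BT.leaf cE1627) (BT.leaf cE1628)) (BT.node 1629 (BT.leaf cE1629) (BT.leaf cE1630)))) (BT.node 1634 (BT.node 1632 (BT.node 1631 (BT.leaf cE1631) (BT.leaf cE1632)) (BT.node 1633 (BT.leaf cE1633) (BT.leaf cE1634))) (BT.node 1636 (BT.node 1635 (BT.leaf cE1635) (BT.leaf cE1636)) (BT.leaf cE1637))))))) (BT.node 1700 (BT.node 1669 (BT.node 1653 (BT.node 1645 (BT.node 1641 (BT.node 1639 (BT.node 1638 (BT.leaf cE1638) (BT.leaf cE1639)) (BT.node 1640 (BT.leaf cE1640) (BT.leaf cE1641))) (BT.node 1643 (BT.node 1642 (BT.leaf cE1642) (BT.leaf cE1643)) (BT.node 1644 (BT.leaf cE1644) (BT.leaf cE1645)))) (BT.node 1649 (BT.node 1647 (BT.node 1646 (BT.leaf cE1646) (BT.leaf cE1647)) (BT.node 1648 (BT.leaf cE1648) (BT.leaf cE1649))) (BT.node 1651 (BT.node 1650 (BT.leaf cE1650) (BT.leaf cE1651)) (BT.node 1652 (BT.leaf cE1652) (BT.leaf cE1653))))) (BT.node 1661 (BT.node 1657 (BT.node 1655 (BT.node 1654 (BT.leaf cE1654) (BT.leaf cE1655)) (BT.node 1656 (BT.leaf cE1656) (BT.leaf cE1657))) (BT.node 1659 (BT.node 1658 (BT.leaf cE1658) (BT.leaf cE1659)) (BT.node 1660 (BT.leaf cE1660) (BT.leaf cE1661)))) (BT.node 1665 (BT.node 1663 (BT.node 1662 (BT.leaf cE1662) (BT.leaf cE1663)) (BT.node 1664 (BT.leaf cE1664) (BT.leaf cE1665))) (BT.node 1667 (BT.node 1666 (BT.leaf cE1666) (BT.leaf cE1667)) (BT.node 1668 (BT.leaf cE1668) (BT.leaf cE1669)))))) (BT.node 1685 (BT.node 1677 (BT.node 1673 (BT.node 1671 (BT.node 1670 (BT.leaf cE1670) (BT.leaf cE1671)) (BT.node 1672 (BT.leaf cE1672) (BT.leaf cE1673))) (BT.node 1675 (BT.node 1674 (BT.leaf cE1674) (BT.leaf cE1675)) (BT.node 1676 (BT.leaf cE1676) (BT.leaf cE1677)))) (BT.node 1681 (BT.node 1679 (BT.node 1678 (BT.leaf cE1678) (BT.leaf cE1679)) (BT.node 1680 (BT.leaf cE1680) (BT.leaf cE1681))) (BT.node 1683 (BT.node 1682 (BT.leaf cE1682) (BT.leaf cE1683)) (BT.node 1684 (BT.leaf cE1684) (BT.leaf cE1685))))) (BT.node 1693 (BT.node 1689 (BT.node 1687 (BT.node 1686 (BT.leaf cE1686) (BT.leaf cE1687)) (BT.node 1688 (BT.leaf cE1688) (BT.leaf cE1689))) (BT.node 1691 (BT.node 1690 (BT.leaf cE1690) (BT.leaf cE1691)) (BT.node 1692 (BT.leaf cE1692) (BT.leaf cE1693)))) (BT.node 1697 (BT.node 1695 (BT.node 1694 (BT.leaf cE1694) (BT.leaf cE1695)) (BT.node 1696 (BT.leaf cE1696) (BT.leaf cE1697))) (BT.node 1699 (BT.node 1698 (BT.leaf cE1698) (BT.leaf cE1699)) (BT.leaf cE1700)))))) (BT.node 1732 (BT.node 1716 (BT.node 1708 (BT.node 1704 (BT.node 1702 (BT.node 1701 (BT.leaf cE1701) (BT.leaf cE1702)) (BT.node 1703 (BT.leaf cE1703) (BT.leaf cE1704))) (BT.node 1706 (BT.node 1705 (BT.leaf cE1705) (BT.leaf cE1706)) (BT.node 1707 (BT.leaf cE1707) (BT.leaf cE1708)))) (BT.node 1712 (BT.node 1710 (BT.node 1709 (BT.leaf cE1709) (BT.leaf cE1710)) (BT.node 1711 (BT.leaf cE1711) (BT.leaf cE1712))) (BT.node 1714 (BT.node 1713 (BT.leaf cE1713) (BT.leaf cE1714)) (BT.node 1715 (BT.leaf cE1715) (BT.leaf cE1716))))) (BT.node 1724 (BT.node 1720 (BT.node 1718 (BT.node 1717 (BT.leaf cE1717) (BT.leaf cE1718)) (BT.node 1719 (BT.leaf cE1719) (BT.leaf cE1720))) (BT.node 1722 (BT.node 1721 (BT.leaf cE1721) (BT.leaf cE1722)) (BT.node 1723 (BT.leaf cE1723) (BT.leaf cE1724)))) (BT.node 1728 (BT.node 1726 (BT.node 1725 (BT.leaf cE1725) (BT.leaf cE1726)) (BT.node 1727 (BT.leaf cE1727) (BT.leaf cE1728))) (BT.node 1730 (BT.node 1729 (BT.leaf cE1729) (BT.leaf cE1730)) (BT.node 1731 (BT.leaf cE1731) (BT.leaf cE1732)))))) (BT.node 1748 (BT.node 1740 (BT.node 1736 (BT.node 1734 (BT.node 1733 (BT.leaf cE1733) (BT.leaf cE1734)) (BT.node 1735 (BT.leaf cE1735) (BT.leaf cE1736))) (BT.node 1738 (BT.node 1737 (BT.leaf cE1737) (BT.leaf cE1738)) (BT.node 1739 (BT.leaf cE1739) (BT.leaf cE1740)))) (BT.node 1744 (BT.node 1742 (BT.node 1741 (BT.leaf cE1741) (BT.leaf cE1742)) (BT.node 1743 (BT.leaf cE1743) (BT.leaf cE1744))) (BT.node 1746 (BT.node 1745 (BT.leaf cE1745) (BT.leaf cE1746)) (BT.node 1747 (BT.leaf cE1747) (BT.leaf cE1748))))) (BT.node 1756 (BT.node 1752 (BT.node 1750 (BT.node 1749 (BT.leaf cE1749) (BT.leaf cE1750)) (BT.node 1751 (BT.leaf cE1751) (BT.leaf cE1752))) (BT.node 1754 (BT.node 1753 (BT.leaf cE1753) (BT.leaf cE1754)) (BT.node 1755 (BT.leaf cE1755) (BT.leaf cE1756)))) (BT.node 1760 (BT.node 1758 (BT.node 1757 (BT.leaf cE1757) (BT.leaf cE1758)) (BT.node 1759 (BT.leaf cE1759) (BT.leaf cE1760))) (BT.node 1762 (BT.node 1761 (BT.leaf cE1761) (BT.leaf cE1762)) (BT.leaf cE1763)))))))) (BT.node 1889 (BT.node 1826 (BT.node 1795 (BT.node 1779 (BT.node 1771 (BT.node 1767 (BT.node 1765 (BT.node 1764 (BT.leaf cE1764) (BT.leaf cE1765)) (BT.node 1766 (BT.leaf cE1766) (BT.leaf cE1767))) (BT.node 1769 (BT.node 1768 (BT.leaf cE1768) (BT.leaf cE1769)) (BT.node 1770 (BT.leaf cE1770) (BT.leaf cE1771)))) (BT.node 1775 (BT.node 1773 (BT.node 1772 (BT.leaf cE1772) (BT.leaf cE1773)) (BT.node 1774 (BT.leaf cE1774) (BT.leaf cE1775))) (BT.node 1777 (BT.node 1776 (BT.leaf cE1776) (BT.leaf cE1777)) (BT.node 1778 (BT.leaf cE1778) (BT.leaf cE1779))))) (BT.node 1787 (BT.node 1783 (BT.node 1781 (BT.node 1780 (BT.leaf cE1780) (BT.leaf cE1781)) (BT.node 1782 (BT.leaf cE1782) (BT.leaf cE1783))) (BT.node 1785 (BT.node 1784 (BT.leaf cE1784) (BT.leaf cE1785)) (BT.node 1786 (BT.leaf cE1786) (BT.leaf cE1787)))) (BT.node 1791 (BT.node 1789 (BT.node 1788 (BT.leaf cE1788) (BT.leaf cE1789)) (BT.node 1790 (BT.leaf cE1790) (BT.leaf cE1791))) (BT.node 1793 (BT.node 1792 (BT.leaf cE1792) (BT.leaf cE1793)) (BT.node 1794 (BT.leaf cE1794) (BT.leaf cE1795)))))) (BT.node 1811 (BT.node 1803 (BT.node 1799 (BT.node 1797 (BT.node 1796 (BT.leaf cE1796) (BT.leaf cE1797)) (BT.node 1798 (BT.leaf cE1798) (BT.leaf cE1799))) (BT.node 1801 (BT.node 1800 (BT.leaf cE1800) (BT.leaf cE1801)) (BT.node 1802 (BT.leaf cE1802) (BT.leaf cE1803)))) (BT.node 1807 (BT.node 1805 (BT.node 1804 (BT.leaf cE1804) (BT.leaf cE1805)) (BT.node 1806 (BT.leaf cE1806) (BT.leaf cE1807))) (BT.node 1809 (BT.node 1808 (BT.leaf cE1808) (BT.leaf cE1809)) (BT.node 1810 (BT.leaf cE1810) (BT.leaf cE1811))))) (BT.node 1819 (BT.node 1815 (BT.node 1813 (BT.node 1812 (BT.leaf cE1812) (BT.leaf cE1813)) (BT.node 1814 (BT.leaf cE1814) (BT.leaf cE1815))) (BT.node 1817 (BT.node 1816 (BT.leaf cE1816) (BT.leaf cE1817)) (BT.node 1818 (BT.leaf cE1818) (BT.leaf cE1819)))) (BT.node 1823 (BT.node 1821 (BT.node 1820 (BT.leaf cE1820) (BT.leaf cE1821)) (BT.node 1822 (BT.leaf cE1822) (BT.leaf cE1823))) (BT.node 1825 (BT.node 1824 (BT.leaf cE1824) (BT.leaf cE1825)) (BT.leaf cE1826)))))) (BT.node 1858 (BT.node 1842 (BT.node 1834 (BT.node 1830 (BT.node 1828 (BT.node 1827 (BT.leaf cE1827) (BT.leaf cE1828)) (BT.node 1829 (BT.leaf cE1829) (BT.leaf cE1830))) (BT.node 1832 (BT.node 1831 (BT.leaf cE1831) (BT.leaf cE1832)) (BT.node 1833 (BT.leaf cE1833) (BT.leaf cE1834)))) (BT.node 1838 (BT.node 1836 (BT.node 1835 (BT.leaf cE1835) (BT.leaf cE1836)) (BT.node 1837 (BT.leaf cE1837) (BT.leaf cE1838))) (BT.node 1840 (BT.node 1839 (BT.leaf cE1839) (BT.leaf cE1840)) (BT.node 1841 (BT.leaf cE1841) (BT.leaf cE1842))))) (BT.node 1850 (BT.node 1846 (BT.node 1844 (BT.node 1843 (BT.leaf cE1843) (BT.leaf cE1844)) (BT.node 1845 (BT.leaf cE1845) (BT.leaf cE1846))) (BT.node 1848 (BT.node 1847 (BT.leaf cE1847) (BT.leaf cE1848)) (BT.node 1849 (BT.leaf cE1849) (BT.leaf cE1850)))) (BT.node 1854 (BT.node 1852 (BT.node 1851 (BT.leaf cE1851) (BT.leaf cE1852)) (BT.node 1853 (BT.leaf cE1853) (BT.leaf cE1854))) (BT.node 1856 (BT.node 1855 (BT.leaf cE1855) (BT.leaf cE1856)) (BT.node 1857 (BT.leaf cE1857) (BT.leaf cE1858)))))) (BT.node 1874 (BT.node 1866 (BT.node 1862 (BT.node 1860 (BT.node 1859 (BT.leaf cE1859) (BT.leaf cE1860)) (BT.node 1861 (BT.leaf cE1861) (BT.leaf cE1862))) (BT.node 1864 (BT.node 1863 (BT.leaf cE1863) (BT.leaf cE1864)) (BT.node 1865 (BT.leaf cE1865) (BT.leaf cE1866)))) (BT.node 1870 (BT.node 1868 (BT.node 1867 (BT.leaf cE1867) (BT.leaf cE1868)) (BT.node 1869 (BT.leaf cE1869) (BT.leaf cE1870))) (BT.node 1872 (BT.node 1871 (BT.leaf cE1871) (BT.leaf cE1872)) (BT.node 1873 (BT.leaf cE1873) (BT.leaf cE1874))))) (BT.node 1882 (BT.node 1878 (BT.node 1876 (BT.node 1875 (BT.leaf cE1875) (BT.leaf cE1876)) (BT.node 1877 (BT.leaf cE1877) (BT.leaf cE1878))) (BT.node 1880 (BT.node 1879 (BT.leaf cE1879) (BT.leaf cE1880)) (BT.node 1881 (BT.leaf cE1881) (BT.leaf cE1882)))) (BT.node 1886 (BT.node 1884 (BT.node 1883 (BT.leaf cE1883) (BT.leaf cE1884)) (BT.node 1885 (BT.leaf cE1885) (BT.leaf cE1886))) (BT.node 1888 (BT.node 1887 (BT.leaf cE1887) (BT.leaf cE1888)) (BT.leaf cE1889))))))) (BT.node 1952 (BT.node 1921 (BT.node 1905 (BT.node 1897 (BT.node 1893 (BT.node 1891 (BT.node 1890 (BT.leaf cE1890) (BT.leaf cE1891)) (BT.node 1892 (BT.leaf cE1892) (BT.leaf cE1893))) (BT.node 1895 (BT.node 1894 (BT.leaf cE1894) (BT.leaf cE1895)) (BT.node 1896 (BT.leaf cE1896) (BT.leaf cE1897)))) (BT.node 1901 (BT.node 1899 (BT.node 1898 (BT.leaf cE1898) (BT.leaf cE1899)) (BT.node 1900 (BT.leaf cE1900) (BT.leaf cE1901))) (BT.node 1903 (BT.node 1902 (BT.leaf cE1902) (BT.leaf cE1903)) (BT.node 1904 (BT.leaf cE1904) (BT.leaf cE1905))))) (BT.node 1913 (BT.node 1909 (BT.node 1907 (BT.node 1906 (BT.leaf cE1906) (BT.leaf cE1907)) (BT.node 1908 (BT.leaf cE1908) (BT.leaf cE1909))) (BT.node 1911 (BT.node 1910 (BT.leaf cE1910) (BT.leaf cE1911)) (BT.node 1912 (BT.leaf cE1912) (BT.leaf cE1913)))) (BT.node 1917 (BT.node 1915 (BT.node 1914 (BT.leaf cE1914) (BT.leaf cE1915)) (BT.node 1916 (BT.leaf cE1916) (BT.leaf cE1917))) (BT.node 1919 (BT.node 1918 (BT.leaf cE1918) (BT.leaf cE1919)) (BT.node 1920 (BT.leaf cE1920) (BT.leaf cE1921)))))) (BT.node 1937 (BT.node 1929 (BT.node 1925 (BT.node 1923 (BT.node 1922 (BT.leaf cE1922) (BT.leaf cE1923)) (BT.node 1924 (BT.leaf cE1924) (BT.leaf cE1925))) (BT.node 1927 (BT.node 1926 (BT.leaf cE1926) (BT.leaf cE1927)) (BT.node 1928 (BT.leaf cE1928) (BT.leaf cE1929)))) (BT.node 1933 (BT.node 1931 (BT.node 1930 (BT.leaf cE1930) (BT.leaf cE1931)) (BT.node 1932 (BT.leaf cE1932) (BT.leaf cE1933))) (BT.node 1935 (BT.node 1934 (BT.leaf cE1934) (BT.leaf cE1935)) (BT.node 1936 (BT.leaf cE1936) (BT.leaf cE1937))))) (BT.node 1945 (BT.node 1941 (BT.node 1939 (BT.node 1938 (BT.leaf cE1938) (BT.leaf cE1939)) (BT.node 1940 (BT.leaf cE1940) (BT.leaf cE1941))) (BT.node 1943 (BT.node 1942 (BT.leaf cE1942) (BT.leaf cE1943)) (BT.node 1944 (BT.leaf cE1944) (BT.leaf cE1945)))) (BT.node 1949 (BT.node 1947 (BT.node 1946 (BT.leaf cE1946) (BT.leaf cE1947)) (BT.node 1948 (BT.leaf cE1948) (BT.leaf cE1949))) (BT.node 1951 (BT.node 1950 (BT.leaf cE1950) (BT.leaf cE1951)) (BT.leaf cE1952)))))) (BT.node 1984 (BT.node 1968 (BT.node 1960 (BT.node 1956 (BT.node 1954 (BT.node 1953 (BT.leaf cE1953) (BT.leaf cE1954)) (BT.node 1955 (BT.leaf cE1955) (BT.leaf cE1956))) (BT.node 1958 (BT.node 1957 (BT.leaf cE1957) (BT.leaf cE1958)) (BT.node 1959 (BT.leaf cE1959) (BT.leaf cE1960)))) (BT.node 1964 (BT.node 1962 (BT.node 1961 (BT.leaf cE1961) (BT.leaf cE1962)) (BT.node 1963 (BT.leaf cE1963) (BT.leaf cE1964))) (BT.node 1966 (BT.node 1965 (BT.leaf cE1965) (BT.leaf cE1966)) (BT.node 1967 (BT.leaf cE1967) (BT.leaf cE1968))))) (BT.node 1976 (BT.node 1972 (BT.node 1970 (BT.node 1969 (BT.leaf cE1969) (BT.leaf cE1970)) (BT.node 1971 (BT.leaf cE1971) (BT.leaf cE1972))) (BT.node 1974 (BT.node 1973 (BT.leaf cE1973) (BT.leaf cE1974)) (BT.node 1975 (BT.leaf cE1975) (BT.leaf cE1976)))) (BT.node 1980 (BT.node 1978 (BT.node 1977 (BT.leaf cE1977) (BT.leaf cE1978)) (BT.node 1979 (BT.leaf cE1979) (BT.leaf cE1980))) (BT.node 1982 (BT.node 1981 (BT.leaf cE1981) (BT.leaf cE1982)) (BT.node 1983 (BT.leaf cE1983) (BT.leaf cE1984)))))) (BT.node 2000 (BT.node 1992 (BT.node 1988 (BT.node 1986 (BT.node 1985 (BT.leaf cE1985) (BT.leaf cE1986)) (BT.node 1987 (BT.leaf cE1987) (BT.leaf cE1988))) (BT.node 1990 (BT.node 1989 (BT.leaf cE1989) (BT.leaf cE1990)) (BT.node 1991 (BT.leaf cE1991) (BT.leaf cE1992)))) (BT.node 1996 (BT.node 1994 (BT.node 1993 (BT.leaf cE1993) (BT.leaf cE1994)) (BT.node 1995 (BT.leaf cE1995) (BT.leaf cE1996))) (BT.node 1998 (BT.node 1997 (BT.leaf cE1997) (BT.leaf cE1998)) (BT.node 1999 (BT.leaf cE1999) (BT.leaf cE2000))))) (BT.node 2008 (BT.node 2004 (BT.node 2002 (BT.node 2001 (BT.leaf cE2001) (BT.leaf cE2002)) (BT.node 2003 (BT.leaf cE2003) (BT.leaf cE2004))) (BT.node 2006 (BT.node 2005 (BT.leaf cE2005) (BT.leaf cE2006)) (BT.node 2007 (BT.leaf cE2007) (BT.leaf cE2008)))) (BT.node 2012 (BT.node 2010 (BT.node 2009 (BT.leaf cE2009) (BT.leaf cE2010)) (BT.node 2011 (BT.leaf cE2011) (BT.leaf cE2012))) (BT.node 2014 (BT.node 2013 (BT.leaf cE2013) (BT.leaf cE2014)) (BT.leaf cE2015))))))))))) (BT.node 3023 (BT.node 2519 (BT.node 2267 (BT.node 2141 (BT.node 2078 (BT.node 2047 (BT.node 2031 (BT.node 2023 (BT.node 2019 (BT.node 2017 (BT.node 2016 (BT.leaf cE2016) (BT.leaf cE2017)) (BT.node 2018 (BT.leaf cE2018) (BT.leaf cE2019))) (BT.node 2021 (BT.node 2020 (BT.leaf cE2020) (BT.leaf cE2021)) (BT.node 2022 (BT.leaf cE2022) (BT.leaf cE2023)))) (BT.node 2027 (BT.node 2025 (BT.node 2024 (BT.leaf cE2024) (BT.leaf cE2025)) (BT.node 2026 (BT.leaf cE2026) (BT.leaf cE2027))) (BT.node 2029 (BT.node 2028 (BT.leaf cE2028) (BT.leaf cE2029)) (BT.node 2030 (BT.leaf cE2030) (BT.leaf cE2031))))) (BT.node 2039 (BT.node 2035 (BT.node 2033 (BT.node 2032 (BT.leaf cE2032) (BT.leaf cE2033)) (BT.node 2034 (BT.leaf cE2034) (BT.leaf cE2035))) (BT.node 2037 (BT.node 2036 (BT.leaf cE2036) (BT.leaf cE2037)) (BT.node 2038 (BT.leaf cE2038) (BT.leaf cE2039)))) (BT.node 2043 (BT.node 2041 (BT.node 2040 (BT.leaf cE2040) (BT.leaf cE2041)) (BT.node 2042 (BT.leaf cE2042) (BT.leaf cE2043))) (BT.node 2045 (BT.node 2044 (BT.leaf cE2044) (BT.leaf cE2045)) (BT.node 2046 (BT.leaf cE2046) (BT.leaf cE2047)))))) (BT.node 2063 (BT.node 2055 (BT.node 2051 (BT.node 2049 (BT.node 2048 (BT.leaf cE2048) (BT.leaf cE2049)) (BT.node 2050 (BT.leaf cE2050) (BT.leaf cE2051))) (BT.node 2053 (BT.node 2052 (BT.leaf cE2052) (BT.leaf cE2053)) (BT.node 2054 (BT.leaf cE2054) (BT.leaf cE2055)))) (BT.node 2059 (BT.node 2057 (BT.node 2056 (BT.leaf cE2056) (BT.leaf cE2057)) (BT.node 2058 (BT.leaf cE2058) (BT.leaf cE2059))) (BT.node 2061 (BT.node 2060 (BT.leaf cE2060) (BT.leaf cE2061)) (BT.node 2062 (BT.leaf cE2062) (BT.leaf cE2063))))) (BT.node 2071 (BT.node 2067 (BT.node 2065 (BT.node 2064 (BT.leaf cE2064) (BT.leaf cE2065)) (BT.node 2066 (BT.leaf cE2066) (BT.leaf cE2067))) (BT.node 2069 (BT.node 2068 (BT.leaf cE2068) (BT.leaf cE2069)) (BT.node 2070 (BT.leaf cE2070) (BT.leaf cE2071)))) (BT.node 2075 (BT.node 2073 (BT.node 2072 (BT.leaf cE2072) (BT.leaf cE2073)) (BT.node 2074 (BT.leaf cE2074) (BT.leaf cE2075))) (BT.node 2077 (BT.node 2076 (BT.leaf cE2076) (BT.leaf cE2077)) (BT.leaf cE2078)))))) (BT.node 2110 (BT.node 2094 (BT.node 2086 (BT.node 2082 (BT.node 2080 (BT.node 2079 (BT.leaf cE2079) (BT.leaf cE2080)) (BT.node 2081 (BT.leaf cE2081) (BT.leaf cE2082))) (BT.node 2084 (BT.node 2083 (BT.leaf cE2083) (BT.leaf cE2084)) (BT.node 2085 (BT.leaf cE2085) (BT.leaf cE2086)))) (BT.node 2090 (BT.node 2088 (BT.node 2087 (BT.leaf cE2087) (BT.leaf cE2088)) (BT.node 2089 (BT.leaf cE2089) (BT.leaf cE2090))) (BT.node 2092 (BT.node 2091 (BT.leaf cE2091) (BT.leaf cE2092)) (BT.node 2093 (BT.leaf cE2093) (BT.leaf cE2094))))) (BT.node 2102 (BT.node 2098 (BT.node 2096 (BT.node 2095 (BT.leaf cE2095) (BT.leaf cE2096)) (BT.node 2097 (BT.leaf cE2097) (BT.leaf cE2098))) (BT.node 2100 (BT.node 2099 (BT.leaf cE2099) (BT.leaf cE2100)) (BT.node 2101 (BT.leaf cE2101) (BT.leaf cE2102)))) (BT.node 2106 (BT.node 2104 (BT.node 2103 (BT.leaf cE2103) (BT.leaf cE2104)) (BT.node 2105 (BT.leaf cE2105) (BT.leaf cE2106))) (BT.node 2108 (BT.node 2107 (BT.leaf cE2107) (BT.leaf cE2108)) (BT.node 2109 (BT.leaf cE2109) (BT.leaf cE2110)))))) (BT.node 2126 (BT.node 2118 (BT.node 2114 (BT.node 2112 (BT.node 2111 (BT.leaf cE2111) (BT.leaf cE2112)) (BT.node 2113 (BT.leaf cE2113) (BT.leaf cE2114))) (BT.node 2116 (BT.node 2115 (BT.leaf cE2115) (BT.leaf cE2116)) (BT.node 2117 (BT.leaf cE2117) (BT.leaf cE2118)))) (BT.node 2122 (BT.node 2120 (BT.node 2119 (BT.leaf cE2119) (BT.leaf cE2120)) (BT.node 2121 (BT.leaf cE2121) (BT.leaf cE2122))) (BT.node 2124 (BT.node 2123 (BT.leaf cE2123) (BT.leaf cE2124)) (BT.node 2125 (BT.leaf cE2125) (BT.leaf cE2126))))) (BT.node 2134 (BT.node 2130 (BT.node 2128 (BT.node 2127 (BT.leaf cE2127) (BT.leaf cE2128)) (BT.node 2129 (BT.leaf cE2129) (BT.leaf cE2130))) (BT.node 2132 (BT.node 2131 (BT.leaf cE2131) (BT.leaf cE2132)) (BT.node 2133 (BT.leaf cE2133) (BT.leaf cE2134)))) (BT.node 2138 (BT.node 2136 (BT.node 2135 (BT.leaf cE2135) (BT.leaf cE2136)) (BT.node 2137 (BT.leaf cE2137) (BT.leaf cE2138))) (BT.node 2140 (BT.node 2139 (BT.leaf cE2139) (BT.leaf cE2140)) (BT.leaf cE2141))))))) (BT.node 2204 (BT.node 2173 (BT.node 2157 (BT.node 2149 (BT.node 2145 (BT.node 2143 (BT.node 2142 (BT.leaf cE2142) (BT.leaf cE2143)) (BT.node 2144 (BT.leaf cE2144) (BT.leaf cE2145))) (BT.node 2147 (BT.node 2146 (BT.leaf cE2146) (BT.leaf cE2147)) (BT.node 2148 (BT.leaf cE2148) (BT.leaf cE2149)))) (BT.node 2153 (BT.node 2151 (BT.node 2150 (BT.leaf cE2150) (BT.leaf cE2151)) (BT.node 2152 (BT.leaf cE2152) (BT.leaf cE2153))) (BT.node 2155 (BT.node 2154 (BT.leaf cE2154) (BT.leaf cE2155)) (BT.node 2156 (BT.leaf cE2156) (BT.leaf cE2157))))) (BT.node 2165 (BT.node 2161 (BT.node 2159 (BT.node 2158 (BT.leaf cE2158) (BT.leaf cE2159)) (BT.node 2160 (BT.leaf cE2160) (BT.leaf cE2161))) (BT.node 2163 (BT.node 2162 (BT.leaf cE2162) (BT.leaf cE2163)) (BT.node 2164 (BT.leaf cE2164) (BT.leaf cE2165)))) (BT.node 2169 (BT.node 2167 (BT.node 2166 (BT.leaf cE2166) (BT.leaf cE2167)) (BT.node 2168 (BT.leaf cE2168) (BT.leaf cE2169))) (BT.node 2171 (BT.node 2170 (BT.leaf cE2170) (BT.leaf cE2171)) (BT.node 2172 (BT.leaf cE2172) (BT.leaf cE2173)))))) (BT.node 2189 (BT.node 2181 (BT.node 2177 (BT.node 2175 (BT.node 2174 (BT.leaf cE2174) (BT.leaf cE2175)) (BT.node 2176 (BT.leaf cE2176) (BT.leaf cE2177))) (BT.node 2179 (BT.node 2178 (BT.leaf cE2178) (BT.leaf cE2179)) (BT.node 2180 (BT.leaf cE2180) (BT.leaf cE2181)))) (BT.node 2185 (BT.node 2183 (BT.node 2182 (BT.leaf cE2182) (BT.leaf cE2183)) (BT.node 2184 (BT.leaf cE2184) (BT.leaf cE2185))) (BT.node 2187 (BT.node 2186 (BT.leaf cE2186) (BT.leaf cE2187)) (BT.node 2188 (BT.leaf cE2188) (BT.leaf cE2189))))) (BT.node 2197 (BT.node 2193 (BT.node 2191 (BT.node 2190 (BT.leaf cE2190) (BT.leaf cE2191)) (BT.node 2192 (BT.leaf cE2192) (BT.leaf cE2193))) (BT.node 2195 (BT.node 2194 (BT.leaf cE2194) (BT.leaf cE2195)) (BT.node 2196 (BT.leaf cE2196) (BT.leaf cE2197)))) (BT.node 2201 (BT.node 2199 (BT.node 2198 (BT.leaf cE2198) (BT.leaf cE2199)) (BT.node 2200 (BT.leaf cE2200) (BT.leaf cE2201))) (BT.node 2203 (BT.node 2202 (BT.leaf cE2202) (BT.leaf cE2203)) (BT.leaf cE2204)))))) (BT.node 2236 (BT.node 2220 (BT.node 2212 (BT.node 2208 (BT.node 2206 (BT.node 2205 (BT.leaf cE2205) (BT.leaf cE2206)) (BT.node 2207 (BT.leaf cE2207) (BT.leaf cE2208))) (BT.node 2210 (BT.node 2209 (BT.leaf cE2209) (BT.leaf cE2210)) (BT.node 2211 (BT.leaf cE2211) (BT.leaf cE2212)))) (BT.node 2216 (BT.node 2214 (BT.node 2213 (BT.leaf cE2213) (BT.leaf cE2214)) (BT.node 2215 (BT.leaf cE2215) (BT.leaf cE2216))) (BT.node 2218 (BT.node 2217 (BT.leaf cE2217) (BT.leaf cE2218)) (BT.node 2219 (BT.leaf cE2219) (BT.leaf cE2220))))) (BT.node 2228 (BT.node 2224 (BT.node 2222 (BT.node 2221 (BT.leaf cE2221) (BT.leaf cE2222)) (BT.node 2223 (BT.leaf cE2223) (BT.leaf cE2224))) (BT.node 2226 (BT.node 2225 (BT.leaf cE2225) (BT.leaf cE2226)) (BT.node 2227 (BT.leaf cE2227) (BT.leaf cE2228)))) (BT.node 2232 (BT.node 2230 (BT.node 2229 (BT.leaf cE2229) (BT.leaf cE2230)) (BT.node 2231 (BT.leaf cE2231) (BT.leaf cE2232))) (BT.node 2234 (BT.node 2233 (BT.leaf cE2233) (BT.leaf cE2234)) (BT.node 2235 (BT.leaf cE2235) (BT.leaf cE2236)))))) (BT.node 2252 (BT.node 2244 (BT.node 2240 (BT.node 2238 (BT.node 2237 (BT.leaf cE2237) (BT.leaf cE2238)) (BT.node 2239 (BT.leaf cE2239) (BT.leaf cE2240))) (BT.node 2242 (BT.node 2241 (BT.leaf cE2241) (BT.leaf cE2242)) (BT.node 2243 (BT.leaf cE2243) (BT.leaf cE2244)))) (BT.node 2248 (BT.node 2246 (BT.node 2245 (BT.leaf cE2245) (BT.leaf cE2246)) (BT.node 2247 (BT.leaf cE2247) (BT.leaf cE2248))) (BT.node 2250 (BT.node 2249 (BT.leaf cE2249) (BT.leaf cE2250)) (BT.node 2251 (BT.leaf cE2251) (BT.leaf cE2252))))) (BT.node 2260 (BT.node 2256 (BT.node 2254 (BT.node 2253 (BT.leaf cE2253) (BT.leaf cE2254)) (BT.node 2255 (BT.leaf cE2255) (BT.leaf cE2256))) (BT.node 2258 (BT.node 2257 (BT.leaf cE2257) (BT.leaf cE2258)) (BT.node 2259 (BT.leaf cE2259) (BT.leaf cE2260)))) (BT.node 2264 (BT.node 2262 (BT.node 2261 (BT.leaf cE2261) (BT.leaf cE2262)) (BT.node 2263 (BT.leaf cE2263) (BT.leaf cE2264))) (BT.node 2266 (BT.node 2265 (BT.leaf cE2265) (BT.leaf cE2266)) (BT.leaf cE2267)))))))) (BT.node 2393 (BT.node 2330 (BT.node 2299 (BT.node 2283 (BT.node 2275 (BT.node 2271 (BT.node 2269 (BT.node 2268 (BT.leaf cE2268) (BT.leaf cE2269)) (BT.node 2270 (BT.leaf cE2270) (BT.leaf cE2271))) (BT.node 2273 (BT.node 2272 (BT.leaf cE2272) (BT.leaf cE2273)) (BT.node 2274 (BT.leaf cE2274) (BT.leaf cE2275)))) (BT.node 2279 (BT.node 2277 (BT.node 2276 (BT.leaf cE2276) (BT.leaf cE2277)) (BT.node 2278 (BT.leaf cE2278) (BT.leaf cE2279))) (BT.node 2281 (BT.node 2280 (BT.leaf cE2280) (BT.leaf cE2281)) (BT.node 2282 (BT.leaf cE2282) (BT.leaf cE2283))))) (BT.node 2291 (BT.node 2287 (BT.node 2285 (BT.node 2284 (BT.leaf cE2284) (BT.leaf cE2285)) (BT.node 2286 (BT.leaf cE2286) (BT.leaf cE2287))) (BT.node 2289 (BT.node 2288 (BT.leaf cE2288) (BT.leaf cE2289)) (BT.node 2290 (BT.leaf cE2290) (BT.leaf cE2291)))) (BT.node 2295 (BT.node 2293 (BT.node 2292 (BT.leaf cE2292) (BT.leaf cE2293)) (BT.node 2294 (BT.leaf cE2294) (BT.leaf cE2295))) (BT.node 2297 (BT.node 2296 (BT.leaf cE2296) (BT.leaf cE2297)) (BT.node 2298 (BT.leaf cE2298) (BT.leaf cE2299)))))) (BT.node 2315 (BT.node 2307 (BT.node 2303 (BT.node 2301 (BT.node 2300 (BT.leaf cE2300) (BT.leaf cE2301)) (BT.node 2302 (BT.leaf cE2302) (BT.leaf cE2303))) (BT.node 2305 (BT.node 2304 (BT.leaf cE2304) (BT.leaf cE2305)) (BT.node 2306 (BT.leaf cE2306) (BT.leaf cE2307)))) (BT.node 2311 (BT.node 2309 (BT.node 2308 (BT.leaf cE2308) (BT.leaf cE2309)) (BT.node 2310 (BT.leaf cE2310) (BT.leaf cE2311))) (BT.node 2313 (BT.node 2312 (BT.leaf cE2312) (BT.leaf cE2313)) (BT.node 2314 (BT.leaf cE2314) (BT.leaf cE2315))))) (BT.node 2323 (BT.node 2319 (BT.node 2317 (BT.node 2316 (BT.leaf cE2316) (BT.leaf cE2317)) (BT.node 2318 (BT.leaf cE2318) (BT.leaf cE2319))) (BT.node 2321 (BT.node 2320 (BT.leaf cE2320) (BT.leaf cE2321)) (BT.node 2322 (BT.leaf cE2322) (BT.leaf cE2323)))) (BT.node 2327 (BT.node 2325 (BT.node 2324 (BT.leaf cE2324) (BT.leaf cE2325)) (BT.node 2326 (BT.leaf cE2326) (BT.leaf cE2327))) (BT.node 2329 (BT.node 2328 (BT.leaf cE2328) (BT.leaf cE2329)) (BT.leaf cE2330)))))) (BT.node 2362 (BT.node 2346 (BT.node 2338 (BT.node 2334 (BT.node 2332 (BT.node 2331 (BT.leaf cE2331) (BT.leaf cE2332)) (BT.node 2333 (BT.leaf cE2333) (BT.leaf cE2334))) (BT.node 2336 (BT.node 2335 (BT.leaf cE2335) (BT.leaf cE2336)) (BT.node 2337 (BT.leaf cE2337) (BT.leaf cE2338)))) (BT.node 2342 (BT.node 2340 (BT.node 2339 (BT.leaf cE2339) (BT.leaf cE2340)) (BT.node 2341 (BT.leaf cE2341) (BT.leaf cE2342))) (BT.node 2344 (BT.node 2343 (BT.leaf cE2343) (BT.leaf cE2344)) (BT.node 2345 (BT.leaf cE2345) (BT.leaf cE2346))))) (BT.node 2354 (BT.node 2350 (BT.node 2348 (BT.node 2347 (BT.leaf cE2347) (BT.leaf cE2348)) (BT.node 2349 (BT.leaf cE2349) (BT.leaf cE2350))) (BT.node 2352 (BT.node 2351 (BT.leaf cE2351) (BT.leaf cE2352)) (BT.node 2353 (BT.leaf cE2353) (BT.leaf cE2354)))) (BT.node 2358 (BT.node 2356 (BT.node 2355 (BT.leaf cE2355) (BT.leaf cE2356)) (BT.node 2357 (BT.leaf cE2357) (BT.leaf cE2358))) (BT.node 2360 (BT.node 2359 (BT.leaf cE2359) (BT.leaf cE2360)) (BT.node 2361 (BT.leaf cE2361) (BT.leaf cE2362)))))) (BT.node 2378 (BT.node 2370 (BT.node 2366 (BT.node 2364 (BT.node 2363 (BT.leaf cE2363) (BT.leaf cE2364)) (BT.node 2365 (BT.leaf cE2365) (BT.leaf cE2366))) (BT.node 2368 (BT.node 2367 (BT.leaf cE2367) (BT.leaf cE2368)) (BT.node 2369 (BT.leaf cE2369) (BT.leaf cE2370)))) (BT.node 2374 (BT.node 2372 (BT.node 2371 (BT.leaf cE2371) (BT.leaf cE2372)) (BT.node 2373 (BT.leaf cE2373) (BT.leaf cE2374))) (BT.node 2376 (BT.node 2375 (BT.leaf cE2375) (BT.leaf cE2376)) (BT.node 2377 (BT.leaf cE2377) (BT.leaf cE2378))))) (BT.node 2386 (BT.node 2382 (BT.node 2380 (BT.node 2379 (BT.leaf cE2379) (BT.leaf cE2380)) (BT.node 2381 (BT.leaf cE2381) (BT.leaf cE2382))) (BT.node 2384 (BT.node 2383 (BT.leaf cE2383) (BT.leaf cE2384)) (BT.node 2385 (BT.leaf cE2385) (BT.leaf cE2386)))) (BT.node 2390 (BT.node 2388 (BT.node 2387 (BT.leaf cE2387) (BT.leaf cE2388)) (BT.node 2389 (BT.leaf cE2389) (BT.leaf cE2390))) (BT.node 2392 (BT.node 2391 (BT.leaf cE2391) (BT.leaf cE2392)) (BT.leaf cE2393))))))) (BT.node 2456 (BT.node 2425 (BT.node 2409 (BT.node 2401 (BT.node 2397 (BT.node 2395 (BT.node 2394 (BT.leaf cE2394) (BT.leaf cE2395)) (BT.node 2396 (BT.leaf cE2396) (BT.leaf cE2397))) (BT.node 2399 (BT.node 2398 (BT.leaf cE2398) (BT.leaf cE2399)) (BT.node 2400 (BT.leaf cE2400) (BT.leaf cE2401)))) (BT.node 2405 (BT.node 2403 (BT.node 2402 (BT.leaf cE2402) (BT.leaf cE2403)) (BT.node 2404 (BT.leaf cE2404) (BT.leaf cE2405))) (BT.node 2407 (BT.node 2406 (BT.leaf cE2406) (BT.leaf cE2407)) (BT.node 2408 (BT.leaf cE2408) (BT.leaf cE2409))))) (BT.node 2417 (BT.node 2413 (BT.node 2411 (BT.node 2410 (BT.leaf cE2410) (BT.leaf cE2411)) (BT.node 2412 (BT.leaf cE2412) (BT.leaf cE2413))) (BT.node 2415 (BT.node 2414 (BT.leaf cE2414) (BT.leaf cE2415)) (BT.node 2416 (BT.leaf cE2416) (BT.leaf cE2417)))) (BT.node 2421 (BT.node 2419 (BT.node 2418 (BT.leaf cE2418) (BT.leaf cE2419)) (BT.node 2420 (BT.leaf cE2420) (BT.leaf cE2421))) (BT.node 2423 (BT.node 2422 (BT.leaf cE2422) (BT.leaf cE2423)) (BT.node 2424 (BT.leaf cE2424) (BT.leaf cE2425)))))) (BT.node 2441 (BT.node 2433 (BT.node 2429 (BT.node 2427 (BT.node 2426 (BT.leaf cE2426) (BT.leaf cE2427)) (BT.node 2428 (BT.leaf cE2428) (BT.leaf cE2429))) (BT.node 2431 (BT.node 2430 (BT.leaf cE2430) (BT.leaf cE2431)) (BT.node 2432 (BT.leaf cE2432) (BT.leaf cE2433)))) (BT.node 2437 (BT.node 2435 (BT.node 2434 (BT.leaf cE2434) (BT.leaf cE2435)) (BT.node 2436 (BT.leaf cE2436) (BT.leaf cE2437))) (BT.node 2439 (BT.node 2438 (BT.leaf cE2438) (BT.leaf cE2439)) (BT.node 2440 (BT.leaf cE2440) (BT.leaf cE2441))))) (BT.node 2449 (BT.node 2445 (BT.node 2443 (BT.node 2442 (BT.leaf cE2442) (BT.leaf cE2443)) (BT.node 2444 (BT.leaf cE2444) (BT.leaf cE2445))) (BT.node 2447 (BT.node 2446 (BT.leaf cE2446) (BT.leaf cE2447)) (BT.node 2448 (BT.leaf cE2448) (BT.leaf cE2449)))) (BT.node 2453 (BT.node 2451 (BT.node 2450 (BT.leaf cE2450) (BT.leaf cE2451)) (BT.node 2452 (BT.leaf cE2452) (BT.leaf cE2453))) (BT.node 2455 (BT.node 2454 (BT.leaf cE2454) (BT.leaf cE2455)) (BT.leaf cE2456)))))) (BT.node 2488 (BT.node 2472 (BT.node 2464 (BT.node 2460 (BT.node 2458 (BT.node 2457 (BT.leaf cE2457) (BT.leaf cE2458)) (BT.node 2459 (BT.leaf cE2459) (BT.leaf cE2460))) (BT.node 2462 (BT.node 2461 (BT.leaf cE2461) (BT.leaf cE2462)) (BT.node 2463 (BT.leaf cE2463) (BT.leaf cE2464)))) (BT.node 2468 (BT.node 2466 (BT.node 2465 (BT.leaf cE2465) (BT.leaf cE2466)) (BT.node 2467 (BT.leaf cE2467) (BT.leaf cE2468))) (BT.node 2470 (BT.node 2469 (BT.leaf cE2469) (BT.leaf cE2470)) (BT.node 2471 (BT.leaf cE2471) (BT.leaf cE2472))))) (BT.node 2480 (BT.node 2476 (BT.node 2474 (BT.node 2473 (BT.leaf cE2473) (BT.leaf cE2474)) (BT.node 2475 (BT.leaf cE2475) (BT.leaf cE2476))) (BT.node 2478 (BT.node 2477 (BT.leaf cE2477) (BT.leaf cE2478)) (BT.node 2479 (BT.leaf cE2479) (BT.leaf cE2480)))) (BT.node 2484 (BT.node 2482 (BT.node 2481 (BT.leaf cE2481) (BT.leaf cE2482)) (BT.node 2483 (BT.leaf cE2483) (BT.leaf cE2484))) (BT.node 2486 (BT.node 2485 (BT.leaf cE2485) (BT.leaf cE2486)) (BT.node 2487 (BT.leaf cE2487) (BT.leaf cE2488)))))) (BT.node 2504 (BT.node 2496 (BT.node 2492 (BT.node 2490 (BT.node 2489 (BT.leaf cE2489) (BT.leaf cE2490)) (BT.node 2491 (BT.leaf cE2491) (BT.leaf cE2492))) (BT.node 2494 (BT.node 2493 (BT.leaf cE2493) (BT.leaf cE2494)) (BT.node 2495 (BT.leaf cE2495) (BT.leaf cE2496)))) (BT.node 2500 (BT.node 2498 (BT.node 2497 (BT.leaf cE2497) (BT.leaf cE2498)) (BT.node 2499 (BT.leaf cE2499) (BT.leaf cE2500))) (BT.node 2502 (BT.node 2501 (BT.leaf cE2501) (BT.leaf cE2502)) (BT.node 2503 (BT.leaf cE2503) (BT.leaf cE2504))))) (BT.node 2512 (BT.node 2508 (BT.node 2506 (BT.node 2505 (BT.leaf cE2505) (BT.leaf cE2506)) (BT.node 2507 (BT.leaf cE2507) (BT.leaf cE2508))) (BT.node 2510 (BT.node 2509 (BT.leaf cE2509) (BT.leaf cE2510)) (BT.node 2511 (BT.leaf cE2511) (BT.leaf cE2512)))) (BT.node 2516 (BT.node 2514 (BT.node 2513 (BT.leaf cE2513) (BT.leaf cE2514)) (BT.node 2515 (BT.leaf cE2515) (BT.leaf cE2516))) (BT.node 2518 (BT.node 2517 (BT.leaf cE2517) (BT.leaf cE2518)) (BT.leaf cE2519))))))))) (BT.node 2771 (BT.node 2645 (BT.node 2582 (BT.node 2551 (BT.node 2535 (BT.node 2527 (BT.node 2523 (BT.node 2521 (BT.node 2520 (BT.leaf cE2520) (BT.leaf cE2521)) (BT.node 2522 (BT.leaf cE2522) (BT.leaf cE2523))) (BT.node 2525 (BT.node 2524 (BT.leaf cE2524) (BT.leaf cE2525)) (BT.node 2526 (BT.leaf cE2526) (BT.leaf cE2527)))) (BT.node 2531 (BT.node 2529 (BT.node 2528 (BT.leaf cE2528) (BT.leaf cE2529)) (BT.node 2530 (BT.leaf cE2530) (BT.leaf cE2531))) (BT.node 2533 (BT.node 2532 (BT.leaf cE2532) (BT.leaf cE2533)) (BT.node 2534 (BT.leaf cE2534) (BT.leaf cE2535))))) (BT.node 2543 (BT.node 2539 (BT.node 2537 (BT.node 2536 (BT.leaf cE2536) (BT.leaf cE2537)) (BT.node 2538 (BT.leaf cE2538) (BT.leaf cE2539))) (BT.node 2541 (BT.node 2540 (BT.leaf cE2540) (BT.leaf cE2541)) (BT.node 2542 (BT.leaf cE2542) (BT.leaf cE2543)))) (BT.node 2547 (BT.node 2545 (BT.node 2544 (BT.leaf cE2544) (BT.leaf cE2545)) (BT.node 2546 (BT.leaf cE2546) (BT.leaf cE2547))) (BT.node 2549 (BT.node 2548 (BT.leaf cE2548) (BT.leaf cE2549)) (BT.node 2550 (BT.leaf cE2550) (BT.leaf cE2551)))))) (BT.node 2567 (BT.node 2559 (BT.node 2555 (BT.node 2553 (BT.node 2552 (BT.leaf cE2552) (BT.leaf cE2553)) (BT.node 2554 (BT.leaf cE2554) (BT.leaf cE2555))) (BT.node 2557 (BT.node 2556 (BT.leaf cE2556) (BT.leaf cE2557)) (BT.node 2558 (BT.leaf cE2558) (BT.leaf cE2559)))) (BT.node 2563 (BT.node 2561 (BT.node 2560 (BT.leaf cE2560) (BT.leaf cE2561)) (BT.node 2562 (BT.leaf cE2562) (BT.leaf cE2563))) (BT.node 2565 (BT.node 2564 (BT.leaf cE2564) (BT.leaf cE2565)) (BT.node 2566 (BT.leaf cE2566) (BT.leaf cE2567))))) (BT.node 2575 (BT.node 2571 (BT.node 2569 (BT.node 2568 (BT.leaf cE2568) (BT.leaf cE2569)) (BT.node 2570 (BT.leaf cE2570) (BT.leaf cE2571))) (BT.node 2573 (BT.node 2572 (BT.leaf cE2572) (BT.leaf cE2573)) (BT.node 2574 (BT.leaf cE2574) (BT.leaf cE2575)))) (BT.node 2579 (BT.node 2577 (BT.node 2576 (BT.leaf cE2576) (BT.leaf cE2577)) (BT.node 2578 (BT.leaf cE2578) (BT.leaf cE2579))) (BT.node 2581 (BT.node 2580 (BT.leaf cE2580) (BT.leaf cE2581)) (BT.leaf cE2582)))))) (BT.node 2614 (BT.node 2598 (BT.node 2590 (BT.node 2586 (BT.node 2584 (BT.node 2583 (BT.leaf cE2583) (BT.leaf cE2584)) (BT.node 2585 (BT.leaf cE2585) (BT.leaf cE2586))) (BT.node 2588 (BT.node 2587 (BT.leaf cE2587) (BT.leaf cE2588)) (BT.node 2589 (BT.leaf cE2589) (BT.leaf cE2590)))) (BT.node 2594 (BT.node 2592 (BT.node 2591 (BT.leaf cE2591) (BT.leaf cE2592)) (BT.node 2593 (BT.leaf cE2593) (BT.leaf cE2594))) (BT.node 2596 (BT.node 2595 (BT.leaf cE2595) (BT.leaf cE2596)) (BT.node 2597 (BT.leaf cE2597) (BT.leaf cE2598))))) (BT.node 2606 (BT.node 2602 (BT.node 2600 (BT.node 2599 (BT.leaf cE2599) (BT.leaf cE2600)) (BT.node 2601 (BT.leaf cE2601) (BT.leaf cE2602))) (BT.node 2604 (BT.node 2603 (BT.leaf cE2603) (BT.leaf cE2604)) (BT.node 2605 (BT.leaf cE2605) (BT.leaf cE2606)))) (BT.node 2610 (BT.node 2608 (BT.node 2607 (BT.leaf cE2607) (BT.leaf cE2608)) (BT.node 2609 (BT.leaf cE2609) (BT.leaf cE2610))) (BT.node 2612 (BT.node 2611 (BT.leaf cE2611) (BT.leaf cE2612)) (BT.node 2613 (BT.leaf cE2613) (BT.leaf cE2614)))))) (BT.node 2630 (BT.node 2622 (BT.node 2618 (BT.node 2616 (BT.node 2615 (BT.leaf cE2615) (BT.leaf cE2616)) (BT.node 2617 (BT.leaf cE2617) (BT.leaf cE2618))) (BT.node 2620 (BT.node 2619 (BT.leaf cE2619) (BT.leaf cE2620)) (BT.node 2621 (BT.leaf cE2621) (BT.leaf cE2622)))) (BT.node 2626 (BT.node 2624 (BT.node 2623 (BT.leaf cE2623) (BT.leaf cE2624)) (BT.node 2625 (BT.leaf cE2625) (BT.leaf cE2626))) (BT.node 2628 (BT.node 2627 (BT.leaf cE2627) (BT.leaf cE2628)) (BT.node 2629 (BT.leaf cE2629) (BT.leaf cE2630))))) (BT.node 2638 (BT.node 2634 (BT.node 2632 (BT.node 2631 (BT.leaf cE2631) (BT.leaf cE2632)) (BT.node 2633 (BT.leaf cE2633) (BT.leaf cE2634))) (BT.node 2636 (BT.node 2635 (BT.leaf cE2635) (BT.leaf cE2636)) (BT.node 2637 (BT.leaf cE2637) (BT.leaf cE2638)))) (BT.node 2642 (BT.node 2640 (BT.node 2639 (BT.leaf cE2639) (BT.leaf cE2640)) (BT.node 2641 (BT.leaf cE2641) (BT.leaf cE2642))) (BT.node 2644 (BT.node 2643 (BT.leaf cE2643) (BT.leaf cE2644)) (BT.leaf cE2645))))))) (BT.node 2708 (BT.node 2677 (BT.node 2661 (BT.node 2653 (BT.node 2649 (BT.node 2647 (BT.node 2646 (BT.leaf cE2646) (BT.leaf cE2647)) (BT.node 2648 (BT.leaf cE2648) (BT.leaf cE2649))) (BT.node 2651 (BT.node 2650 (BT.leaf cE2650) (BT.leaf cE2651)) (BT.node 2652 (BT.leaf cE2652) (BT.leaf cE2653)))) (BT.node 2657 (BT.node 2655 (BT.node 2654 (BT.leaf cE2654) (BT.leaf cE2655)) (BT.node 2656 (BT.leaf cE2656) (BT.leaf cE2657))) (BT.node 2659 (BT.node 2658 (BT.leaf cE2658) (BT.leaf cE2659)) (BT.node 2660 (BT.leaf cE2660) (BT.leaf cE2661))))) (BT.node 2669 (BT.node 2665 (BT.node 2663 (BT.node 2662 (BT.leaf cE2662) (BT.leaf cE2663)) (BT.node 2664 (BT.leaf cE2664) (BT.leaf cE2665))) (BT.node 2667 (BT.node 2666 (BT.leaf cE2666) (BT.leaf cE2667)) (BT.node 2668 (BT.leaf cE2668) (BT.leaf cE2669)))) (BT.node 2673 (BT.node 2671 (BT.node 2670 (BT.leaf cE2670) (BT.leaf cE2671)) (BT.node 2672 (BT.leaf cE2672) (BT.leaf cE2673))) (BT.node 2675 (BT.node 2674 (BT.leaf cE2674) (BT.leaf cE2675)) (BT.node 2676 (BT.leaf cE2676) (BT.leaf cE2677)))))) (BT.node 2693 (BT.node 2685 (BT.node 2681 (BT.node 2679 (BT.node 2678 (BT.leaf cE2678) (BT.leaf cE2679)) (BT.node 2680 (BT.leaf cE2680) (BT.leaf cE2681))) (BT.node 2683 (BT.node 2682 (BT.leaf cE2682) (BT.leaf cE2683)) (BT.node 2684 (BT.leaf cE2684) (BT.leaf cE2685)))) (BT.node 2689 (BT.node 2687 (BT.node 2686 (BT.leaf cE2686) (BT.leaf cE2687)) (BT.node 2688 (BT.leaf cE2688) (BT.leaf cE2689))) (BT.node 2691 (BT.node 2690 (BT.leaf cE2690) (BT.leaf cE2691)) (BT.node 2692 (BT.leaf cE2692) (BT.leaf cE2693))))) (BT.node 2701 (BT.node 2697 (BT.node 2695 (BT.node 2694 (BT.leaf cE2694) (BT.leaf cE2695)) (BT.node 2696 (BT.leaf cE2696) (BT.leaf cE2697))) (BT.node 2699 (BT.node 2698 (BT.leaf cE2698) (BT.leaf cE2699)) (BT.node 2700 (BT.leaf cE2700) (BT.leaf cE2701)))) (BT.node 2705 (BT.node 2703 (BT.node 2702 (BT.leaf cE2702) (BT.leaf cE2703)) (BT.node 2704 (BT.leaf cE2704) (BT.leaf cE2705))) (BT.node 2707 (BT.node 2706 (BT.leaf cE2706) (BT.leaf cE2707)) (BT.leaf cE2708)))))) (BT.node 2740 (BT.node 2724 (BT.node 2716 (BT.node 2712 (BT.node 2710 (BT.node 2709 (BT.leaf cE2709) (BT.leaf cE2710)) (BT.node 2711 (BT.leaf cE2711) (BT.leaf cE2712))) (BT.node 2714 (BT.node 2713 (BT.leaf cE2713) (BT.leaf cE2714)) (BT.node 2715 (BT.leaf cE2715) (BT.leaf cE2716)))) (BT.node 2720 (BT.node 2718 (BT.node 2717 (BT.leaf cE2717) (BT.leaf cE2718)) (BT.node 2719 (BT.leaf cE2719) (BT.leaf cE2720))) (BT.node 2722 (BT.node 2721 (BT.leaf cE2721) (BT.leaf cE2722)) (BT.node 2723 (BT.leaf cE2723) (BT.leaf cE2724))))) (BT.node 2732 (BT.node 2728 (BT.node 2726 (BT.node 2725 (BT.leaf cE2725) (BT.leaf cE2726)) (BT.node 2727 (BT.leaf cE2727) (BT.leaf cE2728))) (BT.node 2730 (BT.node 2729 (BT.leaf cE2729) (BT.leaf cE2730)) (BT.node 2731 (BT.leaf cE2731) (BT.leaf cE2732)))) (BT.node 2736 (BT.node 2734 (BT.node 2733 (BT.leaf cE2733) (BT.leaf cE2734)) (BT.node 2735 (BT.leaf cE2735) (BT.leaf cE2736))) (BT.node 2738 (BT.node 2737 (BT.leaf cE2737) (BT.leaf cE2738)) (BT.node 2739 (BT.leaf cE2739) (BT.leaf cE2740)))))) (BT.node 2756 (BT.node 2748 (BT.node 2744 (BT.node 2742 (BT.node 2741 (BT.leaf cE2741) (BT.leaf cE2742)) (BT.node 2743 (BT.leaf cE2743) (BT.leaf cE2744))) (BT.node 2746 (BT.node 2745 (BT.leaf cE2745) (BT.leaf cE2746)) (BT.node 2747 (BT.leaf cE2747) (BT.leaf cE2748)))) (BT.node 2752 (BT.node 2750 (BT.node 2749 (BT.leaf cE2749) (BT.leaf cE2750)) (BT.node 2751 (BT.leaf cE2751) (BT.leaf cE2752))) (BT.node 2754 (BT.node 2753 (BT.leaf cE2753) (BT.leaf cE2754)) (BT.node 2755 (BT.leaf cE2755) (BT.leaf cE2756))))) (BT.node 2764 (BT.node 2760 (BT.node 2758 (BT.node 2757 (BT.leaf cE2757) (BT.leaf cE2758)) (BT.node 2759 (BT.leaf cE2759) (BT.leaf cE2760))) (BT.node 2762 (BT.node 2761 (BT.leaf cE2761) (BT.leaf cE2762)) (BT.node 2763 (BT.leaf cE2763) (BT.leaf cE2764)))) (BT.node 2768 (BT.node 2766 (BT.node 2765 (BT.leaf cE2765) (BT.leaf cE2766)) (BT.node 2767 (BT.leaf cE2767) (BT.leaf cE2768))) (BT.node 2770 (BT.node 2769 (BT.leaf cE2769) (BT.leaf cE2770)) (BT.leaf cE2771)))))))) (BT.node 2897 (BT.node 2834 (BT.node 2803 (BT.node 2787 (BT.node 2779 (BT.node 2775 (BT.node 2773 (BT.node 2772 (BT.leaf cE2772) (BT.leaf cE2773)) (BT.node 2774 (BT.leaf cE2774) (BT.leaf cE2775))) (BT.node 2777 (BT.node 2776 (BT.leaf cE2776) (BT.leaf cE2777)) (BT.node 2778 (BT.leaf cE2778) (BT.leaf cE2779)))) (BT.node 2783 (BT.node 2781 (BT.node 2780 (BT.leaf cE2780) (BT.leaf cE2781)) (BT.node 2782 (BT.leaf cE2782) (BT.leaf cE2783))) (BT.node 2785 (BT.node 2784 (BT.leaf cE2784) (BT.leaf cE2785)) (BT.node 2786 (BT.leaf cE2786) (BT.leaf cE2787))))) (BT.node 2795 (BT.node 2791 (BT.node 2789 (BT.node 2788 (BT.leaf cE2788) (BT.leaf cE2789)) (BT.node 2790 (BT.leaf cE2790) (BT.leaf cE2791))) (BT.node 2793 (BT.node 2792 (BT.leaf cE2792) (BT.leaf cE2793)) (BT.node 2794 (BT.leaf cE2794) (BT.leaf cE2795)))) (BT.node 2799 (BT.node 2797 (BT.node 2796 (BT.leaf cE2796) (BT.leaf cE2797)) (BT.node 2798 (BT.leaf cE2798) (BT.leaf cE2799))) (BT.node 2801 (BT.node 2800 (BT.leaf cE2800) (BT.leaf cE2801)) (BT.node 2802 (BT.leaf cE2802) (BT.leaf cE2803)))))) (BT.node 2819 (BT.node 2811 (BT.node 2807 (BT.node 2805 (BT.node 2804 (BT.leaf cE2804) (BT.leaf cE2805)) (BT.node 2806 (BT.leaf cE2806) (BT.leaf cE2807))) (BT.node 2809 (BT.node 2808 (BT.leaf cE2808) (BT.leaf cE2809)) (BT.node 2810 (BT.leaf cE2810) (BT.leaf cE2811)))) (BT.node 2815 (BT.node 2813 (BT.node 2812 (BT.leaf cE2812) (BT.leaf cE2813)) (BT.node 2814 (BT.leaf cE2814) (BT.leaf cE2815))) (BT.node 2817 (BT.node 2816 (BT.leaf cE2816) (BT.leaf cE2817)) (BT.node 2818 (BT.leaf cE2818) (BT.leaf cE2819))))) (BT.node 2827 (BT.node 2823 (BT.node 2821 (BT.node 2820 (BT.leaf cE2820) (BT.leaf cE2821)) (BT.node 2822 (BT.leaf cE2822) (BT.leaf cE2823))) (BT.node 2825 (BT.node 2824 (BT.leaf cE2824) (BT.leaf cE2825)) (BT.node 2826 (BT.leaf cE2826) (BT.leaf cE2827)))) (BT.node 2831 (BT.node 2829 (BT.node 2828 (BT.leaf cE2828) (BT.leaf cE2829)) (BT.node 2830 (BT.leaf cE2830) (BT.leaf cE2831))) (BT.node 2833 (BT.node 2832 (BT.leaf cE2832) (BT.leaf cE2833)) (BT.leaf cE2834)))))) (BT.node 2866 (BT.node 2850 (BT.node 2842 (BT.node 2838 (BT.node 2836 (BT.node 2835 (BT.leaf cE2835) (BT.leaf cE2836)) (BT.node 2837 (BT.leaf cE2837) (BT.leaf cE2838))) (BT.node 2840 (BT.node 2839 (BT.leaf cE2839) (BT.leaf cE2840)) (BT.node 2841 (BT.leaf cE2841) (BT.leaf cE2842)))) (BT.node 2846 (BT.node 2844 (BT.node 2843 (BT.leaf cE2843) (BT.leaf cE2844)) (BT.node 2845 (BT.leaf cE2845) (BT.leaf cE2846))) (BT.node 2848 (BT.node 2847 (BT.leaf cE2847) (BT.leaf cE2848)) (BT.node 2849 (BT.leaf cE2849) (BT.leaf cE2850))))) (BT.node 2858 (BT.node 2854 (BT.node 2852 (BT.node 2851 (BT.leaf cE2851) (BT.leaf cE2852)) (BT.node 2853 (BT.leaf cE2853) (BT.leaf cE2854))) (BT.node 2856 (BT.node 2855 (BT.leaf cE2855) (BT.leaf cE2856)) (BT.node 2857 (BT.leaf cE2857) (BT.leaf cE2858)))) (BT.node 2862 (BT.node 2860 (BT.node 2859 (BT.leaf cE2859) (BT.leaf cE2860)) (BT.node 2861 (BT.leaf cE2861) (BT.leaf cE2862))) (BT.node 2864 (BT.node 2863 (BT.leaf cE2863) (BT.leaf cE2864)) (BT.node 2865 (BT.leaf cE2865) (BT.leaf cE2866)))))) (BT.node 2882 (BT.node 2874 (BT.node 2870 (BT.node 2868 (BT.node 2867 (BT.leaf cE2867) (BT.leaf cE2868)) (BT.node 2869 (BT.leaf cE2869) (BT.leaf cE2870))) (BT.node 2872 (BT.node 2871 (BT.leaf cE2871) (BT.leaf cE2872)) (BT.node 2873 (BT.leaf cE2873) (BT.leaf cE2874)))) (BT.node 2878 (BT.node 2876 (BT.node 2875 (BT.leaf cE2875) (BT.leaf cE2876)) (BT.node 2877 (BT.leaf cE2877) (BT.leaf cE2878))) (BT.node 2880 (BT.node 2879 (BT.leaf cE2879) (BT.leaf cE2880)) (BT.node 2881 (BT.leaf cE2881) (BT.leaf cE2882))))) (BT.node 2890 (BT.node 2886 (BT.node 2884 (BT.node 2883 (BT.leaf cE2883) (BT.leaf cE2884)) (BT.node 2885 (BT.leaf cE2885) (BT.leaf cE2886))) (BT.node 2888 (BT.node 2887 (BT.leaf cE2887) (BT.leaf cE2888)) (BT.node 2889 (BT.leaf cE2889) (BT.leaf cE2890)))) (BT.node 2894 (BT.node 2892 (BT.node 2891 (BT.leaf cE2891) (BT.leaf cE2892)) (BT.node 2893 (BT.leaf cE2893) (BT.leaf cE2894))) (BT.node 2896 (BT.node 2895 (BT.leaf cE2895) (BT.leaf cE2896)) (BT.leaf cE2897))))))) (BT.node 2960 (BT.node 2929 (BT.node 2913 (BT.node 2905 (BT.node 2901 (BT.node 2899 (BT.node 2898 (BT.leaf cE2898) (BT.leaf cE2899)) (BT.node 2900 (BT.leaf cE2900) (BT.leaf cE2901))) (BT.node 2903 (BT.node 2902 (BT.leaf cE2902) (BT.leaf cE2903)) (BT.node 2904 (BT.leaf cE2904) (BT.leaf cE2905)))) (BT.node 2909 (BT.node 2907 (BT.node 2906 (BT.leaf cE2906) (BT.leaf cE2907)) (BT.node 2908 (BT.leaf cE2908) (BT.leaf cE2909))) (BT.node 2911 (BT.node 2910 (BT.leaf cE2910) (BT.leaf cE2911)) (BT.node 2912 (BT.leaf cE2912) (BT.leaf cE2913))))) (BT.node 2921 (BT.node 2917 (BT.node 2915 (BT.node 2914 (BT.leaf cE2914) (BT.leaf cE2915)) (BT.node 2916 (BT.leaf cE2916) (BT.leaf cE2917))) (BT.node 2919 (BT.node 2918 (BT.leaf cE2918) (BT.leaf cE2919)) (BT.node 2920 (BT.leaf cE2920) (BT.leaf cE2921)))) (BT.node 2925 (BT.node 2923 (BT.node 2922 (BT.leaf cE2922) (BT.leaf cE2923)) (BT.node 2924 (BT.leaf cE2924) (BT.leaf cE2925))) (BT.node 2927 (BT.node 2926 (BT.leaf cE2926) (BT.leaf cE2927)) (BT.node 2928 (BT.leaf cE2928) (BT.leaf cE2929)))))) (BT.node 2945 (BT.node 2937 (BT.node 2933 (BT.node 2931 (BT.node 2930 (BT.leaf cE2930) (BT.leaf cE2931)) (BT.node 2932 (BT.leaf cE2932) (BT.leaf cE2933))) (BT.node 2935 (BT.node 2934 (BT.leaf cE2934) (BT.leaf cE2935)) (BT.node 2936 (BT.leaf cE2936) (BT.leaf cE2937)))) (BT.node 2941 (BT.node 2939 (BT.node 2938 (BT.leaf cE2938) (BT.leaf cE2939)) (BT.node 2940 (BT.leaf cE2940) (BT.leaf cE2941))) (BT.node 2943 (BT.node 2942 (BT.leaf cE2942) (BT.leaf cE2943)) (BT.node 2944 (BT.leaf cE2944) (BT.leaf cE2945))))) (BT.node 2953 (BT.node 2949 (BT.node 2947 (BT.node 2946 (BT.leaf cE2946) (BT.leaf cE2947)) (BT.node 2948 (BT.leaf cE2948) (BT.leaf cE2949))) (BT.node 2951 (BT.node 2950 (BT.leaf cE2950) (BT.leaf cE2951)) (BT.node 2952 (BT.leaf cE2952) (BT.leaf cE2953)))) (BT.node 2957 (BT.node 2955 (BT.node 2954 (BT.leaf cE2954) (BT.leaf cE2955)) (BT.node 2956 (BT.leaf cE2956) (BT.leaf cE2957))) (BT.node 2959 (BT.node 2958 (BT.leaf cE2958) (BT.leaf cE2959)) (BT.leaf cE2960)))))) (BT.node 2992 (BT.node 2976 (BT.node 2968 (BT.node 2964 (BT.node 2962 (BT.node 2961 (BT.leaf cE2961) (BT.leaf cE2962)) (BT.node 2963 (BT.leaf cE2963) (BT.leaf cE2964))) (BT.node 2966 (BT.node 2965 (BT.leaf cE2965) (BT.leaf cE2966)) (BT.node 2967 (BT.leaf cE2967) (BT.leaf cE2968)))) (BT.node 2972 (BT.node 2970 (BT.node 2969 (BT.leaf cE2969) (BT.leaf cE2970)) (BT.node 2971 (BT.leaf cE2971) (BT.leaf cE2972))) (BT.node 2974 (BT.node 2973 (BT.leaf cE2973) (BT.leaf cE2974)) (BT.node 2975 (BT.leaf cE2975) (BT.leaf cE2976))))) (BT.node 2984 (BT.node 2980 (BT.node 2978 (BT.node 2977 (BT.leaf cE2977) (BT.leaf cE2978)) (BT.node 2979 (BT.leaf cE2979) (BT.leaf cE2980))) (BT.node 2982 (BT.node 2981 (BT.leaf cE2981) (BT.leaf cE2982)) (BT.node 2983 (BT.leaf cE2983) (BT.leaf cE2984)))) (BT.node 2988 (BT.node 2986 (BT.node 2985 (BT.leaf cE2985) (BT.leaf cE2986)) (BT.node 2987 (BT.leaf cE2987) (BT.leaf cE2988))) (BT.node 2990 (BT.node 2989 (BT.leaf cE2989) (BT.leaf cE2990)) (BT.node 2991 (BT.leaf cE2991) (BT.leaf cE2992)))))) (BT.node 3008 (BT.node 3000 (BT.node 2996 (BT.node 2994 (BT.node 2993 (BT.leaf cE2993) (BT.leaf cE2994)) (BT.node 2995 (BT.leaf cE2995) (BT.leaf cE2996))) (BT.node 2998 (BT.node 2997 (BT.leaf cE2997) (BT.leaf cE2998)) (BT.node 2999 (BT.leaf cE2999) (BT.leaf cE3000)))) (BT.node 3004 (BT.node 3002 (BT.node 3001 (BT.leaf cE3001) (BT.leaf cE3002)) (BT.node 3003 (BT.leaf cE3003) (BT.leaf cE3004))) (BT.node 3006 (BT.node 3005 (BT.leaf cE3005) (BT.leaf cE3006)) (BT.node 3007 (BT.leaf cE3007) (BT.leaf cE3008))))) (BT.node 3016 (BT.node 3012 (BT.node 3010 (BT.node 3009 (BT.leaf cE3009) (BT.leaf cE3010)) (BT.node 3011 (BT.leaf cE3011) (BT.leaf cE3012))) (BT.node 3014 (BT.node 3013 (BT.leaf cE3013) (BT.leaf cE3014)) (BT.node 3015 (BT.leaf cE3015) (BT.leaf cE3016)))) (BT.node 3020 (BT.node 3018 (BT.node 3017 (BT.leaf cE3017) (BT.leaf cE3018)) (BT.node 3019 (BT.leaf cE3019) (BT.leaf cE3020))) (BT.node 3022 (BT.node 3021 (BT.leaf cE3021) (BT.leaf cE3022)) (BT.leaf cE3023)))))))))) (BT.node 3527 (BT.node 3275 (BT.node 3149 (BT.node 3086 (BT.node 3055 (BT.node 3039 (BT.node 3031 (BT.node 3027 (BT.node 3025 (BT.node 3024 (BT.leaf cE3024) (BT.leaf cE3025)) (BT.node 3026 (BT.leaf cE3026) (BT.leaf cE3027))) (BT.node 3029 (BT.node 3028 (BT.leaf cE3028) (BT.leaf cE3029)) (BT.node 3030 (BT.leaf cE3030) (BT.leaf cE3031)))) (BT.node 3035 (BT.node 3033 (BT.node 3032 (BT.leaf cE3032) (BT.leaf cE3033)) (BT.node 3034 (BT.leaf cE3034) (BT.leaf cE3035))) (BT.node 3037 (BT.node 3036 (BT.leaf cE3036) (BT.leaf cE3037)) (BT.node 3038 (BT.leaf cE3038) (BT.leaf cE3039))))) (BT.node 3047 (BT.node 3043 (BT.node 3041 (BT.node 3040 (BT.leaf cE3040) (BT.leaf cE3041)) (BT.node 3042 (BT.leaf cE3042) (BT.leaf cE3043))) (BT.node 3045 (BT.node 3044 (BT.leaf cE3044) (BT.leaf cE3045)) (BT.node 3046 (BT.leaf cE3046) (BT.leaf cE3047)))) (BT.node 3051 (BT.node 3049 (BT.node 3048 (BT.leaf cE3048) (BT.leaf cE3049)) (BT.node 3050 (BT.leaf cE3050) (BT.leaf cE3051))) (BT.node 3053 (BT.node 3052 (BT.leaf cE3052) (BT.leaf cE3053)) (BT.node 3054 (BT.leaf cE3054) (BT.leaf cE3055)))))) (BT.node 3071 (BT.node 3063 (BT.node 3059 (BT.node 3057 (BT.node 3056 (BT.leaf cE3056) (BT.leaf cE3057)) (BT.node 3058 (BT.leaf cE3058) (BT.leaf cE3059))) (BT.node 3061 (BT.node 3060 (BT.leaf cE3060) (BT.leaf cE3061)) (BT.node 3062 (BT.leaf cE3062) (BT.leaf cE3063)))) (BT.node 3067 (BT.node 3065 (BT.node 3064 (BT.leaf cE3064) (BT.leaf cE3065)) (BT.node 3066 (BT.leaf cE3066) (BT.leaf cE3067))) (BT.node 3069 (BT.node 3068 (BT.leaf cE3068) (BT.leaf cE3069)) (BT.node 3070 (BT.leaf cE3070) (BT.leaf cE3071))))) (BT.node 3079 (BT.node 3075 (BT.node 3073 (BT.node 3072 (BT.leaf cE3072) (BT.leaf cE3073)) (BT.node 3074 (BT.leaf cE3074) (BT.leaf cE3075))) (BT.node 3077 (BT.node 3076 (BT.leaf cE3076) (BT.leaf cE3077)) (BT.node 3078 (BT.leaf cE3078) (BT.leaf cE3079)))) (BT.node 3083 (BT.node 3081 (BT.node 3080 (BT.leaf cE3080) (BT.leaf cE3081)) (BT.node 3082 (BT.leaf cE3082) (BT.leaf cE3083))) (BT.node 3085 (BT.node 3084 (BT.leaf cE3084) (BT.leaf cE3085)) (BT.leaf cE3086)))))) (BT.node 3118 (BT.node 3102 (BT.node 3094 (BT.node 3090 (BT.node 3088 (BT.node 3087 (BT.leaf cE3087) (BT.leaf cE3088)) (BT.node 3089 (BT.leaf cE3089) (BT.leaf cE3090))) (BT.node 3092 (BT.node 3091 (BT.leaf cE3091) (BT.leaf cE3092)) (BT.node 3093 (BT.leaf cE3093) (BT.leaf cE3094)))) (BT.node 3098 (BT.node 3096 (BT.node 3095 (BT.leaf cE3095) (BT.leaf cE3096)) (BT.node 3097 (BT.leaf cE3097) (BT.leaf cE3098))) (BT.node 3100 (BT.node 3099 (BT.leaf cE3099) (BT.leaf cE3100)) (BT.node 3101 (BT.leaf cE3101) (BT.leaf cE3102))))) (BT.node 3110 (BT.node 3106 (BT.node 3104 (BT.node 3103 (BT.leaf cE3103) (BT.leaf cE3104)) (BT.node 3105 (BT.leaf cE3105) (BT.leaf cE3106))) (BT.node 3108 (BT.node 3107 (BT.leaf cE3107) (BT.leaf cE3108)) (BT.node 3109 (BT.leaf cE3109) (BT.leaf cE3110)))) (BT.node 3114 (BT.node 3112 (BT.node 3111 (BT.leaf cE3111) (BT.leaf cE3112)) (BT.node 3113 (BT.leaf cE3113) (BT.leaf cE3114))) (BT.node 3116 (BT.node 3115 (BT.leaf cE3115) (BT.leaf cE3116)) (BT.node 3117 (BT.leaf cE3117) (BT.leaf cE3118)))))) (BT.node 3134 (BT.node 3126 (BT.node 3122 (BT.node 3120 (BT.node 3119 (BT.leaf cE3119) (BT.leaf cE3120)) (BT.node 3121 (BT.leaf cE3121) (BT.leaf cE3122))) (BT.node 3124 (BT.node 3123 (BT.leaf cE3123) (BT.leaf cE3124)) (BT.node 3125 (BT.leaf cE3125) (BT.leaf cE3126)))) (BT.node 3130 (BT.node 3128 (BT.node 3127 (BT.leaf cE3127) (BT.leaf cE3128)) (BT.node 3129 (BT.leaf cE3129) (BT.leaf cE3130))) (BT.node 3132 (BT.node 3131 (BT.leaf cE3131) (BT.leaf cE3132)) (BT.node 3133 (BT.leaf cE3133) (BT.leaf cE3134))))) (BT.node 3142 (BT.node 3138 (BT.node 3136 (BT.node 3135 (BT.leaf cE3135) (BT.leaf cE3136)) (BT.node 3137 (BT.leaf cE3137) (BT.leaf cE3138))) (BT.node 3140 (BT.node 3139 (BT.leaf cE3139) (BT.leaf cE3140)) (BT.node 3141 (BT.leaf cE3141) (BT.leaf cE3142)))) (BT.node 3146 (BT.node 3144 (BT.node 3143 (BT.leaf cE3143) (BT.leaf cE3144)) (BT.node 3145 (BT.leaf cE3145) (BT.leaf cE3146))) (BT.node 3148 (BT.node 3147 (BT.leaf cE3147) (BT.leaf cE3148)) (BT.leaf cE3149))))))) (BT.node 3212 (BT.node 3181 (BT.node 3165 (BT.node 3157 (BT.node 3153 (BT.node 3151 (BT.node 3150 (BT.leaf cE3150) (BT.leaf cE3151)) (BT.node 3152 (BT.leaf cE3152) (BT.leaf cE3153))) (BT.node 3155 (BT.node 3154 (BT.leaf cE3154) (BT.leaf cE3155)) (BT.node 3156 (BT.leaf cE3156) (BT.leaf cE3157)))) (BT.node 3161 (BT.node 3159 (BT.node 3158 (BT.leaf cE3158) (BT.leaf cE3159)) (BT.node 3160 (BT.leaf cE3160) (BT.leaf cE3161))) (BT.node 3163 (BT.node 3162 (BT.leaf cE3162) (BT.leaf cE3163)) (BT.node 3164 (BT.leaf cE3164) (BT.leaf cE3165))))) (BT.node 3173 (BT.node 3169 (BT.node 3167 (BT.node 3166 (BT.leaf cE3166) (BT.leaf cE3167)) (BT.node 3168 (BT.leaf cE3168) (BT.leaf cE3169))) (BT.node 3171 (BT.node 3170 (BT.leaf cE3170) (BT.leaf cE3171)) (BT.node 3172 (BT.leaf cE3172) (BT.leaf cE3173)))) (BT.node 3177 (BT.node 3175 (BT.node 3174 (BT.leaf cE3174) (BT.leaf cE3175)) (BT.node 3176 (BT.leaf cE3176) (BT.leaf cE3177))) (BT.node 3179 (BT.node 3178 (BT.leaf cE3178) (BT.leaf cE3179)) (BT.node 3180 (BT.leaf cE3180) (BT.leaf cE3181)))))) (BT.node 3197 (BT.node 3189 (BT.node 3185 (BT.node 3183 (BT.node 3182 (BT.leaf cE3182) (BT.leaf cE3183)) (BT.node 3184 (BT.leaf cE3184) (BT.leaf cE3185))) (BT.node 3187 (BT.node 3186 (BT.leaf cE3186) (BT.leaf cE3187)) (BT.node 3188 (BT.leaf cE3188) (BT.leaf cE3189)))) (BT.node 3193 (BT.node 3191 (BT.node 3190 (BT.leaf cE3190) (BT.leaf cE3191)) (BT.node 3192 (BT.leaf cE3192) (BT.leaf cE3193))) (BT.node 3195 (BT.node 3194 (BT.leaf cE3194) (BT.leaf cE3195)) (BT.node 3196 (BT.leaf cE3196) (BT.leaf cE3197))))) (BT.node 3205 (BT.node 3201 (BT.node 3199 (BT.node 3198 (BT.leaf cE3198) (BT.leaf cE3199)) (BT.node 3200 (BT.leaf cE3200) (BT.leaf cE3201))) (BT.node 3203 (BT.node 3202 (BT.leaf cE3202) (BT.leaf cE3203)) (BT.node 3204 (BT.leaf cE3204) (BT.leaf cE3205)))) (BT.node 3209 (BT.node 3207 (BT.node 3206 (BT.leaf cE3206) (BT.leaf cE3207)) (BT.node 3208 (BT.leaf cE3208) (BT.leaf cE3209))) (BT.node 3211 (BT.node 3210 (BT.leaf cE3210) (BT.leaf cE3211)) (BT.leaf cE3212)))))) (BT.node 3244 (BT.node 3228 (BT.node 3220 (BT.node 3216 (BT.node 3214 (BT.node 3213 (BT.leaf cE3213) (BT.leaf cE3214)) (BT.node 3215 (BT.leaf cE3215) (BT.leaf cE3216))) (BT.node 3218 (BT.node 3217 (BT.leaf cE3217) (BT.leaf cE3218)) (BT.node 3219 (BT.leaf cE3219) (BT.leaf cE3220)))) (BT.node 3224 (BT.node 3222 (BT.node 3221 (BT.leaf cE3221) (BT.leaf cE3222)) (BT.node 3223 (BT.leaf cE3223) (BT.leaf cE3224))) (BT.node 3226 (BT.node 3225 (BT.leaf cE3225) (BT.leaf cE3226)) (BT.node 3227 (BT.leaf cE3227) (BT.leaf cE3228))))) (BT.node 3236 (BT.node 3232 (BT.node 3230 (BT.node 3229 (BT.leaf cE3229) (BT.leaf cE3230)) (BT.node 3231 (BT.leaf cE3231) (BT.leaf cE3232))) (BT.node 3234 (BT.node 3233 (BT.leaf cE3233) (BT.leaf cE3234)) (BT.node 3235 (BT.leaf cE3235) (BT.leaf cE3236)))) (BT.node 3240 (BT.node 3238 (BT.node 3237 (BT.leaf cE3237) (BT.leaf cE3238)) (BT.node 3239 (BT.leaf cE3239) (BT.leaf cE3240))) (BT.node 3242 (BT.node 3241 (BT.leaf cE3241) (BT.leaf cE3242)) (BT.node 3243 (BT.leaf cE3243) (BT.leaf cE3244)))))) (BT.node 3260 (BT.node 3252 (BT.node 3248 (BT.node 3246 (BT.node 3245 (BT.leaf cE3245) (BT.leaf cE3246)) (BT.node 3247 (BT.leaf cE3247) (BT.leaf cE3248))) (BT.node 3250 (BT.node 3249 (BT.leaf cE3249) (BT.leaf cE3250)) (BT.node 3251 (BT.leaf cE3251) (BT.leaf cE3252)))) (BT.node 3256 (BT.node 3254 (BT.node 3253 (BT.leaf cE3253) (BT.leaf cE3254)) (BT.node 3255 (BT.leaf cE3255) (BT.leaf cE3256))) (BT.node 3258 (BT.node 3257 (BT.leaf cE3257) (BT.leaf cE3258)) (BT.node 3259 (BT.leaf cE3259) (BT.leaf cE3260))))) (BT.node 3268 (BT.node 3264 (BT.node 3262 (BT.node 3261 (BT.leaf cE3261) (BT.leaf cE3262)) (BT.node 3263 (BT.leaf cE3263) (BT.leaf cE3264))) (BT.node 3266 (BT.node 3265 (BT.leaf cE3265) (BT.leaf cE3266)) (BT.node 3267 (BT.leaf cE3267) (BT.leaf cE3268)))) (BT.node 3272 (BT.node 3270 (BT.node 3269 (BT.leaf cE3269) (BT.leaf cE3270)) (BT.node 3271 (BT.leaf cE3271) (BT.leaf cE3272))) (BT.node 3274 (BT.node 3273 (BT.leaf cE3273) (BT.leaf cE3274)) (BT.leaf cE3275)))))))) (BT.node 3401 (BT.node 3338 (BT.node 3307 (BT.node 3291 (BT.node 3283 (BT.node 3279 (BT.node 3277 (BT.node 3276 (BT.leaf cE3276) (BT.leaf cE3277)) (BT.node 3278 (BT.leaf cE3278) (BT.leaf cE3279))) (BT.node 3281 (BT.node 3280 (BT.leaf cE3280) (BT.leaf cE3281)) (BT.node 3282 (BT.leaf cE3282) (BT.leaf cE3283)))) (BT.node 3287 (BT.node 3285 (BT.node 3284 (BT.leaf cE3284) (BT.leaf cE3285)) (BT.node 3286 (BT.leaf cE3286) (BT.leaf cE3287))) (BT.node 3289 (BT.node 3288 (BT.leaf cE3288) (BT.leaf cE3289)) (BT.node 3290 (BT.leaf cE3290) (BT.leaf cE3291))))) (BT.node 3299 (BT.node 3295 (BT.node 3293 (BT.node 3292 (BT.leaf cE3292) (BT.leaf cE3293)) (BT.node 3294 (BT.leaf cE3294) (BT.leaf cE3295))) (BT.node 3297 (BT.node 3296 (BT.leaf cE3296) (BT.leaf cE3297)) (BT.node 3298 (BT.leaf cE3298) (BT.leaf cE3299)))) (BT.node 3303 (BT.node 3301 (BT.node 3300 (BT.leaf cE3300) (BT.leaf cE3301)) (BT.node 3302 (BT.leaf cE3302) (BT.leaf cE3303))) (BT.node 3305 (BT.node 3304 (BT.leaf cE3304) (BT.leaf cE3305)) (BT.node 3306 (BT.leaf cE3306) (BT.leaf cE3307)))))) (BT.node 3323 (BT.node 3315 (BT.node 3311 (BT.node 3309 (BT.node 3308 (BT.leaf cE3308) (BT.leaf cE3309)) (BT.node 3310 (BT.leaf cE3310) (BT.leaf cE3311))) (BT.node 3313 (BT.node 3312 (BT.leaf cE3312) (BT.leaf cE3313)) (BT.node 3314 (BT.leaf cE3314) (BT.leaf cE3315)))) (BT.node 3319 (BT.node 3317 (BT.node 3316 (BT.leaf cE3316) (BT.leaf cE3317)) (BT.node 3318 (BT.leaf cE3318) (BT.leaf cE3319))) (BT.node 3321 (BT.node 3320 (BT.leaf cE3320) (BT.leaf cE3321)) (BT.node 3322 (BT.leaf cE3322) (BT.leaf cE3323))))) (BT.node 3331 (BT.node 3327 (BT.node 3325 (BT.node 3324 (BT.leaf cE3324) (BT.leaf cE3325)) (BT.node 3326 (BT.leaf cE3326) (BT.leaf cE3327))) (BT.node 3329 (BT.node 3328 (BT.leaf cE3328) (BT.leaf cE3329)) (BT.node 3330 (BT.leaf cE3330) (BT.leaf cE3331)))) (BT.node 3335 (BT.node 3333 (BT.node 3332 (BT.leaf cE3332) (BT.leaf cE3333)) (BT.node 3334 (BT.leaf cE3334) (BT.leaf cE3335))) (BT.node 3337 (BT.node 3336 (BT.leaf cE3336) (BT.leaf cE3337)) (BT.leaf cE3338)))))) (BT.node 3370 (BT.node 3354 (BT.node 3346 (BT.node 3342 (BT.node 3340 (BT.node 3339 (BT.leaf cE3339) (BT.leaf cE3340)) (BT.node 3341 (BT.leaf cE3341) (BT.leaf cE3342))) (BT.node 3344 (BT.node 3343 (BT.leaf cE3343) (BT.leaf cE3344)) (BT.node 3345 (BT.leaf cE3345) (BT.leaf cE3346)))) (BT.node 3350 (BT.node 3348 (BT.node 3347 (BT.leaf cE3347) (BT.leaf cE3348)) (BT.node 3349 (BT.leaf cE3349) (BT.leaf cE3350))) (BT.node 3352 (BT.node 3351 (BT.leaf cE3351) (BT.leaf cE3352)) (BT.node 3353 (BT.leaf cE3353) (BT.leaf cE3354))))) (BT.node 3362 (BT.node 3358 (BT.node 3356 (BT.node 3355 (BT.leaf cE3355) (BT.leaf cE3356)) (BT.node 3357 (BT.leaf cE3357) (BT.leaf cE3358))) (BT.node 3360 (BT.node 3359 (BT.leaf cE3359) (BT.leaf cE3360)) (BT.node 3361 (BT.leaf cE3361) (BT.leaf cE3362)))) (BT.node 3366 (BT.node 3364 (BT.node 3363 (BT.leaf cE3363) (BT.leaf cE3364)) (BT.node 3365 (BT.leaf cE3365) (BT.leaf cE3366))) (BT.node 3368 (BT.node 3367 (BT.leaf cE3367) (BT.leaf cE3368)) (BT.node 3369 (BT.leaf cE3369) (BT.leaf cE3370)))))) (BT.node 3386 (BT.node 3378 (BT.node 3374 (BT.node 3372 (BT.node 3371 (BT.leaf cE3371) (BT.leaf cE3372)) (BT.node 3373 (BT.leaf cE3373) (BT.leaf cE3374))) (BT.node 3376 (BT.node 3375 (BT.leaf cE3375) (BT.leaf cE3376)) (BT.node 3377 (BT.leaf cE3377) (BT.leaf cE3378)))) (BT.node 3382 (BT.node 3380 (BT.node 3379 (BT.leaf cE3379) (BT.leaf cE3380)) (BT.node 3381 (BT.leaf cE3381) (BT.leaf cE3382))) (BT.node 3384 (BT.node 3383 (BT.leaf cE3383) (BT.leaf cE3384)) (BT.node 3385 (BT.leaf cE3385) (BT.leaf cE3386))))) (BT.node 3394 (BT.node 3390 (BT.node 3388 (BT.node 3387 (BT.leaf cE3387) (BT.leaf cE3388)) (BT.node 3389 (BT.leaf cE3389) (BT.leaf cE3390))) (BT.node 3392 (BT.node 3391 (BT.leaf cE3391) (BT.leaf cE3392)) (BT.node 3393 (BT.leaf cE3393) (BT.leaf cE3394)))) (BT.node 3398 (BT.node 3396 (BT.node 3395 (BT.leaf cE3395) (BT.leaf cE3396)) (BT.node 3397 (BT.leaf cE3397) (BT.leaf cE3398))) (BT.node 3400 (BT.node 3399 (BT.leaf cE3399) (BT.leaf cE3400)) (BT.leaf cE3401))))))) (BT.node 3464 (BT.node 3433 (BT.node 3417 (BT.node 3409 (BT.node 3405 (BT.node 3403 (BT.node 3402 (BT.leaf cE3402) (BT.leaf cE3403)) (BT.node 3404 (BT.leaf cE3404) (BT.leaf cE3405))) (BT.node 3407 (BT.node 3406 (BT.leaf cE3406) (BT.leaf cE3407)) (BT.node 3408 (BT.leaf cE3408) (BT.leaf cE3409)))) (BT.node 3413 (BT.node 3411 (BT.node 3410 (BT.leaf cE3410) (BT.leaf cE3411)) (BT.node 3412 (BT.leaf cE3412) (BT.leaf cE3413))) (BT.node 3415 (BT.node 3414 (BT.leaf cE3414) (BT.leaf cE3415)) (BT.node 3416 (BT.leaf cE3416) (BT.leaf cE3417))))) (BT.node 3425 (BT.node 3421 (BT.node 3419 (BT.node 3418 (BT.leaf cE3418) (BT.leaf cE3419)) (BT.node 3420 (BT.leaf cE3420) (BT.leaf cE3421))) (BT.node 3423 (BT.node 3422 (BT.leaf cE3422) (BT.leaf cE3423)) (BT.node 3424 (BT.leaf cE3424) (BT.leaf cE3425)))) (BT.node 3429 (BT.node 3427 (BT.node 3426 (BT.leaf cE3426) (BT.leaf cE3427)) (BT.node 3428 (BT.leaf cE3428) (BT.leaf cE3429))) (BT.node 3431 (BT.node 3430 (BT.leaf cE3430) (BT.leaf cE3431)) (BT.node 3432 (BT.leaf cE3432) (BT.leaf cE3433)))))) (BT.node 3449 (BT.node 3441 (BT.node 3437 (BT.node 3435 (BT.node 3434 (BT.leaf cE3434) (BT.leaf cE3435)) (BT.node 3436 (BT.leaf cE3436) (BT.leaf cE3437))) (BT.node 3439 (BT.node 3438 (BT.leaf cE3438) (BT.leaf cE3439)) (BT.node 3440 (BT.leaf cE3440) (BT.leaf cE3441)))) (BT.node 3445 (BT.node 3443 (BT.node 3442 (BT.leaf cE3442) (BT.leaf cE3443)) (BT.node 3444 (BT.leaf cE3444) (BT.leaf cE3445))) (BT.node 3447 (BT.node 3446 (BT.leaf cE3446) (BT.leaf cE3447)) (BT.node 3448 (BT.leaf cE3448) (BT.leaf cE3449))))) (BT.node 3457 (BT.node 3453 (BT.node 3451 (BT.node 3450 (BT.leaf cE3450) (BT.leaf cE3451)) (BT.node 3452 (BT.leaf cE3452) (BT.leaf cE3453))) (BT.node 3455 (BT.node 3454 (BT.leaf cE3454) (BT.leaf cE3455)) (BT.node 3456 (BT.leaf cE3456) (BT.leaf cE3457)))) (BT.node 3461 (BT.node 3459 (BT.node 3458 (BT.leaf cE3458) (BT.leaf cE3459)) (BT.node 3460 (BT.leaf cE3460) (BT.leaf cE3461))) (BT.node 3463 (BT.node 3462 (BT.leaf cE3462) (BT.leaf cE3463)) (BT.leaf cE3464)))))) (BT.node 3496 (BT.node 3480 (BT.node 3472 (BT.node 3468 (BT.node 3466 (BT.node 3465 (BT.leaf cE3465) (BT.leaf cE3466)) (BT.node 3467 (BT.leaf cE3467) (BT.leaf cE3468))) (BT.node 3470 (BT.node 3469 (BT.leaf cE3469) (BT.leaf cE3470)) (BT.node 3471 (BT.leaf cE3471) (BT.leaf cE3472)))) (BT.node 3476 (BT.node 3474 (BT.node 3473 (BT.leaf cE3473) (BT.leaf cE3474)) (BT.node 3475 (BT.leaf cE3475) (BT.leaf cE3476))) (BT.node 3478 (BT.node 3477 (BT.leaf cE3477) (BT.leaf cE3478)) (BT.node 3479 (BT.leaf cE3479) (BT.leaf cE3480))))) (BT.node 3488 (BT.node 3484 (BT.node 3482 (BT.node 3481 (BT.leaf cE3481) (BT.leaf cE3482)) (BT.node 3483 (BT.leaf cE3483) (BT.leaf cE3484))) (BT.node 3486 (BT.node 3485 (BT.leaf cE3485) (BT.leaf cE3486)) (BT.node 3487 (BT.leaf cE3487) (BT.leaf cE3488)))) (BT.node 3492 (BT.node 3490 (BT.node 3489 (BT.leaf cE3489) (BT.leaf cE3490)) (BT.node 3491 (BT.leaf cE3491) (BT.leaf cE3492))) (BT.node 3494 (BT.node 3493 (BT.leaf cE3493) (BT.leaf cE3494)) (BT.node 3495 (BT.leaf cE3495) (BT.leaf cE3496)))))) (BT.node 3512 (BT.node 3504 (BT.node 3500 (BT.node 3498 (BT.node 3497 (BT.leaf cE3497) (BT.leaf cE3498)) (BT.node 3499 (BT.leaf cE3499) (BT.leaf cE3500))) (BT.node 3502 (BT.node 3501 (BT.leaf cE3501) (BT.leaf cE3502)) (BT.node 3503 (BT.leaf cE3503) (BT.leaf cE3504)))) (BT.node 3508 (BT.node 3506 (BT.node 3505 (BT.leaf cE3505) (BT.leaf cE3506)) (BT.node 3507 (BT.leaf cE3507) (BT.leaf cE3508))) (BT.node 3510 (BT.node 3509 (BT.leaf cE3509) (BT.leaf cE3510)) (BT.node 3511 (BT.leaf cE3511) (BT.leaf cE3512))))) (BT.node 3520 (BT.node 3516 (BT.node 3514 (BT.node 3513 (BT.leaf cE3513) (BT.leaf cE3514)) (BT.node 3515 (BT.leaf cE3515) (BT.leaf cE3516))) (BT.node 3518 (BT.node 3517 (BT.leaf cE3517) (BT.leaf cE3518)) (BT.node 3519 (BT.leaf cE3519) (BT.leaf cE3520)))) (BT.node 3524 (BT.node 3522 (BT.node 3521 (BT.leaf cE3521) (BT.leaf cE3522)) (BT.node 3523 (BT.leaf cE3523) (BT.leaf cE3524))) (BT.node 3526 (BT.node 3525 (BT.leaf cE3525) (BT.leaf cE3526)) (BT.leaf cE3527))))))))) (BT.node 3779 (BT.node 3653 (BT.node 3590 (BT.node 3559 (BT.node 3543 (BT.node 3535 (BT.node 3531 (BT.node 3529 (BT.node 3528 (BT.leaf cE3528) (BT.leaf cE3529)) (BT.node 3530 (BT.leaf cE3530) (BT.leaf cE3531))) (BT.node 3533 (BT.node 3532 (BT.leaf cE3532) (BT.leaf cE3533)) (BT.node 3534 (BT.leaf cE3534) (BT.leaf cE3535)))) (BT.node 3539 (BT.node 3537 (BT.node 3536 (BT.leaf cE3536) (BT.leaf cE3537)) (BT.node 3538 (BT.leaf cE3538) (BT.leaf cE3539))) (BT.node 3541 (BT.node 3540 (BT.leaf cE3540) (BT.leaf cE3541)) (BT.node 3542 (BT.leaf cE3542) (BT.leaf cE3543))))) (BT.node 3551 (BT.node 3547 (BT.node 3545 (BT.node 3544 (BT.leaf cE3544) (BT.leaf cE3545)) (BT.node 3546 (BT.leaf cE3546) (BT.leaf cE3547))) (BT.node 3549 (BT.node 3548 (BT.leaf cE3548) (BT.leaf cE3549)) (BT.node 3550 (BT.leaf cE3550) (BT.leaf cE3551)))) (BT.node 3555 (BT.node 3553 (BT.node 3552 (BT.leaf cE3552) (BT.leaf cE3553)) (BT.node 3554 (BT.leaf cE3554) (BT.leaf cE3555))) (BT.node 3557 (BT.node 3556 (BT.leaf cE3556) (BT.leaf cE3557)) (BT.node 3558 (BT.leaf cE3558) (BT.leaf cE3559)))))) (BT.node 3575 (BT.node 3567 (BT.node 3563 (BT.node 3561 (BT.node 3560 (BT.leaf cE3560) (BT.leaf cE3561)) (BT.node 3562 (BT.leaf cE3562) (BT.leaf cE3563))) (BT.node 3565 (BT.node 3564 (BT.leaf cE3564) (BT.leaf cE3565)) (BT.node 3566 (BT.leaf cE3566) (BT.leaf cE3567)))) (BT.node 3571 (BT.node 3569 (BT.node 3568 (BT.leaf cE3568) (BT.leaf cE3569)) (BT.node 3570 (BT.leaf cE3570) (BT.leaf cE3571))) (BT.node 3573 (BT.node 3572 (BT.leaf cE3572) (BT.leaf cE3573)) (BT.node 3574 (BT.leaf cE3574) (BT.leaf cE3575))))) (BT.node 3583 (BT.node 3579 (BT.node 3577 (BT.node 3576 (BT.leaf cE3576) (BT.leaf cE3577)) (BT.node 3578 (BT.leaf cE3578) (BT.leaf cE3579))) (BT.node 3581 (BT.node 3580 (BT.leaf cE3580) (BT.leaf cE3581)) (BT.node 3582 (BT.leaf cE3582) (BT.leaf cE3583)))) (BT.node 3587 (BT.node 3585 (BT.node 3584 (BT.leaf cE3584) (BT.leaf cE3585)) (BT.node 3586 (BT.leaf cE3586) (BT.leaf cE3587))) (BT.node 3589 (BT.node 3588 (BT.leaf cE3588) (BT.leaf cE3589)) (BT.leaf cE3590)))))) (BT.node 3622 (BT.node 3606 (BT.node 3598 (BT.node 3594 (BT.node 3592 (BT.node 3591 (BT.leaf cE3591) (BT.leaf cE3592)) (BT.node 3593 (BT.leaf cE3593) (BT.leaf cE3594))) (BT.node 3596 (BT.node 3595 (BT.leaf cE3595) (BT.leaf cE3596)) (BT.node 3597 (BT.leaf cE3597) (BT.leaf cE3598)))) (BT.node 3602 (BT.node 3600 (BT.node 3599 (BT.leaf cE3599) (BT.leaf cE3600)) (BT.node 3601 (BT.leaf cE3601) (BT.leaf cE3602))) (BT.node 3604 (BT.node 3603 (BT.leaf cE3603) (BT.leaf cE3604)) (BT.node 3605 (BT.leaf cE3605) (BT.leaf cE3606))))) (BT.node 3614 (BT.node 3610 (BT.node 3608 (BT.node 3607 (BT.leaf cE3607) (BT.leaf cE3608)) (BT.node 3609 (BT.leaf cE3609) (BT.leaf cE3610))) (BT.node 3612 (BT.node 3611 (BT.leaf cE3611) (BT.leaf cE3612)) (BT.node 3613 (BT.leaf cE3613) (BT.leaf cE3614)))) (BT.node 3618 (BT.node 3616 (BT.node 3615 (BT.leaf cE3615) (BT.leaf cE3616)) (BT.node 3617 (BT.leaf cE3617) (BT.leaf cE3618))) (BT.node 3620 (BT.node 3619 (BT.leaf cE3619) (BT.leaf cE3620)) (BT.node 3621 (BT.leaf cE3621) (BT.leaf cE3622)))))) (BT.node 3638 (BT.node 3630 (BT.node 3626 (BT.node 3624 (BT.node 3623 (BT.leaf cE3623) (BT.leaf cE3624)) (BT.node 3625 (BT.leaf cE3625) (BT.leaf cE3626))) (BT.node 3628 (BT.node 3627 (BT.leaf cE3627) (BT.leaf cE3628)) (BT.node 3629 (BT.leaf cE3629) (BT.leaf cE3630)))) (BT.node 3634 (BT.node 3632 (BT.node 3631 (BT.leaf cE3631) (BT.leaf cE3632)) (BT.node 3633 (BT.leaf cE3633) (BT.leaf cE3634))) (BT.node 3636 (BT.node 3635 (BT.leaf cE3635) (BT.leaf cE3636)) (BT.node 3637 (BT.leaf cE3637) (BT.leaf cE3638))))) (BT.node 3646 (BT.node 3642 (BT.node 3640 (BT.node 3639 (BT.leaf cE3639) (BT.leaf cE3640)) (BT.node 3641 (BT.leaf cE3641) (BT.leaf cE3642))) (BT.node 3644 (BT.node 3643 (BT.leaf cE3643) (BT.leaf cE3644)) (BT.node 3645 (BT.leaf cE3645) (BT.leaf cE3646)))) (BT.node 3650 (BT.node 3648 (BT.node 3647 (BT.leaf cE3647) (BT.leaf cE3648)) (BT.node 3649 (BT.leaf cE3649) (BT.leaf cE3650))) (BT.node 3652 (BT.node 3651 (BT.leaf cE3651) (BT.leaf cE3652)) (BT.leaf cE3653))))))) (BT.node 3716 (BT.node 3685 (BT.node 3669 (BT.node 3661 (BT.node 3657 (BT.node 3655 (BT.node 3654 (BT.leaf cE3654) (BT.leaf cE3655)) (BT.node 3656 (BT.leaf cE3656) (BT.leaf cE3657))) (BT.node 3659 (BT.node 3658 (BT.leaf cE3658) (BT.leaf cE3659)) (BT.node 3660 (BT.leaf cE3660) (BT.leaf cE3661)))) (BT.node 3665 (BT.node 3663 (BT.node 3662 (BT.leaf cE3662) (BT.leaf cE3663)) (BT.node 3664 (BT.leaf cE3664) (BT.leaf cE3665))) (BT.node 3667 (BT.node 3666 (BT.leaf cE3666) (BT.leaf cE3667)) (BT.node 3668 (BT.leaf cE3668) (BT.leaf cE3669))))) (BT.node 3677 (BT.node 3673 (BT.node 3671 (BT.node 3670 (BT.leaf cE3670) (BT.leaf cE3671)) (BT.node 3672 (BT.leaf cE3672) (BT.leaf cE3673))) (BT.node 3675 (BT.node 3674 (BT.leaf cE3674) (BT.leaf cE3675)) (BT.node 3676 (BT.leaf cE3676) (BT.leaf cE3677)))) (BT.node 3681 (BT.node 3679 (BT.node 3678 (BT.leaf cE3678) (BT.leaf cE3679)) (BT.node 3680 (BT.leaf cE3680) (BT.leaf cE3681))) (BT.node 3683 (BT.node 3682 (BT.leaf cE3682) (BT.leaf cE3683)) (BT.node 3684 (BT.leaf cE3684) (BT.leaf cE3685)))))) (BT.node 3701 (BT.node 3693 (BT.node 3689 (BT.node 3687 (BT.node 3686 (BT.leaf cE3686) (BT.leaf cE3687)) (BT.node 3688 (BT.leaf cE3688) (BT.leaf cE3689))) (BT.node 3691 (BT.node 3690 (BT.leaf cE3690) (BT.leaf cE3691)) (BT.node 3692 (BT.leaf cE3692) (BT.leaf cE3693)))) (BT.node 3697 (BT.node 3695 (BT.node 3694 (BT.leaf cE3694) (BT.leaf cE3695)) (BT.node 3696 (BT.leaf cE3696) (BT.leaf cE3697))) (BT.node 3699 (BT.node 3698 (BT.leaf cE3698) (BT.leaf cE3699)) (BT.node 3700 (BT.leaf cE3700) (BT.leaf cE3701))))) (BT.node 3709 (BT.node 3705 (BT.node 3703 (BT.node 3702 (BT.leaf cE3702) (BT.leaf cE3703)) (BT.node 3704 (BT.leaf cE3704) (BT.leaf cE3705))) (BT.node 3707 (BT.node 3706 (BT.leaf cE3706) (BT.leaf cE3707)) (BT.node 3708 (BT.leaf cE3708) (BT.leaf cE3709)))) (BT.node 3713 (BT.node 3711 (BT.node 3710 (BT.leaf cE3710) (BT.leaf cE3711)) (BT.node 3712 (BT.leaf cE3712) (BT.leaf cE3713))) (BT.node 3715 (BT.node 3714 (BT.leaf cE3714) (BT.leaf cE3715)) (BT.leaf cE3716)))))) (BT.node 3748 (BT.node 3732 (BT.node 3724 (BT.node 3720 (BT.node 3718 (BT.node 3717 (BT.leaf cE3717) (BT.leaf cE3718)) (BT.node 3719 (BT.leaf cE3719) (BT.leaf cE3720))) (BT.node 3722 (BT.node 3721 (BT.leaf cE3721) (BT.leaf cE3722)) (BT.node 3723 (BT.leaf cE3723) (BT.leaf cE3724)))) (BT.node 3728 (BT.node 3726 (BT.node 3725 (BT.leaf cE3725) (BT.leaf cE3726)) (BT.node 3727 (BT.leaf cE3727) (BT.leaf cE3728))) (BT.node 3730 (BT.node 3729 (BT.leaf cE3729) (BT.leaf cE3730)) (BT.node 3731 (BT.leaf cE3731) (BT.leaf cE3732))))) (BT.node 3740 (BT.node 3736 (BT.node 3734 (BT.node 3733 (BT.leaf cE3733) (BT.leaf cE3734)) (BT.node 3735 (BT.leaf cE3735) (BT.leaf cE3736))) (BT.node 3738 (BT.node 3737 (BT.leaf cE3737) (BT.leaf cE3738)) (BT.node 3739 (BT.leaf cE3739) (BT.leaf cE3740)))) (BT.node 3744 (BT.node 3742 (BT.node 3741 (BT.leaf cE3741) (BT.leaf cE3742)) (BT.node 3743 (BT.leaf cE3743) (BT.leaf cE3744))) (BT.node 3746 (BT.node 3745 (BT.leaf cE3745) (BT.leaf cE3746)) (BT.node 3747 (BT.leaf cE3747) (BT.leaf cE3748)))))) (BT.node 3764 (BT.node 3756 (BT.node 3752 (BT.node 3750 (BT.node 3749 (BT.leaf cE3749) (BT.leaf cE3750)) (BT.node 3751 (BT.leaf cE3751) (BT.leaf cE3752))) (BT.node 3754 (BT.node 3753 (BT.leaf cE3753) (BT.leaf cE3754)) (BT.node 3755 (BT.leaf cE3755) (BT.leaf cE3756)))) (BT.node 3760 (BT.node 3758 (BT.node 3757 (BT.leaf cE3757) (BT.leaf cE3758)) (BT.node 3759 (BT.leaf cE3759) (BT.leaf cE3760))) (BT.node 3762 (BT.node 3761 (BT.leaf cE3761) (BT.leaf cE3762)) (BT.node 3763 (BT.leaf cE3763) (BT.leaf cE3764))))) (BT.node 3772 (BT.node 3768 (BT.node 3766 (BT.node 3765 (BT.leaf cE3765) (BT.leaf cE3766)) (BT.node 3767 (BT.leaf cE3767) (BT.leaf cE3768))) (BT.node 3770 (BT.node 3769 (BT.leaf cE3769) (BT.leaf cE3770)) (BT.node 3771 (BT.leaf cE3771) (BT.leaf cE3772)))) (BT.node 3776 (BT.node 3774 (BT.node 3773 (BT.leaf cE3773) (BT.leaf cE3774)) (BT.node 3775 (BT.leaf cE3775) (BT.leaf cE3776))) (BT.node 3778 (BT.node 3777 (BT.leaf cE3777) (BT.leaf cE3778)) (BT.leaf cE3779)))))))) (BT.node 3905 (BT.node 3842 (BT.node 3811 (BT.node 3795 (BT.node 3787 (BT.node 3783 (BT.node 3781 (BT.node 3780 (BT.leaf cE3780) (BT.leaf cE3781)) (BT.node 3782 (BT.leaf cE3782) (BT.leaf cE3783))) (BT.node 3785 (BT.node 3784 (BT.leaf cE3784) (BT.leaf cE3785)) (BT.node 3786 (BT.leaf cE3786) (BT.leaf cE3787)))) (BT.node 3791 (BT.node 3789 (BT.node 3788 (BT.leaf cE3788) (BT.leaf cE3789)) (BT.node 3790 (BT.leaf cE3790) (BT.leaf cE3791))) (BT.node 3793 (BT.node 3792 (BT.leaf cE3792) (BT.leaf cE3793)) (BT.node 3794 (BT.leaf cE3794) (BT.leaf cE3795))))) (BT.node 3803 (BT.node 3799 (BT.node 3797 (BT.node 3796 (BT.leaf cE3796) (BT.leaf cE3797)) (BT.node 3798 (BT.leaf cE3798) (BT.leaf cE3799))) (BT.node 3801 (BT.node 3800 (BT.leaf cE3800) (BT.leaf cE3801)) (BT.node 3802 (BT.leaf cE3802) (BT.leaf cE3803)))) (BT.node 3807 (BT.node 3805 (BT.node 3804 (BT.leaf cE3804) (BT.leaf cE3805)) (BT.node 3806 (BT.leaf cE3806) (BT.leaf cE3807))) (BT.node 3809 (BT.node 3808 (BT.leaf cE3808) (BT.leaf cE3809)) (BT.node 3810 (BT.leaf cE3810) (BT.leaf cE3811)))))) (BT.node 3827 (BT.node 3819 (BT.node 3815 (BT.node 3813 (BT.node 3812 (BT.leaf cE3812) (BT.leaf cE3813)) (BT.node 3814 (BT.leaf cE3814) (BT.leaf cE3815))) (BT.node 3817 (BT.node 3816 (BT.leaf cE3816) (BT.leaf cE3817)) (BT.node 3818 (BT.leaf cE3818) (BT.leaf cE3819)))) (BT.node 3823 (BT.node 3821 (BT.node 3820 (BT.leaf cE3820) (BT.leaf cE3821)) (BT.node 3822 (BT.leaf cE3822) (BT.leaf cE3823))) (BT.node 3825 (BT.node 3824 (BT.leaf cE3824) (BT.leaf cE3825)) (BT.node 3826 (BT.leaf cE3826) (BT.leaf cE3827))))) (BT.node 3835 (BT.node 3831 (BT.node 3829 (BT.node 3828 (BT.leaf cE3828) (BT.leaf cE3829)) (BT.node 3830 (BT.leaf cE3830) (BT.leaf cE3831))) (BT.node 3833 (BT.node 3832 (BT.leaf cE3832) (BT.leaf cE3833)) (BT.node 3834 (BT.leaf cE3834) (BT.leaf cE3835)))) (BT.node 3839 (BT.node 3837 (BT.node 3836 (BT.leaf cE3836) (BT.leaf cE3837)) (BT.node 3838 (BT.leaf cE3838) (BT.leaf cE3839))) (BT.node 3841 (BT.node 3840 (BT.leaf cE3840) (BT.leaf cE3841)) (BT.leaf cE3842)))))) (BT.node 3874 (BT.node 3858 (BT.node 3850 (BT.node 3846 (BT.node 3844 (BT.node 3843 (BT.leaf cE3843) (BT.leaf cE3844)) (BT.node 3845 (BT.leaf cE3845) (BT.leaf cE3846))) (BT.node 3848 (BT.node 3847 (BT.leaf cE3847) (BT.leaf cE3848)) (BT.node 3849 (BT.leaf cE3849) (BT.leaf cE3850)))) (BT.node 3854 (BT.node 3852 (BT.node 3851 (BT.leaf cE3851) (BT.leaf cE3852)) (BT.node 3853 (BT.leaf cE3853) (BT.leaf cE3854))) (BT.node 3856 (BT.node 3855 (BT.leaf cE3855) (BT.leaf cE3856)) (BT.node 3857 (BT.leaf cE3857) (BT.leaf cE3858))))) (BT.node 3866 (BT.node 3862 (BT.node 3860 (BT.node 3859 (BT.leaf cE3859) (BT.leaf cE3860)) (BT.node 3861 (BT.leaf cE3861) (BT.leaf cE3862))) (BT.node 3864 (BT.node 3863 (BT.leaf cE3863) (BT.leaf cE3864)) (BT.node 3865 (BT.leaf cE3865) (BT.leaf cE3866)))) (BT.node 3870 (BT.node 3868 (BT.node 3867 (BT.leaf cE3867) (BT.leaf cE3868)) (BT.node 3869 (BT.leaf cE3869) (BT.leaf cE3870))) (BT.node 3872 (BT.node 3871 (BT.leaf cE3871) (BT.leaf cE3872)) (BT.node 3873 (BT.leaf cE3873) (BT.leaf cE3874)))))) (BT.node 3890 (BT.node 3882 (BT.node 3878 (BT.node 3876 (BT.node 3875 (BT.leaf cE3875) (BT.leaf cE3876)) (BT.node 3877 (BT.leaf cE3877) (BT.leaf cE3878))) (BT.node 3880 (BT.node 3879 (BT.leaf cE3879) (BT.leaf cE3880)) (BT.node 3881 (BT.leaf cE3881) (BT.leaf cE3882)))) (BT.node 3886 (BT.node 3884 (BT.node 3883 (BT.leaf cE3883) (BT.leaf cE3884)) (BT.node 3885 (BT.leaf cE3885) (BT.leaf cE3886))) (BT.node 3888 (BT.node 3887 (BT.leaf cE3887) (BT.leaf cE3888)) (BT.node 3889 (BT.leaf cE3889) (BT.leaf cE3890))))) (BT.node 3898 (BT.node 3894 (BT.node 3892 (BT.node 3891 (BT.leaf cE3891) (BT.leaf cE3892)) (BT.node 3893 (BT.leaf cE3893) (BT.leaf cE3894))) (BT.node 3896 (BT.node 3895 (BT.leaf cE3895) (BT.leaf cE3896)) (BT.node 3897 (BT.leaf cE3897) (BT.leaf cE3898)))) (BT.node 3902 (BT.node 3900 (BT.node 3899 (BT.leaf cE3899) (BT.leaf cE3900)) (BT.node 3901 (BT.leaf cE3901) (BT.leaf cE3902))) (BT.node 3904 (BT.node 3903 (BT.leaf cE3903) (BT.leaf cE3904)) (BT.leaf cE3905))))))) (BT.node 3968 (BT.node 3937 (BT.node 3921 (BT.node 3913 (BT.node 3909 (BT.node 3907 (BT.node 3906 (BT.leaf cE3906) (BT.leaf cE3907)) (BT.node 3908 (BT.leaf cE3908) (BT.leaf cE3909))) (BT.node 3911 (BT.node 3910 (BT.leaf cE3910) (BT.leaf cE3911)) (BT.node 3912 (BT.leaf cE3912) (BT.leaf cE3913)))) (BT.node 3917 (BT.node 3915 (BT.node 3914 (BT.leaf cE3914) (BT.leaf cE3915)) (BT.node 3916 (BT.leaf cE3916) (BT.leaf cE3917))) (BT.node 3919 (BT.node 3918 (BT.leaf cE3918) (BT.leaf cE3919)) (BT.node 3920 (BT.leaf cE3920) (BT.leaf cE3921))))) (BT.node 3929 (BT.node 3925 (BT.node 3923 (BT.node 3922 (BT.leaf cE3922) (BT.leaf cE3923)) (BT.node 3924 (BT.leaf cE3924) (BT.leaf cE3925))) (BT.node 3927 (BT.node 3926 (BT.leaf cE3926) (BT.leaf cE3927)) (BT.node 3928 (BT.leaf cE3928) (BT.leaf cE3929)))) (BT.node 3933 (BT.node 3931 (BT.node 3930 (BT.leaf cE3930) (BT.leaf cE3931)) (BT.node 3932 (BT.leaf cE3932) (BT.leaf cE3933))) (BT.node 3935 (BT.node 3934 (BT.leaf cE3934) (BT.leaf cE3935)) (BT.node 3936 (BT.leaf cE3936) (BT.leaf cE3937)))))) (BT.node 3953 (BT.node 3945 (BT.node 3941 (BT.node 3939 (BT.node 3938 (BT.leaf cE3938) (BT.leaf cE3939)) (BT.node 3940 (BT.leaf cE3940) (BT.leaf cE3941))) (BT.node 3943 (BT.node 3942 (BT.leaf cE3942) (BT.leaf cE3943)) (BT.node 3944 (BT.leaf cE3944) (BT.leaf cE3945)))) (BT.node 3949 (BT.node 3947 (BT.node 3946 (BT.leaf cE3946) (BT.leaf cE3947)) (BT.node 3948 (BT.leaf cE3948) (BT.leaf cE3949))) (BT.node 3951 (BT.node 3950 (BT.leaf cE3950) (BT.leaf cE3951)) (BT.node 3952 (BT.leaf cE3952) (BT.leaf cE3953))))) (BT.node 3961 (BT.node 3957 (BT.node 3955 (BT.node 3954 (BT.leaf cE3954) (BT.leaf cE3955)) (BT.node 3956 (BT.leaf cE3956) (BT.leaf cE3957))) (BT.node 3959 (BT.node 3958 (BT.leaf cE3958) (BT.leaf cE3959)) (BT.node 3960 (BT.leaf cE3960) (BT.leaf cE3961)))) (BT.node 3965 (BT.node 3963 (BT.node 3962 (BT.leaf cE3962) (BT.leaf cE3963)) (BT.node 3964 (BT.leaf cE3964) (BT.leaf cE3965))) (BT.node 3967 (BT.node 3966 (BT.leaf cE3966) (BT.leaf cE3967)) (BT.leaf cE3968)))))) (BT.node 4000 (BT.node 3984 (BT.node 3976 (BT.node 3972 (BT.node 3970 (BT.node 3969 (BT.leaf cE3969) (BT.leaf cE3970)) (BT.node 3971 (BT.leaf cE3971) (BT.leaf cE3972))) (BT.node 3974 (BT.node 3973 (BT.leaf cE3973) (BT.leaf cE3974)) (BT.node 3975 (BT.leaf cE3975) (BT.leaf cE3976)))) (BT.node 3980 (BT.node 3978 (BT.node 3977 (BT.leaf cE3977) (BT.leaf cE3978)) (BT.node 3979 (BT.leaf cE3979) (BT.leaf cE3980))) (BT.node 3982 (BT.node 3981 (BT.leaf cE3981) (BT.leaf cE3982)) (BT.node 3983 (BT.leaf cE3983) (BT.leaf cE3984))))) (BT.node 3992 (BT.node 3988 (BT.node 3986 (BT.node 3985 (BT.leaf cE3985) (BT.leaf cE3986)) (BT.node 3987 (BT.leaf cE3987) (BT.leaf cE3988))) (BT.node 3990 (BT.node 3989 (BT.leaf cE3989) (BT.leaf cE3990)) (BT.node 3991 (BT.leaf cE3991) (BT.leaf cE3992)))) (BT.node 3996 (BT.node 3994 (BT.node 3993 (BT.leaf cE3993) (BT.leaf cE3994)) (BT.node 3995 (BT.leaf cE3995) (BT.leaf cE3996))) (BT.node 3998 (BT.node 3997 (BT.leaf cE3997) (BT.leaf cE3998)) (BT.node 3999 (BT.leaf cE3999) (BT.leaf cE4000)))))) (BT.node 4016 (BT.node 4008 (BT.node 4004 (BT.node 4002 (BT.node 4001 (BT.leaf cE4001) (BT.leaf cE4002)) (BT.node 4003 (BT.leaf cE4003) (BT.leaf cE4004))) (BT.node 4006 (BT.node 4005 (BT.leaf cE4005) (BT.leaf cE4006)) (BT.node 4007 (BT.leaf cE4007) (BT.leaf cE4008)))) (BT.node 4012 (BT.node 4010 (BT.node 4009 (BT.leaf cE4009) (BT.leaf cE4010)) (BT.node 4011 (BT.leaf cE4011) (BT.leaf cE4012))) (BT.node 4014 (BT.node 4013 (BT.leaf cE4013) (BT.leaf cE4014)) (BT.node 4015 (BT.leaf cE4015) (BT.leaf cE4016))))) (BT.node 4024 (BT.node 4020 (BT.node 4018 (BT.node 4017 (BT.leaf cE4017) (BT.leaf cE4018)) (BT.node 4019 (BT.leaf cE4019) (BT.leaf cE4020))) (BT.node 4022 (BT.node 4021 (BT.leaf cE4021) (BT.leaf cE4022)) (BT.node 4023 (BT.leaf cE4023) (BT.leaf cE4024)))) (BT.node 4028 (BT.node 4026 (BT.node 4025 (BT.leaf cE4025) (BT.leaf cE4026)) (BT.node 4027 (BT.leaf cE4027) (BT.leaf cE4028))) (BT.node 4030 (BT.node 4029 (BT.leaf cE4029) (BT.leaf cE4030)) (BT.leaf cE4031))))))))))))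
/-- justification chunks -/
def colJT : BT ℕ := (BT.node 2015 (BT.node 1007 (BT.node 503 (BT.node 251 (BT.node 125 (BT.node 62 (BT.node 31 (BT.node 15 (BT.node 7 (BT.node 3 (BT.node 1 (BT.node 0 (BT.leaf cJ0) (BT.leaf cJ1)) (BT.node 2 (BT.leaf cJ2) (BT.leaf cJ3))) (BT.node 5 (BT.node 4 (BT.leaf cJ4) (BT.leaf cJ5)) (BT.node 6 (BT.leaf cJ6) (BT.leaf cJ7)))) (BT.node 11 (BT.node 9 (BT.node 8 (BT.leaf cJ8) (BT.leaf cJ9)) (BT.node 10 (BT.leaf cJ10) (BT.leaf cJ11))) (BT.node 13 (BT.node 12 (BT.leaf cJ12) (BT.leaf cJ13)) (BT.node 14 (BT.leaf cJ14) (BT.leaf cJ15))))) (BT.node 23 (BT.node 19 (BT.node 17 (BT.node 16 (BT.leaf cJ16) (BT.leaf cJ17)) (BT.node 18 (BT.leaf cJ18) (BT.leaf cJ19))) (BT.node 21 (BT.node 20 (BT.leaf cJ20) (BT.leaf cJ21)) (BT.node 22 (BT.leaf cJ22) (BT.leaf cJ23)))) (BT.node 27 (BT.node 25 (BT.node 24 (BT.leaf cJ24) (BT.leaf cJ25)) (BT.node 26 (BT.leaf cJ26) (BT.leaf cJ27))) (BT.node 29 (BT.node 28 (BT.leaf cJ28) (BT.leaf cJ29)) (BT.node 30 (BT.leaf cJ30) (BT.leaf cJ31)))))) (BT.node 47 (BT.node 39 (BT.node 35 (BT.node 33 (BT.node 32 (BT.leaf cJ32) (BT.leaf cJ33)) (BT.node 34 (BT.leaf cJ34) (BT.leaf cJ35))) (BT.node 37 (BT.node 36 (BT.leaf cJ36) (BT.leaf cJ37)) (BT.node 38 (BT.leaf cJ38) (BT.leaf cJ39)))) (BT.node 43 (BT.node 41 (BT.node 40 (BT.leaf cJ40) (BT.leaf cJ41)) (BT.node 42 (BT.leaf cJ42) (BT.leaf cJ43))) (BT.node 45 (BT.node 44 (BT.leaf cJ44) (BT.leaf cJ45)) (BT.node 46 (BT.leaf cJ46) (BT.leaf cJ47))))) (BT.node 55 (BT.node 51 (BT.node 49 (BT.node 48 (BT.leaf cJ48) (BT.leaf cJ49)) (BT.node 50 (BT.leaf cJ50) (BT.leaf cJ51))) (BT.node 53 (BT.node 52 (BT.leaf cJ52) (BT.leaf cJ53)) (BT.node 54 (BT.leaf cJ54) (BT.leaf cJ55)))) (BT.node 59 (BT.node 57 (BT.node 56 (BT.leaf cJ56) (BT.leaf cJ57)) (BT.node 58 (BT.leaf cJ58) (BT.leaf cJ59))) (BT.node 61 (BT.node 60 (BT.leaf cJ60) (BT.leaf cJ61)) (BT.leaf cJ62)))))) (BT.node 94 (BT.node 78 (BT.node 70 (BT.node 66 (BT.node 64 (BT.node 63 (BT.leaf cJ63) (BT.leaf cJ64)) (BT.node 65 (BT.leaf cJ65) (BT.leaf cJ66))) (BT.node 68 (BT.node 67 (BT.leaf cJ67) (BT.leaf cJ68)) (BT.node 69 (BT.leaf cJ69) (BT.leaf cJ70)))) (BT.node 74 (BT.node 72 (BT.node 71 (BT.leaf cJ71) (BT.leaf cJ72)) (BT.node 73 (BT.leaf cJ73) (BT.leaf cJ74))) (BT.node 76 (BT.node 75 (BT.leaf cJ75) (BT.leaf cJ76)) (BT.node 77 (BT.leaf cJ77) (BT.leaf cJ78))))) (BT.node 86 (BT.node 82 (BT.node 80 (BT.node 79 (BT.leaf cJ79) (BT.leaf cJ80)) (BT.node 81 (BT.leaf cJ81) (BT.leaf cJ82))) (BT.node 84 (BT.node 83 (BT.leaf cJ83) (BT.leaf cJ84)) (BT.node 85 (BT.leaf cJ85) (BT.leaf cJ86)))) (BT.node 90 (BT.node 88 (BT.node 87 (BT.leaf cJ87) (BT.leaf cJ88)) (BT.node 89 (BT.leaf cJ89) (BT.leaf cJ90))) (BT.node 92 (BT.node 91 (BT.leaf cJ91) (BT.leaf cJ92)) (BT.node 93 (BT.leaf cJ93) (BT.leaf cJ94)))))) (BT.node 110 (BT.node 102 (BT.node 98 (BT.node 96 (BT.node 95 (BT.leaf cJ95) (BT.leaf cJ96)) (BT.node 97 (BT.leaf cJ97) (BT.leaf cJ98))) (BT.node 100 (BT.node 99 (BT.leaf cJ99) (BT.leaf cJ100)) (BT.node 101 (BT.leaf cJ101) (BT.leaf cJ102)))) (BT.node 106 (BT.node 104 (BT.node 103 (BT.leaf cJ103) (BT.leaf cJ104)) (BT.node 105 (BT.leaf cJ105) (BT.leaf cJ106))) (BT.node 108 (BT.node 107 (BT.leaf cJ107) (BT.leaf cJ108)) (BT.node 109 (BT.leaf cJ109) (BT.leaf cJ110))))) (BT.node 118 (BT.node 114 (BT.node 112 (BT.node 111 (BT.leaf cJ111) (BT.leaf cJ112)) (BT.node 113 (BT.leaf cJ113) (BT.leaf cJ114))) (BT.node 116 (BT.node 115 (BT.leaf cJ115) (BT.leaf cJ116)) (BT.node 117 (BT.leaf cJ117) (BT.leaf cJ118)))) (BT.node 122 (BT.node 120 (BT.node 119 (BT.leaf cJ119) (BT.leaf cJ120)) (BT.node 121 (BT.leaf cJ121) (BT.leaf cJ122))) (BT.node 124 (BT.node 123 (BT.leaf cJ123) (BT.leaf cJ124)) (BT.leaf cJ125))))))) (BT.node 188 (BT.node 157 (BT.node 141 (BT.node 133 (BT.node 129 (BT.node 127 (BT.node 126 (BT.leaf cJ126) (BT.leaf cJ127)) (BT.node 128 (BT.leaf cJ128) (BT.leaf cJ129))) (BT.node 131 (BT.node 130 (BT.leaf cJ130) (BT.leaf cJ131)) (BT.node 132 (BT.leaf cJ132) (BT.leaf cJ133)))) (BT.node 137 (BT.node 135 (BT.node 134 (BT.leaf cJ134) (BT.leaf cJ135)) (BT.node 136 (BT.leaf cJ136) (BT.leaf cJ137))) (BT.node 139 (BT.node 138 (BT.leaf cJ138) (BT.leaf cJ139)) (BT.node 140 (BT.leaf cJ140) (BT.leaf cJ141))))) (BT.node 149 (BT.node 145 (BT.node 143 (BT.node 142 (BT.leaf cJ142) (BT.leaf cJ143)) (BT.node 144 (BT.leaf cJ144) (BT.leaf cJ145))) (BT.node 147 (BT.node 146 (BT.leaf cJ146) (BT.leaf cJ147)) (BT.node 148 (BT.leaf cJ148) (BT.leaf cJ149)))) (BT.node 153 (BT.node 151 (BT.node 150 (BT.leaf cJ150) (BT.leaf cJ151)) (BT.node 152 (BT.leaf cJ152) (BT.leaf cJ153))) (BT.node 155 (BT.node 154 (BT.leaf cJ154) (BT.leaf cJ155)) (BT.node 156 (BT.leaf cJ156) (BT.leaf cJ157)))))) (BT.node 173 (BT.node 165 (BT.node 161 (BT.node 159 (BT.node 158 (BT.leaf cJ158) (BT.leaf cJ159)) (BT.node 160 (BT.leaf cJ160) (BT.leaf cJ161))) (BT.node 163 (BT.node 162 (BT.leaf cJ162) (BT.leaf cJ163)) (BT.node 164 (BT.leaf cJ164) (BT.leaf cJ165)))) (BT.node 169 (BT.node 167 (BT.node 166 (BT.leaf cJ166) (BT.leaf cJ167)) (BT.node 168 (BT.leaf cJ168) (BT.leaf cJ169))) (BT.node 171 (BT.node 170 (BT.leaf cJ170) (BT.leaf cJ171)) (BT.node 172 (BT.leaf cJ172) (BT.leaf cJ173))))) (BT.node 181 (BT.node 177 (BT.node 175 (BT.node 174 (BT.leaf cJ174) (BT.leaf cJ175)) (BT.node 176 (BT.leaf cJ176) (BT.leaf cJ177))) (BT.node 179 (BT.node 178 (BT.leaf cJ178) (BT.leaf cJ179)) (BT.node 180 (BT.leaf cJ180) (BT.leaf cJ181)))) (BT.node 185 (BT.node 183 (BT.node 182 (BT.leaf cJ182) (BT.leaf cJ183)) (BT.node 184 (BT.leaf cJ184) (BT.leaf cJ185))) (BT.node 187 (BT.node 186 (BT.leaf cJ186) (BT.leaf cJ187)) (BT.leaf cJ188)))))) (BT.node 220 (BT.node 204 (BT.node 196 (BT.node 192 (BT.node 190 (BT.node 189 (BT.leaf cJ189) (BT.leaf cJ190)) (BT.node 191 (BT.leaf cJ191) (BT.leaf cJ192))) (BT.node 194 (BT.node 193 (BT.leaf cJ193) (BT.leaf cJ194)) (BT.node 195 (BT.leaf cJ195) (BT.leaf cJ196)))) (BT.node 200 (BT.node 198 (BT.node 197 (BT.leaf cJ197) (BT.leaf cJ198)) (BT.node 199 (BT.leaf cJ199) (BT.leaf cJ200))) (BT.node 202 (BT.node 201 (BT.leaf cJ201) (BT.leaf cJ202)) (BT.node 203 (BT.leaf cJ203) (BT.leaf cJ204))))) (BT.node 212 (BT.node 208 (BT.node 206 (BT.node 205 (BT.leaf cJ205) (BT.leaf cJ206)) (BT.node 207 (BT.leaf cJ207) (BT.leaf cJ208))) (BT.node 210 (BT.node 209 (BT.leaf cJ209) (BT.leaf cJ210)) (BT.node 211 (BT.leaf cJ211) (BT.leaf cJ212)))) (BT.node 216 (BT.node 214 (BT.node 213 (BT.leaf cJ213) (BT.leaf cJ214)) (BT.node 215 (BT.leaf cJ215) (BT.leaf cJ216))) (BT.node 218 (BT.node 217 (BT.leaf cJ217) (BT.leaf cJ218)) (BT.node 219 (BT.leaf cJ219) (BT.leaf cJ220)))))) (BT.node 236 (BT.node 228 (BT.node 224 (BT.node 222 (BT.node 221 (BT.leaf cJ221) (BT.leaf cJ222)) (BT.node 223 (BT.leaf cJ223) (BT.leaf cJ224))) (BT.node 226 (BT.node 225 (BT.leaf cJ225) (BT.leaf cJ226)) (BT.node 227 (BT.leaf cJ227) (BT.leaf cJ228)))) (BT.node 232 (BT.node 230 (BT.node 229 (BT.leaf cJ229) (BT.leaf cJ230)) (BT.node 231 (BT.leaf cJ231) (BT.leaf cJ232))) (BT.node 234 (BT.node 233 (BT.leaf cJ233) (BT.leaf cJ234)) (BT.node 235 (BT.leaf cJ235) (BT.leaf cJ236))))) (BT.node 244 (BT.node 240 (BT.node 238 (BT.node 237 (BT.leaf cJ237) (BT.leaf cJ238)) (BT.node 239 (BT.leaf cJ239) (BT.leaf cJ240))) (BT.node 242 (BT.node 241 (BT.leaf cJ241) (BT.leaf cJ242)) (BT.node 243 (BT.leaf cJ243) (BT.leaf cJ244)))) (BT.node 248 (BT.node 246 (BT.node 245 (BT.leaf cJ245) (BT.leaf cJ246)) (BT.node 247 (BT.leaf cJ247) (BT.leaf cJ248))) (BT.node 250 (BT.node 249 (BT.leaf cJ249) (BT.leaf cJ250)) (BT.leaf cJ251)))))))) (BT.node 377 (BT.node 314 (BT.node 283 (BT.node 267 (BT.node 259 (BT.node 255 (BT.node 253 (BT.node 252 (BT.leaf cJ252) (BT.leaf cJ253)) (BT.node 254 (BT.leaf cJ254) (BT.leaf cJ255))) (BT.node 257 (BT.node 256 (BT.leaf cJ256) (BT.leaf cJ257)) (BT.node 258 (BT.leaf cJ258) (BT.leaf cJ259)))) (BT.node 263 (BT.node 261 (BT.node 260 (BT.leaf cJ260) (BT.leaf cJ261)) (BT.node 262 (BT.leaf cJ262) (BT.leaf cJ263))) (BT.node 265 (BT.node 264 (BT.leaf cJ264) (BT.leaf cJ265)) (BT.node 266 (BT.leaf cJ266) (BT.leaf cJ267))))) (BT.node 275 (BT.node 271 (BT.node 269 (BT.node 268 (BT.leaf cJ268) (BT.leaf cJ269)) (BT.node 270 (BT.leaf cJ270) (BT.leaf cJ271))) (BT.node 273 (BT.node 272 (BT.leaf cJ272) (BT.leaf cJ273)) (BT.node 274 (BT.leaf cJ274) (BT.leaf cJ275)))) (BT.node 279 (BT.node 277 (BT.node 276 (BT.leaf cJ276) (BT.leaf cJ277)) (BT.node 278 (BT.leaf cJ278) (BT.leaf cJ279))) (BT.node 281 (BT.node 280 (BT.leaf cJ280) (BT.leaf cJ281)) (BT.node 282 (BT.leaf cJ282) (BT.leaf cJ283)))))) (BT.node 299 (BT.node 291 (BT.node 287 (BT.node 285 (BT.node 284 (BT.leaf cJ284) (BT.leaf cJ285)) (BT.node 286 (BT.leaf cJ286) (BT.leaf cJ287))) (BT.node 289 (BT.node 288 (BT.leaf cJ288) (BT.leaf cJ289)) (BT.node 290 (BT.leaf cJ290) (BT.leaf cJ291)))) (BT.node 295 (BT.node 293 (BT.node 292 (BT.leaf cJ292) (BT.leaf cJ293)) (BT.node 294 (BT.leaf cJ294) (BT.leaf cJ295))) (BT.node 297 (BT.node 296 (BT.leaf cJ296) (BT.leaf cJ297)) (BT.node 298 (BT.leaf cJ298) (BT.leaf cJ299))))) (BT.node 307 (BT.node 303 (BT.node 301 (BT.node 300 (BT.leaf cJ300) (BT.leaf cJ301)) (BT.node 302 (BT.leaf cJ302) (BT.leaf cJ303))) (BT.node 305 (BT.node 304 (BT.leaf cJ304) (BT.leaf cJ305)) (BT.node 306 (BT.leaf cJ306) (BT.leaf cJ307)))) (BT.node 311 (BT.node 309 (BT.node 308 (BT.leaf cJ308) (BT.leaf cJ309)) (BT.node 310 (BT.leaf cJ310) (BT.leaf cJ311))) (BT.node 313 (BT.node 312 (BT.leaf cJ312) (BT.leaf cJ313)) (BT.leaf cJ314)))))) (BT.node 346 (BT.node 330 (BT.node 322 (BT.node 318 (BT.node 316 (BT.node 315 (BT.leaf cJ315) (BT.leaf cJ316)) (BT.node 317 (BT.leaf cJ317) (BT.leaf cJ318))) (BT.node 320 (BT.node 319 (BT.leaf cJ319) (BT.leaf cJ320)) (BT.node 321 (BT.leaf cJ321) (BT.leaf cJ322)))) (BT.node 326 (BT.node 324 (BT.node 323 (BT.leaf cJ323) (BT.leaf cJ324)) (BT.node 325 (BT.leaf cJ325) (BT.leaf cJ326))) (BT.node 328 (BT.node 327 (BT.leaf cJ327) (BT.leaf cJ328)) (BT.node 329 (BT.leaf cJ329) (BT.leaf cJ330))))) (BT.node 338 (BT.node 334 (BT.node 332 (BT.node 331 (BT.leaf cJ331) (BT.leaf cJ332)) (BT.node 333 (BT.leaf cJ333) (BT.leaf cJ334))) (BT.node 336 (BT.node 335 (BT.leaf cJ335) (BT.leaf cJ336)) (BT.node 337 (BT.leaf cJ337) (BT.leaf cJ338)))) (BT.node 342 (BT.node 340 (BT.node 339 (BT.leaf cJ339) (BT.leaf cJ340)) (BT.node 341 (BT.leaf cJ341) (BT.leaf cJ342))) (BT.node 344 (BT.node 343 (BT.leaf cJ343) (BT.leaf cJ344)) (BT.node 345 (BT.leaf cJ345) (BT.leaf cJ346)))))) (BT.node 362 (BT.node 354 (BT.node 350 (BT.node 348 (BT.node 347 (BT.leaf cJ347) (BT.leaf cJ348)) (BT.node 349 (BT.leaf cJ349) (BT.leaf cJ350))) (BT.node 352 (BT.node 351 (BT.leaf cJ351) (BT.leaf cJ352)) (BT.node 353 (BT.leaf cJ353) (BT.leaf cJ354)))) (BT.node 358 (BT.node 356 (BT.node 355 (BT.leaf cJ355) (BT.leaf cJ356)) (BT.node 357 (BT.leaf cJ357) (BT.leaf cJ358))) (BT.node 360 (BT.node 359 (BT.leaf cJ359) (BT.leaf cJ360)) (BT.node 361 (BT.leaf cJ361) (BT.leaf cJ362))))) (BT.node 370 (BT.node 366 (BT.node 364 (BT.node 363 (BT.leaf cJ363) (BT.leaf cJ364)) (BT.node 365 (BT.leaf cJ365) (BT.leaf cJ366))) (BT.node 368 (BT.node 367 (BT.leaf cJ367) (BT.leaf cJ368)) (BT.node 369 (BT.leaf cJ369) (BT.leaf cJ370)))) (BT.node 374 (BT.node 372 (BT.node 371 (BT.leaf cJ371) (BT.leaf cJ372)) (BT.node 373 (BT.leaf cJ373) (BT.leaf cJ374))) (BT.node 376 (BT.node 375 (BT.leaf cJ375) (BT.leaf cJ376)) (BT.leaf cJ377))))))) (BT.node 440 (BT.node 409 (BT.node 393 (BT.node 385 (BT.node 381 (BT.node 379 (BT.node 378 (BT.leaf cJ378) (BT.leaf cJ379)) (BT.node 380 (BT.leaf cJ380) (BT.leaf cJ381))) (BT.node 383 (BT.node 382 (BT.leaf cJ382) (BT.leaf cJ383)) (BT.node 384 (BT.leaf cJ384) (BT.leaf cJ385)))) (BT.node 389 (BT.node 387 (BT.node 386 (BT.leaf cJ386) (BT.leaf cJ387)) (BT.node 388 (BT.leaf cJ388) (BT.leaf cJ389))) (BT.node 391 (BT.node 390 (BT.leaf cJ390) (BT.leaf cJ391)) (BT.node 392 (BT.leaf cJ392) (BT.leaf cJ393))))) (BT.node 401 (BT.node 397 (BT.node 395 (BT.node 394 (BT.leaf cJ394) (BT.leaf cJ395)) (BT.node 396 (BT.leaf cJ396) (BT.leaf cJ397))) (BT.node 399 (BT.node 398 (BT.leaf cJ398) (BT.leaf cJ399)) (BT.node 400 (BT.leaf cJ400) (BT.leaf cJ401)))) (BT.node 405 (BT.node 403 (BT.node 402 (BT.leaf cJ402) (BT.leaf cJ403)) (BT.node 404 (BT.leaf cJ404) (BT.leaf cJ405))) (BT.node 407 (BT.node 406 (BT.leaf cJ406) (BT.leaf cJ407)) (BT.node 408 (BT.leaf cJ408) (BT.leaf cJ409)))))) (BT.node 425 (BT.node 417 (BT.node 413 (BT.node 411 (BT.node 410 (BT.leaf cJ410) (BT.leaf cJ411)) (BT.node 412 (BT.leaf cJ412) (BT.leaf cJ413))) (BT.node 415 (BT.node 414 (BT.leaf cJ414) (BT.leaf cJ415)) (BT.node 416 (BT.leaf cJ416) (BT.leaf cJ417)))) (BT.node 421 (BT.node 419 (BT.node 418 (BT.leaf cJ418) (BT.leaf cJ419)) (BT.node 420 (BT.leaf cJ420) (BT.leaf cJ421))) (BT.node 423 (BT.node 422 (BT.leaf cJ422) (BT.leaf cJ423)) (BT.node 424 (BT.leaf cJ424) (BT.leaf cJ425))))) (BT.node 433 (BT.node 429 (BT.node 427 (BT.node 426 (BT.leaf cJ426) (BT.leaf cJ427)) (BT.node 428 (BT.leaf cJ428) (BT.leaf cJ429))) (BT.node 431 (BT.node 430 (BT.leaf cJ430) (BT.leaf cJ431)) (BT.node 432 (BT.leaf cJ432) (BT.leaf cJ433)))) (BT.node 437 (BT.node 435 (BT.node 434 (BT.leaf cJ434) (BT.leaf cJ435)) (BT.node 436 (BT.leaf cJ436) (BT.leaf cJ437))) (BT.node 439 (BT.node 438 (BT.leaf cJ438) (BT.leaf cJ439)) (BT.leaf cJ440)))))) (BT.node 472 (BT.node 456 (BT.node 448 (BT.node 444 (BT.node 442 (BT.node 441 (BT.leaf cJ441) (BT.leaf cJ442)) (BT.node 443 (BT.leaf cJ443) (BT.leaf cJ444))) (BT.node 446 (BT.node 445 (BT.leaf cJ445) (BT.leaf cJ446)) (BT.node 447 (BT.leaf cJ447) (BT.leaf cJ448)))) (BT.node 452 (BT.node 450 (BT.node 449 (BT.leaf cJ449) (BT.leaf cJ450)) (BT.node 451 (BT.leaf cJ451) (BT.leaf cJ452))) (BT.node 454 (BT.node 453 (BT.leaf cJ453) (BT.leaf cJ454)) (BT.node 455 (BT.leaf cJ455) (BT.leaf cJ456))))) (BT.node 464 (BT.node 460 (BT.node 458 (BT.node 457 (BT.leaf cJ457) (BT.leaf cJ458)) (BT.node 459 (BT.leaf cJ459) (BT.leaf cJ460))) (BT.node 462 (BT.node 461 (BT.leaf cJ461) (BT.leaf cJ462)) (BT.node 463 (BT.leaf cJ463) (BT.leaf cJ464)))) (BT.node 468 (BT.node 466 (BT.node 465 (BT.leaf cJ465) (BT.leaf cJ466)) (BT.node 467 (BT.leaf cJ467) (BT.leaf cJ468))) (BT.node 470 (BT.node 469 (BT.leaf cJ469) (BT.leaf cJ470)) (BT.node 471 (BT.leaf cJ471) (BT.leaf cJ472)))))) (BT.node 488 (BT.node 480 (BT.node 476 (BT.node 474 (BT.node 473 (BT.leaf cJ473) (BT.leaf cJ474)) (BT.node 475 (BT.leaf cJ475) (BT.leaf cJ476))) (BT.node 478 (BT.node 477 (BT.leaf cJ477) (BT.leaf cJ478)) (BT.node 479 (BT.leaf cJ479) (BT.leaf cJ480)))) (BT.node 484 (BT.node 482 (BT.node 481 (BT.leaf cJ481) (BT.leaf cJ482)) (BT.node 483 (BT.leaf cJ483) (BT.leaf cJ484))) (BT.node 486 (BT.node 485 (BT.leaf cJ485) (BT.leaf cJ486)) (BT.node 487 (BT.leaf cJ487) (BT.leaf cJ488))))) (BT.node 496 (BT.node 492 (BT.node 490 (BT.node 489 (BT.leaf cJ489) (BT.leaf cJ490)) (BT.node 491 (BT.leaf cJ491) (BT.leaf cJ492))) (BT.node 494 (BT.node 493 (BT.leaf cJ493) (BT.leaf cJ494)) (BT.node 495 (BT.leaf cJ495) (BT.leaf cJ496)))) (BT.node 500 (BT.node 498 (BT.node 497 (BT.leaf cJ497) (BT.leaf cJ498)) (BT.node 499 (BT.leaf cJ499) (BT.leaf cJ500))) (BT.node 502 (BT.node 501 (BT.leaf cJ501) (BT.leaf cJ502)) (BT.leaf cJ503))))))))) (BT.node 755 (BT.node 629 (BT.node 566 (BT.node 535 (BT.node 519 (BT.node 511 (BT.node 507 (BT.node 505 (BT.node 504 (BT.leaf cJ504) (BT.leaf cJ505)) (BT.node 506 (BT.leaf cJ506) (BT.leaf cJ507))) (BT.node 509 (BT.node 508 (BT.leaf cJ508) (BT.leaf cJ509)) (BT.node 510 (BT.leaf cJ510) (BT.leaf cJ511)))) (BT.node 515 (BT.node 513 (BT.node 512 (BT.leaf cJ512) (BT.leaf cJ513)) (BT.node 514 (BT.leaf cJ514) (BT.leaf cJ515))) (BT.node 517 (BT.node 516 (BT.leaf cJ516) (BT.leaf cJ517)) (BT.node 518 (BT.leaf cJ518) (BT.leaf cJ519))))) (BT.node 527 (BT.node 523 (BT.node 521 (BT.node 520 (BT.leaf cJ520) (BT.leaf cJ521)) (BT.node 522 (BT.leaf cJ522) (BT.leaf cJ523))) (BT.node 525 (BT.node 524 (BT.leaf cJ524) (BT.leaf cJ525)) (BT.node 526 (BT.leaf cJ526) (BT.leaf cJ527)))) (BT.node 531 (BT.node 529 (BT.node 528 (BT.leaf cJ528) (BT.leaf cJ529)) (BT.node 530 (BT.leaf cJ530) (BT.leaf cJ531))) (BT.node 533 (BT.node 532 (BT.leaf cJ532) (BT.leaf cJ533)) (BT.node 534 (BT.leaf cJ534) (BT.leaf cJ535)))))) (BT.node 551 (BT.node 543 (BT.node 539 (BT.node 537 (BT.node 536 (BT.leaf cJ536) (BT.leaf cJ537)) (BT.node 538 (BT.leaf cJ538) (BT.leaf cJ539))) (BT.node 541 (BT.node 540 (BT.leaf cJ540) (BT.leaf cJ541)) (BT.node 542 (BT.leaf cJ542) (BT.leaf cJ543)))) (BT.node 547 (BT.node 545 (BT.node 544 (BT.leaf cJ544) (BT.leaf cJ545)) (BT.node 546 (BT.leaf cJ546) (BT.leaf cJ547))) (BT.node 549 (BT.node 548 (BT.leaf cJ548) (BT.leaf cJ549)) (BT.node 550 (BT.leaf cJ550) (BT.leaf cJ551))))) (BT.node 559 (BT.node 555 (BT.node 553 (BT.node 552 (BT.leaf cJ552) (BT.leaf cJ553)) (BT.node 554 (BT.leaf cJ554) (BT.leaf cJ555))) (BT.node 557 (BT.node 556 (BT.leaf cJ556) (BT.leaf cJ557)) (BT.node 558 (BT.leaf cJ558) (BT.leaf cJ559)))) (BT.node 563 (BT.node 561 (BT.node 560 (BT.leaf cJ560) (BT.leaf cJ561)) (BT.node 562 (BT.leaf cJ562) (BT.leaf cJ563))) (BT.node 565 (BT.node 564 (BT.leaf cJ564) (BT.leaf cJ565)) (BT.leaf cJ566)))))) (BT.node 598 (BT.node 582 (BT.node 574 (BT.node 570 (BT.node 568 (BT.node 567 (BT.leaf cJ567) (BT.leaf cJ568)) (BT.node 569 (BT.leaf cJ569) (BT.leaf cJ570))) (BT.node 572 (BT.node 571 (BT.leaf cJ571) (BT.leaf cJ572)) (BT.node 573 (BT.leaf cJ573) (BT.leaf cJ574)))) (BT.node 578 (BT.node 576 (BT.node 575 (BT.leaf cJ575) (BT.leaf cJ576)) (BT.node 577 (BT.leaf cJ577) (BT.leaf cJ578))) (BT.node 580 (BT.node 579 (BT.leaf cJ579) (BT.leaf cJ580)) (BT.node 581 (BT.leaf cJ581) (BT.leaf cJ582))))) (BT.node 590 (BT.node 586 (BT.node 584 (BT.node 583 (BT.leaf cJ583) (BT.leaf cJ584)) (BT.node 585 (BT.leaf cJ585) (BT.leaf cJ586))) (BT.node 588 (BT.node 587 (BT.leaf cJ587) (BT.leaf cJ588)) (BT.node 589 (BT.leaf cJ589) (BT.leaf cJ590)))) (BT.node 594 (BT.node 592 (BT.node 591 (BT.leaf cJ591) (BT.leaf cJ592)) (BT.node 593 (BT.leaf cJ593) (BT.leaf cJ594))) (BT.node 596 (BT.node 595 (BT.leaf cJ595) (BT.leaf cJ596)) (BT.node 597 (BT.leaf cJ597) (BT.leaf cJ598)))))) (BT.node 614 (BT.node 606 (BT.node 602 (BT.node 600 (BT.node 599 (BT.leaf cJ599) (BT.leaf cJ600)) (BT.node 601 (BT.leaf cJ601) (BT.leaf cJ602))) (BT.node 604 (BT.node 603 (BT.leaf cJ603) (BT.leaf cJ604)) (BT.node 605 (BT.leaf cJ605) (BT.leaf cJ606)))) (BT.node 610 (BT.node 608 (BT.node 607 (BT.leaf cJ607) (BT.leaf cJ608)) (BT.node 609 (BT.leaf cJ609) (BT.leaf cJ610))) (BT.node 612 (BT.node 611 (BT.leaf cJ611) (BT.leaf cJ612)) (BT.node 613 (BT.leaf cJ613) (BT.leaf cJ614))))) (BT.node 622 (BT.node 618 (BT.node 616 (BT.node 615 (BT.leaf cJ615) (BT.leaf cJ616)) (BT.node 617 (BT.leaf cJ617) (BT.leaf cJ618))) (BT.node 620 (BT.node 619 (BT.leaf cJ619) (BT.leaf cJ620)) (BT.node 621 (BT.leaf cJ621) (BT.leaf cJ622)))) (BT.node 626 (BT.node 624 (BT.node 623 (BT.leaf cJ623) (BT.leaf cJ624)) (BT.node 625 (BT.leaf cJ625) (BT.leaf cJ626))) (BT.node 628 (BT.node 627 (BT.leaf cJ627) (BT.leaf cJ628)) (BT.leaf cJ629))))))) (BT.node 692 (BT.node 661 (BT.node 645 (BT.node 637 (BT.node 633 (BT.node 631 (BT.node 630 (BT.leaf cJ630) (BT.leaf cJ631)) (BT.node 632 (BT.leaf cJ632) (BT.leaf cJ633))) (BT.node 635 (BT.node 634 (BT.leaf cJ634) (BT.leaf cJ635)) (BT.node 636 (BT.leaf cJ636) (BT.leaf cJ637)))) (BT.node 641 (BT.node 639 (BT.node 638 (BT.leaf cJ638) (BT.leaf cJ639)) (BT.node 640 (BT.leaf cJ640) (BT.leaf cJ641))) (BT.node 643 (BT.node 642 (BT.leaf cJ642) (BT.leaf cJ643)) (BT.node 644 (BT.leaf cJ644) (BT.leaf cJ645))))) (BT.node 653 (BT.node 649 (BT.node 647 (BT.node 646 (BT.leaf cJ646) (BT.leaf cJ647)) (BT.node 648 (BT.leaf cJ648) (BT.leaf cJ649))) (BT.node 651 (BT.node 650 (BT.leaf cJ650) (BT.leaf cJ651)) (BT.node 652 (BT.leaf cJ652) (BT.leaf cJ653)))) (BT.node 657 (BT.node 655 (BT.node 654 (BT.leaf cJ654) (BT.leaf cJ655)) (BT.node 656 (BT.leaf cJ656) (BT.leaf cJ657))) (BT.node 659 (BT.node 658 (BT.leaf cJ658) (BT.leaf cJ659)) (BT.node 660 (BT.leaf cJ660) (BT.leaf cJ661)))))) (BT.node 677 (BT.node 669 (BT.node 665 (BT.node 663 (BT.node 662 (BT.leaf cJ662) (BT.leaf cJ663)) (BT.node 664 (BT.leaf cJ664) (BT.leaf cJ665))) (BT.node 667 (BT.node 666 (BT.leaf cJ666) (BT.leaf cJ667)) (BT.node 668 (BT.leaf cJ668) (BT.leaf cJ669)))) (BT.node 673 (BT.node 671 (BT.node 670 (BT.leaf cJ670) (BT.leaf cJ671)) (BT.node 672 (BT.leaf cJ672) (BT.leaf cJ673))) (BT.node 675 (BT.node 674 (BT.leaf cJ674) (BT.leaf cJ675)) (BT.node 676 (BT.leaf cJ676) (BT.leaf cJ677))))) (BT.node 685 (BT.node 681 (BT.node 679 (BT.node 678 (BT.leaf cJ678) (BT.leaf cJ679)) (BT.node 680 (BT.leaf cJ680) (BT.leaf cJ681))) (BT.node 683 (BT.node 682 (BT.leaf cJ682) (BT.leaf cJ683)) (BT.node 684 (BT.leaf cJ684) (BT.leaf cJ685)))) (BT.node 689 (BT.node 687 (BT.node 686 (BT.leaf cJ686) (BT.leaf cJ687)) (BT.node 688 (BT.leaf cJ688) (BT.leaf cJ689))) (BT.node 691 (BT.node 690 (BT.leaf cJ690) (BT.leaf cJ691)) (BT.leaf cJ692)))))) (BT.node 724 (BT.node 708 (BT.node 700 (BT.node 696 (BT.node 694 (BT.node 693 (BT.leaf cJ693) (BT.leaf cJ694)) (BT.node 695 (BT.leaf cJ695) (BT.leaf cJ696))) (BT.node 698 (BT.node 697 (BT.leaf cJ697) (BT.leaf cJ698)) (BT.node 699 (BT.leaf cJ699) (BT.leaf cJ700)))) (BT.node 704 (BT.node 702 (BT.node 701 (BT.leaf cJ701) (BT.leaf cJ702)) (BT.node 703 (BT.leaf cJ703) (BT.leaf cJ704))) (BT.node 706 (BT.node 705 (BT.leaf cJ705) (BT.leaf cJ706)) (BT.node 707 (BT.leaf cJ707) (BT.leaf cJ708))))) (BT.node 716 (BT.node 712 (BT.node 710 (BT.node 709 (BT.leaf cJ709) (BT.leaf cJ710)) (BT.node 711 (BT.leaf cJ711) (BT.leaf cJ712))) (BT.node 714 (BT.node 713 (BT.leaf cJ713) (BT.leaf cJ714)) (BT.node 715 (BT.leaf cJ715) (BT.leaf cJ716)))) (BT.node 720 (BT.node 718 (BT.node 717 (BT.leaf cJ717) (BT.leaf cJ718)) (BT.node 719 (BT.leaf cJ719) (BT.leaf cJ720))) (BT.node 722 (BT.node 721 (BT.leaf cJ721) (BT.leaf cJ722)) (BT.node 723 (BT.leaf cJ723) (BT.leaf cJ724)))))) (BT.node 740 (BT.node 732 (BT.node 728 (BT.node 726 (BT.node 725 (BT.leaf cJ725) (BT.leaf cJ726)) (BT.node 727 (BT.leaf cJ727) (BT.leaf cJ728))) (BT.node 730 (BT.node 729 (BT.leaf cJ729) (BT.leaf cJ730)) (BT.node 731 (BT.leaf cJ731) (BT.leaf cJ732)))) (BT.node 736 (BT.node 734 (BT.node 733 (BT.leaf cJ733) (BT.leaf cJ734)) (BT.node 735 (BT.leaf cJ735) (BT.leaf cJ736))) (BT.node 738 (BT.node 737 (BT.leaf cJ737) (BT.leaf cJ738)) (BT.node 739 (BT.leaf cJ739) (BT.leaf cJ740))))) (BT.node 748 (BT.node 744 (BT.node 742 (BT.node 741 (BT.leaf cJ741) (BT.leaf cJ742)) (BT.node 743 (BT.leaf cJ743) (BT.leaf cJ744))) (BT.node 746 (BT.node 745 (BT.leaf cJ745) (BT.leaf cJ746)) (BT.node 747 (BT.leaf cJ747) (BT.leaf cJ748)))) (BT.node 752 (BT.node 750 (BT.node 749 (BT.leaf cJ749) (BT.leaf cJ750)) (BT.node 751 (BT.leaf cJ751) (BT.leaf cJ752))) (BT.node 754 (BT.node 753 (BT.leaf cJ753) (BT.leaf cJ754)) (BT.leaf cJ755)))))))) (BT.node 881 (BT.node 818 (BT.node 787 (BT.node 771 (BT.node 763 (BT.node 759 (BT.node 757 (BT.node 756 (BT.leaf cJ756) (BT.leaf cJ757)) (BT.node 758 (BT.leaf cJ758) (BT.leaf cJ759))) (BT.node 761 (BT.node 760 (BT.leaf cJ760) (BT.leaf cJ761)) (BT.node 762 (BT.leaf cJ762) (BT.leaf cJ763)))) (BT.node 767 (BT.node 765 (BT.node 764 (BT.leaf cJ764) (BT.leaf cJ765)) (BT.node 766 (BT.leaf cJ766) (BT.leaf cJ767))) (BT.node 769 (BT.node 768 (BT.leaf cJ768) (BT.leaf cJ769)) (BT.node 770 (BT.leaf cJ770) (BT.leaf cJ771))))) (BT.node 779 (BT.node 775 (BT.node 773 (BT.node 772 (BT.leaf cJ772) (BT.leaf cJ773)) (BT.node 774 (BT.leaf cJ774) (BT.leaf cJ775))) (BT.node 777 (BT.node 776 (BT.leaf cJ776) (BT.leaf cJ777)) (BT.node 778 (BT.leaf cJ778) (BT.leaf cJ779)))) (BT.node 783 (BT.node 781 (BT.node 780 (BT.leaf cJ780) (BT.leaf cJ781)) (BT.node 782 (BT.leaf cJ782) (BT.leaf cJ783))) (BT.node 785 (BT.node 784 (BT.leaf cJ784) (BT.leaf cJ785)) (BT.node 786 (BT.leaf cJ786) (BT.leaf cJ787)))))) (BT.node 803 (BT.node 795 (BT.node 791 (BT.node 789 (BT.node 788 (BT.leaf cJ788) (BT.leaf cJ789)) (BT.node 790 (BT.leaf cJ790) (BT.leaf cJ791))) (BT.node 793 (BT.node 792 (BT.leaf cJ792) (BT.leaf cJ793)) (BT.node 794 (BT.leaf cJ794) (BT.leaf cJ795)))) (BT.node 799 (BT.node 797 (BT.node 796 (BT.leaf cJ796) (BT.leaf cJ797)) (BT.node 798 (BT.leaf cJ798) (BT.leaf cJ799))) (BT.node 801 (BT.node 800 (BT.leaf cJ800) (BT.leaf cJ801)) (BT.node 802 (BT.leaf cJ802) (BT.leaf cJ803))))) (BT.node 811 (BT.node 807 (BT.node 805 (BT.node 804 (BT.leaf cJ804) (BT.leaf cJ805)) (BT.node 806 (BT.leaf cJ806) (BT.leaf cJ807))) (BT.node 809 (BT.node 808 (BT.leaf cJ808) (BT.leaf cJ809)) (BT.node 810 (BT.leaf cJ810) (BT.leaf cJ811)))) (BT.node 815 (BT.node 813 (BT.node 812 (BT.leaf cJ812) (BT.leaf cJ813)) (BT.node 814 (BT.leaf cJ814) (BT.leaf cJ815))) (BT.node 817 (BT.node 816 (BT.leaf cJ816) (BT.leaf cJ817)) (BT.leaf cJ818)))))) (BT.node 850 (BT.node 834 (BT.node 826 (BT.node 822 (BT.node 820 (BT.node 819 (BT.leaf cJ819) (BT.leaf cJ820)) (BT.node 821 (BT.leaf cJ821) (BT.leaf cJ822))) (BT.node 824 (BT.node 823 (BT.leaf cJ823) (BT.leaf cJ824)) (BT.node 825 (BT.leaf cJ825) (BT.leaf cJ826)))) (BT.node 830 (BT.node 828 (BT.node 827 (BT.leaf cJ827) (BT.leaf cJ828)) (BT.node 829 (BT.leaf cJ829) (BT.leaf cJ830))) (BT.node 832 (BT.node 831 (BT.leaf cJ831) (BT.leaf cJ832)) (BT.node 833 (BT.leaf cJ833) (BT.leaf cJ834))))) (BT.node 842 (BT.node 838 (BT.node 836 (BT.node 835 (BT.leaf cJ835) (BT.leaf cJ836)) (BT.node 837 (BT.leaf cJ837) (BT.leaf cJ838))) (BT.node 840 (BT.node 839 (BT.leaf cJ839) (BT.leaf cJ840)) (BT.node 841 (BT.leaf cJ841) (BT.leaf cJ842)))) (BT.node 846 (BT.node 844 (BT.node 843 (BT.leaf cJ843) (BT.leaf cJ844)) (BT.node 845 (BT.leaf cJ845) (BT.leaf cJ846))) (BT.node 848 (BT.node 847 (BT.leaf cJ847) (BT.leaf cJ848)) (BT.node 849 (BT.leaf cJ849) (BT.leaf cJ850)))))) (BT.node 866 (BT.node 858 (BT.node 854 (BT.node 852 (BT.node 851 (BT.leaf cJ851) (BT.leaf cJ852)) (BT.node 853 (BT.leaf cJ853) (BT.leaf cJ854))) (BT.node 856 (BT.node 855 (BT.leaf cJ855) (BT.leaf cJ856)) (BT.node 857 (BT.leaf cJ857) (BT.leaf cJ858)))) (BT.node 862 (BT.node 860 (BT.node 859 (BT.leaf cJ859) (BT.leaf cJ860)) (BT.node 861 (BT.leaf cJ861) (BT.leaf cJ862))) (BT.node 864 (BT.node 863 (BT.leaf cJ863) (BT.leaf cJ864)) (BT.node 865 (BT.leaf cJ865) (BT.leaf cJ866))))) (BT.node 874 (BT.node 870 (BT.node 868 (BT.node 867 (BT.leaf cJ867) (BT.leaf cJ868)) (BT.node 869 (BT.leaf cJ869) (BT.leaf cJ870))) (BT.node 872 (BT.node 871 (BT.leaf cJ871) (BT.leaf cJ872)) (BT.node 873 (BT.leaf cJ873) (BT.leaf cJ874)))) (BT.node 878 (BT.node 876 (BT.node 875 (BT.leaf cJ875) (BT.leaf cJ876)) (BT.node 877 (BT.leaf cJ877) (BT.leaf cJ878))) (BT.node 880 (BT.node 879 (BT.leaf cJ879) (BT.leaf cJ880)) (BT.leaf cJ881))))))) (BT.node 944 (BT.node 913 (BT.node 897 (BT.node 889 (BT.node 885 (BT.node 883 (BT.node 882 (BT.leaf cJ882) (BT.leaf cJ883)) (BT.node 884 (BT.leaf cJ884) (BT.leaf cJ885))) (BT.node 887 (BT.node 886 (BT.leaf cJ886) (BT.leaf cJ887)) (BT.node 888 (BT.leaf cJ888) (BT.leaf cJ889)))) (BT.node 893 (BT.node 891 (BT.node 890 (BT.leaf cJ890) (BT.leaf cJ891)) (BT.node 892 (BT.leaf cJ892) (BT.leaf cJ893))) (BT.node 895 (BT.node 894 (BT.leaf cJ894) (BT.leaf cJ895)) (BT.node 896 (BT.leaf cJ896) (BT.leaf cJ897))))) (BT.node 905 (BT.node 901 (BT.node 899 (BT.node 898 (BT.leaf cJ898) (BT.leaf cJ899)) (BT.node 900 (BT.leaf cJ900) (BT.leaf cJ901))) (BT.node 903 (BT.node 902 (BT.leaf cJ902) (BT.leaf cJ903)) (BT.node 904 (BT.leaf cJ904) (BT.leaf cJ905)))) (BT.node 909 (BT.node 907 (BT.node 906 (BT.leaf cJ906) (BT.leaf cJ907)) (BT.node 908 (BT.leaf cJ908) (BT.leaf cJ909))) (BT.node 911 (BT.node 910 (BT.leaf cJ910) (BT.leaf cJ911)) (BT.node 912 (BT.leaf cJ912) (BT.leaf cJ913)))))) (BT.node 929 (BT.node 921 (BT.node 917 (BT.node 915 (BT.node 914 (BT.leaf cJ914) (BT.leaf cJ915)) (BT.node 916 (BT.leaf cJ916) (BT.leaf cJ917))) (BT.node 919 (BT.node 918 (BT.leaf cJ918) (BT.leaf cJ919)) (BT.node 920 (BT.leaf cJ920) (BT.leaf cJ921)))) (BT.node 925 (BT.node 923 (BT.node 922 (BT.leaf cJ922) (BT.leaf cJ923)) (BT.node 924 (BT.leaf cJ924) (BT.leaf cJ925))) (BT.node 927 (BT.node 926 (BT.leaf cJ926) (BT.leaf cJ927)) (BT.node 928 (BT.leaf cJ928) (BT.leaf cJ929))))) (BT.node 937 (BT.node 933 (BT.node 931 (BT.node 930 (BT.leaf cJ930) (BT.leaf cJ931)) (BT.node 932 (BT.leaf cJ932) (BT.leaf cJ933))) (BT.node 935 (BT.node 934 (BT.leaf cJ934) (BT.leaf cJ935)) (BT.node 936 (BT.leaf cJ936) (BT.leaf cJ937)))) (BT.node 941 (BT.node 939 (BT.node 938 (BT.leaf cJ938) (BT.leaf cJ939)) (BT.node 940 (BT.leaf cJ940) (BT.leaf cJ941))) (BT.node 943 (BT.node 942 (BT.leaf cJ942) (BT.leaf cJ943)) (BT.leaf cJ944)))))) (BT.node 976 (BT.node 960 (BT.node 952 (BT.node 948 (BT.node 946 (BT.node 945 (BT.leaf cJ945) (BT.leaf cJ946)) (BT.node 947 (BT.leaf cJ947) (BT.leaf cJ948))) (BT.node 950 (BT.node 949 (BT.leaf cJ949) (BT.leaf cJ950)) (BT.node 951 (BT.leaf cJ951) (BT.leaf cJ952)))) (BT.node 956 (BT.node 954 (BT.node 953 (BT.leaf cJ953) (BT.leaf cJ954)) (BT.node 955 (BT.leaf cJ955) (BT.leaf cJ956))) (BT.node 958 (BT.node 957 (BT.leaf cJ957) (BT.leaf cJ958)) (BT.node 959 (BT.leaf cJ959) (BT.leaf cJ960))))) (BT.node 968 (BT.node 964 (BT.node 962 (BT.node 961 (BT.leaf cJ961) (BT.leaf cJ962)) (BT.node 963 (BT.leaf cJ963) (BT.leaf cJ964))) (BT.node 966 (BT.node 965 (BT.leaf cJ965) (BT.leaf cJ966)) (BT.node 967 (BT.leaf cJ967) (BT.leaf cJ968)))) (BT.node 972 (BT.node 970 (BT.node 969 (BT.leaf cJ969) (BT.leaf cJ970)) (BT.node 971 (BT.leaf cJ971) (BT.leaf cJ972))) (BT.node 974 (BT.node 973 (BT.leaf cJ973) (BT.leaf cJ974)) (BT.node 975 (BT.leaf cJ975) (BT.leaf cJ976)))))) (BT.node 992 (BT.node 984 (BT.node 980 (BT.node 978 (BT.node 977 (BT.leaf cJ977) (BT.leaf cJ978)) (BT.node 979 (BT.leaf cJ979) (BT.leaf cJ980))) (BT.node 982 (BT.node 981 (BT.leaf cJ981) (BT.leaf cJ982)) (BT.node 983 (BT.leaf cJ983) (BT.leaf cJ984)))) (BT.node 988 (BT.node 986 (BT.node 985 (BT.leaf cJ985) (BT.leaf cJ986)) (BT.node 987 (BT.leaf cJ987) (BT.leaf cJ988))) (BT.node 990 (BT.node 989 (BT.leaf cJ989) (BT.leaf cJ990)) (BT.node 991 (BT.leaf cJ991) (BT.leaf cJ992))))) (BT.node 1000 (BT.node 996 (BT.node 994 (BT.node 993 (BT.leaf cJ993) (BT.leaf cJ994)) (BT.node 995 (BT.leaf cJ995) (BT.leaf cJ996))) (BT.node 998 (BT.node 997 (BT.leaf cJ997) (BT.leaf cJ998)) (BT.node 999 (BT.leaf cJ999) (BT.leaf cJ1000)))) (BT.node 1004 (BT.node 1002 (BT.node 1001 (BT.leaf cJ1001) (BT.leaf cJ1002)) (BT.node 1003 (BT.leaf cJ1003) (BT.leaf cJ1004))) (BT.node 1006 (BT.node 1005 (BT.leaf cJ1005) (BT.leaf cJ1006)) (BT.leaf cJ1007)))))))))) (BT.node 1511 (BT.node 1259 (BT.node 1133 (BT.node 1070 (BT.node 1039 (BT.node 1023 (BT.node 1015 (BT.node 1011 (BT.node 1009 (BT.node 1008 (BT.leaf cJ1008) (BT.leaf cJ1009)) (BT.node 1010 (BT.leaf cJ1010) (BT.leaf cJ1011))) (BT.node 1013 (BT.node 1012 (BT.leaf cJ1012) (BT.leaf cJ1013)) (BT.node 1014 (BT.leaf cJ1014) (BT.leaf cJ1015)))) (BT.node 1019 (BT.node 1017 (BT.node 1016 (BT.leaf cJ1016) (BT.leaf cJ1017)) (BT.node 1018 (BT.leaf cJ1018) (BT.leaf cJ1019))) (BT.node 1021 (BT.node 1020 (BT.leaf cJ1020) (BT.leaf cJ1021)) (BT.node 1022 (BT.leaf cJ1022) (BT.leaf cJ1023))))) (BT.node 1031 (BT.node 1027 (BT.node 1025 (BT.node 1024 (BT.leaf cJ1024) (BT.leaf cJ1025)) (BT.node 1026 (BT.leaf cJ1026) (BT.leaf cJ1027))) (BT.node 1029 (BT.node 1028 (BT.leaf cJ1028) (BT.leaf cJ1029)) (BT.node 1030 (BT.leaf cJ1030) (BT.leaf cJ1031)))) (BT.node 1035 (BT.node 1033 (BT.node 1032 (BT.leaf cJ1032) (BT.leaf cJ1033)) (BT.node 1034 (BT.leaf cJ1034) (BT.leaf cJ1035))) (BT.node 1037 (BT.node 1036 (BT.leaf cJ1036) (BT.leaf cJ1037)) (BT.node 1038 (BT.leaf cJ1038) (BT.leaf cJ1039)))))) (BT.node 1055 (BT.node 1047 (BT.node 1043 (BT.node 1041 (BT.node 1040 (BT.leaf cJ1040) (BT.leaf cJ1041)) (BT.node 1042 (BT.leaf cJ1042) (BT.leaf cJ1043))) (BT.node 1045 (BT.node 1044 (BT.leaf cJ1044) (BT.leaf cJ1045)) (BT.node 1046 (BT.leaf cJ1046) (BT.leaf cJ1047)))) (BT.node 1051 (BT.node 1049 (BT.node 1048 (BT.leaf cJ1048) (BT.leaf cJ1049)) (BT.node 1050 (BT.leaf cJ1050) (BT.leaf cJ1051))) (BT.node 1053 (BT.node 1052 (BT.leaf cJ1052) (BT.leaf cJ1053)) (BT.node 1054 (BT.leaf cJ1054) (BT.leaf cJ1055))))) (BT.node 1063 (BT.node 1059 (BT.node 1057 (BT.node 1056 (BT.leaf cJ1056) (BT.leaf cJ1057)) (BT.node 1058 (BT.leaf cJ1058) (BT.leaf cJ1059))) (BT.node 1061 (BT.node 1060 (BT.leaf cJ1060) (BT.leaf cJ1061)) (BT.node 1062 (BT.leaf cJ1062) (BT.leaf cJ1063)))) (BT.node 1067 (BT.node 1065 (BT.node 1064 (BT.leaf cJ1064) (BT.leaf cJ1065)) (BT.node 1066 (BT.leaf cJ1066) (BT.leaf cJ1067))) (BT.node 1069 (BT.node 1068 (BT.leaf cJ1068) (BT.leaf cJ1069)) (BT.leaf cJ1070)))))) (BT.node 1102 (BT.node 1086 (BT.node 1078 (BT.node 1074 (BT.node 1072 (BT.node 1071 (BT.leaf cJ1071) (BT.leaf cJ1072)) (BT.node 1073 (BT.leaf cJ1073) (BT.leaf cJ1074))) (BT.node 1076 (BT.node 1075 (BT.leaf cJ1075) (BT.leaf cJ1076)) (BT.node 1077 (BT.leaf cJ1077) (BT.leaf cJ1078)))) (BT.node 1082 (BT.node 1080 (BT.node 1079 (BT.leaf cJ1079) (BT.leaf cJ1080)) (BT.node 1081 (BT.leaf cJ1081) (BT.leaf cJ1082))) (BT.node 1084 (BT.node 1083 (BT.leaf cJ1083) (BT.leaf cJ1084)) (BT.node 1085 (BT.leaf cJ1085) (BT.leaf cJ1086))))) (BT.node 1094 (BT.node 1090 (BT.node 1088 (BT.node 1087 (BT.leaf cJ1087) (BT.leaf cJ1088)) (BT.node 1089 (BT.leaf cJ1089) (BT.leaf cJ1090))) (BT.node 1092 (BT.node 1091 (BT.leaf cJ1091) (BT.leaf cJ1092)) (BT.node 1093 (BT.leaf cJ1093) (BT.leaf cJ1094)))) (BT.node 1098 (BT.node 1096 (BT.node 1095 (BT.leaf cJ1095) (BT.leaf cJ1096)) (BT.node 1097 (BT.leaf cJ1097) (BT.leaf cJ1098))) (BT.node 1100 (BT.node 1099 (BT.leaf cJ1099) (BT.leaf cJ1100)) (BT.node 1101 (BT.leaf cJ1101) (BT.leaf cJ1102)))))) (BT.node 1118 (BT.node 1110 (BT.node 1106 (BT.node 1104 (BT.node 1103 (BT.leaf cJ1103) (BT.leaf cJ1104)) (BT.node 1105 (BT.leaf cJ1105) (BT.leaf cJ1106))) (BT.node 1108 (BT.node 1107 (BT.leaf cJ1107) (BT.leaf cJ1108)) (BT.node 1109 (BT.leaf cJ1109) (BT.leaf cJ1110)))) (BT.node 1114 (BT.node 1112 (BT.node 1111 (BT.leaf cJ1111) (BT.leaf cJ1112)) (BT.node 1113 (BT.leaf cJ1113) (BT.leaf cJ1114))) (BT.node 1116 (BT.node 1115 (BT.leaf cJ1115) (BT.leaf cJ1116)) (BT.node 1117 (BT.leaf cJ1117) (BT.leaf cJ1118))))) (BT.node 1126 (BT.node 1122 (BT.node 1120 (BT.node 1119 (BT.leaf cJ1119) (BT.leaf cJ1120)) (BT.node 1121 (BT.leaf cJ1121) (BT.leaf cJ1122))) (BT.node 1124 (BT.node 1123 (BT.leaf cJ1123) (BT.leaf cJ1124)) (BT.node 1125 (BT.leaf cJ1125) (BT.leaf cJ1126)))) (BT.node 1130 (BT.node 1128 (BT.node 1127 (BT.leaf cJ1127) (BT.leaf cJ1128)) (BT.node 1129 (BT.leaf cJ1129) (BT.leaf cJ1130))) (BT.node 1132 (BT.node 1131 (BT.leaf cJ1131) (BT.leaf cJ1132)) (BT.leaf cJ1133))))))) (BT.node 1196 (BT.node 1165 (BT.node 1149 (BT.node 1141 (BT.node 1137 (BT.node 1135 (BT.node 1134 (BT.leaf cJ1134) (BT.leaf cJ1135)) (BT.node 1136 (BT.leaf cJ1136) (BT.leaf cJ1137))) (BT.node 1139 (BT.node 1138 (BT.leaf cJ1138) (BT.leaf cJ1139)) (BT.node 1140 (BT.leaf cJ1140) (BT.leaf cJ1141)))) (BT.node 1145 (BT.node 1143 (BT.node 1142 (BT.leaf cJ1142) (BT.leaf cJ1143)) (BT.node 1144 (BT.leaf cJ1144) (BT.leaf cJ1145))) (BT.node 1147 (BT.node 1146 (BT.leaf cJ1146) (BT.leaf cJ1147)) (BT.node 1148 (BT.leaf cJ1148) (BT.leaf cJ1149))))) (BT.node 1157 (BT.node 1153 (BT.node 1151 (BT.node 1150 (BT.leaf cJ1150) (BT.leaf cJ1151)) (BT.node 1152 (BT.leaf cJ1152) (BT.leaf cJ1153))) (BT.node 1155 (BT.node 1154 (BT.leaf cJ1154) (BT.leaf cJ1155)) (BT.node 1156 (BT.leaf cJ1156) (BT.leaf cJ1157)))) (BT.node 1161 (BT.node 1159 (BT.node 1158 (BT.leaf cJ1158) (BT.leaf cJ1159)) (BT.node 1160 (BT.leaf cJ1160) (BT.leaf cJ1161))) (BT.node 1163 (BT.node 1162 (BT.leaf cJ1162) (BT.leaf cJ1163)) (BT.node 1164 (BT.leaf cJ1164) (BT.leaf cJ1165)))))) (BT.node 1181 (BT.node 1173 (BT.node 1169 (BT.node 1167 (BT.node 1166 (BT.leaf cJ1166) (BT.leaf cJ1167)) (BT.node 1168 (BT.leaf cJ1168) (BT.leaf cJ1169))) (BT.node 1171 (BT.node 1170 (BT.leaf cJ1170) (BT.leaf cJ1171)) (BT.node 1172 (BT.leaf cJ1172) (BT.leaf cJ1173)))) (BT.node 1177 (BT.node 1175 (BT.node 1174 (BT.leaf cJ1174) (BT.leaf cJ1175)) (BT.node 1176 (BT.leaf cJ1176) (BT.leaf cJ1177))) (BT.node 1179 (BT.node 1178 (BT.leaf cJ1178) (BT.leaf cJ1179)) (BT.node 1180 (BT.leaf cJ1180) (BT.leaf cJ1181))))) (BT.node 1189 (BT.node 1185 (BT.node 1183 (BT.node 1182 (BT.leaf cJ1182) (BT.leaf cJ1183)) (BT.node 1184 (BT.leaf cJ1184) (BT.leaf cJ1185))) (BT.node 1187 (BT.node 1186 (BT.leaf cJ1186) (BT.leaf cJ1187)) (BT.node 1188 (BT.leaf cJ1188) (BT.leaf cJ1189)))) (BT.node 1193 (BT.node 1191 (BT.node 1190 (BT.leaf cJ1190) (BT.leaf cJ1191)) (BT.node 1192 (BT.leaf cJ1192) (BT.leaf cJ1193))) (BT.node 1195 (BT.node 1194 (BT.leaf cJ1194) (BT.leaf cJ1195)) (BT.leaf cJ1196)))))) (BT.node 1228 (BT.node 1212 (BT.node 1204 (BT.node 1200 (BT.node 1198 (BT.node 1197 (BT.leaf cJ1197) (BT.leaf cJ1198)) (BT.node 1199 (BT.leaf cJ1199) (BT.leaf cJ1200))) (BT.node 1202 (BT.node 1201 (BT.leaf cJ1201) (BT.leaf cJ1202)) (BT.node 1203 (BT.leaf cJ1203) (BT.leaf cJ1204)))) (BT.node 1208 (BT.node 1206 (BT.node 1205 (BT.leaf cJ1205) (BT.leaf cJ1206)) (BT.node 1207 (BT.leaf cJ1207) (BT.leaf cJ1208))) (BT.node 1210 (BT.node 1209 (BT.leaf cJ1209) (BT.leaf cJ1210)) (BT.node 1211 (BT.leaf cJ1211) (BT.leaf cJ1212))))) (BT.node 1220 (BT.node 1216 (BT.node 1214 (BT.node 1213 (BT.leaf cJ1213) (BT.leaf cJ1214)) (BT.node 1215 (BT.leaf cJ1215) (BT.leaf cJ1216))) (BT.node 1218 (BT.node 1217 (BT.leaf cJ1217) (BT.leaf cJ1218)) (BT.node 1219 (BT.leaf cJ1219) (BT.leaf cJ1220)))) (BT.node 1224 (BT.node 1222 (BT.node 1221 (BT.leaf cJ1221) (BT.leaf cJ1222)) (BT.node 1223 (BT.leaf cJ1223) (BT.leaf cJ1224))) (BT.node 1226 (BT.node 1225 (BT.leaf cJ1225) (BT.leaf cJ1226)) (BT.node 1227 (BT.leaf cJ1227) (BT.leaf cJ1228)))))) (BT.node 1244 (BT.node 1236 (BT.node 1232 (BT.node 1230 (BT.node 1229 (BT.leaf cJ1229) (BT.leaf cJ1230)) (BT.node 1231 (BT.leaf cJ1231) (BT.leaf cJ1232))) (BT.node 1234 (BT.node 1233 (BT.leaf cJ1233) (BT.leaf cJ1234)) (BT.node 1235 (BT.leaf cJ1235) (BT.leaf cJ1236)))) (BT.node 1240 (BT.node 1238 (BT.node 1237 (BT.leaf cJ1237) (BT.leaf cJ1238)) (BT.node 1239 (BT.leaf cJ1239) (BT.leaf cJ1240))) (BT.node 1242 (BT.node 1241 (BT.leaf cJ1241) (BT.leaf cJ1242)) (BT.node 1243 (BT.leaf cJ1243) (BT.leaf cJ1244))))) (BT.node 1252 (BT.node 1248 (BT.node 1246 (BT.node 1245 (BT.leaf cJ1245) (BT.leaf cJ1246)) (BT.node 1247 (BT.leaf cJ1247) (BT.leaf cJ1248))) (BT.node 1250 (BT.node 1249 (BT.leaf cJ1249) (BT.leaf cJ1250)) (BT.node 1251 (BT.leaf cJ1251) (BT.leaf cJ1252)))) (BT.node 1256 (BT.node 1254 (BT.node 1253 (BT.leaf cJ1253) (BT.leaf cJ1254)) (BT.node 1255 (BT.leaf cJ1255) (BT.leaf cJ1256))) (BT.node 1258 (BT.node 1257 (BT.leaf cJ1257) (BT.leaf cJ1258)) (BT.leaf cJ1259)))))))) (BT.node 1385 (BT.node 1322 (BT.node 1291 (BT.node 1275 (BT.node 1267 (BT.node 1263 (BT.node 1261 (BT.node 1260 (BT.leaf cJ1260) (BT.leaf cJ1261)) (BT.node 1262 (BT.leaf cJ1262) (BT.leaf cJ1263))) (BT.node 1265 (BT.node 1264 (BT.leaf cJ1264) (BT.leaf cJ1265)) (BT.node 1266 (BT.leaf cJ1266) (BT.leaf cJ1267)))) (BT.node 1271 (BT.node 1269 (BT.node 1268 (BT.leaf cJ1268) (BT.leaf cJ1269)) (BT.node 1270 (BT.leaf cJ1270) (BT.leaf cJ1271))) (BT.node 1273 (BT.node 1272 (BT.leaf cJ1272) (BT.leaf cJ1273)) (BT.node 1274 (BT.leaf cJ1274) (BT.leaf cJ1275))))) (BT.node 1283 (BT.node 1279 (BT.node 1277 (BT.node 1276 (BT.leaf cJ1276) (BT.leaf cJ1277)) (BT.node 1278 (BT.leaf cJ1278) (BT.leaf cJ1279))) (BT.node 1281 (BT.node 1280 (BT.leaf cJ1280) (BT.leaf cJ1281)) (BT.node 1282 (BT.leaf cJ1282) (BT.leaf cJ1283)))) (BT.node 1287 (BT.node 1285 (BT.node 1284 (BT.leaf cJ1284) (BT.leaf cJ1285)) (BT.node 1286 (BT.leaf cJ1286) (BT.leaf cJ1287))) (BT.node 1289 (BT.node 1288 (BT.leaf cJ1288) (BT.leaf cJ1289)) (BT.node 1290 (BT.leaf cJ1290) (BT.leaf cJ1291)))))) (BT.node 1307 (BT.node 1299 (BT.node 1295 (BT.node 1293 (BT.node 1292 (BT.leaf cJ1292) (BT.leaf cJ1293)) (BT.node 1294 (BT.leaf cJ1294) (BT.leaf cJ1295))) (BT.node 1297 (BT.node 1296 (BT.leaf cJ1296) (BT.leaf cJ1297)) (BT.node 1298 (BT.leaf cJ1298) (BT.leaf cJ1299)))) (BT.node 1303 (BT.node 1301 (BT.node 1300 (BT.leaf cJ1300) (BT.leaf cJ1301)) (BT.node 1302 (BT.leaf cJ1302) (BT.leaf cJ1303))) (BT.node 1305 (BT.node 1304 (BT.leaf cJ1304) (BT.leaf cJ1305)) (BT.node 1306 (BT.leaf cJ1306) (BT.leaf cJ1307))))) (BT.node 1315 (BT.node 1311 (BT.node 1309 (BT.node 1308 (BT.leaf cJ1308) (BT.leaf cJ1309)) (BT.node 1310 (BT.leaf cJ1310) (BT.leaf cJ1311))) (BT.node 1313 (BT.node 1312 (BT.leaf cJ1312) (BT.leaf cJ1313)) (BT.node 1314 (BT.leaf cJ1314) (BT.leaf cJ1315)))) (BT.node 1319 (BT.node 1317 (BT.node 1316 (BT.leaf cJ1316) (BT.leaf cJ1317)) (BT.node 1318 (BT.leaf cJ1318) (BT.leaf cJ1319))) (BT.node 1321 (BT.node 1320 (BT.leaf cJ1320) (BT.leaf cJ1321)) (BT.leaf cJ1322)))))) (BT.node 1354 (BT.node 1338 (BT.node 1330 (BT.node 1326 (BT.node 1324 (BT.node 1323 (BT.leaf cJ1323) (BT.leaf cJ1324)) (BT.node 1325 (BT.leaf cJ1325) (BT.leaf cJ1326))) (BT.node 1328 (BT.node 1327 (BT.leaf cJ1327) (BT.leaf cJ1328)) (BT.node 1329 (BT.leaf cJ1329) (BT.leaf cJ1330)))) (BT.node 1334 (BT.node 1332 (BT.node 1331 (BT.leaf cJ1331) (BT.leaf cJ1332)) (BT.node 1333 (BT.leaf cJ1333) (BT.leaf cJ1334))) (BT.node 1336 (BT.node 1335 (BT.leaf cJ1335) (BT.leaf cJ1336)) (BT.node 1337 (BT.leaf cJ1337) (BT.leaf cJ1338))))) (BT.node 1346 (BT.node 1342 (BT.node 1340 (BT.node 1339 (BT.leaf cJ1339) (BT.leaf cJ1340)) (BT.node 1341 (BT.leaf cJ1341) (BT.leaf cJ1342))) (BT.node 1344 (BT.node 1343 (BT.leaf cJ1343) (BT.leaf cJ1344)) (BT.node 1345 (BT.leaf cJ1345) (BT.leaf cJ1346)))) (BT.node 1350 (BT.node 1348 (BT.node 1347 (BT.leaf cJ1347) (BT.leaf cJ1348)) (BT.node 1349 (BT.leaf cJ1349) (BT.leaf cJ1350))) (BT.node 1352 (BT.node 1351 (BT.leaf cJ1351) (BT.leaf cJ1352)) (BT.node 1353 (BT.leaf cJ1353) (BT.leaf cJ1354)))))) (BT.node 1370 (BT.node 1362 (BT.node 1358 (BT.node 1356 (BT.node 1355 (BT.leaf cJ1355) (BT.leaf cJ1356)) (BT.node 1357 (BT.leaf cJ1357) (BT.leaf cJ1358))) (BT.node 1360 (BT.node 1359 (BT.leaf cJ1359) (BT.leaf cJ1360)) (BT.node 1361 (BT.leaf cJ1361) (BT.leaf cJ1362)))) (BT.node 1366 (BT.node 1364 (BT.node 1363 (BT.leaf cJ1363) (BT.leaf cJ1364)) (BT.node 1365 (BT.leaf cJ1365) (BT.leaf cJ1366))) (BT.node 1368 (BT.node 1367 (BT.leaf cJ1367) (BT.leaf cJ1368)) (BT.node 1369 (BT.leaf cJ1369) (BT.leaf cJ1370))))) (BT.node 1378 (BT.node 1374 (BT.node 1372 (BT.node 1371 (BT.leaf cJ1371) (BT.leaf cJ1372)) (BT.node 1373 (BT.leaf cJ1373) (BT.leaf cJ1374))) (BT.node 1376 (BT.node 1375 (BT.leaf cJ1375) (BT.leaf cJ1376)) (BT.node 1377 (BT.leaf cJ1377) (BT.leaf cJ1378)))) (BT.node 1382 (BT.node 1380 (BT.node 1379 (BT.leaf cJ1379) (BT.leaf cJ1380)) (BT.node 1381 (BT.leaf cJ1381) (BT.leaf cJ1382))) (BT.node 1384 (BT.node 1383 (BT.leaf cJ1383) (BT.leaf cJ1384)) (BT.leaf cJ1385))))))) (BT.node 1448 (BT.node 1417 (BT.node 1401 (BT.node 1393 (BT.node 1389 (BT.node 1387 (BT.node 1386 (BT.leaf cJ1386) (BT.leaf cJ1387)) (BT.node 1388 (BT.leaf cJ1388) (BT.leaf cJ1389))) (BT.node 1391 (BT.node 1390 (BT.leaf cJ1390) (BT.leaf cJ1391)) (BT.node 1392 (BT.leaf cJ1392) (BT.leaf cJ1393)))) (BT.node 1397 (BT.node 1395 (BT.node 1394 (BT.leaf cJ1394) (BT.leaf cJ1395)) (BT.node 1396 (BT.leaf cJ1396) (BT.leaf cJ1397))) (BT.node 1399 (BT.node 1398 (BT.leaf cJ1398) (BT.leaf cJ1399)) (BT.node 1400 (BT.leaf cJ1400) (BT.leaf cJ1401))))) (BT.node 1409 (BT.node 1405 (BT.node 1403 (BT.node 1402 (BT.leaf cJ1402) (BT.leaf cJ1403)) (BT.node 1404 (BT.leaf cJ1404) (BT.leaf cJ1405))) (BT.node 1407 (BT.node 1406 (BT.leaf cJ1406) (BT.leaf cJ1407)) (BT.node 1408 (BT.leaf cJ1408) (BT.leaf cJ1409)))) (BT.node 1413 (BT.node 1411 (BT.node 1410 (BT.leaf cJ1410) (BT.leaf cJ1411)) (BT.node 1412 (BT.leaf cJ1412) (BT.leaf cJ1413))) (BT.node 1415 (BT.node 1414 (BT.leaf cJ1414) (BT.leaf cJ1415)) (BT.node 1416 (BT.leaf cJ1416) (BT.leaf cJ1417)))))) (BT.node 1433 (BT.node 1425 (BT.node 1421 (BT.node 1419 (BT.node 1418 (BT.leaf cJ1418) (BT.leaf cJ1419)) (BT.node 1420 (BT.leaf cJ1420) (BT.leaf cJ1421))) (BT.node 1423 (BT.node 1422 (BT.leaf cJ1422) (BT.leaf cJ1423)) (BT.node 1424 (BT.leaf cJ1424) (BT.leaf cJ1425)))) (BT.node 1429 (BT.node 1427 (BT.node 1426 (BT.leaf cJ1426) (BT.leaf cJ1427)) (BT.node 1428 (BT.leaf cJ1428) (BT.leaf cJ1429))) (BT.node 1431 (BT.node 1430 (BT.leaf cJ1430) (BT.leaf cJ1431)) (BT.node 1432 (BT.leaf cJ1432) (BT.leaf cJ1433))))) (BT.node 1441 (BT.node 1437 (BT.node 1435 (BT.node 1434 (BT.leaf cJ1434) (BT.leaf cJ1435)) (BT.node 1436 (BT.leaf cJ1436) (BT.leaf cJ1437))) (BT.node 1439 (BT.node 1438 (BT.leaf cJ1438) (BT.leaf cJ1439)) (BT.node 1440 (BT.leaf cJ1440) (BT.leaf cJ1441)))) (BT.node 1445 (BT.node 1443 (BT.node 1442 (BT.leaf cJ1442) (BT.leaf cJ1443)) (BT.node 1444 (BT.leaf cJ1444) (BT.leaf cJ1445))) (BT.node 1447 (BT.node 1446 (BT.leaf cJ1446) (BT.leaf cJ1447)) (BT.leaf cJ1448)))))) (BT.node 1480 (BT.node 1464 (BT.node 1456 (BT.node 1452 (BT.node 1450 (BT.node 1449 (BT.leaf cJ1449) (BT.leaf cJ1450)) (BT.node 1451 (BT.leaf cJ1451) (BT.leaf cJ1452))) (BT.node 1454 (BT.node 1453 (BT.leaf cJ1453) (BT.leaf cJ1454)) (BT.node 1455 (BT.leaf cJ1455) (BT.leaf cJ1456)))) (BT.node 1460 (BT.node 1458 (BT.node 1457 (BT.leaf cJ1457) (BT.leaf cJ1458)) (BT.node 1459 (BT.leaf cJ1459) (BT.leaf cJ1460))) (BT.node 1462 (BT.node 1461 (BT.leaf cJ1461) (BT.leaf cJ1462)) (BT.node 1463 (BT.leaf cJ1463) (BT.leaf cJ1464))))) (BT.node 1472 (BT.node 1468 (BT.node 1466 (BT.node 1465 (BT.leaf cJ1465) (BT.leaf cJ1466)) (BT.node 1467 (BT.leaf cJ1467) (BT.leaf cJ1468))) (BT.node 1470 (BT.node 1469 (BT.leaf cJ1469) (BT.leaf cJ1470)) (BT.node 1471 (BT.leaf cJ1471) (BT.leaf cJ1472)))) (BT.node 1476 (BT.node 1474 (BT.node 1473 (BT.leaf cJ1473) (BT.leaf cJ1474)) (BT.node 1475 (BT.leaf cJ1475) (BT.leaf cJ1476))) (BT.node 1478 (BT.node 1477 (BT.leaf cJ1477) (BT.leaf cJ1478)) (BT.node 1479 (BT.leaf cJ1479) (BT.leaf cJ1480)))))) (BT.node 1496 (BT.node 1488 (BT.node 1484 (BT.node 1482 (BT.node 1481 (BT.leaf cJ1481) (BT.leaf cJ1482)) (BT.node 1483 (BT.leaf cJ1483) (BT.leaf cJ1484))) (BT.node 1486 (BT.node 1485 (BT.leaf cJ1485) (BT.leaf cJ1486)) (BT.node 1487 (BT.leaf cJ1487) (BT.leaf cJ1488)))) (BT.node 1492 (BT.node 1490 (BT.node 1489 (BT.leaf cJ1489) (BT.leaf cJ1490)) (BT.node 1491 (BT.leaf cJ1491) (BT.leaf cJ1492))) (BT.node 1494 (BT.node 1493 (BT.leaf cJ1493) (BT.leaf cJ1494)) (BT.node 1495 (BT.leaf cJ1495) (BT.leaf cJ1496))))) (BT.node 1504 (BT.node 1500 (BT.node 1498 (BT.node 1497 (BT.leaf cJ1497) (BT.leaf cJ1498)) (BT.node 1499 (BT.leaf cJ1499) (BT.leaf cJ1500))) (BT.node 1502 (BT.node 1501 (BT.leaf cJ1501) (BT.leaf cJ1502)) (BT.node 1503 (BT.leaf cJ1503) (BT.leaf cJ1504)))) (BT.node 1508 (BT.node 1506 (BT.node 1505 (BT.leaf cJ1505) (BT.leaf cJ1506)) (BT.node 1507 (BT.leaf cJ1507) (BT.leaf cJ1508))) (BT.node 1510 (BT.node 1509 (BT.leaf cJ1509) (BT.leaf cJ1510)) (BT.leaf cJ1511))))))))) (BT.node 1763 (BT.node 1637 (BT.node 1574 (BT.node 1543 (BT.node 1527 (BT.node 1519 (BT.node 1515 (BT.node 1513 (BT.node 1512 (BT.leaf cJ1512) (BT.leaf cJ1513)) (BT.node 1514 (BT.leaf cJ1514) (BT.leaf cJ1515))) (BT.node 1517 (BT.node 1516 (BT.leaf cJ1516) (BT.leaf cJ1517)) (BT.node 1518 (BT.leaf cJ1518) (BT.leaf cJ1519)))) (BT.node 1523 (BT.node 1521 (BT.node 1520 (BT.leaf cJ1520) (BT.leaf cJ1521)) (BT.node 1522 (BT.leaf cJ1522) (BT.leaf cJ1523))) (BT.node 1525 (BT.node 1524 (BT.leaf cJ1524) (BT.leaf cJ1525)) (BT.node 1526 (BT.leaf cJ1526) (BT.leaf cJ1527))))) (BT.node 1535 (BT.node 1531 (BT.node 1529 (BT.node 1528 (BT.leaf cJ1528) (BT.leaf cJ1529)) (BT.node 1530 (BT.leaf cJ1530) (BT.leaf cJ1531))) (BT.node 1533 (BT.node 1532 (BT.leaf cJ1532) (BT.leaf cJ1533)) (BT.node 1534 (BT.leaf cJ1534) (BT.leaf cJ1535)))) (BT.node 1539 (BT.node 1537 (BT.node 1536 (BT.leaf cJ1536) (BT.leaf cJ1537)) (BT.node 1538 (BT.leaf cJ1538) (BT.leaf cJ1539))) (BT.node 1541 (BT.node 1540 (BT.leaf cJ1540) (BT.leaf cJ1541)) (BT.node 1542 (BT.leaf cJ1542) (BT.leaf cJ1543)))))) (BT.node 1559 (BT.node 1551 (BT.node 1547 (BT.node 1545 (BT.node 1544 (BT.leaf cJ1544) (BT.leaf cJ1545)) (BT.node 1546 (BT.leaf cJ1546) (BT.leaf cJ1547))) (BT.node 1549 (BT.node 1548 (BT.leaf cJ1548) (BT.leaf cJ1549)) (BT.node 1550 (BT.leaf cJ1550) (BT.leaf cJ1551)))) (BT.node 1555 (BT.node 1553 (BT.node 1552 (BT.leaf cJ1552) (BT.leaf cJ1553)) (BT.node 1554 (BT.leaf cJ1554) (BT.leaf cJ1555))) (BT.node 1557 (BT.node 1556 (BT.leaf cJ1556) (BT.leaf cJ1557)) (BT.node 1558 (BT.leaf cJ1558) (BT.leaf cJ1559))))) (BT.node 1567 (BT.node 1563 (BT.node 1561 (BT.node 1560 (BT.leaf cJ1560) (BT.leaf cJ1561)) (BT.node 1562 (BT.leaf cJ1562) (BT.leaf cJ1563))) (BT.node 1565 (BT.node 1564 (BT.leaf cJ1564) (BT.leaf cJ1565)) (BT.node 1566 (BT.leaf cJ1566) (BT.leaf cJ1567)))) (BT.node 1571 (BT.node 1569 (BT.node 1568 (BT.leaf cJ1568) (BT.leaf cJ1569)) (BT.node 1570 (BT.leaf cJ1570) (BT.leaf cJ1571))) (BT.node 1573 (BT.node 1572 (BT.leaf cJ1572) (BT.leaf cJ1573)) (BT.leaf cJ1574)))))) (BT.node 1606 (BT.node 1590 (BT.node 1582 (BT.node 1578 (BT.node 1576 (BT.node 1575 (BT.leaf cJ1575) (BT.leaf cJ1576)) (BT.node 1577 (BT.leaf cJ1577) (BT.leaf cJ1578))) (BT.node 1580 (BT.node 1579 (BT.leaf cJ1579) (BT.leaf cJ1580)) (BT.node 1581 (BT.leaf cJ1581) (BT.leaf cJ1582)))) (BT.node 1586 (BT.node 1584 (BT.node 1583 (BT.leaf cJ1583) (BT.leaf cJ1584)) (BT.node 1585 (BT.leaf cJ1585) (BT.leaf cJ1586))) (BT.node 1588 (BT.node 1587 (BT.leaf cJ1587) (BT.leaf cJ1588)) (BT.node 1589 (BT.leaf cJ1589) (BT.leaf cJ1590))))) (BT.node 1598 (BT.node 1594 (BT.node 1592 (BT.node 1591 (BT.leaf cJ1591) (BT.leaf cJ1592)) (BT.node 1593 (BT.leaf cJ1593) (BT.leaf cJ1594))) (BT.node 1596 (BT.node 1595 (BT.leaf cJ1595) (BT.leaf cJ1596)) (BT.node 1597 (BT.leaf cJ1597) (BT.leaf cJ1598)))) (BT.node 1602 (BT.node 1600 (BT.node 1599 (BT.leaf cJ1599) (BT.leaf cJ1600)) (BT.node 1601 (BT.leaf cJ1601) (BT.leaf cJ1602))) (BT.node 1604 (BT.node 1603 (BT.leaf cJ1603) (BT.leaf cJ1604)) (BT.node 1605 (BT.leaf cJ1605) (BT.leaf cJ1606)))))) (BT.node 1622 (BT.node 1614 (BT.node 1610 (BT.node 1608 (BT.node 1607 (BT.leaf cJ1607) (BT.leaf cJ1608)) (BT.node 1609 (BT.leaf cJ1609) (BT.leaf cJ1610))) (BT.node 1612 (BT.node 1611 (BT.leaf cJ1611) (BT.leaf cJ1612)) (BT.node 1613 (BT.leaf cJ1613) (BT.leaf cJ1614)))) (BT.node 1618 (BT.node 1616 (BT.node 1615 (BT.leaf cJ1615) (BT.leaf cJ1616)) (BT.node 1617 (BT.leaf cJ1617) (BT.leaf cJ1618))) (BT.node 1620 (BT.node 1619 (BT.leaf cJ1619) (BT.leaf cJ1620)) (BT.node 1621 (BT.leaf cJ1621) (BT.leaf cJ1622))))) (BT.node 1630 (BT.node 1626 (BT.node 1624 (BT.node 1623 (BT.leaf cJ1623) (BT.leaf cJ1624)) (BT.node 1625 (BT.leaf cJ1625) (BT.leaf cJ1626))) (BT.node 1628 (BT.node 1627 (BT.leaf cJ1627) (BT.leaf cJ1628)) (BT.node 1629 (BT.leaf cJ1629) (BT.leaf cJ1630)))) (BT.node 1634 (BT.node 1632 (BT.node 1631 (BT.leaf cJ1631) (BT.leaf cJ1632)) (BT.node 1633 (BT.leaf cJ1633) (BT.leaf cJ1634))) (BT.node 1636 (BT.node 1635 (BT.leaf cJ1635) (BT.leaf cJ1636)) (BT.leaf cJ1637))))))) (BT.node 1700 (BT.node 1669 (BT.node 1653 (BT.node 1645 (BT.node 1641 (BT.node 1639 (BT.node 1638 (BT.leaf cJ1638) (BT.leaf cJ1639)) (BT.node 1640 (BT.leaf cJ1640) (BT.leaf cJ1641))) (BT.node 1643 (BT.node 1642 (BT.leaf cJ1642) (BT.leaf cJ1643)) (BT.node 1644 (BT.leaf cJ1644) (BT.leaf cJ1645)))) (BT.node 1649 (BT.node 1647 (BT.node 1646 (BT.leaf cJ1646) (BT.leaf cJ1647)) (BT.node 1648 (BT.leaf cJ1648) (BT.leaf cJ1649))) (BT.node 1651 (BT.node 1650 (BT.leaf cJ1650) (BT.leaf cJ1651)) (BT.node 1652 (BT.leaf cJ1652) (BT.leaf cJ1653))))) (BT.node 1661 (BT.node 1657 (BT.node 1655 (BT.node 1654 (BT.leaf cJ1654) (BT.leaf cJ1655)) (BT.node 1656 (BT.leaf cJ1656) (BT.leaf cJ1657))) (BT.node 1659 (BT.node 1658 (BT.leaf cJ1658) (BT.leaf cJ1659)) (BT.node 1660 (BT.leaf cJ1660) (BT.leaf cJ1661)))) (BT.node 1665 (BT.node 1663 (BT.node 1662 (BT.leaf cJ1662) (BT.leaf cJ1663)) (BT.node 1664 (BT.leaf cJ1664) (BT.leaf cJ1665))) (BT.node 1667 (BT.node 1666 (BT.leaf cJ1666) (BT.leaf cJ1667)) (BT.node 1668 (BT.leaf cJ1668) (BT.leaf cJ1669)))))) (BT.node 1685 (BT.node 1677 (BT.node 1673 (BT.node 1671 (BT.node 1670 (BT.leaf cJ1670) (BT.leaf cJ1671)) (BT.node 1672 (BT.leaf cJ1672) (BT.leaf cJ1673))) (BT.node 1675 (BT.node 1674 (BT.leaf cJ1674) (BT.leaf cJ1675)) (BT.node 1676 (BT.leaf cJ1676) (BT.leaf cJ1677)))) (BT.node 1681 (BT.node 1679 (BT.node 1678 (BT.leaf cJ1678) (BT.leaf cJ1679)) (BT.node 1680 (BT.leaf cJ1680) (BT.leaf cJ1681))) (BT.node 1683 (BT.node 1682 (BT.leaf cJ1682) (BT.leaf cJ1683)) (BT.node 1684 (BT.leaf cJ1684) (BT.leaf cJ1685))))) (BT.node 1693 (BT.node 1689 (BT.node 1687 (BT.node 1686 (BT.leaf cJ1686) (BT.leaf cJ1687)) (BT.node 1688 (BT.leaf cJ1688) (BT.leaf cJ1689))) (BT.node 1691 (BT.node 1690 (BT.leaf cJ1690) (BT.leaf cJ1691)) (BT.node 1692 (BT.leaf cJ1692) (BT.leaf cJ1693)))) (BT.node 1697 (BT.node 1695 (BT.node 1694 (BT.leaf cJ1694) (BT.leaf cJ1695)) (BT.node 1696 (BT.leaf cJ1696) (BT.leaf cJ1697))) (BT.node 1699 (BT.node 1698 (BT.leaf cJ1698) (BT.leaf cJ1699)) (BT.leaf cJ1700)))))) (BT.node 1732 (BT.node 1716 (BT.node 1708 (BT.node 1704 (BT.node 1702 (BT.node 1701 (BT.leaf cJ1701) (BT.leaf cJ1702)) (BT.node 1703 (BT.leaf cJ1703) (BT.leaf cJ1704))) (BT.node 1706 (BT.node 1705 (BT.leaf cJ1705) (BT.leaf cJ1706)) (BT.node 1707 (BT.leaf cJ1707) (BT.leaf cJ1708)))) (BT.node 1712 (BT.node 1710 (BT.node 1709 (BT.leaf cJ1709) (BT.leaf cJ1710)) (BT.node 1711 (BT.leaf cJ1711) (BT.leaf cJ1712))) (BT.node 1714 (BT.node 1713 (BT.leaf cJ1713) (BT.leaf cJ1714)) (BT.node 1715 (BT.leaf cJ1715) (BT.leaf cJ1716))))) (BT.node 1724 (BT.node 1720 (BT.node 1718 (BT.node 1717 (BT.leaf cJ1717) (BT.leaf cJ1718)) (BT.node 1719 (BT.leaf cJ1719) (BT.leaf cJ1720))) (BT.node 1722 (BT.node 1721 (BT.leaf cJ1721) (BT.leaf cJ1722)) (BT.node 1723 (BT.leaf cJ1723) (BT.leaf cJ1724)))) (BT.node 1728 (BT.node 1726 (BT.node 1725 (BT.leaf cJ1725) (BT.leaf cJ1726)) (BT.node 1727 (BT.leaf cJ1727) (BT.leaf cJ1728))) (BT.node 1730 (BT.node 1729 (BT.leaf cJ1729) (BT.leaf cJ1730)) (BT.node 1731 (BT.leaf cJ1731) (BT.leaf cJ1732)))))) (BT.node 1748 (BT.node 1740 (BT.node 1736 (BT.node 1734 (BT.node 1733 (BT.leaf cJ1733) (BT.leaf cJ1734)) (BT.node 1735 (BT.leaf cJ1735) (BT.leaf cJ1736))) (BT.node 1738 (BT.node 1737 (BT.leaf cJ1737) (BT.leaf cJ1738)) (BT.node 1739 (BT.leaf cJ1739) (BT.leaf cJ1740)))) (BT.node 1744 (BT.node 1742 (BT.node 1741 (BT.leaf cJ1741) (BT.leaf cJ1742)) (BT.node 1743 (BT.leaf cJ1743) (BT.leaf cJ1744))) (BT.node 1746 (BT.node 1745 (BT.leaf cJ1745) (BT.leaf cJ1746)) (BT.node 1747 (BT.leaf cJ1747) (BT.leaf cJ1748))))) (BT.node 1756 (BT.node 1752 (BT.node 1750 (BT.node 1749 (BT.leaf cJ1749) (BT.leaf cJ1750)) (BT.node 1751 (BT.leaf cJ1751) (BT.leaf cJ1752))) (BT.node 1754 (BT.node 1753 (BT.leaf cJ1753) (BT.leaf cJ1754)) (BT.node 1755 (BT.leaf cJ1755) (BT.leaf cJ1756)))) (BT.node 1760 (BT.node 1758 (BT.node 1757 (BT.leaf cJ1757) (BT.leaf cJ1758)) (BT.node 1759 (BT.leaf cJ1759) (BT.leaf cJ1760))) (BT.node 1762 (BT.node 1761 (BT.leaf cJ1761) (BT.leaf cJ1762)) (BT.leaf cJ1763)))))))) (BT.node 1889 (BT.node 1826 (BT.node 1795 (BT.node 1779 (BT.node 1771 (BT.node 1767 (BT.node 1765 (BT.node 1764 (BT.leaf cJ1764) (BT.leaf cJ1765)) (BT.node 1766 (BT.leaf cJ1766) (BT.leaf cJ1767))) (BT.node 1769 (BT.node 1768 (BT.leaf cJ1768) (BT.leaf cJ1769)) (BT.node 1770 (BT.leaf cJ1770) (BT.leaf cJ1771)))) (BT.node 1775 (BT.node 1773 (BT.node 1772 (BT.leaf cJ1772) (BT.leaf cJ1773)) (BT.node 1774 (BT.leaf cJ1774) (BT.leaf cJ1775))) (BT.node 1777 (BT.node 1776 (BT.leaf cJ1776) (BT.leaf cJ1777)) (BT.node 1778 (BT.leaf cJ1778) (BT.leaf cJ1779))))) (BT.node 1787 (BT.node 1783 (BT.node 1781 (BT.node 1780 (BT.leaf cJ1780) (BT.leaf cJ1781)) (BT.node 1782 (BT.leaf cJ1782) (BT.leaf cJ1783))) (BT.node 1785 (BT.node 1784 (BT.leaf cJ1784) (BT.leaf cJ1785)) (BT.node 1786 (BT.leaf cJ1786) (BT.leaf cJ1787)))) (BT.node 1791 (BT.node 1789 (BT.node 1788 (BT.leaf cJ1788) (BT.leaf cJ1789)) (BT.node 1790 (BT.leaf cJ1790) (BT.leaf cJ1791))) (BT.node 1793 (BT.node 1792 (BT.leaf cJ1792) (BT.leaf cJ1793)) (BT.node 1794 (BT.leaf cJ1794) (BT.leaf cJ1795)))))) (BT.node 1811 (BT.node 1803 (BT.node 1799 (BT.node 1797 (BT.node 1796 (BT.leaf cJ1796) (BT.leaf cJ1797)) (BT.node 1798 (BT.leaf cJ1798) (BT.leaf cJ1799))) (BT.node 1801 (BT.node 1800 (BT.leaf cJ1800) (BT.leaf cJ1801)) (BT.node 1802 (BT.leaf cJ1802) (BT.leaf cJ1803)))) (BT.node 1807 (BT.node 1805 (BT.node 1804 (BT.leaf cJ1804) (BT.leaf cJ1805)) (BT.node 1806 (BT.leaf cJ1806) (BT.leaf cJ1807))) (BT.node 1809 (BT.node 1808 (BT.leaf cJ1808) (BT.leaf cJ1809)) (BT.node 1810 (BT.leaf cJ1810) (BT.leaf cJ1811))))) (BT.node 1819 (BT.node 1815 (BT.node 1813 (BT.node 1812 (BT.leaf cJ1812) (BT.leaf cJ1813)) (BT.node 1814 (BT.leaf cJ1814) (BT.leaf cJ1815))) (BT.node 1817 (BT.node 1816 (BT.leaf cJ1816) (BT.leaf cJ1817)) (BT.node 1818 (BT.leaf cJ1818) (BT.leaf cJ1819)))) (BT.node 1823 (BT.node 1821 (BT.node 1820 (BT.leaf cJ1820) (BT.leaf cJ1821)) (BT.node 1822 (BT.leaf cJ1822) (BT.leaf cJ1823))) (BT.node 1825 (BT.node 1824 (BT.leaf cJ1824) (BT.leaf cJ1825)) (BT.leaf cJ1826)))))) (BT.node 1858 (BT.node 1842 (BT.node 1834 (BT.node 1830 (BT.node 1828 (BT.node 1827 (BT.leaf cJ1827) (BT.leaf cJ1828)) (BT.node 1829 (BT.leaf cJ1829) (BT.leaf cJ1830))) (BT.node 1832 (BT.node 1831 (BT.leaf cJ1831) (BT.leaf cJ1832)) (BT.node 1833 (BT.leaf cJ1833) (BT.leaf cJ1834)))) (BT.node 1838 (BT.node 1836 (BT.node 1835 (BT.leaf cJ1835) (BT.leaf cJ1836)) (BT.node 1837 (BT.leaf cJ1837) (BT.leaf cJ1838))) (BT.node 1840 (BT.node 1839 (BT.leaf cJ1839) (BT.leaf cJ1840)) (BT.node 1841 (BT.leaf cJ1841) (BT.leaf cJ1842))))) (BT.node 1850 (BT.node 1846 (BT.node 1844 (BT.node 1843 (BT.leaf cJ1843) (BT.leaf cJ1844)) (BT.node 1845 (BT.leaf cJ1845) (BT.leaf cJ1846))) (BT.node 1848 (BT.node 1847 (BT.leaf cJ1847) (BT.leaf cJ1848)) (BT.node 1849 (BT.leaf cJ1849) (BT.leaf cJ1850)))) (BT.node 1854 (BT.node 1852 (BT.node 1851 (BT.leaf cJ1851) (BT.leaf cJ1852)) (BT.node 1853 (BT.leaf cJ1853) (BT.leaf cJ1854))) (BT.node 1856 (BT.node 1855 (BT.leaf cJ1855) (BT.leaf cJ1856)) (BT.node 1857 (BT.leaf cJ1857) (BT.leaf cJ1858)))))) (BT.node 1874 (BT.node 1866 (BT.node 1862 (BT.node 1860 (BT.node 1859 (BT.leaf cJ1859) (BT.leaf cJ1860)) (BT.node 1861 (BT.leaf cJ1861) (BT.leaf cJ1862))) (BT.node 1864 (BT.node 1863 (BT.leaf cJ1863) (BT.leaf cJ1864)) (BT.node 1865 (BT.leaf cJ1865) (BT.leaf cJ1866)))) (BT.node 1870 (BT.node 1868 (BT.node 1867 (BT.leaf cJ1867) (BT.leaf cJ1868)) (BT.node 1869 (BT.leaf cJ1869) (BT.leaf cJ1870))) (BT.node 1872 (BT.node 1871 (BT.leaf cJ1871) (BT.leaf cJ1872)) (BT.node 1873 (BT.leaf cJ1873) (BT.leaf cJ1874))))) (BT.node 1882 (BT.node 1878 (BT.node 1876 (BT.node 1875 (BT.leaf cJ1875) (BT.leaf cJ1876)) (BT.node 1877 (BT.leaf cJ1877) (BT.leaf cJ1878))) (BT.node 1880 (BT.node 1879 (BT.leaf cJ1879) (BT.leaf cJ1880)) (BT.node 1881 (BT.leaf cJ1881) (BT.leaf cJ1882)))) (BT.node 1886 (BT.node 1884 (BT.node 1883 (BT.leaf cJ1883) (BT.leaf cJ1884)) (BT.node 1885 (BT.leaf cJ1885) (BT.leaf cJ1886))) (BT.node 1888 (BT.node 1887 (BT.leaf cJ1887) (BT.leaf cJ1888)) (BT.leaf cJ1889))))))) (BT.node 1952 (BT.node 1921 (BT.node 1905 (BT.node 1897 (BT.node 1893 (BT.node 1891 (BT.node 1890 (BT.leaf cJ1890) (BT.leaf cJ1891)) (BT.node 1892 (BT.leaf cJ1892) (BT.leaf cJ1893))) (BT.node 1895 (BT.node 1894 (BT.leaf cJ1894) (BT.leaf cJ1895)) (BT.node 1896 (BT.leaf cJ1896) (BT.leaf cJ1897)))) (BT.node 1901 (BT.node 1899 (BT.node 1898 (BT.leaf cJ1898) (BT.leaf cJ1899)) (BT.node 1900 (BT.leaf cJ1900) (BT.leaf cJ1901))) (BT.node 1903 (BT.node 1902 (BT.leaf cJ1902) (BT.leaf cJ1903)) (BT.node 1904 (BT.leaf cJ1904) (BT.leaf cJ1905))))) (BT.node 1913 (BT.node 1909 (BT.node 1907 (BT.node 1906 (BT.leaf cJ1906) (BT.leaf cJ1907)) (BT.node 1908 (BT.leaf cJ1908) (BT.leaf cJ1909))) (BT.node 1911 (BT.node 1910 (BT.leaf cJ1910) (BT.leaf cJ1911)) (BT.node 1912 (BT.leaf cJ1912) (BT.leaf cJ1913)))) (BT.node 1917 (BT.node 1915 (BT.node 1914 (BT.leaf cJ1914) (BT.leaf cJ1915)) (BT.node 1916 (BT.leaf cJ1916) (BT.leaf cJ1917))) (BT.node 1919 (BT.node 1918 (BT.leaf cJ1918) (BT.leaf cJ1919)) (BT.node 1920 (BT.leaf cJ1920) (BT.leaf cJ1921)))))) (BT.node 1937 (BT.node 1929 (BT.node 1925 (BT.node 1923 (BT.node 1922 (BT.leaf cJ1922) (BT.leaf cJ1923)) (BT.node 1924 (BT.leaf cJ1924) (BT.leaf cJ1925))) (BT.node 1927 (BT.node 1926 (BT.leaf cJ1926) (BT.leaf cJ1927)) (BT.node 1928 (BT.leaf cJ1928) (BT.leaf cJ1929)))) (BT.node 1933 (BT.node 1931 (BT.node 1930 (BT.leaf cJ1930) (BT.leaf cJ1931)) (BT.node 1932 (BT.leaf cJ1932) (BT.leaf cJ1933))) (BT.node 1935 (BT.node 1934 (BT.leaf cJ1934) (BT.leaf cJ1935)) (BT.node 1936 (BT.leaf cJ1936) (BT.leaf cJ1937))))) (BT.node 1945 (BT.node 1941 (BT.node 1939 (BT.node 1938 (BT.leaf cJ1938) (BT.leaf cJ1939)) (BT.node 1940 (BT.leaf cJ1940) (BT.leaf cJ1941))) (BT.node 1943 (BT.node 1942 (BT.leaf cJ1942) (BT.leaf cJ1943)) (BT.node 1944 (BT.leaf cJ1944) (BT.leaf cJ1945)))) (BT.node 1949 (BT.node 1947 (BT.node 1946 (BT.leaf cJ1946) (BT.leaf cJ1947)) (BT.node 1948 (BT.leaf cJ1948) (BT.leaf cJ1949))) (BT.node 1951 (BT.node 1950 (BT.leaf cJ1950) (BT.leaf cJ1951)) (BT.leaf cJ1952)))))) (BT.node 1984 (BT.node 1968 (BT.node 1960 (BT.node 1956 (BT.node 1954 (BT.node 1953 (BT.leaf cJ1953) (BT.leaf cJ1954)) (BT.node 1955 (BT.leaf cJ1955) (BT.leaf cJ1956))) (BT.node 1958 (BT.node 1957 (BT.leaf cJ1957) (BT.leaf cJ1958)) (BT.node 1959 (BT.leaf cJ1959) (BT.leaf cJ1960)))) (BT.node 1964 (BT.node 1962 (BT.node 1961 (BT.leaf cJ1961) (BT.leaf cJ1962)) (BT.node 1963 (BT.leaf cJ1963) (BT.leaf cJ1964))) (BT.node 1966 (BT.node 1965 (BT.leaf cJ1965) (BT.leaf cJ1966)) (BT.node 1967 (BT.leaf cJ1967) (BT.leaf cJ1968))))) (BT.node 1976 (BT.node 1972 (BT.node 1970 (BT.node 1969 (BT.leaf cJ1969) (BT.leaf cJ1970)) (BT.node 1971 (BT.leaf cJ1971) (BT.leaf cJ1972))) (BT.node 1974 (BT.node 1973 (BT.leaf cJ1973) (BT.leaf cJ1974)) (BT.node 1975 (BT.leaf cJ1975) (BT.leaf cJ1976)))) (BT.node 1980 (BT.node 1978 (BT.node 1977 (BT.leaf cJ1977) (BT.leaf cJ1978)) (BT.node 1979 (BT.leaf cJ1979) (BT.leaf cJ1980))) (BT.node 1982 (BT.node 1981 (BT.leaf cJ1981) (BT.leaf cJ1982)) (BT.node 1983 (BT.leaf cJ1983) (BT.leaf cJ1984)))))) (BT.node 2000 (BT.node 1992 (BT.node 1988 (BT.node 1986 (BT.node 1985 (BT.leaf cJ1985) (BT.leaf cJ1986)) (BT.node 1987 (BT.leaf cJ1987) (BT.leaf cJ1988))) (BT.node 1990 (BT.node 1989 (BT.leaf cJ1989) (BT.leaf cJ1990)) (BT.node 1991 (BT.leaf cJ1991) (BT.leaf cJ1992)))) (BT.node 1996 (BT.node 1994 (BT.node 1993 (BT.leaf cJ1993) (BT.leaf cJ1994)) (BT.node 1995 (BT.leaf cJ1995) (BT.leaf cJ1996))) (BT.node 1998 (BT.node 1997 (BT.leaf cJ1997) (BT.leaf cJ1998)) (BT.node 1999 (BT.leaf cJ1999) (BT.leaf cJ2000))))) (BT.node 2008 (BT.node 2004 (BT.node 2002 (BT.node 2001 (BT.leaf cJ2001) (BT.leaf cJ2002)) (BT.node 2003 (BT.leaf cJ2003) (BT.leaf cJ2004))) (BT.node 2006 (BT.node 2005 (BT.leaf cJ2005) (BT.leaf cJ2006)) (BT.node 2007 (BT.leaf cJ2007) (BT.leaf cJ2008)))) (BT.node 2012 (BT.node 2010 (BT.node 2009 (BT.leaf cJ2009) (BT.leaf cJ2010)) (BT.node 2011 (BT.leaf cJ2011) (BT.leaf cJ2012))) (BT.node 2014 (BT.node 2013 (BT.leaf cJ2013) (BT.leaf cJ2014)) (BT.leaf cJ2015))))))))))) (BT.node 3023 (BT.node 2519 (BT.node 2267 (BT.node 2141 (BT.node 2078 (BT.node 2047 (BT.node 2031 (BT.node 2023 (BT.node 2019 (BT.node 2017 (BT.node 2016 (BT.leaf cJ2016) (BT.leaf cJ2017)) (BT.node 2018 (BT.leaf cJ2018) (BT.leaf cJ2019))) (BT.node 2021 (BT.node 2020 (BT.leaf cJ2020) (BT.leaf cJ2021)) (BT.node 2022 (BT.leaf cJ2022) (BT.leaf cJ2023)))) (BT.node 2027 (BT.node 2025 (BT.node 2024 (BT.leaf cJ2024) (BT.leaf cJ2025)) (BT.node 2026 (BT.leaf cJ2026) (BT.leaf cJ2027))) (BT.node 2029 (BT.node 2028 (BT.leaf cJ2028) (BT.leaf cJ2029)) (BT.node 2030 (BT.leaf cJ2030) (BT.leaf cJ2031))))) (BT.node 2039 (BT.node 2035 (BT.node 2033 (BT.node 2032 (BT.leaf cJ2032) (BT.leaf cJ2033)) (BT.node 2034 (BT.leaf cJ2034) (BT.leaf cJ2035))) (BT.node 2037 (BT.node 2036 (BT.leaf cJ2036) (BT.leaf cJ2037)) (BT.node 2038 (BT.leaf cJ2038) (BT.leaf cJ2039)))) (BT.node 2043 (BT.node 2041 (BT.node 2040 (BT.leaf cJ2040) (BT.leaf cJ2041)) (BT.node 2042 (BT.leaf cJ2042) (BT.leaf cJ2043))) (BT.node 2045 (BT.node 2044 (BT.leaf cJ2044) (BT.leaf cJ2045)) (BT.node 2046 (BT.leaf cJ2046) (BT.leaf cJ2047)))))) (BT.node 2063 (BT.node 2055 (BT.node 2051 (BT.node 2049 (BT.node 2048 (BT.leaf cJ2048) (BT.leaf cJ2049)) (BT.node 2050 (BT.leaf cJ2050) (BT.leaf cJ2051))) (BT.node 2053 (BT.node 2052 (BT.leaf cJ2052) (BT.leaf cJ2053)) (BT.node 2054 (BT.leaf cJ2054) (BT.leaf cJ2055)))) (BT.node 2059 (BT.node 2057 (BT.node 2056 (BT.leaf cJ2056) (BT.leaf cJ2057)) (BT.node 2058 (BT.leaf cJ2058) (BT.leaf cJ2059))) (BT.node 2061 (BT.node 2060 (BT.leaf cJ2060) (BT.leaf cJ2061)) (BT.node 2062 (BT.leaf cJ2062) (BT.leaf cJ2063))))) (BT.node 2071 (BT.node 2067 (BT.node 2065 (BT.node 2064 (BT.leaf cJ2064) (BT.leaf cJ2065)) (BT.node 2066 (BT.leaf cJ2066) (BT.leaf cJ2067))) (BT.node 2069 (BT.node 2068 (BT.leaf cJ2068) (BT.leaf cJ2069)) (BT.node 2070 (BT.leaf cJ2070) (BT.leaf cJ2071)))) (BT.node 2075 (BT.node 2073 (BT.node 2072 (BT.leaf cJ2072) (BT.leaf cJ2073)) (BT.node 2074 (BT.leaf cJ2074) (BT.leaf cJ2075))) (BT.node 2077 (BT.node 2076 (BT.leaf cJ2076) (BT.leaf cJ2077)) (BT.leaf cJ2078)))))) (BT.node 2110 (BT.node 2094 (BT.node 2086 (BT.node 2082 (BT.node 2080 (BT.node 2079 (BT.leaf cJ2079) (BT.leaf cJ2080)) (BT.node 2081 (BT.leaf cJ2081) (BT.leaf cJ2082))) (BT.node 2084 (BT.node 2083 (BT.leaf cJ2083) (BT.leaf cJ2084)) (BT.node 2085 (BT.leaf cJ2085) (BT.leaf cJ2086)))) (BT.node 2090 (BT.node 2088 (BT.node 2087 (BT.leaf cJ2087) (BT.leaf cJ2088)) (BT.node 2089 (BT.leaf cJ2089) (BT.leaf cJ2090))) (BT.node 2092 (BT.node 2091 (BT.leaf cJ2091) (BT.leaf cJ2092)) (BT.node 2093 (BT.leaf cJ2093) (BT.leaf cJ2094))))) (BT.node 2102 (BT.node 2098 (BT.node 2096 (BT.node 2095 (BT.leaf cJ2095) (BT.leaf cJ2096)) (BT.node 2097 (BT.leaf cJ2097) (BT.leaf cJ2098))) (BT.node 2100 (BT.node 2099 (BT.leaf cJ2099) (BT.leaf cJ2100)) (BT.node 2101 (BT.leaf cJ2101) (BT.leaf cJ2102)))) (BT.node 2106 (BT.node 2104 (BT.node 2103 (BT.leaf cJ2103) (BT.leaf cJ2104)) (BT.node 2105 (BT.leaf cJ2105) (BT.leaf cJ2106))) (BT.node 2108 (BT.node 2107 (BT.leaf cJ2107) (BT.leaf cJ2108)) (BT.node 2109 (BT.leaf cJ2109) (BT.leaf cJ2110)))))) (BT.node 2126 (BT.node 2118 (BT.node 2114 (BT.node 2112 (BT.node 2111 (BT.leaf cJ2111) (BT.leaf cJ2112)) (BT.node 2113 (BT.leaf cJ2113) (BT.leaf cJ2114))) (BT.node 2116 (BT.node 2115 (BT.leaf cJ2115) (BT.leaf cJ2116)) (BT.node 2117 (BT.leaf cJ2117) (BT.leaf cJ2118)))) (BT.node 2122 (BT.node 2120 (BT.node 2119 (BT.leaf cJ2119) (BT.leaf cJ2120)) (BT.node 2121 (BT.leaf cJ2121) (BT.leaf cJ2122))) (BT.node 2124 (BT.node 2123 (BT.leaf cJ2123) (BT.leaf cJ2124)) (BT.node 2125 (BT.leaf cJ2125) (BT.leaf cJ2126))))) (BT.node 2134 (BT.node 2130 (BT.node 2128 (BT.node 2127 (BT.leaf cJ2127) (BT.leaf cJ2128)) (BT.node 2129 (BT.leaf cJ2129) (BT.leaf cJ2130))) (BT.node 2132 (BT.node 2131 (BT.leaf cJ2131) (BT.leaf cJ2132)) (BT.node 2133 (BT.leaf cJ2133) (BT.leaf cJ2134)))) (BT.node 2138 (BT.node 2136 (BT.node 2135 (BT.leaf cJ2135) (BT.leaf cJ2136)) (BT.node 2137 (BT.leaf cJ2137) (BT.leaf cJ2138))) (BT.node 2140 (BT.node 2139 (BT.leaf cJ2139) (BT.leaf cJ2140)) (BT.leaf cJ2141))))))) (BT.node 2204 (BT.node 2173 (BT.node 2157 (BT.node 2149 (BT.node 2145 (BT.node 2143 (BT.node 2142 (BT.leaf cJ2142) (BT.leaf cJ2143)) (BT.node 2144 (BT.leaf cJ2144) (BT.leaf cJ2145))) (BT.node 2147 (BT.node 2146 (BT.leaf cJ2146) (BT.leaf cJ2147)) (BT.node 2148 (BT.leaf cJ2148) (BT.leaf cJ2149)))) (BT.node 2153 (BT.node 2151 (BT.node 2150 (BT.leaf cJ2150) (BT.leaf cJ2151)) (BT.node 2152 (BT.leaf cJ2152) (BT.leaf cJ2153))) (BT.node 2155 (BT.node 2154 (BT.leaf cJ2154) (BT.leaf cJ2155)) (BT.node 2156 (BT.leaf cJ2156) (BT.leaf cJ2157))))) (BT.node 2165 (BT.node 2161 (BT.node 2159 (BT.node 2158 (BT.leaf cJ2158) (BT.leaf cJ2159)) (BT.node 2160 (BT.leaf cJ2160) (BT.leaf cJ2161))) (BT.node 2163 (BT.node 2162 (BT.leaf cJ2162) (BT.leaf cJ2163)) (BT.node 2164 (BT.leaf cJ2164) (BT.leaf cJ2165)))) (BT.node 2169 (BT.node 2167 (BT.node 2166 (BT.leaf cJ2166) (BT.leaf cJ2167)) (BT.node 2168 (BT.leaf cJ2168) (BT.leaf cJ2169))) (BT.node 2171 (BT.node 2170 (BT.leaf cJ2170) (BT.leaf cJ2171)) (BT.node 2172 (BT.leaf cJ2172) (BT.leaf cJ2173)))))) (BT.node 2189 (BT.node 2181 (BT.node 2177 (BT.node 2175 (BT.node 2174 (BT.leaf cJ2174) (BT.leaf cJ2175)) (BT.node 2176 (BT.leaf cJ2176) (BT.leaf cJ2177))) (BT.node 2179 (BT.node 2178 (BT.leaf cJ2178) (BT.leaf cJ2179)) (BT.node 2180 (BT.leaf cJ2180) (BT.leaf cJ2181)))) (BT.node 2185 (BT.node 2183 (BT.node 2182 (BT.leaf cJ2182) (BT.leaf cJ2183)) (BT.node 2184 (BT.leaf cJ2184) (BT.leaf cJ2185))) (BT.node 2187 (BT.node 2186 (BT.leaf cJ2186) (BT.leaf cJ2187)) (BT.node 2188 (BT.leaf cJ2188) (BT.leaf cJ2189))))) (BT.node 2197 (BT.node 2193 (BT.node 2191 (BT.node 2190 (BT.leaf cJ2190) (BT.leaf cJ2191)) (BT.node 2192 (BT.leaf cJ2192) (BT.leaf cJ2193))) (BT.node 2195 (BT.node 2194 (BT.leaf cJ2194) (BT.leaf cJ2195)) (BT.node 2196 (BT.leaf cJ2196) (BT.leaf cJ2197)))) (BT.node 2201 (BT.node 2199 (BT.node 2198 (BT.leaf cJ2198) (BT.leaf cJ2199)) (BT.node 2200 (BT.leaf cJ2200) (BT.leaf cJ2201))) (BT.node 2203 (BT.node 2202 (BT.leaf cJ2202) (BT.leaf cJ2203)) (BT.leaf cJ2204)))))) (BT.node 2236 (BT.node 2220 (BT.node 2212 (BT.node 2208 (BT.node 2206 (BT.node 2205 (BT.leaf cJ2205) (BT.leaf cJ2206)) (BT.node 2207 (BT.leaf cJ2207) (BT.leaf cJ2208))) (BT.node 2210 (BT.node 2209 (BT.leaf cJ2209) (BT.leaf cJ2210)) (BT.node 2211 (BT.leaf cJ2211) (BT.leaf cJ2212)))) (BT.node 2216 (BT.node 2214 (BT.node 2213 (BT.leaf cJ2213) (BT.leaf cJ2214)) (BT.node 2215 (BT.leaf cJ2215) (BT.leaf cJ2216))) (BT.node 2218 (BT.node 2217 (BT.leaf cJ2217) (BT.leaf cJ2218)) (BT.node 2219 (BT.leaf cJ2219) (BT.leaf cJ2220))))) (BT.node 2228 (BT.node 2224 (BT.node 2222 (BT.node 2221 (BT.leaf cJ2221) (BT.leaf cJ2222)) (BT.node 2223 (BT.leaf cJ2223) (BT.leaf cJ2224))) (BT.node 2226 (BT.node 2225 (BT.leaf cJ2225) (BT.leaf cJ2226)) (BT.node 2227 (BT.leaf cJ2227) (BT.leaf cJ2228)))) (BT.node 2232 (BT.node 2230 (BT.node 2229 (BT.leaf cJ2229) (BT.leaf cJ2230)) (BT.node 2231 (BT.leaf cJ2231) (BT.leaf cJ2232))) (BT.node 2234 (BT.node 2233 (BT.leaf cJ2233) (BT.leaf cJ2234)) (BT.node 2235 (BT.leaf cJ2235) (BT.leaf cJ2236)))))) (BT.node 2252 (BT.node 2244 (BT.node 2240 (BT.node 2238 (BT.node 2237 (BT.leaf cJ2237) (BT.leaf cJ2238)) (BT.node 2239 (BT.leaf cJ2239) (BT.leaf cJ2240))) (BT.node 2242 (BT.node 2241 (BT.leaf cJ2241) (BT.leaf cJ2242)) (BT.node 2243 (BT.leaf cJ2243) (BT.leaf cJ2244)))) (BT.node 2248 (BT.node 2246 (BT.node 2245 (BT.leaf cJ2245) (BT.leaf cJ2246)) (BT.node 2247 (BT.leaf cJ2247) (BT.leaf cJ2248))) (BT.node 2250 (BT.node 2249 (BT.leaf cJ2249) (BT.leaf cJ2250)) (BT.node 2251 (BT.leaf cJ2251) (BT.leaf cJ2252))))) (BT.node 2260 (BT.node 2256 (BT.node 2254 (BT.node 2253 (BT.leaf cJ2253) (BT.leaf cJ2254)) (BT.node 2255 (BT.leaf cJ2255) (BT.leaf cJ2256))) (BT.node 2258 (BT.node 2257 (BT.leaf cJ2257) (BT.leaf cJ2258)) (BT.node 2259 (BT.leaf cJ2259) (BT.leaf cJ2260)))) (BT.node 2264 (BT.node 2262 (BT.node 2261 (BT.leaf cJ2261) (BT.leaf cJ2262)) (BT.node 2263 (BT.leaf cJ2263) (BT.leaf cJ2264))) (BT.node 2266 (BT.node 2265 (BT.leaf cJ2265) (BT.leaf cJ2266)) (BT.leaf cJ2267)))))))) (BT.node 2393 (BT.node 2330 (BT.node 2299 (BT.node 2283 (BT.node 2275 (BT.node 2271 (BT.node 2269 (BT.node 2268 (BT.leaf cJ2268) (BT.leaf cJ2269)) (BT.node 2270 (BT.leaf cJ2270) (BT.leaf cJ2271))) (BT.node 2273 (BT.node 2272 (BT.leaf cJ2272) (BT.leaf cJ2273)) (BT.node 2274 (BT.leaf cJ2274) (BT.leaf cJ2275)))) (BT.node 2279 (BT.node 2277 (BT.node 2276 (BT.leaf cJ2276) (BT.leaf cJ2277)) (BT.node 2278 (BT.leaf cJ2278) (BT.leaf cJ2279))) (BT.node 2281 (BT.node 2280 (BT.leaf cJ2280) (BT.leaf cJ2281)) (BT.node 2282 (BT.leaf cJ2282) (BT.leaf cJ2283))))) (BT.node 2291 (BT.node 2287 (BT.node 2285 (BT.node 2284 (BT.leaf cJ2284) (BT.leaf cJ2285)) (BT.node 2286 (BT.leaf cJ2286) (BT.leaf cJ2287))) (BT.node 2289 (BT.node 2288 (BT.leaf cJ2288) (BT.leaf cJ2289)) (BT.node 2290 (BT.leaf cJ2290) (BT.leaf cJ2291)))) (BT.node 2295 (BT.node 2293 (BT.node 2292 (BT.leaf cJ2292) (BT.leaf cJ2293)) (BT.node 2294 (BT.leaf cJ2294) (BT.leaf cJ2295))) (BT.node 2297 (BT.node 2296 (BT.leaf cJ2296) (BT.leaf cJ2297)) (BT.node 2298 (BT.leaf cJ2298) (BT.leaf cJ2299)))))) (BT.node 2315 (BT.node 2307 (BT.node 2303 (BT.node 2301 (BT.node 2300 (BT.leaf cJ2300) (BT.leaf cJ2301)) (BT.node 2302 (BT.leaf cJ2302) (BT.leaf cJ2303))) (BT.node 2305 (BT.node 2304 (BT.leaf cJ2304) (BT.leaf cJ2305)) (BT.node 2306 (BT.leaf cJ2306) (BT.leaf cJ2307)))) (BT.node 2311 (BT.node 2309 (BT.node 2308 (BT.leaf cJ2308) (BT.leaf cJ2309)) (BT.node 2310 (BT.leaf cJ2310) (BT.leaf cJ2311))) (BT.node 2313 (BT.node 2312 (BT.leaf cJ2312) (BT.leaf cJ2313)) (BT.node 2314 (BT.leaf cJ2314) (BT.leaf cJ2315))))) (BT.node 2323 (BT.node 2319 (BT.node 2317 (BT.node 2316 (BT.leaf cJ2316) (BT.leaf cJ2317)) (BT.node 2318 (BT.leaf cJ2318) (BT.leaf cJ2319))) (BT.node 2321 (BT.node 2320 (BT.leaf cJ2320) (BT.leaf cJ2321)) (BT.node 2322 (BT.leaf cJ2322) (BT.leaf cJ2323)))) (BT.node 2327 (BT.node 2325 (BT.node 2324 (BT.leaf cJ2324) (BT.leaf cJ2325)) (BT.node 2326 (BT.leaf cJ2326) (BT.leaf cJ2327))) (BT.node 2329 (BT.node 2328 (BT.leaf cJ2328) (BT.leaf cJ2329)) (BT.leaf cJ2330)))))) (BT.node 2362 (BT.node 2346 (BT.node 2338 (BT.node 2334 (BT.node 2332 (BT.node 2331 (BT.leaf cJ2331) (BT.leaf cJ2332)) (BT.node 2333 (BT.leaf cJ2333) (BT.leaf cJ2334))) (BT.node 2336 (BT.node 2335 (BT.leaf cJ2335) (BT.leaf cJ2336)) (BT.node 2337 (BT.leaf cJ2337) (BT.leaf cJ2338)))) (BT.node 2342 (BT.node 2340 (BT.node 2339 (BT.leaf cJ2339) (BT.leaf cJ2340)) (BT.node 2341 (BT.leaf cJ2341) (BT.leaf cJ2342))) (BT.node 2344 (BT.node 2343 (BT.leaf cJ2343) (BT.leaf cJ2344)) (BT.node 2345 (BT.leaf cJ2345) (BT.leaf cJ2346))))) (BT.node 2354 (BT.node 2350 (BT.node 2348 (BT.node 2347 (BT.leaf cJ2347) (BT.leaf cJ2348)) (BT.node 2349 (BT.leaf cJ2349) (BT.leaf cJ2350))) (BT.node 2352 (BT.node 2351 (BT.leaf cJ2351) (BT.leaf cJ2352)) (BT.node 2353 (BT.leaf cJ2353) (BT.leaf cJ2354)))) (BT.node 2358 (BT.node 2356 (BT.node 2355 (BT.leaf cJ2355) (BT.leaf cJ2356)) (BT.node 2357 (BT.leaf cJ2357) (BT.leaf cJ2358))) (BT.node 2360 (BT.node 2359 (BT.leaf cJ2359) (BT.leaf cJ2360)) (BT.node 2361 (BT.leaf cJ2361) (BT.leaf cJ2362)))))) (BT.node 2378 (BT.node 2370 (BT.node 2366 (BT.node 2364 (BT.node 2363 (BT.leaf cJ2363) (BT.leaf cJ2364)) (BT.node 2365 (BT.leaf cJ2365) (BT.leaf cJ2366))) (BT.node 2368 (BT.node 2367 (BT.leaf cJ2367) (BT.leaf cJ2368)) (BT.node 2369 (BT.leaf cJ2369) (BT.leaf cJ2370)))) (BT.node 2374 (BT.node 2372 (BT.node 2371 (BT.leaf cJ2371) (BT.leaf cJ2372)) (BT.node 2373 (BT.leaf cJ2373) (BT.leaf cJ2374))) (BT.node 2376 (BT.node 2375 (BT.leaf cJ2375) (BT.leaf cJ2376)) (BT.node 2377 (BT.leaf cJ2377) (BT.leaf cJ2378))))) (BT.node 2386 (BT.node 2382 (BT.node 2380 (BT.node 2379 (BT.leaf cJ2379) (BT.leaf cJ2380)) (BT.node 2381 (BT.leaf cJ2381) (BT.leaf cJ2382))) (BT.node 2384 (BT.node 2383 (BT.leaf cJ2383) (BT.leaf cJ2384)) (BT.node 2385 (BT.leaf cJ2385) (BT.leaf cJ2386)))) (BT.node 2390 (BT.node 2388 (BT.node 2387 (BT.leaf cJ2387) (BT.leaf cJ2388)) (BT.node 2389 (BT.leaf cJ2389) (BT.leaf cJ2390))) (BT.node 2392 (BT.node 2391 (BT.leaf cJ2391) (BT.leaf cJ2392)) (BT.leaf cJ2393))))))) (BT.node 2456 (BT.node 2425 (BT.node 2409 (BT.node 2401 (BT.node 2397 (BT.node 2395 (BT.node 2394 (BT.leaf cJ2394) (BT.leaf cJ2395)) (BT.node 2396 (BT.leaf cJ2396) (BT.leaf cJ2397))) (BT.node 2399 (BT.node 2398 (BT.leaf cJ2398) (BT.leaf cJ2399)) (BT.node 2400 (BT.leaf cJ2400) (BT.leaf cJ2401)))) (BT.node 2405 (BT.node 2403 (BT.node 2402 (BT.leaf cJ2402) (BT.leaf cJ2403)) (BT.node 2404 (BT.leaf cJ2404) (BT.leaf cJ2405))) (BT.node 2407 (BT.node 2406 (BT.leaf cJ2406) (BT.leaf cJ2407)) (BT.node 2408 (BT.leaf cJ2408) (BT.leaf cJ2409))))) (BT.node 2417 (BT.node 2413 (BT.node 2411 (BT.node 2410 (BT.leaf cJ2410) (BT.leaf cJ2411)) (BT.node 2412 (BT.leaf cJ2412) (BT.leaf cJ2413))) (BT.node 2415 (BT.node 2414 (BT.leaf cJ2414) (BT.leaf cJ2415)) (BT.node 2416 (BT.leaf cJ2416) (BT.leaf cJ2417)))) (BT.node 2421 (BT.node 2419 (BT.node 2418 (BT.leaf cJ2418) (BT.leaf cJ2419)) (BT.node 2420 (BT.leaf cJ2420) (BT.leaf cJ2421))) (BT.node 2423 (BT.node 2422 (BT.leaf cJ2422) (BT.leaf cJ2423)) (BT.node 2424 (BT.leaf cJ2424) (BT.leaf cJ2425)))))) (BT.node 2441 (BT.node 2433 (BT.node 2429 (BT.node 2427 (BT.node 2426 (BT.leaf cJ2426) (BT.leaf cJ2427)) (BT.node 2428 (BT.leaf cJ2428) (BT.leaf cJ2429))) (BT.node 2431 (BT.node 2430 (BT.leaf cJ2430) (BT.leaf cJ2431)) (BT.node 2432 (BT.leaf cJ2432) (BT.leaf cJ2433)))) (BT.node 2437 (BT.node 2435 (BT.node 2434 (BT.leaf cJ2434) (BT.leaf cJ2435)) (BT.node 2436 (BT.leaf cJ2436) (BT.leaf cJ2437))) (BT.node 2439 (BT.node 2438 (BT.leaf cJ2438) (BT.leaf cJ2439)) (BT.node 2440 (BT.leaf cJ2440) (BT.leaf cJ2441))))) (BT.node 2449 (BT.node 2445 (BT.node 2443 (BT.node 2442 (BT.leaf cJ2442) (BT.leaf cJ2443)) (BT.node 2444 (BT.leaf cJ2444) (BT.leaf cJ2445))) (BT.node 2447 (BT.node 2446 (BT.leaf cJ2446) (BT.leaf cJ2447)) (BT.node 2448 (BT.leaf cJ2448) (BT.leaf cJ2449)))) (BT.node 2453 (BT.node 2451 (BT.node 2450 (BT.leaf cJ2450) (BT.leaf cJ2451)) (BT.node 2452 (BT.leaf cJ2452) (BT.leaf cJ2453))) (BT.node 2455 (BT.node 2454 (BT.leaf cJ2454) (BT.leaf cJ2455)) (BT.leaf cJ2456)))))) (BT.node 2488 (BT.node 2472 (BT.node 2464 (BT.node 2460 (BT.node 2458 (BT.node 2457 (BT.leaf cJ2457) (BT.leaf cJ2458)) (BT.node 2459 (BT.leaf cJ2459) (BT.leaf cJ2460))) (BT.node 2462 (BT.node 2461 (BT.leaf cJ2461) (BT.leaf cJ2462)) (BT.node 2463 (BT.leaf cJ2463) (BT.leaf cJ2464)))) (BT.node 2468 (BT.node 2466 (BT.node 2465 (BT.leaf cJ2465) (BT.leaf cJ2466)) (BT.node 2467 (BT.leaf cJ2467) (BT.leaf cJ2468))) (BT.node 2470 (BT.node 2469 (BT.leaf cJ2469) (BT.leaf cJ2470)) (BT.node 2471 (BT.leaf cJ2471) (BT.leaf cJ2472))))) (BT.node 2480 (BT.node 2476 (BT.node 2474 (BT.node 2473 (BT.leaf cJ2473) (BT.leaf cJ2474)) (BT.node 2475 (BT.leaf cJ2475) (BT.leaf cJ2476))) (BT.node 2478 (BT.node 2477 (BT.leaf cJ2477) (BT.leaf cJ2478)) (BT.node 2479 (BT.leaf cJ2479) (BT.leaf cJ2480)))) (BT.node 2484 (BT.node 2482 (BT.node 2481 (BT.leaf cJ2481) (BT.leaf cJ2482)) (BT.node 2483 (BT.leaf cJ2483) (BT.leaf cJ2484))) (BT.node 2486 (BT.node 2485 (BT.leaf cJ2485) (BT.leaf cJ2486)) (BT.node 2487 (BT.leaf cJ2487) (BT.leaf cJ2488)))))) (BT.node 2504 (BT.node 2496 (BT.node 2492 (BT.node 2490 (BT.node 2489 (BT.leaf cJ2489) (BT.leaf cJ2490)) (BT.node 2491 (BT.leaf cJ2491) (BT.leaf cJ2492))) (BT.node 2494 (BT.node 2493 (BT.leaf cJ2493) (BT.leaf cJ2494)) (BT.node 2495 (BT.leaf cJ2495) (BT.leaf cJ2496)))) (BT.node 2500 (BT.node 2498 (BT.node 2497 (BT.leaf cJ2497) (BT.leaf cJ2498)) (BT.node 2499 (BT.leaf cJ2499) (BT.leaf cJ2500))) (BT.node 2502 (BT.node 2501 (BT.leaf cJ2501) (BT.leaf cJ2502)) (BT.node 2503 (BT.leaf cJ2503) (BT.leaf cJ2504))))) (BT.node 2512 (BT.node 2508 (BT.node 2506 (BT.node 2505 (BT.leaf cJ2505) (BT.leaf cJ2506)) (BT.node 2507 (BT.leaf cJ2507) (BT.leaf cJ2508))) (BT.node 2510 (BT.node 2509 (BT.leaf cJ2509) (BT.leaf cJ2510)) (BT.node 2511 (BT.leaf cJ2511) (BT.leaf cJ2512)))) (BT.node 2516 (BT.node 2514 (BT.node 2513 (BT.leaf cJ2513) (BT.leaf cJ2514)) (BT.node 2515 (BT.leaf cJ2515) (BT.leaf cJ2516))) (BT.node 2518 (BT.node 2517 (BT.leaf cJ2517) (BT.leaf cJ2518)) (BT.leaf cJ2519))))))))) (BT.node 2771 (BT.node 2645 (BT.node 2582 (BT.node 2551 (BT.node 2535 (BT.node 2527 (BT.node 2523 (BT.node 2521 (BT.node 2520 (BT.leaf cJ2520) (BT.leaf cJ2521)) (BT.node 2522 (BT.leaf cJ2522) (BT.leaf cJ2523))) (BT.node 2525 (BT.node 2524 (BT.leaf cJ2524) (BT.leaf cJ2525)) (BT.node 2526 (BT.leaf cJ2526) (BT.leaf cJ2527)))) (BT.node 2531 (BT.node 2529 (BT.node 2528 (BT.leaf cJ2528) (BT.leaf cJ2529)) (BT.node 2530 (BT.leaf cJ2530) (BT.leaf cJ2531))) (BT.node 2533 (BT.node 2532 (BT.leaf cJ2532) (BT.leaf cJ2533)) (BT.node 2534 (BT.leaf cJ2534) (BT.leaf cJ2535))))) (BT.node 2543 (BT.node 2539 (BT.node 2537 (BT.node 2536 (BT.leaf cJ2536) (BT.leaf cJ2537)) (BT.node 2538 (BT.leaf cJ2538) (BT.leaf cJ2539))) (BT.node 2541 (BT.node 2540 (BT.leaf cJ2540) (BT.leaf cJ2541)) (BT.node 2542 (BT.leaf cJ2542) (BT.leaf cJ2543)))) (BT.node 2547 (BT.node 2545 (BT.node 2544 (BT.leaf cJ2544) (BT.leaf cJ2545)) (BT.node 2546 (BT.leaf cJ2546) (BT.leaf cJ2547))) (BT.node 2549 (BT.node 2548 (BT.leaf cJ2548) (BT.leaf cJ2549)) (BT.node 2550 (BT.leaf cJ2550) (BT.leaf cJ2551)))))) (BT.node 2567 (BT.node 2559 (BT.node 2555 (BT.node 2553 (BT.node 2552 (BT.leaf cJ2552) (BT.leaf cJ2553)) (BT.node 2554 (BT.leaf cJ2554) (BT.leaf cJ2555))) (BT.node 2557 (BT.node 2556 (BT.leaf cJ2556) (BT.leaf cJ2557)) (BT.node 2558 (BT.leaf cJ2558) (BT.leaf cJ2559)))) (BT.node 2563 (BT.node 2561 (BT.node 2560 (BT.leaf cJ2560) (BT.leaf cJ2561)) (BT.node 2562 (BT.leaf cJ2562) (BT.leaf cJ2563))) (BT.node 2565 (BT.node 2564 (BT.leaf cJ2564) (BT.leaf cJ2565)) (BT.node 2566 (BT.leaf cJ2566) (BT.leaf cJ2567))))) (BT.node 2575 (BT.node 2571 (BT.node 2569 (BT.node 2568 (BT.leaf cJ2568) (BT.leaf cJ2569)) (BT.node 2570 (BT.leaf cJ2570) (BT.leaf cJ2571))) (BT.node 2573 (BT.node 2572 (BT.leaf cJ2572) (BT.leaf cJ2573)) (BT.node 2574 (BT.leaf cJ2574) (BT.leaf cJ2575)))) (BT.node 2579 (BT.node 2577 (BT.node 2576 (BT.leaf cJ2576) (BT.leaf cJ2577)) (BT.node 2578 (BT.leaf cJ2578) (BT.leaf cJ2579))) (BT.node 2581 (BT.node 2580 (BT.leaf cJ2580) (BT.leaf cJ2581)) (BT.leaf cJ2582)))))) (BT.node 2614 (BT.node 2598 (BT.node 2590 (BT.node 2586 (BT.node 2584 (BT.node 2583 (BT.leaf cJ2583) (BT.leaf cJ2584)) (BT.node 2585 (BT.leaf cJ2585) (BT.leaf cJ2586))) (BT.node 2588 (BT.node 2587 (BT.leaf cJ2587) (BT.leaf cJ2588)) (BT.node 2589 (BT.leaf cJ2589) (BT.leaf cJ2590)))) (BT.node 2594 (BT.node 2592 (BT.node 2591 (BT.leaf cJ2591) (BT.leaf cJ2592)) (BT.node 2593 (BT.leaf cJ2593) (BT.leaf cJ2594))) (BT.node 2596 (BT.node 2595 (BT.leaf cJ2595) (BT.leaf cJ2596)) (BT.node 2597 (BT.leaf cJ2597) (BT.leaf cJ2598))))) (BT.node 2606 (BT.node 2602 (BT.node 2600 (BT.node 2599 (BT.leaf cJ2599) (BT.leaf cJ2600)) (BT.node 2601 (BT.leaf cJ2601) (BT.leaf cJ2602))) (BT.node 2604 (BT.node 2603 (BT.leaf cJ2603) (BT.leaf cJ2604)) (BT.node 2605 (BT.leaf cJ2605) (BT.leaf cJ2606)))) (BT.node 2610 (BT.node 2608 (BT.node 2607 (BT.leaf cJ2607) (BT.leaf cJ2608)) (BT.node 2609 (BT.leaf cJ2609) (BT.leaf cJ2610))) (BT.node 2612 (BT.node 2611 (BT.leaf cJ2611) (BT.leaf cJ2612)) (BT.node 2613 (BT.leaf cJ2613) (BT.leaf cJ2614)))))) (BT.node 2630 (BT.node 2622 (BT.node 2618 (BT.node 2616 (BT.node 2615 (BT.leaf cJ2615) (BT.leaf cJ2616)) (BT.node 2617 (BT.leaf cJ2617) (BT.leaf cJ2618))) (BT.node 2620 (BT.node 2619 (BT.leaf cJ2619) (BT.leaf cJ2620)) (BT.node 2621 (BT.leaf cJ2621) (BT.leaf cJ2622)))) (BT.node 2626 (BT.node 2624 (BT.node 2623 (BT.leaf cJ2623) (BT.leaf cJ2624)) (BT.node 2625 (BT.leaf cJ2625) (BT.leaf cJ2626))) (BT.node 2628 (BT.node 2627 (BT.leaf cJ2627) (BT.leaf cJ2628)) (BT.node 2629 (BT.leaf cJ2629) (BT.leaf cJ2630))))) (BT.node 2638 (BT.node 2634 (BT.node 2632 (BT.node 2631 (BT.leaf cJ2631) (BT.leaf cJ2632)) (BT.node 2633 (BT.leaf cJ2633) (BT.leaf cJ2634))) (BT.node 2636 (BT.node 2635 (BT.leaf cJ2635) (BT.leaf cJ2636)) (BT.node 2637 (BT.leaf cJ2637) (BT.leaf cJ2638)))) (BT.node 2642 (BT.node 2640 (BT.node 2639 (BT.leaf cJ2639) (BT.leaf cJ2640)) (BT.node 2641 (BT.leaf cJ2641) (BT.leaf cJ2642))) (BT.node 2644 (BT.node 2643 (BT.leaf cJ2643) (BT.leaf cJ2644)) (BT.leaf cJ2645))))))) (BT.node 2708 (BT.node 2677 (BT.node 2661 (BT.node 2653 (BT.node 2649 (BT.node 2647 (BT.node 2646 (BT.leaf cJ2646) (BT.leaf cJ2647)) (BT.node 2648 (BT.leaf cJ2648) (BT.leaf cJ2649))) (BT.node 2651 (BT.node 2650 (BT.leaf cJ2650) (BT.leaf cJ2651)) (BT.node 2652 (BT.leaf cJ2652) (BT.leaf cJ2653)))) (BT.node 2657 (BT.node 2655 (BT.node 2654 (BT.leaf cJ2654) (BT.leaf cJ2655)) (BT.node 2656 (BT.leaf cJ2656) (BT.leaf cJ2657))) (BT.node 2659 (BT.node 2658 (BT.leaf cJ2658) (BT.leaf cJ2659)) (BT.node 2660 (BT.leaf cJ2660) (BT.leaf cJ2661))))) (BT.node 2669 (BT.node 2665 (BT.node 2663 (BT.node 2662 (BT.leaf cJ2662) (BT.leaf cJ2663)) (BT.node 2664 (BT.leaf cJ2664) (BT.leaf cJ2665))) (BT.node 2667 (BT.node 2666 (BT.leaf cJ2666) (BT.leaf cJ2667)) (BT.node 2668 (BT.leaf cJ2668) (BT.leaf cJ2669)))) (BT.node 2673 (BT.node 2671 (BT.node 2670 (BT.leaf cJ2670) (BT.leaf cJ2671)) (BT.node 2672 (BT.leaf cJ2672) (BT.leaf cJ2673))) (BT.node 2675 (BT.node 2674 (BT.leaf cJ2674) (BT.leaf cJ2675)) (BT.node 2676 (BT.leaf cJ2676) (BT.leaf cJ2677)))))) (BT.node 2693 (BT.node 2685 (BT.node 2681 (BT.node 2679 (BT.node 2678 (BT.leaf cJ2678) (BT.leaf cJ2679)) (BT.node 2680 (BT.leaf cJ2680) (BT.leaf cJ2681))) (BT.node 2683 (BT.node 2682 (BT.leaf cJ2682) (BT.leaf cJ2683)) (BT.node 2684 (BT.leaf cJ2684) (BT.leaf cJ2685)))) (BT.node 2689 (BT.node 2687 (BT.node 2686 (BT.leaf cJ2686) (BT.leaf cJ2687)) (BT.node 2688 (BT.leaf cJ2688) (BT.leaf cJ2689))) (BT.node 2691 (BT.node 2690 (BT.leaf cJ2690) (BT.leaf cJ2691)) (BT.node 2692 (BT.leaf cJ2692) (BT.leaf cJ2693))))) (BT.node 2701 (BT.node 2697 (BT.node 2695 (BT.node 2694 (BT.leaf cJ2694) (BT.leaf cJ2695)) (BT.node 2696 (BT.leaf cJ2696) (BT.leaf cJ2697))) (BT.node 2699 (BT.node 2698 (BT.leaf cJ2698) (BT.leaf cJ2699)) (BT.node 2700 (BT.leaf cJ2700) (BT.leaf cJ2701)))) (BT.node 2705 (BT.node 2703 (BT.node 2702 (BT.leaf cJ2702) (BT.leaf cJ2703)) (BT.node 2704 (BT.leaf cJ2704) (BT.leaf cJ2705))) (BT.node 2707 (BT.node 2706 (BT.leaf cJ2706) (BT.leaf cJ2707)) (BT.leaf cJ2708)))))) (BT.node 2740 (BT.node 2724 (BT.node 2716 (BT.node 2712 (BT.node 2710 (BT.node 2709 (BT.leaf cJ2709) (BT.leaf cJ2710)) (BT.node 2711 (BT.leaf cJ2711) (BT.leaf cJ2712))) (BT.node 2714 (BT.node 2713 (BT.leaf cJ2713) (BT.leaf cJ2714)) (BT.node 2715 (BT.leaf cJ2715) (BT.leaf cJ2716)))) (BT.node 2720 (BT.node 2718 (BT.node 2717 (BT.leaf cJ2717) (BT.leaf cJ2718)) (BT.node 2719 (BT.leaf cJ2719) (BT.leaf cJ2720))) (BT.node 2722 (BT.node 2721 (BT.leaf cJ2721) (BT.leaf cJ2722)) (BT.node 2723 (BT.leaf cJ2723) (BT.leaf cJ2724))))) (BT.node 2732 (BT.node 2728 (BT.node 2726 (BT.node 2725 (BT.leaf cJ2725) (BT.leaf cJ2726)) (BT.node 2727 (BT.leaf cJ2727) (BT.leaf cJ2728))) (BT.node 2730 (BT.node 2729 (BT.leaf cJ2729) (BT.leaf cJ2730)) (BT.node 2731 (BT.leaf cJ2731) (BT.leaf cJ2732)))) (BT.node 2736 (BT.node 2734 (BT.node 2733 (BT.leaf cJ2733) (BT.leaf cJ2734)) (BT.node 2735 (BT.leaf cJ2735) (BT.leaf cJ2736))) (BT.node 2738 (BT.node 2737 (BT.leaf cJ2737) (BT.leaf cJ2738)) (BT.node 2739 (BT.leaf cJ2739) (BT.leaf cJ2740)))))) (BT.node 2756 (BT.node 2748 (BT.node 2744 (BT.node 2742 (BT.node 2741 (BT.leaf cJ2741) (BT.leaf cJ2742)) (BT.node 2743 (BT.leaf cJ2743) (BT.leaf cJ2744))) (BT.node 2746 (BT.node 2745 (BT.leaf cJ2745) (BT.leaf cJ2746)) (BT.node 2747 (BT.leaf cJ2747) (BT.leaf cJ2748)))) (BT.node 2752 (BT.node 2750 (BT.node 2749 (BT.leaf cJ2749) (BT.leaf cJ2750)) (BT.node 2751 (BT.leaf cJ2751) (BT.leaf cJ2752))) (BT.node 2754 (BT.node 2753 (BT.leaf cJ2753) (BT.leaf cJ2754)) (BT.node 2755 (BT.leaf cJ2755) (BT.leaf cJ2756))))) (BT.node 2764 (BT.node 2760 (BT.node 2758 (BT.node 2757 (BT.leaf cJ2757) (BT.leaf cJ2758)) (BT.node 2759 (BT.leaf cJ2759) (BT.leaf cJ2760))) (BT.node 2762 (BT.node 2761 (BT.leaf cJ2761) (BT.leaf cJ2762)) (BT.node 2763 (BT.leaf cJ2763) (BT.leaf cJ2764)))) (BT.node 2768 (BT.node 2766 (BT.node 2765 (BT.leaf cJ2765) (BT.leaf cJ2766)) (BT.node 2767 (BT.leaf cJ2767) (BT.leaf cJ2768))) (BT.node 2770 (BT.node 2769 (BT.leaf cJ2769) (BT.leaf cJ2770)) (BT.leaf cJ2771)))))))) (BT.node 2897 (BT.node 2834 (BT.node 2803 (BT.node 2787 (BT.node 2779 (BT.node 2775 (BT.node 2773 (BT.node 2772 (BT.leaf cJ2772) (BT.leaf cJ2773)) (BT.node 2774 (BT.leaf cJ2774) (BT.leaf cJ2775))) (BT.node 2777 (BT.node 2776 (BT.leaf cJ2776) (BT.leaf cJ2777)) (BT.node 2778 (BT.leaf cJ2778) (BT.leaf cJ2779)))) (BT.node 2783 (BT.node 2781 (BT.node 2780 (BT.leaf cJ2780) (BT.leaf cJ2781)) (BT.node 2782 (BT.leaf cJ2782) (BT.leaf cJ2783))) (BT.node 2785 (BT.node 2784 (BT.leaf cJ2784) (BT.leaf cJ2785)) (BT.node 2786 (BT.leaf cJ2786) (BT.leaf cJ2787))))) (BT.node 2795 (BT.node 2791 (BT.node 2789 (BT.node 2788 (BT.leaf cJ2788) (BT.leaf cJ2789)) (BT.node 2790 (BT.leaf cJ2790) (BT.leaf cJ2791))) (BT.node 2793 (BT.node 2792 (BT.leaf cJ2792) (BT.leaf cJ2793)) (BT.node 2794 (BT.leaf cJ2794) (BT.leaf cJ2795)))) (BT.node 2799 (BT.node 2797 (BT.node 2796 (BT.leaf cJ2796) (BT.leaf cJ2797)) (BT.node 2798 (BT.leaf cJ2798) (BT.leaf cJ2799))) (BT.node 2801 (BT.node 2800 (BT.leaf cJ2800) (BT.leaf cJ2801)) (BT.node 2802 (BT.leaf cJ2802) (BT.leaf cJ2803)))))) (BT.node 2819 (BT.node 2811 (BT.node 2807 (BT.node 2805 (BT.node 2804 (BT.leaf cJ2804) (BT.leaf cJ2805)) (BT.node 2806 (BT.leaf cJ2806) (BT.leaf cJ2807))) (BT.node 2809 (BT.node 2808 (BT.leaf cJ2808) (BT.leaf cJ2809)) (BT.node 2810 (BT.leaf cJ2810) (BT.leaf cJ2811)))) (BT.node 2815 (BT.node 2813 (BT.node 2812 (BT.leaf cJ2812) (BT.leaf cJ2813)) (BT.node 2814 (BT.leaf cJ2814) (BT.leaf cJ2815))) (BT.node 2817 (BT.node 2816 (BT.leaf cJ2816) (BT.leaf cJ2817)) (BT.node 2818 (BT.leaf cJ2818) (BT.leaf cJ2819))))) (BT.node 2827 (BT.node 2823 (BT.node 2821 (BT.node 2820 (BT.leaf cJ2820) (BT.leaf cJ2821)) (BT.node 2822 (BT.leaf cJ2822) (BT.leaf cJ2823))) (BT.node 2825 (BT.node 2824 (BT.leaf cJ2824) (BT.leaf cJ2825)) (BT.node 2826 (BT.leaf cJ2826) (BT.leaf cJ2827)))) (BT.node 2831 (BT.node 2829 (BT.node 2828 (BT.leaf cJ2828) (BT.leaf cJ2829)) (BT.node 2830 (BT.leaf cJ2830) (BT.leaf cJ2831))) (BT.node 2833 (BT.node 2832 (BT.leaf cJ2832) (BT.leaf cJ2833)) (BT.leaf cJ2834)))))) (BT.node 2866 (BT.node 2850 (BT.node 2842 (BT.node 2838 (BT.node 2836 (BT.node 2835 (BT.leaf cJ2835) (BT.leaf cJ2836)) (BT.node 2837 (BT.leaf cJ2837) (BT.leaf cJ2838))) (BT.node 2840 (BT.node 2839 (BT.leaf cJ2839) (BT.leaf cJ2840)) (BT.node 2841 (BT.leaf cJ2841) (BT.leaf cJ2842)))) (BT.node 2846 (BT.node 2844 (BT.node 2843 (BT.leaf cJ2843) (BT.leaf cJ2844)) (BT.node 2845 (BT.leaf cJ2845) (BT.leaf cJ2846))) (BT.node 2848 (BT.node 2847 (BT.leaf cJ2847) (BT.leaf cJ2848)) (BT.node 2849 (BT.leaf cJ2849) (BT.leaf cJ2850))))) (BT.node 2858 (BT.node 2854 (BT.node 2852 (BT.node 2851 (BT.leaf cJ2851) (BT.leaf cJ2852)) (BT.node 2853 (BT.leaf cJ2853) (BT.leaf cJ2854))) (BT.node 2856 (BT.node 2855 (BT.leaf cJ2855) (BT.leaf cJ2856)) (BT.node 2857 (BT.leaf cJ2857) (BT.leaf cJ2858)))) (BT.node 2862 (BT.node 2860 (BT.node 2859 (BT.leaf cJ2859) (BT.leaf cJ2860)) (BT.node 2861 (BT.leaf cJ2861) (BT.leaf cJ2862))) (BT.node 2864 (BT.node 2863 (BT.leaf cJ2863) (BT.leaf cJ2864)) (BT.node 2865 (BT.leaf cJ2865) (BT.leaf cJ2866)))))) (BT.node 2882 (BT.node 2874 (BT.node 2870 (BT.node 2868 (BT.node 2867 (BT.leaf cJ2867) (BT.leaf cJ2868)) (BT.node 2869 (BT.leaf cJ2869) (BT.leaf cJ2870))) (BT.node 2872 (BT.node 2871 (BT.leaf cJ2871) (BT.leaf cJ2872)) (BT.node 2873 (BT.leaf cJ2873) (BT.leaf cJ2874)))) (BT.node 2878 (BT.node 2876 (BT.node 2875 (BT.leaf cJ2875) (BT.leaf cJ2876)) (BT.node 2877 (BT.leaf cJ2877) (BT.leaf cJ2878))) (BT.node 2880 (BT.node 2879 (BT.leaf cJ2879) (BT.leaf cJ2880)) (BT.node 2881 (BT.leaf cJ2881) (BT.leaf cJ2882))))) (BT.node 2890 (BT.node 2886 (BT.node 2884 (BT.node 2883 (BT.leaf cJ2883) (BT.leaf cJ2884)) (BT.node 2885 (BT.leaf cJ2885) (BT.leaf cJ2886))) (BT.node 2888 (BT.node 2887 (BT.leaf cJ2887) (BT.leaf cJ2888)) (BT.node 2889 (BT.leaf cJ2889) (BT.leaf cJ2890)))) (BT.node 2894 (BT.node 2892 (BT.node 2891 (BT.leaf cJ2891) (BT.leaf cJ2892)) (BT.node 2893 (BT.leaf cJ2893) (BT.leaf cJ2894))) (BT.node 2896 (BT.node 2895 (BT.leaf cJ2895) (BT.leaf cJ2896)) (BT.leaf cJ2897))))))) (BT.node 2960 (BT.node 2929 (BT.node 2913 (BT.node 2905 (BT.node 2901 (BT.node 2899 (BT.node 2898 (BT.leaf cJ2898) (BT.leaf cJ2899)) (BT.node 2900 (BT.leaf cJ2900) (BT.leaf cJ2901))) (BT.node 2903 (BT.node 2902 (BT.leaf cJ2902) (BT.leaf cJ2903)) (BT.node 2904 (BT.leaf cJ2904) (BT.leaf cJ2905)))) (BT.node 2909 (BT.node 2907 (BT.node 2906 (BT.leaf cJ2906) (BT.leaf cJ2907)) (BT.node 2908 (BT.leaf cJ2908) (BT.leaf cJ2909))) (BT.node 2911 (BT.node 2910 (BT.leaf cJ2910) (BT.leaf cJ2911)) (BT.node 2912 (BT.leaf cJ2912) (BT.leaf cJ2913))))) (BT.node 2921 (BT.node 2917 (BT.node 2915 (BT.node 2914 (BT.leaf cJ2914) (BT.leaf cJ2915)) (BT.node 2916 (BT.leaf cJ2916) (BT.leaf cJ2917))) (BT.node 2919 (BT.node 2918 (BT.leaf cJ2918) (BT.leaf cJ2919)) (BT.node 2920 (BT.leaf cJ2920) (BT.leaf cJ2921)))) (BT.node 2925 (BT.node 2923 (BT.node 2922 (BT.leaf cJ2922) (BT.leaf cJ2923)) (BT.node 2924 (BT.leaf cJ2924) (BT.leaf cJ2925))) (BT.node 2927 (BT.node 2926 (BT.leaf cJ2926) (BT.leaf cJ2927)) (BT.node 2928 (BT.leaf cJ2928) (BT.leaf cJ2929)))))) (BT.node 2945 (BT.node 2937 (BT.node 2933 (BT.node 2931 (BT.node 2930 (BT.leaf cJ2930) (BT.leaf cJ2931)) (BT.node 2932 (BT.leaf cJ2932) (BT.leaf cJ2933))) (BT.node 2935 (BT.node 2934 (BT.leaf cJ2934) (BT.leaf cJ2935)) (BT.node 2936 (BT.leaf cJ2936) (BT.leaf cJ2937)))) (BT.node 2941 (BT.node 2939 (BT.node 2938 (BT.leaf cJ2938) (BT.leaf cJ2939)) (BT.node 2940 (BT.leaf cJ2940) (BT.leaf cJ2941))) (BT.node 2943 (BT.node 2942 (BT.leaf cJ2942) (BT.leaf cJ2943)) (BT.node 2944 (BT.leaf cJ2944) (BT.leaf cJ2945))))) (BT.node 2953 (BT.node 2949 (BT.node 2947 (BT.node 2946 (BT.leaf cJ2946) (BT.leaf cJ2947)) (BT.node 2948 (BT.leaf cJ2948) (BT.leaf cJ2949))) (BT.node 2951 (BT.node 2950 (BT.leaf cJ2950) (BT.leaf cJ2951)) (BT.node 2952 (BT.leaf cJ2952) (BT.leaf cJ2953)))) (BT.node 2957 (BT.node 2955 (BT.node 2954 (BT.leaf cJ2954) (BT.leaf cJ2955)) (BT.node 2956 (BT.leaf cJ2956) (BT.leaf cJ2957))) (BT.node 2959 (BT.node 2958 (BT.leaf cJ2958) (BT.leaf cJ2959)) (BT.leaf cJ2960)))))) (BT.node 2992 (BT.node 2976 (BT.node 2968 (BT.node 2964 (BT.node 2962 (BT.node 2961 (BT.leaf cJ2961) (BT.leaf cJ2962)) (BT.node 2963 (BT.leaf cJ2963) (BT.leaf cJ2964))) (BT.node 2966 (BT.node 2965 (BT.leaf cJ2965) (BT.leaf cJ2966)) (BT.node 2967 (BT.leaf cJ2967) (BT.leaf cJ2968)))) (BT.node 2972 (BT.node 2970 (BT.node 2969 (BT.leaf cJ2969) (BT.leaf cJ2970)) (BT.node 2971 (BT.leaf cJ2971) (BT.leaf cJ2972))) (BT.node 2974 (BT.node 2973 (BT.leaf cJ2973) (BT.leaf cJ2974)) (BT.node 2975 (BT.leaf cJ2975) (BT.leaf cJ2976))))) (BT.node 2984 (BT.node 2980 (BT.node 2978 (BT.node 2977 (BT.leaf cJ2977) (BT.leaf cJ2978)) (BT.node 2979 (BT.leaf cJ2979) (BT.leaf cJ2980))) (BT.node 2982 (BT.node 2981 (BT.leaf cJ2981) (BT.leaf cJ2982)) (BT.node 2983 (BT.leaf cJ2983) (BT.leaf cJ2984)))) (BT.node 2988 (BT.node 2986 (BT.node 2985 (BT.leaf cJ2985) (BT.leaf cJ2986)) (BT.node 2987 (BT.leaf cJ2987) (BT.leaf cJ2988))) (BT.node 2990 (BT.node 2989 (BT.leaf cJ2989) (BT.leaf cJ2990)) (BT.node 2991 (BT.leaf cJ2991) (BT.leaf cJ2992)))))) (BT.node 3008 (BT.node 3000 (BT.node 2996 (BT.node 2994 (BT.node 2993 (BT.leaf cJ2993) (BT.leaf cJ2994)) (BT.node 2995 (BT.leaf cJ2995) (BT.leaf cJ2996))) (BT.node 2998 (BT.node 2997 (BT.leaf cJ2997) (BT.leaf cJ2998)) (BT.node 2999 (BT.leaf cJ2999) (BT.leaf cJ3000)))) (BT.node 3004 (BT.node 3002 (BT.node 3001 (BT.leaf cJ3001) (BT.leaf cJ3002)) (BT.node 3003 (BT.leaf cJ3003) (BT.leaf cJ3004))) (BT.node 3006 (BT.node 3005 (BT.leaf cJ3005) (BT.leaf cJ3006)) (BT.node 3007 (BT.leaf cJ3007) (BT.leaf cJ3008))))) (BT.node 3016 (BT.node 3012 (BT.node 3010 (BT.node 3009 (BT.leaf cJ3009) (BT.leaf cJ3010)) (BT.node 3011 (BT.leaf cJ3011) (BT.leaf cJ3012))) (BT.node 3014 (BT.node 3013 (BT.leaf cJ3013) (BT.leaf cJ3014)) (BT.node 3015 (BT.leaf cJ3015) (BT.leaf cJ3016)))) (BT.node 3020 (BT.node 3018 (BT.node 3017 (BT.leaf cJ3017) (BT.leaf cJ3018)) (BT.node 3019 (BT.leaf cJ3019) (BT.leaf cJ3020))) (BT.node 3022 (BT.node 3021 (BT.leaf cJ3021) (BT.leaf cJ3022)) (BT.leaf cJ3023)))))))))) (BT.node 3527 (BT.node 3275 (BT.node 3149 (BT.node 3086 (BT.node 3055 (BT.node 3039 (BT.node 3031 (BT.node 3027 (BT.node 3025 (BT.node 3024 (BT.leaf cJ3024) (BT.leaf cJ3025)) (BT.node 3026 (BT.leaf cJ3026) (BT.leaf cJ3027))) (BT.node 3029 (BT.node 3028 (BT.leaf cJ3028) (BT.leaf cJ3029)) (BT.node 3030 (BT.leaf cJ3030) (BT.leaf cJ3031)))) (BT.node 3035 (BT.node 3033 (BT.node 3032 (BT.leaf cJ3032) (BT.leaf cJ3033)) (BT.node 3034 (BT.leaf cJ3034) (BT.leaf cJ3035))) (BT.node 3037 (BT.node 3036 (BT.leaf cJ3036) (BT.leaf cJ3037)) (BT.node 3038 (BT.leaf cJ3038) (BT.leaf cJ3039))))) (BT.node 3047 (BT.node 3043 (BT.node 3041 (BT.node 3040 (BT.leaf cJ3040) (BT.leaf cJ3041)) (BT.node 3042 (BT.leaf cJ3042) (BT.leaf cJ3043))) (BT.node 3045 (BT.node 3044 (BT.leaf cJ3044) (BT.leaf cJ3045)) (BT.node 3046 (BT.leaf cJ3046) (BT.leaf cJ3047)))) (BT.node 3051 (BT.node 3049 (BT.node 3048 (BT.leaf cJ3048) (BT.leaf cJ3049)) (BT.node 3050 (BT.leaf cJ3050) (BT.leaf cJ3051))) (BT.node 3053 (BT.node 3052 (BT.leaf cJ3052) (BT.leaf cJ3053)) (BT.node 3054 (BT.leaf cJ3054) (BT.leaf cJ3055)))))) (BT.node 3071 (BT.node 3063 (BT.node 3059 (BT.node 3057 (BT.node 3056 (BT.leaf cJ3056) (BT.leaf cJ3057)) (BT.node 3058 (BT.leaf cJ3058) (BT.leaf cJ3059))) (BT.node 3061 (BT.node 3060 (BT.leaf cJ3060) (BT.leaf cJ3061)) (BT.node 3062 (BT.leaf cJ3062) (BT.leaf cJ3063)))) (BT.node 3067 (BT.node 3065 (BT.node 3064 (BT.leaf cJ3064) (BT.leaf cJ3065)) (BT.node 3066 (BT.leaf cJ3066) (BT.leaf cJ3067))) (BT.node 3069 (BT.node 3068 (BT.leaf cJ3068) (BT.leaf cJ3069)) (BT.node 3070 (BT.leaf cJ3070) (BT.leaf cJ3071))))) (BT.node 3079 (BT.node 3075 (BT.node 3073 (BT.node 3072 (BT.leaf cJ3072) (BT.leaf cJ3073)) (BT.node 3074 (BT.leaf cJ3074) (BT.leaf cJ3075))) (BT.node 3077 (BT.node 3076 (BT.leaf cJ3076) (BT.leaf cJ3077)) (BT.node 3078 (BT.leaf cJ3078) (BT.leaf cJ3079)))) (BT.node 3083 (BT.node 3081 (BT.node 3080 (BT.leaf cJ3080) (BT.leaf cJ3081)) (BT.node 3082 (BT.leaf cJ3082) (BT.leaf cJ3083))) (BT.node 3085 (BT.node 3084 (BT.leaf cJ3084) (BT.leaf cJ3085)) (BT.leaf cJ3086)))))) (BT.node 3118 (BT.node 3102 (BT.node 3094 (BT.node 3090 (BT.node 3088 (BT.node 3087 (BT.leaf cJ3087) (BT.leaf cJ3088)) (BT.node 3089 (BT.leaf cJ3089) (BT.leaf cJ3090))) (BT.node 3092 (BT.node 3091 (BT.leaf cJ3091) (BT.leaf cJ3092)) (BT.node 3093 (BT.leaf cJ3093) (BT.leaf cJ3094)))) (BT.node 3098 (BT.node 3096 (BT.node 3095 (BT.leaf cJ3095) (BT.leaf cJ3096)) (BT.node 3097 (BT.leaf cJ3097) (BT.leaf cJ3098))) (BT.node 3100 (BT.node 3099 (BT.leaf cJ3099) (BT.leaf cJ3100)) (BT.node 3101 (BT.leaf cJ3101) (BT.leaf cJ3102))))) (BT.node 3110 (BT.node 3106 (BT.node 3104 (BT.node 3103 (BT.leaf cJ3103) (BT.leaf cJ3104)) (BT.node 3105 (BT.leaf cJ3105) (BT.leaf cJ3106))) (BT.node 3108 (BT.node 3107 (BT.leaf cJ3107) (BT.leaf cJ3108)) (BT.node 3109 (BT.leaf cJ3109) (BT.leaf cJ3110)))) (BT.node 3114 (BT.node 3112 (BT.node 3111 (BT.leaf cJ3111) (BT.leaf cJ3112)) (BT.node 3113 (BT.leaf cJ3113) (BT.leaf cJ3114))) (BT.node 3116 (BT.node 3115 (BT.leaf cJ3115) (BT.leaf cJ3116)) (BT.node 3117 (BT.leaf cJ3117) (BT.leaf cJ3118)))))) (BT.node 3134 (BT.node 3126 (BT.node 3122 (BT.node 3120 (BT.node 3119 (BT.leaf cJ3119) (BT.leaf cJ3120)) (BT.node 3121 (BT.leaf cJ3121) (BT.leaf cJ3122))) (BT.node 3124 (BT.node 3123 (BT.leaf cJ3123) (BT.leaf cJ3124)) (BT.node 3125 (BT.leaf cJ3125) (BT.leaf cJ3126)))) (BT.node 3130 (BT.node 3128 (BT.node 3127 (BT.leaf cJ3127) (BT.leaf cJ3128)) (BT.node 3129 (BT.leaf cJ3129) (BT.leaf cJ3130))) (BT.node 3132 (BT.node 3131 (BT.leaf cJ3131) (BT.leaf cJ3132)) (BT.node 3133 (BT.leaf cJ3133) (BT.leaf cJ3134))))) (BT.node 3142 (BT.node 3138 (BT.node 3136 (BT.node 3135 (BT.leaf cJ3135) (BT.leaf cJ3136)) (BT.node 3137 (BT.leaf cJ3137) (BT.leaf cJ3138))) (BT.node 3140 (BT.node 3139 (BT.leaf cJ3139) (BT.leaf cJ3140)) (BT.node 3141 (BT.leaf cJ3141) (BT.leaf cJ3142)))) (BT.node 3146 (BT.node 3144 (BT.node 3143 (BT.leaf cJ3143) (BT.leaf cJ3144)) (BT.node 3145 (BT.leaf cJ3145) (BT.leaf cJ3146))) (BT.node 3148 (BT.node 3147 (BT.leaf cJ3147) (BT.leaf cJ3148)) (BT.leaf cJ3149))))))) (BT.node 3212 (BT.node 3181 (BT.node 3165 (BT.node 3157 (BT.node 3153 (BT.node 3151 (BT.node 3150 (BT.leaf cJ3150) (BT.leaf cJ3151)) (BT.node 3152 (BT.leaf cJ3152) (BT.leaf cJ3153))) (BT.node 3155 (BT.node 3154 (BT.leaf cJ3154) (BT.leaf cJ3155)) (BT.node 3156 (BT.leaf cJ3156) (BT.leaf cJ3157)))) (BT.node 3161 (BT.node 3159 (BT.node 3158 (BT.leaf cJ3158) (BT.leaf cJ3159)) (BT.node 3160 (BT.leaf cJ3160) (BT.leaf cJ3161))) (BT.node 3163 (BT.node 3162 (BT.leaf cJ3162) (BT.leaf cJ3163)) (BT.node 3164 (BT.leaf cJ3164) (BT.leaf cJ3165))))) (BT.node 3173 (BT.node 3169 (BT.node 3167 (BT.node 3166 (BT.leaf cJ3166) (BT.leaf cJ3167)) (BT.node 3168 (BT.leaf cJ3168) (BT.leaf cJ3169))) (BT.node 3171 (BT.node 3170 (BT.leaf cJ3170) (BT.leaf cJ3171)) (BT.node 3172 (BT.leaf cJ3172) (BT.leaf cJ3173)))) (BT.node 3177 (BT.node 3175 (BT.node 3174 (BT.leaf cJ3174) (BT.leaf cJ3175)) (BT.node 3176 (BT.leaf cJ3176) (BT.leaf cJ3177))) (BT.node 3179 (BT.node 3178 (BT.leaf cJ3178) (BT.leaf cJ3179)) (BT.node 3180 (BT.leaf cJ3180) (BT.leaf cJ3181)))))) (BT.node 3197 (BT.node 3189 (BT.node 3185 (BT.node 3183 (BT.node 3182 (BT.leaf cJ3182) (BT.leaf cJ3183)) (BT.node 3184 (BT.leaf cJ3184) (BT.leaf cJ3185))) (BT.node 3187 (BT.node 3186 (BT.leaf cJ3186) (BT.leaf cJ3187)) (BT.node 3188 (BT.leaf cJ3188) (BT.leaf cJ3189)))) (BT.node 3193 (BT.node 3191 (BT.node 3190 (BT.leaf cJ3190) (BT.leaf cJ3191)) (BT.node 3192 (BT.leaf cJ3192) (BT.leaf cJ3193))) (BT.node 3195 (BT.node 3194 (BT.leaf cJ3194) (BT.leaf cJ3195)) (BT.node 3196 (BT.leaf cJ3196) (BT.leaf cJ3197))))) (BT.node 3205 (BT.node 3201 (BT.node 3199 (BT.node 3198 (BT.leaf cJ3198) (BT.leaf cJ3199)) (BT.node 3200 (BT.leaf cJ3200) (BT.leaf cJ3201))) (BT.node 3203 (BT.node 3202 (BT.leaf cJ3202) (BT.leaf cJ3203)) (BT.node 3204 (BT.leaf cJ3204) (BT.leaf cJ3205)))) (BT.node 3209 (BT.node 3207 (BT.node 3206 (BT.leaf cJ3206) (BT.leaf cJ3207)) (BT.node 3208 (BT.leaf cJ3208) (BT.leaf cJ3209))) (BT.node 3211 (BT.node 3210 (BT.leaf cJ3210) (BT.leaf cJ3211)) (BT.leaf cJ3212)))))) (BT.node 3244 (BT.node 3228 (BT.node 3220 (BT.node 3216 (BT.node 3214 (BT.node 3213 (BT.leaf cJ3213) (BT.leaf cJ3214)) (BT.node 3215 (BT.leaf cJ3215) (BT.leaf cJ3216))) (BT.node 3218 (BT.node 3217 (BT.leaf cJ3217) (BT.leaf cJ3218)) (BT.node 3219 (BT.leaf cJ3219) (BT.leaf cJ3220)))) (BT.node 3224 (BT.node 3222 (BT.node 3221 (BT.leaf cJ3221) (BT.leaf cJ3222)) (BT.node 3223 (BT.leaf cJ3223) (BT.leaf cJ3224))) (BT.node 3226 (BT.node 3225 (BT.leaf cJ3225) (BT.leaf cJ3226)) (BT.node 3227 (BT.leaf cJ3227) (BT.leaf cJ3228))))) (BT.node 3236 (BT.node 3232 (BT.node 3230 (BT.node 3229 (BT.leaf cJ3229) (BT.leaf cJ3230)) (BT.node 3231 (BT.leaf cJ3231) (BT.leaf cJ3232))) (BT.node 3234 (BT.node 3233 (BT.leaf cJ3233) (BT.leaf cJ3234)) (BT.node 3235 (BT.leaf cJ3235) (BT.leaf cJ3236)))) (BT.node 3240 (BT.node 3238 (BT.node 3237 (BT.leaf cJ3237) (BT.leaf cJ3238)) (BT.node 3239 (BT.leaf cJ3239) (BT.leaf cJ3240))) (BT.node 3242 (BT.node 3241 (BT.leaf cJ3241) (BT.leaf cJ3242)) (BT.node 3243 (BT.leaf cJ3243) (BT.leaf cJ3244)))))) (BT.node 3260 (BT.node 3252 (BT.node 3248 (BT.node 3246 (BT.node 3245 (BT.leaf cJ3245) (BT.leaf cJ3246)) (BT.node 3247 (BT.leaf cJ3247) (BT.leaf cJ3248))) (BT.node 3250 (BT.node 3249 (BT.leaf cJ3249) (BT.leaf cJ3250)) (BT.node 3251 (BT.leaf cJ3251) (BT.leaf cJ3252)))) (BT.node 3256 (BT.node 3254 (BT.node 3253 (BT.leaf cJ3253) (BT.leaf cJ3254)) (BT.node 3255 (BT.leaf cJ3255) (BT.leaf cJ3256))) (BT.node 3258 (BT.node 3257 (BT.leaf cJ3257) (BT.leaf cJ3258)) (BT.node 3259 (BT.leaf cJ3259) (BT.leaf cJ3260))))) (BT.node 3268 (BT.node 3264 (BT.node 3262 (BT.node 3261 (BT.leaf cJ3261) (BT.leaf cJ3262)) (BT.node 3263 (BT.leaf cJ3263) (BT.leaf cJ3264))) (BT.node 3266 (BT.node 3265 (BT.leaf cJ3265) (BT.leaf cJ3266)) (BT.node 3267 (BT.leaf cJ3267) (BT.leaf cJ3268)))) (BT.node 3272 (BT.node 3270 (BT.node 3269 (BT.leaf cJ3269) (BT.leaf cJ3270)) (BT.node 3271 (BT.leaf cJ3271) (BT.leaf cJ3272))) (BT.node 3274 (BT.node 3273 (BT.leaf cJ3273) (BT.leaf cJ3274)) (BT.leaf cJ3275)))))))) (BT.node 3401 (BT.node 3338 (BT.node 3307 (BT.node 3291 (BT.node 3283 (BT.node 3279 (BT.node 3277 (BT.node 3276 (BT.leaf cJ3276) (BT.leaf cJ3277)) (BT.node 3278 (BT.leaf cJ3278) (BT.leaf cJ3279))) (BT.node 3281 (BT.node 3280 (BT.leaf cJ3280) (BT.leaf cJ3281)) (BT.node 3282 (BT.leaf cJ3282) (BT.leaf cJ3283)))) (BT.node 3287 (BT.node 3285 (BT.node 3284 (BT.leaf cJ3284) (BT.leaf cJ3285)) (BT.node 3286 (BT.leaf cJ3286) (BT.leaf cJ3287))) (BT.node 3289 (BT.node 3288 (BT.leaf cJ3288) (BT.leaf cJ3289)) (BT.node 3290 (BT.leaf cJ3290) (BT.leaf cJ3291))))) (BT.node 3299 (BT.node 3295 (BT.node 3293 (BT.node 3292 (BT.leaf cJ3292) (BT.leaf cJ3293)) (BT.node 3294 (BT.leaf cJ3294) (BT.leaf cJ3295))) (BT.node 3297 (BT.node 3296 (BT.leaf cJ3296) (BT.leaf cJ3297)) (BT.node 3298 (BT.leaf cJ3298) (BT.leaf cJ3299)))) (BT.node 3303 (BT.node 3301 (BT.node 3300 (BT.leaf cJ3300) (BT.leaf cJ3301)) (BT.node 3302 (BT.leaf cJ3302) (BT.leaf cJ3303))) (BT.node 3305 (BT.node 3304 (BT.leaf cJ3304) (BT.leaf cJ3305)) (BT.node 3306 (BT.leaf cJ3306) (BT.leaf cJ3307)))))) (BT.node 3323 (BT.node 3315 (BT.node 3311 (BT.node 3309 (BT.node 3308 (BT.leaf cJ3308) (BT.leaf cJ3309)) (BT.node 3310 (BT.leaf cJ3310) (BT.leaf cJ3311))) (BT.node 3313 (BT.node 3312 (BT.leaf cJ3312) (BT.leaf cJ3313)) (BT.node 3314 (BT.leaf cJ3314) (BT.leaf cJ3315)))) (BT.node 3319 (BT.node 3317 (BT.node 3316 (BT.leaf cJ3316) (BT.leaf cJ3317)) (BT.node 3318 (BT.leaf cJ3318) (BT.leaf cJ3319))) (BT.node 3321 (BT.node 3320 (BT.leaf cJ3320) (BT.leaf cJ3321)) (BT.node 3322 (BT.leaf cJ3322) (BT.leaf cJ3323))))) (BT.node 3331 (BT.node 3327 (BT.node 3325 (BT.node 3324 (BT.leaf cJ3324) (BT.leaf cJ3325)) (BT.node 3326 (BT.leaf cJ3326) (BT.leaf cJ3327))) (BT.node 3329 (BT.node 3328 (BT.leaf cJ3328) (BT.leaf cJ3329)) (BT.node 3330 (BT.leaf cJ3330) (BT.leaf cJ3331)))) (BT.node 3335 (BT.node 3333 (BT.node 3332 (BT.leaf cJ3332) (BT.leaf cJ3333)) (BT.node 3334 (BT.leaf cJ3334) (BT.leaf cJ3335))) (BT.node 3337 (BT.node 3336 (BT.leaf cJ3336) (BT.leaf cJ3337)) (BT.leaf cJ3338)))))) (BT.node 3370 (BT.node 3354 (BT.node 3346 (BT.node 3342 (BT.node 3340 (BT.node 3339 (BT.leaf cJ3339) (BT.leaf cJ3340)) (BT.node 3341 (BT.leaf cJ3341) (BT.leaf cJ3342))) (BT.node 3344 (BT.node 3343 (BT.leaf cJ3343) (BT.leaf cJ3344)) (BT.node 3345 (BT.leaf cJ3345) (BT.leaf cJ3346)))) (BT.node 3350 (BT.node 3348 (BT.node 3347 (BT.leaf cJ3347) (BT.leaf cJ3348)) (BT.node 3349 (BT.leaf cJ3349) (BT.leaf cJ3350))) (BT.node 3352 (BT.node 3351 (BT.leaf cJ3351) (BT.leaf cJ3352)) (BT.node 3353 (BT.leaf cJ3353) (BT.leaf cJ3354))))) (BT.node 3362 (BT.node 3358 (BT.node 3356 (BT.node 3355 (BT.leaf cJ3355) (BT.leaf cJ3356)) (BT.node 3357 (BT.leaf cJ3357) (BT.leaf cJ3358))) (BT.node 3360 (BT.node 3359 (BT.leaf cJ3359) (BT.leaf cJ3360)) (BT.node 3361 (BT.leaf cJ3361) (BT.leaf cJ3362)))) (BT.node 3366 (BT.node 3364 (BT.node 3363 (BT.leaf cJ3363) (BT.leaf cJ3364)) (BT.node 3365 (BT.leaf cJ3365) (BT.leaf cJ3366))) (BT.node 3368 (BT.node 3367 (BT.leaf cJ3367) (BT.leaf cJ3368)) (BT.node 3369 (BT.leaf cJ3369) (BT.leaf cJ3370)))))) (BT.node 3386 (BT.node 3378 (BT.node 3374 (BT.node 3372 (BT.node 3371 (BT.leaf cJ3371) (BT.leaf cJ3372)) (BT.node 3373 (BT.leaf cJ3373) (BT.leaf cJ3374))) (BT.node 3376 (BT.node 3375 (BT.leaf cJ3375) (BT.leaf cJ3376)) (BT.node 3377 (BT.leaf cJ3377) (BT.leaf cJ3378)))) (BT.node 3382 (BT.node 3380 (BT.node 3379 (BT.leaf cJ3379) (BT.leaf cJ3380)) (BT.node 3381 (BT.leaf cJ3381) (BT.leaf cJ3382))) (BT.node 3384 (BT.node 3383 (BT.leaf cJ3383) (BT.leaf cJ3384)) (BT.node 3385 (BT.leaf cJ3385) (BT.leaf cJ3386))))) (BT.node 3394 (BT.node 3390 (BT.node 3388 (BT.node 3387 (BT.leaf cJ3387) (BT.leaf cJ3388)) (BT.node 3389 (BT.leaf cJ3389) (BT.leaf cJ3390))) (BT.node 3392 (BT.node 3391 (BT.leaf cJ3391) (BT.leaf cJ3392)) (BT.node 3393 (BT.leaf cJ3393) (BT.leaf cJ3394)))) (BT.node 3398 (BT.node 3396 (BT.node 3395 (BT.leaf cJ3395) (BT.leaf cJ3396)) (BT.node 3397 (BT.leaf cJ3397) (BT.leaf cJ3398))) (BT.node 3400 (BT.node 3399 (BT.leaf cJ3399) (BT.leaf cJ3400)) (BT.leaf cJ3401))))))) (BT.node 3464 (BT.node 3433 (BT.node 3417 (BT.node 3409 (BT.node 3405 (BT.node 3403 (BT.node 3402 (BT.leaf cJ3402) (BT.leaf cJ3403)) (BT.node 3404 (BT.leaf cJ3404) (BT.leaf cJ3405))) (BT.node 3407 (BT.node 3406 (BT.leaf cJ3406) (BT.leaf cJ3407)) (BT.node 3408 (BT.leaf cJ3408) (BT.leaf cJ3409)))) (BT.node 3413 (BT.node 3411 (BT.node 3410 (BT.leaf cJ3410) (BT.leaf cJ3411)) (BT.node 3412 (BT.leaf cJ3412) (BT.leaf cJ3413))) (BT.node 3415 (BT.node 3414 (BT.leaf cJ3414) (BT.leaf cJ3415)) (BT.node 3416 (BT.leaf cJ3416) (BT.leaf cJ3417))))) (BT.node 3425 (BT.node 3421 (BT.node 3419 (BT.node 3418 (BT.leaf cJ3418) (BT.leaf cJ3419)) (BT.node 3420 (BT.leaf cJ3420) (BT.leaf cJ3421))) (BT.node 3423 (BT.node 3422 (BT.leaf cJ3422) (BT.leaf cJ3423)) (BT.node 3424 (BT.leaf cJ3424) (BT.leaf cJ3425)))) (BT.node 3429 (BT.node 3427 (BT.node 3426 (BT.leaf cJ3426) (BT.leaf cJ3427)) (BT.node 3428 (BT.leaf cJ3428) (BT.leaf cJ3429))) (BT.node 3431 (BT.node 3430 (BT.leaf cJ3430) (BT.leaf cJ3431)) (BT.node 3432 (BT.leaf cJ3432) (BT.leaf cJ3433)))))) (BT.node 3449 (BT.node 3441 (BT.node 3437 (BT.node 3435 (BT.node 3434 (BT.leaf cJ3434) (BT.leaf cJ3435)) (BT.node 3436 (BT.leaf cJ3436) (BT.leaf cJ3437))) (BT.node 3439 (BT.node 3438 (BT.leaf cJ3438) (BT.leaf cJ3439)) (BT.node 3440 (BT.leaf cJ3440) (BT.leaf cJ3441)))) (BT.node 3445 (BT.node 3443 (BT.node 3442 (BT.leaf cJ3442) (BT.leaf cJ3443)) (BT.node 3444 (BT.leaf cJ3444) (BT.leaf cJ3445))) (BT.node 3447 (BT.node 3446 (BT.leaf cJ3446) (BT.leaf cJ3447)) (BT.node 3448 (BT.leaf cJ3448) (BT.leaf cJ3449))))) (BT.node 3457 (BT.node 3453 (BT.node 3451 (BT.node 3450 (BT.leaf cJ3450) (BT.leaf cJ3451)) (BT.node 3452 (BT.leaf cJ3452) (BT.leaf cJ3453))) (BT.node 3455 (BT.node 3454 (BT.leaf cJ3454) (BT.leaf cJ3455)) (BT.node 3456 (BT.leaf cJ3456) (BT.leaf cJ3457)))) (BT.node 3461 (BT.node 3459 (BT.node 3458 (BT.leaf cJ3458) (BT.leaf cJ3459)) (BT.node 3460 (BT.leaf cJ3460) (BT.leaf cJ3461))) (BT.node 3463 (BT.node 3462 (BT.leaf cJ3462) (BT.leaf cJ3463)) (BT.leaf cJ3464)))))) (BT.node 3496 (BT.node 3480 (BT.node 3472 (BT.node 3468 (BT.node 3466 (BT.node 3465 (BT.leaf cJ3465) (BT.leaf cJ3466)) (BT.node 3467 (BT.leaf cJ3467) (BT.leaf cJ3468))) (BT.node 3470 (BT.node 3469 (BT.leaf cJ3469) (BT.leaf cJ3470)) (BT.node 3471 (BT.leaf cJ3471) (BT.leaf cJ3472)))) (BT.node 3476 (BT.node 3474 (BT.node 3473 (BT.leaf cJ3473) (BT.leaf cJ3474)) (BT.node 3475 (BT.leaf cJ3475) (BT.leaf cJ3476))) (BT.node 3478 (BT.node 3477 (BT.leaf cJ3477) (BT.leaf cJ3478)) (BT.node 3479 (BT.leaf cJ3479) (BT.leaf cJ3480))))) (BT.node 3488 (BT.node 3484 (BT.node 3482 (BT.node 3481 (BT.leaf cJ3481) (BT.leaf cJ3482)) (BT.node 3483 (BT.leaf cJ3483) (BT.leaf cJ3484))) (BT.node 3486 (BT.node 3485 (BT.leaf cJ3485) (BT.leaf cJ3486)) (BT.node 3487 (BT.leaf cJ3487) (BT.leaf cJ3488)))) (BT.node 3492 (BT.node 3490 (BT.node 3489 (BT.leaf cJ3489) (BT.leaf cJ3490)) (BT.node 3491 (BT.leaf cJ3491) (BT.leaf cJ3492))) (BT.node 3494 (BT.node 3493 (BT.leaf cJ3493) (BT.leaf cJ3494)) (BT.node 3495 (BT.leaf cJ3495) (BT.leaf cJ3496)))))) (BT.node 3512 (BT.node 3504 (BT.node 3500 (BT.node 3498 (BT.node 3497 (BT.leaf cJ3497) (BT.leaf cJ3498)) (BT.node 3499 (BT.leaf cJ3499) (BT.leaf cJ3500))) (BT.node 3502 (BT.node 3501 (BT.leaf cJ3501) (BT.leaf cJ3502)) (BT.node 3503 (BT.leaf cJ3503) (BT.leaf cJ3504)))) (BT.node 3508 (BT.node 3506 (BT.node 3505 (BT.leaf cJ3505) (BT.leaf cJ3506)) (BT.node 3507 (BT.leaf cJ3507) (BT.leaf cJ3508))) (BT.node 3510 (BT.node 3509 (BT.leaf cJ3509) (BT.leaf cJ3510)) (BT.node 3511 (BT.leaf cJ3511) (BT.leaf cJ3512))))) (BT.node 3520 (BT.node 3516 (BT.node 3514 (BT.node 3513 (BT.leaf cJ3513) (BT.leaf cJ3514)) (BT.node 3515 (BT.leaf cJ3515) (BT.leaf cJ3516))) (BT.node 3518 (BT.node 3517 (BT.leaf cJ3517) (BT.leaf cJ3518)) (BT.node 3519 (BT.leaf cJ3519) (BT.leaf cJ3520)))) (BT.node 3524 (BT.node 3522 (BT.node 3521 (BT.leaf cJ3521) (BT.leaf cJ3522)) (BT.node 3523 (BT.leaf cJ3523) (BT.leaf cJ3524))) (BT.node 3526 (BT.node 3525 (BT.leaf cJ3525) (BT.leaf cJ3526)) (BT.leaf cJ3527))))))))) (BT.node 3779 (BT.node 3653 (BT.node 3590 (BT.node 3559 (BT.node 3543 (BT.node 3535 (BT.node 3531 (BT.node 3529 (BT.node 3528 (BT.leaf cJ3528) (BT.leaf cJ3529)) (BT.node 3530 (BT.leaf cJ3530) (BT.leaf cJ3531))) (BT.node 3533 (BT.node 3532 (BT.leaf cJ3532) (BT.leaf cJ3533)) (BT.node 3534 (BT.leaf cJ3534) (BT.leaf cJ3535)))) (BT.node 3539 (BT.node 3537 (BT.node 3536 (BT.leaf cJ3536) (BT.leaf cJ3537)) (BT.node 3538 (BT.leaf cJ3538) (BT.leaf cJ3539))) (BT.node 3541 (BT.node 3540 (BT.leaf cJ3540) (BT.leaf cJ3541)) (BT.node 3542 (BT.leaf cJ3542) (BT.leaf cJ3543))))) (BT.node 3551 (BT.node 3547 (BT.node 3545 (BT.node 3544 (BT.leaf cJ3544) (BT.leaf cJ3545)) (BT.node 3546 (BT.leaf cJ3546) (BT.leaf cJ3547))) (BT.node 3549 (BT.node 3548 (BT.leaf cJ3548) (BT.leaf cJ3549)) (BT.node 3550 (BT.leaf cJ3550) (BT.leaf cJ3551)))) (BT.node 3555 (BT.node 3553 (BT.node 3552 (BT.leaf cJ3552) (BT.leaf cJ3553)) (BT.node 3554 (BT.leaf cJ3554) (BT.leaf cJ3555))) (BT.node 3557 (BT.node 3556 (BT.leaf cJ3556) (BT.leaf cJ3557)) (BT.node 3558 (BT.leaf cJ3558) (BT.leaf cJ3559)))))) (BT.node 3575 (BT.node 3567 (BT.node 3563 (BT.node 3561 (BT.node 3560 (BT.leaf cJ3560) (BT.leaf cJ3561)) (BT.node 3562 (BT.leaf cJ3562) (BT.leaf cJ3563))) (BT.node 3565 (BT.node 3564 (BT.leaf cJ3564) (BT.leaf cJ3565)) (BT.node 3566 (BT.leaf cJ3566) (BT.leaf cJ3567)))) (BT.node 3571 (BT.node 3569 (BT.node 3568 (BT.leaf cJ3568) (BT.leaf cJ3569)) (BT.node 3570 (BT.leaf cJ3570) (BT.leaf cJ3571))) (BT.node 3573 (BT.node 3572 (BT.leaf cJ3572) (BT.leaf cJ3573)) (BT.node 3574 (BT.leaf cJ3574) (BT.leaf cJ3575))))) (BT.node 3583 (BT.node 3579 (BT.node 3577 (BT.node 3576 (BT.leaf cJ3576) (BT.leaf cJ3577)) (BT.node 3578 (BT.leaf cJ3578) (BT.leaf cJ3579))) (BT.node 3581 (BT.node 3580 (BT.leaf cJ3580) (BT.leaf cJ3581)) (BT.node 3582 (BT.leaf cJ3582) (BT.leaf cJ3583)))) (BT.node 3587 (BT.node 3585 (BT.node 3584 (BT.leaf cJ3584) (BT.leaf cJ3585)) (BT.node 3586 (BT.leaf cJ3586) (BT.leaf cJ3587))) (BT.node 3589 (BT.node 3588 (BT.leaf cJ3588) (BT.leaf cJ3589)) (BT.leaf cJ3590)))))) (BT.node 3622 (BT.node 3606 (BT.node 3598 (BT.node 3594 (BT.node 3592 (BT.node 3591 (BT.leaf cJ3591) (BT.leaf cJ3592)) (BT.node 3593 (BT.leaf cJ3593) (BT.leaf cJ3594))) (BT.node 3596 (BT.node 3595 (BT.leaf cJ3595) (BT.leaf cJ3596)) (BT.node 3597 (BT.leaf cJ3597) (BT.leaf cJ3598)))) (BT.node 3602 (BT.node 3600 (BT.node 3599 (BT.leaf cJ3599) (BT.leaf cJ3600)) (BT.node 3601 (BT.leaf cJ3601) (BT.leaf cJ3602))) (BT.node 3604 (BT.node 3603 (BT.leaf cJ3603) (BT.leaf cJ3604)) (BT.node 3605 (BT.leaf cJ3605) (BT.leaf cJ3606))))) (BT.node 3614 (BT.node 3610 (BT.node 3608 (BT.node 3607 (BT.leaf cJ3607) (BT.leaf cJ3608)) (BT.node 3609 (BT.leaf cJ3609) (BT.leaf cJ3610))) (BT.node 3612 (BT.node 3611 (BT.leaf cJ3611) (BT.leaf cJ3612)) (BT.node 3613 (BT.leaf cJ3613) (BT.leaf cJ3614)))) (BT.node 3618 (BT.node 3616 (BT.node 3615 (BT.leaf cJ3615) (BT.leaf cJ3616)) (BT.node 3617 (BT.leaf cJ3617) (BT.leaf cJ3618))) (BT.node 3620 (BT.node 3619 (BT.leaf cJ3619) (BT.leaf cJ3620)) (BT.node 3621 (BT.leaf cJ3621) (BT.leaf cJ3622)))))) (BT.node 3638 (BT.node 3630 (BT.node 3626 (BT.node 3624 (BT.node 3623 (BT.leaf cJ3623) (BT.leaf cJ3624)) (BT.node 3625 (BT.leaf cJ3625) (BT.leaf cJ3626))) (BT.node 3628 (BT.node 3627 (BT.leaf cJ3627) (BT.leaf cJ3628)) (BT.node 3629 (BT.leaf cJ3629) (BT.leaf cJ3630)))) (BT.node 3634 (BT.node 3632 (BT.node 3631 (BT.leaf cJ3631) (BT.leaf cJ3632)) (BT.node 3633 (BT.leaf cJ3633) (BT.leaf cJ3634))) (BT.node 3636 (BT.node 3635 (BT.leaf cJ3635) (BT.leaf cJ3636)) (BT.node 3637 (BT.leaf cJ3637) (BT.leaf cJ3638))))) (BT.node 3646 (BT.node 3642 (BT.node 3640 (BT.node 3639 (BT.leaf cJ3639) (BT.leaf cJ3640)) (BT.node 3641 (BT.leaf cJ3641) (BT.leaf cJ3642))) (BT.node 3644 (BT.node 3643 (BT.leaf cJ3643) (BT.leaf cJ3644)) (BT.node 3645 (BT.leaf cJ3645) (BT.leaf cJ3646)))) (BT.node 3650 (BT.node 3648 (BT.node 3647 (BT.leaf cJ3647) (BT.leaf cJ3648)) (BT.node 3649 (BT.leaf cJ3649) (BT.leaf cJ3650))) (BT.node 3652 (BT.node 3651 (BT.leaf cJ3651) (BT.leaf cJ3652)) (BT.leaf cJ3653))))))) (BT.node 3716 (BT.node 3685 (BT.node 3669 (BT.node 3661 (BT.node 3657 (BT.node 3655 (BT.node 3654 (BT.leaf cJ3654) (BT.leaf cJ3655)) (BT.node 3656 (BT.leaf cJ3656) (BT.leaf cJ3657))) (BT.node 3659 (BT.node 3658 (BT.leaf cJ3658) (BT.leaf cJ3659)) (BT.node 3660 (BT.leaf cJ3660) (BT.leaf cJ3661)))) (BT.node 3665 (BT.node 3663 (BT.node 3662 (BT.leaf cJ3662) (BT.leaf cJ3663)) (BT.node 3664 (BT.leaf cJ3664) (BT.leaf cJ3665))) (BT.node 3667 (BT.node 3666 (BT.leaf cJ3666) (BT.leaf cJ3667)) (BT.node 3668 (BT.leaf cJ3668) (BT.leaf cJ3669))))) (BT.node 3677 (BT.node 3673 (BT.node 3671 (BT.node 3670 (BT.leaf cJ3670) (BT.leaf cJ3671)) (BT.node 3672 (BT.leaf cJ3672) (BT.leaf cJ3673))) (BT.node 3675 (BT.node 3674 (BT.leaf cJ3674) (BT.leaf cJ3675)) (BT.node 3676 (BT.leaf cJ3676) (BT.leaf cJ3677)))) (BT.node 3681 (BT.node 3679 (BT.node 3678 (BT.leaf cJ3678) (BT.leaf cJ3679)) (BT.node 3680 (BT.leaf cJ3680) (BT.leaf cJ3681))) (BT.node 3683 (BT.node 3682 (BT.leaf cJ3682) (BT.leaf cJ3683)) (BT.node 3684 (BT.leaf cJ3684) (BT.leaf cJ3685)))))) (BT.node 3701 (BT.node 3693 (BT.node 3689 (BT.node 3687 (BT.node 3686 (BT.leaf cJ3686) (BT.leaf cJ3687)) (BT.node 3688 (BT.leaf cJ3688) (BT.leaf cJ3689))) (BT.node 3691 (BT.node 3690 (BT.leaf cJ3690) (BT.leaf cJ3691)) (BT.node 3692 (BT.leaf cJ3692) (BT.leaf cJ3693)))) (BT.node 3697 (BT.node 3695 (BT.node 3694 (BT.leaf cJ3694) (BT.leaf cJ3695)) (BT.node 3696 (BT.leaf cJ3696) (BT.leaf cJ3697))) (BT.node 3699 (BT.node 3698 (BT.leaf cJ3698) (BT.leaf cJ3699)) (BT.node 3700 (BT.leaf cJ3700) (BT.leaf cJ3701))))) (BT.node 3709 (BT.node 3705 (BT.node 3703 (BT.node 3702 (BT.leaf cJ3702) (BT.leaf cJ3703)) (BT.node 3704 (BT.leaf cJ3704) (BT.leaf cJ3705))) (BT.node 3707 (BT.node 3706 (BT.leaf cJ3706) (BT.leaf cJ3707)) (BT.node 3708 (BT.leaf cJ3708) (BT.leaf cJ3709)))) (BT.node 3713 (BT.node 3711 (BT.node 3710 (BT.leaf cJ3710) (BT.leaf cJ3711)) (BT.node 3712 (BT.leaf cJ3712) (BT.leaf cJ3713))) (BT.node 3715 (BT.node 3714 (BT.leaf cJ3714) (BT.leaf cJ3715)) (BT.leaf cJ3716)))))) (BT.node 3748 (BT.node 3732 (BT.node 3724 (BT.node 3720 (BT.node 3718 (BT.node 3717 (BT.leaf cJ3717) (BT.leaf cJ3718)) (BT.node 3719 (BT.leaf cJ3719) (BT.leaf cJ3720))) (BT.node 3722 (BT.node 3721 (BT.leaf cJ3721) (BT.leaf cJ3722)) (BT.node 3723 (BT.leaf cJ3723) (BT.leaf cJ3724)))) (BT.node 3728 (BT.node 3726 (BT.node 3725 (BT.leaf cJ3725) (BT.leaf cJ3726)) (BT.node 3727 (BT.leaf cJ3727) (BT.leaf cJ3728))) (BT.node 3730 (BT.node 3729 (BT.leaf cJ3729) (BT.leaf cJ3730)) (BT.node 3731 (BT.leaf cJ3731) (BT.leaf cJ3732))))) (BT.node 3740 (BT.node 3736 (BT.node 3734 (BT.node 3733 (BT.leaf cJ3733) (BT.leaf cJ3734)) (BT.node 3735 (BT.leaf cJ3735) (BT.leaf cJ3736))) (BT.node 3738 (BT.node 3737 (BT.leaf cJ3737) (BT.leaf cJ3738)) (BT.node 3739 (BT.leaf cJ3739) (BT.leaf cJ3740)))) (BT.node 3744 (BT.node 3742 (BT.node 3741 (BT.leaf cJ3741) (BT.leaf cJ3742)) (BT.node 3743 (BT.leaf cJ3743) (BT.leaf cJ3744))) (BT.node 3746 (BT.node 3745 (BT.leaf cJ3745) (BT.leaf cJ3746)) (BT.node 3747 (BT.leaf cJ3747) (BT.leaf cJ3748)))))) (BT.node 3764 (BT.node 3756 (BT.node 3752 (BT.node 3750 (BT.node 3749 (BT.leaf cJ3749) (BT.leaf cJ3750)) (BT.node 3751 (BT.leaf cJ3751) (BT.leaf cJ3752))) (BT.node 3754 (BT.node 3753 (BT.leaf cJ3753) (BT.leaf cJ3754)) (BT.node 3755 (BT.leaf cJ3755) (BT.leaf cJ3756)))) (BT.node 3760 (BT.node 3758 (BT.node 3757 (BT.leaf cJ3757) (BT.leaf cJ3758)) (BT.node 3759 (BT.leaf cJ3759) (BT.leaf cJ3760))) (BT.node 3762 (BT.node 3761 (BT.leaf cJ3761) (BT.leaf cJ3762)) (BT.node 3763 (BT.leaf cJ3763) (BT.leaf cJ3764))))) (BT.node 3772 (BT.node 3768 (BT.node 3766 (BT.node 3765 (BT.leaf cJ3765) (BT.leaf cJ3766)) (BT.node 3767 (BT.leaf cJ3767) (BT.leaf cJ3768))) (BT.node 3770 (BT.node 3769 (BT.leaf cJ3769) (BT.leaf cJ3770)) (BT.node 3771 (BT.leaf cJ3771) (BT.leaf cJ3772)))) (BT.node 3776 (BT.node 3774 (BT.node 3773 (BT.leaf cJ3773) (BT.leaf cJ3774)) (BT.node 3775 (BT.leaf cJ3775) (BT.leaf cJ3776))) (BT.node 3778 (BT.node 3777 (BT.leaf cJ3777) (BT.leaf cJ3778)) (BT.leaf cJ3779)))))))) (BT.node 3905 (BT.node 3842 (BT.node 3811 (BT.node 3795 (BT.node 3787 (BT.node 3783 (BT.node 3781 (BT.node 3780 (BT.leaf cJ3780) (BT.leaf cJ3781)) (BT.node 3782 (BT.leaf cJ3782) (BT.leaf cJ3783))) (BT.node 3785 (BT.node 3784 (BT.leaf cJ3784) (BT.leaf cJ3785)) (BT.node 3786 (BT.leaf cJ3786) (BT.leaf cJ3787)))) (BT.node 3791 (BT.node 3789 (BT.node 3788 (BT.leaf cJ3788) (BT.leaf cJ3789)) (BT.node 3790 (BT.leaf cJ3790) (BT.leaf cJ3791))) (BT.node 3793 (BT.node 3792 (BT.leaf cJ3792) (BT.leaf cJ3793)) (BT.node 3794 (BT.leaf cJ3794) (BT.leaf cJ3795))))) (BT.node 3803 (BT.node 3799 (BT.node 3797 (BT.node 3796 (BT.leaf cJ3796) (BT.leaf cJ3797)) (BT.node 3798 (BT.leaf cJ3798) (BT.leaf cJ3799))) (BT.node 3801 (BT.node 3800 (BT.leaf cJ3800) (BT.leaf cJ3801)) (BT.node 3802 (BT.leaf cJ3802) (BT.leaf cJ3803)))) (BT.node 3807 (BT.node 3805 (BT.node 3804 (BT.leaf cJ3804) (BT.leaf cJ3805)) (BT.node 3806 (BT.leaf cJ3806) (BT.leaf cJ3807))) (BT.node 3809 (BT.node 3808 (BT.leaf cJ3808) (BT.leaf cJ3809)) (BT.node 3810 (BT.leaf cJ3810) (BT.leaf cJ3811)))))) (BT.node 3827 (BT.node 3819 (BT.node 3815 (BT.node 3813 (BT.node 3812 (BT.leaf cJ3812) (BT.leaf cJ3813)) (BT.node 3814 (BT.leaf cJ3814) (BT.leaf cJ3815))) (BT.node 3817 (BT.node 3816 (BT.leaf cJ3816) (BT.leaf cJ3817)) (BT.node 3818 (BT.leaf cJ3818) (BT.leaf cJ3819)))) (BT.node 3823 (BT.node 3821 (BT.node 3820 (BT.leaf cJ3820) (BT.leaf cJ3821)) (BT.node 3822 (BT.leaf cJ3822) (BT.leaf cJ3823))) (BT.node 3825 (BT.node 3824 (BT.leaf cJ3824) (BT.leaf cJ3825)) (BT.node 3826 (BT.leaf cJ3826) (BT.leaf cJ3827))))) (BT.node 3835 (BT.node 3831 (BT.node 3829 (BT.node 3828 (BT.leaf cJ3828) (BT.leaf cJ3829)) (BT.node 3830 (BT.leaf cJ3830) (BT.leaf cJ3831))) (BT.node 3833 (BT.node 3832 (BT.leaf cJ3832) (BT.leaf cJ3833)) (BT.node 3834 (BT.leaf cJ3834) (BT.leaf cJ3835)))) (BT.node 3839 (BT.node 3837 (BT.node 3836 (BT.leaf cJ3836) (BT.leaf cJ3837)) (BT.node 3838 (BT.leaf cJ3838) (BT.leaf cJ3839))) (BT.node 3841 (BT.node 3840 (BT.leaf cJ3840) (BT.leaf cJ3841)) (BT.leaf cJ3842)))))) (BT.node 3874 (BT.node 3858 (BT.node 3850 (BT.node 3846 (BT.node 3844 (BT.node 3843 (BT.leaf cJ3843) (BT.leaf cJ3844)) (BT.node 3845 (BT.leaf cJ3845) (BT.leaf cJ3846))) (BT.node 3848 (BT.node 3847 (BT.leaf cJ3847) (BT.leaf cJ3848)) (BT.node 3849 (BT.leaf cJ3849) (BT.leaf cJ3850)))) (BT.node 3854 (BT.node 3852 (BT.node 3851 (BT.leaf cJ3851) (BT.leaf cJ3852)) (BT.node 3853 (BT.leaf cJ3853) (BT.leaf cJ3854))) (BT.node 3856 (BT.node 3855 (BT.leaf cJ3855) (BT.leaf cJ3856)) (BT.node 3857 (BT.leaf cJ3857) (BT.leaf cJ3858))))) (BT.node 3866 (BT.node 3862 (BT.node 3860 (BT.node 3859 (BT.leaf cJ3859) (BT.leaf cJ3860)) (BT.node 3861 (BT.leaf cJ3861) (BT.leaf cJ3862))) (BT.node 3864 (BT.node 3863 (BT.leaf cJ3863) (BT.leaf cJ3864)) (BT.node 3865 (BT.leaf cJ3865) (BT.leaf cJ3866)))) (BT.node 3870 (BT.node 3868 (BT.node 3867 (BT.leaf cJ3867) (BT.leaf cJ3868)) (BT.node 3869 (BT.leaf cJ3869) (BT.leaf cJ3870))) (BT.node 3872 (BT.node 3871 (BT.leaf cJ3871) (BT.leaf cJ3872)) (BT.node 3873 (BT.leaf cJ3873) (BT.leaf cJ3874)))))) (BT.node 3890 (BT.node 3882 (BT.node 3878 (BT.node 3876 (BT.node 3875 (BT.leaf cJ3875) (BT.leaf cJ3876)) (BT.node 3877 (BT.leaf cJ3877) (BT.leaf cJ3878))) (BT.node 3880 (BT.node 3879 (BT.leaf cJ3879) (BT.leaf cJ3880)) (BT.node 3881 (BT.leaf cJ3881) (BT.leaf cJ3882)))) (BT.node 3886 (BT.node 3884 (BT.node 3883 (BT.leaf cJ3883) (BT.leaf cJ3884)) (BT.node 3885 (BT.leaf cJ3885) (BT.leaf cJ3886))) (BT.node 3888 (BT.node 3887 (BT.leaf cJ3887) (BT.leaf cJ3888)) (BT.node 3889 (BT.leaf cJ3889) (BT.leaf cJ3890))))) (BT.node 3898 (BT.node 3894 (BT.node 3892 (BT.node 3891 (BT.leaf cJ3891) (BT.leaf cJ3892)) (BT.node 3893 (BT.leaf cJ3893) (BT.leaf cJ3894))) (BT.node 3896 (BT.node 3895 (BT.leaf cJ3895) (BT.leaf cJ3896)) (BT.node 3897 (BT.leaf cJ3897) (BT.leaf cJ3898)))) (BT.node 3902 (BT.node 3900 (BT.node 3899 (BT.leaf cJ3899) (BT.leaf cJ3900)) (BT.node 3901 (BT.leaf cJ3901) (BT.leaf cJ3902))) (BT.node 3904 (BT.node 3903 (BT.leaf cJ3903) (BT.leaf cJ3904)) (BT.leaf cJ3905))))))) (BT.node 3968 (BT.node 3937 (BT.node 3921 (BT.node 3913 (BT.node 3909 (BT.node 3907 (BT.node 3906 (BT.leaf cJ3906) (BT.leaf cJ3907)) (BT.node 3908 (BT.leaf cJ3908) (BT.leaf cJ3909))) (BT.node 3911 (BT.node 3910 (BT.leaf cJ3910) (BT.leaf cJ3911)) (BT.node 3912 (BT.leaf cJ3912) (BT.leaf cJ3913)))) (BT.node 3917 (BT.node 3915 (BT.node 3914 (BT.leaf cJ3914) (BT.leaf cJ3915)) (BT.node 3916 (BT.leaf cJ3916) (BT.leaf cJ3917))) (BT.node 3919 (BT.node 3918 (BT.leaf cJ3918) (BT.leaf cJ3919)) (BT.node 3920 (BT.leaf cJ3920) (BT.leaf cJ3921))))) (BT.node 3929 (BT.node 3925 (BT.node 3923 (BT.node 3922 (BT.leaf cJ3922) (BT.leaf cJ3923)) (BT.node 3924 (BT.leaf cJ3924) (BT.leaf cJ3925))) (BT.node 3927 (BT.node 3926 (BT.leaf cJ3926) (BT.leaf cJ3927)) (BT.node 3928 (BT.leaf cJ3928) (BT.leaf cJ3929)))) (BT.node 3933 (BT.node 3931 (BT.node 3930 (BT.leaf cJ3930) (BT.leaf cJ3931)) (BT.node 3932 (BT.leaf cJ3932) (BT.leaf cJ3933))) (BT.node 3935 (BT.node 3934 (BT.leaf cJ3934) (BT.leaf cJ3935)) (BT.node 3936 (BT.leaf cJ3936) (BT.leaf cJ3937)))))) (BT.node 3953 (BT.node 3945 (BT.node 3941 (BT.node 3939 (BT.node 3938 (BT.leaf cJ3938) (BT.leaf cJ3939)) (BT.node 3940 (BT.leaf cJ3940) (BT.leaf cJ3941))) (BT.node 3943 (BT.node 3942 (BT.leaf cJ3942) (BT.leaf cJ3943)) (BT.node 3944 (BT.leaf cJ3944) (BT.leaf cJ3945)))) (BT.node 3949 (BT.node 3947 (BT.node 3946 (BT.leaf cJ3946) (BT.leaf cJ3947)) (BT.node 3948 (BT.leaf cJ3948) (BT.leaf cJ3949))) (BT.node 3951 (BT.node 3950 (BT.leaf cJ3950) (BT.leaf cJ3951)) (BT.node 3952 (BT.leaf cJ3952) (BT.leaf cJ3953))))) (BT.node 3961 (BT.node 3957 (BT.node 3955 (BT.node 3954 (BT.leaf cJ3954) (BT.leaf cJ3955)) (BT.node 3956 (BT.leaf cJ3956) (BT.leaf cJ3957))) (BT.node 3959 (BT.node 3958 (BT.leaf cJ3958) (BT.leaf cJ3959)) (BT.node 3960 (BT.leaf cJ3960) (BT.leaf cJ3961)))) (BT.node 3965 (BT.node 3963 (BT.node 3962 (BT.leaf cJ3962) (BT.leaf cJ3963)) (BT.node 3964 (BT.leaf cJ3964) (BT.leaf cJ3965))) (BT.node 3967 (BT.node 3966 (BT.leaf cJ3966) (BT.leaf cJ3967)) (BT.leaf cJ3968)))))) (BT.node 4000 (BT.node 3984 (BT.node 3976 (BT.node 3972 (BT.node 3970 (BT.node 3969 (BT.leaf cJ3969) (BT.leaf cJ3970)) (BT.node 3971 (BT.leaf cJ3971) (BT.leaf cJ3972))) (BT.node 3974 (BT.node 3973 (BT.leaf cJ3973) (BT.leaf cJ3974)) (BT.node 3975 (BT.leaf cJ3975) (BT.leaf cJ3976)))) (BT.node 3980 (BT.node 3978 (BT.node 3977 (BT.leaf cJ3977) (BT.leaf cJ3978)) (BT.node 3979 (BT.leaf cJ3979) (BT.leaf cJ3980))) (BT.node 3982 (BT.node 3981 (BT.leaf cJ3981) (BT.leaf cJ3982)) (BT.node 3983 (BT.leaf cJ3983) (BT.leaf cJ3984))))) (BT.node 3992 (BT.node 3988 (BT.node 3986 (BT.node 3985 (BT.leaf cJ3985) (BT.leaf cJ3986)) (BT.node 3987 (BT.leaf cJ3987) (BT.leaf cJ3988))) (BT.node 3990 (BT.node 3989 (BT.leaf cJ3989) (BT.leaf cJ3990)) (BT.node 3991 (BT.leaf cJ3991) (BT.leaf cJ3992)))) (BT.node 3996 (BT.node 3994 (BT.node 3993 (BT.leaf cJ3993) (BT.leaf cJ3994)) (BT.node 3995 (BT.leaf cJ3995) (BT.leaf cJ3996))) (BT.node 3998 (BT.node 3997 (BT.leaf cJ3997) (BT.leaf cJ3998)) (BT.node 3999 (BT.leaf cJ3999) (BT.leaf cJ4000)))))) (BT.node 4016 (BT.node 4008 (BT.node 4004 (BT.node 4002 (BT.node 4001 (BT.leaf cJ4001) (BT.leaf cJ4002)) (BT.node 4003 (BT.leaf cJ4003) (BT.leaf cJ4004))) (BT.node 4006 (BT.node 4005 (BT.leaf cJ4005) (BT.leaf cJ4006)) (BT.node 4007 (BT.leaf cJ4007) (BT.leaf cJ4008)))) (BT.node 4012 (BT.node 4010 (BT.node 4009 (BT.leaf cJ4009) (BT.leaf cJ4010)) (BT.node 4011 (BT.leaf cJ4011) (BT.leaf cJ4012))) (BT.node 4014 (BT.node 4013 (BT.leaf cJ4013) (BT.leaf cJ4014)) (BT.node 4015 (BT.leaf cJ4015) (BT.leaf cJ4016))))) (BT.node 4024 (BT.node 4020 (BT.node 4018 (BT.node 4017 (BT.leaf cJ4017) (BT.leaf cJ4018)) (BT.node 4019 (BT.leaf cJ4019) (BT.leaf cJ4020))) (BT.node 4022 (BT.node 4021 (BT.leaf cJ4021) (BT.leaf cJ4022)) (BT.node 4023 (BT.leaf cJ4023) (BT.leaf cJ4024)))) (BT.node 4028 (BT.node 4026 (BT.node 4025 (BT.leaf cJ4025) (BT.leaf cJ4026)) (BT.node 4027 (BT.leaf cJ4027) (BT.leaf cJ4028))) (BT.node 4030 (BT.node 4029 (BT.leaf cJ4029) (BT.leaf cJ4030)) (BT.leaf cJ4031))))))))))))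
/-- parent chunks -/
def parCT : BT ℕ := (BT.node 223 (BT.node 111 (BT.node 55 (BT.node 27 (BT.node 13 (BT.node 6 (BT.node 3 (BT.node 1 (BT.node 0 (BT.leaf cP0) (BT.leaf cP1)) (BT.node 2 (BT.leaf cP2) (BT.leaf cP3))) (BT.node 5 (BT.node 4 (BT.leaf cP4) (BT.leaf cP5)) (BT.leaf cP6))) (BT.node 10 (BT.node 8 (BT.node 7 (BT.leaf cP7) (BT.leaf cP8)) (BT.node 9 (BT.leaf cP9) (BT.leaf cP10))) (BT.node 12 (BT.node 11 (BT.leaf cP11) (BT.leaf cP12)) (BT.leaf cP13)))) (BT.node 20 (BT.node 17 (BT.node 15 (BT.node 14 (BT.leaf cP14) (BT.leaf cP15)) (BT.node 16 (BT.leaf cP16) (BT.leaf cP17))) (BT.node 19 (BT.node 18 (BT.leaf cP18) (BT.leaf cP19)) (BT.leaf cP20))) (BT.node 24 (BT.node 22 (BT.node 21 (BT.leaf cP21) (BT.leaf cP22)) (BT.node 23 (BT.leaf cP23) (BT.leaf cP24))) (BT.node 26 (BT.node 25 (BT.leaf cP25) (BT.leaf cP26)) (BT.leaf cP27))))) (BT.node 41 (BT.node 34 (BT.node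 31 (BT.node 29 (BT.node 28 (BT.leaf cP28) (BT.leaf cP29)) (BT.node 30 (BT.leaf cP30) (BT.leaf cP31))) (BT.node 33 (BT.node 32 (BT.leaf cP32) (BT.leaf cP33)) (BT.leaf cP34))) (BT.node 38 (BT.node 36 (BT.node 35 (BT.leaf cP35) (BT.leaf cP36)) (BT.node 37 (BT.leaf cP37) (BT.leaf cP38))) (BT.node 40 (BT.node 39 (BT.leaf cP39) (BT.leaf cP40)) (BT.leaf cP41)))) (BT.node 48 (BT.node 45 (BT.node 43 (BT.node 42 (BT.leaf cP42) (BT.leaf cP43)) (BT.node 44 (BT.leaf cP44) (BT.leaf cP45))) (BT.node 47 (BT.node 46 (BT.leaf cP46) (BT.leaf cP47)) (BT.leaf cP48))) (BT.node 52 (BT.node 50 (BT.node 49 (BT.leaf cP49) (BT.leaf cP50)) (BT.node 51 (BT.leaf cP51) (BT.leaf cP52))) (BT.node 54 (BT.node 53 (BT.leaf cP53) (BT.leaf cP54)) (BT.leaf cP55)))))) (BT.node 83 (BT.node 69 (BT.node 62 (BT.node 59 (BT.node 57 (BT.node 56 (BT.leaf cP56) (BT.leaf cP57)) (BT.node 58 (BT.leaf cP58) (BT.leaf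 cP59))) (BT.node 61 (BT.node 60 (BT.leaf cP60) (BT.leaf cP61)) (BT.leaf cP62))) (BT.node 66 (BT.node 64 (BT.node 63 (BT.leaf cP63) (BT.leaf cP64)) (BT.node 65 (BT.leaf cP65) (BT.leaf cP66))) (BT.node 68 (BT.node 67 (BT.leaf cP67) (BT.leaf cP68)) (BT.leaf cP69)))) (BT.node 76 (BT.node 73 (BT.node 71 (BT.node 70 (BT.leaf cP70) (BT.leaf cP71)) (BT.node 72 (BT.leaf cP72) (BT.leaf cP73))) (BT.node 75 (BT.node 74 (BT.leaf cP74) (BT.leaf cP75)) (BT.leaf cP76))) (BT.node 80 (BT.node 78 (BT.node 77 (BT.leaf cP77) (BT.leaf cP78)) (BT.node 79 (BT.leaf cP79) (BT.leaf cP80))) (BT.node 82 (BT.node 81 (BT.leaf cP81) (BT.leaf cP82)) (BT.leaf cP83))))) (BT.node 97 (BT.node 90 (BT.node 87 (BT.node 85 (BT.node 84 (BT.leaf cP84) (BT.leaf cP85)) (BT.node 86 (BT.leaf cP86) (BT.leaf cP87))) (BT.node 89 (BT.node 88 (BT.leaf cP88) (BT.leaf cP89)) (BT.leaf cP90))) (BT.node 94 (BT.node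 92 (BT.node 91 (BT.leaf cP91) (BT.leaf cP92)) (BT.node 93 (BT.leaf cP93) (BT.leaf cP94))) (BT.node 96 (BT.node 95 (BT.leaf cP95) (BT.leaf cP96)) (BT.leaf cP97)))) (BT.node 104 (BT.node 101 (BT.node 99 (BT.node 98 (BT.leaf cP98) (BT.leaf cP99)) (BT.node 100 (BT.leaf cP100) (BT.leaf cP101))) (BT.node 103 (BT.node 102 (BT.leaf cP102) (BT.leaf cP103)) (BT.leaf cP104))) (BT.node 108 (BT.node 106 (BT.node 105 (BT.leaf cP105) (BT.leaf cP106)) (BT.node 107 (BT.leaf cP107) (BT.leaf cP108))) (BT.node 110 (BT.node 109 (BT.leaf cP109) (BT.leaf cP110)) (BT.leaf cP111))))))) (BT.node 167 (BT.node 139 (BT.node 125 (BT.node 118 (BT.node 115 (BT.node 113 (BT.node 112 (BT.leaf cP112) (BT.leaf cP113)) (BT.node 114 (BT.leaf cP114) (BT.leaf cP115))) (BT.node 117 (BT.node 116 (BT.leaf cP116) (BT.leaf cP117)) (BT.leaf cP118))) (BT.node 122 (BT.node 120 (BT.node 119 (BT.leaf cP119)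 (BT.leaf cP120)) (BT.node 121 (BT.leaf cP121) (BT.leaf cP122))) (BT.node 124 (BT.node 123 (BT.leaf cP123) (BT.leaf cP124)) (BT.leaf cP125)))) (BT.node 132 (BT.node 129 (BT.node 127 (BT.node 126 (BT.leaf cP126) (BT.leaf cP127)) (BT.node 128 (BT.leaf cP128) (BT.leaf cP129))) (BT.node 131 (BT.node 130 (BT.leaf cP130) (BT.leaf cP131)) (BT.leaf cP132))) (BT.node 136 (BT.node 134 (BT.node 133 (BT.leaf cP133) (BT.leaf cP134)) (BT.node 135 (BT.leaf cP135) (BT.leaf cP136))) (BT.node 138 (BT.node 137 (BT.leaf cP137) (BT.leaf cP138)) (BT.leaf cP139))))) (BT.node 153 (BT.node 146 (BT.node 143 (BT.node 141 (BT.node 140 (BT.leaf cP140) (BT.leaf cP141)) (BT.node 142 (BT.leaf cP142) (BT.leaf cP143))) (BT.node 145 (BT.node 144 (BT.leaf cP144) (BT.leaf cP145)) (BT.leaf cP146))) (BT.node 150 (BT.node 148 (BT.node 147 (BT.leaf cP147) (BT.leaf cP148)) (BT.node 149 (BT.leaf cP149)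 (BT.leaf cP150))) (BT.node 152 (BT.node 151 (BT.leaf cP151) (BT.leaf cP152)) (BT.leaf cP153)))) (BT.node 160 (BT.node 157 (BT.node 155 (BT.node 154 (BT.leaf cP154) (BT.leaf cP155)) (BT.node 156 (BT.leaf cP156) (BT.leaf cP157))) (BT.node 159 (BT.node 158 (BT.leaf cP158) (BT.leaf cP159)) (BT.leaf cP160))) (BT.node 164 (BT.node 162 (BT.node 161 (BT.leaf cP161) (BT.leaf cP162)) (BT.node 163 (BT.leaf cP163) (BT.leaf cP164))) (BT.node 166 (BT.node 165 (BT.leaf cP165) (BT.leaf cP166)) (BT.leaf cP167)))))) (BT.node 195 (BT.node 181 (BT.node 174 (BT.node 171 (BT.node 169 (BT.node 168 (BT.leaf cP168) (BT.leaf cP169)) (BT.node 170 (BT.leaf cP170) (BT.leaf cP171))) (BT.node 173 (BT.node 172 (BT.leaf cP172) (BT.leaf cP173)) (BT.leaf cP174))) (BT.node 178 (BT.node 176 (BT.node 175 (BT.leaf cP175) (BT.leaf cP176)) (BT.node 177 (BT.leaf cP177) (BT.leaf cP178))) (BT.node 180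 (BT.node 179 (BT.leaf cP179) (BT.leaf cP180)) (BT.leaf cP181)))) (BT.node 188 (BT.node 185 (BT.node 183 (BT.node 182 (BT.leaf cP182) (BT.leaf cP183)) (BT.node 184 (BT.leaf cP184) (BT.leaf cP185))) (BT.node 187 (BT.node 186 (BT.leaf cP186) (BT.leaf cP187)) (BT.leaf cP188))) (BT.node 192 (BT.node 190 (BT.node 189 (BT.leaf cP189) (BT.leaf cP190)) (BT.node 191 (BT.leaf cP191) (BT.leaf cP192))) (BT.node 194 (BT.node 193 (BT.leaf cP193) (BT.leaf cP194)) (BT.leaf cP195))))) (BT.node 209 (BT.node 202 (BT.node 199 (BT.node 197 (BT.node 196 (BT.leaf cP196) (BT.leaf cP197)) (BT.node 198 (BT.leaf cP198) (BT.leaf cP199))) (BT.node 201 (BT.node 200 (BT.leaf cP200) (BT.leaf cP201)) (BT.leaf cP202))) (BT.node 206 (BT.node 204 (BT.node 203 (BT.leaf cP203) (BT.leaf cP204)) (BT.node 205 (BT.leaf cP205) (BT.leaf cP206))) (BT.node 208 (BT.node 207 (BT.leaf cP207) (BT.leaf cP208))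 (BT.leaf cP209)))) (BT.node 216 (BT.node 213 (BT.node 211 (BT.node 210 (BT.leaf cP210) (BT.leaf cP211)) (BT.node 212 (BT.leaf cP212) (BT.leaf cP213))) (BT.node 215 (BT.node 214 (BT.leaf cP214) (BT.leaf cP215)) (BT.leaf cP216))) (BT.node 220 (BT.node 218 (BT.node 217 (BT.leaf cP217) (BT.leaf cP218)) (BT.node 219 (BT.leaf cP219) (BT.leaf cP220))) (BT.node 222 (BT.node 221 (BT.leaf cP221) (BT.leaf cP222)) (BT.leaf cP223)))))))) (BT.node 335 (BT.node 279 (BT.node 251 (BT.node 237 (BT.node 230 (BT.node 227 (BT.node 225 (BT.node 224 (BT.leaf cP224) (BT.leaf cP225)) (BT.node 226 (BT.leaf cP226) (BT.leaf cP227))) (BT.node 229 (BT.node 228 (BT.leaf cP228) (BT.leaf cP229)) (BT.leaf cP230))) (BT.node 234 (BT.node 232 (BT.node 231 (BT.leaf cP231) (BT.leaf cP232)) (BT.node 233 (BT.leaf cP233) (BT.leaf cP234))) (BT.node 236 (BT.node 235 (BT.leaf cP235) (BT.leaf cP236)) (BT.leaf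 cP237)))) (BT.node 244 (BT.node 241 (BT.node 239 (BT.node 238 (BT.leaf cP238) (BT.leaf cP239)) (BT.node 240 (BT.leaf cP240) (BT.leaf cP241))) (BT.node 243 (BT.node 242 (BT.leaf cP242) (BT.leaf cP243)) (BT.leaf cP244))) (BT.node 248 (BT.node 246 (BT.node 245 (BT.leaf cP245) (BT.leaf cP246)) (BT.node 247 (BT.leaf cP247) (BT.leaf cP248))) (BT.node 250 (BT.node 249 (BT.leaf cP249) (BT.leaf cP250)) (BT.leaf cP251))))) (BT.node 265 (BT.node 258 (BT.node 255 (BT.node 253 (BT.node 252 (BT.leaf cP252) (BT.leaf cP253)) (BT.node 254 (BT.leaf cP254) (BT.leaf cP255))) (BT.node 257 (BT.node 256 (BT.leaf cP256) (BT.leaf cP257)) (BT.leaf cP258))) (BT.node 262 (BT.node 260 (BT.node 259 (BT.leaf cP259) (BT.leaf cP260)) (BT.node 261 (BT.leaf cP261) (BT.leaf cP262))) (BT.node 264 (BT.node 263 (BT.leaf cP263) (BT.leaf cP264)) (BT.leaf cP265)))) (BT.node 272 (BT.node 269 (BT.node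 267 (BT.node 266 (BT.leaf cP266) (BT.leaf cP267)) (BT.node 268 (BT.leaf cP268) (BT.leaf cP269))) (BT.node 271 (BT.node 270 (BT.leaf cP270) (BT.leaf cP271)) (BT.leaf cP272))) (BT.node 276 (BT.node 274 (BT.node 273 (BT.leaf cP273) (BT.leaf cP274)) (BT.node 275 (BT.leaf cP275) (BT.leaf cP276))) (BT.node 278 (BT.node 277 (BT.leaf cP277) (BT.leaf cP278)) (BT.leaf cP279)))))) (BT.node 307 (BT.node 293 (BT.node 286 (BT.node 283 (BT.node 281 (BT.node 280 (BT.leaf cP280) (BT.leaf cP281)) (BT.node 282 (BT.leaf cP282) (BT.leaf cP283))) (BT.node 285 (BT.node 284 (BT.leaf cP284) (BT.leaf cP285)) (BT.leaf cP286))) (BT.node 290 (BT.node 288 (BT.node 287 (BT.leaf cP287) (BT.leaf cP288)) (BT.node 289 (BT.leaf cP289) (BT.leaf cP290))) (BT.node 292 (BT.node 291 (BT.leaf cP291) (BT.leaf cP292)) (BT.leaf cP293)))) (BT.node 300 (BT.node 297 (BT.node 295 (BT.node 294 (BT.leaf cP294)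 (BT.leaf cP295)) (BT.node 296 (BT.leaf cP296) (BT.leaf cP297))) (BT.node 299 (BT.node 298 (BT.leaf cP298) (BT.leaf cP299)) (BT.leaf cP300))) (BT.node 304 (BT.node 302 (BT.node 301 (BT.leaf cP301) (BT.leaf cP302)) (BT.node 303 (BT.leaf cP303) (BT.leaf cP304))) (BT.node 306 (BT.node 305 (BT.leaf cP305) (BT.leaf cP306)) (BT.leaf cP307))))) (BT.node 321 (BT.node 314 (BT.node 311 (BT.node 309 (BT.node 308 (BT.leaf cP308) (BT.leaf cP309)) (BT.node 310 (BT.leaf cP310) (BT.leaf cP311))) (BT.node 313 (BT.node 312 (BT.leaf cP312) (BT.leaf cP313)) (BT.leaf cP314))) (BT.node 318 (BT.node 316 (BT.node 315 (BT.leaf cP315) (BT.leaf cP316)) (BT.node 317 (BT.leaf cP317) (BT.leaf cP318))) (BT.node 320 (BT.node 319 (BT.leaf cP319) (BT.leaf cP320)) (BT.leaf cP321)))) (BT.node 328 (BT.node 325 (BT.node 323 (BT.node 322 (BT.leaf cP322) (BT.leaf cP323)) (BT.node 324 (BT.leaf cP324)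 (BT.leaf cP325))) (BT.node 327 (BT.node 326 (BT.leaf cP326) (BT.leaf cP327)) (BT.leaf cP328))) (BT.node 332 (BT.node 330 (BT.node 329 (BT.leaf cP329) (BT.leaf cP330)) (BT.node 331 (BT.leaf cP331) (BT.leaf cP332))) (BT.node 334 (BT.node 333 (BT.leaf cP333) (BT.leaf cP334)) (BT.leaf cP335))))))) (BT.node 391 (BT.node 363 (BT.node 349 (BT.node 342 (BT.node 339 (BT.node 337 (BT.node 336 (BT.leaf cP336) (BT.leaf cP337)) (BT.node 338 (BT.leaf cP338) (BT.leaf cP339))) (BT.node 341 (BT.node 340 (BT.leaf cP340) (BT.leaf cP341)) (BT.leaf cP342))) (BT.node 346 (BT.node 344 (BT.node 343 (BT.leaf cP343) (BT.leaf cP344)) (BT.node 345 (BT.leaf cP345) (BT.leaf cP346))) (BT.node 348 (BT.node 347 (BT.leaf cP347) (BT.leaf cP348)) (BT.leaf cP349)))) (BT.node 356 (BT.node 353 (BT.node 351 (BT.node 350 (BT.leaf cP350) (BT.leaf cP351)) (BT.node 352 (BT.leaf cP352) (BT.leaf cP353)))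 (BT.node 355 (BT.node 354 (BT.leaf cP354) (BT.leaf cP355)) (BT.leaf cP356))) (BT.node 360 (BT.node 358 (BT.node 357 (BT.leaf cP357) (BT.leaf cP358)) (BT.node 359 (BT.leaf cP359) (BT.leaf cP360))) (BT.node 362 (BT.node 361 (BT.leaf cP361) (BT.leaf cP362)) (BT.leaf cP363))))) (BT.node 377 (BT.node 370 (BT.node 367 (BT.node 365 (BT.node 364 (BT.leaf cP364) (BT.leaf cP365)) (BT.node 366 (BT.leaf cP366) (BT.leaf cP367))) (BT.node 369 (BT.node 368 (BT.leaf cP368) (BT.leaf cP369)) (BT.leaf cP370))) (BT.node 374 (BT.node 372 (BT.node 371 (BT.leaf cP371) (BT.leaf cP372)) (BT.node 373 (BT.leaf cP373) (BT.leaf cP374))) (BT.node 376 (BT.node 375 (BT.leaf cP375) (BT.leaf cP376)) (BT.leaf cP377)))) (BT.node 384 (BT.node 381 (BT.node 379 (BT.node 378 (BT.leaf cP378) (BT.leaf cP379)) (BT.node 380 (BT.leaf cP380) (BT.leaf cP381))) (BT.node 383 (BT.node 382 (BT.leaf cP382) (BT.leaf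 cP383)) (BT.leaf cP384))) (BT.node 388 (BT.node 386 (BT.node 385 (BT.leaf cP385) (BT.leaf cP386)) (BT.node 387 (BT.leaf cP387) (BT.leaf cP388))) (BT.node 390 (BT.node 389 (BT.leaf cP389) (BT.leaf cP390)) (BT.leaf cP391)))))) (BT.node 419 (BT.node 405 (BT.node 398 (BT.node 395 (BT.node 393 (BT.node 392 (BT.leaf cP392) (BT.leaf cP393)) (BT.node 394 (BT.leaf cP394) (BT.leaf cP395))) (BT.node 397 (BT.node 396 (BT.leaf cP396) (BT.leaf cP397)) (BT.leaf cP398))) (BT.node 402 (BT.node 400 (BT.node 399 (BT.leaf cP399) (BT.leaf cP400)) (BT.node 401 (BT.leaf cP401) (BT.leaf cP402))) (BT.node 404 (BT.node 403 (BT.leaf cP403) (BT.leaf cP404)) (BT.leaf cP405)))) (BT.node 412 (BT.node 409 (BT.node 407 (BT.node 406 (BT.leaf cP406) (BT.leaf cP407)) (BT.node 408 (BT.leaf cP408) (BT.leaf cP409))) (BT.node 411 (BT.node 410 (BT.leaf cP410) (BT.leaf cP411)) (BT.leaf cP412))) (BT.node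 416 (BT.node 414 (BT.node 413 (BT.leaf cP413) (BT.leaf cP414)) (BT.node 415 (BT.leaf cP415) (BT.leaf cP416))) (BT.node 418 (BT.node 417 (BT.leaf cP417) (BT.leaf cP418)) (BT.leaf cP419))))) (BT.node 433 (BT.node 426 (BT.node 423 (BT.node 421 (BT.node 420 (BT.leaf cP420) (BT.leaf cP421)) (BT.node 422 (BT.leaf cP422) (BT.leaf cP423))) (BT.node 425 (BT.node 424 (BT.leaf cP424) (BT.leaf cP425)) (BT.leaf cP426))) (BT.node 430 (BT.node 428 (BT.node 427 (BT.leaf cP427) (BT.leaf cP428)) (BT.node 429 (BT.leaf cP429) (BT.leaf cP430))) (BT.node 432 (BT.node 431 (BT.leaf cP431) (BT.leaf cP432)) (BT.leaf cP433)))) (BT.node 440 (BT.node 437 (BT.node 435 (BT.node 434 (BT.leaf cP434) (BT.leaf cP435)) (BT.node 436 (BT.leaf cP436) (BT.leaf cP437))) (BT.node 439 (BT.node 438 (BT.leaf cP438) (BT.leaf cP439)) (BT.leaf cP440))) (BT.node 444 (BT.node 442 (BT.node 441 (BT.leaf cP441)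 (BT.leaf cP442)) (BT.node 443 (BT.leaf cP443) (BT.leaf cP444))) (BT.node 446 (BT.node 445 (BT.leaf cP445) (BT.leaf cP446)) (BT.leaf cP447)))))))))
/-- the certificate -/
def data : Data where
  k := 8
  N := 229077
  W := 39
  MW := 549755813888
  B := 262144
  CH := 512
  NCH := 448
  colE := colET
  JW := 64
  MJ := 18446744073709551616
  A := 1048576
  colJ := colJT
  PW := 27
  MP := 134217728
  parC := parCT
  inv := (BT.node 4 (BT.node 2 (BT.node 1 (BT.node 0 (BT.leaf 1) (BT.leaf 0)) (BT.leaf 2)) (BT.node 3 (BT.leaf 3) (BT.leaf 4))) (BT.node 6 (BT.node 5 (BT.leaf 5) (BT.leaf 6)) (BT.node 7 (BT.leaf 7) (BT.leaf 8))))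
  rel := relT
  sub := subT
  fuel := 64

end Cfsg.Agent.Lib.Helper28.TCONData
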