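import Cfsg.Agent.Lib.Helper28.TC2Range
import Cfsg.Agent.Lib.Helper28.TCONData
import Cfsg.Agent.Lib.Helper28.TCONTable
import Cfsg.Agent.Lib.Helper28.TCONMr1
set_option autoImplicit false
set_option maxRecDepth 100000
set_option maxHeartbeats 0

namespace Cfsg.Agent.Lib.Helper28.TCONMr4
open Cfsg.Agent.Lib.Helper28.TC2Upper Cfsg.Agent.Lib.Helper28.TC2Lower Cfsg.Agent.Lib.Helper28.TC2Range Cfsg.Agent.Lib.Helper28.TCONData Cfsg.Agent.Lib.Helper28.TCONTable

theorem fin20 : Data.finalRange data 208320 10416 = true := by decide +kernel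
theorem fin21 : Data.finalRange data 218736 10341 = true := by decide +kernel
theorem cnt0 : Data.countFrom data 0 40000 = 25038 := by decide +kernel
theorem cnt1 : Data.countFrom data 40000 40000 = 20954 := by decide +kernel
theorem cnt2 : Data.countFrom data 80000 40000 = 17118 := by decide +kernel

end Cfsg.Agent.Lib.Helper28.TCONMr4
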