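import Cfsg.Agent.Lib.Helper28.TC2Range
import Cfsg.Agent.Lib.Helper28.TCONData
import Cfsg.Agent.Lib.Helper28.TCONTable
import Cfsg.Agent.Lib.Helper28.TCONMr2
set_option autoImplicit false
set_option maxRecDepth 100000
set_option maxHeartbeats 0

namespace Cfsg.Agent.Lib.Helper28.TCONMr5
open Cfsg.Agent.Lib.Helper28.TC2Upper Cfsg.Agent.Lib.Helper28.TC2Lower Cfsg.Agent.Lib.Helper28.TC2Range Cfsg.Agent.Lib.Helper28.TCONData Cfsg.Agent.Lib.Helper28.TCONTable

theorem cnt3 : Data.countFrom data 120000 40000 = 15218 := by decide +kernel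
theorem cnt4 : Data.countFrom data 160000 40000 = 15642 := by decide +kernel
theorem cnt5 : Data.countFrom data 200000 29077 = 28790 := by decide +kernel
theorem prm0 : Table.permRange table 0 15625 = true := by decide +kernel
theorem prm1 : Table.permRange table 15625 15625 = true := by decide +kernel

end Cfsg.Agent.Lib.Helper28.TCONMr5
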