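import Cfsg.Agent.Lib.Helper28.TC2Range
import Cfsg.Agent.Lib.Helper28.TCONData
import Cfsg.Agent.Lib.Helper28.TCONTable
import Cfsg.Agent.Lib.Helper28.TCONMr3
set_option autoImplicit false
set_option maxRecDepth 100000
set_option maxHeartbeats 0

namespace Cfsg.Agent.Lib.Helper28.TCONMr6
open Cfsg.Agent.Lib.Helper28.TC2Upper Cfsg.Agent.Lib.Helper28.TC2Lower Cfsg.Agent.Lib.Helper28.TC2Range Cfsg.Agent.Lib.Helper28.TCONData Cfsg.Agent.Lib.Helper28.TCONTable

theorem prm2 : Table.permRange table 31250 15625 = true := by decide +kernel
theorem prm3 : Table.permRange table 46875 15625 = true := by decide +kernel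
theorem prm4 : Table.permRange table 62500 15625 = true := by decide +kernel
theorem prm5 : Table.permRange table 78125 15625 = true := by decide +kernel
theorem prm6 : Table.permRange table 93750 15625 = true := by decide +kernel

end Cfsg.Agent.Lib.Helper28.TCONMr6
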