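import Cfsg.Agent.Lib.Helper28.TC2Range
import Cfsg.Agent.Lib.Helper28.TCONData
import Cfsg.Agent.Lib.Helper28.TCONTable
import Cfsg.Agent.Lib.Helper28.TCONMr0
import Cfsg.Agent.Lib.Helper28.TCONMr1
import Cfsg.Agent.Lib.Helper28.TCONMr2
import Cfsg.Agent.Lib.Helper28.TCONMr3
import Cfsg.Agent.Lib.Helper28.TCONMr4
import Cfsg.Agent.Lib.Helper28.TCONMr5
import Cfsg.Agent.Lib.Helper28.TCONMr6
import Cfsg.Agent.Lib.Helper28.TCONMr7
set_option autoImplicit false
set_option maxRecDepth 100000
set_option maxHeartbeats 0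

namespace Cfsg.Agent.Lib.Helper28.TCONM
open Cfsg.Agent.Lib.Helper28.TC2Upper Cfsg.Agent.Lib.Helper28.TC2Lower Cfsg.Agent.Lib.Helper28.TC2Orbit Cfsg.Agent.Lib.Helper28.TC2Range Cfsg.Agent.Lib.Helper28.TCONData Cfsg.Agent.Lib.Helper28.TCONTable

theorem hlive0 : data.isLive 0 = true := by decide +kernel

theorem hrows : ∀ v, v < data.N → Data.rowOK data v = true := by
  intro v hv
  have hv' : v < 229077 := hv
  rcases Nat.lt_or_ge v 10416 with h0 | h0
  · exact (Data.finalRange_iff data 0 10416).mp Cfsg.Agent.Lib.Helper28.TCONMr0.fin0 v (by omega) (by omega)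
  rcases Nat.lt_or_ge v 20832 with h1 | h1
  · exact (Data.finalRange_iff data 10416 10416).mp Cfsg.Agent.Lib.Helper28.TCONMr0.fin1 v (by omega) (by omega)
  rcases Nat.lt_or_ge v 31248 with h2 | h2
  · exact (Data.finalRange_iff data 20832 10416).mp Cfsg.Agent.Lib.Helper28.TCONMr0.fin2 v (by omega) (by omega)
  rcases Nat.lt_or_ge v 41664 with h3 | h3
  · exact (Data.finalRange_iff data 31248 10416).mp Cfsg.Agent.Lib.Helper28.TCONMr0.fin3 v (by omega) (by omega)
  rcases Nat.lt_or_ge v 52080 with h4 | h4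
  · exact (Data.finalRange_iff data 41664 10416).mp Cfsg.Agent.Lib.Helper28.TCONMr0.fin4 v (by omega) (by omega)
  rcases Nat.lt_or_ge v 62496 with h5 | h5
  · exact (Data.finalRange_iff data 52080 10416).mp Cfsg.Agent.Lib.Helper28.TCONMr1.fin5 v (by omega) (by omega)
  rcases Nat.lt_or_ge v 72912 with h6 | h6
  · exact (Data.finalRange_iff data 62496 10416).mp Cfsg.Agent.Lib.Helper28.TCONMr1.fin6 v (by omega) (by omega)
  rcases Nat.lt_or_ge v 83328 with h7 | h7
  · exact (Data.finalRange_iff data 72912 10416).mp Cfsg.Agent.Lib.Helper28.TCONMr1.fin7 v (by omega) (by omega)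
  rcases Nat.lt_or_ge v 93744 with h8 | h8
  · exact (Data.finalRange_iff data 83328 10416).mp Cfsg.Agent.Lib.Helper28.TCONMr1.fin8 v (by omega) (by omega)
  rcases Nat.lt_or_ge v 104160 with h9 | h9
  · exact (Data.finalRange_iff data 93744 10416).mp Cfsg.Agent.Lib.Helper28.TCONMr1.fin9 v (by omega) (by omega)
  rcases Nat.lt_or_ge v 114576 with h10 | h10
  · exact (Data.finalRange_iff data 104160 10416).mp Cfsg.Agent.Lib.Helper28.TCONMr2.fin10 v (by omega) (by omega)
  rcases Nat.lt_or_ge v 124992 with h11 | h11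
  · exact (Data.finalRange_iff data 114576 10416).mp Cfsg.Agent.Lib.Helper28.TCONMr2.fin11 v (by omega) (by omega)
  rcases Nat.lt_or_ge v 135408 with h12 | h12
  · exact (Data.finalRange_iff data 124992 10416).mp Cfsg.Agent.Lib.Helper28.TCONMr2.fin12 v (by omega) (by omega)
  rcases Nat.lt_or_ge v 145824 with h13 | h13
  · exact (Data.finalRange_iff data 135408 10416).mp Cfsg.Agent.Lib.Helper28.TCONMr2.fin13 v (by omega) (by omega)
  rcases Nat.lt_or_ge v 156240 with h14 | h14
  · exact (Data.finalRange_iff data 145824 10416).mp Cfsg.Agent.Lib.Helper28.TCONMr2.fin14 v (by omega) (by omega)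
  rcases Nat.lt_or_ge v 166656 with h15 | h15
  · exact (Data.finalRange_iff data 156240 10416).mp Cfsg.Agent.Lib.Helper28.TCONMr3.fin15 v (by omega) (by omega)
  rcases Nat.lt_or_ge v 177072 with h16 | h16
  · exact (Data.finalRange_iff data 166656 10416).mp Cfsg.Agent.Lib.Helper28.TCONMr3.fin16 v (by omega) (by omega)
  rcases Nat.lt_or_ge v 187488 with h17 | h17
  · exact (Data.finalRange_iff data 177072 10416).mp Cfsg.Agent.Lib.Helper28.TCONMr3.fin17 v (by omega) (by omega)
  rcases Nat.lt_or_ge v 197904 with h18 | h18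
  · exact (Data.finalRange_iff data 187488 10416).mp Cfsg.Agent.Lib.Helper28.TCONMr3.fin18 v (by omega) (by omega)
  rcases Nat.lt_or_ge v 208320 with h19 | h19
  · exact (Data.finalRange_iff data 197904 10416).mp Cfsg.Agent.Lib.Helper28.TCONMr3.fin19 v (by omega) (by omega)
  rcases Nat.lt_or_ge v 218736 with h20 | h20
  · exact (Data.finalRange_iff data 208320 10416).mp Cfsg.Agent.Lib.Helper28.TCONMr4.fin20 v (by omega) (by omega)
  exact (Data.finalRange_iff data 218736 10341).mp Cfsg.Agent.Lib.Helper28.TCONMr4.fin21 v (by omega) (by omega)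

theorem hfin : data.finalOK = true := Data.finalOK_of_rows data hlive0 (by decide) hrows

theorem pc0 : Data.countFrom data 0 40000 = 25038 := Cfsg.Agent.Lib.Helper28.TCONMr4.cnt0
theorem pc1 : Data.countFrom data 0 80000 = 45992 := Data.countFrom_step data pc0 Cfsg.Agent.Lib.Helper28.TCONMr4.cnt1 (by norm_num) (by norm_num)
theorem pc2 : Data.countFrom data 0 120000 = 63110 := Data.countFrom_step data pc1 Cfsg.Agent.Lib.Helper28.TCONMr4.cnt2 (by norm_num) (by norm_num)
theorem pc3 : Data.countFrom data 0 160000 = 78328 := Data.countFrom_step data pc2 Cfsg.Agent.Lib.Helper28.TCONMr5.cnt3 (by norm_num) (by norm_num)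
theorem pc4 : Data.countFrom data 0 200000 = 93970 := Data.countFrom_step data pc3 Cfsg.Agent.Lib.Helper28.TCONMr5.cnt4 (by norm_num) (by norm_num)
theorem pc5 : Data.countFrom data 0 229077 = 122760 := Data.countFrom_step data pc4 Cfsg.Agent.Lib.Helper28.TCONMr5.cnt5 (by norm_num) (by norm_num)

theorem hcount : data.countLive = table.n := by
  rw [Data.countLive_eq]
  exact pc5

theorem hinvOK : table.invOK = true := by decide +kernel

theorem hpermAll : ∀ p, p < table.n → Table.permRow table p = true := by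
  intro p hp
  have hp' : p < 122760 := hp
  rcases Nat.lt_or_ge p 15625 with h0 | h0
  · exact (Table.permRange_iff table 0 15625).mp Cfsg.Agent.Lib.Helper28.TCONMr5.prm0 p (by omega) (by omega)
  rcases Nat.lt_or_ge p 31250 with h1 | h1
  · exact (Table.permRange_iff table 15625 15625).mp Cfsg.Agent.Lib.Helper28.TCONMr5.prm1 p (by omega) (by omega)
  rcases Nat.lt_or_ge p 46875 with h2 | h2
  · exact (Table.permRange_iff table 31250 15625).mp Cfsg.Agent.Lib.Helper28.TCONMr6.prm2 p (by omega) (by omega)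
  rcases Nat.lt_or_ge p 62500 with h3 | h3
  · exact (Table.permRange_iff table 46875 15625).mp Cfsg.Agent.Lib.Helper28.TCONMr6.prm3 p (by omega) (by omega)
  rcases Nat.lt_or_ge p 78125 with h4 | h4
  · exact (Table.permRange_iff table 62500 15625).mp Cfsg.Agent.Lib.Helper28.TCONMr6.prm4 p (by omega) (by omega)
  rcases Nat.lt_or_ge p 93750 with h5 | h5
  · exact (Table.permRange_iff table 78125 15625).mp Cfsg.Agent.Lib.Helper28.TCONMr6.prm5 p (by omega) (by omega)
  rcases Nat.lt_or_ge p 109375 with h6 | h6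
  · exact (Table.permRange_iff table 93750 15625).mp Cfsg.Agent.Lib.Helper28.TCONMr6.prm6 p (by omega) (by omega)
  exact (Table.permRange_iff table 109375 13385).mp Cfsg.Agent.Lib.Helper28.TCONMr7.prm7 p (by omega) (by omega)

theorem hperm : table.permOK 0 table.n = true := by
  show Table.permRange table 0 table.n = true
  rw [Table.permRange_iff]
  intro p _ hp
  exact hpermAll p (by omega)

theorem hsub0 : table.subOK subPaths = true := by decide +kernel

theorem htreeAll : ∀ i, i < Nat.pred table.n → Table.treeRow table i = true := by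
  intro p hp
  have hp' : p < 122759 := hp
  rcases Nat.lt_or_ge p 100000 with h0 | h0
  · exact (Table.treeRange_iff table 0 100000).mp Cfsg.Agent.Lib.Helper28.TCONMr7.tre0 p (by omega) (by omega)
  exact (Table.treeRange_iff table 100000 22759).mp Cfsg.Agent.Lib.Helper28.TCONMr7.tre1 p (by omega) (by omega)

theorem htree : table.treeOK = true := Table.treeOK_of_rows table htreeAll

end Cfsg.Agent.Lib.Helper28.TCONM
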