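import Cfsg.Agent.Lib.Helper28.TCONData
set_option autoImplicit false
set_option maxRecDepth 100000
set_option maxHeartbeats 0

namespace Cfsg.Agent.Lib.Helper28.TCONU0
open Cfsg.Agent.Lib.Helper28.TC2Upper Cfsg.Agent.Lib.Helper28.TCONData

theorem chk0 : data.checkRange 0 1165 = true := by decide +kernel
theorem chk1 : data.checkRange 1165 958 = true := by decide +kernel
theorem chk2 : data.checkRange 2123 1169 = true := by decide +kernel
theorem chk3 : data.checkRange 3292 1063 = true := by decide +kernel
theorem chk4 : data.checkRange 4355 1157 = true := by decide +kernel
theorem chk5 : data.checkRange 5512 1094 = true := by decide +kernel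
theorem chk6 : data.checkRange 6606 1009 = true := by decide +kernel
theorem chk7 : data.checkRange 7615 1072 = true := by decide +kernel
theorem chk8 : data.checkRange 8687 1074 = true := by decide +kernel
theorem chk9 : data.checkRange 9761 1243 = true := by decide +kernel

end Cfsg.Agent.Lib.Helper28.TCONU0
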