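import Cfsg.Agent.Lib.Helper28.TCONData
set_option autoImplicit false
set_option maxRecDepth 100000
set_option maxHeartbeats 0

namespace Cfsg.Agent.Lib.Helper28.TCONU1
open Cfsg.Agent.Lib.Helper28.TC2Upper Cfsg.Agent.Lib.Helper28.TCONData

theorem chk10 : data.checkRange 11004 992 = true := by decide +kernel
theorem chk11 : data.checkRange 11996 1006 = true := by decide +kernel
theorem chk12 : data.checkRange 13002 990 = true := by decide +kernel
theorem chk13 : data.checkRange 13992 975 = true := by decide +kernel
theorem chk14 : data.checkRange 14967 1156 = true := by decide +kernel
theorem chk15 : data.checkRange 16123 1172 = true := by decide +kernel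
theorem chk16 : data.checkRange 17295 974 = true := by decide +kernel
theorem chk17 : data.checkRange 18269 1047 = true := by decide +kernel
theorem chk18 : data.checkRange 19316 1045 = true := by decide +kernel
theorem chk19 : data.checkRange 20361 1210 = true := by decide +kernel

end Cfsg.Agent.Lib.Helper28.TCONU1
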