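import Cfsg.Agent.Lib.Helper28.TCONData
set_option autoImplicit false
set_option maxRecDepth 100000
set_option maxHeartbeats 0

namespace Cfsg.Agent.Lib.Helper28.TCONU2
open Cfsg.Agent.Lib.Helper28.TC2Upper Cfsg.Agent.Lib.Helper28.TCONData

theorem chk20 : data.checkRange 21571 1269 = true := by decide +kernel
theorem chk21 : data.checkRange 22840 1260 = true := by decide +kernel
theorem chk22 : data.checkRange 24100 995 = true := by decide +kernel
theorem chk23 : data.checkRange 25095 923 = true := by decide +kernel
theorem chk24 : data.checkRange 26018 968 = true := by decide +kernel
theorem chk25 : data.checkRange 26986 973 = true := by decide +kernel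
theorem chk26 : data.checkRange 27959 964 = true := by decide +kernel
theorem chk27 : data.checkRange 28923 1006 = true := by decide +kernel
theorem chk28 : data.checkRange 29929 940 = true := by decide +kernel
theorem chk29 : data.checkRange 30869 979 = true := by decide +kernel

end Cfsg.Agent.Lib.Helper28.TCONU2
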