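import Cfsg.Agent.Lib.Helper28.TCONData
import Cfsg.Agent.Lib.Helper28.TCONU2
set_option autoImplicit false
set_option maxRecDepth 100000
set_option maxHeartbeats 0

namespace Cfsg.Agent.Lib.Helper28.TCONU6
open Cfsg.Agent.Lib.Helper28.TC2Upper Cfsg.Agent.Lib.Helper28.TCONData

theorem chk60 : data.checkRange 65123 1104 = true := by decide +kernel
theorem chk61 : data.checkRange 66227 1202 = true := by decide +kernel
theorem chk62 : data.checkRange 67429 1349 = true := by decide +kernel
theorem chk63 : data.checkRange 68778 1128 = true := by decide +kernel
theorem chk64 : data.checkRange 69906 1081 = true := by decide +kernel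
theorem chk65 : data.checkRange 70987 1305 = true := by decide +kernel
theorem chk66 : data.checkRange 72292 1215 = true := by decide +kernel
theorem chk67 : data.checkRange 73507 1345 = true := by decide +kernel
theorem chk68 : data.checkRange 74852 1215 = true := by decide +kernel
theorem chk69 : data.checkRange 76067 1313 = true := by decide +kernel

end Cfsg.Agent.Lib.Helper28.TCONU6
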