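import Cfsg.Agent.Lib.Helper28.TCONData
import Cfsg.Agent.Lib.Helper28.TCONU6
set_option autoImplicit false
set_option maxRecDepth 100000
set_option maxHeartbeats 0

namespace Cfsg.Agent.Lib.Helper28.TCONU10
open Cfsg.Agent.Lib.Helper28.TC2Upper Cfsg.Agent.Lib.Helper28.TCONData

theorem chk100 : data.checkRange 118592 1315 = true := by decide +kernel
theorem chk101 : data.checkRange 119907 1366 = true := by decide +kernel
theorem chk102 : data.checkRange 121273 1363 = true := by decide +kernel
theorem chk103 : data.checkRange 122636 1985 = true := by decide +kernel
theorem chk104 : data.checkRange 124621 1545 = true := by decide +kernel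
theorem chk105 : data.checkRange 126166 1327 = true := by decide +kernel
theorem chk106 : data.checkRange 127493 1158 = true := by decide +kernel
theorem chk107 : data.checkRange 128651 1302 = true := by decide +kernel
theorem chk108 : data.checkRange 129953 1173 = true := by decide +kernel
theorem chk109 : data.checkRange 131126 1347 = true := by decide +kernel

end Cfsg.Agent.Lib.Helper28.TCONU10
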