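import Cfsg.Agent.Lib.Helper28.TCONData
set_option autoImplicit false
set_option maxRecDepth 100000
set_option maxHeartbeats 0

namespace Cfsg.Agent.Lib.Helper28.TCONU3
open Cfsg.Agent.Lib.Helper28.TC2Upper Cfsg.Agent.Lib.Helper28.TCONData

theorem chk30 : data.checkRange 31848 1053 = true := by decide +kernel
theorem chk31 : data.checkRange 32901 981 = true := by decide +kernel
theorem chk32 : data.checkRange 33882 1015 = true := by decide +kernel
theorem chk33 : data.checkRange 34897 961 = true := by decide +kernel
theorem chk34 : data.checkRange 35858 1000 = true := by decide +kernel
theorem chk35 : data.checkRange 36858 1240 = true := by decide +kernel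
theorem chk36 : data.checkRange 38098 1274 = true := by decide +kernel
theorem chk37 : data.checkRange 39372 1176 = true := by decide +kernel
theorem chk38 : data.checkRange 40548 1210 = true := by decide +kernel
theorem chk39 : data.checkRange 41758 1113 = true := by decide +kernel

end Cfsg.Agent.Lib.Helper28.TCONU3
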