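import Cfsg.Agent.Lib.Helper28.TCONData
import Cfsg.Agent.Lib.Helper28.TCONU3
set_option autoImplicit false
set_option maxRecDepth 100000
set_option maxHeartbeats 0

namespace Cfsg.Agent.Lib.Helper28.TCONU7
open Cfsg.Agent.Lib.Helper28.TC2Upper Cfsg.Agent.Lib.Helper28.TCONData

theorem chk70 : data.checkRange 77380 1197 = true := by decide +kernel
theorem chk71 : data.checkRange 78577 1332 = true := by decide +kernel
theorem chk72 : data.checkRange 79909 1366 = true := by decide +kernel
theorem chk73 : data.checkRange 81275 1687 = true := by decide +kernel
theorem chk74 : data.checkRange 82962 1400 = true := by decide +kernel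
theorem chk75 : data.checkRange 84362 1130 = true := by decide +kernel
theorem chk76 : data.checkRange 85492 1238 = true := by decide +kernel
theorem chk77 : data.checkRange 86730 1323 = true := by decide +kernel
theorem chk78 : data.checkRange 88053 1293 = true := by decide +kernel
theorem chk79 : data.checkRange 89346 1173 = true := by decide +kernel

end Cfsg.Agent.Lib.Helper28.TCONU7
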