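import Cfsg.Agent.Lib.Helper28.TCONData
import Cfsg.Agent.Lib.Helper28.TCONU7
set_option autoImplicit false
set_option maxRecDepth 100000
set_option maxHeartbeats 0

namespace Cfsg.Agent.Lib.Helper28.TCONU11
open Cfsg.Agent.Lib.Helper28.TC2Upper Cfsg.Agent.Lib.Helper28.TCONData

theorem chk110 : data.checkRange 132473 1302 = true := by decide +kernel
theorem chk111 : data.checkRange 133775 1247 = true := by decide +kernel
theorem chk112 : data.checkRange 135022 1300 = true := by decide +kernel
theorem chk113 : data.checkRange 136322 1198 = true := by decide +kernel
theorem chk114 : data.checkRange 137520 1145 = true := by decide +kernel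
theorem chk115 : data.checkRange 138665 1182 = true := by decide +kernel
theorem chk116 : data.checkRange 139847 1663 = true := by decide +kernel
theorem chk117 : data.checkRange 141510 1449 = true := by decide +kernel
theorem chk118 : data.checkRange 142959 1783 = true := by decide +kernel
theorem chk119 : data.checkRange 144742 1842 = true := by decide +kernel

end Cfsg.Agent.Lib.Helper28.TCONU11
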