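import Cfsg.Agent.Lib.Helper28.TCONData
import Cfsg.Agent.Lib.Helper28.TCONU0
set_option autoImplicit false
set_option maxRecDepth 100000
set_option maxHeartbeats 0

namespace Cfsg.Agent.Lib.Helper28.TCONU4
open Cfsg.Agent.Lib.Helper28.TC2Upper Cfsg.Agent.Lib.Helper28.TCONData

theorem chk40 : data.checkRange 42871 1349 = true := by decide +kernel
theorem chk41 : data.checkRange 44220 1326 = true := by decide +kernel
theorem chk42 : data.checkRange 45546 1190 = true := by decide +kernel
theorem chk43 : data.checkRange 46736 1146 = true := by decide +kernel
theorem chk44 : data.checkRange 47882 1056 = true := by decide +kernel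
theorem chk45 : data.checkRange 48938 1137 = true := by decide +kernel
theorem chk46 : data.checkRange 50075 934 = true := by decide +kernel
theorem chk47 : data.checkRange 51009 1060 = true := by decide +kernel
theorem chk48 : data.checkRange 52069 1052 = true := by decide +kernel
theorem chk49 : data.checkRange 53121 959 = true := by decide +kernel

end Cfsg.Agent.Lib.Helper28.TCONU4
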