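import Cfsg.Agent.Lib.Helper28.TCONData
import Cfsg.Agent.Lib.Helper28.TCONU4
set_option autoImplicit false
set_option maxRecDepth 100000
set_option maxHeartbeats 0

namespace Cfsg.Agent.Lib.Helper28.TCONU8
open Cfsg.Agent.Lib.Helper28.TC2Upper Cfsg.Agent.Lib.Helper28.TCONData

theorem chk80 : data.checkRange 90519 1306 = true := by decide +kernel
theorem chk81 : data.checkRange 91825 2029 = true := by decide +kernel
theorem chk82 : data.checkRange 93854 1530 = true := by decide +kernel
theorem chk83 : data.checkRange 95384 1853 = true := by decide +kernel
theorem chk84 : data.checkRange 97237 1352 = true := by decide +kernel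
theorem chk85 : data.checkRange 98589 1722 = true := by decide +kernel
theorem chk86 : data.checkRange 100311 1511 = true := by decide +kernel
theorem chk87 : data.checkRange 101822 1357 = true := by decide +kernel
theorem chk88 : data.checkRange 103179 1454 = true := by decide +kernel
theorem chk89 : data.checkRange 104633 1752 = true := by decide +kernel

end Cfsg.Agent.Lib.Helper28.TCONU8
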