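import Cfsg.Agent.Lib.Helper28.TCONData
import Cfsg.Agent.Lib.Helper28.TCONU8
set_option autoImplicit false
set_option maxRecDepth 100000
set_option maxHeartbeats 0

namespace Cfsg.Agent.Lib.Helper28.TCONU12
open Cfsg.Agent.Lib.Helper28.TC2Upper Cfsg.Agent.Lib.Helper28.TCONData

theorem chk120 : data.checkRange 146584 1632 = true := by decide +kernel
theorem chk121 : data.checkRange 148216 1430 = true := by decide +kernel
theorem chk122 : data.checkRange 149646 1567 = true := by decide +kernel
theorem chk123 : data.checkRange 151213 1721 = true := by decide +kernel
theorem chk124 : data.checkRange 152934 1839 = true := by decide +kernel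
theorem chk125 : data.checkRange 154773 1557 = true := by decide +kernel
theorem chk126 : data.checkRange 156330 1682 = true := by decide +kernel
theorem chk127 : data.checkRange 158012 1608 = true := by decide +kernel
theorem chk128 : data.checkRange 159620 1732 = true := by decide +kernel
theorem chk129 : data.checkRange 161352 1445 = true := by decide +kernel

end Cfsg.Agent.Lib.Helper28.TCONU12
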