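import Cfsg.Agent.Lib.Helper28.TCONData
import Cfsg.Agent.Lib.Helper28.TCONU1
set_option autoImplicit false
set_option maxRecDepth 100000
set_option maxHeartbeats 0

namespace Cfsg.Agent.Lib.Helper28.TCONU5
open Cfsg.Agent.Lib.Helper28.TC2Upper Cfsg.Agent.Lib.Helper28.TCONData

theorem chk50 : data.checkRange 54080 1031 = true := by decide +kernel
theorem chk51 : data.checkRange 55111 981 = true := by decide +kernel
theorem chk52 : data.checkRange 56092 1185 = true := by decide +kernel
theorem chk53 : data.checkRange 57277 1457 = true := by decide +kernel
theorem chk54 : data.checkRange 58734 1198 = true := by decide +kernel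
theorem chk55 : data.checkRange 59932 1104 = true := by decide +kernel
theorem chk56 : data.checkRange 61036 1018 = true := by decide +kernel
theorem chk57 : data.checkRange 62054 996 = true := by decide +kernel
theorem chk58 : data.checkRange 63050 1036 = true := by decide +kernel
theorem chk59 : data.checkRange 64086 1037 = true := by decide +kernel

end Cfsg.Agent.Lib.Helper28.TCONU5
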