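import Cfsg.Agent.Lib.Helper28.TCONData
import Cfsg.Agent.Lib.Helper28.TCONU5
set_option autoImplicit false
set_option maxRecDepth 100000
set_option maxHeartbeats 0

namespace Cfsg.Agent.Lib.Helper28.TCONU9
open Cfsg.Agent.Lib.Helper28.TC2Upper Cfsg.Agent.Lib.Helper28.TCONData

theorem chk90 : data.checkRange 106385 1359 = true := by decide +kernel
theorem chk91 : data.checkRange 107744 1010 = true := by decide +kernel
theorem chk92 : data.checkRange 108754 1181 = true := by decide +kernel
theorem chk93 : data.checkRange 109935 1034 = true := by decide +kernel
theorem chk94 : data.checkRange 110969 1579 = true := by decide +kernel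
theorem chk95 : data.checkRange 112548 1094 = true := by decide +kernel
theorem chk96 : data.checkRange 113642 1327 = true := by decide +kernel
theorem chk97 : data.checkRange 114969 1080 = true := by decide +kernel
theorem chk98 : data.checkRange 116049 1113 = true := by decide +kernel
theorem chk99 : data.checkRange 117162 1430 = true := by decide +kernel

end Cfsg.Agent.Lib.Helper28.TCONU9
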