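import Cfsg.Agent.Lib.Helper28.TCONData
import Cfsg.Agent.Lib.Helper28.TCONU9
set_option autoImplicit false
set_option maxRecDepth 100000
set_option maxHeartbeats 0

namespace Cfsg.Agent.Lib.Helper28.TCONU13
open Cfsg.Agent.Lib.Helper28.TC2Upper Cfsg.Agent.Lib.Helper28.TCONData

theorem chk130 : data.checkRange 162797 2312 = true := by decide +kernel
theorem chk131 : data.checkRange 165109 1673 = true := by decide +kernel
theorem chk132 : data.checkRange 166782 2451 = true := by decide +kernel
theorem chk133 : data.checkRange 169233 3453 = true := by decide +kernel
theorem chk134 : data.checkRange 172686 2667 = true := by decide +kernel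
theorem chk135 : data.checkRange 175353 1928 = true := by decide +kernel
theorem chk136 : data.checkRange 177281 2041 = true := by decide +kernel
theorem chk137 : data.checkRange 179322 1749 = true := by decide +kernel
theorem chk138 : data.checkRange 181071 2069 = true := by decide +kernel
theorem chk139 : data.checkRange 183140 2138 = true := by decide +kernel

end Cfsg.Agent.Lib.Helper28.TCONU13
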