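import Cfsg.Agent.Lib.Helper28.TCONData
import Cfsg.Agent.Lib.Helper28.TCONU10
set_option autoImplicit false
set_option maxRecDepth 100000
set_option maxHeartbeats 0

namespace Cfsg.Agent.Lib.Helper28.TCONU14
open Cfsg.Agent.Lib.Helper28.TC2Upper Cfsg.Agent.Lib.Helper28.TCONData

theorem chk140 : data.checkRange 185278 2076 = true := by decide +kernel
theorem chk141 : data.checkRange 187354 1811 = true := by decide +kernel
theorem chk142 : data.checkRange 189165 1023 = true := by decide +kernel
theorem chk143 : data.checkRange 190188 912 = true := by decide +kernel
theorem chk144 : data.checkRange 191100 923 = true := by decide +kernel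
theorem chk145 : data.checkRange 192023 930 = true := by decide +kernel
theorem chk146 : data.checkRange 192953 912 = true := by decide +kernel
theorem chk147 : data.checkRange 193865 907 = true := by decide +kernel
theorem chk148 : data.checkRange 194772 908 = true := by decide +kernel
theorem chk149 : data.checkRange 195680 908 = true := by decide +kernel

end Cfsg.Agent.Lib.Helper28.TCONU14
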