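import Cfsg.Agent.Lib.Helper28.TCONData
import Cfsg.Agent.Lib.Helper28.TCONU11
set_option autoImplicit false
set_option maxRecDepth 100000
set_option maxHeartbeats 0

namespace Cfsg.Agent.Lib.Helper28.TCONU15
open Cfsg.Agent.Lib.Helper28.TC2Upper Cfsg.Agent.Lib.Helper28.TCONData

theorem chk150 : data.checkRange 196588 913 = true := by decide +kernel
theorem chk151 : data.checkRange 197501 902 = true := by decide +kernel
theorem chk152 : data.checkRange 198403 900 = true := by decide +kernel
theorem chk153 : data.checkRange 199303 908 = true := by decide +kernel
theorem chk154 : data.checkRange 200211 905 = true := by decide +kernel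
theorem chk155 : data.checkRange 201116 912 = true := by decide +kernel
theorem chk156 : data.checkRange 202028 898 = true := by decide +kernel
theorem chk157 : data.checkRange 202926 897 = true := by decide +kernel
theorem chk158 : data.checkRange 203823 899 = true := by decide +kernel
theorem chk159 : data.checkRange 204722 904 = true := by decide +kernel

end Cfsg.Agent.Lib.Helper28.TCONU15
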