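import Cfsg.Agent.Lib.Helper28.TCONData
import Cfsg.Agent.Lib.Helper28.TCONU12
set_option autoImplicit false
set_option maxRecDepth 100000
set_option maxHeartbeats 0

namespace Cfsg.Agent.Lib.Helper28.TCONU16
open Cfsg.Agent.Lib.Helper28.TC2Upper Cfsg.Agent.Lib.Helper28.TCONData

theorem chk160 : data.checkRange 205626 894 = true := by decide +kernel
theorem chk161 : data.checkRange 206520 898 = true := by decide +kernel
theorem chk162 : data.checkRange 207418 907 = true := by decide +kernel
theorem chk163 : data.checkRange 208325 895 = true := by decide +kernel
theorem chk164 : data.checkRange 209220 893 = true := by decide +kernel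
theorem chk165 : data.checkRange 210113 893 = true := by decide +kernel
theorem chk166 : data.checkRange 211006 891 = true := by decide +kernel
theorem chk167 : data.checkRange 211897 892 = true := by decide +kernel
theorem chk168 : data.checkRange 212789 897 = true := by decide +kernel
theorem chk169 : data.checkRange 213686 895 = true := by decide +kernel

end Cfsg.Agent.Lib.Helper28.TCONU16
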