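import Cfsg.Agent.Lib.Helper28.TCONData
import Cfsg.Agent.Lib.Helper28.TCONU13
set_option autoImplicit false
set_option maxRecDepth 100000
set_option maxHeartbeats 0

namespace Cfsg.Agent.Lib.Helper28.TCONU17
open Cfsg.Agent.Lib.Helper28.TC2Upper Cfsg.Agent.Lib.Helper28.TCONData

theorem chk170 : data.checkRange 214581 893 = true := by decide +kernel
theorem chk171 : data.checkRange 215474 894 = true := by decide +kernel
theorem chk172 : data.checkRange 216368 892 = true := by decide +kernel
theorem chk173 : data.checkRange 217260 890 = true := by decide +kernel
theorem chk174 : data.checkRange 218150 894 = true := by decide +kernel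
theorem chk175 : data.checkRange 219044 892 = true := by decide +kernel
theorem chk176 : data.checkRange 219936 891 = true := by decide +kernel
theorem chk177 : data.checkRange 220827 889 = true := by decide +kernel
theorem chk178 : data.checkRange 221716 891 = true := by decide +kernel
theorem chk179 : data.checkRange 222607 889 = true := by decide +kernel

end Cfsg.Agent.Lib.Helper28.TCONU17
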