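import Cfsg.Agent.Lib.Helper28.TCONData
import Cfsg.Agent.Lib.Helper28.TCONU14
set_option autoImplicit false
set_option maxRecDepth 100000
set_option maxHeartbeats 0

namespace Cfsg.Agent.Lib.Helper28.TCONU18
open Cfsg.Agent.Lib.Helper28.TC2Upper Cfsg.Agent.Lib.Helper28.TCONData

theorem chk180 : data.checkRange 223496 889 = true := by decide +kernel
theorem chk181 : data.checkRange 224385 889 = true := by decide +kernel
theorem chk182 : data.checkRange 225274 889 = true := by decide +kernel
theorem chk183 : data.checkRange 226163 889 = true := by decide +kernel
theorem chk184 : data.checkRange 227052 889 = true := by decide +kernel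
theorem chk185 : data.checkRange 227941 889 = true := by decide +kernel
theorem chk186 : data.checkRange 228830 247 = true := by decide +kernel

end Cfsg.Agent.Lib.Helper28.TCONU18
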