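import Mathlib
set_option autoImplicit false

/-!
# A concrete model of the field with four elements

The elements are coded `0, 1, 2 = ω, 3 = ω²`; addition is bitwise xor.  (The same model as in helper19's
`U4Enc`, repeated here to keep the import closure small.)
-/

namespace Cfsg.Agent.Lib.Helper28.U6F4

/-- the field with four elements -/
structure F4 where
  /-- the code -/
  v : Fin 4
  deriving DecidableEq, Fintype

/-- multiplication of the codes `0, 1, 2 = ω, 3 = ω²` -/
def mul4 (a b : ℕ) : ℕ := if a = 0 then 0 else if b = 0 then 0 else (a + b - 2) % 3 + 1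

/-- from natural numbers -/
def toF4 (n : ℕ) : F4 := ⟨Fin.ofNat 4 n⟩

/-- addition -/
def F4.add (a b : F4) : F4 := toF4 (a.v.val ^^^ b.v.val)

/-- multiplication -/
def F4.mul (a b : F4) : F4 := toF4 (mul4 a.v.val b.v.val)

instance : Zero F4 := ⟨toF4 0⟩
instance : One F4 := ⟨toF4 1⟩
instance : Add F4 := ⟨F4.add⟩
instance : Mul F4 := ⟨F4.mul⟩
instance : Neg F4 := ⟨id⟩
instance : Inv F4 := ⟨fun a => F4.mul a a⟩

theorem add_assoc' : ∀ a b c : F4, a + b + c = a + (b + c) := by decide
theorem zero_add' : ∀ a : F4, 0 + a = a := by decide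
theorem add_zero' : ∀ a : F4, a + 0 = a := by decide
theorem add_comm' : ∀ a b : F4, a + b = b + a := by decide
theorem neg_add' : ∀ a : F4, -a + a = 0 := by decide
theorem mul_assoc' : ∀ a b c : F4, a * b * c = a * (b * c) := by decide
theorem one_mul' : ∀ a : F4, 1 * a = a := by decide
theorem mul_one' : ∀ a : F4, a * 1 = a := by decide
theorem mul_comm' : ∀ a b : F4, a * b = b * a := by decide
theorem left_distrib' : ∀ a b c : F4, a * (b + c) = a * b + a * c := by decide
theorem right_distrib' : ∀ a b c : F4, (a + b) * c = a * c + b * c := by decide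
theorem zero_mul' : ∀ a : F4, 0 * a = 0 := by decide
theorem mul_zero' : ∀ a : F4, a * 0 = 0 := by decide
theorem mul_inv' : ∀ a : F4, a ≠ 0 → a * a⁻¹ = 1 := by decide
theorem inv_zero' : (0 : F4)⁻¹ = 0 := by decide

instance : Field F4 where
  add_assoc := add_assoc'
  zero_add := zero_add'
  add_zero := add_zero'
  add_comm := add_comm'
  neg_add_cancel := neg_add'
  mul_assoc := mul_assoc'
  one_mul := one_mul'
  mul_one := mul_one'
  mul_comm := mul_comm'
  left_distrib := left_distrib'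
  right_distrib := right_distrib'
  zero_mul := zero_mul'
  mul_zero := mul_zero'
  nsmul := nsmulRec
  zsmul := zsmulRec
  exists_pair_ne := ⟨0, 1, by decide⟩
  mul_inv_cancel := mul_inv'
  inv_zero := inv_zero'
  nnqsmul := _
  nnqsmul_def := fun _ _ => rfl
  qsmul := _
  qsmul_def := fun _ _ => rfl

theorem card_F4 : Fintype.card F4 = 4 := by decide

theorem toF4_xor : ∀ x y : Fin 4, toF4 (x.val ^^^ y.val) = toF4 x.val + toF4 y.val := by decide
theorem xor_lt4 : ∀ x y : Fin 4, x.val ^^^ y.val < 4 := by decide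
theorem toF4_mul4 : ∀ x y : Fin 4, toF4 (mul4 x.val y.val) = toF4 x.val * toF4 y.val := by decide
theorem mul4_lt : ∀ x y : Fin 4, mul4 x.val y.val < 4 := by decide

theorem toF4_xor' (x y : ℕ) (hx : x < 4) (hy : y < 4) :
    toF4 (x ^^^ y) = toF4 x + toF4 y ∧ x ^^^ y < 4 :=
  ⟨toF4_xor ⟨x, hx⟩ ⟨y, hy⟩, xor_lt4 ⟨x, hx⟩ ⟨y, hy⟩⟩

theorem toF4_mul4' (x y : ℕ) (hx : x < 4) (hy : y < 4) :
    toF4 (mul4 x y) = toF4 x * toF4 y ∧ mul4 x y < 4 :=
  ⟨toF4_mul4 ⟨x, hx⟩ ⟨y, hy⟩, mul4_lt ⟨x, hx⟩ ⟨y, hy⟩⟩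

theorem toF4_val (a : F4) : toF4 a.v.val = a := by
  revert a; decide

theorem sq_eq_self_iff : ∀ c : F4, c * c = c → c = 0 ∨ c = 1 := by decide
theorem cube_eq_one : ∀ c : F4, c ≠ 0 → c * c * c = 1 := by decide
theorem add_self : ∀ c : F4, c + c = 0 := by decide
theorem neg_eq : ∀ c : F4, -c = c := by decide

end Cfsg.Agent.Lib.Helper28.U6F4
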