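import Mathlib

/-!
S5662 block [TNS] (sub-planner helper20): leaf E2a `two_by_two` (pure `2 × 2` matrix calculus), exact signature of
`notes/S5662_TNS_leaves.lean`.
-/

set_option autoImplicit false
set_option linter.unusedSectionVars false
set_option linter.unusedVariables false

namespace Cfsg.Agent.Lib.Helper28.SpTnsLeaf
open Matrix

variable {F : Type*} [Field F]

/-- the standard alternating `2 × 2` matrix -/
def J2 (F : Type*) [Field F] : Matrix (Fin 2) (Fin 2) F := !![0, 1; -1, 0]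

lemma transpose_J2_mul (b : Matrix (Fin 2) (Fin 2) F) : bᵀ * J2 F * b = b.det • J2 F := by
  obtain ⟨b00, b01, b10, b11, rfl⟩ : ∃ b00 b01 b10 b11 : F, b = !![b00, b01; b10, b11] :=
    ⟨b 0 0, b 0 1, b 1 0, b 1 1, (Matrix.eta_fin_two b)⟩
  ext i j
  fin_cases i <;> fin_cases j <;>
    simp [J2, Matrix.mul_apply, Fin.sum_univ_two, Matrix.det_fin_two] <;> ring

lemma mul_left_cancel_of_det {M X Y : Matrix (Fin 2) (Fin 2) F} (hM : M.det ≠ 0) (h : M * X = M * Y) : X = Y := by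
  have hinv : M⁻¹ * M = 1 := Matrix.nonsing_inv_mul M (isUnit_iff_ne_zero.2 hM)
  calc X = M⁻¹ * M * X := by rw [hinv, one_mul]
    _ = M⁻¹ * (M * Y) := by rw [mul_assoc, h]
    _ = Y := by rw [← mul_assoc, hinv, one_mul]

/-- the skew root `b₀` of a symmetric `G₂ = !![p, r; r, t]` -/
def skewRoot (G₂ : Matrix (Fin 2) (Fin 2) F) : Matrix (Fin 2) (Fin 2) F :=
  !![G₂ 0 1, G₂ 1 1; -G₂ 0 0, -G₂ 0 1]

lemma skewRoot_sq (G₂ : Matrix (Fin 2) (Fin 2) F) (hG₂s : G₂ᵀ = G₂) :
    skewRoot G₂ * skewRoot G₂ = (-G₂.det) • (1 : Matrix (Fin 2) (Fin 2) F) := by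
  have h10 : G₂ 1 0 = G₂ 0 1 := by
    have := congrFun (congrFun hG₂s 0) 1
    rwa [Matrix.transpose_apply] at this
  ext i j
  fin_cases i <;> fin_cases j <;>
    simp [skewRoot, Matrix.mul_apply, Fin.sum_univ_two, Matrix.det_fin_two, h10] <;> ring

lemma mul_skewRoot (G₂ : Matrix (Fin 2) (Fin 2) F) (hG₂s : G₂ᵀ = G₂) :
    G₂ * skewRoot G₂ = G₂.det • J2 F := by
  have h10 : G₂ 1 0 = G₂ 0 1 := by
    have := congrFun (congrFun hG₂s 0) 1
    rwa [Matrix.transpose_apply] at this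
  ext i j
  fin_cases i <;> fin_cases j <;>
    simp [skewRoot, J2, Matrix.mul_apply, Fin.sum_univ_two, Matrix.det_fin_two, h10] <;> ring

lemma skewRoot_transpose_mul (G₂ : Matrix (Fin 2) (Fin 2) F) (hG₂s : G₂ᵀ = G₂) :
    (skewRoot G₂)ᵀ * G₂ = -(G₂ * skewRoot G₂) := by
  have h10 : G₂ 1 0 = G₂ 0 1 := by
    have := congrFun (congrFun hG₂s 0) 1
    rwa [Matrix.transpose_apply] at this
  ext i j
  fin_cases i <;> fin_cases j <;>
    simp [skewRoot, Matrix.mul_apply, Fin.sum_univ_two, h10] <;> ring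

/-- a similitude of `G₂` commutes or anticommutes with the skew root -/
lemma skewRoot_comm (G₂ : Matrix (Fin 2) (Fin 2) F) (hG₂s : G₂ᵀ = G₂) (hG₂d : G₂.det ≠ 0)
    (b : Matrix (Fin 2) (Fin 2) F) (d : F) (hb : bᵀ * G₂ * b = d • G₂) (hbd : b.det ≠ 0) :
    b * skewRoot G₂ = skewRoot G₂ * b ∨ b * skewRoot G₂ = -(skewRoot G₂ * b) := by
  set b₀ := skewRoot G₂ with hb₀
  -- `(det b)² = d²`
  have hdet : b.det * b.det = d * d := by
    have h1 := congrArg Matrix.det hb
    rw [Matrix.det_mul, Matrix.det_mul, Matrix.det_transpose, Matrix.det_smul, Fintype.card_fin] at h1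
    have h2 : (b.det * b.det - d * d) * G₂.det = 0 := by linear_combination h1
    rcases mul_eq_zero.1 h2 with h | h
    · linear_combination h
    · exact absurd h hG₂d
  have hd0 : d ≠ 0 := by
    rintro rfl
    rw [mul_zero] at hdet
    exact hbd (mul_self_eq_zero.1 hdet)
  -- `d • (b₀ b) = det b • (b b₀)`
  have key : d • (b₀ * b) = b.det • (b * b₀) := by
    have hM : (bᵀ * G₂).det ≠ 0 := by
      rw [Matrix.det_mul, Matrix.det_transpose]
      exact mul_ne_zero hbd hG₂d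
    apply mul_left_cancel_of_det hM
    have e1 : bᵀ * G₂ * (d • (b₀ * b)) = (d * G₂.det * b.det) • J2 F := by
      rw [Matrix.mul_smul, mul_assoc bᵀ G₂, ← mul_assoc G₂ b₀ b, mul_skewRoot G₂ hG₂s, Matrix.smul_mul,
        Matrix.mul_smul, ← mul_assoc, transpose_J2_mul, smul_smul, smul_smul]
    have e2 : bᵀ * G₂ * (b.det • (b * b₀)) = (d * G₂.det * b.det) • J2 F := by
      rw [Matrix.mul_smul, ← mul_assoc (bᵀ * G₂) b b₀, hb, Matrix.smul_mul, mul_skewRoot G₂ hG₂s, smul_smul,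
        smul_smul]
      congr 1
      ring
    rw [e1, e2]
  have hcases : b.det = d ∨ b.det = -d := by
    have : (b.det - d) * (b.det + d) = 0 := by linear_combination hdet
    rcases mul_eq_zero.1 this with h | h
    · left; linear_combination h
    · right; linear_combination h
  rcases hcases with h | h
  · left
    rw [h] at key
    have := congrArg (fun M => d⁻¹ • M) key
    simp only [smul_smul, inv_mul_cancel₀ hd0, one_smul] at this
    exact this.symm
  · right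
    rw [h, neg_smul] at key
    have := congrArg (fun M => d⁻¹ • M) key
    simp only [smul_smul, smul_neg, inv_mul_cancel₀ hd0, one_smul] at this
    rw [this, neg_neg]

section fin
variable [Fintype F]

/-- (E2a) -/
theorem two_by_two (G₂ : Matrix (Fin 2) (Fin 2) F) (hG₂s : G₂ᵀ = G₂) (hG₂d : G₂.det ≠ 0) :
    ∃ b₀ : Matrix (Fin 2) (Fin 2) F, b₀ * b₀ = (-G₂.det) • (1 : Matrix (Fin 2) (Fin 2) F) ∧
      b₀ᵀ * G₂ = -(G₂ * b₀) ∧
      ∀ (b : Matrix (Fin 2) (Fin 2) F) (d : F), bᵀ * G₂ * b = d • G₂ → b.det ≠ 0 →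
        (b * b₀ = b₀ * b ∨ b * b₀ = -(b₀ * b)) :=
  ⟨skewRoot G₂, skewRoot_sq G₂ hG₂s, skewRoot_transpose_mul G₂ hG₂s,
    fun b d hb hbd => skewRoot_comm G₂ hG₂s hG₂d b d hb hbd⟩

end fin

end Cfsg.Agent.Lib.Helper28.SpTnsLeaf
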