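import Mathlib
import Cfsg.Agent.Lib.Helper29.SpPrfDefs
import Cfsg.Agent.Lib.Helper29.AschKF2
import Cfsg.Agent.Lib.Helper26.AschNL
import Cfsg.Agent.Lib.Helper9.TensSwap
import Cfsg.Agent.Lib.Helper17.SpAschQ0
import Cfsg.Agent.Lib.Helper17.SpAschZ
import Cfsg.Agent.Lib.Helper20.SpTnsDefs
import Cfsg.Agent.Lib.Helper20.SpTnsBasic
import Cfsg.Agent.Lib.Helper23.SpTnsK3
import Cfsg.Agent.Lib.Helper28.SpTnsE2a

/-!
S5662 block [TNS] (sub-planner helper20): leaf E2b `exists_skew_root`, exact signature of `notes/S5662_TNS_leaves.lean`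
(on helper20's B3/B8/B9 in `SpTnsBasic`, helper23's K3 `tensor_similitudes`, and my E2a `skewRoot`).
-/

set_option autoImplicit false
set_option linter.unusedSectionVars false
set_option linter.unusedVariables false

namespace Cfsg.Agent.Lib.Helper28.SpTnsLeaf
open Matrix Cfsg Cfsg.Geo Cfsg.Agent.Lib.Helper20.Asch Cfsg.Agent.Lib.Helper29.SpAsch
  Cfsg.Agent.Lib.Helper20.SpTns
open scoped Kronecker

variable {F : Type*} [Field F] [Fintype F] {n m : ℕ} {J : Matrix (Fin n) (Fin n) F}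
  {H N : Subgroup (GL (Fin n) F)}

lemma bfm_neg_gram {κ : Type} [Fintype κ] [DecidableEq κ] (M : Matrix κ κ F) (x y : κ → F) :
    bfm (-M) x y = - bfm M x y := by
  unfold bfm
  rw [Matrix.neg_mulVec, dotProduct_neg]

lemma kron_neg_right {s k : ℕ} (A : Matrix (Fin s) (Fin s) F) (B : Matrix (Fin k) (Fin k) F) :
    A ⊗ₖ (-B) = -(A ⊗ₖ B) := by
  ext ⟨i, j⟩ ⟨i', j'⟩
  simp [Matrix.kroneckerMap_apply]

/-- (E2b) -/
theorem exists_skew_root (h : SpCtx J m H) {s : ℕ} (e : Fin n ≃ Fin s × Fin 2) (P : GL (Fin n) F)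
    (G₁ : Matrix (Fin s) (Fin s) F) (G₂ : Matrix (Fin 2) (Fin 2) F) (hG₁ : IsAltGram G₁) (hG₂s : G₂ᵀ = G₂)
    (hG₂d : G₂.det ≠ 0) (hgram : gramT e P J = G₁ ⊗ₖ G₂) (hH : H ≤ tensorProductSubgroup s 2 e P) :
    ∃ (T : Matrix (Fin n) (Fin n) F) (δ : F), δ ≠ 0 ∧ T * T = δ • (1 : Matrix (Fin n) (Fin n) F) ∧
      (∀ u v, bfm J (T *ᵥ u) v = - bfm J u (T *ᵥ v)) ∧
      (∀ g ∈ H, (g : Matrix (Fin n) (Fin n) F) * T = T * (g : Matrix (Fin n) (Fin n) F) ∨
        (g : Matrix (Fin n) (Fin n) F) * T = - (T * (g : Matrix (Fin n) (Fin n) F))) := by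
  set b₀ := skewRoot G₂ with hb₀
  have hsq : b₀ * b₀ = (-G₂.det) • (1 : Matrix (Fin 2) (Fin 2) F) := skewRoot_sq G₂ hG₂s
  have hskew : b₀ᵀ * G₂ = -(G₂ * b₀) := skewRoot_transpose_mul G₂ hG₂s
  refine ⟨conjR e P ((1 : Matrix (Fin s) (Fin s) F) ⊗ₖ b₀), -G₂.det, neg_ne_zero.2 hG₂d, ?_, ?_, ?_⟩
  · rw [← conjR_mul, ← Matrix.mul_kronecker_mul, one_mul, hsq, Matrix.kronecker_smul, Matrix.one_kronecker_one,
      conjR_smul, conjR_one]
  · intro u v
    obtain ⟨x, rfl⟩ := Cfsg.Agent.Lib.Helper20.SpTnsLeaf.exists_tvec e P u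
    obtain ⟨y, rfl⟩ := Cfsg.Agent.Lib.Helper20.SpTnsLeaf.exists_tvec e P v
    rw [Cfsg.Agent.Lib.Helper20.SpTnsLeaf.conjR_mulVec_tvec, Cfsg.Agent.Lib.Helper20.SpTnsLeaf.conjR_mulVec_tvec,
      Cfsg.Agent.Lib.Helper20.SpTnsLeaf.bfm_gramT, Cfsg.Agent.Lib.Helper20.SpTnsLeaf.bfm_gramT, hgram,
      bfm_mulVec_left, bfm_mulVec_right, ← bfm_neg_gram]
    congr 1
    rw [← Matrix.kroneckerMap_transpose, Matrix.transpose_one, ← Matrix.mul_kronecker_mul,
      ← Matrix.mul_kronecker_mul, one_mul, mul_one, hskew, kron_neg_right]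
  · intro g hg
    have hG₁ne : G₁ ≠ 0 := by
      intro h0
      have hdet := hG₁.det
      rw [h0] at hdet
      rcases Nat.eq_zero_or_pos s with hs | hs
      · -- `s = 0`: then `n = 0`, contradicting `2 ≤ m`
        have hcard := Fintype.card_congr e
        rw [Fintype.card_fin, Fintype.card_prod, Fintype.card_fin, hs, zero_mul] at hcard
        have := h.dim
        have := h.two_le
        omega
      · have : Nonempty (Fin s) := ⟨⟨0, hs⟩⟩
        exact hdet Matrix.det_zero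
    have hG₂ne : G₂ ≠ 0 := by
      intro h0
      rw [h0] at hG₂d
      exact hG₂d Matrix.det_zero
    obtain ⟨a, b, c, hc, hgab, ha, hb⟩ :=
      Cfsg.Agent.Lib.Helper23.SpTnsLeaf.tensor_similitudes e P G₁ G₂ hG₁ne hG₂ne hgram g (h.le hg) (hH hg)
    have hbdet : (b : Matrix (Fin 2) (Fin 2) F).det ≠ 0 := by
      have := (Matrix.isUnit_iff_isUnit_det _).1 b.isUnit
      exact this.ne_zero
    rcases skewRoot_comm G₂ hG₂s hG₂d (b : Matrix (Fin 2) (Fin 2) F) c⁻¹ hb hbdet with hcm | hac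
    · left
      rw [hgab, ← conjR_mul, ← conjR_mul, ← Matrix.mul_kronecker_mul, ← Matrix.mul_kronecker_mul, mul_one, one_mul,
        hcm]
    · right
      rw [hgab, ← conjR_mul, ← conjR_mul, ← Matrix.mul_kronecker_mul, ← Matrix.mul_kronecker_mul, mul_one, one_mul,
        hac, kron_neg_right, ← neg_one_smul F, conjR_smul, neg_one_smul]

end Cfsg.Agent.Lib.Helper28.SpTnsLeaf
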