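import Cfsg.Agent.Lib.Helper28.U6Vec
import Cfsg.Agent.Lib.Helper14.Unitary3
set_option autoImplicit false

/-!
# The order of `PSU(6, 2)`
-/

namespace Cfsg.Agent.Lib.Helper28.U6Card
open Cfsg.Agent.Lib.Helper28.U6F4 Cfsg.Agent.Lib.Helper28.U6Vec Cfsg.Agent.Lib.Helper14

theorem card_GU6 : Nat.card (Cfsg.GU 6 F4 2) = 82771476480 := by
  rw [card_GU hF4 6]
  decide

theorem card_SU6 : Nat.card SU6 = 27590492160 := by
  have h : (2 + 1) * Nat.card SU6 = Nat.card (Cfsg.GU 6 F4 2) := card_SU_mul hF4 6 (by norm_num)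
  rw [card_GU6] at h
  omega

theorem card_PSU6 : Nat.card (Cfsg.PSU 6 F4 2) = 9196830720 := by
  have h1 : Nat.card (Subgroup.center SU6) = 3 := by
    have := card_center_SU hF4 6 (by norm_num)
    rw [this]
    rfl
  have h2 := Subgroup.card_eq_card_quotient_mul_card_subgroup (Subgroup.center SU6)
  rw [card_SU6, h1] at h2
  have h3 : Nat.card (Cfsg.PSU 6 F4 2) = Nat.card (SU6 ⧸ Subgroup.center SU6) := rfl
  omega

instance : Finite (Cfsg.PSU 6 F4 2) := Nat.finite_of_card_ne_zero (by rw [card_PSU6]; norm_num)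

theorem isSimple_PSU6 : IsSimpleGroup (Cfsg.PSU 6 F4 2) :=
  Cfsg.Agent.Lib.Helper5.PSUSimple.isSimpleGroup_PSU hF4 (by norm_num) (by norm_num)

theorem center_PSU6 : Subgroup.center (Cfsg.PSU 6 F4 2) = ⊥ := by
  haveI := isSimple_PSU6
  rcases Subgroup.Normal.eq_bot_or_eq_top (inferInstance : (Subgroup.center (Cfsg.PSU 6 F4 2)).Normal) with h1 | h1
  · exact h1
  · exfalso
    letI : CommGroup (Cfsg.PSU 6 F4 2) := Group.commGroupOfCenterEqTop h1
    have hp : (Nat.card (Cfsg.PSU 6 F4 2)).Prime := IsSimpleGroup.prime_card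
    rw [card_PSU6] at hp
    norm_num at hp

end Cfsg.Agent.Lib.Helper28.U6Card
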