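import Mathlib
import Cfsg.Agent.Lib.Helper1.LowDimO

/-!
# S5798 block (O), leaf O-W: Witt's lemma for singular vectors inside `Sim(Q) ∩ SL` (helper28)

Exact statement of `witt_sing` in `notes/S5798_O_leaves.lean` (sub-planner helper22).
-/

set_option autoImplicit false
set_option linter.unusedSectionVars false
set_option linter.unusedVariables false
set_option linter.unusedSimpArgs false

noncomputable section

namespace Cfsg.Agent.Lib.Helper28.SL6OLeaf
open Cfsg Matrix QuadraticMap Module Cfsg.Agent.Lib.Helper5 Cfsg.Agent.Lib.Helper5.SpMax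
  Cfsg.Agent.Lib.Helper5.TMCalc Cfsg.Agent.Lib.Helper5.OSL Cfsg.Agent.S5644.S5644aux

variable {F : Type*} [Field F] {n : ℕ}
variable (Qf : QuadraticForm F (Fin n → F))

/-- the case `B(x,x') ≠ 0`: a product of two reflections -/
theorem witt_sing_aux (hnd : (polarBilin Qf).Nondegenerate) (hn : 5 ≤ n)
    (x x' : Fin n → F) (hx : Qf x = 0) (hx' : Qf x' = 0) (hxx' : polar Qf x x' ≠ 0) :
    ∃ h : GL (Fin n) F,
      h ∈ Cfsg.Geo.quadSimilarityGroup (⇑Qf) ⊓ Cfsg.Geo.specialLinear (Fin n) F ∧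
      (∀ v, Qf ((h : Matrix (Fin n) (Fin n) F) *ᵥ v) = Qf v) ∧
      (h : Matrix (Fin n) (Fin n) F) *ᵥ x = x' := by
  have hu : Qf (x - x') = -polar Qf x x' := by
    rw [Q_sub, hx, hx']; ring
  have hu0 : Qf (x - x') ≠ 0 := by
    rw [hu]; exact neg_ne_zero.mpr hxx'
  obtain ⟨w, hw, hlw⟩ := exists_ns Qf hnd ![bL Qf x] (by omega)
  have hwx : polar Qf x w = 0 := by simpa using hlw 0
  obtain ⟨σ, hσH, hσQ, hσx⟩ := exists_pair Qf (x - x') w hu0 hw
  refine ⟨σ, hσH, hσQ, ?_⟩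
  rw [hσx, reflectionMatrix_mulVec, reflectionMatrix_mulVec, polar_comm Qf w x, hwx, mul_zero,
    zero_smul, sub_zero]
  have hc : (Qf (x - x'))⁻¹ * polar Qf (x - x') x = 1 := by
    have : polar Qf (x - x') x = Qf (x - x') := by
      rw [polar_sub_left, pself, hx, hu, polar_comm Qf x' x]; ring
    rw [this, inv_mul_cancel₀ hu0]
  rw [hc, one_smul]
  abel

theorem witt_sing (hnd : (polarBilin Qf).Nondegenerate) (h2 : (2 : F) ≠ 0) (hn : 5 ≤ n)
    (x x' : Fin n → F) (hx0 : x ≠ 0) (hx'0 : x' ≠ 0) (hx : Qf x = 0) (hx' : Qf x' = 0) :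
    ∃ h : GL (Fin n) F,
      h ∈ Cfsg.Geo.quadSimilarityGroup (⇑Qf) ⊓ Cfsg.Geo.specialLinear (Fin n) F ∧
      (∀ v, Qf ((h : Matrix (Fin n) (Fin n) F) *ᵥ v) = Qf v) ∧
      (h : Matrix (Fin n) (Fin n) F) *ᵥ x = x' := by
  by_cases hxx' : polar Qf x x' = 0
  · obtain ⟨z, hz1, hz2⟩ := exists_both_ne Qf hnd x x' hx0 hx'0
    set c : F := Qf z * (polar Qf z x)⁻¹ with hc
    have hzx : polar Qf z x ≠ 0 := by rw [polar_comm]; exact hz1
    have hQ'' : Qf (z - c • x) = 0 := by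
      rw [Q_sub, Q_smul, hx, polar_smul_right, smul_eq_mul, hc]
      field_simp
      ring
    have h1 : polar Qf x (z - c • x) ≠ 0 := by
      rw [polar_sub_right, polar_smul_right, pself, hx, mul_zero, smul_zero, sub_zero]
      exact hz1
    have h2' : polar Qf (z - c • x) x' ≠ 0 := by
      rw [polar_sub_left, polar_smul_left, hxx', smul_zero, sub_zero, polar_comm]
      exact hz2
    obtain ⟨g₁, hg₁H, hg₁Q, hg₁x⟩ := witt_sing_aux Qf hnd hn x (z - c • x) hx hQ'' h1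
    obtain ⟨g₂, hg₂H, hg₂Q, hg₂x⟩ := witt_sing_aux Qf hnd hn (z - c • x) x' hQ'' hx' h2'
    refine ⟨g₂ * g₁, Subgroup.mul_mem _ hg₂H hg₁H, fun v => ?_, ?_⟩
    · rw [Units.val_mul, ← Matrix.mulVec_mulVec, hg₂Q, hg₁Q]
    · rw [Units.val_mul, ← Matrix.mulVec_mulVec, hg₁x, hg₂x]
  · exact witt_sing_aux Qf hnd hn x x' hx hx' hxx'

end Cfsg.Agent.Lib.Helper28.SL6OLeaf
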