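import Mathlib
import Cfsg.Agent.Lib.Helper5.TWS.Defs
import Cfsg.Agent.Lib.Helper16.TWRootB
import Cfsg.Agent.Lib.Helper26.TWFibA

/-!
# S5668 Stage I market, leaf ST9 `weylS` (helper28): symplectic port of `Helper28.TWUIWeyl`

The Weyl element `u_y(1) u_{y₃}(e⁻²) u_y(1)` (`e = sf y₃ y`) of the hyperbolic plane `⟨y, y₃⟩` at position `i`; exact signature of
`notes/S5668_I_leaves.lean` (owner helper5).
-/

set_option autoImplicit false
set_option linter.unusedSectionVars false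
set_option linter.unusedVariables false

namespace Cfsg.Agent.Lib.Helper28.TWSLeaf
open Matrix Cfsg.Geo Cfsg.Agent.Lib.Helper18.AschA89 Cfsg.Agent.Lib.Helper8.TW Cfsg.Agent.Lib.Helper5.TWS
open Cfsg.Agent.Lib.Helper25.SpT (sf Jm sfv)

variable {F : Type*} [Field F] [Fintype F] {t k : ℕ}

/-- a root element is `slotGL` of the unipotent matrix `1 + c y ηᵀ` -/
lemma weylS_elt_eq (r : RD t k F) (c : F) :
    r.elt c = slotGL r.i (unip (c • Matrix.vecMulVec r.y r.η)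
      (Cfsg.Agent.Lib.Helper16.TWLeaf.vmv_sq r.y r.η r.h0 c)) := by
  apply Units.ext
  rw [slotGL_val, unip_val, RD.elt_val, slot_add, slot_one, slot_smul]
  rfl

lemma weylS_slotGL_mul (i : Fin t) (α β : GL (Fin k) F) : slotGL i (α * β) = slotGL i α * slotGL i β := by
  apply Units.ext
  rw [Units.val_mul, slotGL_val, slotGL_val, slotGL_val, Units.val_mul, slot_mul]

/-- the action of `1 + c y y†` on `A` -/
lemma weylS_mulVec (y v : Fin k → F) (c : F) :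
    (1 + c • Matrix.vecMulVec y (sfv y)) *ᵥ v = v + (c * sf v y) • y := by
  rw [Matrix.add_mulVec, Matrix.one_mulVec, Matrix.smul_mulVec, Matrix.vecMulVec_mulVec,
    Cfsg.Agent.Lib.Helper25.SpT.sfv_dot, op_smul_eq_smul, smul_smul]

theorem weylS (hk : Even k) (i : Fin t) (y y₃ : Fin k → F) (hy0 : y ≠ 0) (hy₃0 : y₃ ≠ 0) (h : sf y y₃ ≠ 0) :
    ∃ w ∈ (srd hk i y hy0 : RD t k F).grp ⊔ (srd hk i y₃ hy₃0 : RD t k F).grp, w ∈ Gstd t k F ∧ img w (Wf i y₃) = Wf i y := by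
  classical
  set e : F := sf y₃ y with he
  have hye : sf y y₃ = -e := by rw [he, Cfsg.Agent.Lib.Helper25.SpT.sf_skew]
  have he0 : e ≠ 0 := by
    intro h0
    apply h
    rw [hye, h0, neg_zero]
  set c' : F := (e * e)⁻¹ with hc'
  have hc'e : c' * (e * e) = 1 := by
    rw [hc', inv_mul_cancel₀ (mul_ne_zero he0 he0)]
  have hm1 : (srd hk i y hy0 : RD t k F).elt 1 ∈ (srd hk i y hy0 : RD t k F).grp ⊔ (srd hk i y₃ hy₃0 : RD t k F).grp :=
    Subgroup.mem_sup_left (RD.elt_mem_grp _ 1)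
  have hm3 : (srd hk i y₃ hy₃0 : RD t k F).elt c' ∈ (srd hk i y hy0 : RD t k F).grp ⊔ (srd hk i y₃ hy₃0 : RD t k F).grp :=
    Subgroup.mem_sup_right (RD.elt_mem_grp _ c')
  refine ⟨(srd hk i y hy0 : RD t k F).elt 1 * (srd hk i y₃ hy₃0 : RD t k F).elt c' * (srd hk i y hy0 : RD t k F).elt 1,
    Subgroup.mul_mem _ (Subgroup.mul_mem _ hm1 hm3) hm1, ?_, ?_⟩
  · exact Subgroup.mul_mem _ (Subgroup.mul_mem _
      (Cfsg.Agent.Lib.Helper16.TWLeaf.RD_elt_mem_H (srd hk i y hy0 : RD t k F) 1).1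
      (Cfsg.Agent.Lib.Helper16.TWLeaf.RD_elt_mem_H (srd hk i y₃ hy₃0 : RD t k F) c').1)
      (Cfsg.Agent.Lib.Helper16.TWLeaf.RD_elt_mem_H (srd hk i y hy0 : RD t k F) 1).1
  · -- the three factors as `slotGL i`
    obtain ⟨a₁, ha₁⟩ : ∃ a₁ : GL (Fin k) F, a₁ = unip ((1 : F) • Matrix.vecMulVec y (sfv y))
        (Cfsg.Agent.Lib.Helper16.TWLeaf.vmv_sq y (sfv y) (srd hk i y hy0 : RD t k F).h0 1) := ⟨_, rfl⟩
    obtain ⟨a₃, ha₃⟩ : ∃ a₃ : GL (Fin k) F, a₃ = unip (c' • Matrix.vecMulVec y₃ (sfv y₃))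
        (Cfsg.Agent.Lib.Helper16.TWLeaf.vmv_sq y₃ (sfv y₃) (srd hk i y₃ hy₃0 : RD t k F).h0 c') := ⟨_, rfl⟩
    have hact1 : ∀ v, (a₁ : Matrix (Fin k) (Fin k) F) *ᵥ v = v + (1 * sf v y) • y := by
      intro v; rw [ha₁, unip_val, weylS_mulVec]
    have hact3 : ∀ v, (a₃ : Matrix (Fin k) (Fin k) F) *ᵥ v = v + (c' * sf v y₃) • y₃ := by
      intro v; rw [ha₃, unip_val, weylS_mulVec]
    have h1 : (srd hk i y hy0 : RD t k F).elt 1 = slotGL i a₁ := by
      rw [ha₁]; exact weylS_elt_eq (srd hk i y hy0 : RD t k F) 1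
    have h3 : (srd hk i y₃ hy₃0 : RD t k F).elt c' = slotGL i a₃ := by
      rw [ha₃]; exact weylS_elt_eq (srd hk i y₃ hy₃0 : RD t k F) c'
    rw [h1, h3, ← weylS_slotGL_mul, ← weylS_slotGL_mul]
    unfold Wf
    rw [Cfsg.Agent.Lib.Helper26.TWLeaf.img_slot_fib, Submodule.map_span, Set.image_singleton,
      Matrix.toLin'_apply]
    have s1 : (a₁ : Matrix (Fin k) (Fin k) F) *ᵥ y₃ = y₃ + e • y := by
      rw [hact1, ← he, one_mul]
    have h5 : sf (y₃ + e • y) y₃ = -(e * e) := by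
      rw [Cfsg.Agent.Lib.Helper25.SpT.sf_add_left, Cfsg.Agent.Lib.Helper25.SpT.sf_smul_left,
        Cfsg.Agent.Lib.Helper25.SpT.sf_self, hye, zero_add, mul_neg]
    have s2 : (a₃ : Matrix (Fin k) (Fin k) F) *ᵥ (y₃ + e • y) = e • y := by
      rw [hact3, h5, mul_neg, hc'e]
      module
    have s3 : (a₁ : Matrix (Fin k) (Fin k) F) *ᵥ (e • y) = e • y := by
      rw [hact1, Cfsg.Agent.Lib.Helper25.SpT.sf_smul_left, Cfsg.Agent.Lib.Helper25.SpT.sf_self, mul_zero, mul_zero,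
        zero_smul, add_zero]
    have hval : ((a₁ * a₃ * a₁ : GL (Fin k) F) : Matrix (Fin k) (Fin k) F) *ᵥ y₃ = e • y := by
      rw [Units.val_mul, Units.val_mul, ← Matrix.mulVec_mulVec, ← Matrix.mulVec_mulVec, s1, s2, s3]
    rw [hval]
    congr 1
    exact Submodule.span_singleton_smul_eq (IsUnit.mk0 _ he0) y

end Cfsg.Agent.Lib.Helper28.TWSLeaf
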