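import Mathlib
import Cfsg.Agent.Lib.Helper20.UTDefs
import Cfsg.Agent.Lib.Helper23.UTNNG

/-!
helper28, S5801 (8) `GU_2 ⊗ GU_3 < SU_6(q)`, the case `q = 3`, leaf **Q4** (Step C of
notes/S5801_C4_q3_route_helper18.md): a member `R2` of the orbit of fibres meeting the fibre `x ⊗ B` in a
nonsingular point `x ⊗ w` is moved by a suitable element `h` of `H = KG ∩ GS` to a subspace meeting it in
dimension exactly two.  Three monomial cases (msg 4979).  Vocabulary: Helper20.UT + Helper25.Tens.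
-/

set_option autoImplicit false
set_option linter.unusedSectionVars false
set_option linter.unusedVariables false

namespace Cfsg.Agent.Lib.Helper28.U23Q4
open Matrix
open Cfsg.Agent.Lib.Helper25.Tens Cfsg.Agent.Lib.Helper25.TensLeaf
open Cfsg.Agent.Lib.Helper20.UT
open scoped Kronecker

variable {F : Type*} [Field F] [Fintype F]

/-! ### the field with nine elements -/

lemma three_eq_zero (hF : Fintype.card F = 3 ^ 2) : (3 : F) = 0 := by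
  have h := Nat.cast_card_eq_zero F
  rw [hF] at h
  have h2 : (3 : F) ^ 2 = 0 := by exact_mod_cast h
  exact pow_eq_zero_iff (by norm_num) |>.1 h2

lemma pow_nine (hF : Fintype.card F = 3 ^ 2) (a : F) : a ^ 9 = a := by
  have h := FiniteField.pow_card a
  rw [hF] at h
  exact h

lemma exists_iota (hF : Fintype.card F = 3 ^ 2) : ∃ i : F, i ^ 2 = -1 := by
  have h : IsSquare (-1 : F) := by
    rw [FiniteField.isSquare_neg_one_iff, hF]
    norm_num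
  obtain ⟨i, hi⟩ := h
  exact ⟨i, by rw [pow_two, ← hi]⟩

lemma pow_four_cases (hF : Fintype.card F = 3 ^ 2) {a : F} (ha : a ≠ 0) : a ^ 4 = 1 ∨ a ^ 4 = -1 := by
  have h9 := pow_nine hF a
  have h8 : a ^ 8 = 1 := by
    have : a * a ^ 8 = a * 1 := by rw [mul_one, ← pow_succ', h9]
    exact mul_left_cancel₀ ha this
  have h : (a ^ 4 - 1) * (a ^ 4 + 1) = 0 := by linear_combination h8
  rcases mul_eq_zero.1 h with h | h
  · left; linear_combination h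
  · right; linear_combination h

/-- cube is additive -/
lemma cube_add (hF : Fintype.card F = 3 ^ 2) (a b : F) : (a + b) ^ 3 = a ^ 3 + b ^ 3 := by
  have h3 := three_eq_zero hF
  linear_combination (a ^ 2 * b + a * b ^ 2) * h3

/-! ### expansion in a dual pair of frames -/

lemma expand_of_dual {n : ℕ} (u u' : Fin n → Fin n → F)
    (h : ∀ i j, u' i ⬝ᵥ u j = if i = j then 1 else 0) (y : Fin n → F) :
    y = ∑ j, (u' j ⬝ᵥ y) • u j := by
  set U : Matrix (Fin n) (Fin n) F := Matrix.of (fun i j => u j i) with hU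
  set U' : Matrix (Fin n) (Fin n) F := Matrix.of (fun i j => u' i j) with hU'
  have h1 : U' * U = 1 := by
    ext i j
    rw [Matrix.mul_apply, Matrix.one_apply]
    exact h i j
  have h2 : U * U' = 1 := mul_eq_one_comm.1 h1
  have h3 : y = U *ᵥ (U' *ᵥ y) := by rw [Matrix.mulVec_mulVec, h2, Matrix.one_mulVec]
  conv_lhs => rw [h3]
  ext i
  simp only [Matrix.mulVec, dotProduct, hU, hU', Matrix.of_apply, Finset.sum_apply, Pi.smul_apply,
    smul_eq_mul]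
  apply Finset.sum_congr rfl
  intro j _
  ring


/-- expansion in a hyperbolic pair of `F²` -/
lemma expand_A (x xs : Fin 2 → F) (hx : hv 3 x x = 0) (hxs : hv 3 xs xs = 0) (h1 : hv 3 x xs = 1)
    (h2 : hv 3 xs x = 1) (a : Fin 2 → F) : a = hv 3 a xs • x + hv 3 a x • xs := by
  have h := expand_of_dual ![x, xs] ![cj 3 xs, cj 3 x] (by
    intro i j
    fin_cases i <;> fin_cases j <;> simp [← hv_eq_dot, hx, hxs, h1, h2]) a
  rw [Fin.sum_univ_two] at h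
  simpa [← hv_eq_dot] using h

/-- expansion in an orthogonal frame `w, e₁, e₂` of `F³` -/
lemma expand_B (w e₁ e₂ : Fin 3 → F) (hw : hv 3 w w ≠ 0) (h11 : hv 3 e₁ e₁ = 1) (h22 : hv 3 e₂ e₂ = 1)
    (h12 : hv 3 e₁ e₂ = 0) (h21 : hv 3 e₂ e₁ = 0) (hw1 : hv 3 w e₁ = 0) (h1w : hv 3 e₁ w = 0)
    (hw2 : hv 3 w e₂ = 0) (h2w : hv 3 e₂ w = 0) (y : Fin 3 → F) :
    y = (hv 3 y w / hv 3 w w) • w + hv 3 y e₁ • e₁ + hv 3 y e₂ • e₂ := by
  have h := expand_of_dual ![w, e₁, e₂] ![(hv 3 w w)⁻¹ • cj 3 w, cj 3 e₁, cj 3 e₂] (by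
    intro i j
    fin_cases i <;> fin_cases j <;>
      simp [← hv_eq_dot, smul_dotProduct, h11, h22, h12, h21, hw1, h1w, hw2, h2w, hw]) y
  rw [Fin.sum_univ_three] at h
  simpa [← hv_eq_dot, smul_dotProduct, div_eq_inv_mul] using h

lemma ctA_zero' {a b : ℕ} (ξ : Fin a → F) : ctA ξ (0 : Idx a b → F) = 0 := by
  ext l; simp [ctA]

/-- expansion of a tensor along a hyperbolic pair of the first factor -/
lemma expand_tensor (x xs : Fin 2 → F) (hx : hv 3 x x = 0) (hxs : hv 3 xs xs = 0) (h1 : hv 3 x xs = 1)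
    (h2 : hv 3 xs x = 1) (v : Idx 2 3 → F) :
    v = pt xs (ctA (cj 3 x) v) + pt x (ctA (cj 3 xs) v) := by
  induction v using Cfsg.Agent.Lib.Helper23.UTNLeaf.utn_pt_induction with
  | h0 => simp [ctA_zero', pt]
  | hadd v w hv' hw' =>
    rw [ctA_add, ctA_add, pt_add_right, pt_add_right]
    conv_lhs => rw [hv', hw']
    abel
  | hpt a z =>
    rw [ctA_cj_pt, ctA_cj_pt, pt_smul_right, pt_smul_right, ← pt_smul_left, ← pt_smul_left, ← pt_add_left]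
    congr 1
    rw [add_comm]
    exact expand_A x xs hx hxs h1 h2 a


/-! ### rank-one perturbations of the identity: `y ↦ y + s h(y,d) d` -/

lemma vmv_sq {n : ℕ} (d : Fin n → F) :
    Matrix.vecMulVec d (cj 3 d) * Matrix.vecMulVec d (cj 3 d) = hv 3 d d • Matrix.vecMulVec d (cj 3 d) := by
  ext i j
  simp only [Matrix.mul_apply, Matrix.vecMulVec_apply, Matrix.smul_apply, smul_eq_mul, hv, cj,
    Finset.sum_mul, Finset.mul_sum]
  apply Finset.sum_congr rfl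
  intro l _
  ring

/-- `1 + s • d d†` as a unit (`s + s' + s s' h(d,d) = 0`) -/
def pert {n : ℕ} (d : Fin n → F) (s s' : F) (h : s + s' + s * s' * hv 3 d d = 0) : GL (Fin n) F where
  val := 1 + s • Matrix.vecMulVec d (cj 3 d)
  inv := 1 + s' • Matrix.vecMulVec d (cj 3 d)
  val_inv := by
    rw [add_mul, mul_add, mul_add, one_mul, mul_one, one_mul, Matrix.smul_mul, Matrix.mul_smul, vmv_sq,
      smul_smul, smul_smul, add_assoc, ← add_assoc (s' • _), ← add_smul, ← add_smul]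
    have : s' + s + s * s' * hv 3 d d = 0 := by linear_combination h
    rw [this, zero_smul, add_zero]
  inv_val := by
    rw [add_mul, mul_add, mul_add, one_mul, mul_one, one_mul, Matrix.smul_mul, Matrix.mul_smul, vmv_sq,
      smul_smul, smul_smul, add_assoc, ← add_assoc (s • _), ← add_smul, ← add_smul]
    have : s + s' + s' * s * hv 3 d d = 0 := by linear_combination h
    rw [this, zero_smul, add_zero]

lemma mv_pert {n : ℕ} (d : Fin n → F) (s s' : F) (h : s + s' + s * s' * hv 3 d d = 0) (y : Fin n → F) :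
    mv (pert d s s' h) y = y + (s * hv 3 y d) • d := by
  unfold mv pert
  simp only
  rw [Matrix.add_mulVec, Matrix.one_mulVec, Matrix.smul_mulVec, Matrix.vecMulVec_mulVec, ← hv_eq_dot]
  congr 1
  ext i
  simp only [Pi.smul_apply, smul_eq_mul, MulOpposite.smul_eq_mul_unop, MulOpposite.unop_op]
  ring

lemma pert_det {n : ℕ} (d : Fin n → F) (s s' : F) (h : s + s' + s * s' * hv 3 d d = 0) :
    ((pert d s s' h : GL (Fin n) F) : Matrix (Fin n) (Fin n) F).det = 1 + s * hv 3 d d := by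
  have h1 : (1 + s • Matrix.vecMulVec d (cj 3 d) : Matrix (Fin n) (Fin n) F) =
      1 + Matrix.replicateCol Unit (s • d) * Matrix.replicateRow Unit (cj 3 d) := by
    congr 1
    ext i j; simp [Matrix.vecMulVec_apply, Matrix.mul_apply, mul_assoc]
  change (1 + s • Matrix.vecMulVec d (cj 3 d) : Matrix (Fin n) (Fin n) F).det = _
  rw [h1, Matrix.det_one_add_replicateCol_mul_replicateRow, dotProduct_smul, ← hv_eq_dot, smul_eq_mul]

lemma pert_unitary {n : ℕ} (hF : Fintype.card F = 3 ^ 2) (d : Fin n → F) (s s' : F)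
    (h : s + s' + s * s' * hv 3 d d = 0) (hs : s' = s ^ 3) (u v : Fin n → F) :
    hv 3 (mv (pert d s s' h) u) (mv (pert d s s' h) v) = hv 3 u v := by
  rw [mv_pert, mv_pert, hv_add_left, hv_add_right hF, hv_add_right hF, hv_smul_left, hv_smul_left,
    hv_smul_right, hv_smul_right, mul_pow, hv_conj hF v d]
  subst hs
  linear_combination (hv 3 u d * hv 3 d v) * h


/-! ### an orthonormal frame of `w^⊥` -/

open Cfsg.Agent.Lib.Helper5 in
lemma exists_frame (hF : Fintype.card F = 3 ^ 2) (w : Fin 3 → F) (hw : hv 3 w w ≠ 0) :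
    ∃ e₁ e₂ : Fin 3 → F, hv 3 e₁ e₁ = 1 ∧ hv 3 e₂ e₂ = 1 ∧ hv 3 e₁ e₂ = 0 ∧ hv 3 e₂ e₁ = 0 ∧
      hv 3 w e₁ = 0 ∧ hv 3 e₁ w = 0 ∧ hv 3 w e₂ = 0 ∧ hv 3 e₂ w = 0 := by
  have hf := hv_unitary (n := 3) hF
  have hU₁ : UForm.ND (hv 3) ((⊤ : Submodule F (Fin 3 → F)) ⊓ UForm.pp hf w) :=
    UForm.ND_noniso hf (UForm.ND_top hf) Submodule.mem_top hw
  have hd₁ : 2 ≤ Module.finrank F ↥((⊤ : Submodule F (Fin 3 → F)) ⊓ UForm.pp hf w) := by
    have h1 := UForm.finrank_inf_pp hf (⊤ : Submodule F (Fin 3 → F)) w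
    rw [finrank_top, Module.finrank_fin_fun] at h1
    omega
  obtain ⟨e₁, he₁U, he₁⟩ := UForm.exists_norm hf hU₁ hd₁ 1 (map_one _)
  have he₁w : hv 3 e₁ w = 0 := (UForm.mem_pp hf).1 (Submodule.mem_inf.1 he₁U).2
  have hU₂ : UForm.ND (hv 3) ((⊤ : Submodule F (Fin 3 → F)) ⊓ UForm.pp hf w ⊓ UForm.pp hf e₁) :=
    UForm.ND_noniso hf hU₁ he₁U (by rw [he₁]; exact one_ne_zero)
  have hd₂ : 1 ≤ Module.finrank F
      ↥((⊤ : Submodule F (Fin 3 → F)) ⊓ UForm.pp hf w ⊓ UForm.pp hf e₁) := by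
    have h1 := UForm.finrank_inf_pp hf ((⊤ : Submodule F (Fin 3 → F)) ⊓ UForm.pp hf w) e₁
    omega
  obtain ⟨u, huU, hu0⟩ := UForm.exists_mem_ne_zero hd₂
  -- a vector of norm one in `U₂`
  obtain ⟨e₂, he₂U, he₂⟩ : ∃ e₂ ∈ (⊤ : Submodule F (Fin 3 → F)) ⊓ UForm.pp hf w ⊓ UForm.pp hf e₁,
      hv 3 e₂ e₂ = 1 := by
    by_cases huu : hv 3 u u = 0
    · obtain ⟨u', hu'U, hu'u', huu'⟩ := UForm.exists_partner hf hU₂ huU hu0 huu
      obtain ⟨l, hl⟩ := UForm.tr_surj hf.involutive hf.ne_refl (1 : F) (map_one _)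
      refine ⟨u + l • u', Submodule.add_mem _ huU (Submodule.smul_mem _ _ hu'U), ?_⟩
      rw [UForm.u_expand hf, huu, hu'u', huu', hf.herm u' u, huu', map_one]
      linear_combination hl
    · obtain ⟨z, hz⟩ := UForm.norm_surj hf.involutive hf.ne_refl (hv 3 u u)⁻¹ (inv_ne_zero huu)
        (by rw [map_inv₀, UForm.u_self_fixed hf])
      refine ⟨z • u, Submodule.smul_mem _ _ huU, ?_⟩
      rw [hf.smul_left, UForm.u_smul_right hf, ← mul_assoc, hz, inv_mul_cancel₀ huu]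
  have he₂e₁ : hv 3 e₂ e₁ = 0 := (UForm.mem_pp hf).1 (Submodule.mem_inf.1 he₂U).2
  have he₂w : hv 3 e₂ w = 0 :=
    (UForm.mem_pp hf).1 (Submodule.mem_inf.1 (Submodule.mem_inf.1 he₂U).1).2
  exact ⟨e₁, e₂, he₁, he₂, hv_symm_zero hF he₂e₁, he₂e₁, hv_symm_zero hF he₁w, he₁w,
    hv_symm_zero hF he₂w, he₂w⟩


/-! ### the configuration -/

/-- a hyperbolic pair `x, xs` of `F²` and an orthogonal frame `w, e₁, e₂` of `F³` (`e₁, e₂` of norm one) -/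
structure Cfg (x xs : Fin 2 → F) (w e₁ e₂ : Fin 3 → F) : Prop where
  hx : hv 3 x x = 0
  hxs : hv 3 xs xs = 0
  hxxs : hv 3 x xs = 1
  hxsx : hv 3 xs x = 1
  hw : hv 3 w w ≠ 0
  h11 : hv 3 e₁ e₁ = 1
  h22 : hv 3 e₂ e₂ = 1
  h12 : hv 3 e₁ e₂ = 0
  h21 : hv 3 e₂ e₁ = 0
  hw1 : hv 3 w e₁ = 0
  h1w : hv 3 e₁ w = 0
  hw2 : hv 3 w e₂ = 0
  h2w : hv 3 e₂ w = 0

variable {x xs : Fin 2 → F} {w e₁ e₂ : Fin 3 → F}

/-- no vector of `x ⊗ ⟨e₁, e₂⟩` lies in `R2` -/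
lemma no_xP (C : Cfg x xs w e₁ e₂) (R2 : Submodule F (Idx 2 3 → F))
    (hK : ∀ y : Fin 3 → F, pt x y ∈ R2 → ∃ c : F, y = c • w) {c₁ c₂ : F}
    (h : c₁ • pt x e₁ + c₂ • pt x e₂ ∈ R2) : c₁ = 0 ∧ c₂ = 0 := by
  have e : c₁ • pt x e₁ + c₂ • pt x e₂ = pt x (c₁ • e₁ + c₂ • e₂) := by
    rw [pt_add_right, pt_smul_right, pt_smul_right]
  rw [e] at h
  obtain ⟨c', hc'⟩ := hK _ h
  have h1 := congrArg (fun y => hv 3 y e₁) hc'
  have h2 := congrArg (fun y => hv 3 y e₂) hc'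
  simp only [hv_add_left, hv_smul_left, C.h11, C.h21, C.hw1, C.h12, C.h22, C.hw2, mul_one, mul_zero,
    add_zero, zero_add] at h1 h2
  exact ⟨h1, h2⟩

/-- coordinates of a vector of `R2` with prescribed `xs`-component -/
lemma coord_of (hF : Fintype.card F = 3 ^ 2) (C : Cfg x xs w e₁ e₂) (R2 : Submodule F (Idx 2 3 → F))
    (hti : ∀ u ∈ R2, ∀ v ∈ R2, hv 3 u v = 0) (hxw : pt x w ∈ R2) (u : Idx 2 3 → F) (hu : u ∈ R2)
    (α₁ α₂ : F) (h1 : hv 3 u (pt x e₁) = α₁) (h2 : hv 3 u (pt x e₂) = α₂) :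
    ∃ p b : F, α₁ • pt xs e₁ + α₂ • pt xs e₂ + p • pt x e₁ + b • pt x e₂ ∈ R2 := by
  have h0 : hv 3 u (pt x w) = 0 := hti u hu _ hxw
  have hY : ctA (cj 3 x) u = α₁ • e₁ + α₂ • e₂ := by
    rw [expand_B w e₁ e₂ C.hw C.h11 C.h22 C.h12 C.h21 C.hw1 C.h1w C.hw2 C.h2w (ctA (cj 3 x) u),
      ← hv_pt_right', ← hv_pt_right', ← hv_pt_right', h0, h1, h2, zero_div, zero_smul, zero_add]
  have hu' := expand_tensor x xs C.hx C.hxs C.hxxs C.hxsx u
  rw [hY, expand_B w e₁ e₂ C.hw C.h11 C.h22 C.h12 C.h21 C.hw1 C.h1w C.hw2 C.h2w (ctA (cj 3 xs) u)] at hu'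
  obtain ⟨p, hp⟩ : ∃ p : F, p = hv 3 (ctA (cj 3 xs) u) e₁ := ⟨_, rfl⟩
  obtain ⟨b, hb⟩ : ∃ b : F, b = hv 3 (ctA (cj 3 xs) u) e₂ := ⟨_, rfl⟩
  obtain ⟨t, ht⟩ : ∃ t : F, t = hv 3 (ctA (cj 3 xs) u) w / hv 3 w w := ⟨_, rfl⟩
  rw [← hp, ← hb, ← ht] at hu'
  refine ⟨p, b, ?_⟩
  have e : α₁ • pt xs e₁ + α₂ • pt xs e₂ + p • pt x e₁ + b • pt x e₂ = u - t • pt x w := by
    conv_rhs => rw [hu']
    simp only [pt_add_right, pt_smul_right]
    module
  rw [e]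
  exact R2.sub_mem hu (R2.smul_mem _ hxw)


/-- the coordinates `φ = [[p, a], [b, r]]` of `R2` -/
lemma exists_coords (hF : Fintype.card F = 3 ^ 2) (C : Cfg x xs w e₁ e₂) (R2 : Submodule F (Idx 2 3 → F))
    (hti : ∀ u ∈ R2, ∀ v ∈ R2, hv 3 u v = 0) (hdim : Module.finrank F R2 = 3) (hxw : pt x w ∈ R2)
    (hK : ∀ y : Fin 3 → F, pt x y ∈ R2 → ∃ c : F, y = c • w) :
    ∃ p a b r : F, pt xs e₁ + p • pt x e₁ + b • pt x e₂ ∈ R2 ∧
      pt xs e₂ + a • pt x e₁ + r • pt x e₂ ∈ R2 := by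
  classical
  let Pm : ↥R2 →ₗ[F] (Fin 2 → F) :=
    { toFun := fun v => ![hv 3 (v : Idx 2 3 → F) (pt x e₁), hv 3 (v : Idx 2 3 → F) (pt x e₂)]
      map_add' := by
        intro u v
        ext i
        fin_cases i <;> simp [hv_add_left]
      map_smul' := by
        intro c v
        ext i
        fin_cases i <;> simp [hv_smul_left] }
  have hP0 : ∀ v : ↥R2, Pm v 0 = hv 3 (v : Idx 2 3 → F) (pt x e₁) := fun v => rfl
  have hP1 : ∀ v : ↥R2, Pm v 1 = hv 3 (v : Idx 2 3 → F) (pt x e₂) := fun v => rfl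
  have hker : LinearMap.ker Pm ≤ Submodule.span F {(⟨pt x w, hxw⟩ : ↥R2)} := by
    intro v hv0
    rw [LinearMap.mem_ker] at hv0
    have h1 : hv 3 (v : Idx 2 3 → F) (pt x e₁) = 0 := by rw [← hP0, hv0]; rfl
    have h2 : hv 3 (v : Idx 2 3 → F) (pt x e₂) = 0 := by rw [← hP1, hv0]; rfl
    have h0 : hv 3 (v : Idx 2 3 → F) (pt x w) = 0 := hti _ v.2 _ hxw
    have hY : ctA (cj 3 x) (v : Idx 2 3 → F) = 0 := by
      rw [expand_B w e₁ e₂ C.hw C.h11 C.h22 C.h12 C.h21 C.hw1 C.h1w C.hw2 C.h2w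
        (ctA (cj 3 x) (v : Idx 2 3 → F)), ← hv_pt_right', ← hv_pt_right', ← hv_pt_right', h0, h1, h2]
      simp
    have hv' := expand_tensor x xs C.hx C.hxs C.hxxs C.hxsx (v : Idx 2 3 → F)
    rw [hY] at hv'
    have hz : pt xs (0 : Fin 3 → F) = 0 := by
      rw [pt_eq_zero_iff]; right; rfl
    rw [hz, zero_add] at hv'
    obtain ⟨c', hc'⟩ := hK (ctA (cj 3 xs) (v : Idx 2 3 → F)) (by rw [← hv']; exact v.2)
    rw [Submodule.mem_span_singleton]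
    refine ⟨c', Subtype.ext ?_⟩
    rw [Submodule.coe_smul]
    simp only
    rw [hv', hc', pt_smul_right]
  have h1 := LinearMap.finrank_range_add_finrank_ker Pm
  have h2 : Module.finrank F ↥(LinearMap.ker Pm) ≤ 1 := by
    refine (Submodule.finrank_mono hker).trans ?_
    refine (finrank_span_le_card _).trans ?_
    simp
  have h3 : Module.finrank F ↥(LinearMap.range Pm) ≤ 2 := by
    have := Submodule.finrank_le (LinearMap.range Pm)
    rwa [Module.finrank_fin_fun] at this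
  have h4 : LinearMap.range Pm = ⊤ := by
    apply Submodule.eq_top_of_finrank_eq
    rw [Module.finrank_fin_fun]
    omega
  have hsurj : Function.Surjective Pm := LinearMap.range_eq_top.1 h4
  obtain ⟨u₁, hu₁⟩ := hsurj ![1, 0]
  obtain ⟨u₂, hu₂⟩ := hsurj ![0, 1]
  obtain ⟨p, b, hpb⟩ := coord_of hF C R2 hti hxw (u₁ : Idx 2 3 → F) u₁.2 1 0
    (by rw [← hP0, hu₁]; rfl) (by rw [← hP1, hu₁]; rfl)
  obtain ⟨a, r, har⟩ := coord_of hF C R2 hti hxw (u₂ : Idx 2 3 → F) u₂.2 0 1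
    (by rw [← hP0, hu₂]; rfl) (by rw [← hP1, hu₂]; rfl)
  refine ⟨p, a, b, r, ?_, ?_⟩
  · simpa using hpb
  · simpa using har


/-- `φ` is skew-adjoint -/
lemma coords_rel (hF : Fintype.card F = 3 ^ 2) (C : Cfg x xs w e₁ e₂) (R2 : Submodule F (Idx 2 3 → F))
    (hti : ∀ u ∈ R2, ∀ v ∈ R2, hv 3 u v = 0) {p a b r : F}
    (h1 : pt xs e₁ + p • pt x e₁ + b • pt x e₂ ∈ R2) (h2 : pt xs e₂ + a • pt x e₁ + r • pt x e₂ ∈ R2) :
    p ^ 3 = -p ∧ r ^ 3 = -r ∧ b = -a ^ 3 := by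
  have e1 := hti _ h1 _ h1
  have e2 := hti _ h2 _ h2
  have e3 := hti _ h1 _ h2
  simp only [hv_add_left, hv_add_right hF, hv_smul_left, hv_smul_right, hv_pt, C.hx, C.hxs, C.hxxs,
    C.hxsx, C.h11, C.h22, C.h12, C.h21] at e1 e2 e3
  refine ⟨?_, ?_, ?_⟩
  · linear_combination e1
  · linear_combination e2
  · linear_combination e3

/-- the action of `α ⊗ β` on `x ⊗ P + xs ⊗ P` -/
lemma act (α : GL (Fin 2) F) (β : GL (Fin 3) F) (c m₁₁ m₂₁ m₁₂ m₂₂ : F)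
    (hαx : mv α x = x) (hαxs : mv α xs = xs + c • x)
    (hβ1 : mv β e₁ = m₁₁ • e₁ + m₂₁ • e₂) (hβ2 : mv β e₂ = m₁₂ • e₁ + m₂₂ • e₂) (σ₁ σ₂ t₁ t₂ : F) :
    mv (kel α β) (σ₁ • pt xs e₁ + σ₂ • pt xs e₂ + t₁ • pt x e₁ + t₂ • pt x e₂) =
      (σ₁ * m₁₁ + σ₂ * m₁₂) • pt xs e₁ + (σ₁ * m₂₁ + σ₂ * m₂₂) • pt xs e₂ +
        (c * (σ₁ * m₁₁ + σ₂ * m₁₂) + t₁ * m₁₁ + t₂ * m₁₂) • pt x e₁ +
        (c * (σ₁ * m₂₁ + σ₂ * m₂₂) + t₁ * m₂₁ + t₂ * m₂₂) • pt x e₂ := by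
  have hpt : ∀ (a' : Fin 2 → F) (z : Fin 3 → F), mv (kel α β) (pt a' z) = pt (mv α a') (mv β z) :=
    fun a' z => kel_mulVec_pt α β a' z
  simp only [mv_add, mv_smul, hpt, hαx, hαxs, hβ1, hβ2, pt_add_left, pt_add_right, pt_smul_left,
    pt_smul_right, smul_add, smul_smul]
  module

/-- the common final step -/
lemma finish (hF : Fintype.card F = 3 ^ 2) (C : Cfg x xs w e₁ e₂) (hx0 : x ≠ 0)
    (R2 : Submodule F (Idx 2 3 → F)) (hxw : pt x w ∈ R2)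
    (hK : ∀ y : Fin 3 → F, pt x y ∈ R2 → ∃ c : F, y = c • w) {p a b r : F}
    (h1 : pt xs e₁ + p • pt x e₁ + b • pt x e₂ ∈ R2) (h2 : pt xs e₂ + a • pt x e₁ + r • pt x e₂ ∈ R2)
    (h : GL (Idx 2 3) F) (hh : h ∈ KG 2 3 F ⊓ GS 2 3 3 F) (μ : F) (hμ : mv h (pt x w) = μ • pt x w)
    (s₁ s₂ t₁ t₂ : F) (hs₂ : s₂ ≠ 0)
    (hin : mv h (s₁ • (pt xs e₁ + p • pt x e₁ + b • pt x e₂) + s₂ • (pt xs e₂ + a • pt x e₁ + r • pt x e₂)) =
      t₁ • (pt xs e₁ + p • pt x e₁ + b • pt x e₂) + t₂ • (pt xs e₂ + a • pt x e₁ + r • pt x e₂))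
    (t₁' t₂' ρ₁ ρ₂ : F) (hρ : ρ₁ ≠ 0 ∨ ρ₂ ≠ 0)
    (hout : mv h (pt xs e₁ + p • pt x e₁ + b • pt x e₂) =
      t₁' • (pt xs e₁ + p • pt x e₁ + b • pt x e₂) + t₂' • (pt xs e₂ + a • pt x e₁ + r • pt x e₂) +
        (ρ₁ • pt x e₁ + ρ₂ • pt x e₂)) :
    ∃ h ∈ KG 2 3 F ⊓ GS 2 3 3 F, ∃ v₁ v₂ v₃ : Idx 2 3 → F, v₁ ∈ R2 ∧ v₂ ∈ R2 ∧ v₃ ∈ R2 ∧
      LinearIndependent F ![v₁, v₂] ∧ mv h v₁ ∈ R2 ∧ mv h v₂ ∈ R2 ∧ mv h v₃ ∉ R2 := by
  refine ⟨h, hh, pt x w,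
    s₁ • (pt xs e₁ + p • pt x e₁ + b • pt x e₂) + s₂ • (pt xs e₂ + a • pt x e₁ + r • pt x e₂),
    pt xs e₁ + p • pt x e₁ + b • pt x e₂, hxw, R2.add_mem (R2.smul_mem _ h1) (R2.smul_mem _ h2), h1,
    ?_, ?_, ?_, ?_⟩
  · rw [LinearIndependent.pair_iff]
    intro s t hst
    have hw0 : w ≠ 0 := by
      intro h0
      apply C.hw
      rw [h0]
      simp [hv]
    have ht : t = 0 := by
      have e := congrArg (fun v => hv 3 v (pt x e₂)) hst
      simp only [hv_add_left, hv_smul_left, hv_pt, C.hx, C.hxsx, C.h12, C.h22, hv_zero_left, zero_mul,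
        mul_zero, mul_one, add_zero, zero_add] at e
      exact (mul_eq_zero.1 e).resolve_right hs₂
    rw [ht, zero_smul, add_zero] at hst
    refine ⟨?_, ht⟩
    rcases smul_eq_zero.1 hst with h0 | h0
    · exact h0
    · exfalso
      rcases (pt_eq_zero_iff x w).1 h0 with h0 | h0
      · exact hx0 h0
      · exact hw0 h0
  · rw [hμ]
    exact R2.smul_mem _ hxw
  · rw [hin]
    exact R2.add_mem (R2.smul_mem _ h1) (R2.smul_mem _ h2)
  · intro hmem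
    rw [hout] at hmem
    have h3 : ρ₁ • pt x e₁ + ρ₂ • pt x e₂ ∈ R2 := by
      have := R2.sub_mem hmem (R2.add_mem (R2.smul_mem t₁' h1) (R2.smul_mem t₂' h2))
      rwa [add_sub_cancel_left] at this
    obtain ⟨z1, z2⟩ := no_xP C R2 hK h3
    rcases hρ with hρ | hρ
    · exact hρ z1
    · exact hρ z2


/-- the element `t_y(c) ⊗ β` of `H` -/
lemma hmem (hF : Fintype.card F = 3 ^ 2) (y : Fin 2 → F) (hy : hv 3 y y = 0) (c : F) (hc : c ^ 3 = -c)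
    (β : GL (Fin 3) F) (hβ : ∀ u v, hv 3 (mv β u) (mv β v) = hv 3 u v)
    (hdet : (β : Matrix (Fin 3) (Fin 3) F).det ^ 2 = 1) :
    kel (pert y c (-c) (by rw [hy]; ring)) β ∈ KG 2 3 F ⊓ GS 2 3 3 F := by
  apply Cfsg.Agent.Lib.Helper23.UTNLeaf.kel_mem_GS hF
  · exact pert_unitary hF y c (-c) _ hc.symm
  · exact hβ
  · rw [pert_det, hy, mul_zero, add_zero, one_pow, one_mul, hdet]

lemma mv_alpha_self (y : Fin 2 → F) (hy : hv 3 y y = 0) (c : F) :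
    mv (pert y c (-c) (by rw [hy]; ring)) y = y := by
  rw [mv_pert, hy, mul_zero, zero_smul, add_zero]


/-- the scalar case `φ = p • 1`: `h = t_{x₂}(1) ⊗ 1`, `x₂ = xs + p x` -/
lemma case_scalar (hF : Fintype.card F = 3 ^ 2) (C : Cfg x xs w e₁ e₂) (hx0 : x ≠ 0)
    (R2 : Submodule F (Idx 2 3 → F)) (hti : ∀ u ∈ R2, ∀ v ∈ R2, hv 3 u v = 0) (hxw : pt x w ∈ R2)
    {p : F} (hp : p ^ 3 = -p)
    (h1 : pt xs e₁ + p • pt x e₁ + (0 : F) • pt x e₂ ∈ R2) (h2 : pt xs e₂ + (0 : F) • pt x e₁ + p • pt x e₂ ∈ R2) :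
    ∃ h ∈ KG 2 3 F ⊓ GS 2 3 3 F, ∃ v₁ v₂ v₃ : Idx 2 3 → F, v₁ ∈ R2 ∧ v₂ ∈ R2 ∧ v₃ ∈ R2 ∧
      LinearIndependent F ![v₁, v₂] ∧ mv h v₁ ∈ R2 ∧ mv h v₂ ∈ R2 ∧ mv h v₃ ∉ R2 := by
  have h3 := three_eq_zero hF
  -- the isotropic vector `x₂`
  have hx₂ : hv 3 (xs + p • x) (xs + p • x) = 0 := by
    rw [hv_add_left, hv_add_right hF, hv_add_right hF, hv_smul_left, hv_smul_left, hv_smul_right,
      hv_smul_right, C.hx, C.hxs, C.hxxs, C.hxsx]
    linear_combination hp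
  have hV1 : pt xs e₁ + p • pt x e₁ + (0 : F) • pt x e₂ = pt (xs + p • x) e₁ := by
    rw [pt_add_left, pt_smul_left]; module
  have hV2 : pt xs e₂ + (0 : F) • pt x e₁ + p • pt x e₂ = pt (xs + p • x) e₂ := by
    rw [pt_add_left, pt_smul_left]; module
  rw [hV1] at h1
  rw [hV2] at h2
  have hone : ∀ u v : Fin 3 → F, hv 3 (mv (1 : GL (Fin 3) F) u) (mv (1 : GL (Fin 3) F) v) = hv 3 u v := by
    intro u v; rw [mv_one, mv_one]
  -- `c = ι` is skew and non-zero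
  obtain ⟨i, hi⟩ := exists_iota hF
  have hi3 : i ^ 3 = -i := by linear_combination i * hi
  have hi0 : i ≠ 0 := by
    intro h0; rw [h0] at hi; norm_num at hi
  refine ⟨kel (pert (xs + p • x) i (-i) (by rw [hx₂]; ring)) 1,
    hmem hF _ hx₂ i hi3 1 hone (by simp), pt (xs + p • x) e₁, pt (xs + p • x) e₂, pt x w, h1, h2, hxw,
    ?_, ?_, ?_, ?_⟩
  · rw [LinearIndependent.pair_iff]
    intro s t hst
    have e1 := congrArg (fun v => hv 3 v (pt x e₁)) hst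
    have e2 := congrArg (fun v => hv 3 v (pt x e₂)) hst
    simp only [hv_add_left, hv_smul_left, hv_pt, C.hx, C.hxsx, C.h11, C.h12, C.h21, C.h22, hv_zero_left,
      mul_zero, mul_one, add_zero, zero_add] at e1 e2
    exact ⟨e1, e2⟩
  · have : mv (kel (pert (xs + p • x) i (-i) (by rw [hx₂]; ring)) (1 : GL (Fin 3) F)) (pt (xs + p • x) e₁) =
        pt (xs + p • x) e₁ := by
      have := kel_mulVec_pt (pert (xs + p • x) i (-i) (by rw [hx₂]; ring)) (1 : GL (Fin 3) F) (xs + p • x) e₁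
      unfold mv
      rw [this]
      have h5 := mv_alpha_self (xs + p • x) hx₂ i
      unfold mv at h5
      rw [h5]
      simp
    rw [this]; exact h1
  · have : mv (kel (pert (xs + p • x) i (-i) (by rw [hx₂]; ring)) (1 : GL (Fin 3) F)) (pt (xs + p • x) e₂) =
        pt (xs + p • x) e₂ := by
      have := kel_mulVec_pt (pert (xs + p • x) i (-i) (by rw [hx₂]; ring)) (1 : GL (Fin 3) F) (xs + p • x) e₂
      unfold mv
      rw [this]
      have h5 := mv_alpha_self (xs + p • x) hx₂ i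
      unfold mv at h5
      rw [h5]
      simp
    rw [this]; exact h2
  · intro hmem'
    have e : mv (kel (pert (xs + p • x) i (-i) (by rw [hx₂]; ring)) (1 : GL (Fin 3) F)) (pt x w) =
        pt x w + i • pt (xs + p • x) w := by
      have := kel_mulVec_pt (pert (xs + p • x) i (-i) (by rw [hx₂]; ring)) (1 : GL (Fin 3) F) x w
      unfold mv
      rw [this]
      have h5 := mv_pert (xs + p • x) i (-i) (by rw [hx₂]; ring) x
      unfold mv at h5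
      rw [h5, hv_add_right hF, hv_smul_right, C.hx, C.hxxs, mul_zero, add_zero, mul_one, pt_add_left,
        pt_smul_left]
      simp
    rw [e] at hmem'
    have h6 : i • pt (xs + p • x) w ∈ R2 := by
      have := R2.sub_mem hmem' hxw
      rwa [add_sub_cancel_left] at this
    have h7 : pt (xs + p • x) w ∈ R2 := by
      have := R2.smul_mem i⁻¹ h6
      rwa [smul_smul, inv_mul_cancel₀ hi0, one_smul] at this
    have h8 := hti _ h7 _ hxw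
    rw [hv_pt, hv_add_left, hv_smul_left, C.hx, C.hxsx, mul_zero, add_zero, one_mul] at h8
    exact C.hw h8


/-- case `a = 0`, `p ≠ r`: `β₀ = swap(e₁, e₂)`, `c = p - r` -/
lemma case_swap (hF : Fintype.card F = 3 ^ 2) (C : Cfg x xs w e₁ e₂) (hx0 : x ≠ 0)
    (R2 : Submodule F (Idx 2 3 → F)) (hxw : pt x w ∈ R2)
    (hK : ∀ y : Fin 3 → F, pt x y ∈ R2 → ∃ c : F, y = c • w) {p r : F} (hp : p ^ 3 = -p) (hr : r ^ 3 = -r)
    (hpr : p ≠ r)
    (h1 : pt xs e₁ + p • pt x e₁ + (0 : F) • pt x e₂ ∈ R2) (h2 : pt xs e₂ + (0 : F) • pt x e₁ + r • pt x e₂ ∈ R2) :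
    ∃ h ∈ KG 2 3 F ⊓ GS 2 3 3 F, ∃ v₁ v₂ v₃ : Idx 2 3 → F, v₁ ∈ R2 ∧ v₂ ∈ R2 ∧ v₃ ∈ R2 ∧
      LinearIndependent F ![v₁, v₂] ∧ mv h v₁ ∈ R2 ∧ mv h v₂ ∈ R2 ∧ mv h v₃ ∉ R2 := by
  have h3 := three_eq_zero hF
  have hc : (p - r) ^ 3 = -(p - r) := by
    have := cube_add hF p (-r)
    rw [← sub_eq_add_neg] at this
    rw [this]
    linear_combination hp - hr
  have hd : hv 3 (e₁ - e₂) (e₁ - e₂) = 2 := by
    rw [hv_sub_left, hv_sub_right hF, hv_sub_right hF, C.h11, C.h12, C.h21, C.h22]; ring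
  have hβc : (-1 : F) + -1 + -1 * -1 * hv 3 (e₁ - e₂) (e₁ - e₂) = 0 := by rw [hd]; ring
  obtain ⟨β, hβdef⟩ : ∃ β : GL (Fin 3) F, β = pert (e₁ - e₂) (-1) (-1) hβc := ⟨_, rfl⟩
  have hβu : ∀ u v, hv 3 (mv β u) (mv β v) = hv 3 u v := by
    rw [hβdef]; exact pert_unitary hF _ _ _ _ (by norm_num)
  have hβdet : (β : Matrix (Fin 3) (Fin 3) F).det ^ 2 = 1 := by
    rw [hβdef, pert_det, hd]; ring
  have hβ1 : mv β e₁ = (0 : F) • e₁ + (1 : F) • e₂ := by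
    rw [hβdef, mv_pert, hv_sub_right hF, C.h11, C.h12]; module
  have hβ2 : mv β e₂ = (1 : F) • e₁ + (0 : F) • e₂ := by
    rw [hβdef, mv_pert, hv_sub_right hF, C.h21, C.h22]; module
  have hβw : mv β w = w := by
    rw [hβdef, mv_pert, hv_sub_right hF, C.hw1, C.hw2]; module
  obtain ⟨α, hαdef⟩ : ∃ α : GL (Fin 2) F, α = pert x (p - r) (-(p - r)) (by rw [C.hx]; ring) := ⟨_, rfl⟩
  have hαx : mv α x = x := by rw [hαdef]; exact mv_alpha_self x C.hx _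
  have hαxs : mv α xs = xs + (p - r) • x := by rw [hαdef, mv_pert, C.hxsx, mul_one]
  have hh : kel α β ∈ KG 2 3 F ⊓ GS 2 3 3 F := by
    rw [hαdef]; exact hmem hF x C.hx _ hc β hβu hβdet
  have hμ : mv (kel α β) (pt x w) = (1 : F) • pt x w := by
    have := kel_mulVec_pt α β x w
    unfold mv at hαx hβw ⊢
    rw [this, hαx, hβw, one_smul]
  refine finish hF C hx0 R2 hxw hK h1 h2 (kel α β) hh 1 hμ 0 1 1 0 one_ne_zero ?_ 0 1 0 (2 * (p - r)) ?_ ?_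
  · have e : (0 : F) • (pt xs e₁ + p • pt x e₁ + (0 : F) • pt x e₂) +
        (1 : F) • (pt xs e₂ + (0 : F) • pt x e₁ + r • pt x e₂) =
        (0 : F) • pt xs e₁ + (1 : F) • pt xs e₂ + (0 : F) • pt x e₁ + r • pt x e₂ := by module
    rw [e, act α β (p - r) 0 1 1 0 hαx hαxs hβ1 hβ2]
    module
  · right
    intro h0
    apply hpr
    have h2' : (2 : F) ≠ 0 := by
      intro h2
      have : (1 : F) = 0 := by linear_combination h3 - h2
      exact one_ne_zero this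
    have := (mul_eq_zero.1 h0).resolve_left h2'
    exact sub_eq_zero.1 this
  · have e : pt xs e₁ + p • pt x e₁ + (0 : F) • pt x e₂ =
        (1 : F) • pt xs e₁ + (0 : F) • pt xs e₂ + p • pt x e₁ + (0 : F) • pt x e₂ := by module
    conv_lhs => rw [e, act α β (p - r) 0 1 1 0 hαx hαxs hβ1 hβ2]
    module


/-- case `a ^ 4 = 1`: `β₀ = diag(1, -1)`, `c = ι` -/
lemma case_neg (hF : Fintype.card F = 3 ^ 2) (C : Cfg x xs w e₁ e₂) (hx0 : x ≠ 0)
    (R2 : Submodule F (Idx 2 3 → F)) (hxw : pt x w ∈ R2)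
    (hK : ∀ y : Fin 3 → F, pt x y ∈ R2 → ∃ c : F, y = c • w) {p a r : F} (ha : a ^ 4 = 1)
    (h1 : pt xs e₁ + p • pt x e₁ + (-a ^ 3) • pt x e₂ ∈ R2) (h2 : pt xs e₂ + a • pt x e₁ + r • pt x e₂ ∈ R2) :
    ∃ h ∈ KG 2 3 F ⊓ GS 2 3 3 F, ∃ v₁ v₂ v₃ : Idx 2 3 → F, v₁ ∈ R2 ∧ v₂ ∈ R2 ∧ v₃ ∈ R2 ∧
      LinearIndependent F ![v₁, v₂] ∧ mv h v₁ ∈ R2 ∧ mv h v₂ ∈ R2 ∧ mv h v₃ ∉ R2 := by
  have h3 := three_eq_zero hF
  obtain ⟨i, hi⟩ := exists_iota hF
  have hi3 : i ^ 3 = -i := by linear_combination i * hi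
  have hi0 : i ≠ 0 := by
    intro h0; rw [h0] at hi; norm_num at hi
  have hβc : (1 : F) + 1 + 1 * 1 * hv 3 e₂ e₂ = 0 := by rw [C.h22]; linear_combination h3
  obtain ⟨β, hβdef⟩ : ∃ β : GL (Fin 3) F, β = pert e₂ 1 1 hβc := ⟨_, rfl⟩
  have hβu : ∀ u v, hv 3 (mv β u) (mv β v) = hv 3 u v := by
    rw [hβdef]; exact pert_unitary hF _ _ _ _ (by norm_num)
  have hβdet : (β : Matrix (Fin 3) (Fin 3) F).det ^ 2 = 1 := by
    rw [hβdef, pert_det, C.h22]; linear_combination h3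
  have hβ1 : mv β e₁ = (1 : F) • e₁ + (0 : F) • e₂ := by
    rw [hβdef, mv_pert, C.h12]; module
  have hβ2 : mv β e₂ = (0 : F) • e₁ + (2 : F) • e₂ := by
    rw [hβdef, mv_pert, C.h22]; module
  have hβw : mv β w = w := by
    rw [hβdef, mv_pert, C.hw2]; module
  obtain ⟨α, hαdef⟩ : ∃ α : GL (Fin 2) F, α = pert x i (-i) (by rw [C.hx]; ring) := ⟨_, rfl⟩
  have hαx : mv α x = x := by rw [hαdef]; exact mv_alpha_self x C.hx _
  have hαxs : mv α xs = xs + i • x := by rw [hαdef, mv_pert, C.hxsx, mul_one]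
  have hh : kel α β ∈ KG 2 3 F ⊓ GS 2 3 3 F := by
    rw [hαdef]; exact hmem hF x C.hx _ hi3 β hβu hβdet
  have hμ : mv (kel α β) (pt x w) = (1 : F) • pt x w := by
    have := kel_mulVec_pt α β x w
    unfold mv at hαx hβw ⊢
    rw [this, hαx, hβw, one_smul]
  refine finish hF C hx0 R2 hxw hK h1 h2 (kel α β) hh 1 hμ a i a (-i) hi0 ?_ 1 0 i (-a ^ 3) (Or.inl hi0) ?_
  · have e : a • (pt xs e₁ + p • pt x e₁ + (-a ^ 3) • pt x e₂) +
        i • (pt xs e₂ + a • pt x e₁ + r • pt x e₂) =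
        a • pt xs e₁ + i • pt xs e₂ + (a * p + i * a) • pt x e₁ + (a * (-a ^ 3) + i * r) • pt x e₂ := by
      module
    rw [e, act α β i 1 0 0 2 hαx hαxs hβ1 hβ2]
    match_scalars
    · ring
    · linear_combination i * h3
    · linear_combination (i * a) * h3
    · linear_combination 2 * hi + (i * r) * h3 - ha - h3
  · have e : pt xs e₁ + p • pt x e₁ + (-a ^ 3) • pt x e₂ =
        (1 : F) • pt xs e₁ + (0 : F) • pt xs e₂ + p • pt x e₁ + (-a ^ 3) • pt x e₂ := by module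
    conv_lhs => rw [e, act α β i 1 0 0 2 hαx hαxs hβ1 hβ2]
    match_scalars
    · ring
    · ring
    · ring
    · ring


/-- case `a ^ 4 = -1`: `β₀ = diag(ι, 1, ι)` on `(w, e₁, e₂)`, `c = ι` -/
lemma case_iota (hF : Fintype.card F = 3 ^ 2) (C : Cfg x xs w e₁ e₂) (hx0 : x ≠ 0)
    (R2 : Submodule F (Idx 2 3 → F)) (hxw : pt x w ∈ R2)
    (hK : ∀ y : Fin 3 → F, pt x y ∈ R2 → ∃ c : F, y = c • w) {p a r : F} (ha : a ^ 4 = -1)
    (h1 : pt xs e₁ + p • pt x e₁ + (-a ^ 3) • pt x e₂ ∈ R2) (h2 : pt xs e₂ + a • pt x e₁ + r • pt x e₂ ∈ R2) :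
    ∃ h ∈ KG 2 3 F ⊓ GS 2 3 3 F, ∃ v₁ v₂ v₃ : Idx 2 3 → F, v₁ ∈ R2 ∧ v₂ ∈ R2 ∧ v₃ ∈ R2 ∧
      LinearIndependent F ![v₁, v₂] ∧ mv h v₁ ∈ R2 ∧ mv h v₂ ∈ R2 ∧ mv h v₃ ∉ R2 := by
  have h3 := three_eq_zero hF
  obtain ⟨i, hi⟩ := exists_iota hF
  have hi3 : i ^ 3 = -i := by linear_combination i * hi
  have hi0 : i ≠ 0 := by
    intro h0; rw [h0] at hi; norm_num at hi
  have ht3 : (i - 1) ^ 3 = -i - 1 := by linear_combination (i - 3) * hi + (1 + i) * h3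
  obtain ⟨N, hNdef⟩ : ∃ N : F, N = hv 3 w w := ⟨_, rfl⟩
  have hN0 : N ≠ 0 := by rw [hNdef]; exact C.hw
  have hN3 : N ^ 3 = N := by rw [hNdef]; exact hv_self_pow hF w
  have hN2 : N ^ 2 = 1 := by
    have : N * (N ^ 2 - 1) = 0 := by linear_combination hN3
    have := (mul_eq_zero.1 this).resolve_left hN0
    linear_combination this
  have hsw3 : ((i - 1) * N) ^ 3 = (-i - 1) * N := by rw [mul_pow, ht3, hN3]
  have hwc : (i - 1) * N + ((i - 1) * N) ^ 3 + (i - 1) * N * ((i - 1) * N) ^ 3 * hv 3 w w = 0 := by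
    rw [hsw3, ← hNdef]
    linear_combination 2 * hN3 - N ^ 3 * hi
  have hec : (i - 1) + (i - 1) ^ 3 + (i - 1) * (i - 1) ^ 3 * hv 3 e₂ e₂ = 0 := by
    rw [ht3, C.h22]
    linear_combination (-1 : F) * hi
  obtain ⟨β, hβdef⟩ : ∃ β : GL (Fin 3) F,
      β = pert w ((i - 1) * N) (((i - 1) * N) ^ 3) hwc * pert e₂ (i - 1) ((i - 1) ^ 3) hec := ⟨_, rfl⟩
  have hβu : ∀ u v, hv 3 (mv β u) (mv β v) = hv 3 u v := by
    intro u v
    rw [hβdef, mv_mul, mv_mul, pert_unitary hF _ _ _ _ rfl, pert_unitary hF _ _ _ _ rfl]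
  have hβdet : (β : Matrix (Fin 3) (Fin 3) F).det ^ 2 = 1 := by
    rw [hβdef, Units.val_mul, Matrix.det_mul, pert_det, pert_det, C.h22, ← hNdef]
    have e1 : 1 + (i - 1) * N * N = i := by linear_combination (i - 1) * hN2
    have e2 : 1 + (i - 1) * 1 = i := by ring
    rw [e1, e2]
    linear_combination (i ^ 2 - 1) * hi
  have in1 : mv (pert e₂ (i - 1) ((i - 1) ^ 3) hec) e₁ = e₁ := by
    rw [mv_pert, C.h12, mul_zero, zero_smul, add_zero]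
  have in2 : mv (pert e₂ (i - 1) ((i - 1) ^ 3) hec) e₂ = i • e₂ := by
    rw [mv_pert, C.h22, mul_one]; module
  have inw : mv (pert e₂ (i - 1) ((i - 1) ^ 3) hec) w = w := by
    rw [mv_pert, C.hw2, mul_zero, zero_smul, add_zero]
  have hβ1 : mv β e₁ = (1 : F) • e₁ + (0 : F) • e₂ := by
    rw [hβdef, mv_mul, in1, mv_pert, C.h1w]; module
  have hβ2 : mv β e₂ = (0 : F) • e₁ + i • e₂ := by
    rw [hβdef, mv_mul, in2, mv_smul, mv_pert, C.h2w]; module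
  have hβw : mv β w = i • w := by
    rw [hβdef, mv_mul, inw, mv_pert, ← hNdef]
    have : (i - 1) * N * N = i - 1 := by linear_combination (i - 1) * hN2
    rw [this]; module
  obtain ⟨α, hαdef⟩ : ∃ α : GL (Fin 2) F, α = pert x i (-i) (by rw [C.hx]; ring) := ⟨_, rfl⟩
  have hαx : mv α x = x := by rw [hαdef]; exact mv_alpha_self x C.hx _
  have hαxs : mv α xs = xs + i • x := by rw [hαdef, mv_pert, C.hxsx, mul_one]
  have hh : kel α β ∈ KG 2 3 F ⊓ GS 2 3 3 F := by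
    rw [hαdef]; exact hmem hF x C.hx _ hi3 β hβu hβdet
  have hμ : mv (kel α β) (pt x w) = i • pt x w := by
    have := kel_mulVec_pt α β x w
    unfold mv at hαx hβw ⊢
    rw [this, hαx, hβw, pt_smul_right]
  refine finish hF C hx0 R2 hxw hK h1 h2 (kel α β) hh i hμ ((1 + i) * a) 1 ((1 + i) * a) i one_ne_zero ?_
    1 0 i ((i - 1) * (-a ^ 3)) (Or.inl hi0) ?_
  · have e : ((1 + i) * a) • (pt xs e₁ + p • pt x e₁ + (-a ^ 3) • pt x e₂) +
        (1 : F) • (pt xs e₂ + a • pt x e₁ + r • pt x e₂) =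
        ((1 + i) * a) • pt xs e₁ + (1 : F) • pt xs e₂ + ((1 + i) * a * p + a) • pt x e₁ +
          ((1 + i) * a * (-a ^ 3) + r) • pt x e₂ := by
      module
    rw [e, act α β i 1 0 0 i hαx hαxs hβ1 hβ2]
    match_scalars
    · ring
    · ring
    · linear_combination a * hi
    · linear_combination 2 * hi - h3 + (1 - i ^ 2) * ha
  · have e : pt xs e₁ + p • pt x e₁ + (-a ^ 3) • pt x e₂ =
        (1 : F) • pt xs e₁ + (0 : F) • pt xs e₂ + p • pt x e₁ + (-a ^ 3) • pt x e₂ := by module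
    conv_lhs => rw [e, act α β i 1 0 0 i hαx hαxs hβ1 hβ2]
    match_scalars
    · ring
    · ring
    · ring
    · ring


/-- **Q4** (Step C of the `q = 3` route for `GU_2 ⊗ GU_3 < SU_6(3)`): a totally isotropic 3-space `R2` meeting the
fibre `x ⊗ B` exactly in a nonsingular point `x ⊗ w` is moved by some `h ∈ H = KG ∩ GS` so that `R2 ∩ h⁻¹ R2` has
dimension exactly two (`v₁, v₂` independent in it, `v₃ ∈ R2` not in it). -/
theorem exists_h_meet_two (hF : Fintype.card F = 3 ^ 2) (x : Fin 2 → F) (hx0 : x ≠ 0) (hx : hv 3 x x = 0)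
    (w : Fin 3 → F) (hw : hv 3 w w ≠ 0) (R2 : Submodule F (Idx 2 3 → F))
    (hti : ∀ u ∈ R2, ∀ v ∈ R2, hv 3 u v = 0) (hdim : Module.finrank F R2 = 3) (hxw : pt x w ∈ R2)
    (hK : ∀ y : Fin 3 → F, pt x y ∈ R2 → ∃ c : F, y = c • w) :
    ∃ h ∈ KG 2 3 F ⊓ GS 2 3 3 F, ∃ v₁ v₂ v₃ : Idx 2 3 → F, v₁ ∈ R2 ∧ v₂ ∈ R2 ∧ v₃ ∈ R2 ∧
      LinearIndependent F ![v₁, v₂] ∧ mv h v₁ ∈ R2 ∧ mv h v₂ ∈ R2 ∧ mv h v₃ ∉ R2 := by
  obtain ⟨xs, hxs, hxsx, hxxs⟩ := Cfsg.Agent.Lib.Helper23.UTNLeaf.exists_partner hF hx0 hx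
  obtain ⟨e₁, e₂, h11, h22, h12, h21, hw1, h1w, hw2, h2w⟩ := exists_frame hF w hw
  have C : Cfg x xs w e₁ e₂ := ⟨hx, hxs, hxxs, hxsx, hw, h11, h22, h12, h21, hw1, h1w, hw2, h2w⟩
  obtain ⟨p, a, b, r, h1, h2⟩ := exists_coords hF C R2 hti hdim hxw hK
  obtain ⟨hp, hr, hb⟩ := coords_rel hF C R2 hti h1 h2
  subst hb
  by_cases ha : a = 0
  · subst ha
    have e0 : (-(0 : F) ^ 3) = 0 := by ring
    rw [e0] at h1
    by_cases hpr : p = r
    · subst hpr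
      exact case_scalar hF C hx0 R2 hti hxw hp h1 h2
    · exact case_swap hF C hx0 R2 hxw hK hp hr hpr h1 h2
  · rcases pow_four_cases hF ha with h4 | h4
    · exact case_neg hF C hx0 R2 hxw hK h4 h1 h2
    · exact case_iota hF C hx0 R2 hxw hK h4 h1 h2

end Cfsg.Agent.Lib.Helper28.U23Q4
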