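import Mathlib
import Cfsg.Agent.Lib.Helper29.SpPrfDefs
import Cfsg.Agent.Lib.Helper17.SpAschZ

/-!
S5662 block [TNS] (sub-planner helper20): the abstract exits X1 `exit_field`, X2 `exit_eigen` for a skew-adjoint square root `T`
(`T * T = δ • 1`, `bfm J (T u) v = - bfm J u (T v)`, every `g ∈ H` commutes or anticommutes with `T`), exact signatures of
`notes/S5662_TNS_leaves.lean`.
-/

set_option autoImplicit false
set_option linter.unusedSectionVars false
set_option linter.unusedVariables false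

namespace Cfsg.Agent.Lib.Helper28.SpTnsLeaf
open Matrix Cfsg Cfsg.Geo Cfsg.Agent.Lib.Helper20.Asch Cfsg.Agent.Lib.Helper29.SpAsch

variable {F : Type*} [Field F] [Fintype F] {n m : ℕ} {J : Matrix (Fin n) (Fin n) F}
  {H : Subgroup (GL (Fin n) F)}

/-! ### relations `g T = ε T g` -/

section rel
variable {T : Matrix (Fin n) (Fin n) F}

lemma rel_swap {g : GL (Fin n) F} {ε : F} (hε : ε * ε = 1)
    (hg : (g : Matrix (Fin n) (Fin n) F) * T = ε • (T * (g : Matrix (Fin n) (Fin n) F))) :
    T * (g : Matrix (Fin n) (Fin n) F) = ε • ((g : Matrix (Fin n) (Fin n) F) * T) := by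
  rw [hg, smul_smul, hε, one_smul]

lemma rel_inv {g : GL (Fin n) F} {ε : F} (hε : ε * ε = 1)
    (hg : (g : Matrix (Fin n) (Fin n) F) * T = ε • (T * (g : Matrix (Fin n) (Fin n) F))) :
    ((g⁻¹ : GL (Fin n) F) : Matrix (Fin n) (Fin n) F) * T =
      ε • (T * ((g⁻¹ : GL (Fin n) F) : Matrix (Fin n) (Fin n) F)) := by
  have h1 : ((g⁻¹ : GL (Fin n) F) : Matrix (Fin n) (Fin n) F) * (g : Matrix (Fin n) (Fin n) F) = 1 := by
    rw [← Units.val_mul, inv_mul_cancel, Units.val_one]
  have h2 : (g : Matrix (Fin n) (Fin n) F) * ((g⁻¹ : GL (Fin n) F) : Matrix (Fin n) (Fin n) F) = 1 := by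
    rw [← Units.val_mul, mul_inv_cancel, Units.val_one]
  calc ((g⁻¹ : GL (Fin n) F) : Matrix (Fin n) (Fin n) F) * T
      = ((g⁻¹ : GL (Fin n) F) : Matrix (Fin n) (Fin n) F) * (T * (g : Matrix (Fin n) (Fin n) F)) *
          ((g⁻¹ : GL (Fin n) F) : Matrix (Fin n) (Fin n) F) := by
        rw [mul_assoc, mul_assoc, h2, mul_one]
    _ = ε • (T * ((g⁻¹ : GL (Fin n) F) : Matrix (Fin n) (Fin n) F)) := by
        rw [rel_swap hε hg, Matrix.mul_smul, Matrix.smul_mul, ← mul_assoc, h1, one_mul]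

lemma rel_conj {g : GL (Fin n) F} {ε : F} (hε : ε * ε = 1)
    (hg : (g : Matrix (Fin n) (Fin n) F) * T = ε • (T * (g : Matrix (Fin n) (Fin n) F))) :
    (g : Matrix (Fin n) (Fin n) F) * T * ((g⁻¹ : GL (Fin n) F) : Matrix (Fin n) (Fin n) F) = ε • T := by
  have h2 : (g : Matrix (Fin n) (Fin n) F) * ((g⁻¹ : GL (Fin n) F) : Matrix (Fin n) (Fin n) F) = 1 := by
    rw [← Units.val_mul, mul_inv_cancel, Units.val_one]
  rw [hg, Matrix.smul_mul, mul_assoc, h2, mul_one]

/-- the two cases of `hnorm` as a relation with a sign -/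
lemma rel_of_or {g : GL (Fin n) F}
    (h : (g : Matrix (Fin n) (Fin n) F) * T = T * (g : Matrix (Fin n) (Fin n) F) ∨
      (g : Matrix (Fin n) (Fin n) F) * T = - (T * (g : Matrix (Fin n) (Fin n) F))) :
    ∃ ε : F, ε * ε = 1 ∧ (g : Matrix (Fin n) (Fin n) F) * T = ε • (T * (g : Matrix (Fin n) (Fin n) F)) := by
  rcases h with h | h
  · exact ⟨1, one_mul 1, by rw [one_smul]; exact h⟩
  · exact ⟨-1, by ring, by rw [neg_one_smul]; exact h⟩

end rel

/-! ### eigenspaces -/

/-- the eigenspace `ker (T - c)` -/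
def eigS (T : Matrix (Fin n) (Fin n) F) (c : F) : Submodule F (Fin n → F) :=
  LinearMap.ker (Matrix.toLin' (T - c • (1 : Matrix (Fin n) (Fin n) F)))

lemma mem_eigS (T : Matrix (Fin n) (Fin n) F) (c : F) (v : Fin n → F) :
    v ∈ eigS T c ↔ T *ᵥ v = c • v := by
  unfold eigS
  rw [LinearMap.mem_ker, Matrix.toLin'_apply, Matrix.sub_mulVec, Matrix.smul_mulVec, Matrix.one_mulVec,
    sub_eq_zero]

lemma mulVec_mem_eigS {T : Matrix (Fin n) (Fin n) F} {g : GL (Fin n) F} {ε : F} (hε : ε * ε = 1)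
    (hg : (g : Matrix (Fin n) (Fin n) F) * T = ε • (T * (g : Matrix (Fin n) (Fin n) F))) (c : F)
    {v : Fin n → F} (hv : v ∈ eigS T c) : (g : Matrix (Fin n) (Fin n) F) *ᵥ v ∈ eigS T (ε * c) := by
  rw [mem_eigS] at hv ⊢
  rw [Matrix.mulVec_mulVec, rel_swap hε hg, Matrix.smul_mulVec, ← Matrix.mulVec_mulVec, hv, Matrix.mulVec_smul,
    smul_smul]

lemma map_eigS {T : Matrix (Fin n) (Fin n) F} {g : GL (Fin n) F} {ε : F} (hε : ε * ε = 1)
    (hg : (g : Matrix (Fin n) (Fin n) F) * T = ε • (T * (g : Matrix (Fin n) (Fin n) F))) (c : F) :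
    (eigS T c).map (Matrix.toLin' (g : Matrix (Fin n) (Fin n) F)) = eigS T (ε * c) := by
  apply le_antisymm
  · rintro _ ⟨v, hv, rfl⟩
    rw [Matrix.toLin'_apply]
    exact mulVec_mem_eigS hε hg c hv
  · intro w hw
    refine ⟨((g⁻¹ : GL (Fin n) F) : Matrix (Fin n) (Fin n) F) *ᵥ w, ?_, ?_⟩
    · have := mulVec_mem_eigS hε (rel_inv hε hg) (ε * c) hw
      rwa [← mul_assoc, hε, one_mul] at this
    · rw [Matrix.toLin'_apply, Matrix.mulVec_mulVec, ← Units.val_mul, mul_inv_cancel, Units.val_one,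
        Matrix.one_mulVec]

/-! ### X2 -/

lemma pos_of_ctx (h : SpCtx J m H) : 0 < n := by
  have := h.dim
  have := h.two_le
  omega

/-- a skew-adjoint operator is not a non-zero scalar -/
lemma false_of_scalar (h : SpCtx J m H) (hodd : Odd (Fintype.card F)) (T : Matrix (Fin n) (Fin n) F)
    (hadj : ∀ u v, bfm J (T *ᵥ u) v = - bfm J u (T *ᵥ v)) (c : F) (hc : c ≠ 0)
    (hT : ∀ v, T *ᵥ v = c • v) : False := by
  have h2 : (2 : F) ≠ 0 := Cfsg.Agent.Lib.Helper17.SpAschLeaf.two_ne_zero_of_odd hodd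
  have hz : ∀ u v, bfm J u v = 0 := by
    intro u v
    have e := hadj u v
    rw [hT, hT, bfm_smul_left, bfm_smul_right] at e
    have : (2 * c) * bfm J u v = 0 := by linear_combination e
    exact (mul_eq_zero.1 this).resolve_left (mul_ne_zero h2 hc)
  let i0 : Fin n := ⟨0, pos_of_ctx h⟩
  have hne : (Pi.single i0 1 : Fin n → F) ≠ 0 := by
    intro h0
    have := congrFun h0 i0
    simp at this
  obtain ⟨⟨x, hx⟩, -⟩ := bfm_nondeg h.alt _ hne
  exact hx (hz _ _)

/-- (X2) -/
theorem exit_eigen (h : SpCtx J m H) (hirr : Irr H) (hodd : Odd (Fintype.card F))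
    (T : Matrix (Fin n) (Fin n) F) (γ : F) (hγ : γ ≠ 0) (hT2 : T * T = (γ * γ) • (1 : Matrix (Fin n) (Fin n) F))
    (hadj : ∀ u v, bfm J (T *ᵥ u) v = - bfm J u (T *ᵥ v))
    (hnorm : ∀ g ∈ H, (g : Matrix (Fin n) (Fin n) F) * T = T * (g : Matrix (Fin n) (Fin n) F) ∨
      (g : Matrix (Fin n) (Fin n) F) * T = - (T * (g : Matrix (Fin n) (Fin n) F))) : SGeo J m H := by
  have h2 : (2 : F) ≠ 0 := Cfsg.Agent.Lib.Helper17.SpAschLeaf.two_ne_zero_of_odd hodd
  have h2γ : 2 * γ ≠ 0 := mul_ne_zero h2 hγ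
  have hTT : ∀ v : Fin n → F, T *ᵥ (T *ᵥ v) = (γ * γ) • v := by
    intro v
    rw [Matrix.mulVec_mulVec, hT2, Matrix.smul_mulVec, Matrix.one_mulVec]
  -- disjoint
  have hdisj : Disjoint (eigS T γ) (eigS T (-γ)) := by
    rw [Submodule.disjoint_def]
    intro v hp hm
    rw [mem_eigS] at hp hm
    have e : (2 * γ) • v = 0 := by
      have : (2 * γ) • v = γ • v - (-γ) • v := by
        rw [neg_smul, sub_neg_eq_add, two_mul, add_smul]
      rw [this, ← hp, ← hm, sub_self]
    exact (smul_eq_zero.1 e).resolve_left h2γ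
  -- sum
  have hsup : eigS T γ ⊔ eigS T (-γ) = ⊤ := by
    rw [eq_top_iff]
    intro v _
    have hp : T *ᵥ v + γ • v ∈ eigS T γ := by
      rw [mem_eigS, Matrix.mulVec_add, Matrix.mulVec_smul, hTT, smul_add, smul_smul, add_comm]
    have hm : T *ᵥ v - γ • v ∈ eigS T (-γ) := by
      rw [mem_eigS, Matrix.mulVec_sub, Matrix.mulVec_smul, hTT]
      module
    have hv : v = (2 * γ)⁻¹ • (T *ᵥ v + γ • v) - (2 * γ)⁻¹ • (T *ᵥ v - γ • v) := by
      rw [← smul_sub, add_sub_sub_cancel, ← two_smul F (γ • v), smul_smul, smul_smul, mul_assoc,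
        inv_mul_cancel₀ h2γ, one_smul]
    rw [hv]
    exact Submodule.sub_mem _ (Submodule.mem_sup_left (Submodule.smul_mem _ _ hp))
      (Submodule.mem_sup_right (Submodule.smul_mem _ _ hm))
  -- totally singular
  have hts : ∀ c : F, c ≠ 0 → IsTotallySingularFor (bfm J) (eigS T c) := by
    intro c hc u hu v hv
    rw [mem_eigS] at hu hv
    have e := hadj u v
    rw [hu, hv, bfm_smul_left, bfm_smul_right] at e
    have : (2 * c) * bfm J u v = 0 := by linear_combination e
    exact (mul_eq_zero.1 this).resolve_left (mul_ne_zero h2 hc)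
  by_cases hex : ∃ g ∈ H, (g : Matrix (Fin n) (Fin n) F) * T = - (T * (g : Matrix (Fin n) (Fin n) F))
  · -- a swapping element: C2b
    obtain ⟨g, hgH, hg⟩ := hex
    have hε : (-1 : F) * (-1) = 1 := by ring
    have hg' : (g : Matrix (Fin n) (Fin n) F) * T = (-1 : F) • (T * (g : Matrix (Fin n) (Fin n) F)) := by
      rw [neg_one_smul]; exact hg
    have hmap1 : (eigS T γ).map (Matrix.toLin' (g : Matrix (Fin n) (Fin n) F)) = eigS T (-γ) := by
      rw [map_eigS hε hg' γ, neg_one_mul]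
    have hmap2 : (eigS T (-γ)).map (Matrix.toLin' (g : Matrix (Fin n) (Fin n) F)) = eigS T γ := by
      rw [map_eigS hε hg' (-γ), neg_one_mul, neg_neg]
    have hle1 : Module.finrank F (eigS T (-γ)) ≤ Module.finrank F (eigS T γ) := by
      rw [← hmap1]
      exact Submodule.finrank_map_le _ _
    have hle2 : Module.finrank F (eigS T γ) ≤ Module.finrank F (eigS T (-γ)) := by
      rw [← hmap2]
      exact Submodule.finrank_map_le _ _
    have hsum := Submodule.finrank_sup_add_finrank_inf_eq (eigS T γ) (eigS T (-γ))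
    rw [hsup, hdisj.eq_bot, finrank_bot, finrank_top, Module.finrank_fintype_fun_eq_card, Fintype.card_fin,
      add_zero] at hsum
    have hdim := h.dim
    have hfr1 : Module.finrank F (eigS T γ) = m := by omega
    have hfr2 : Module.finrank F (eigS T (-γ)) = m := by omega
    let D : Fin 2 → Submodule F (Fin n → F) := ![eigS T γ, eigS T (-γ)]
    have hD0 : D 0 = eigS T γ := rfl
    have hD1 : D 1 = eigS T (-γ) := rfl
    have hD : IsMDecomposition m D := by
      refine ⟨le_refl 2, by have := h.two_le; omega, ?_, ?_, ?_⟩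
      · intro i
        fin_cases i
        · exact hfr1
        · exact hfr2
      · rw [iSupIndep_pair (i := (0 : Fin 2)) (j := 1) (by decide) (by intro k; fin_cases k <;> simp)]
        exact hdisj
      · rw [eq_top_iff, ← hsup]
        exact sup_le (le_iSup D 0) (le_iSup D 1)
    have htsD : ∀ i, IsTotallySingularFor (bfm J) (D i) := by
      intro i
      fin_cases i
      · exact hts γ hγ
      · exact hts (-γ) (neg_ne_zero.2 hγ)
    refine SGeo.of_C2b h.le D hodd hD htsD ?_
    intro g₁ hg₁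
    rcases hnorm g₁ hg₁ with hc | ha
    · refine ⟨1, ?_⟩
      have hc' : (g₁ : Matrix (Fin n) (Fin n) F) * T = (1 : F) • (T * (g₁ : Matrix (Fin n) (Fin n) F)) := by
        rw [one_smul]; exact hc
      intro i
      fin_cases i
      · show (eigS T γ).map _ = eigS T γ
        rw [map_eigS (one_mul 1) hc' γ, one_mul]
      · show (eigS T (-γ)).map _ = eigS T (-γ)
        rw [map_eigS (one_mul 1) hc' (-γ), one_mul]
    · refine ⟨Equiv.swap 0 1, ?_⟩
      have ha' : (g₁ : Matrix (Fin n) (Fin n) F) * T = (-1 : F) • (T * (g₁ : Matrix (Fin n) (Fin n) F)) := by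
        rw [neg_one_smul]; exact ha
      intro i
      fin_cases i
      · show (eigS T γ).map _ = D (Equiv.swap 0 1 0)
        rw [Equiv.swap_apply_left, hD1, map_eigS hε ha' γ, neg_one_mul]
      · show (eigS T (-γ)).map _ = D (Equiv.swap 0 1 1)
        rw [Equiv.swap_apply_right, hD0, map_eigS hε ha' (-γ), neg_one_mul, neg_neg]
  · -- every element commutes with `T`: contradiction with irreducibility
    exfalso
    push Not at hex
    have hinv : ∀ s ∈ matrixSet H, (eigS T γ).map (Matrix.toLin' s) ≤ eigS T γ := by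
      rintro _ ⟨g, hg, rfl⟩
      have hc : (g : Matrix (Fin n) (Fin n) F) * T = T * (g : Matrix (Fin n) (Fin n) F) := by
        rcases hnorm g hg with hc | ha
        · exact hc
        · exact absurd ha (hex g hg)
      have hc' : (g : Matrix (Fin n) (Fin n) F) * T = (1 : F) • (T * (g : Matrix (Fin n) (Fin n) F)) := by
        rw [one_smul]; exact hc
      show (eigS T γ).map (Matrix.toLin' (g : Matrix (Fin n) (Fin n) F)) ≤ eigS T γ
      rw [map_eigS (one_mul 1) hc' γ, one_mul]
    rcases hirr (eigS T γ) hinv with h0 | h1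
    · rw [h0, bot_sup_eq] at hsup
      apply false_of_scalar h hodd T hadj (-γ) (neg_ne_zero.2 hγ)
      intro v
      have : v ∈ eigS T (-γ) := by rw [hsup]; exact Submodule.mem_top
      exact (mem_eigS T (-γ) v).1 this
    · apply false_of_scalar h hodd T hadj γ hγ
      intro v
      have : v ∈ eigS T γ := by rw [h1]; exact Submodule.mem_top
      exact (mem_eigS T γ v).1 this

/-! ### X1 -/

/-- the subalgebra `F + F T` for `T * T = δ` -/
def quadAlg (T : Matrix (Fin n) (Fin n) F) (δ : F) (hT2 : T * T = δ • (1 : Matrix (Fin n) (Fin n) F)) :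
    Subalgebra F (Matrix (Fin n) (Fin n) F) where
  carrier := {x | ∃ a b : F, x = a • (1 : Matrix (Fin n) (Fin n) F) + b • T}
  mul_mem' := by
    rintro _ _ ⟨a, b, rfl⟩ ⟨c, d, rfl⟩
    refine ⟨a * c + b * d * δ, a * d + b * c, ?_⟩
    simp only [add_mul, mul_add, Matrix.smul_mul, Matrix.mul_smul, one_mul, mul_one, hT2, smul_smul]
    module
  add_mem' := by
    rintro _ _ ⟨a, b, rfl⟩ ⟨c, d, rfl⟩
    refine ⟨a + c, b + d, ?_⟩
    rw [add_smul, add_smul]
    abel
  algebraMap_mem' := by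
    intro r
    refine ⟨r, 0, ?_⟩
    rw [zero_smul, add_zero, Algebra.algebraMap_eq_smul_one]

lemma mem_quadAlg {T : Matrix (Fin n) (Fin n) F} {δ : F} {hT2 : T * T = δ • (1 : Matrix (Fin n) (Fin n) F)}
    {x : Matrix (Fin n) (Fin n) F} :
    x ∈ quadAlg T δ hT2 ↔ ∃ a b : F, x = a • (1 : Matrix (Fin n) (Fin n) F) + b • T := Iff.rfl

/-- (X1) -/
theorem exit_field (h : SpCtx J m H) (hodd : Odd (Fintype.card F))
    (T : Matrix (Fin n) (Fin n) F) (δ : F) (hδ : ¬ IsSquare δ) (hT2 : T * T = δ • (1 : Matrix (Fin n) (Fin n) F))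
    (hadj : ∀ u v, bfm J (T *ᵥ u) v = - bfm J u (T *ᵥ v))
    (hnorm : ∀ g ∈ H, (g : Matrix (Fin n) (Fin n) F) * T = T * (g : Matrix (Fin n) (Fin n) F) ∨
      (g : Matrix (Fin n) (Fin n) F) * T = - (T * (g : Matrix (Fin n) (Fin n) F))) : SGeo J m H := by
  have h2 : (2 : F) ≠ 0 := Cfsg.Agent.Lib.Helper17.SpAschLeaf.two_ne_zero_of_odd hodd
  have hn : 0 < n := pos_of_ctx h
  let i0 : Fin n := ⟨0, hn⟩
  have hsc : ∀ s : F, s • (1 : Matrix (Fin n) (Fin n) F) = 0 → s = 0 := by
    intro s hs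
    have := congrFun (congrFun hs i0) i0
    simpa using this
  have hδ0 : δ ≠ 0 := by
    rintro rfl
    exact hδ ⟨0, by ring⟩
  -- `T` is not a scalar
  have hTns : ∀ c : F, T ≠ c • (1 : Matrix (Fin n) (Fin n) F) := by
    intro c hc
    apply hδ
    refine ⟨c, ?_⟩
    have e : (δ - c * c) • (1 : Matrix (Fin n) (Fin n) F) = 0 := by
      rw [sub_smul, ← hT2, hc, Matrix.smul_mul, Matrix.mul_smul, mul_one, smul_smul, sub_self]
    have := hsc _ e
    linear_combination this
  -- the norm form is anisotropic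
  have hnorm0 : ∀ a b : F, a * a - b * b * δ = 0 → a = 0 ∧ b = 0 := by
    intro a b hab
    by_cases hb : b = 0
    · subst hb
      refine ⟨?_, rfl⟩
      have : a * a = 0 := by linear_combination hab
      exact mul_self_eq_zero.1 this
    · exfalso
      apply hδ
      refine ⟨a / b, ?_⟩
      field_simp
      linear_combination -hab
  set K := quadAlg T δ hT2 with hK
  -- linear independence of `1, T`
  have hli : LinearIndependent F ![(1 : Matrix (Fin n) (Fin n) F), T] := by
    rw [LinearIndependent.pair_iff]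
    intro s t hst
    by_cases ht : t = 0
    · subst ht
      rw [zero_smul, add_zero] at hst
      exact ⟨hsc s hst, rfl⟩
    · exfalso
      apply hTns (-(s / t))
      have : t • T = -(s • (1 : Matrix (Fin n) (Fin n) F)) := by
        rw [eq_neg_iff_add_eq_zero, add_comm]; exact hst
      have e := congrArg (fun M => t⁻¹ • M) this
      simp only [smul_smul, inv_mul_cancel₀ ht, one_smul, smul_neg] at e
      rw [e, neg_smul, div_eq_inv_mul]
  have hfr : Module.finrank F K = 2 := by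
    have hspan : Subalgebra.toSubmodule K =
        Submodule.span F (Set.range ![(1 : Matrix (Fin n) (Fin n) F), T]) := by
      have hr : Set.range ![(1 : Matrix (Fin n) (Fin n) F), T] = {1, T} := by
        simp [Matrix.range_cons, Set.pair_comm]
      ext x
      rw [Subalgebra.mem_toSubmodule, hr, Submodule.mem_span_pair, hK, mem_quadAlg]
      constructor
      · rintro ⟨a, b, rfl⟩
        exact ⟨a, b, rfl⟩
      · rintro ⟨a, b, hx⟩
        exact ⟨a, b, hx.symm⟩
    have h3 := finrank_span_eq_card hli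
    rw [← hspan, Fintype.card_fin] at h3
    exact h3
  have hfield : IsFieldSubalgebra 2 K := by
    refine ⟨?_, ?_, hfr⟩
    · rintro _ ⟨a, b, rfl⟩ _ ⟨c, d, rfl⟩
      have hT : Commute T (c • (1 : Matrix (Fin n) (Fin n) F) + d • T) :=
        ((Commute.one_right T).smul_right c).add_right ((Commute.refl T).smul_right d)
      have h1 : Commute (1 : Matrix (Fin n) (Fin n) F) (c • (1 : Matrix (Fin n) (Fin n) F) + d • T) :=
        Commute.one_left _
      exact ((h1.smul_left a).add_left (hT.smul_left b)).eq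
    · rintro _ ⟨a, b, rfl⟩ hx
      have hN : a * a - b * b * δ ≠ 0 := by
        intro h0
        obtain ⟨ha, hb⟩ := hnorm0 a b h0
        apply hx
        rw [ha, hb, zero_smul, zero_smul, add_zero]
      refine ⟨((a * a - b * b * δ)⁻¹ * a) • (1 : Matrix (Fin n) (Fin n) F) + (-((a * a - b * b * δ)⁻¹ * b)) • T,
        ⟨_, _, rfl⟩, ?_⟩
      simp only [add_mul, mul_add, Matrix.smul_mul, Matrix.mul_smul, one_mul, mul_one, hT2, smul_smul]
      have hN' : (a * a - b * b * δ)⁻¹ * (a * a - b * b * δ) = 1 := inv_mul_cancel₀ hN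
      generalize (a * a - b * b * δ)⁻¹ = ν at hN' ⊢
      have : (ν * a * a) • (1 : Matrix (Fin n) (Fin n) F) + (ν * a * b) • T +
          ((-(ν * b) * a) • T + (-(ν * b) * (b * δ)) • (1 : Matrix (Fin n) (Fin n) F)) =
          (ν * (a * a - b * b * δ)) • (1 : Matrix (Fin n) (Fin n) F) := by
        module
      rw [this, hN', one_smul]
  -- adjoints
  have hac : IsAdjointClosedFor (bfm J) K := by
    rintro _ ⟨a, b, rfl⟩
    refine ⟨a • (1 : Matrix (Fin n) (Fin n) F) + (-b) • T, ⟨_, _, rfl⟩, ?_⟩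
    intro u v
    rw [Matrix.add_mulVec, Matrix.add_mulVec, Matrix.smul_mulVec, Matrix.smul_mulVec, Matrix.smul_mulVec,
      Matrix.smul_mulVec, Matrix.one_mulVec, Matrix.one_mulVec, bfm_add_left, bfm_add_right, bfm_smul_left,
      bfm_smul_left, bfm_smul_right, bfm_smul_right, hadj]
    ring
  have hnsa : ¬ IsSelfAdjointFor (bfm J) K := by
    intro hsa
    have hTK : T ∈ K := ⟨0, 1, by rw [zero_smul, zero_add, one_smul]⟩
    have hz : ∀ u v, bfm J (T *ᵥ u) v = 0 := by
      intro u v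
      have e1 := hsa T hTK u v
      have e2 := hadj u v
      have : 2 * bfm J (T *ᵥ u) v = 0 := by linear_combination e2 + e1
      exact (mul_eq_zero.1 this).resolve_left h2
    have hT0 : T = 0 := by
      have hTu : ∀ u, T *ᵥ u = 0 := by
        intro u
        by_contra hne
        obtain ⟨-, ⟨x, hx⟩⟩ := bfm_nondeg h.alt _ hne
        exact hx (hz u x)
      ext i j
      have := congrFun (hTu (Pi.single j 1)) i
      simpa using this
    apply hδ0
    have e : δ • (1 : Matrix (Fin n) (Fin n) F) = 0 := by rw [← hT2, hT0, mul_zero]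
    exact hsc δ e
  -- normaliser
  have hconj : ∀ g ∈ H, ∀ k ∈ K,
      (g : Matrix (Fin n) (Fin n) F) * k * ((g⁻¹ : GL (Fin n) F) : Matrix (Fin n) (Fin n) F) ∈ K := by
    rintro g hg _ ⟨a, b, rfl⟩
    obtain ⟨ε, hε, hrel⟩ := rel_of_or (hnorm g hg)
    refine ⟨a, b * ε, ?_⟩
    have h2' : (g : Matrix (Fin n) (Fin n) F) * ((g⁻¹ : GL (Fin n) F) : Matrix (Fin n) (Fin n) F) = 1 := by
      rw [← Units.val_mul, mul_inv_cancel, Units.val_one]
    rw [mul_add, add_mul, Matrix.mul_smul, Matrix.smul_mul, mul_one, h2', Matrix.mul_smul, Matrix.smul_mul,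
      rel_conj hε hrel, smul_smul]
  have hHK : H ≤ subalgebraNormalizer K := by
    intro g hg k
    constructor
    · exact hconj g hg k
    · intro hk
      have := hconj g⁻¹ (H.inv_mem hg) _ hk
      have h1 : ((g⁻¹ : GL (Fin n) F) : Matrix (Fin n) (Fin n) F) * (g : Matrix (Fin n) (Fin n) F) = 1 := by
        rw [← Units.val_mul, inv_mul_cancel, Units.val_one]
      rw [inv_inv] at this
      have e : ((g⁻¹ : GL (Fin n) F) : Matrix (Fin n) (Fin n) F) *
          ((g : Matrix (Fin n) (Fin n) F) * k * ((g⁻¹ : GL (Fin n) F) : Matrix (Fin n) (Fin n) F)) *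
          (g : Matrix (Fin n) (Fin n) F) = k := by
        simp only [mul_assoc]
        rw [h1, mul_one, ← mul_assoc, h1, one_mul]
      rwa [e] at this
  exact SGeo.of_C3b h.le K hodd hfield hac hnsa hHK

end Cfsg.Agent.Lib.Helper28.SpTnsLeaf
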