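import Mathlib
import Cfsg.Agent.Lib.Helper5.UOGDefs
import Cfsg.Agent.Lib.Helper5.UOGDefs2
import Cfsg.Agent.Lib.Helper5.UOGBase
import Cfsg.Agent.Lib.Helper22.UOGC

/-!
S5681 / S5709 part (G), leaf (Lw1) `P1'_of_hasLw` (helper28): core form, against the statements of
`IA_of_rootM` (R1), `transB` (TRB) and `span_opp` (T3) as hypotheses; the conclusion is the UNFOLDED form of
`∃ x y, Sg G₁ x ∧ Sg G₂ y ∧ P1' G₁ G₂ M x y` (the defs `Sg`, `P1'` of the notes file are not landed).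
-/

set_option autoImplicit false
set_option linter.unusedSectionVars false
set_option linter.unusedVariables false

namespace Cfsg.Agent.Lib.Helper28.UOGLeaf
open Matrix QuadraticMap Module
open Cfsg.Agent.Lib.Helper25.Tens Cfsg.Agent.Lib.Helper2.SOT Cfsg.Agent.Lib.Helper7.OTT
  Cfsg.Agent.Lib.Helper25.CD Cfsg.Agent.Lib.Helper5.NSMax Cfsg.Agent.Lib.Helper5.PairMax
  Cfsg.Agent.Lib.Helper5.TSMax Cfsg.Agent.Lib.Helper5.NDMax Cfsg.Agent.Lib.Helper5.UOG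
open scoped Kronecker

variable {F : Type*} [Field F] [Fintype F] {a b : ℕ} {G₁ : Matrix (Fin a) (Fin a) F}
  {G₂ : Matrix (Fin b) (Fin b) F} {M : Subgroup (GL (Idx a b) F)}

/-- (Lw1), core form: even `P1` at the pair `(x₀, y₀)` of the (Lw) exit. -/
theorem P1_of_hasLw_core (h : GCtx G₁ G₂ M)
    (hIA : ∀ {u v : Idx a b → F}, QV G₁ G₂ u = 0 → QV G₁ G₂ v = 0 → polar (QV G₁ G₂) u v = 0 →
      (∀ c : F, InM M (rootM (G₁ ⊗ₖ G₂) u v c)) → IA (QV G₁ G₂) M u v)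
    (hTB : ∀ {y₀ y : Fin b → F}, (y₀ ≠ 0 ∧ fB G₂ y₀ y₀ = 0) → (y ≠ 0 ∧ fB G₂ y y = 0) →
      ∃ g ∈ MI (QV G₁ G₂) M, ∃ β : (Fin b → F) ≃ₗ[F] (Fin b → F), ∃ t : F, t ≠ 0 ∧ β y₀ = t • y ∧
        (∀ p q, fB G₂ (β p) (β q) = fB G₂ p q) ∧
        ∀ (x : Fin a → F) (p : Fin b → F), toOG (QV G₁ G₂) g (pt x p) = pt x (β p))
    (hspan : ∀ {x : Fin b → F}, x ≠ 0 → QG G₂ x = 0 →
      Submodule.span F {x' : Fin b → F | QG G₂ x' = 0 ∧ polar (QG G₂) x x' ≠ 0} = ⊤)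
    (hL : HasLw G₁ G₂ M) :
    ∃ x y, (x ≠ 0 ∧ fB G₁ x x = 0) ∧ (y ≠ 0 ∧ fB G₂ y y = 0) ∧
      ∀ z : Fin b → F, IA (QV G₁ G₂) M (pt x y) (pt x z) := by
  obtain ⟨x₀, v, y₀, hx0, hxx, hxv, hvv, hy0, hyy, hr⟩ := hL
  have h2 := h.two
  have hpol := @Cfsg.Agent.Lib.Helper5.UOGLeaf.pol F _ _ a b G₁ G₂ h.symA h.symB h2
  have hQpt := @Cfsg.Agent.Lib.Helper5.UOGLeaf.QV_pt F _ _ a b G₁ G₂
  have hu : QV G₁ G₂ (pt x₀ y₀) = 0 := by rw [hQpt, hxx, zero_mul, mul_zero]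
  have hw : QV G₁ G₂ (pt v y₀) = 0 := by rw [hQpt, hyy, mul_zero, mul_zero]
  have huw : polar (QV G₁ G₂) (pt x₀ y₀) (pt v y₀) = 0 := by rw [hpol, hxv, zero_mul]
  have hIA0 : IA (QV G₁ G₂) M (pt x₀ y₀) (pt v y₀) := hIA hu hw huw hr
  -- the key claim
  have key : ∀ y₁ : Fin b → F, y₁ ≠ 0 → fB G₂ y₁ y₁ = 0 → fB G₂ y₀ y₁ ≠ 0 →
      IA (QV G₁ G₂) M (pt x₀ y₀) (pt x₀ y₁) := by
    intro y₁ hy1 hy1s hne
    obtain ⟨g, hg, β, t, ht, hβ, hiso, hact⟩ := hTB ⟨hy0, hyy⟩ ⟨hy1, hy1s⟩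
    have c1 := InA.conj hg hIA0
    rw [hact, hact, hβ, pt_smul_right, pt_smul_right] at c1
    have c2 := Cfsg.Agent.Lib.Helper22.UOGLeaf.InA_of_smul_left ht c1
    have c3 := c2.smul t⁻¹
    rw [smul_smul, inv_mul_cancel₀ ht, one_smul] at c3
    have hu' : QV G₁ G₂ (pt x₀ y₁) = 0 := by rw [hQpt, hxx, zero_mul, mul_zero]
    have huu' : polar (QV G₁ G₂) (pt x₀ y₀) (pt x₀ y₁) = 0 := by rw [hpol, hxx, zero_mul]
    have hu'y' : polar (QV G₁ G₂) (pt x₀ y₁) (pt v y₁) = 0 := by rw [hpol, hxv, zero_mul]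
    have hyu' : polar (QV G₁ G₂) (pt v y₀) (pt x₀ y₁) = 0 := by
      rw [polar_comm, hpol, hxv, zero_mul]
    have hy'u : polar (QV G₁ G₂) (pt v y₁) (pt x₀ y₀) = 0 := by
      rw [polar_comm, hpol, hxv, zero_mul]
    have hyy' : polar (QV G₁ G₂) (pt v y₀) (pt v y₁) ≠ 0 := by
      rw [hpol]; exact mul_ne_zero hvv hne
    exact Cfsg.Agent.Lib.Helper1.C3OLeaf.inA_comm hu hu' huu' hIA0 c3 huw hu'y' hyu' hy'u hyy'
  -- the subspace `Z`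
  let Z : Submodule F (Fin b → F) :=
    { carrier := {z | IA (QV G₁ G₂) M (pt x₀ y₀) (pt x₀ z)}
      add_mem' := by
        intro z z' hz hz'
        show IA (QV G₁ G₂) M (pt x₀ y₀) (pt x₀ (z + z'))
        rw [pt_add_right]
        exact InA.add hu (by rw [hpol, hxx, zero_mul]) (by rw [hpol, hxx, zero_mul]) hz hz'
      zero_mem' := by
        show IA (QV G₁ G₂) M (pt x₀ y₀) (pt x₀ 0)
        rw [pt_zero_right]
        exact Cfsg.Agent.Lib.Helper22.UOGLeaf.InA_zero _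
      smul_mem' := by
        intro c z hz
        show IA (QV G₁ G₂) M (pt x₀ y₀) (pt x₀ (c • z))
        rw [pt_smul_right]
        exact InA.smul hz c }
  have hQy0 : QG G₂ y₀ = 0 := by
    rw [Cfsg.Agent.Lib.Helper5.UOGLeaf.QG_eq_fB, hyy, mul_zero]
  have htop : (⊤ : Submodule F (Fin b → F)) ≤ Z := by
    rw [← hspan hy0 hQy0, Submodule.span_le]
    rintro x' ⟨hx'Q, hx'p⟩
    rw [Cfsg.Agent.Lib.Helper5.UOGLeaf.polar_QG_fB h.symB h2] at hx'p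
    have hx'0 : x' ≠ 0 := by
      rintro rfl
      apply hx'p
      unfold fB
      simp
    have hx's : fB G₂ x' x' = 0 := by
      rw [Cfsg.Agent.Lib.Helper5.UOGLeaf.QG_eq_fB] at hx'Q
      rcases mul_eq_zero.1 hx'Q with h0 | h0
      · exact absurd h0 (inv_ne_zero h2)
      · exact h0
    exact key x' hx'0 hx's hx'p
  exact ⟨x₀, y₀, ⟨hx0, hxx⟩, ⟨hy0, hyy⟩, fun z => htop (Submodule.mem_top : z ∈ ⊤)⟩

/-- (Lw1), core form: the unfolded `∃ x y, Sg G₁ x ∧ Sg G₂ y ∧ P1' G₁ G₂ M x y`. -/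
theorem P1'_of_hasLw_core (h : GCtx G₁ G₂ M)
    (hIA : ∀ {u v : Idx a b → F}, QV G₁ G₂ u = 0 → QV G₁ G₂ v = 0 → polar (QV G₁ G₂) u v = 0 →
      (∀ c : F, InM M (rootM (G₁ ⊗ₖ G₂) u v c)) → IA (QV G₁ G₂) M u v)
    (hTB : ∀ {y₀ y : Fin b → F}, (y₀ ≠ 0 ∧ fB G₂ y₀ y₀ = 0) → (y ≠ 0 ∧ fB G₂ y y = 0) →
      ∃ g ∈ MI (QV G₁ G₂) M, ∃ β : (Fin b → F) ≃ₗ[F] (Fin b → F), ∃ t : F, t ≠ 0 ∧ β y₀ = t • y ∧
        (∀ p q, fB G₂ (β p) (β q) = fB G₂ p q) ∧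
        ∀ (x : Fin a → F) (p : Fin b → F), toOG (QV G₁ G₂) g (pt x p) = pt x (β p))
    (hspan : ∀ {x : Fin b → F}, x ≠ 0 → QG G₂ x = 0 →
      Submodule.span F {x' : Fin b → F | QG G₂ x' = 0 ∧ polar (QG G₂) x x' ≠ 0} = ⊤)
    (hL : HasLw G₁ G₂ M) :
    ∃ x y, (x ≠ 0 ∧ fB G₁ x x = 0) ∧ (y ≠ 0 ∧ fB G₂ y y = 0) ∧
      ∀ z : Fin b → F, fB G₂ y z = 0 → IA (QV G₁ G₂) M (pt x y) (pt x z) := by
  obtain ⟨x, y, hx, hy, hP⟩ := P1_of_hasLw_core h hIA hTB hspan hL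
  exact ⟨x, y, hx, hy, fun z _ => hP z⟩

end Cfsg.Agent.Lib.Helper28.UOGLeaf
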