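import Mathlib
import Cfsg.Agent.Lib.Helper5.UOGDefs
import Cfsg.Agent.Lib.Helper5.UOGDefs2
import Cfsg.Agent.Lib.Helper5.UOGDefs3
import Cfsg.Agent.Lib.Helper28.UOGLw
import Cfsg.Agent.Lib.Helper12.UOGRE
import Cfsg.Agent.Lib.Helper26.UOGX
import Cfsg.Agent.Lib.Helper10.UOGT

/-!
S5681 / S5709 part (G), leaf (Lw1) `P1'_of_hasLw` (helper28): EXACT signature of `notes/S5681_G_leaves.lean`,
on helper12 `IA_of_rootM`, helper26 `transB`, helper10 `span_opp`, helper5 `nd_QG`.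
-/

set_option autoImplicit false
set_option linter.unusedSectionVars false
set_option linter.unusedVariables false

namespace Cfsg.Agent.Lib.Helper28.UOGLeaf
open Matrix QuadraticMap Module
open Cfsg.Agent.Lib.Helper25.Tens Cfsg.Agent.Lib.Helper2.SOT Cfsg.Agent.Lib.Helper7.OTT
  Cfsg.Agent.Lib.Helper25.CD Cfsg.Agent.Lib.Helper5.NSMax Cfsg.Agent.Lib.Helper5.PairMax
  Cfsg.Agent.Lib.Helper5.TSMax Cfsg.Agent.Lib.Helper5.NDMax Cfsg.Agent.Lib.Helper5.UOG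
open scoped Kronecker

variable {F : Type*} [Field F] [Fintype F] {a b : ℕ} {G₁ : Matrix (Fin a) (Fin a) F}
  {G₂ : Matrix (Fin b) (Fin b) F} {M : Subgroup (GL (Idx a b) F)}

/-- (Lw1), strong form: branch (Lw) gives `P1` at one pair. -/
theorem P1_of_hasLw (h : GCtx G₁ G₂ M) (hL : HasLw G₁ G₂ M) :
    ∃ x y, Sg G₁ x ∧ Sg G₂ y ∧ P1 G₁ G₂ M x y :=
  P1_of_hasLw_core h
    (fun hu hv huv hr => Cfsg.Agent.Lib.Helper12.UOGLeaf.IA_of_rootM h hu hv huv hr)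
    (fun hy₀ hy => Cfsg.Agent.Lib.Helper26.UOGLeaf.transB h hy₀ hy)
    (fun hx0 hx => Cfsg.Agent.Lib.Helper10.UOGLeaf.span_opp
      (Cfsg.Agent.Lib.Helper5.UOGLeaf.nd_QG h.symB h.detB h.two) h.two
      (by rw [Fintype.card_fin]; have := h.hb; omega) hx0 hx)
    hL

/-- (Lw1) branch (Lw) gives `P1'` at one pair. -/
theorem P1'_of_hasLw (h : GCtx G₁ G₂ M) (hL : HasLw G₁ G₂ M) :
    ∃ x y, Sg G₁ x ∧ Sg G₂ y ∧ P1' G₁ G₂ M x y := by
  obtain ⟨x, y, hx, hy, hP⟩ := P1_of_hasLw h hL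
  exact ⟨x, y, hx, hy, fun z _ => hP z⟩

end Cfsg.Agent.Lib.Helper28.UOGLeaf
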