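import Mathlib
import Cfsg.Prelude.Def_GeometricClasses
import Cfsg.Agent.Lib.Helper25.SpTDefs
import Cfsg.Agent.Lib.Helper27.SpTGDefs
import Cfsg.Agent.Lib.Helper27.SpTGB

/-!
S5704 Stage III (G), leaves G2 `P3_of_one` and G2' `P1_of_one` (helper27's sub-market): CORES, with the
statement of S7 (`forall_of_tva_invariant`, helper23's S-block) as a hypothesis `hS7`.
Transport of type T3 / T1 to all centres: `K` is transitive on pure tensors (S7 twice) and `RR` is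
`K`-equivariant (B4, B4').  The exact leaves are in `SpTGG2.lean`.
-/

set_option autoImplicit false
set_option linter.unusedSectionVars false
set_option linter.unusedVariables false

namespace Cfsg.Agent.Lib.Helper28.SpTGLeaf
open Matrix QuadraticMap
open Cfsg.Agent.Lib.Helper25.Tens Cfsg.Agent.Lib.Helper25.SpT Cfsg.Agent.Lib.Helper19.OSub
  Cfsg.Agent.Lib.Helper27.SpTG
open scoped commutatorElement

variable {F : Type*} [Field F] {a b : ℕ} {Q : QuadraticForm F (Idx a b → F)}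
  {M : Subgroup (GL (Idx a b) F)}

/-- `sf (τ x) z = sf x z` for `τ = τ_{z,μ}` -/
theorem sf_tva_self {n : ℕ} (z : Fin n → F) (μ : F) (x : Fin n → F) : sf (tva z μ x) z = sf x z := by
  unfold tva
  rw [sf_add_left, sf_smul_left, sf_self, mul_zero, add_zero]

/-- S3 (own copy): `τ_{z,μ}` preserves `sf`. -/
theorem sf_tva_own {n : ℕ} (z : Fin n → F) (μ : F) (x x' : Fin n → F) :
    sf (tva z μ x) (tva z μ x') = sf x x' := by
  unfold tva
  rw [sf_add_left, sf_add_right, sf_add_right, sf_smul_left, sf_smul_right, sf_smul_right,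
    sf_smul_left, sf_self, sf_skew z x']
  ring

/-- S3' (own copy): `τ_{z,-μ}` inverts `τ_{z,μ}`. -/
theorem tva_neg_tva_own {n : ℕ} (z : Fin n → F) (μ : F) (x : Fin n → F) :
    tva z (-μ) (tva z μ x) = x := by
  have h1 := sf_tva_self z μ x
  have h2 : tva z (-μ) (tva z μ x) = tva z μ x + (-μ * sf (tva z μ x) z) • z := rfl
  rw [h2, h1]
  unfold tva
  module

/-- `τ_{z,μ}` inverts `τ_{z,-μ}`. -/
theorem tva_tva_neg_own {n : ℕ} (z : Fin n → F) (μ : F) (x : Fin n → F) :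
    tva z μ (tva z (-μ) x) = x := by
  have h := tva_neg_tva_own z (-μ) x
  rwa [neg_neg] at h

section G
variable [Fintype F]

/-- the statement of S7 (`forall_of_tva_invariant`) -/
def S7Stmt (F : Type*) [Field F] : Prop :=
  ∀ {n : ℕ} (hn : Even n) (Φ : (Fin n → F) → Prop)
    (hinv : ∀ (z : Fin n → F) (μ : F) (x : Fin n → F), Φ x → Φ (tva z μ x))
    {x₀ : Fin n → F} (hx₀ : x₀ ≠ 0) (h0 : Φ x₀), ∀ x : Fin n → F, x ≠ 0 → Φ x

/-- G2 core: transport of type T3 to all centres. -/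
theorem P3_of_one_core (hS7 : S7Stmt F) (h : GCtx a b Q M) {x : Fin a → F} {y : Fin b → F}
    (hx : x ≠ 0) (hy : y ≠ 0)
    (hfull : ∀ w : Fin b → F, sf y w = 0 → RR Q M x y x w) : P3 Q M := by
  -- step 1: all `x₁`
  have h1 : ∀ x₁ : Fin a → F, x₁ ≠ 0 → ∀ w : Fin b → F, sf y w = 0 → RR Q M x₁ y x₁ w := by
    refine hS7 h.ea (fun x₁ => ∀ w : Fin b → F, sf y w = 0 → RR Q M x₁ y x₁ w) ?_ hx hfull
    intro z μ x₁ hΦ w hw
    exact Cfsg.Agent.Lib.Helper27.SpTGLeaf.RR_kA h z μ (hΦ w hw)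
  intro x₁ y₁ y' hyy'
  by_cases hx₁ : x₁ = 0
  · exact Cfsg.Agent.Lib.Helper27.SpTGLeaf.RR_of_eq_zero h.toCtx (Or.inl hx₁)
  by_cases hy₁ : y₁ = 0
  · exact Cfsg.Agent.Lib.Helper27.SpTGLeaf.RR_of_eq_zero h.toCtx (Or.inr (Or.inl hy₁))
  -- step 2: all `y₁`
  have h2 : ∀ y₂ : Fin b → F, y₂ ≠ 0 → ∀ w : Fin b → F, sf y₂ w = 0 → RR Q M x₁ y₂ x₁ w := by
    refine hS7 h.eb (fun y₂ => ∀ w : Fin b → F, sf y₂ w = 0 → RR Q M x₁ y₂ x₁ w) ?_ hy
      (h1 x₁ hx₁)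
    intro z ν y₂ hΦ w hw
    have hw' : sf y₂ (tva z (-ν) w) = 0 := by
      rw [← sf_tva_own z ν y₂ (tva z (-ν) w), tva_tva_neg_own]
      exact hw
    have h3 := Cfsg.Agent.Lib.Helper27.SpTGLeaf.RR_kB h z ν (hΦ _ hw')
    rw [tva_tva_neg_own] at h3
    exact h3
  exact h2 y₁ hy₁ y' hyy'

/-- G2' core: transport of type T1 to all centres. -/
theorem P1_of_one_core (hS7 : S7Stmt F) (h : GCtx a b Q M) {x : Fin a → F} {y : Fin b → F}
    (hx : x ≠ 0) (hy : y ≠ 0)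
    (hfull : ∀ z : Fin a → F, sf x z = 0 → RR Q M x y z y) : P1 Q M := by
  -- step 1: all `y₁`
  have h1 : ∀ y₁ : Fin b → F, y₁ ≠ 0 → ∀ z : Fin a → F, sf x z = 0 → RR Q M x y₁ z y₁ := by
    refine hS7 h.eb (fun y₁ => ∀ z : Fin a → F, sf x z = 0 → RR Q M x y₁ z y₁) ?_ hy hfull
    intro w ν y₁ hΦ z hz
    exact Cfsg.Agent.Lib.Helper27.SpTGLeaf.RR_kB h w ν (hΦ z hz)
  intro x₁ x' y₁ hxx'
  by_cases hx₁ : x₁ = 0
  · exact Cfsg.Agent.Lib.Helper27.SpTGLeaf.RR_of_eq_zero h.toCtx (Or.inl hx₁)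
  by_cases hy₁ : y₁ = 0
  · exact Cfsg.Agent.Lib.Helper27.SpTGLeaf.RR_of_eq_zero h.toCtx (Or.inr (Or.inl hy₁))
  -- step 2: all `x₁`
  have h2 : ∀ x₂ : Fin a → F, x₂ ≠ 0 → ∀ z : Fin a → F, sf x₂ z = 0 → RR Q M x₂ y₁ z y₁ := by
    refine hS7 h.ea (fun x₂ => ∀ z : Fin a → F, sf x₂ z = 0 → RR Q M x₂ y₁ z y₁) ?_ hx
      (h1 y₁ hy₁)
    intro w μ x₂ hΦ z hz
    have hz' : sf x₂ (tva w (-μ) z) = 0 := by
      rw [← sf_tva_own w μ x₂ (tva w (-μ) z), tva_tva_neg_own]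
      exact hz
    have h3 := Cfsg.Agent.Lib.Helper27.SpTGLeaf.RR_kA h w μ (hΦ _ hz')
    rw [tva_tva_neg_own] at h3
    exact h3
  exact h2 x₁ hx₁ x' hxx'

end G

end Cfsg.Agent.Lib.Helper28.SpTGLeaf
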