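import Mathlib
import Cfsg.Prelude.Def_Solvable
import Cfsg.Agent.Lib.Helper26.McLDefs
import Cfsg.Agent.Lib.Helper26.McLBasic
import Cfsg.Agent.Lib.Helper26.McLMore
import Cfsg.Agent.Lib.Helper12.Cores

/-!
S5075 (McLaughlin over `ZMod p`; helper26's market), the duality leaves **D0** `mem_Phi_dual`, **D1** `star_dual`,
**D2** `Nsp_sup_Wsp_of_dual`.
-/

set_option autoImplicit false
set_option linter.unusedSectionVars false
set_option linter.unusedVariables false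

namespace Cfsg.Agent.Lib.Helper28.McLLeaf
open Module Cfsg.Agent.Lib.Helper26.McL

universe u
variable {p : ℕ} [Fact p.Prime] {V : Type u} [AddCommGroup V] [Module (ZMod p) V]
variable {K : Subgroup (V ≃ₗ[ZMod p] V)}

/-- the contragredient of a transvection -/
theorem dualGL_tv {φ : Dual (ZMod p) V} {x : V} (h : φ x = 0) :
    dualGL (p := p) (V := V) (tv φ (-x)) = tv (Dual.eval (ZMod p) V x) φ := by
  have h' : φ (-x) = 0 := by rw [map_neg, h, neg_zero]
  have h'' : (Dual.eval (ZMod p) V x) φ = 0 := by rw [Dual.eval_apply, h]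
  have hinv : (tv φ (-x))⁻¹ = tv φ x := by rw [tv_inv' h', neg_neg]
  apply LinearEquiv.ext
  intro ψ
  apply LinearMap.ext
  intro y
  rw [dualGL_apply, hinv, tv_apply h, tv_apply h'', map_add, map_smul, LinearMap.add_apply,
    LinearMap.smul_apply, Dual.eval_apply, smul_eq_mul, smul_eq_mul, mul_comm]

/-- the contragredient action is faithful -/
theorem dualGL_injective : Function.Injective (dualGL (p := p) (V := V)) := by
  intro g h hgh
  have h1 : ∀ y : V, (g⁻¹ : V ≃ₗ[ZMod p] V) y = (h⁻¹ : V ≃ₗ[ZMod p] V) y := by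
    intro y
    have h2 : ∀ ψ : Dual (ZMod p) V,
        ψ ((g⁻¹ : V ≃ₗ[ZMod p] V) y - (h⁻¹ : V ≃ₗ[ZMod p] V) y) = 0 := by
      intro ψ
      have h3 := congrArg (fun f : Dual (ZMod p) V ≃ₗ[ZMod p] Dual (ZMod p) V => f ψ y) hgh
      simp only [dualGL_apply] at h3
      rw [map_sub, h3, sub_self]
    exact sub_eq_zero.1 ((Module.forall_dual_apply_eq_zero_iff (ZMod p) _).1 h2)
  have h2 : g⁻¹ = h⁻¹ := LinearEquiv.ext h1
  exact inv_injective h2

/-- **D0**.  The contragredient of a transvection: `dualGL (tv φ v) = tv (-(Dual.eval v)) φ`, and every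
functional on the dual is an evaluation (finite dimension). -/
theorem mem_Phi_dual [Finite V] {φ : Dual (ZMod p) V} {Ξ : Dual (ZMod p) (Dual (ZMod p) V)} :
    Ξ ∈ Phi (K.map (dualGL (p := p) (V := V))) φ ↔
      ∃ x : V, Ξ = Dual.eval (ZMod p) V x ∧ φ x = 0 ∧ tv φ x ∈ K := by
  constructor
  · rintro ⟨hΞφ, hmem⟩
    obtain ⟨x, hx⟩ := (Module.evalEquiv (ZMod p) V).surjective Ξ
    rw [Module.evalEquiv_apply] at hx
    have hφx : φ x = 0 := by
      rw [← hx, Dual.eval_apply] at hΞφ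
      exact hΞφ
    refine ⟨x, hx.symm, hφx, ?_⟩
    obtain ⟨g, hgK, hg⟩ := Subgroup.mem_map.1 hmem
    rw [← hx, ← dualGL_tv hφx] at hg
    have hg' : g = tv φ (-x) := dualGL_injective hg
    have h' : φ (-x) = 0 := by rw [map_neg, hφx, neg_zero]
    have hinv : (tv φ (-x))⁻¹ = tv φ x := by rw [tv_inv' h', neg_neg]
    rw [← hinv, ← hg']
    exact K.inv_mem hgK
  · rintro ⟨x, rfl, hφx, hmem⟩
    refine ⟨by rw [Dual.eval_apply, hφx], ?_⟩
    rw [← dualGL_tv hφx]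
    apply Subgroup.mem_map_of_mem
    have h' : φ (-x) = 0 := by rw [map_neg, hφx, neg_zero]
    rw [← tv_inv' hφx]
    exact K.inv_mem hmem

/-- the transvections of the contragredient group -/
theorem tvSet_dual [Finite V]
    (hD0 : ∀ (φ : Dual (ZMod p) V) (Ξ : Dual (ZMod p) (Dual (ZMod p) V)),
      Ξ ∈ Phi (K.map (dualGL (p := p) (V := V))) φ ↔
        ∃ x : V, Ξ = Dual.eval (ZMod p) V x ∧ φ x = 0 ∧ tv φ x ∈ K) :
    TvSet (K.map (dualGL (p := p) (V := V))) = (dualGL (p := p) (V := V)) '' TvSet K := by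
  ext s
  constructor
  · rintro ⟨hsK, Ξ, φ, hΞφ, hΞ0, hφ0, rfl⟩
    obtain ⟨x, rfl, hφx, hmem⟩ := (hD0 φ Ξ).1 ⟨hΞφ, hsK⟩
    have hx0 : x ≠ 0 := by
      intro h
      apply hΞ0
      rw [h, map_zero]
    have h' : φ (-x) = 0 := by rw [map_neg, hφx, neg_zero]
    refine ⟨tv φ (-x), ⟨?_, φ, -x, h', hφ0, neg_ne_zero.2 hx0, rfl⟩, dualGL_tv hφx⟩
    rw [← tv_inv' hφx]
    exact K.inv_mem hmem
  · rintro ⟨t, ⟨htK, φ, v, hφv, hφ0, hv0, rfl⟩, rfl⟩
    have h' : φ (-v) = 0 := by rw [map_neg, hφv, neg_zero]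
    have e : dualGL (p := p) (V := V) (tv φ v) = tv (Dual.eval (ZMod p) V (-v)) φ := by
      have := dualGL_tv (p := p) h'
      rwa [neg_neg] at this
    refine ⟨Subgroup.mem_map_of_mem _ htK, Dual.eval (ZMod p) V (-v), φ, ?_, ?_, hφ0, e⟩
    · rw [Dual.eval_apply, h']
    · intro h
      exact (neg_ne_zero.2 hv0) ((Module.eval_apply_eq_zero_iff (ZMod p) (-v)).1 h)

/-- **D1**.  `IsStar` passes to the contragredient group. -/
theorem star_dual [Finite V] (hK : IsStar K)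
    (hD0 : ∀ (φ : Dual (ZMod p) V) (Ξ : Dual (ZMod p) (Dual (ZMod p) V)),
      Ξ ∈ Phi (K.map (dualGL (p := p) (V := V))) φ ↔
        ∃ x : V, Ξ = Dual.eval (ZMod p) V x ∧ φ x = 0 ∧ tv φ x ∈ K) :
    IsStar (K.map (dualGL (p := p) (V := V))) := by
  have hTv := tvSet_dual hD0
  refine ⟨?_, ?_, ?_⟩
  · rw [hTv, ← MonoidHom.map_closure, ← hK.gen]
  · intro s hs t ht
    rw [hTv] at hs ht
    obtain ⟨s₀, hs₀, rfl⟩ := hs
    obtain ⟨t₀, ht₀, rfl⟩ := ht
    refine Relation.ReflTransGen.lift (dualGL (p := p) (V := V)) ?_ _ _ (hK.conn s₀ hs₀ t₀ ht₀)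
    rintro a b ⟨ha, hb, hab⟩
    refine ⟨?_, ?_, ?_⟩
    · rw [hTv]; exact ⟨a, ha, rfl⟩
    · rw [hTv]; exact ⟨b, hb, rfl⟩
    · rw [← map_mul, ← map_mul]
      intro h
      exact hab (dualGL_injective h)
  · have e := Cfsg.Agent.Lib.Helper12.pCore_map_equiv' p
      (K.equivMapOfInjective (dualGL (p := p) (V := V)) dualGL_injective)
    rw [← e, hK.core, Subgroup.map_bot]

/-- **D2**.  `Nsp K ⊔ Wsp K = ⊤` from `Nsp ⊓ Wsp = ⊥` for the contragredient group. -/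
theorem Nsp_sup_Wsp_of_dual [Finite V]
    (hD0 : ∀ (φ : Dual (ZMod p) V) (Ξ : Dual (ZMod p) (Dual (ZMod p) V)),
      Ξ ∈ Phi (K.map (dualGL (p := p) (V := V))) φ ↔
        ∃ x : V, Ξ = Dual.eval (ZMod p) V x ∧ φ x = 0 ∧ tv φ x ∈ K)
    (hinf : Nsp (K.map (dualGL (p := p) (V := V))) ⊓ Wsp (K.map (dualGL (p := p) (V := V))) = ⊥) :
    Nsp K ⊔ Wsp K = ⊤ := by
  -- `Wsp K` is the common kernel of `Nsp K'`
  have h1 : Wsp K = (Nsp (K.map (dualGL (p := p) (V := V)))).dualCoannihilator := by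
    ext x
    rw [Submodule.mem_dualCoannihilator, mem_Wsp]
    constructor
    · intro hx φ hφ
      refine eq_zero_on_Nsp (K := K.map (dualGL (p := p) (V := V)))
        (φ := Dual.eval (ZMod p) V x) ?_ hφ
      intro ψ hψ
      rw [Dual.eval_apply]
      obtain ⟨hψ0, hne⟩ := hψ
      obtain ⟨Ξ, hΞ, hΞ0⟩ := (Submodule.ne_bot_iff _).1 hne
      obtain ⟨y, rfl, hψy, hmem⟩ := (hD0 ψ Ξ).1 hΞ
      have hy0 : y ≠ 0 := by
        intro h
        apply hΞ0
        rw [h, map_zero]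
      exact hx y hy0 ψ ⟨hψy, hmem⟩
    · intro hx v hv φ hφ
      by_cases hφ0 : φ = 0
      · rw [hφ0, LinearMap.zero_apply]
      · apply hx φ
        apply Submodule.subset_span
        refine ⟨hφ0, (Submodule.ne_bot_iff _).2 ⟨Dual.eval (ZMod p) V v, ?_, ?_⟩⟩
        · exact (hD0 φ _).2 ⟨v, rfl, hφ.1, hφ.2⟩
        · intro h
          exact hv ((Module.eval_apply_eq_zero_iff (ZMod p) v).1 h)
  -- `Wsp K'` is the annihilator of `Nsp K`
  have h2 : (Nsp K).dualAnnihilator ≤ Wsp (K.map (dualGL (p := p) (V := V))) := by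
    intro ψ hψ
    rw [Submodule.mem_dualAnnihilator] at hψ
    rw [mem_Wsp]
    intro φ hφ0 Ξ hΞ
    obtain ⟨y, rfl, hφy, hmem⟩ := (hD0 φ Ξ).1 hΞ
    rw [Dual.eval_apply]
    by_cases hy0 : y = 0
    · rw [hy0, map_zero]
    · apply hψ y
      apply Submodule.subset_span
      exact ⟨hy0, (Submodule.ne_bot_iff _).2 ⟨φ, ⟨hφy, hmem⟩, hφ0⟩⟩
  have : Finite (Dual (ZMod p) V) := finite_dual
  have h3 : (Wsp K).dualAnnihilator = Nsp (K.map (dualGL (p := p) (V := V))) := by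
    rw [h1]
    exact Subspace.dualCoannihilator_dualAnnihilator_eq
  have h4 : (Nsp K ⊔ Wsp K).dualAnnihilator = ⊥ := by
    rw [Submodule.dualAnnihilator_sup_eq, eq_bot_iff, ← hinf, h3, inf_comm]
    exact inf_le_inf_left _ h2
  exact Submodule.dualAnnihilator_eq_bot_iff.1 h4

end Cfsg.Agent.Lib.Helper28.McLLeaf
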