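import Mathlib
import Cfsg.Prelude.Def_Solvable
import Cfsg.Agent.Lib.Helper26.McLDefs
import Cfsg.Agent.Lib.Helper26.McLBasic
import Cfsg.Agent.Lib.Helper26.McLMore

/-!
S5075 (McLaughlin over `ZMod p`; helper26's market), leaf **RSL** `range_resN_eq_SL`.
-/

set_option autoImplicit false
set_option linter.unusedSectionVars false
set_option linter.unusedVariables false

namespace Cfsg.Agent.Lib.Helper28.McLLeaf
open Module Cfsg.Agent.Lib.Helper26.McL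

universe u
variable {p : ℕ} [Fact p.Prime] {V : Type u} [AddCommGroup V] [Module (ZMod p) V]
variable {K : Subgroup (V ≃ₗ[ZMod p] V)}

/-- the restriction of `tv φ v ∈ K` to `Nsp K` is a transvection of `Nsp K` -/
theorem resN_tv {φ : Dual (ZMod p) V} {v : V} (hφ : φ ∈ Phi K v) (hv : v ∈ Nsp K)
    (h0 : (φ ∘ₗ (Nsp K).subtype) ⟨v, hv⟩ = 0) :
    resN K ⟨tv φ v, hφ.2⟩ = LinearEquiv.transvection h0 := by
  apply LinearEquiv.ext
  intro x
  apply Subtype.ext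
  rw [resN_apply, tv_apply hφ.1, LinearEquiv.transvection.apply]
  simp

/-- the restriction of `tv φ v ∈ K` to `Nsp K`, pointwise -/
theorem resN_tv_apply {φ : Dual (ZMod p) V} {v : V} (hφ : φ ∈ Phi K v) (hv : v ∈ Nsp K)
    (x : ↥(Nsp K)) :
    resN K ⟨tv φ v, hφ.2⟩ x = x + φ (x : V) • (⟨v, hv⟩ : ↥(Nsp K)) := by
  apply Subtype.ext
  rw [resN_apply, tv_apply hφ.1]
  simp

/-- a property of the elements of `resN K`-images which holds on the generators `TvSet K` and is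
given by a subgroup holds on the whole range -/
theorem resN_mem_of_tvSet (hgen : K = Subgroup.closure (TvSet K))
    (I : Subgroup (↥(Nsp K) ≃ₗ[ZMod p] ↥(Nsp K)))
    (h : ∀ (t : V ≃ₗ[ZMod p] V) (ht : t ∈ TvSet K), resN K ⟨t, ht.1⟩ ∈ I) (k : ↥K) :
    resN K k ∈ I := by
  have hsub : K ≤ (I.comap (resN K)).map K.subtype := by
    conv_lhs => rw [hgen]
    rw [Subgroup.closure_le]
    intro t ht
    exact ⟨⟨t, ht.1⟩, h t ht, rfl⟩
  obtain ⟨k', hk', hkk'⟩ := hsub k.2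
  have e : k' = k := Subtype.ext hkk'
  rw [← e]
  exact hk'

/-- **RSL**.  If all transvections of `Nsp K` come from `K`, then `K` induces `SL(Nsp K)`. -/
theorem range_resN_eq_SL [Finite V] (hgen : K = Subgroup.closure (TvSet K))
    (hext : ∀ (v : V) (hv : v ∈ Nsp K), v ≠ 0 → ∀ ψ : Dual (ZMod p) ↥(Nsp K), ψ ⟨v, hv⟩ = 0 →
      ∃ φ ∈ Phi K v, φ ∘ₗ (Nsp K).subtype = ψ)
    (hgsl : ∀ f : ↥(Nsp K) ≃ₗ[ZMod p] ↥(Nsp K),
      LinearMap.det (f : ↥(Nsp K) →ₗ[ZMod p] ↥(Nsp K)) = 1 →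
      f ∈ Subgroup.closure (LinearEquiv.transvections (ZMod p) ↥(Nsp K))) :
    ((resN K).range : Set (↥(Nsp K) ≃ₗ[ZMod p] ↥(Nsp K))) =
      {f : ↥(Nsp K) ≃ₗ[ZMod p] ↥(Nsp K) |
        LinearMap.det (f : ↥(Nsp K) →ₗ[ZMod p] ↥(Nsp K)) = 1} := by
  have hdet : ∀ k : ↥K, resN K k ∈
      (LinearEquiv.det : (↥(Nsp K) ≃ₗ[ZMod p] ↥(Nsp K)) →* (ZMod p)ˣ).ker := by
    apply resN_mem_of_tvSet hgen
    rintro t ⟨htK, φ, v, hφv, hφ0, hv0, rfl⟩
    have hφ : φ ∈ Phi K v := ⟨hφv, htK⟩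
    have hv : v ∈ Nsp K := isCtr_mem_Nsp (isCtr_iff.2 ⟨hv0, φ, hφ, hφ0⟩)
    have h0 : (φ ∘ₗ (Nsp K).subtype) ⟨v, hv⟩ = 0 := by
      rw [LinearMap.comp_apply]; exact hφv
    rw [MonoidHom.mem_ker, resN_tv hφ hv h0]
    exact LinearEquiv.transvection.det_eq_one h0
  ext f
  rw [SetLike.mem_coe, Set.mem_setOf_eq]
  constructor
  · rintro ⟨k, rfl⟩
    have h1 := MonoidHom.mem_ker.1 (hdet k)
    have h2 := congrArg Units.val h1
    rw [LinearEquiv.coe_det, Units.val_one] at h2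
    exact h2
  · intro hf
    refine (Subgroup.closure_le _).2 ?_ (hgsl f hf)
    rintro e ⟨ψ, w, hψw, rfl⟩
    by_cases hw : w = 0
    · subst hw
      rw [LinearEquiv.transvection.of_right_eq_zero]
      exact (resN K).range.one_mem
    · have hw' : (w : V) ≠ 0 := by
        intro h
        apply hw
        apply Subtype.ext
        exact h
      obtain ⟨φ, hφ, hφψ⟩ := hext w.1 w.2 hw' ψ hψw
      subst hφψ
      exact ⟨⟨tv φ w, hφ.2⟩, resN_tv hφ w.2 hψw⟩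

end Cfsg.Agent.Lib.Helper28.McLLeaf
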