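import Mathlib
import Cfsg.Prelude.Def_Solvable
import Cfsg.Agent.Lib.Helper26.McLDefs
import Cfsg.Agent.Lib.Helper26.McLBasic
import Cfsg.Agent.Lib.Helper26.McLMore
import Cfsg.Agent.Lib.Helper28.McLRSL

/-!
S5075 (McLaughlin over `ZMod p`; helper26's market), leaf **RSP** `range_resN_eq_Sp`.
-/

set_option autoImplicit false
set_option linter.unusedSectionVars false
set_option linter.unusedVariables false

namespace Cfsg.Agent.Lib.Helper28.McLLeaf
open Module Cfsg.Agent.Lib.Helper26.McL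

universe u
variable {p : ℕ} [Fact p.Prime] {V : Type u} [AddCommGroup V] [Module (ZMod p) V]
variable {K : Subgroup (V ≃ₗ[ZMod p] V)}

/-- the isometry group of a bilinear form, as a subgroup of `GL` -/
def isoSub {N : Type*} [AddCommGroup N] [Module (ZMod p) N] (B : LinearMap.BilinForm (ZMod p) N) :
    Subgroup (N ≃ₗ[ZMod p] N) where
  carrier := {f | ∀ x y, B (f x) (f y) = B x y}
  one_mem' := fun x y => rfl
  mul_mem' := by
    intro a b ha hb x y
    rw [LinearEquiv.mul_apply, LinearEquiv.mul_apply, ha, hb]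
  inv_mem' := by
    intro a ha x y
    have h := ha ((a⁻¹ : N ≃ₗ[ZMod p] N) x) ((a⁻¹ : N ≃ₗ[ZMod p] N) y)
    have e : ∀ z, a ((a⁻¹ : N ≃ₗ[ZMod p] N) z) = z := fun z => by
      rw [← LinearEquiv.mul_apply, mul_inv_cancel]; rfl
    rw [e, e] at h
    exact h.symm

/-- a symplectic transvection is an isometry -/
theorem sympl_tv_isom {N : Type*} [AddCommGroup N] [Module (ZMod p) N]
    (B : LinearMap.BilinForm (ZMod p) N) (hA : B.IsAlt) (w : N) (c : ZMod p) (x y : N) :
    B (x + (c * B w x) • w) (y + (c * B w y) • w) = B x y := by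
  have h1 : B x w = - B w x := (hA.neg_eq x w).symm ▸ by rw [neg_neg]
  have h2 : B w w = 0 := hA w
  simp only [map_add, map_smul, LinearMap.add_apply, LinearMap.smul_apply, smul_eq_mul, h1, h2]
  ring

/-- **RSP**.  If `Phi K v` restricts to `span {B v}` for all `v ≠ 0` in `Nsp K`, then `K` induces the
full isometry group of `B`. -/
theorem range_resN_eq_Sp [Finite V] (hgen : K = Subgroup.closure (TvSet K))
    (B : LinearMap.BilinForm (ZMod p) ↥(Nsp K)) (hA : B.IsAlt) (hN : B.Nondegenerate)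
    (hB : ∀ (v : V) (hv : v ∈ Nsp K), v ≠ 0 →
      (Phi K v).map (LinearMap.dualMap (Nsp K).subtype) = Submodule.span (ZMod p) {B ⟨v, hv⟩})
    (hgsp : ∀ f : ↥(Nsp K) ≃ₗ[ZMod p] ↥(Nsp K), (∀ x y, B (f x) (f y) = B x y) →
      f ∈ Subgroup.closure {g : ↥(Nsp K) ≃ₗ[ZMod p] ↥(Nsp K) |
        ∃ (c : ZMod p) (v : ↥(Nsp K)), ∀ x, g x = x + (c * B x v) • v}) :
    ((resN K).range : Set (↥(Nsp K) ≃ₗ[ZMod p] ↥(Nsp K))) =
      {f : ↥(Nsp K) ≃ₗ[ZMod p] ↥(Nsp K) | ∀ x y, B (f x) (f y) = B x y} := by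
  have hiso : ∀ k : ↥K, resN K k ∈ isoSub B := by
    apply resN_mem_of_tvSet hgen
    rintro t ⟨htK, φ, v, hφv, hφ0, hv0, rfl⟩
    have hφ : φ ∈ Phi K v := ⟨hφv, htK⟩
    have hv : v ∈ Nsp K := isCtr_mem_Nsp (isCtr_iff.2 ⟨hv0, φ, hφ, hφ0⟩)
    have hmem : LinearMap.dualMap (Nsp K).subtype φ ∈
        (Phi K v).map (LinearMap.dualMap (Nsp K).subtype) := Submodule.mem_map_of_mem hφ
    rw [hB v hv hv0, Submodule.mem_span_singleton] at hmem
    obtain ⟨c, hc⟩ := hmem
    have hφx : ∀ x : ↥(Nsp K), φ (x : V) = c * B ⟨v, hv⟩ x := by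
      intro x
      have := congrArg (fun f : Dual (ZMod p) ↥(Nsp K) => f x) hc
      simp only [LinearMap.smul_apply, smul_eq_mul, LinearMap.dualMap_apply,
        Submodule.subtype_apply] at this
      exact this.symm
    intro x y
    rw [resN_tv_apply hφ hv, resN_tv_apply hφ hv, hφx, hφx]
    exact sympl_tv_isom B hA _ c x y
  ext f
  rw [SetLike.mem_coe, Set.mem_setOf_eq]
  constructor
  · rintro ⟨k, rfl⟩
    exact hiso k
  · intro hf
    refine (Subgroup.closure_le _).2 ?_ (hgsp f hf)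
    rintro g ⟨c, w, hg⟩
    by_cases hw : w = 0
    · have : g = 1 := by
        apply LinearEquiv.ext
        intro x
        rw [hg x, hw, smul_zero, add_zero]
        rfl
      rw [this]
      exact (resN K).range.one_mem
    · have hw' : (w : V) ≠ 0 := by
        intro h
        apply hw
        apply Subtype.ext
        exact h
      have hmem : (-c) • B w ∈ Submodule.span (ZMod p) {B (⟨w.1, w.2⟩ : ↥(Nsp K))} :=
        Submodule.smul_mem _ _ (Submodule.mem_span_singleton_self _)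
      rw [← hB w.1 w.2 hw'] at hmem
      obtain ⟨φ, hφ, hφψ⟩ := Submodule.mem_map.1 hmem
      have hφx : ∀ x : ↥(Nsp K), φ (x : V) = -c * B w x := by
        intro x
        have := congrArg (fun f : Dual (ZMod p) ↥(Nsp K) => f x) hφψ
        simp only [LinearMap.smul_apply, smul_eq_mul, LinearMap.dualMap_apply,
          Submodule.subtype_apply] at this
        exact this
      refine ⟨⟨tv φ w, hφ.2⟩, ?_⟩
      apply LinearEquiv.ext
      intro x
      rw [resN_tv_apply hφ w.2, hg x, hφx]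
      have h1 : B w x = - B x w := (hA.neg_eq w x).symm ▸ by rw [neg_neg]
      rw [h1]
      congr 1
      rw [neg_mul_neg]

end Cfsg.Agent.Lib.Helper28.McLLeaf
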