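import Mathlib
import Cfsg.Prelude.Def_Solvable
import Cfsg.Agent.Lib.Helper26.McLDefs
import Cfsg.Agent.Lib.Helper26.McLBasic
import Cfsg.Agent.Lib.Helper26.McLMore
import Cfsg.Agent.Lib.Helper12.Cores

/-!
S5075 (McLaughlin over `ZMod p`; helper26's market), leaf **U** `eq_one_of_chain` (the unipotent lemma).
-/

set_option autoImplicit false
set_option linter.unusedSectionVars false
set_option linter.unusedVariables false

namespace Cfsg.Agent.Lib.Helper28.McLLeaf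
open Module Cfsg.Agent.Lib.Helper26.McL

universe u
variable {p : ℕ} [Fact p.Prime] {V : Type u} [AddCommGroup V] [Module (ZMod p) V]
variable {K : Subgroup (V ≃ₗ[ZMod p] V)}

/-- the chain condition: `g` acts trivially on the three sections of `0 ≤ U₁ ≤ U₂ ≤ V` -/
def ChainTriv (U₁ U₂ : Submodule (ZMod p) V) (g : V ≃ₗ[ZMod p] V) : Prop :=
  (∀ x, g x - x ∈ U₂) ∧ (∀ x ∈ U₂, g x - x ∈ U₁) ∧ (∀ x ∈ U₁, g x = x)

/-- the iterates of an element acting trivially on the sections of a chain of length three -/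
theorem chainTriv_pow_apply {U₁ U₂ : Submodule (ZMod p) V} {g : V ≃ₗ[ZMod p] V}
    (hg : ChainTriv U₁ U₂ g) (n : ℕ) (x : V) :
    (g ^ n) x = x + n • (g x - x) + (n.choose 2) • (g (g x - x) - (g x - x)) := by
  obtain ⟨h3, h2, h1⟩ := hg
  induction n with
  | zero => simp
  | succ n ih =>
    rw [pow_succ', LinearEquiv.mul_apply, ih, map_add, map_add, map_nsmul, map_nsmul]
    have e1 : g (g (g x - x) - (g x - x)) = g (g x - x) - (g x - x) := h1 _ (h2 _ (h3 x))
    rw [e1]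
    have e2 : (n + 1).choose 2 = n + n.choose 2 := by
      rw [Nat.choose_succ_succ' n 1, Nat.choose_one_right]
    rw [e2, add_nsmul, add_nsmul, one_nsmul]
    have e3 : n • g (g x - x) = n • (g (g x - x) - (g x - x)) + n • (g x - x) := by
      rw [← nsmul_add, sub_add_cancel]
    rw [e3]
    abel

/-- such an element has order dividing `p ^ 2` -/
theorem chainTriv_pow_eq_one {U₁ U₂ : Submodule (ZMod p) V} {g : V ≃ₗ[ZMod p] V}
    (hg : ChainTriv U₁ U₂ g) : g ^ (p ^ 2) = 1 := by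
  have hp : p.Prime := Fact.out
  apply LinearEquiv.ext
  intro x
  rw [chainTriv_pow_apply hg]
  have e1 : ∀ y : V, (p ^ 2) • y = 0 := by
    intro y
    rw [← Nat.cast_smul_eq_nsmul (ZMod p)]
    have : ((p ^ 2 : ℕ) : ZMod p) = 0 := by
      rw [ZMod.natCast_eq_zero_iff]
      exact dvd_pow_self p (by norm_num)
    rw [this, zero_smul]
  have e2 : ∀ y : V, ((p ^ 2).choose 2) • y = 0 := by
    intro y
    rw [← Nat.cast_smul_eq_nsmul (ZMod p)]
    have : (((p ^ 2).choose 2 : ℕ) : ZMod p) = 0 := by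
      rw [ZMod.natCast_eq_zero_iff]
      apply hp.dvd_choose_pow (by norm_num)
      have h2 : 2 ≤ p := hp.two_le
      nlinarith
    rw [this, zero_smul]
  rw [e1, e2]
  simp

/-- **U**.  `O_p(K) = 1`, `0 ≤ U₁ ≤ U₂ ≤ V` a `K`-invariant chain; an element of `K` acting trivially
on the three sections is `1`. -/
theorem eq_one_of_chain (hcore : Cfsg.pCore p ↥K = ⊥)
    (U₁ U₂ : Submodule (ZMod p) V) (h12 : U₁ ≤ U₂)
    (hU₁ : ∀ g ∈ K, ∀ x ∈ U₁, g x ∈ U₁) (hU₂ : ∀ g ∈ K, ∀ x ∈ U₂, g x ∈ U₂)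
    {g : V ≃ₗ[ZMod p] V} (hg : g ∈ K) (h3 : ∀ x, g x - x ∈ U₂) (h2 : ∀ x ∈ U₂, g x - x ∈ U₁)
    (h1 : ∀ x ∈ U₁, g x = x) : g = 1 := by
  -- the subgroup of `K` of the elements acting trivially on the sections
  let M : Subgroup ↥K :=
    { carrier := {k | ChainTriv U₁ U₂ (k : V ≃ₗ[ZMod p] V)}
      one_mem' := by
        refine ⟨fun x => ?_, fun x _ => ?_, fun x _ => rfl⟩
        · simp
        · simp
      mul_mem' := by
        rintro a b ⟨a3, a2, a1⟩ ⟨b3, b2, b1⟩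
        refine ⟨fun x => ?_, fun x hx => ?_, fun x hx => ?_⟩
        · have e : ((a * b : ↥K) : V ≃ₗ[ZMod p] V) x - x
              = ((a : V ≃ₗ[ZMod p] V) ((b : V ≃ₗ[ZMod p] V) x) - (b : V ≃ₗ[ZMod p] V) x)
                + ((b : V ≃ₗ[ZMod p] V) x - x) := by
            rw [Subgroup.coe_mul, LinearEquiv.mul_apply]; abel
          rw [e]
          exact U₂.add_mem (a3 _) (b3 _)
        · have e : ((a * b : ↥K) : V ≃ₗ[ZMod p] V) x - x
              = ((a : V ≃ₗ[ZMod p] V) ((b : V ≃ₗ[ZMod p] V) x) - (b : V ≃ₗ[ZMod p] V) x)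
                + ((b : V ≃ₗ[ZMod p] V) x - x) := by
            rw [Subgroup.coe_mul, LinearEquiv.mul_apply]; abel
          rw [e]
          exact U₁.add_mem (a2 _ (hU₂ _ b.2 x hx)) (b2 x hx)
        · rw [Subgroup.coe_mul, LinearEquiv.mul_apply, b1 x hx, a1 x hx]
      inv_mem' := by
        rintro a ⟨a3, a2, a1⟩
        have hinv : ∀ x : V, (a : V ≃ₗ[ZMod p] V)
            (((a⁻¹ : ↥K) : V ≃ₗ[ZMod p] V) x) = x := by
          intro x
          rw [Subgroup.coe_inv]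
          exact apply_inv_apply' _ x
        have key : ∀ x : V, ((a⁻¹ : ↥K) : V ≃ₗ[ZMod p] V) x - x
            = -((a : V ≃ₗ[ZMod p] V) (((a⁻¹ : ↥K) : V ≃ₗ[ZMod p] V) x)
                - ((a⁻¹ : ↥K) : V ≃ₗ[ZMod p] V) x) := by
          intro x
          rw [hinv x]; abel
        refine ⟨fun x => ?_, fun x hx => ?_, fun x hx => ?_⟩
        · rw [key]
          exact U₂.neg_mem (a3 _)
        · rw [key]
          exact U₁.neg_mem (a2 _ (hU₂ _ (a⁻¹).2 x hx))
        · have h := a1 x hx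
          have h' := congrArg (((a⁻¹ : ↥K) : V ≃ₗ[ZMod p] V)) h
          rw [Subgroup.coe_inv, inv_apply_apply'] at h'
          rw [Subgroup.coe_inv]
          exact h'.symm }
  have hMmem : ∀ k : ↥K, k ∈ M ↔ ChainTriv U₁ U₂ (k : V ≃ₗ[ZMod p] V) := fun k => Iff.rfl
  have hnormal : M.Normal := by
    constructor
    intro a ha k
    rw [hMmem] at ha ⊢
    obtain ⟨a3, a2, a1⟩ := ha
    have e : ∀ x : V, ((k * a * k⁻¹ : ↥K) : V ≃ₗ[ZMod p] V) x - x
        = (k : V ≃ₗ[ZMod p] V) ((a : V ≃ₗ[ZMod p] V) (((k⁻¹ : ↥K) : V ≃ₗ[ZMod p] V) x)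
            - ((k⁻¹ : ↥K) : V ≃ₗ[ZMod p] V) x) := by
      intro x
      rw [Subgroup.coe_mul, Subgroup.coe_mul, LinearEquiv.mul_apply, LinearEquiv.mul_apply,
        map_sub]
      congr 1
      rw [Subgroup.coe_inv]
      exact (apply_inv_apply' _ x).symm
    refine ⟨fun x => ?_, fun x hx => ?_, fun x hx => ?_⟩
    · rw [e]
      exact hU₂ _ k.2 _ (a3 _)
    · rw [e]
      exact hU₁ _ k.2 _ (a2 _ (hU₂ _ (k⁻¹).2 x hx))
    · have h := e x
      rw [a1 _ (hU₁ _ (k⁻¹).2 x hx), sub_self, map_zero] at h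
      exact sub_eq_zero.1 h
  have hpg : IsPGroup p ↥M := by
    intro k
    refine ⟨2, ?_⟩
    apply Subtype.ext
    apply Subtype.ext
    rw [Subgroup.coe_pow, Subgroup.coe_pow, Subgroup.coe_one, Subgroup.coe_one]
    exact chainTriv_pow_eq_one ((hMmem k.1).1 k.2)
  have hle := Cfsg.Agent.Lib.Helper12.le_pCore' p M hnormal hpg
  rw [hcore] at hle
  have hgM : (⟨g, hg⟩ : ↥K) ∈ M := (hMmem _).2 ⟨h3, h2, h1⟩
  have h := (Subgroup.mem_bot.1 (hle hgM))
  exact congrArg Subtype.val h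

end Cfsg.Agent.Lib.Helper28.McLLeaf
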