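import Mathlib
import Cfsg.Prelude.Def_Solvable
import Cfsg.Agent.Lib.Helper26.McLDefs
import Cfsg.Agent.Lib.Helper26.McLBasic
import Cfsg.Agent.Lib.Helper26.McLMore

/-!
S5075 (McLaughlin over `ZMod p`; helper26's market), leaf **LA** `isInternal_of_isCompl` (generic field).
-/

set_option autoImplicit false
set_option linter.unusedSectionVars false
set_option linter.unusedVariables false

namespace Cfsg.Agent.Lib.Helper28.McLLeaf
open Module Cfsg.Agent.Lib.Helper26.McL

universe u
variable {p : ℕ} [Fact p.Prime] {V : Type u} [AddCommGroup V] [Module (ZMod p) V]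
variable {K : Subgroup (V ≃ₗ[ZMod p] V)}

/-- **LA** (generic field).  `N j ⊕ W j = V` for all `j` and `N i ≤ W j` for `i ≠ j` give
`V = (⨅ j, W j) ⊕ N 0 ⊕ ... ⊕ N (n-1)`. -/
theorem isInternal_of_isCompl {F : Type*} [Field F] {M : Type*} [AddCommGroup M] [Module F M]
    {n : ℕ} (N W : Fin n → Submodule F M) (hc : ∀ j, IsCompl (N j) (W j))
    (hle : ∀ i j, i ≠ j → N i ≤ W j) :
    DirectSum.IsInternal
      (Fin.cons (α := fun _ => Submodule F M) (⨅ j, W j) N : Fin (n + 1) → Submodule F M) := by
  classical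
  rw [DirectSum.isInternal_submodule_iff_iSupIndep_and_iSup_eq_top]
  obtain ⟨A, hA⟩ : ∃ A : Fin (n + 1) → Submodule F M,
      A = Fin.cons (α := fun _ => Submodule F M) (⨅ j, W j) N := ⟨_, rfl⟩
  rw [← hA]
  have hA0 : A 0 = ⨅ j, W j := by rw [hA, Fin.cons_zero]
  have hAs : ∀ k : Fin n, A k.succ = N k := fun k => by rw [hA, Fin.cons_succ]
  obtain ⟨π, hπ⟩ : ∃ π : Fin n → (M →ₗ[F] M), π = fun j => (N j).projection (W j) (hc j) :=
    ⟨_, rfl⟩
  have hπmem : ∀ j x, π j x ∈ N j := fun j x => by
    rw [hπ]; exact Submodule.projection_apply_mem (hc j) x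
  have hπN : ∀ j x, x ∈ N j → π j x = x := fun j x hx => by
    rw [hπ]; exact Submodule.projection_apply_of_mem_left (hc j) hx
  have hπW : ∀ j x, π j x = 0 ↔ x ∈ W j := fun j x => by
    rw [hπ]; exact Submodule.projection_apply_eq_zero_iff (hc j)
  obtain ⟨P, hP⟩ : ∃ P : M →ₗ[F] M, P = ∑ j, π j := ⟨_, rfl⟩
  have hPapp : ∀ x, P x = ∑ j, π j x := fun x => by rw [hP, LinearMap.sum_apply]
  have hπP : ∀ i x, π i (P x) = π i x := by
    intro i x
    rw [hPapp, map_sum, Finset.sum_eq_single i]
    · exact hπN i _ (hπmem i x)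
    · intro j _ hji
      exact (hπW i _).2 (hle j i hji (hπmem j x))
    · intro h; exact absurd (Finset.mem_univ _) h
  have hPid : ∀ x ∈ ⨆ j, N j, P x = x := by
    have hsub : (⨆ j, N j) ≤ LinearMap.eqLocus P LinearMap.id := by
      apply iSup_le
      intro k x hx
      rw [LinearMap.mem_eqLocus, LinearMap.id_apply, hPapp, Finset.sum_eq_single k]
      · exact hπN k x hx
      · intro j _ hjk
        exact (hπW j x).2 (hle k j (Ne.symm hjk) hx)
      · intro h; exact absurd (Finset.mem_univ _) h
    intro x hx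
    exact hsub hx
  have hPW : ∀ x ∈ ⨅ j, W j, P x = 0 := by
    intro x hx
    rw [hPapp]
    apply Finset.sum_eq_zero
    intro j _
    exact (hπW j x).2 ((Submodule.mem_iInf _).1 hx j)
  constructor
  · rw [iSupIndep_def]
    intro i
    refine Fin.cases ?_ (fun k => ?_) i
    · have hle' : (⨆ (j : Fin (n + 1)) (_ : j ≠ 0), A j) ≤ ⨆ k, N k := by
        apply iSup₂_le
        intro j hj
        obtain ⟨k, rfl⟩ := Fin.exists_succ_eq_of_ne_zero hj
        rw [hAs]
        exact le_iSup N k
      refine Disjoint.mono_right hle' ?_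
      rw [hA0, Submodule.disjoint_def]
      intro x hx1 hx2
      rw [← hPid x hx2, hPW x hx1]
    · have hle' : (⨆ (j : Fin (n + 1)) (_ : j ≠ k.succ), A j) ≤ W k := by
        apply iSup₂_le
        intro j
        refine Fin.cases ?_ (fun k' => ?_) j
        · intro _
          rw [hA0]
          exact iInf_le W k
        · intro hj
          rw [hAs]
          apply hle k' k
          intro h
          exact hj (by rw [h])
      rw [hAs]
      exact (hc k).disjoint.mono_right hle'
  · rw [eq_top_iff]
    intro x _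
    have hx : x = (x - P x) + P x := by abel
    rw [hx]
    apply Submodule.add_mem
    · have h1 : x - P x ∈ ⨅ j, W j := by
        rw [Submodule.mem_iInf]
        intro i
        rw [← hπW i, map_sub, hπP, sub_self]
      rw [← hA0] at h1
      exact (le_iSup A 0) h1
    · rw [hPapp]
      apply Submodule.sum_mem
      intro j _
      have h1 : π j x ∈ A j.succ := by rw [hAs]; exact hπmem j x
      exact (le_iSup A j.succ) h1

end Cfsg.Agent.Lib.Helper28.McLLeaf
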