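import Mathlib
import Cfsg.Prelude.Def_Solvable
import Cfsg.Agent.Lib.Helper26.McLDefs
import Cfsg.Agent.Lib.Helper26.McLBasic
import Cfsg.Agent.Lib.Helper26.McLMore

/-!
S5075 (McLaughlin over `ZMod p`; helper26's market), leaf **T** `exists_tv_of_pow_eq_one`.
-/

set_option autoImplicit false
set_option linter.unusedSectionVars false
set_option linter.unusedVariables false

namespace Cfsg.Agent.Lib.Helper28.McLLeaf
open Module Cfsg.Agent.Lib.Helper26.McL

universe u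
variable {p : ℕ} [Fact p.Prime] {V : Type u} [AddCommGroup V] [Module (ZMod p) V]
variable {K : Subgroup (V ≃ₗ[ZMod p] V)}

/-- **T**.  `t^p = 1` and `dim ker (t - 1) + 1 = dim V` ⟹ `t = τ(φ,v)`, `φ v = 0`, `φ, v ≠ 0`. -/
theorem exists_tv_of_pow_eq_one [Finite V] {t : V ≃ₗ[ZMod p] V} (ht : t ^ p = 1)
    (hfix : finrank (ZMod p) ↥(LinearMap.ker ((t : V →ₗ[ZMod p] V) - LinearMap.id)) + 1 =
      finrank (ZMod p) V) :
    ∃ (φ : Dual (ZMod p) V) (v : V), φ v = 0 ∧ φ ≠ 0 ∧ v ≠ 0 ∧ t = tv φ v := by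
  obtain ⟨N, hN⟩ : ∃ N : V →ₗ[ZMod p] V, N = (t : V →ₗ[ZMod p] V) - LinearMap.id := ⟨_, rfl⟩
  rw [← hN] at hfix
  have hNapp : ∀ x, N x = t x - x := fun x => by
    rw [hN, LinearMap.sub_apply, LinearEquiv.coe_coe, LinearMap.id_apply]
  have hrk : finrank (ZMod p) ↥(LinearMap.range N) = 1 := by
    have h := LinearMap.finrank_range_add_finrank_ker N
    omega
  obtain ⟨⟨v, hvr⟩, hv0, hv⟩ := finrank_eq_one_iff'.1 hrk
  have hv0' : v ≠ 0 := by
    intro h
    apply hv0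
    apply Subtype.ext
    exact h
  -- every `N x` is a multiple of `v`
  have hmul : ∀ x, ∃ c : ZMod p, N x = c • v := by
    intro x
    obtain ⟨c, hc⟩ := hv ⟨N x, LinearMap.mem_range_self N x⟩
    exact ⟨c, (congrArg Subtype.val hc).symm⟩
  -- a functional with `ψ v = 1`
  obtain ⟨ψ, hψ⟩ : ∃ ψ : Dual (ZMod p) V, ψ v = 1 := by
    obtain ⟨ψ₀, hψ₀⟩ : ∃ ψ₀ : Dual (ZMod p) V, ψ₀ v ≠ 0 := by
      by_contra hcon
      push Not at hcon
      exact hv0' ((Module.forall_dual_apply_eq_zero_iff (ZMod p) v).1 hcon)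
    refine ⟨(ψ₀ v)⁻¹ • ψ₀, ?_⟩
    rw [LinearMap.smul_apply, smul_eq_mul, inv_mul_cancel₀ hψ₀]
  obtain ⟨φ, hφ⟩ : ∃ φ : Dual (ZMod p) V, φ = ψ ∘ₗ N := ⟨_, rfl⟩
  have hNφ : ∀ x, N x = φ x • v := by
    intro x
    obtain ⟨c, hc⟩ := hmul x
    rw [hφ, LinearMap.comp_apply, hc, map_smul, hψ, smul_eq_mul, mul_one]
  have htx : ∀ x, t x = x + φ x • v := by
    intro x
    rw [← hNφ x, hNapp]
    abel
  have hφ0 : φ ≠ 0 := by
    obtain ⟨x₀, hx₀⟩ := LinearMap.mem_range.1 hvr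
    intro h
    apply hv0'
    rw [← hx₀, hNφ x₀, h, LinearMap.zero_apply, zero_smul]
  have hφv : φ v = 0 := by
    have hpow : ∀ n : ℕ, (t ^ n) v = (1 + φ v) ^ n • v := by
      intro n
      induction n with
      | zero => simp
      | succ n ih =>
        rw [pow_succ', LinearEquiv.mul_apply, ih, map_smul, htx v, pow_succ, mul_smul, add_smul,
          one_smul]
    have h1 := hpow p
    rw [ht, LinearEquiv.coe_one, id_eq, ZMod.pow_card] at h1
    have h2 : φ v • v = 0 := by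
      have h3 : v = v + φ v • v := by
        rw [add_smul, one_smul] at h1
        exact h1
      have h4 : v + 0 = v + φ v • v := by rw [add_zero]; exact h3
      exact (add_left_cancel h4).symm
    rcases smul_eq_zero.1 h2 with h3 | h3
    · exact h3
    · exact absurd h3 hv0'
  refine ⟨φ, v, hφv, hφ0, hv0', ?_⟩
  apply LinearEquiv.ext
  intro x
  rw [tv_apply hφv, htx]

end Cfsg.Agent.Lib.Helper28.McLLeaf
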