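/-
helper28: leaf of S2140 (helper27): all transvections `T v f` of `SL ι F`, `3 ≤ |ι|`, are conjugate,
in the form "the pairs (v, f) with v ≠ 0, f ≠ 0, f ⬝ᵥ v = 0 form one orbit".
-/
import Cfsg.Agent.Lib.Helper27.MinDegB

set_option autoImplicit false

namespace Cfsg.Agent.Lib.Helper28.MinDegLeaf

open Matrix Cfsg.Agent.Lib.Helper27.MinDeg

variable {ι : Type*} [Fintype ι] [DecidableEq ι] {F : Type*} [Field F]

/-- a nonzero `2 × 2` minor lets one solve `x ⬝ᵥ u = 1 = y ⬝ᵥ u`. -/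
theorem exists_dot_eq_one_of_minor {x y : ι → F} {i j : ι} (hD : x i * y j - x j * y i ≠ 0) :
    ∃ u : ι → F, x ⬝ᵥ u = 1 ∧ y ⬝ᵥ u = 1 := by
  have hij : i ≠ j := by
    rintro rfl
    exact hD (sub_self _)
  refine ⟨Pi.single i ((y j - x j) / (x i * y j - x j * y i)) +
    Pi.single j ((x i - y i) / (x i * y j - x j * y i)), ?_, ?_⟩
  · rw [dotProduct_add, dotProduct_single, dotProduct_single, ← mul_div_assoc, ← mul_div_assoc,
      ← add_div, div_eq_one_iff_eq hD]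
    ring
  · rw [dotProduct_add, dotProduct_single, dotProduct_single, ← mul_div_assoc, ← mul_div_assoc,
      ← add_div, div_eq_one_iff_eq hD]
    ring

omit [Fintype ι] [DecidableEq ι] in
/-- if all minors of `(x, y)` vanish, `y ≠ 0` and `(x, z)` has a nonzero minor, then so has `(z, y)`. -/
theorem exists_minor_of_dep {x y z : ι → F} (hy : y ≠ 0)
    (hdep : ∀ a b : ι, x a * y b - x b * y a = 0) {i j : ι} (hD : x i * z j - x j * z i ≠ 0) :
    ∃ a b : ι, z a * y b - z b * y a ≠ 0 := by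
  by_contra hcon
  push Not at hcon
  obtain ⟨m, hm⟩ := Function.ne_iff.1 hy
  have hm' : y m ≠ 0 := hm
  apply hD
  have e1 := hdep i m
  have e2 := hcon j m
  have e3 := hdep j m
  have e4 := hcon i m
  have : y m * y m * (x i * z j - x j * z i) = 0 := by
    linear_combination (z j * y m) * e1 + (x m * y i) * e2 - (z i * y m) * e3 - (x m * y j) * e4
  rcases mul_eq_zero.1 this with h | h
  · exact absurd (mul_self_eq_zero.1 h) hm'
  · exact h

/-- one transvection moves `v` to `v'` if they have a nonzero minor. -/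
theorem exists_mulVec_eq_of_minor {v v' : ι → F} {i j : ι} (hD : v i * v' j - v j * v' i ≠ 0) :
    ∃ g : Matrix.SpecialLinearGroup ι F, (g : Matrix ι ι F) *ᵥ v = v' := by
  obtain ⟨φ, h1, h2⟩ := exists_dot_eq_one_of_minor hD
  rw [dotProduct_comm] at h1 h2
  have h0 : φ ⬝ᵥ (v' - v) = 0 := by rw [dotProduct_sub, h1, h2, sub_self]
  refine ⟨T (v' - v) φ, ?_⟩
  rw [T_mulVec h0, h1, one_smul, add_sub_cancel]

/-- `SL` is transitive on nonzero vectors (two coordinates suffice). -/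
theorem exists_mulVec_eq (h2 : 2 ≤ Fintype.card ι) {v v' : ι → F} (hv : v ≠ 0) (hv' : v' ≠ 0) :
    ∃ g : Matrix.SpecialLinearGroup ι F, (g : Matrix ι ι F) *ᵥ v = v' := by
  by_cases hm : ∃ i j : ι, v i * v' j - v j * v' i ≠ 0
  · obtain ⟨i, j, hD⟩ := hm
    exact exists_mulVec_eq_of_minor hD
  · push Not at hm
    obtain ⟨k, hk⟩ := Function.ne_iff.1 hv
    have hk' : v k ≠ 0 := hk
    obtain ⟨l, hl⟩ : ∃ l : ι, l ≠ k := Fintype.exists_ne_of_one_lt_card (lt_of_lt_of_le one_lt_two h2) k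
    have hD : v k * (Pi.single l (1 : F) : ι → F) l - v l * (Pi.single l (1 : F) : ι → F) k ≠ 0 := by
      rw [Pi.single_eq_same, Pi.single_eq_of_ne hl.symm, mul_one, mul_zero, sub_zero]
      exact hk'
    obtain ⟨a, b, hD'⟩ := exists_minor_of_dep hv' hm hD
    obtain ⟨g1, hg1⟩ := exists_mulVec_eq_of_minor hD
    obtain ⟨g2, hg2⟩ := exists_mulVec_eq_of_minor hD'
    refine ⟨g2 * g1, ?_⟩
    rw [Matrix.SpecialLinearGroup.coe_mul, ← mulVec_mulVec, hg1, hg2]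

/-- one transvection fixing `w` moves the functional `φ` to `ψ` if they have a nonzero minor. -/
theorem exists_fix_of_minor {w φ ψ : ι → F} (hφw : φ ⬝ᵥ w = 0) (hψw : ψ ⬝ᵥ w = 0) {i j : ι}
    (hD : φ i * ψ j - φ j * ψ i ≠ 0) :
    ∃ g : Matrix.SpecialLinearGroup ι F, (g : Matrix ι ι F) *ᵥ w = w ∧
      φ ᵥ* ((g⁻¹ : Matrix.SpecialLinearGroup ι F) : Matrix ι ι F) = ψ := by
  obtain ⟨u, h1, h2⟩ := exists_dot_eq_one_of_minor hD
  have h0 : (φ - ψ) ⬝ᵥ u = 0 := by rw [sub_dotProduct, h1, h2, sub_self]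
  refine ⟨T u (φ - ψ), ?_, ?_⟩
  · rw [T_mulVec h0, sub_dotProduct, hφw, hψw, sub_self, zero_smul, add_zero]
  · have e : ψ ᵥ* ((T u (φ - ψ) : Matrix.SpecialLinearGroup ι F) : Matrix ι ι F) = φ := by
      rw [vecMul_T h0, h2, one_smul, add_sub_cancel]
    calc φ ᵥ* (((T u (φ - ψ))⁻¹ : Matrix.SpecialLinearGroup ι F) : Matrix ι ι F)
        = (ψ ᵥ* ((T u (φ - ψ) : Matrix.SpecialLinearGroup ι F) : Matrix ι ι F)) ᵥ*
          (((T u (φ - ψ))⁻¹ : Matrix.SpecialLinearGroup ι F) : Matrix ι ι F) := by rw [e]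
      _ = ψ := by rw [vecMul_vecMul, coe_mul_coe_inv, vecMul_one]

/-- a third functional killing `w`, independent of `φ` (needs three coordinates). -/
theorem exists_third (h3 : 3 ≤ Fintype.card ι) {w φ : ι → F} (hw : w ≠ 0) (hφ : φ ≠ 0)
    (hφw : φ ⬝ᵥ w = 0) :
    ∃ χ : ι → F, χ ⬝ᵥ w = 0 ∧ ∃ i j : ι, φ i * χ j - φ j * χ i ≠ 0 := by
  obtain ⟨k, hk⟩ := Function.ne_iff.1 hw
  have hk' : w k ≠ 0 := hk
  obtain ⟨j0, hj0k, hj0⟩ : ∃ j0 : ι, j0 ≠ k ∧ φ j0 ≠ 0 := by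
    by_contra hcon
    push Not at hcon
    apply hφ
    have hs : φ ⬝ᵥ w = φ k * w k := by
      rw [dotProduct]
      refine Finset.sum_eq_single k (fun b _ hb => ?_) (fun hn => absurd (Finset.mem_univ k) hn)
      rw [hcon b hb, zero_mul]
    rw [hφw] at hs
    have hφk : φ k = 0 := by
      rcases mul_eq_zero.1 hs.symm with h | h
      · exact h
      · exact absurd h hk'
    funext b
    by_cases hb : b = k
    · rw [hb, hφk]; rfl
    · rw [hcon b hb]; rfl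
  obtain ⟨l, hlk, hlj⟩ : ∃ l : ι, l ≠ k ∧ l ≠ j0 := by
    by_contra hcon
    push Not at hcon
    have hsub : (Finset.univ : Finset ι) ⊆ {k, j0} := by
      intro l _
      by_cases hl : l = k
      · rw [hl]; exact Finset.mem_insert_self _ _
      · rw [hcon l hl]; exact Finset.mem_insert_of_mem (Finset.mem_singleton_self _)
    have := Finset.card_le_card hsub
    rw [Finset.card_univ] at this
    have h2 : ({k, j0} : Finset ι).card ≤ 2 := Finset.card_le_two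
    omega
  refine ⟨Pi.single l (w k) - Pi.single k (w l), ?_, j0, l, ?_⟩
  · rw [sub_dotProduct, single_dotProduct, single_dotProduct, mul_comm, sub_self]
  · rw [Pi.sub_apply, Pi.sub_apply, Pi.single_eq_same, Pi.single_eq_of_ne hlk,
      Pi.single_eq_of_ne hlj.symm, Pi.single_eq_of_ne hj0k, sub_zero, sub_zero, mul_zero, sub_zero]
    exact mul_ne_zero hj0 hk'

/-- the stabiliser of `w` in `SL` is transitive on the nonzero functionals killing `w`. -/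
theorem exists_fix (h3 : 3 ≤ Fintype.card ι) {w φ ψ : ι → F} (hw : w ≠ 0) (hφ : φ ≠ 0) (hψ : ψ ≠ 0)
    (hφw : φ ⬝ᵥ w = 0) (hψw : ψ ⬝ᵥ w = 0) :
    ∃ g : Matrix.SpecialLinearGroup ι F, (g : Matrix ι ι F) *ᵥ w = w ∧
      φ ᵥ* ((g⁻¹ : Matrix.SpecialLinearGroup ι F) : Matrix ι ι F) = ψ := by
  by_cases hm : ∃ i j : ι, φ i * ψ j - φ j * ψ i ≠ 0
  · obtain ⟨i, j, hD⟩ := hm
    exact exists_fix_of_minor hφw hψw hD
  · push Not at hm
    obtain ⟨χ, hχw, i, j, hD⟩ := exists_third h3 hw hφ hφw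
    obtain ⟨a, b, hD'⟩ := exists_minor_of_dep hψ hm hD
    obtain ⟨g1, hg1, hg1'⟩ := exists_fix_of_minor hφw hχw hD
    obtain ⟨g2, hg2, hg2'⟩ := exists_fix_of_minor hχw hψw hD'
    refine ⟨g2 * g1, ?_, ?_⟩
    · rw [Matrix.SpecialLinearGroup.coe_mul, ← mulVec_mulVec, hg1, hg2]
    · rw [_root_.mul_inv_rev, Matrix.SpecialLinearGroup.coe_mul, ← vecMul_vecMul, hg1', hg2']

/-- **all transvections of `SL_n`, `n ≥ 3`, are conjugate**: the pairs `(v, f)` with `v ≠ 0`, `f ≠ 0`,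
`f ⬝ᵥ v = 0` form a single orbit. -/
theorem exists_conj_T {ι : Type*} [Fintype ι] [DecidableEq ι] {F : Type*} [Field F]
    (h3 : 3 ≤ Fintype.card ι) {v f v' f' : ι → F}
    (hv : v ≠ 0) (hf : f ≠ 0) (hv' : v' ≠ 0) (hf' : f' ≠ 0) (h : f ⬝ᵥ v = 0) (h' : f' ⬝ᵥ v' = 0) :
    ∃ g : Matrix.SpecialLinearGroup ι F, (g : Matrix ι ι F) *ᵥ v = v' ∧
      f ᵥ* ((g⁻¹ : Matrix.SpecialLinearGroup ι F) : Matrix ι ι F) = f' := by
  obtain ⟨g1, hg1⟩ := exists_mulVec_eq (le_trans (by norm_num) h3) hv hv'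
  have hf1w : (f ᵥ* ((g1⁻¹ : Matrix.SpecialLinearGroup ι F) : Matrix ι ι F)) ⬝ᵥ v' = 0 := by
    rw [← hg1, conj_dot, h]
  have hf1 : f ᵥ* ((g1⁻¹ : Matrix.SpecialLinearGroup ι F) : Matrix ι ι F) ≠ 0 := by
    intro h0
    apply hf
    have : (f ᵥ* ((g1⁻¹ : Matrix.SpecialLinearGroup ι F) : Matrix ι ι F)) ᵥ*
        (g1 : Matrix ι ι F) = 0 := by rw [h0, zero_vecMul]
    rwa [vecMul_vecMul, coe_inv_mul_coe, vecMul_one] at this
  obtain ⟨g2, hg2, hg2'⟩ := exists_fix h3 hv' hf1 hf' hf1w h'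
  refine ⟨g2 * g1, ?_, ?_⟩
  · rw [Matrix.SpecialLinearGroup.coe_mul, ← mulVec_mulVec, hg1, hg2]
  · rw [_root_.mul_inv_rev, Matrix.SpecialLinearGroup.coe_mul, ← vecMul_vecMul, hg2']

end Cfsg.Agent.Lib.Helper28.MinDegLeaf
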