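import Mathlib
import Cfsg.Agent.Lib.Helper28.StabLib
set_option autoImplicit false
set_option linter.unusedSectionVars false

/-!
Bounds for the order of a subgroup acting on a set, along a chain of point stabilisers.
-/

namespace Cfsg.Agent.Lib.Helper28.BitChain
open Cfsg.Agent.Lib.Helper28.StabLib

variable {Γ : Type*} [Group Γ] {X : Type*} [MulAction Γ X]

/-- the subgroup of the elements of `K` fixing all points of a list. -/
def Kp (K : Subgroup Γ) : List X → Subgroup Γ
  | [] => K
  | b :: pre => Kp K pre ⊓ MulAction.stabilizer Γ b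

theorem mem_Kp (K : Subgroup Γ) (pre : List X) (u : Γ) :
    u ∈ Kp K pre ↔ u ∈ K ∧ ∀ b ∈ pre, u • b = b := by
  induction pre with
  | nil => simp [Kp]
  | cons b pre ih =>
    show u ∈ Kp K pre ⊓ MulAction.stabilizer Γ b ↔ _
    rw [Subgroup.mem_inf, ih, MulAction.mem_stabilizer_iff]
    simp only [List.mem_cons, forall_eq_or_imp]
    tauto

theorem step_lower [Finite Γ] (K : Subgroup Γ) (b : X) (D : Finset X)
    (h : ∀ δ ∈ D, ∃ u ∈ K, u • b = δ) :
    D.card * Nat.card ↥(K ⊓ MulAction.stabilizer Γ b) ≤ Nat.card K := by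
  rw [← card_orbit_mul_card_inf K b]
  apply Nat.mul_le_mul_right
  have hsub : (D : Set X) ⊆ MulAction.orbit K b := by
    intro δ hδ
    obtain ⟨u, hu, rfl⟩ := h δ hδ
    exact ⟨⟨u, hu⟩, rfl⟩
  have := Set.ncard_le_ncard hsub (Set.finite_range _)
  rw [Set.ncard_coe_finset] at this
  rw [Nat.card_coe_set_eq]
  exact this

theorem step_upper [Finite Γ] (K : Subgroup Γ) (b : X) (S : Finset X)
    (h : ∀ u ∈ K, u • b ∈ S) :
    Nat.card K ≤ S.card * Nat.card ↥(K ⊓ MulAction.stabilizer Γ b) := by
  rw [← card_orbit_mul_card_inf K b]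
  apply Nat.mul_le_mul_right
  have hsub : MulAction.orbit K b ⊆ (S : Set X) := by
    rintro _ ⟨u, rfl⟩
    exact h u.1 u.2
  have := Set.ncard_le_ncard hsub (Finset.finite_toSet S)
  rw [Set.ncard_coe_finset] at this
  rw [Nat.card_coe_set_eq]
  exact this

/-- a subgroup of index at most two contains the commutator subgroup. -/
theorem commutator_le_of_card {G : Type*} [Group G] [Finite G] (H : Subgroup G)
    (h : Nat.card G ≤ 2 * Nat.card H) : commutator G ≤ H := by
  have hidx : H.index * Nat.card H = Nat.card G := H.index_mul_card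
  have hpos : 0 < Nat.card H := Nat.card_pos
  have hi : H.index ≤ 2 := by
    by_contra hlt
    have : 3 ≤ H.index := by omega
    have : 3 * Nat.card H ≤ Nat.card G := by
      rw [← hidx]
      exact Nat.mul_le_mul_right _ this
    omega
  have hi0 : H.index ≠ 0 := H.index_ne_zero_of_finite
  rcases (by omega : H.index = 1 ∨ H.index = 2) with h1 | h2
  · rw [Subgroup.index_eq_one] at h1
    rw [h1]
    exact le_top
  · have : H.Normal := Subgroup.normal_of_index_eq_two h2
    have hc : Nat.card (G ⧸ H) = 2 := h2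
    have : Fact (Nat.Prime 2) := ⟨Nat.prime_two⟩
    have : IsCyclic (G ⧸ H) := isCyclic_of_prime_card hc
    let _ : CommGroup (G ⧸ H) := IsCyclic.commGroup
    have := Abelianization.commutator_subset_ker (QuotientGroup.mk' H)
    rwa [QuotientGroup.ker_mk'] at this

end Cfsg.Agent.Lib.Helper28.BitChain
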