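import Mathlib
set_option autoImplicit false
set_option linter.unusedSectionVars false

/-!
Vectors and square matrices over `ZMod 2`, with rows and columns indexed by a finite type `ι`, encoded by
natural numbers: a vector is a bit mask, a matrix is the list of the bit masks of its columns.
-/

namespace Cfsg.Agent.Lib.Helper28.BitMat

/-- an enumeration of the index type by the numbers below `d`. -/
structure Idx (ι : Type) where
  d : ℕ
  pos : ι → ℕ
  lt : ∀ i, pos i < d
  inj : Function.Injective pos
  surj : ∀ k < d, ∃ i, pos i = k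

/-- a bit as an element of `ZMod 2`. -/
def bit (b : Bool) : ZMod 2 := if b then 1 else 0

theorem bit_xor (a b : Bool) : bit (a ^^ b) = bit a + bit b := by
  cases a <;> cases b <;> decide

theorem bit_and (a b : Bool) : bit (a && b) = bit a * bit b := by
  cases a <;> cases b <;> decide

theorem bit_false : bit false = 0 := rfl
theorem bit_true : bit true = 1 := rfl

theorem bit_inj {a b : Bool} (h : bit a = bit b) : a = b := by
  cases a <;> cases b <;> first | rfl | (exfalso; revert h; decide)

theorem eq_bit (x : ZMod 2) : x = bit (x == 1) := by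
  revert x; decide

variable {ι : Type} [Fintype ι] [DecidableEq ι] (I : Idx ι)

/-- the vector with bit mask `n`. -/
def vecOf (n : ℕ) : ι → ZMod 2 := fun i => bit (n.testBit (I.pos i))

/-- the matrix whose columns have the bit masks of the list. -/
def matOf (cs : List ℕ) : Matrix ι ι (ZMod 2) :=
  fun i j => bit ((cs.getD (I.pos j) 0).testBit (I.pos i))

/-- the product of the matrix with columns `cs` and the vector `n`, over the first `k` columns. -/
def mvAux (cs : List ℕ) (n : ℕ) : ℕ → ℕ
  | 0 => 0
  | k + 1 => mvAux cs n k ^^^ (if n.testBit k then cs.getD k 0 else 0)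

/-- matrix times vector on codes. -/
def mvN (cs : List ℕ) (n : ℕ) : ℕ := mvAux cs n I.d

/-- matrix product on codes. -/
def mulN (A B : List ℕ) : List ℕ := (List.range I.d).map fun k => mvN I A (B.getD k 0)

/-- the identity matrix. -/
def idCols : List ℕ := (List.range I.d).map fun k => 2 ^ k

/-- the sum of two matrices. -/
def addN (A B : List ℕ) : List ℕ := (List.range I.d).map fun k => A.getD k 0 ^^^ B.getD k 0

/-- the zero matrix. -/
def zeroCols : List ℕ := (List.range I.d).map fun _ => 0

theorem sum_pos (F : ℕ → ZMod 2) : ∑ j : ι, F (I.pos j) = ∑ k ∈ Finset.range I.d, F k := by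
  apply Finset.sum_bij (fun j _ => I.pos j)
  · intro j _
    exact Finset.mem_range.mpr (I.lt j)
  · intro a _ b _ h
    exact I.inj h
  · intro k hk
    obtain ⟨i, hi⟩ := I.surj k (Finset.mem_range.mp hk)
    exact ⟨i, Finset.mem_univ _, hi⟩
  · intro j _
    rfl

theorem testBit_mvAux (cs : List ℕ) (n b : ℕ) (k : ℕ) :
    bit ((mvAux cs n k).testBit b) =
      ∑ j ∈ Finset.range k, bit ((cs.getD j 0).testBit b) * bit (n.testBit j) := by
  induction k with
  | zero => simp [mvAux, bit]
  | succ k ih =>
    rw [Finset.sum_range_succ, ← ih]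
    show bit ((mvAux cs n k ^^^ (if n.testBit k then cs.getD k 0 else 0)).testBit b) = _
    rw [Nat.testBit_xor, bit_xor]
    congr 1
    by_cases h : n.testBit k
    · simp [h, bit]
    · simp [h, bit]

theorem mulVec_vecOf (cs : List ℕ) (n : ℕ) :
    (matOf I cs).mulVec (vecOf I n) = vecOf I (mvN I cs n) := by
  ext i
  show ∑ j, matOf I cs i j * vecOf I n j = _
  have := sum_pos I (fun k => bit ((cs.getD k 0).testBit (I.pos i)) * bit (n.testBit k))
  show ∑ j, bit ((cs.getD (I.pos j) 0).testBit (I.pos i)) * bit (n.testBit (I.pos j)) = _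
  rw [this]
  show _ = bit ((mvAux cs n I.d).testBit (I.pos i))
  rw [testBit_mvAux]

theorem getD_map_range {α : Type*} (f : ℕ → α) (d k : ℕ) (a : α) (hk : k < d) :
    ((List.range d).map f).getD k a = f k := by
  rw [List.getD_eq_getElem _ _ (by simpa using hk)]
  simp

theorem matOf_mulN (A B : List ℕ) : matOf I A * matOf I B = matOf I (mulN I A B) := by
  ext i j
  have h1 : (matOf I A * matOf I B) i j = ((matOf I A).mulVec (fun k => matOf I B k j)) i := rfl
  have h2 : (fun k => matOf I B k j) = vecOf I (B.getD (I.pos j) 0) := rfl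
  rw [h1, h2, mulVec_vecOf]
  show bit _ = bit _
  unfold mulN
  rw [getD_map_range _ _ _ _ (I.lt j)]

theorem matOf_idCols : matOf I (idCols I) = 1 := by
  ext i j
  show bit _ = _
  unfold idCols
  rw [getD_map_range _ _ _ _ (I.lt j), Nat.testBit_two_pow]
  by_cases h : i = j
  · subst h
    simp [bit]
  · have : I.pos j ≠ I.pos i := fun h' => h (I.inj h').symm
    simp [bit, h, this]

theorem matOf_addN (A B : List ℕ) : matOf I (addN I A B) = matOf I A + matOf I B := by
  ext i j
  show bit _ = bit _ + bit _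
  unfold addN
  rw [getD_map_range _ _ _ _ (I.lt j), Nat.testBit_xor, bit_xor]

theorem matOf_zeroCols : matOf I (zeroCols I) = 0 := by
  ext i j
  show bit _ = _
  unfold zeroCols
  rw [getD_map_range _ _ _ _ (I.lt j)]
  simp [bit]

theorem vecOf_xor (a b : ℕ) : vecOf I (a ^^^ b) = vecOf I a + vecOf I b := by
  ext i
  show bit _ = bit _ + bit _
  rw [Nat.testBit_xor, bit_xor]

theorem vecOf_zero : vecOf I 0 = 0 := by
  ext i
  show bit _ = _
  simp [bit]

theorem vecOf_two_pow (i : ι) : vecOf I (2 ^ I.pos i) = Pi.single i 1 := by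
  ext j
  show bit _ = _
  rw [Nat.testBit_two_pow]
  by_cases h : i = j
  · subst h
    simp [bit]
  · have : I.pos i ≠ I.pos j := fun h' => h (I.inj h')
    simp [bit, this, Ne.symm h]

theorem vecOf_injOn {a b : ℕ} (ha : a < 2 ^ I.d) (hb : b < 2 ^ I.d) (h : vecOf I a = vecOf I b) :
    a = b := by
  apply Nat.eq_of_testBit_eq
  intro k
  by_cases hk : k < I.d
  · obtain ⟨i, rfl⟩ := I.surj k hk
    exact bit_inj (congrFun h i)
  · have hk' : I.d ≤ k := Nat.le_of_not_lt hk
    rw [Nat.testBit_lt_two_pow (lt_of_lt_of_le ha (Nat.pow_le_pow_right (by norm_num) hk')),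
      Nat.testBit_lt_two_pow (lt_of_lt_of_le hb (Nat.pow_le_pow_right (by norm_num) hk'))]

theorem card_idx : Fintype.card ι = I.d := by
  have e : ι ≃ Fin I.d := Equiv.ofBijective (fun i => ⟨I.pos i, I.lt i⟩)
    ⟨fun a b h => I.inj (Fin.mk.inj h), fun k => by
      obtain ⟨i, hi⟩ := I.surj k.1 k.2
      exact ⟨i, Fin.ext hi⟩⟩
  rw [Fintype.card_congr e, Fintype.card_fin]

theorem vecOf_surj (v : ι → ZMod 2) : ∃ n < 2 ^ I.d, vecOf I n = v := by
  let φ : Fin (2 ^ I.d) → (ι → ZMod 2) := fun n => vecOf I n.1
  have hinj : Function.Injective φ := fun a b h => Fin.ext (vecOf_injOn I a.2 b.2 h)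
  have hcard : Fintype.card (Fin (2 ^ I.d)) = Fintype.card (ι → ZMod 2) := by
    rw [Fintype.card_fin, Fintype.card_fun, ZMod.card, card_idx I]
  have hbij := (Fintype.bijective_iff_injective_and_card φ).mpr ⟨hinj, hcard⟩
  obtain ⟨n, hn⟩ := hbij.2 v
  exact ⟨n.1, n.2, hn⟩

/-- the number of vectors satisfying a condition that can be tested on the codes. -/
theorem card_filter_eq (P : (ι → ZMod 2) → Prop) [DecidablePred P] (p : ℕ → Bool)
    (h : ∀ n < 2 ^ I.d, P (vecOf I n) ↔ p n = true) :
    (Finset.univ.filter P).card = ((List.range (2 ^ I.d)).filter p).length := by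
  have hnd : ((List.range (2 ^ I.d)).filter p).Nodup := List.nodup_range.filter _
  rw [← List.toFinset_card_of_nodup hnd]
  symm
  apply Finset.card_bij (fun n _ => vecOf I n)
  · intro n hn
    rw [List.mem_toFinset, List.mem_filter, List.mem_range] at hn
    rw [Finset.mem_filter]
    exact ⟨Finset.mem_univ _, (h n hn.1).mpr hn.2⟩
  · intro a ha b hb hab
    rw [List.mem_toFinset, List.mem_filter, List.mem_range] at ha hb
    exact vecOf_injOn I ha.1 hb.1 hab
  · intro v hv
    rw [Finset.mem_filter] at hv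
    obtain ⟨n, hn, rfl⟩ := vecOf_surj I v
    refine ⟨n, ?_, rfl⟩
    rw [List.mem_toFinset, List.mem_filter, List.mem_range]
    exact ⟨hn, (h n hn).mp hv.2⟩

/-- equality of matrices from equality of codes of the columns. -/
theorem mvAux_lt (cs : List ℕ) (n : ℕ) (hcs : ∀ k, cs.getD k 0 < 2 ^ I.d) (k : ℕ) :
    mvAux cs n k < 2 ^ I.d := by
  induction k with
  | zero => exact Nat.pos_of_ne_zero (by positivity)
  | succ k ih =>
    show mvAux cs n k ^^^ (if n.testBit k then cs.getD k 0 else 0) < 2 ^ I.d
    apply Nat.xor_lt_two_pow ih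
    split_ifs
    · exact hcs k
    · exact Nat.pos_of_ne_zero (by positivity)

theorem mvN_lt (cs : List ℕ) (n : ℕ) (hcs : ∀ k, cs.getD k 0 < 2 ^ I.d) : mvN I cs n < 2 ^ I.d :=
  mvAux_lt I cs n hcs I.d

end Cfsg.Agent.Lib.Helper28.BitMat
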