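import Mathlib
import Cfsg.Prelude.Def_Classical
import Cfsg.Agent.Lib.Helper28.BitMat
import Cfsg.Agent.Lib.Helper28.BitChain
set_option autoImplicit false
set_option linter.unusedSectionVars false

/-!
Subgroups of `GL ι (ZMod 2)` generated by two elements given by codes: straight-line programs, transversal
certificates for lower bounds of the order, and the upper bound for the order of the isometry group of a
quadratic function given on the codes.
-/

namespace Cfsg.Agent.Lib.Helper28.BitGroup
open Cfsg.Agent.Lib.Helper28.BitMat Cfsg.Agent.Lib.Helper28.BitChain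

variable {ι : Type} [Fintype ι] [DecidableEq ι] (I : Idx ι)

/-- the two codes are inverse matrices. -/
def invOK (A Ai : List ℕ) : Bool := (mulN I A Ai == idCols I) && (mulN I Ai A == idCols I)

theorem invOK_spec {A Ai : List ℕ} (h : invOK I A Ai = true) :
    matOf I A * matOf I Ai = 1 ∧ matOf I Ai * matOf I A = 1 := by
  unfold invOK at h
  rw [Bool.and_eq_true] at h
  obtain ⟨h1, h2⟩ := h
  rw [matOf_mulN, matOf_mulN, eq_of_beq h1, eq_of_beq h2, matOf_idCols]
  exact ⟨rfl, rfl⟩

/-- the invertible matrix of a pair of codes. -/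
def glOf (A Ai : List ℕ) (h : invOK I A Ai = true) : Matrix.GeneralLinearGroup ι (ZMod 2) :=
  ⟨matOf I A, matOf I Ai, (invOK_spec I h).1, (invOK_spec I h).2⟩

theorem coe_glOf (A Ai : List ℕ) (h : invOK I A Ai = true) :
    ((glOf I A Ai h : Matrix.GeneralLinearGroup ι (ZMod 2)) : Matrix ι ι (ZMod 2)) = matOf I A := rfl

theorem smul_vecOf {u : Matrix.GeneralLinearGroup ι (ZMod 2)} {c : List ℕ}
    (h : (u : Matrix ι ι (ZMod 2)) = matOf I c) (n : ℕ) : u • vecOf I n = vecOf I (mvN I c n) := by
  show (u : Matrix ι ι (ZMod 2)).mulVec (vecOf I n) = _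
  rw [h, mulVec_vecOf]

/-! ### Straight-line programs -/

/-- instructions: a product of two earlier entries, or the inverse of an earlier entry (the inverse is part
of the instruction and is checked). -/
inductive Ins where
  | mul (j k : ℕ) : Ins
  | inv (j : ℕ) (c : List ℕ) : Ins

def stepN (acc : List (List ℕ)) : Ins → List ℕ
  | Ins.mul j k => mulN I (acc.getD j (idCols I)) (acc.getD k (idCols I))
  | Ins.inv j c => if invOK I (acc.getD j (idCols I)) c = true then c else idCols I

def run : List Ins → List (List ℕ) → List (List ℕ)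
  | [], acc => acc
  | i :: is, acc => run is (acc ++ [stepN I acc i])

/-- every code of the list is the matrix of an element of `K`. -/
def Sound (K : Subgroup (Matrix.GeneralLinearGroup ι (ZMod 2))) (acc : List (List ℕ)) : Prop :=
  ∀ c ∈ acc, ∃ u ∈ K, (u : Matrix ι ι (ZMod 2)) = matOf I c

theorem Sound.getD {K : Subgroup (Matrix.GeneralLinearGroup ι (ZMod 2))} {acc : List (List ℕ)}
    (h : Sound I K acc) (j : ℕ) : ∃ u ∈ K, (u : Matrix ι ι (ZMod 2)) = matOf I (acc.getD j (idCols I)) := by
  by_cases hj : j < acc.length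
  · rw [List.getD_eq_getElem _ _ hj]
    exact h _ (List.getElem_mem hj)
  · rw [List.getD_eq_default _ _ (by omega)]
    exact ⟨1, K.one_mem, by rw [matOf_idCols]; rfl⟩

theorem Sound.stepN {K : Subgroup (Matrix.GeneralLinearGroup ι (ZMod 2))} {acc : List (List ℕ)}
    (h : Sound I K acc) (i : Ins) : ∃ u ∈ K, (u : Matrix ι ι (ZMod 2)) = matOf I (stepN I acc i) := by
  cases i with
  | mul j k =>
    obtain ⟨u, hu, hu'⟩ := h.getD I j
    obtain ⟨w, hw, hw'⟩ := h.getD I k
    refine ⟨u * w, K.mul_mem hu hw, ?_⟩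
    show _ = matOf I (mulN I _ _)
    rw [← matOf_mulN, ← hu', ← hw']
    rfl
  | inv j c =>
    obtain ⟨u, hu, hu'⟩ := h.getD I j
    show ∃ u ∈ K, (u : Matrix ι ι (ZMod 2)) =
      matOf I (if invOK I (acc.getD j (idCols I)) c = true then c else idCols I)
    split_ifs with hc
    · refine ⟨u⁻¹, K.inv_mem hu, ?_⟩
      have h1 := (invOK_spec I hc).1
      rw [← hu'] at h1
      have h2 : (u : Matrix ι ι (ZMod 2)) * ((u⁻¹ : Matrix.GeneralLinearGroup ι (ZMod 2)) :
          Matrix ι ι (ZMod 2)) = 1 := by
        rw [← Units.val_mul, mul_inv_cancel]; rfl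
      have h3 : ((u⁻¹ : Matrix.GeneralLinearGroup ι (ZMod 2)) : Matrix ι ι (ZMod 2)) *
          (u : Matrix ι ι (ZMod 2)) = 1 := by
        rw [← Units.val_mul, inv_mul_cancel]; rfl
      calc ((u⁻¹ : Matrix.GeneralLinearGroup ι (ZMod 2)) : Matrix ι ι (ZMod 2))
          = ((u⁻¹ : Matrix.GeneralLinearGroup ι (ZMod 2)) : Matrix ι ι (ZMod 2)) *
              ((u : Matrix ι ι (ZMod 2)) * matOf I c) := by rw [h1, mul_one]
        _ = matOf I c := by rw [← mul_assoc, h3, one_mul]
    · exact ⟨1, K.one_mem, by rw [matOf_idCols]; rfl⟩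

theorem Sound.run {K : Subgroup (Matrix.GeneralLinearGroup ι (ZMod 2))} (prog : List Ins) :
    ∀ acc : List (List ℕ), Sound I K acc → Sound I K (run I prog acc) := by
  induction prog with
  | nil => intro acc h; exact h
  | cons i is ih =>
    intro acc h
    apply ih
    intro c hc
    rw [List.mem_append, List.mem_singleton] at hc
    rcases hc with hc | rfl
    · exact h c hc
    · exact h.stepN I i

/-! ### Lower bound from transversals -/

/-- the matrix with code `c` fixes all vectors of the list. -/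
def fixesN (c : List ℕ) (pre : List ℕ) : Bool := pre.all fun b => mvN I c b == b

/-- the certificate of the lower bound: at each level, each listed vector (with the index of a matrix of the
list) is the image of the base vector under that matrix, which fixes the earlier base vectors. -/
def lowerN (L : List (List ℕ)) : List ℕ → List ℕ → List (List (ℕ × ℕ)) → Bool
  | _, [], _ => true
  | _, _ :: _, [] => true
  | pre, b :: bs, D :: Ds =>
    (D.all fun δ => fixesN I (L.getD δ.2 (idCols I)) pre && (mvN I (L.getD δ.2 (idCols I)) b == δ.1)) &&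
      lowerN L (b :: pre) bs Ds

/-- the product of the numbers of distinct listed vectors. -/
def lowProd : List ℕ → List (List (ℕ × ℕ)) → ℕ
  | [], _ => 1
  | _ :: _, [] => 1
  | _ :: bs, D :: Ds => (D.map Prod.fst).dedup.length * lowProd bs Ds

theorem lower_bound {K : Subgroup (Matrix.GeneralLinearGroup ι (ZMod 2))} {L : List (List ℕ)}
    (hL : Sound I K L) : ∀ (bs : List ℕ) (Ds : List (List (ℕ × ℕ))) (pre : List ℕ),
    (∀ D ∈ Ds, ∀ δ ∈ D, δ.1 < 2 ^ I.d) →
    lowerN I L pre bs Ds = true → lowProd bs Ds ≤ Nat.card ↥(Kp K (pre.map (vecOf I)))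
  | [], _, _, _, _ => Nat.card_pos
  | _ :: _, [], _, _, _ => Nat.card_pos
  | b :: bs, D :: Ds, pre, hlt, h => by
    unfold lowerN at h
    rw [Bool.and_eq_true] at h
    obtain ⟨h1, h2⟩ := h
    have ih := lower_bound hL bs Ds (b :: pre) (fun D' hD' => hlt D' (List.mem_cons_of_mem _ hD')) h2
    rw [List.map_cons] at ih
    show (D.map Prod.fst).dedup.length * lowProd bs Ds ≤ _
    have hstep := step_lower (Kp K (pre.map (vecOf I))) (vecOf I b)
      (((D.map Prod.fst).dedup.map (vecOf I)).toFinset) (by
      intro δ hδ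
      rw [List.mem_toFinset, List.mem_map] at hδ
      obtain ⟨n, hn, rfl⟩ := hδ
      rw [List.mem_dedup, List.mem_map] at hn
      obtain ⟨δj, hδj, rfl⟩ := hn
      have := List.all_eq_true.mp h1 δj hδj
      rw [Bool.and_eq_true] at this
      obtain ⟨hc1, hc2⟩ := this
      obtain ⟨u, hu, hu'⟩ := hL.getD I δj.2
      refine ⟨u, (mem_Kp _ _ _).mpr ⟨hu, ?_⟩, ?_⟩
      · intro x hx
        rw [List.mem_map] at hx
        obtain ⟨p, hp, rfl⟩ := hx
        rw [smul_vecOf I hu']
        have := List.all_eq_true.mp hc1 p hp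
        rw [eq_of_beq this]
      · rw [smul_vecOf I hu', eq_of_beq hc2])
    have hcard : (((D.map Prod.fst).dedup.map (vecOf I)).toFinset).card =
        (D.map Prod.fst).dedup.length := by
      rw [List.toFinset_card_of_nodup, List.length_map]
      apply List.Nodup.map_on _ (List.nodup_dedup _)
      intro x hx y hy hxy
      rw [List.mem_dedup, List.mem_map] at hx hy
      obtain ⟨x', hx', rfl⟩ := hx
      obtain ⟨y', hy', rfl⟩ := hy
      exact vecOf_injOn I (hlt D (List.mem_cons_self) x' hx') (hlt D (List.mem_cons_self) y' hy') hxy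
    rw [hcard] at hstep
    exact le_trans (Nat.mul_le_mul_left _ ih) hstep

/-! ### The isometry group of a quadratic function given on the codes -/

section iso
variable (Q : (ι → ZMod 2) → ZMod 2) (QN : ℕ → Bool) (hQ : ∀ n, Q (vecOf I n) = bit (QN n))

/-- the matrix with code `A` preserves the quadratic function. -/
def isoOK (A : List ℕ) : Bool := (List.range (2 ^ I.d)).all fun n => QN (mvN I A n) == QN n

include hQ in
theorem mem_iso_of_isoOK {u : Matrix.GeneralLinearGroup ι (ZMod 2)} {A : List ℕ}
    (hu : (u : Matrix ι ι (ZMod 2)) = matOf I A) (h : isoOK I QN A = true) :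
    u ∈ Cfsg.isometryGroup (ZMod 2) Q := by
  intro v _
  obtain ⟨n, hn, rfl⟩ := vecOf_surj I v
  show Q ((u : Matrix ι ι (ZMod 2)).mulVec (vecOf I n)) = Q (vecOf I n)
  rw [hu, mulVec_vecOf, hQ, hQ]
  have := List.all_eq_true.mp h n (List.mem_range.mpr hn)
  rw [eq_of_beq this]

theorem iso_apply {u : Matrix.GeneralLinearGroup ι (ZMod 2)} (hu : u ∈ Cfsg.isometryGroup (ZMod 2) Q)
    (v : ι → ZMod 2) : Q (u • v) = Q v := hu v v

theorem smul_add' (u : Matrix.GeneralLinearGroup ι (ZMod 2)) (v w : ι → ZMod 2) :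
    u • (v + w) = u • v + u • w := Matrix.mulVec_add _ _ _

/-- the polar form on the codes. -/
def BN (a b : ℕ) : Bool := (QN (a ^^^ b) ^^ QN a) ^^ QN b

/-- the number of vectors with the same value of the form and of the polar form with the earlier vectors
(the zero vector is not counted unless the base vector is zero). -/
def cntN (pre : List ℕ) (b : ℕ) : ℕ :=
  ((List.range (2 ^ I.d)).filter fun n =>
    ((n != 0) || (b == 0)) && (QN n == QN b) && pre.all fun p => BN QN n p == BN QN b p).length

/-- the product of the counts along a list of base vectors. -/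
def upperN : List ℕ → List ℕ → ℕ
  | _, [] => 1
  | pre, b :: bs => cntN I QN pre b * upperN (b :: pre) bs

include hQ in
theorem polar_eq (a b : ℕ) :
    Q (vecOf I a + vecOf I b) + Q (vecOf I a) + Q (vecOf I b) = bit (BN QN a b) := by
  rw [← vecOf_xor, hQ, hQ, hQ]
  unfold BN
  rw [bit_xor, bit_xor]

theorem vecOf_eq_zero_iff {n : ℕ} (hn : n < 2 ^ I.d) : vecOf I n = 0 ↔ n = 0 := by
  constructor
  · intro h
    rw [← vecOf_zero I] at h
    exact vecOf_injOn I hn (Nat.pos_of_ne_zero (by positivity)) h
  · rintro rfl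
    exact vecOf_zero I

theorem smul_eq_zero_iff' (u : Matrix.GeneralLinearGroup ι (ZMod 2)) (v : ι → ZMod 2) :
    u • v = 0 ↔ v = 0 := by
  constructor
  · intro h
    have : u⁻¹ • (u • v) = u⁻¹ • (0 : ι → ZMod 2) := by rw [h]
    rw [inv_smul_smul] at this
    rw [this]
    exact Matrix.mulVec_zero _
  · rintro rfl
    exact Matrix.mulVec_zero _

include hQ in
theorem upper_bound : ∀ (bs pre : List ℕ), (∀ i : ι, 2 ^ I.pos i ∈ pre ++ bs) →
    (∀ b ∈ bs, b < 2 ^ I.d) →
    Nat.card ↥(Kp (Cfsg.isometryGroup (ZMod 2) Q) (pre.map (vecOf I))) ≤ upperN I QN pre bs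
  | [], pre, hcov, _ => by
    have : Kp (Cfsg.isometryGroup (ZMod 2) Q) (pre.map (vecOf I)) = ⊥ := by
      rw [eq_bot_iff]
      intro u hu
      rw [mem_Kp] at hu
      rw [Subgroup.mem_bot]
      apply Units.ext
      ext i j
      have hj : 2 ^ I.pos j ∈ pre := by simpa using hcov j
      have h1 := hu.2 (vecOf I (2 ^ I.pos j)) (List.mem_map_of_mem hj)
      rw [vecOf_two_pow] at h1
      have h2 := congrFun h1 i
      have h3 : (u • (Pi.single j 1 : ι → ZMod 2)) i = (u : Matrix ι ι (ZMod 2)) i j := by
        show ((u : Matrix ι ι (ZMod 2)).mulVec (Pi.single j 1)) i = _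
        rw [Matrix.mulVec_single_one]
        rfl
      rw [h3] at h2
      rw [h2]
      simp [Matrix.one_apply, Pi.single_apply]
    rw [this, Subgroup.card_bot]
    exact le_rfl
  | b :: bs, pre, hcov, hbs => by
    have ih := upper_bound bs (b :: pre) (by
      intro i
      have := hcov i
      simp only [List.mem_append, List.mem_cons] at this ⊢
      tauto) (fun b' hb' => hbs b' (List.mem_cons_of_mem _ hb'))
    rw [List.map_cons] at ih
    have hb : b < 2 ^ I.d := hbs b List.mem_cons_self
    classical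
    let S : Finset (ι → ZMod 2) := Finset.univ.filter fun v =>
      ((v = 0 → vecOf I b = 0) ∧ Q v = Q (vecOf I b)) ∧
        ∀ p ∈ pre, Q (v + vecOf I p) + Q v + Q (vecOf I p) =
          Q (vecOf I b + vecOf I p) + Q (vecOf I b) + Q (vecOf I p)
    have hS : S.card = cntN I QN pre b := by
      unfold cntN
      apply card_filter_eq I _ _
      intro n hn
      rw [Bool.and_eq_true, Bool.and_eq_true, List.all_eq_true, vecOf_eq_zero_iff I hn,
        vecOf_eq_zero_iff I hb]
      constructor
      · rintro ⟨⟨h0, h1⟩, h2⟩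
        refine ⟨⟨?_, ?_⟩, fun p hp => ?_⟩
        · by_cases hn0 : n = 0
          · simp [h0 hn0]
          · simp [hn0]
        · rw [hQ, hQ] at h1
          rw [bit_inj h1]; exact beq_self_eq_true _
        · have := h2 p hp
          rw [polar_eq I Q QN hQ, polar_eq I Q QN hQ] at this
          rw [bit_inj this]; exact beq_self_eq_true _
      · rintro ⟨⟨h0, h1⟩, h2⟩
        refine ⟨⟨?_, ?_⟩, fun p hp => ?_⟩
        · intro hn0
          subst hn0
          simpa using h0
        · rw [hQ, hQ, eq_of_beq h1]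
        · rw [polar_eq I Q QN hQ, polar_eq I Q QN hQ, eq_of_beq (h2 p hp)]
    have hstep := step_upper (Kp (Cfsg.isometryGroup (ZMod 2) Q) (pre.map (vecOf I))) (vecOf I b) S (by
      intro u hu
      rw [mem_Kp] at hu
      rw [Finset.mem_filter]
      refine ⟨Finset.mem_univ _, ⟨fun h0 => (smul_eq_zero_iff' u _).mp h0, iso_apply Q hu.1 _⟩,
        fun p hp => ?_⟩
      have hfix : u • vecOf I p = vecOf I p := hu.2 _ (List.mem_map_of_mem hp)
      have h1 : u • vecOf I b + vecOf I p = u • (vecOf I b + vecOf I p) := by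
        rw [smul_add', hfix]
      rw [h1, iso_apply Q hu.1, iso_apply Q hu.1])
    rw [hS] at hstep
    show _ ≤ cntN I QN pre b * upperN I QN (b :: pre) bs
    exact le_trans hstep (Nat.mul_le_mul_left _ ih)

end iso

end Cfsg.Agent.Lib.Helper28.BitGroup
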