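import Mathlib
import Cfsg.Agent.Lib.Helper28.BitMat
set_option autoImplicit false
set_option linter.unusedSectionVars false

/-!
Crossed homomorphisms of a group generated by two elements acting by matrices over `ZMod 2` given by codes:
a certificate (relators and matrices) showing that every crossed homomorphism is principal.
-/

namespace Cfsg.Agent.Lib.Helper28.BitH1
open Cfsg.Agent.Lib.Helper28.BitMat

variable {ι : Type} [Fintype ι] [DecidableEq ι] (I : Idx ι)

/-- the value of a word: letter `0` is the first generator, every other letter the second. -/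
def evalW {W : Type*} [Monoid W] (γ0 γ1 : W) : List ℕ → W
  | [] => 1
  | l :: r => (if l = 0 then γ0 else γ1) * evalW γ0 γ1 r

/-- the matrix of a word and the two matrices giving the value of a crossed homomorphism on it. -/
def foxDN (G0 G1 : List ℕ) : List ℕ → List ℕ × List ℕ × List ℕ
  | [] => (idCols I, zeroCols I, zeroCols I)
  | l :: r =>
    let t := foxDN G0 G1 r
    if l = 0 then (mulN I G0 t.1, addN I (mulN I G0 t.2.1) (idCols I), mulN I G0 t.2.2)
    else (mulN I G1 t.1, mulN I G1 t.2.1, addN I (mulN I G1 t.2.2) (idCols I))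

section crossed
variable {W : Type*} [Group W] (ρ : W →* Matrix ι ι (ZMod 2)) (f : W → (ι → ZMod 2))
  (hf : ∀ g h, f (g * h) = f g + (ρ g).mulVec (f h))

include hf in
theorem f_one : f 1 = 0 := by
  have := hf 1 1
  rw [mul_one, map_one, Matrix.one_mulVec] at this
  exact left_eq_add.mp this

include hf in
theorem fox_sound (γ0 γ1 : W) (G0 G1 : List ℕ) (h0 : ρ γ0 = matOf I G0) (h1 : ρ γ1 = matOf I G1) :
    ∀ w : List ℕ, ρ (evalW γ0 γ1 w) = matOf I (foxDN I G0 G1 w).1 ∧
      f (evalW γ0 γ1 w) = (matOf I (foxDN I G0 G1 w).2.1).mulVec (f γ0) +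
        (matOf I (foxDN I G0 G1 w).2.2).mulVec (f γ1)
  | [] => by
    refine ⟨?_, ?_⟩
    · show ρ 1 = matOf I (idCols I)
      rw [map_one, matOf_idCols]
    · show f 1 = (matOf I (zeroCols I)).mulVec _ + (matOf I (zeroCols I)).mulVec _
      rw [f_one ρ f hf, matOf_zeroCols, Matrix.zero_mulVec, Matrix.zero_mulVec, add_zero]
  | l :: r => by
    obtain ⟨ih1, ih2⟩ := fox_sound γ0 γ1 G0 G1 h0 h1 r
    by_cases hl : l = 0
    · have e1 : evalW γ0 γ1 (l :: r) = γ0 * evalW γ0 γ1 r := by
        show (if l = 0 then γ0 else γ1) * _ = _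
        rw [if_pos hl]
      have e2 : foxDN I G0 G1 (l :: r) = (mulN I G0 (foxDN I G0 G1 r).1,
          addN I (mulN I G0 (foxDN I G0 G1 r).2.1) (idCols I), mulN I G0 (foxDN I G0 G1 r).2.2) := by
        show (if l = 0 then _ else _) = _
        rw [if_pos hl]
      rw [e1, e2]
      refine ⟨?_, ?_⟩
      · rw [map_mul, ih1, h0, matOf_mulN]
      · rw [hf, ih2, h0]
        show _ = (matOf I (addN I (mulN I G0 (foxDN I G0 G1 r).2.1) (idCols I))).mulVec (f γ0) +
          (matOf I (mulN I G0 (foxDN I G0 G1 r).2.2)).mulVec (f γ1)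
        rw [matOf_addN, matOf_idCols, ← matOf_mulN, ← matOf_mulN, Matrix.add_mulVec, Matrix.one_mulVec,
          Matrix.mulVec_add, Matrix.mulVec_mulVec, Matrix.mulVec_mulVec]
        abel
    · have e1 : evalW γ0 γ1 (l :: r) = γ1 * evalW γ0 γ1 r := by
        show (if l = 0 then γ0 else γ1) * _ = _
        rw [if_neg hl]
      have e2 : foxDN I G0 G1 (l :: r) = (mulN I G1 (foxDN I G0 G1 r).1,
          mulN I G1 (foxDN I G0 G1 r).2.1, addN I (mulN I G1 (foxDN I G0 G1 r).2.2) (idCols I)) := by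
        show (if l = 0 then _ else _) = _
        rw [if_neg hl]
      rw [e1, e2]
      refine ⟨?_, ?_⟩
      · rw [map_mul, ih1, h1, matOf_mulN]
      · rw [hf, ih2, h1]
        show _ = (matOf I (mulN I G1 (foxDN I G0 G1 r).2.1)).mulVec (f γ0) +
          (matOf I (addN I (mulN I G1 (foxDN I G0 G1 r).2.2) (idCols I))).mulVec (f γ1)
        rw [matOf_addN, matOf_idCols, ← matOf_mulN, ← matOf_mulN, Matrix.add_mulVec, Matrix.one_mulVec,
          Matrix.mulVec_add, Matrix.mulVec_mulVec, Matrix.mulVec_mulVec]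
        abel

/-- the relators hold. -/
def relsOK (G0 G1 : List ℕ) (rels : List (List ℕ × List ℕ × List ℕ)) : Bool :=
  rels.all fun r => (foxDN I G0 G1 r.1).1 == idCols I

/-- the sums of the products of the certificate matrices with the relator matrices. -/
def accN (G0 G1 : List ℕ) : List (List ℕ × List ℕ × List ℕ) → (List ℕ × List ℕ) × (List ℕ × List ℕ)
  | [] => ((zeroCols I, zeroCols I), (zeroCols I, zeroCols I))
  | r :: rs =>
    let a := accN G0 G1 rs
    let t := foxDN I G0 G1 r.1
    ((addN I a.1.1 (mulN I r.2.1 t.2.1), addN I a.1.2 (mulN I r.2.1 t.2.2)),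
     (addN I a.2.1 (mulN I r.2.2 t.2.1), addN I a.2.2 (mulN I r.2.2 t.2.2)))

theorem acc_sound (G0 G1 : List ℕ) (v0 v1 : ι → ZMod 2) :
    ∀ rels : List (List ℕ × List ℕ × List ℕ),
    (∀ r ∈ rels, (matOf I (foxDN I G0 G1 r.1).2.1).mulVec v0 +
      (matOf I (foxDN I G0 G1 r.1).2.2).mulVec v1 = 0) →
    (matOf I (accN I G0 G1 rels).1.1).mulVec v0 + (matOf I (accN I G0 G1 rels).1.2).mulVec v1 = 0 ∧
    (matOf I (accN I G0 G1 rels).2.1).mulVec v0 + (matOf I (accN I G0 G1 rels).2.2).mulVec v1 = 0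
  | [], _ => by
    show (matOf I (zeroCols I)).mulVec v0 + (matOf I (zeroCols I)).mulVec v1 = 0 ∧
      (matOf I (zeroCols I)).mulVec v0 + (matOf I (zeroCols I)).mulVec v1 = 0
    rw [matOf_zeroCols, Matrix.zero_mulVec, Matrix.zero_mulVec, add_zero]
    exact ⟨rfl, rfl⟩
  | r :: rs, h => by
    obtain ⟨ih1, ih2⟩ := acc_sound G0 G1 v0 v1 rs (fun r' hr' => h r' (List.mem_cons_of_mem _ hr'))
    have hr := h r List.mem_cons_self
    set t := foxDN I G0 G1 r.1 with ht
    set a := accN I G0 G1 rs with ha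
    have key : ∀ (T X Y : List ℕ), (matOf I X).mulVec v0 + (matOf I Y).mulVec v1 = 0 →
        (matOf I (addN I X (mulN I T t.2.1))).mulVec v0 +
          (matOf I (addN I Y (mulN I T t.2.2))).mulVec v1 = 0 := by
      intro T X Y hXY
      rw [matOf_addN, matOf_addN, ← matOf_mulN, ← matOf_mulN, Matrix.add_mulVec, Matrix.add_mulVec,
        ← Matrix.mulVec_mulVec, ← Matrix.mulVec_mulVec]
      have : (matOf I X).mulVec v0 + (matOf I T).mulVec ((matOf I t.2.1).mulVec v0) +
          ((matOf I Y).mulVec v1 + (matOf I T).mulVec ((matOf I t.2.2).mulVec v1)) =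
          ((matOf I X).mulVec v0 + (matOf I Y).mulVec v1) +
            (matOf I T).mulVec ((matOf I t.2.1).mulVec v0 + (matOf I t.2.2).mulVec v1) := by
        rw [Matrix.mulVec_add]; abel
      rw [this, hXY, hr, Matrix.mulVec_zero, add_zero]
    exact ⟨key r.2.1 a.1.1 a.1.2 ih1, key r.2.2 a.2.1 a.2.2 ih2⟩

/-- the certificate: `δ_ij = (G_i + 1) S_j + A_ij`. -/
def certN (G0 G1 S0 S1 : List ℕ) (rels : List (List ℕ × List ℕ × List ℕ)) : Bool :=
  let a := accN I G0 G1 rels
  (addN I (mulN I (addN I G0 (idCols I)) S0) a.1.1 == idCols I) &&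
  (addN I (mulN I (addN I G0 (idCols I)) S1) a.1.2 == zeroCols I) &&
  (addN I (mulN I (addN I G1 (idCols I)) S0) a.2.1 == zeroCols I) &&
  (addN I (mulN I (addN I G1 (idCols I)) S1) a.2.2 == idCols I)

theorem neg_vec (v : ι → ZMod 2) : -v = v := by
  ext i
  have : ∀ x : ZMod 2, -x = x := by decide
  exact this (v i)

include hf in
/-- every crossed homomorphism is principal, given the certificate. -/
theorem principal_of_cert (hρ : Function.Injective ρ) (γ0 γ1 : W)
    (hgen : Subgroup.closure {γ0, γ1} = ⊤) (G0 G1 S0 S1 : List ℕ)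
    (rels : List (List ℕ × List ℕ × List ℕ)) (h0 : ρ γ0 = matOf I G0) (h1 : ρ γ1 = matOf I G1)
    (hrel : relsOK I G0 G1 rels = true) (hcert : certN I G0 G1 S0 S1 rels = true) :
    ∃ v : ι → ZMod 2, ∀ g : W, f g = (ρ g).mulVec v - v := by
  set v0 := f γ0 with hv0
  set v1 := f γ1 with hv1
  -- the relator conditions
  have hR : ∀ r ∈ rels, (matOf I (foxDN I G0 G1 r.1).2.1).mulVec v0 +
      (matOf I (foxDN I G0 G1 r.1).2.2).mulVec v1 = 0 := by
    intro r hr
    obtain ⟨e1, e2⟩ := fox_sound I ρ f hf γ0 γ1 G0 G1 h0 h1 r.1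
    have h := List.all_eq_true.mp hrel r hr
    rw [eq_of_beq h, matOf_idCols, ← map_one ρ] at e1
    rw [hρ e1, f_one ρ f hf] at e2
    exact e2.symm
  obtain ⟨a1, a2⟩ := acc_sound I G0 G1 v0 v1 rels hR
  unfold certN at hcert
  simp only [Bool.and_eq_true] at hcert
  obtain ⟨⟨⟨c00, c01⟩, c10⟩, c11⟩ := hcert
  set a := accN I G0 G1 rels with ha
  let v : ι → ZMod 2 := (matOf I S0).mulVec v0 + (matOf I S1).mulVec v1
  have key : ∀ (G X Y P R : List ℕ), (matOf I X).mulVec v0 + (matOf I Y).mulVec v1 = 0 →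
      matOf I (addN I (mulN I (addN I G (idCols I)) S0) X) = matOf I P →
      matOf I (addN I (mulN I (addN I G (idCols I)) S1) Y) = matOf I R →
      (matOf I P).mulVec v0 + (matOf I R).mulVec v1 = (matOf I G).mulVec v - v := by
    intro G X Y P R hXY hP hR'
    rw [← hP, ← hR', matOf_addN, matOf_addN, ← matOf_mulN, ← matOf_mulN, matOf_addN, matOf_idCols]
    simp only [Matrix.add_mulVec, ← Matrix.mulVec_mulVec, Matrix.add_mul, Matrix.one_mul]
    have hv : v = (matOf I S0).mulVec v0 + (matOf I S1).mulVec v1 := rfl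
    rw [hv, Matrix.mulVec_add, sub_eq_add_neg, neg_vec]
    have : (matOf I G).mulVec ((matOf I S0).mulVec v0) + (matOf I S0).mulVec v0 + (matOf I X).mulVec v0 +
        ((matOf I G).mulVec ((matOf I S1).mulVec v1) + (matOf I S1).mulVec v1 + (matOf I Y).mulVec v1) =
        (matOf I G).mulVec ((matOf I S0).mulVec v0) + (matOf I G).mulVec ((matOf I S1).mulVec v1) +
          ((matOf I S0).mulVec v0 + (matOf I S1).mulVec v1) +
          ((matOf I X).mulVec v0 + (matOf I Y).mulVec v1) := by abel
    rw [this, hXY, add_zero]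
  have k0 := key G0 a.1.1 a.1.2 (idCols I) (zeroCols I) a1 (by rw [eq_of_beq c00]) (by rw [eq_of_beq c01])
  have k1 := key G1 a.2.1 a.2.2 (zeroCols I) (idCols I) a2 (by rw [eq_of_beq c10]) (by rw [eq_of_beq c11])
  rw [matOf_idCols, matOf_zeroCols, Matrix.one_mulVec, Matrix.zero_mulVec, add_zero, ← h0] at k0
  rw [matOf_idCols, matOf_zeroCols, Matrix.one_mulVec, Matrix.zero_mulVec, zero_add, ← h1] at k1
  refine ⟨v, ?_⟩
  -- the elements on which `f` agrees with the principal crossed homomorphism form a subgroup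
  let A : Subgroup W :=
    { carrier := {g | f g = (ρ g).mulVec v - v}
      one_mem' := by
        show f 1 = (ρ 1).mulVec v - v
        rw [f_one ρ f hf, map_one, Matrix.one_mulVec, sub_self]
      mul_mem' := by
        intro x y hx hy
        show f (x * y) = (ρ (x * y)).mulVec v - v
        have hx' : f x = (ρ x).mulVec v - v := hx
        have hy' : f y = (ρ y).mulVec v - v := hy
        rw [hf, hx', hy', map_mul, Matrix.mulVec_sub, Matrix.mulVec_mulVec]
        abel
      inv_mem' := by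
        intro x hx
        show f x⁻¹ = (ρ x⁻¹).mulVec v - v
        have hx' : f x = (ρ x).mulVec v - v := hx
        have h1 := hf x⁻¹ x
        rw [inv_mul_cancel, f_one ρ f hf, hx', Matrix.mulVec_sub, Matrix.mulVec_mulVec, ← map_mul,
          inv_mul_cancel, map_one, Matrix.one_mulVec] at h1
        have : f x⁻¹ = -(v - (ρ x⁻¹).mulVec v) := eq_neg_of_add_eq_zero_left h1.symm
        rw [this]
        abel }
  have hA : A = ⊤ := by
    rw [eq_top_iff, ← hgen, Subgroup.closure_le]
    intro x hx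
    simp only [Set.mem_insert_iff, Set.mem_singleton_iff] at hx
    rcases hx with rfl | rfl
    · exact k0
    · exact k1
  intro g
  have : g ∈ A := by rw [hA]; exact Subgroup.mem_top g
  exact this

end crossed

end Cfsg.Agent.Lib.Helper28.BitH1
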