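import Mathlib
import Cfsg.Prelude.Def_Classical
import Cfsg.Agent.Lib.Helper28.BitGroup
import Cfsg.Agent.Lib.Helper28.BitH1
set_option autoImplicit false
set_option linter.unusedSectionVars false

/-!
The first cohomology of `Ω(Q)` on its natural module over `ZMod 2` vanishes, given a computational
certificate: two commutators of isometries generating a subgroup `K` of the isometry group `O` with
`|O| ≤ 2 |K|` (so that `K` contains `Ω`), relators of the two generators and matrices certifying that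
every crossed homomorphism is principal.
-/

namespace Cfsg.Agent.Lib.Helper28.BitOmega
open Cfsg.Agent.Lib.Helper28.BitMat Cfsg.Agent.Lib.Helper28.BitChain Cfsg.Agent.Lib.Helper28.BitGroup
  Cfsg.Agent.Lib.Helper28.BitH1
open scoped commutatorElement

/-- the data of the certificate. -/
structure Data where
  A1 : List ℕ
  A1i : List ℕ
  B1 : List ℕ
  B1i : List ℕ
  A2 : List ℕ
  A2i : List ℕ
  B2 : List ℕ
  B2i : List ℕ
  prog : List Ins
  bs : List ℕ
  Ds : List (List (ℕ × ℕ))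
  S0 : List ℕ
  S1 : List ℕ
  rels : List (List ℕ × List ℕ × List ℕ)

variable {ι : Type} [Fintype ι] [DecidableEq ι] (I : Idx ι)

/-- the code of the commutator. -/
def commN (A Ai B Bi : List ℕ) : List ℕ := mulN I (mulN I (mulN I A B) Ai) Bi

theorem coe_comm_glOf (A Ai B Bi : List ℕ) (hA : invOK I A Ai = true) (hB : invOK I B Bi = true) :
    ((⁅glOf I A Ai hA, glOf I B Bi hB⁆ : Matrix.GeneralLinearGroup ι (ZMod 2)) : Matrix ι ι (ZMod 2)) =
      matOf I (commN I A Ai B Bi) := by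
  unfold commN
  rw [← matOf_mulN, ← matOf_mulN, ← matOf_mulN, commutatorElement_def]
  rfl

def G1 (D : Data) : List ℕ := commN I D.A1 D.A1i D.B1 D.B1i
def G2 (D : Data) : List ℕ := commN I D.A2 D.A2i D.B2 D.B2i

/-- the checks on the matrices giving the generators. -/
def gensOK (QN : ℕ → Bool) (D : Data) : Bool :=
  invOK I D.A1 D.A1i && invOK I D.B1 D.B1i && invOK I D.A2 D.A2i && invOK I D.B2 D.B2i &&
  isoOK I QN D.A1 && isoOK I QN D.B1 && isoOK I QN D.A2 && isoOK I QN D.B2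

/-- the checks on the orders. -/
def orderOK (QN : ℕ → Bool) (D : Data) : Bool :=
  lowerN I (run I D.prog [G1 I D, G2 I D]) [] D.bs D.Ds &&
  (D.Ds.all fun D' => D'.all fun δ => decide (δ.1 < 2 ^ I.d)) &&
  ((List.range I.d).all fun k => D.bs.contains (2 ^ k)) &&
  (D.bs.all fun b => decide (b < 2 ^ I.d)) &&
  decide (upperN I QN [] D.bs ≤ 2 * lowProd D.bs D.Ds)

/-- the checks on the relators and on the certificate. -/
def cohOK (D : Data) : Bool :=
  relsOK I (G1 I D) (G2 I D) D.rels && certN I (G1 I D) (G2 I D) D.S0 D.S1 D.rels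

theorem card_subgroupOf_of_le {Γ : Type*} [Group Γ] {K O : Subgroup Γ} (h : K ≤ O) :
    Nat.card ↥(K.subgroupOf O) = Nat.card ↥K :=
  Nat.card_congr (Subgroup.subgroupOfEquivOfLe h).toEquiv

theorem H1_vanishes (Q : (ι → ZMod 2) → ZMod 2) (QN : ℕ → Bool)
    (hQ : ∀ n, Q (vecOf I n) = bit (QN n)) (D : Data)
    (hgens : gensOK I QN D = true) (hord : orderOK I QN D = true) (hcoh : cohOK I D = true) :
    ∀ f : ↥(Cfsg.Omega (ZMod 2) Q) → (ι → ZMod 2),
      (∀ g h : ↥(Cfsg.Omega (ZMod 2) Q), f (g * h) = f g +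
        Matrix.mulVec (((g : ↥(Cfsg.isometryGroup (ZMod 2) Q)) : Matrix.GeneralLinearGroup ι (ZMod 2)) :
          Matrix ι ι (ZMod 2)) (f h)) →
      ∃ v : ι → ZMod 2, ∀ g : ↥(Cfsg.Omega (ZMod 2) Q), f g =
        Matrix.mulVec (((g : ↥(Cfsg.isometryGroup (ZMod 2) Q)) : Matrix.GeneralLinearGroup ι (ZMod 2)) :
          Matrix ι ι (ZMod 2)) v - v := by
  intro f hf
  unfold gensOK at hgens
  simp only [Bool.and_eq_true] at hgens
  obtain ⟨⟨⟨⟨⟨⟨⟨hA1, hB1⟩, hA2⟩, hB2⟩, iA1⟩, iB1⟩, iA2⟩, iB2⟩ := hgens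
  unfold orderOK at hord
  simp only [Bool.and_eq_true] at hord
  obtain ⟨⟨⟨⟨hlow, hlt⟩, hcov⟩, hbs⟩, hnum⟩ := hord
  unfold cohOK at hcoh
  rw [Bool.and_eq_true] at hcoh
  obtain ⟨hrel, hcert⟩ := hcoh
  set O := Cfsg.isometryGroup (ZMod 2) Q with hO
  -- the generators
  have ma1 : glOf I D.A1 D.A1i hA1 ∈ O := mem_iso_of_isoOK I Q QN hQ (coe_glOf I _ _ hA1) iA1
  have mb1 : glOf I D.B1 D.B1i hB1 ∈ O := mem_iso_of_isoOK I Q QN hQ (coe_glOf I _ _ hB1) iB1
  have ma2 : glOf I D.A2 D.A2i hA2 ∈ O := mem_iso_of_isoOK I Q QN hQ (coe_glOf I _ _ hA2) iA2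
  have mb2 : glOf I D.B2 D.B2i hB2 ∈ O := mem_iso_of_isoOK I Q QN hQ (coe_glOf I _ _ hB2) iB2
  set g1 : Matrix.GeneralLinearGroup ι (ZMod 2) := ⁅glOf I D.A1 D.A1i hA1, glOf I D.B1 D.B1i hB1⁆ with hg1
  set g2 : Matrix.GeneralLinearGroup ι (ZMod 2) := ⁅glOf I D.A2 D.A2i hA2, glOf I D.B2 D.B2i hB2⁆ with hg2
  have cg1 : (g1 : Matrix ι ι (ZMod 2)) = matOf I (G1 I D) := coe_comm_glOf I _ _ _ _ hA1 hB1
  have cg2 : (g2 : Matrix ι ι (ZMod 2)) = matOf I (G2 I D) := coe_comm_glOf I _ _ _ _ hA2 hB2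
  have mg1 : g1 ∈ O := O.mul_mem (O.mul_mem (O.mul_mem ma1 mb1) (O.inv_mem ma1)) (O.inv_mem mb1)
  have mg2 : g2 ∈ O := O.mul_mem (O.mul_mem (O.mul_mem ma2 mb2) (O.inv_mem ma2)) (O.inv_mem mb2)
  set K : Subgroup (Matrix.GeneralLinearGroup ι (ZMod 2)) := Subgroup.closure {g1, g2} with hK
  have hKO : K ≤ O := by
    rw [hK, Subgroup.closure_le]
    intro x hx
    simp only [Set.mem_insert_iff, Set.mem_singleton_iff] at hx
    rcases hx with rfl | rfl
    · exact mg1
    · exact mg2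
  -- the order of `K`
  have hS0 : Sound I K [G1 I D, G2 I D] := by
    intro c hc
    simp only [List.mem_cons, List.not_mem_nil, or_false] at hc
    rcases hc with rfl | rfl
    · exact ⟨g1, Subgroup.subset_closure (by simp), cg1⟩
    · exact ⟨g2, Subgroup.subset_closure (by simp), cg2⟩
  have hS := Sound.run I D.prog _ hS0
  have hlow' := lower_bound I hS D.bs D.Ds [] (by
    intro D' hD' δ hδ
    have := List.all_eq_true.mp (List.all_eq_true.mp hlt D' hD') δ hδ
    exact of_decide_eq_true this) hlow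
  have hup' := upper_bound I Q QN hQ D.bs [] (by
    intro i
    rw [List.nil_append]
    have := List.all_eq_true.mp hcov (I.pos i) (List.mem_range.mpr (I.lt i))
    exact List.contains_iff_mem.mp this) (fun b hb => of_decide_eq_true (List.all_eq_true.mp hbs b hb))
  have hKp1 : Kp K (([] : List ℕ).map (vecOf I)) = K := rfl
  have hKp2 : Kp O (([] : List ℕ).map (vecOf I)) = O := rfl
  rw [hKp1] at hlow'
  rw [hKp2] at hup'
  have hnum' : upperN I QN [] D.bs ≤ 2 * lowProd D.bs D.Ds := of_decide_eq_true hnum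
  have hcard : Nat.card ↥O ≤ 2 * Nat.card ↥(K.subgroupOf O) := by
    rw [card_subgroupOf_of_le hKO]
    calc Nat.card ↥O ≤ upperN I QN [] D.bs := hup'
      _ ≤ 2 * lowProd D.bs D.Ds := hnum'
      _ ≤ 2 * Nat.card ↥K := Nat.mul_le_mul_left _ hlow'
  have hcomm : commutator ↥O ≤ K.subgroupOf O := commutator_le_of_card _ hcard
  -- the generators as elements of `Ω`
  let W := ↥(Cfsg.Omega (ZMod 2) Q)
  let γ0 : W := ⟨⁅(⟨glOf I D.A1 D.A1i hA1, ma1⟩ : ↥O), ⟨glOf I D.B1 D.B1i hB1, mb1⟩⁆,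
    Subgroup.commutator_mem_commutator (Subgroup.mem_top _) (Subgroup.mem_top _)⟩
  let γ1 : W := ⟨⁅(⟨glOf I D.A2 D.A2i hA2, ma2⟩ : ↥O), ⟨glOf I D.B2 D.B2i hB2, mb2⟩⁆,
    Subgroup.commutator_mem_commutator (Subgroup.mem_top _) (Subgroup.mem_top _)⟩
  let φ : W →* Matrix.GeneralLinearGroup ι (ZMod 2) := O.subtype.comp (Cfsg.Omega (ZMod 2) Q).subtype
  have hφ : Function.Injective φ := fun x y h => Subtype.ext (Subtype.ext h)
  have φ0 : φ γ0 = g1 := rfl
  have φ1 : φ γ1 = g2 := rfl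
  let ρ : W →* Matrix ι ι (ZMod 2) := (Units.coeHom (Matrix ι ι (ZMod 2))).comp φ
  have hρ : Function.Injective ρ := fun x y h => hφ (Units.ext h)
  have hgen : Subgroup.closure {γ0, γ1} = ⊤ := by
    rw [eq_top_iff]
    intro w _
    have h1 : (w : ↥O) ∈ K.subgroupOf O := hcomm w.2
    have h2 : φ w ∈ K := h1
    have h3 : K = (Subgroup.closure {γ0, γ1}).map φ := by
      rw [MonoidHom.map_closure, hK]
      congr 1
      rw [Set.image_pair, φ0, φ1]
    rw [h3] at h2
    obtain ⟨w', hw', hww'⟩ := h2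
    rw [← hφ hww']
    exact hw'
  exact principal_of_cert I ρ f hf hρ γ0 γ1 hgen (G1 I D) (G2 I D) D.S0 D.S1 D.rels cg1 cg2 hrel hcert

/-! ### The enumerations and the quadratic forms -/

/-- the sum modulo two of the first values of a function. -/
def xorSum (F : ℕ → Bool) : ℕ → Bool
  | 0 => false
  | k + 1 => xorSum F k ^^ F k

theorem bit_xorSum (F : ℕ → Bool) (k : ℕ) : bit (xorSum F k) = ∑ i ∈ Finset.range k, bit (F i) := by
  induction k with
  | zero => rfl
  | succ k ih =>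
    rw [Finset.sum_range_succ, ← ih]
    show bit (xorSum F k ^^ F k) = _
    rw [bit_xor]

def idxPlus (m : ℕ) : Idx (Fin m ⊕ Fin m) where
  d := 2 * m
  pos := fun i => Sum.elim (fun a : Fin m => (a : ℕ)) (fun a : Fin m => m + (a : ℕ)) i
  lt := by
    rintro (a | a)
    · show (a : ℕ) < 2 * m
      omega
    · show m + (a : ℕ) < 2 * m
      omega
  inj := by
    rintro (a | a) (b | b) h
    · have h' : (a : ℕ) = b := h
      rw [Fin.ext h']
    · have h' : (a : ℕ) = m + b := h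
      omega
    · have h' : m + (a : ℕ) = b := h
      omega
    · have h' : m + (a : ℕ) = m + b := h
      rw [Fin.ext (by omega : (a : ℕ) = b)]
  surj := by
    intro k hk
    by_cases h : k < m
    · exact ⟨Sum.inl ⟨k, h⟩, rfl⟩
    · refine ⟨Sum.inr ⟨k - m, by omega⟩, ?_⟩
      show m + (k - m) = k
      omega

def idxMinus (m : ℕ) : Idx ((Fin m ⊕ Fin m) ⊕ Fin 2) where
  d := 2 * m + 2
  pos := fun i => Sum.elim (Sum.elim (fun a : Fin m => (a : ℕ)) (fun a : Fin m => m + (a : ℕ)))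
    (fun a : Fin 2 => 2 * m + (a : ℕ)) i
  lt := by
    rintro ((a | a) | a)
    · show (a : ℕ) < 2 * m + 2
      omega
    · show m + (a : ℕ) < 2 * m + 2
      omega
    · show 2 * m + (a : ℕ) < 2 * m + 2
      omega
  inj := by
    rintro ((a | a) | a) ((b | b) | b) h
    · have h' : (a : ℕ) = b := h
      rw [Fin.ext h']
    · have h' : (a : ℕ) = m + b := h
      omega
    · have h' : (a : ℕ) = 2 * m + b := h
      omega
    · have h' : m + (a : ℕ) = b := h
      omega
    · have h' : m + (a : ℕ) = m + b := h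
      rw [Fin.ext (by omega : (a : ℕ) = b)]
    · have h' : m + (a : ℕ) = 2 * m + b := h
      omega
    · have h' : 2 * m + (a : ℕ) = b := h
      omega
    · have h' : 2 * m + (a : ℕ) = m + b := h
      omega
    · have h' : 2 * m + (a : ℕ) = 2 * m + b := h
      rw [Fin.ext (by omega : (a : ℕ) = b)]
  surj := by
    intro k hk
    by_cases h : k < m
    · exact ⟨Sum.inl (Sum.inl ⟨k, h⟩), rfl⟩
    · by_cases h2 : k < 2 * m
      · refine ⟨Sum.inl (Sum.inr ⟨k - m, by omega⟩), ?_⟩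
        show m + (k - m) = k
        omega
      · refine ⟨Sum.inr ⟨k - 2 * m, by omega⟩, ?_⟩
        show 2 * m + (k - 2 * m) = k
        omega

/-- the hyperbolic form on the codes. -/
def QNplus (m : ℕ) (n : ℕ) : Bool := xorSum (fun i => n.testBit i && n.testBit (m + i)) m

/-- the elliptic form on the codes. -/
def QNminus (m : ℕ) (n : ℕ) : Bool :=
  xorSum (fun i => n.testBit i && n.testBit (m + i)) m ^^
    ((n.testBit (2 * m) ^^ (n.testBit (2 * m) && n.testBit (2 * m + 1))) ^^ n.testBit (2 * m + 1))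

theorem hQplus (m : ℕ) (n : ℕ) :
    Cfsg.quadFormPlus m (ZMod 2) (vecOf (idxPlus m) n) = bit (QNplus m n) := by
  unfold Cfsg.quadFormPlus QNplus
  rw [bit_xorSum, ← Fin.sum_univ_eq_sum_range (fun i => bit (n.testBit i && n.testBit (m + i))) m]
  apply Finset.sum_congr rfl
  intro i _
  rw [bit_and]
  rfl

theorem bit_sq (b : Bool) : bit b ^ 2 = bit b := by
  cases b <;> decide

theorem hQminus (m : ℕ) (n : ℕ) :
    Cfsg.quadFormMinus m (ZMod 2) 1 1 (vecOf (idxMinus m) n) = bit (QNminus m n) := by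
  unfold Cfsg.quadFormMinus QNminus
  rw [bit_xor, bit_xor, bit_xor, bit_and, bit_xorSum,
    ← Fin.sum_univ_eq_sum_range (fun i => bit (n.testBit i && n.testBit (m + i))) m]
  congr 1
  · apply Finset.sum_congr rfl
    intro i _
    rw [bit_and]
    rfl
  · have e0 : vecOf (idxMinus m) n (Sum.inr 0) = bit (n.testBit (2 * m)) := rfl
    have e1 : vecOf (idxMinus m) n (Sum.inr 1) = bit (n.testBit (2 * m + 1)) := rfl
    rw [e0, e1, bit_sq, bit_sq, one_mul, one_mul]

end Cfsg.Agent.Lib.Helper28.BitOmega
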