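import Mathlib
import Cfsg.Prelude.Def_Classical
import Cfsg.Prelude.Def_ClassicalGeometry
import Cfsg.Prelude.Def_GeometricClasses
import Cfsg.Agent.Lib.Helper5.SUMax
import Cfsg.Agent.Lib.Helper5.UForm
import Cfsg.Agent.Lib.Helper22.C3LDefs
import Cfsg.Agent.Lib.Helper22.C3LTool
import Cfsg.Agent.Lib.Helper16.C3uDefs

/-!
Unitary C3 (cubic) market (helper16, `notes/C3u_leaves.lean`): leaf TR `exists_cent_map`, CORE form:
the leaves F1 `st_ne_refl`, W0 `fE_nondeg`, W3 `exists_iso_not_perp` are hypotheses.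
The centraliser of `E` in `GU ⊓ SL` is transitive on the non-zero `E`-isotropic vectors (`3 r ≤ n`).
-/

set_option autoImplicit false
set_option linter.unusedSectionVars false
set_option linter.unusedVariables false

namespace Cfsg.Agent.Lib.Helper28.C3uTR
open Cfsg Matrix Module Cfsg.Agent.Lib.Helper5.SpMax Cfsg.Agent.Lib.Helper5.SUMax
  Cfsg.Agent.Lib.Helper22.C3L Cfsg.Agent.Lib.Helper16.C3u

universe u
variable {F : Type u} [Field F] [Fintype F] {n q : ℕ} {E : Type u} [Field E] [Algebra F E]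

local notation "𝕍" => (Fin n → F)
local notation "𝕄" => Matrix (Fin n) (Fin n) F
local notation "ℍ" => (Cfsg.GU n F q ⊓ Cfsg.Geo.specialLinear (Fin n) F)

/-- `u'` is the image of `u` under an element of `C_ℍ(E)` -/
def Rel (S : KU n q F E) (u u' : 𝕍) : Prop :=
  ∃ s ∈ ℍ ⊓ cent S.ρ, ((s : GL (Fin n) F) : 𝕄) *ᵥ u = u'

lemma Rel.trans {S : KU n q F E} {u v w : 𝕍} (h1 : Rel S u v) (h2 : Rel S v w) : Rel S u w := by
  obtain ⟨s, hs, hsu⟩ := h1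
  obtain ⟨t, ht, htv⟩ := h2
  refine ⟨t * s, mul_mem ht hs, ?_⟩
  rw [Units.val_mul, ← Matrix.mulVec_mulVec, hsu, htv]

/-- T0: one transvection if `fE u z` is skew and non-zero -/
lemma rel_of_skew (S : KU n q F E) {u z : 𝕍} (hu : S.fE u u = 0) (hz : S.fE z z = 0)
    (hδ0 : S.fE u z ≠ 0) (hδ : S.st (S.fE u z) = - S.fE u z) : Rel S u z := by
  set δ := S.fE u z with hδdef
  have hzu : S.fE z u = -δ := by rw [S.herm u z, hδ]
  have hv : S.fE (z - u) (z - u) = 0 := by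
    rw [S.fE_sub_left, S.fE_sub_right, S.fE_sub_right, hz, hu, hzu, ← hδdef]
    ring
  have ha : S.st δ⁻¹ = -δ⁻¹ := by
    rw [map_inv₀, hδ, inv_neg]
  refine ⟨S.kt (z - u) δ⁻¹ hv, ⟨S.kt_mem hv ha, ?_⟩, ?_⟩
  · show S.kt (z - u) δ⁻¹ hv ∈ cent S.ρ
    intro e
    exact S.kt_comm hv δ⁻¹ e
  · rw [S.kt_mulVec, S.fE_sub_right, hu, sub_zero, ← hδdef, inv_mul_cancel₀ hδ0, act_one]
    abel

section core
variable (S : KU n q F E) [FiniteDimensional F E]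

/-- projection to the `E`-perp of a hyperbolic pair -/
lemma exists_proj {u u' : 𝕍} (hu : S.fE u u = 0) (hu' : S.fE u' u' = 0) (hγ : S.fE u u' ≠ 0) (x : 𝕍) :
    ∃ a b : E, S.fE (x - act S.ρ a u - act S.ρ b u') u = 0 ∧
      S.fE (x - act S.ρ a u - act S.ρ b u') u' = 0 := by
  set γ := S.fE u u' with hγdef
  have hσγ : S.fE u' u = S.st γ := S.herm u u'
  have hσγ0 : S.st γ ≠ 0 := by
    intro h
    apply hγ
    have := congrArg S.st h
    rwa [S.st_st, map_zero] at this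
  refine ⟨S.fE x u' / γ, S.fE x u / S.st γ, ?_, ?_⟩
  · rw [S.fE_sub_left, S.fE_sub_left, S.fE_act_left, S.fE_act_left, hu, hσγ, mul_zero, sub_zero,
      div_mul_cancel₀ _ hσγ0, sub_self]
  · rw [S.fE_sub_left, S.fE_sub_left, S.fE_act_left, S.fE_act_left, hu', ← hγdef, mul_zero, sub_zero,
      div_mul_cancel₀ _ hγ, sub_self]

/-- a non-isotropic vector in the `E`-perp of a hyperbolic pair -/
lemma exists_noniso (hst : S.st ≠ RingEquiv.refl E) (hnd : ∀ x : 𝕍, x ≠ 0 → ∃ y, S.fE x y ≠ 0)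
    (hn : 3 * finrank F E ≤ n) {u u' : 𝕍} (hu0 : u ≠ 0) (hu'0 : u' ≠ 0)
    (hu : S.fE u u = 0) (hu' : S.fE u' u' = 0) (hγ : S.fE u u' ≠ 0) :
    ∃ y₀ : 𝕍, S.fE y₀ u = 0 ∧ S.fE y₀ u' = 0 ∧ S.fE y₀ y₀ ≠ 0 := by
  have hrpos : 0 < finrank F E := Module.finrank_pos
  -- a vector outside `E u + E u'`
  have hlt : line S.ρ u ⊔ line S.ρ u' < ⊤ := by
    rw [lt_top_iff_ne_top]
    intro htop
    have h1 := Submodule.finrank_add_le_finrank_add_finrank (line S.ρ u) (line S.ρ u')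
    rw [htop, finrank_top, Module.finrank_fintype_fun_eq_card, Fintype.card_fin, finrank_line hu0,
      finrank_line hu'0] at h1
    omega
  obtain ⟨x₀, -, hx₀⟩ := SetLike.exists_of_lt hlt
  obtain ⟨a, b, h1, h2⟩ := exists_proj S hu hu' hγ x₀
  set y₁ := x₀ - act S.ρ a u - act S.ρ b u' with hy₁
  have hy₁0 : y₁ ≠ 0 := by
    intro h
    apply hx₀
    have : x₀ = act S.ρ a u + act S.ρ b u' := by
      have := sub_eq_zero.mp (show x₀ - act S.ρ a u - act S.ρ b u' = 0 from h)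
      rw [sub_eq_iff_eq_add] at this
      rw [this]
      abel
    rw [this]
    exact Submodule.add_mem_sup (act_mem_line a u) (act_mem_line b u')
  by_cases hy₁iso : S.fE y₁ y₁ = 0
  swap
  · exact ⟨y₁, h1, h2, hy₁iso⟩
  obtain ⟨t, ht⟩ := hnd y₁ hy₁0
  obtain ⟨a', b', h1', h2'⟩ := exists_proj S hu hu' hγ t
  set y₂ := t - act S.ρ a' u - act S.ρ b' u' with hy₂
  have hy₁u : S.fE y₁ u = 0 := h1
  have hy₁u' : S.fE y₁ u' = 0 := h2
  have hg : S.fE y₁ y₂ = S.fE y₁ t := by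
    rw [hy₂, S.fE_sub_right, S.fE_sub_right, S.fE_act_right, S.fE_act_right, hy₁u, hy₁u', mul_zero, mul_zero,
      sub_zero, sub_zero]
  by_cases hy₂iso : S.fE y₂ y₂ = 0
  swap
  · exact ⟨y₂, h1', h2', hy₂iso⟩
  set g₀ := S.fE y₁ y₂ with hg₀
  have hg₀ne : g₀ ≠ 0 := by rw [hg]; exact ht
  obtain ⟨θ, hθ⟩ := Cfsg.Agent.Lib.Helper5.UForm.exists_tr_ne S.st_st hst
  set lam := S.st (θ / g₀) with hlam
  have hσlam : S.st lam = θ / g₀ := S.st_st _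
  refine ⟨y₁ + act S.ρ lam y₂, ?_, ?_, ?_⟩
  · rw [S.add_left, S.fE_act_left, h1, h1', mul_zero, add_zero]
  · rw [S.add_left, S.fE_act_left, h2, h2', mul_zero, add_zero]
  · have hy₂y₁ : S.fE y₂ y₁ = S.st g₀ := S.herm y₁ y₂
    rw [S.add_left, S.fE_add_right, S.fE_add_right, S.fE_act_left, S.fE_act_left, S.fE_act_right,
      S.fE_act_right, hy₁iso, hy₂iso, hy₂y₁, ← hg₀, hσlam]
    have e1 : θ / g₀ * g₀ = θ := div_mul_cancel₀ _ hg₀ne
    have e2 : lam * S.st g₀ = S.st θ := by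
      rw [hlam, ← map_mul, e1]
    rw [e1, e2, mul_zero, mul_zero, zero_add, add_zero]
    exact hθ

/-- a vector of prescribed norm in the `E`-perp of a hyperbolic pair -/
lemma exists_perp_norm (hst : S.st ≠ RingEquiv.refl E) (hnd : ∀ x : 𝕍, x ≠ 0 → ∃ y, S.fE x y ≠ 0)
    (hn : 3 * finrank F E ≤ n) {u u' : 𝕍} (hu0 : u ≠ 0) (hu'0 : u' ≠ 0)
    (hu : S.fE u u = 0) (hu' : S.fE u' u' = 0) (hγ : S.fE u u' ≠ 0) {c : E} (hc : S.st c = c) :
    ∃ y : 𝕍, S.fE y u = 0 ∧ S.fE y u' = 0 ∧ S.fE y y = c := by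
  by_cases hc0 : c = 0
  · exact ⟨0, S.fE_zero_left _, S.fE_zero_left _, by rw [S.fE_zero_left, hc0]⟩
  obtain ⟨y₀, h1, h2, h3⟩ := exists_noniso S hst hnd hn hu0 hu'0 hu hu' hγ
  have : Finite E := Module.finite_of_finite F
  have : Fintype E := Fintype.ofFinite E
  have hfix : S.st (c / S.fE y₀ y₀) = c / S.fE y₀ y₀ := by
    rw [map_div₀, hc, S.st_fE_self]
  obtain ⟨lam, hlam⟩ := Cfsg.Agent.Lib.Helper5.UForm.norm_surj S.st_st hst (c / S.fE y₀ y₀)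
    (div_ne_zero hc0 h3) hfix
  refine ⟨act S.ρ lam y₀, ?_, ?_, ?_⟩
  · rw [S.fE_act_left, h1, mul_zero]
  · rw [S.fE_act_left, h2, mul_zero]
  · rw [S.fE_act_left, S.fE_act_right]
    calc lam * (S.st lam * S.fE y₀ y₀) = (lam * S.st lam) * S.fE y₀ y₀ := by ring
      _ = c := by rw [hlam, div_mul_cancel₀ _ h3]

/-- T1: an intermediate isotropic vector with skew products -/
lemma exists_mid (hst : S.st ≠ RingEquiv.refl E) (hnd : ∀ x : 𝕍, x ≠ 0 → ∃ y, S.fE x y ≠ 0)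
    (hn : 3 * finrank F E ≤ n) {u u' : 𝕍} (hu0 : u ≠ 0) (hu'0 : u' ≠ 0)
    (hu : S.fE u u = 0) (hu' : S.fE u' u' = 0) (hγ : S.fE u u' ≠ 0) :
    ∃ z : 𝕍, S.fE z z = 0 ∧ S.fE u z ≠ 0 ∧ S.st (S.fE u z) = - S.fE u z ∧
      S.fE z u' ≠ 0 ∧ S.st (S.fE z u') = - S.fE z u' := by
  obtain ⟨ε, hε0, hε⟩ := Cfsg.Agent.Lib.Helper5.UForm.exists_skew S.st_st hst
  set γ := S.fE u u' with hγdef
  have hσγ : S.fE u' u = S.st γ := S.herm u u'
  set α := ε / γ with hα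
  set β := S.st (ε / γ) with hβ
  have hσβ : S.st β = ε / γ := S.st_st _
  set N := α * S.st β * γ with hN
  have hcfix : S.st (-(N + S.st N)) = -(N + S.st N) := by
    rw [map_neg, map_add, S.st_st]
    ring
  obtain ⟨y, hy1, hy2, hy3⟩ := exists_perp_norm S hst hnd hn hu0 hu'0 hu hu' hγ hcfix
  have huy : S.fE u y = 0 := by rw [S.herm y u, hy1, map_zero]
  have hu'y : S.fE u' y = 0 := by rw [S.herm y u', hy2, map_zero]
  have hαγ : α * γ = ε := div_mul_cancel₀ _ hγ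
  have e_uz : S.fE u (act S.ρ α u + act S.ρ β u' + y) = ε := by
    rw [S.fE_add_right, S.fE_add_right, S.fE_act_right, S.fE_act_right, hu, ← hγdef, huy, hσβ, mul_zero,
      zero_add, add_zero, ← hα, hαγ]
  have e_zu' : S.fE (act S.ρ α u + act S.ρ β u' + y) u' = ε := by
    rw [S.add_left, S.add_left, S.fE_act_left, S.fE_act_left, hu', ← hγdef, hy2, mul_zero, add_zero,
      add_zero, hαγ]
  refine ⟨act S.ρ α u + act S.ρ β u' + y, ?_, ?_, ?_, ?_, ?_⟩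
  · have hσN : S.st N = β * S.st α * S.st γ := by
      rw [hN, map_mul, map_mul, S.st_st, mul_comm (S.st α) β]
    simp only [S.add_left, S.fE_add_right, S.fE_act_left, S.fE_act_right]
    rw [hu, hu', ← hγdef, hσγ, huy, hu'y, hy1, hy2, hy3, hσN, hN]
    ring
  · rw [e_uz]; exact hε0
  · rw [e_uz]; exact hε
  · rw [e_zu']; exact hε0
  · rw [e_zu']; exact hε

/-- T1': `u → u'` when `fE u u' ≠ 0` -/
lemma rel_of_ne (hst : S.st ≠ RingEquiv.refl E) (hnd : ∀ x : 𝕍, x ≠ 0 → ∃ y, S.fE x y ≠ 0)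
    (hn : 3 * finrank F E ≤ n) {u u' : 𝕍} (hu0 : u ≠ 0) (hu'0 : u' ≠ 0)
    (hu : S.fE u u = 0) (hu' : S.fE u' u' = 0) (hγ : S.fE u u' ≠ 0) : Rel S u u' := by
  obtain ⟨z, hz, h1, h2, h3, h4⟩ := exists_mid S hst hnd hn hu0 hu'0 hu hu' hγ
  exact (rel_of_skew S hu hz h1 h2).trans (rel_of_skew S hz hu' h3 h4)

/-- T2: an isotropic vector perpendicular to neither `u` nor `u'` -/
lemma exists_bridge (hst : S.st ≠ RingEquiv.refl E)
    (hW3 : ∀ x : 𝕍, x ≠ 0 → ∃ a : 𝕍, S.fE a a = 0 ∧ S.fE x a ≠ 0)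
    {u u' : 𝕍} (hu0 : u ≠ 0) (hu'0 : u' ≠ 0) :
    ∃ w : 𝕍, S.fE w w = 0 ∧ S.fE u w ≠ 0 ∧ S.fE w u' ≠ 0 := by
  have hsymm_ne : ∀ {x y : 𝕍}, S.fE x y ≠ 0 → S.fE y x ≠ 0 := by
    intro x y h h'
    apply h
    rw [S.herm y x, h', map_zero]
  obtain ⟨w₁, hw₁, h1⟩ := hW3 u hu0
  obtain ⟨w₂, hw₂, h2⟩ := hW3 u' hu'0
  have h2' : S.fE w₂ u' ≠ 0 := hsymm_ne h2
  by_cases hc1 : S.fE w₁ u' = 0
  swap
  · exact ⟨w₁, hw₁, h1, hc1⟩
  by_cases hc2 : S.fE u w₂ = 0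
  swap
  · exact ⟨w₂, hw₂, hc2, h2'⟩
  set g := S.fE w₁ w₂ with hg
  obtain ⟨s, hs0, hκ⟩ : ∃ s : E, s ≠ 0 ∧ S.st s * g + S.st (S.st s * g) = 0 := by
    by_cases hg0 : g = 0
    · exact ⟨1, one_ne_zero, by rw [hg0, mul_zero, map_zero, add_zero]⟩
    · obtain ⟨ε, hε0, hε⟩ := Cfsg.Agent.Lib.Helper5.UForm.exists_skew S.st_st hst
      refine ⟨S.st (ε / g), ?_, ?_⟩
      · intro h
        have := congrArg S.st h
        rw [S.st_st, map_zero] at this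
        exact div_ne_zero hε0 hg0 this
      · rw [S.st_st, div_mul_cancel₀ _ hg0, hε, add_neg_cancel]
  refine ⟨w₁ + act S.ρ s w₂, ?_, ?_, ?_⟩
  · have hw₂w₁ : S.fE w₂ w₁ = S.st g := S.herm w₁ w₂
    rw [S.add_left, S.fE_add_right, S.fE_add_right, S.fE_act_left, S.fE_act_left, S.fE_act_right,
      S.fE_act_right, hw₁, hw₂, hw₂w₁, ← hg, mul_zero, mul_zero, zero_add, add_zero]
    have : s * S.st g = S.st (S.st s * g) := by rw [map_mul, S.st_st]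
    rw [this]
    exact hκ
  · rw [S.fE_add_right, S.fE_act_right, hc2, mul_zero, add_zero]
    exact h1
  · rw [S.add_left, S.fE_act_left, hc1, zero_add]
    exact mul_ne_zero hs0 h2'

/-- TR, core form -/
theorem exists_cent_map_core (hst : S.st ≠ RingEquiv.refl E)
    (hnd : ∀ x : 𝕍, x ≠ 0 → ∃ y, S.fE x y ≠ 0)
    (hW3 : ∀ x : 𝕍, x ≠ 0 → ∃ a : 𝕍, S.fE a a = 0 ∧ S.fE x a ≠ 0)
    (hn : 3 * finrank F E ≤ n) {u u' : 𝕍} (hu0 : u ≠ 0) (hu : S.fE u u = 0) (hu'0 : u' ≠ 0)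
    (hu' : S.fE u' u' = 0) :
    ∃ s ∈ ℍ, (∀ e : E, (s : 𝕄) * S.ρ e = S.ρ e * (s : 𝕄)) ∧ (s : 𝕄) *ᵥ u = u' := by
  obtain ⟨w, hw, h1, h2⟩ := exists_bridge S hst hW3 hu0 hu'0
  have hw0 : w ≠ 0 := by
    intro h
    rw [h, S.fE_zero_right] at h1
    exact h1 rfl
  have hR : Rel S u u' :=
    (rel_of_ne S hst hnd hn hu0 hw0 hu hw h1).trans (rel_of_ne S hst hnd hn hw0 hu'0 hw hu' h2)
  obtain ⟨s, ⟨hsH, hsC⟩, hsu⟩ := hR
  exact ⟨s, hsH, hsC, hsu⟩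

end core

end Cfsg.Agent.Lib.Helper28.C3uTR
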