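/-
helper28 (S2441): the centralizer condition on radical `p`-subgroups for the finite Chevalley groups of
types G₂, B₂, D₄, F₄, E₆, E₇, E₈ in the defining characteristic, from the Borel–Tits theorem (S2154),
helper7's `U_J ⊴ P_J`, helper11's `C_G(U_J) ≤ U` and helper17's `le_of_core`:

* `eq_one_of_centralizes_conj_uJ`: a `p`-regular element of `G` centralizing a `G`-conjugate of the
  unipotent radical `U_J` of a proper standard parabolic subgroup is trivial;
* `chev_hkey`: if `K ≠ 1` is a `p`-subgroup of `G` with `O_p(N_G(K)) = K`, every `p`-regular element of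
  `C_G(K)` is trivial (hence central);
* `eq_one_of_centralizes_Uc`: a `p`-regular element of `G` centralizing `U` is trivial;
* `card_classes_eq_one`: generic count used with S0953.
-/
import Mathlib
import Cfsg.Agent.S2154
import Cfsg.Agent.Lib.Helper11.ChevParCent
import Cfsg.Agent.Lib.Helper7.ChevOrd3
import Cfsg.Agent.Lib.Helper7.ChevSylow
import Cfsg.Agent.Lib.Helper6.ChevStX1
import Cfsg.Agent.Lib.Helper17.SLBlkA

set_option autoImplicit false

namespace Cfsg.Agent.Lib.Helper28.ChevBlkKey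

open Cfsg Cfsg.Lie Cfsg.Agent.Lib.Helper7 Cfsg.Agent.Lib.Helper11.ChevParCent

section generic

variable {G : Type*} [Group G]

/-- an element of `p`-power order which is `p`-regular is trivial -/
theorem eq_one_of_pow_of_not_dvd (p : ℕ) [Fact p.Prime] (x : G) (k : ℕ) (hk : x ^ p ^ k = 1)
    (hreg : ¬ p ∣ orderOf x) : x = 1 := by
  have h2 : orderOf x ∣ p ^ k := orderOf_dvd_of_pow_eq_one hk
  obtain ⟨j, _, hoj⟩ := (Nat.dvd_prime_pow (Fact.out : p.Prime)).mp h2
  rcases Nat.eq_zero_or_pos j with rfl | hjpos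
  · rw [pow_zero, orderOf_eq_one_iff] at hoj
    exact hoj
  · exfalso
    apply hreg
    rw [hoj]
    exact dvd_pow_self p hjpos.ne'

/-- if the only `p`-regular element of `C_G(P)` is `1`, there is exactly one `N_G(P)`-class of
`p`-regular elements of `C_G(P)` -/
theorem card_classes_eq_one (p : ℕ) (P : Subgroup G)
    (h : ∀ x ∈ Subgroup.centralizer (P : Set G), ¬ p ∣ orderOf x → x = 1) (hp1 : p ≠ 1) :
    Nat.card {C : ConjClasses (Subgroup.normalizer (P : Set G)) //
      ∀ n : Subgroup.normalizer (P : Set G), ConjClasses.mk n = C →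
        ¬ p ∣ orderOf n ∧ (n : G) ∈ Subgroup.centralizer (P : Set G)} = 1 := by
  rw [Nat.card_eq_one_iff_unique]
  constructor
  · constructor
    rintro ⟨C, hC⟩ ⟨C', hC'⟩
    apply Subtype.ext
    show C = C'
    obtain ⟨m, rfl⟩ := ConjClasses.mk_surjective C
    obtain ⟨m', rfl⟩ := ConjClasses.mk_surjective C'
    have h1 := hC m rfl
    have h2 := hC' m' rfl
    rw [← Subgroup.orderOf_coe] at h1 h2
    have e1 : (m : G) = 1 := h _ h1.2 h1.1
    have e2 : (m' : G) = 1 := h _ h2.2 h2.1
    have : m = m' := Subtype.ext (e1.trans e2.symm)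
    rw [this]
  · refine ⟨⟨ConjClasses.mk 1, ?_⟩⟩
    intro n hn
    have hn1 : n = 1 := by
      rw [ConjClasses.mk_eq_mk_iff_isConj, isConj_iff] at hn
      obtain ⟨c, hc⟩ := hn
      have : n = c⁻¹ * 1 * c := by rw [← hc]; group
      rw [this]; group
    rw [hn1]
    refine ⟨?_, ?_⟩
    · rw [orderOf_one, Nat.dvd_one]
      exact hp1
    · exact Subgroup.one_mem _

end generic

section
variable {F : Type*} [Field F] [Fintype F] (p : ℕ) [Fact p.Prime] [CharP F p]
variable (D : ChevalleyDatum) (hD : D ∈ [chevG2, chevB2, chevD4, chevF4, chevE6, chevE7, chevE8])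

include hD in
omit [Fact p.Prime] in
theorem isPGroup_posUnipotent : IsPGroup p ↥(D.posUnipotent F) := by
  obtain ⟨n, hp, hq⟩ := FiniteField.card F p
  apply IsPGroup.of_card (n := n * (D.nroots / 2))
  rw [card_posUnipotent D hD F, hq, pow_mul]

omit [Fintype F] in
theorem uJ_le_posUnipotent (J : Set ℕ) : D.unipotentRadical F J ≤ D.posUnipotent F := by
  unfold ChevalleyDatum.unipotentRadical ChevalleyDatum.posUnipotent
  apply Subgroup.closure_mono
  rintro g ⟨r, t, hr, -, hg⟩
  exact ⟨r, t, hr, hg⟩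

include hD in
/-- a `p`-regular element of `G` centralizing a `G`-conjugate of the unipotent radical of a proper
standard parabolic subgroup is trivial -/
theorem eq_one_of_centralizes_conj_uJ (g : GL D.Idx F) (hg : g ∈ D.group F) (J : Set ℕ)
    (hJ : ∃ i, i < D.rank ∧ i ∉ J) (x : GL D.Idx F) (hx : x ∈ D.group F)
    (hc : ∀ u ∈ D.unipotentRadical F J, (g * u * g⁻¹) * x = x * (g * u * g⁻¹))
    (hreg : ¬ p ∣ orderOf x) : x = 1 := by
  obtain ⟨i0, hi0, hi0J⟩ := hJ
  obtain ⟨w, hw⟩ := exists_parCentFacts D hD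
  have hy : g⁻¹ * x * g ∈ D.posUnipotent F := by
    apply centralizer_uJ_inf_group_le_posUnipotent D hD F w hw J i0 hi0 hi0J
    refine Subgroup.mem_inf.mpr ⟨?_, ?_⟩
    · rw [Subgroup.mem_centralizer_iff]
      intro u hu
      have := hc u hu
      calc u * (g⁻¹ * x * g) = g⁻¹ * ((g * u * g⁻¹) * x) * g := by group
        _ = g⁻¹ * (x * (g * u * g⁻¹)) * g := by rw [this]
        _ = g⁻¹ * x * g * u := by group
    · exact Subgroup.mul_mem _ (Subgroup.mul_mem _ (Subgroup.inv_mem _ hg) hx) hg
  obtain ⟨k, hk⟩ := (isPGroup_posUnipotent p D hD) ⟨_, hy⟩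
  have hk' : (g⁻¹ * x * g) ^ p ^ k = 1 := by
    have := congrArg Subtype.val hk
    simpa using this
  have hx_eq : x = g * (g⁻¹ * x * g) * g⁻¹ := by group
  have hxk : x ^ p ^ k = 1 := by
    rw [hx_eq, conj_pow, hk', mul_one, mul_inv_cancel]
  exact eq_one_of_pow_of_not_dvd p x k hxk hreg

include hD in
/-- **the key centralizer condition** for the finite Chevalley groups in the defining characteristic -/
theorem chev_hkey (K : Subgroup ↥(D.group F)) (hK : IsPGroup p K) (hne : K ≠ ⊥)
    (hcore : (Cfsg.pCore p (Subgroup.normalizer (K : Set ↥(D.group F)))).map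
        (Subgroup.normalizer (K : Set ↥(D.group F))).subtype = K)
    (x : ↥(D.group F)) (hx : x ∈ Subgroup.centralizer (K : Set ↥(D.group F)))
    (hreg : ¬ p ∣ orderOf x) : x ∈ Subgroup.center ↥(D.group F) := by
  classical
  have hfin : Finite ↥(D.group F) := Cfsg.Agent.Lib.Helper6.ChevSt.finite_group D F
  set U' : Subgroup (GL D.Idx F) := K.map (D.group F).subtype with hU'
  have hU'G : U' ≤ D.group F := by
    rintro _ ⟨k, -, rfl⟩
    exact k.2
  have hU'p : IsPGroup p U' := hK.map _
  have hU'ne : U' ≠ ⊥ := by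
    intro h
    apply hne
    rw [eq_bot_iff]
    intro k hk
    have h1 : (k : GL D.Idx F) ∈ U' := ⟨k, hk, rfl⟩
    rw [h, Subgroup.mem_bot] at h1
    rw [Subgroup.mem_bot]
    exact Subtype.ext h1
  obtain ⟨g, hg, J, hJ, hN, -⟩ := Cfsg.Agent.S2154.result p D hD U' hU'G hU'p hU'ne
  obtain ⟨W, hW⟩ := exists_coefW D hD
  have hUG : D.posUnipotent F ≤ D.group F :=
    le_trans (posUnipotent_le_borel D hD F) (borel_le_group D hD F)
  have hUJG : D.unipotentRadical F J ≤ D.group F := (uJ_le_posUnipotent D J).trans hUG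
  set V' : Subgroup (GL D.Idx F) := (D.unipotentRadical F J).map (MulAut.conj g).toMonoidHom with hV'
  have hV'G : V' ≤ D.group F := by
    rintro _ ⟨u, hu, rfl⟩
    exact Subgroup.mul_mem _ (Subgroup.mul_mem _ hg (hUJG hu)) (Subgroup.inv_mem _ hg)
  set V : Subgroup ↥(D.group F) := V'.subgroupOf (D.group F) with hV
  have hVp : IsPGroup p V := by
    have h1 : IsPGroup p ↥(D.unipotentRadical F J) :=
      (isPGroup_posUnipotent p D hD).to_le (uJ_le_posUnipotent D J)
    have h2 : IsPGroup p V' := h1.map _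
    exact h2.comap_subtype
  have hNV : Subgroup.normalizer (K : Set ↥(D.group F)) ≤ Subgroup.normalizer (V : Set ↥(D.group F)) := by
    intro n hn
    have h1 : (n : GL D.Idx F) ∈ Subgroup.normalizer (U' : Set (GL D.Idx F)) :=
      Subgroup.le_normalizer_map (D.group F).subtype ⟨n, hn, rfl⟩
    have h2 : (n : GL D.Idx F) ∈ (D.parabolicSubgroup F J).map (MulAut.conj g).toMonoidHom :=
      hN (Subgroup.mem_inf.mpr ⟨h1, n.2⟩)
    have h3 : (D.parabolicSubgroup F J).map (MulAut.conj g).toMonoidHom ≤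
        Subgroup.normalizer (V' : Set (GL D.Idx F)) :=
      (Subgroup.map_mono (parabolic_le_normalizer_uJ D hD F W hW J)).trans
        (Subgroup.le_normalizer_map _)
    have h4 : (n : GL D.Idx F) ∈ Subgroup.normalizer (V' : Set (GL D.Idx F)) := h3 h2
    have h5 : n ∈ (Subgroup.normalizer (V' : Set (GL D.Idx F))).subgroupOf (D.group F) :=
      Subgroup.mem_subgroupOf.mpr h4
    rw [Subgroup.subgroupOf_normalizer_eq hV'G] at h5
    exact h5
  have hVK : V ≤ K := Cfsg.Agent.Lib.Helper17.SLBlkA.le_of_core p K V hK hVp hcore hNV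
  have hx1 : (x : GL D.Idx F) = 1 := by
    apply eq_one_of_centralizes_conj_uJ p D hD g hg J hJ (x : GL D.Idx F) x.2
    · intro u hu
      have hm : g * u * g⁻¹ ∈ V' := ⟨u, hu, rfl⟩
      have hmK : (⟨g * u * g⁻¹, hV'G hm⟩ : ↥(D.group F)) ∈ K :=
        hVK (Subgroup.mem_subgroupOf.mpr hm)
      have := Subgroup.mem_centralizer_iff.mp hx _ hmK
      exact congrArg Subtype.val this
    · rwa [Subgroup.orderOf_coe]
  have : x = 1 := Subtype.ext hx1
  rw [this]
  exact Subgroup.one_mem _

include hD in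
/-- a `p`-regular element of `G` centralizing `U` is trivial -/
theorem eq_one_of_centralizes_Uc (h0 : 0 < D.rank) (x : ↥(D.group F))
    (hx : x ∈ Subgroup.centralizer
      (((D.posUnipotent F).subgroupOf (D.group F) : Subgroup ↥(D.group F)) : Set ↥(D.group F)))
    (hreg : ¬ p ∣ orderOf x) : x = 1 := by
  have hUG : D.posUnipotent F ≤ D.group F :=
    le_trans (posUnipotent_le_borel D hD F) (borel_le_group D hD F)
  have hx1 : (x : GL D.Idx F) = 1 := by
    apply eq_one_of_centralizes_conj_uJ p D hD 1 (Subgroup.one_mem _) ∅ ⟨0, h0, Set.notMem_empty 0⟩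
      (x : GL D.Idx F) x.2
    · intro u hu
      have hu' : u ∈ D.posUnipotent F := uJ_le_posUnipotent D ∅ hu
      have hmK : (⟨u, hUG hu'⟩ : ↥(D.group F)) ∈ (D.posUnipotent F).subgroupOf (D.group F) :=
        Subgroup.mem_subgroupOf.mpr hu'
      have := Subgroup.mem_centralizer_iff.mp hx _ hmK
      have h2 : u * (x : GL D.Idx F) = (x : GL D.Idx F) * u := congrArg Subtype.val this
      simpa using h2
    · rwa [Subgroup.orderOf_coe]
  exact Subtype.ext hx1

end

end Cfsg.Agent.Lib.Helper28.ChevBlkKey
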