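/-
helper28 (S2441): a finite Chevalley group of type G₂, B₂, D₄, F₄, E₆, E₇, E₈ with trivial `C_G(U) ∩ p'`
(always true) has exactly two `p`-blocks in the defining characteristic:

* defect zero or full defect: helper27 `SLDich.defect_zero_or_full` + `ChevBlkKey.chev_hkey`;
* exactly one block of defect zero: helper17 `SplitBNDefZero.card_defect_zero_blocks_eq_one` on the
  split (B,N)-record `S2318.chevSplit`;
* exactly one block of full defect: S0953 + `ChevBlkKey.card_classes_eq_one`;
* count: helper1 `SLBlkCount.card_blocks_split`.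
-/
import Mathlib
import Cfsg.Agent.S2318
import Cfsg.Agent.S0953
import Cfsg.Agent.Lib.Helper28.ChevBlkKey
import Cfsg.Agent.Lib.Helper27.SLDich
import Cfsg.Agent.Lib.Helper17.SplitBNDefZero
import Cfsg.Agent.Lib.Helper1.SLBlkCount

set_option autoImplicit false

namespace Cfsg.Agent.Lib.Helper28.ChevBlkCount

open Cfsg Cfsg.Lie Cfsg.Agent.Lib.Helper7 Cfsg.Agent.Lib.Helper6.ChevSt Cfsg.Agent.Lib.Helper6.ChevStX1
open Cfsg.Agent.Lib.Helper27 Cfsg.Agent.Lib.Helper28.ChevBlkKey

section
variable {F : Type*} [Field F] [Fintype F] (p : ℕ) [Fact p.Prime] [CharP F p]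
variable (D : ChevalleyDatum) (hD : D ∈ [chevG2, chevB2, chevD4, chevF4, chevE6, chevE7, chevE8])

include hD in
/-- **a finite Chevalley group has exactly two `p`-blocks in the defining characteristic** -/
theorem card_blocks_chev (h0 : 0 < D.rank) (hN : 0 < D.nroots / 2)
    (M : Ideal Cfsg.AlgInt) (hM : Cfsg.IsPModular p M) :
    Nat.card {B : Set (Cfsg.IrrCharacter ↥(D.group F)) // Cfsg.IsPBlock M B} = 2 := by
  classical
  have hp : p.Prime := Fact.out
  have hfinG := finite_group D F
  have : Fintype ↥(D.group F) := Fintype.ofFinite _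
  obtain ⟨P, hP⟩ := posUnipotent_sylow D hD F p
  have hUsyl : Nat.card (Uc D F) = p ^ (Nat.card ↥(D.group F)).factorization p := by
    have h := P.card_eq_multiplicity
    rw [hP] at h
    exact h
  have hpos : 0 < (Nat.card ↥(D.group F)).factorization p := by
    rcases Nat.eq_zero_or_pos ((Nat.card ↥(D.group F)).factorization p) with h | h
    · exfalso
      rw [h, pow_zero, card_Uc D hD F] at hUsyl
      have h1 : 1 < Fintype.card F ^ (D.nroots / 2) :=
        Nat.one_lt_pow hN.ne' Fintype.one_lt_card
      omega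
    · exact h
  -- defect zero or full defect
  have h2 : ∀ B : Set (IrrCharacter ↥(D.group F)), IsPBlock M B →
      blockDefect p B = 0 ∨ blockDefect p B = (Nat.card ↥(D.group F)).factorization p :=
    fun B hB => SLDich.defect_zero_or_full p (chev_hkey p D hD) M hM B hB
  -- exactly one block of defect zero
  obtain ⟨ψ, hψ⟩ := GGHub.chev_psi D hD F
  have h1 : Nat.card {B : Set (IrrCharacter ↥(D.group F)) // IsPBlock M B ∧ blockDefect p B = 0} = 1 :=
    Cfsg.Agent.Lib.Helper17.SplitBNDefZero.card_defect_zero_blocks_eq_one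
      (Cfsg.Agent.S2318.chevSplit D hD F) ψ hψ _ (coe_SfinChev D hD F) p (hUp D hD F p) hUsyl M hM
  -- exactly one block of full defect
  have h3 : ∀ x ∈ Subgroup.centralizer ((P : Subgroup ↥(D.group F)) : Set ↥(D.group F)),
      ¬ p ∣ orderOf x → x = 1 := by
    intro x hx hreg
    rw [hP] at hx
    exact eq_one_of_centralizes_Uc p D hD h0 x hx hreg
  rw [Cfsg.Agent.Lib.Helper1.SLBlkCount.card_blocks_split p M hM P hpos h2, h1,
    Cfsg.Agent.S0953.result p M hM P, card_classes_eq_one p (P : Subgroup ↥(D.group F)) h3 hp.ne_one]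

end

end Cfsg.Agent.Lib.Helper28.ChevBlkCount
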