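import Mathlib
import Cfsg.Prelude.Def_Spor_Mathieu
import Cfsg.Agent.Lib.Helper3.OutAut.Gen

set_option autoImplicit false

/-!
Certificates for the generation of `M23` by two elements of prescribed prime orders with product of a
prescribed prime order: the elements are given by tables, the generation is checked with transversals for
the stabiliser chain of `M24` computed by a straight-line program (library of helper3).
-/

namespace Cfsg.Agent.Lib.Helper28.M23Gen

open Cfsg Cfsg.Agent.Lib.Helper3.Golay Cfsg.Agent.Lib.Helper3.OutAut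

theorem pt23 : pt 23 = (none : GolayPt) := rfl

theorem mem_M23 {g : Equiv.Perm GolayPt} : g ∈ Cfsg.Spor.M23 ↔ g ∈ M24 ∧ g none = none := by
  unfold Cfsg.Spor.M23
  rw [Subgroup.mem_inf]
  constructor <;> rintro ⟨h1, h2⟩ <;> exact ⟨h1, h2⟩

theorem M23_eq : Cfsg.Spor.M23 = M24 ⊓ fixB 1 := by
  ext g
  rw [mem_M23, Subgroup.mem_inf, mem_fixB]
  constructor
  · rintro ⟨h1, h2⟩
    refine ⟨h1, fun j hj => ?_⟩
    have : j = 0 := by omega
    subst this
    exact h2
  · rintro ⟨h1, h2⟩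
    exact ⟨h1, h2 0 (by norm_num)⟩

theorem fixes_none {g : Equiv.Perm GolayPt} {T : List ℕ} (h : HasTbl g T) (h23 : T.getD 23 0 = 23) :
    g none = none := by
  rw [← pt23, h.apply (by norm_num), h23]

/-- the table is not the table of the identity. -/
def neId (T : List ℕ) : Bool := (List.range 24).any fun i => !(Nat.beq (T.getD i 0) i)

theorem ne_one_of_neId {σ : Equiv.Perm GolayPt} {T : List ℕ} (h : HasTbl σ T) (hn : neId T = true) :
    σ ≠ 1 := by
  intro h1
  unfold neId at hn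
  rw [List.any_eq_true] at hn
  obtain ⟨i, hi, hne⟩ := hn
  rw [List.mem_range] at hi
  have := h.2 i hi
  rw [h1, Equiv.Perm.one_apply, idx_pt hi] at this
  rw [← this, Nat.beq_refl] at hne
  simp at hne

/-- the generation check of a pair of tables. -/
def genOK (xT yT : List ℕ) (prog : List Ins) : Bool :=
  allBelow 7 (fun k => Nat.blt k 1 || transOK (run prog [xT, yT] ++ [idT]) baseL k (Dmask k))

/-- the certificate of a triple. -/
def certOK (p q r : ℕ) (xT yT : List ℕ) (prog : List Ins) : Bool :=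
  tblOK 0xffffff xT && tblOK 0xffffff yT &&
  Nat.beq (xT.getD 23 0) 23 && Nat.beq (yT.getD 23 0) 23 &&
  relOKN (encL xT) (encL yT) ([0], p) && relOKN (encL xT) (encL yT) ([1], q) &&
  relOKN (encL xT) (encL yT) ([0, 1], r) &&
  neId xT && neId yT && neId (compT xT yT) && genOK xT yT prog

theorem closure_subtype_eq_top {G : Type*} [Group G] {H : Subgroup G} {x y : G} (hx : x ∈ H)
    (hy : y ∈ H) (h : H ≤ Subgroup.closure {x, y}) :
    Subgroup.closure {(⟨x, hx⟩ : ↥H), ⟨y, hy⟩} = ⊤ := by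
  rw [eq_top_iff]
  intro g _
  have hmap : (Subgroup.closure {(⟨x, hx⟩ : ↥H), ⟨y, hy⟩}).map H.subtype = Subgroup.closure {x, y} := by
    rw [MonoidHom.map_closure, Set.image_pair]
    rfl
  have hg : (g : G) ∈ Subgroup.closure {x, y} := h g.2
  rw [← hmap, Subgroup.mem_map] at hg
  obtain ⟨k, hk, hkg⟩ := hg
  have : k = g := Subtype.ext hkg
  rwa [← this]

/-- a pair of tables with a certificate gives a generating triple of `M23`. -/
theorem exists_of_certOK {p q r : ℕ} (hp : p.Prime) (hq : q.Prime) (hr : r.Prime)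
    {xT yT : List ℕ} {prog : List Ins} (h : certOK p q r xT yT prog = true) :
    ∃ x y z : ↥Cfsg.Spor.M23, orderOf x = p ∧ orderOf y = q ∧ orderOf z = r ∧ x * y * z = 1 ∧
      Subgroup.closure {x, y} = ⊤ := by
  unfold certOK at h
  simp only [Bool.and_eq_true] at h
  obtain ⟨⟨⟨⟨⟨⟨⟨⟨⟨⟨h1, h2⟩, h3⟩, h4⟩, h5⟩, h6⟩, h7⟩, h8⟩, h9⟩, h10⟩, h11⟩ := h
  obtain ⟨x, hxM, hxT⟩ := tblOK_sound h1
  obtain ⟨y, hyM, hyT⟩ := tblOK_sound h2
  have hxM := hxM.1
  have hyM := hyM.1
  have hx : x ∈ Cfsg.Spor.M23 := mem_M23.mpr ⟨hxM, fixes_none hxT (Nat.eq_of_beq_eq_true h3)⟩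
  have hy : y ∈ Cfsg.Spor.M23 := mem_M23.mpr ⟨hyM, fixes_none hyT (Nat.eq_of_beq_eq_true h4)⟩
  have hxp : x ^ p = 1 := by
    have := eq_one_of_relOKN hxT.hasN hyT.hasN h5
    simpa [evalW] using this
  have hyq : y ^ q = 1 := by
    have := eq_one_of_relOKN hxT.hasN hyT.hasN h6
    simpa [evalW] using this
  have hxyr : (x * y) ^ r = 1 := by
    have := eq_one_of_relOKN hxT.hasN hyT.hasN h7
    simpa [evalW] using this
  have hx1 : x ≠ 1 := ne_one_of_neId hxT h8
  have hy1 : y ≠ 1 := ne_one_of_neId hyT h9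
  have hxy1 : x * y ≠ 1 := ne_one_of_neId (hxT.mul hyT) h10
  have : Fact p.Prime := ⟨hp⟩
  have : Fact q.Prime := ⟨hq⟩
  have : Fact r.Prime := ⟨hr⟩
  have hgen : Cfsg.Spor.M23 ≤ Subgroup.closure {x, y} := by
    rw [M23_eq]
    exact M24_fixB_le (closure_pair_le hxM hyM) (sound_pair hxT hyT prog) 1 (by norm_num) h11
  refine ⟨⟨x, hx⟩, ⟨y, hy⟩, (⟨x, hx⟩ * ⟨y, hy⟩)⁻¹, ?_, ?_, ?_, ?_, ?_⟩
  · rw [Subgroup.orderOf_mk]
    exact orderOf_eq_prime hxp hx1
  · rw [Subgroup.orderOf_mk]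
    exact orderOf_eq_prime hyq hy1
  · rw [orderOf_inv]
    have : (⟨x, hx⟩ * ⟨y, hy⟩ : ↥Cfsg.Spor.M23) = ⟨x * y, Subgroup.mul_mem _ hx hy⟩ := rfl
    rw [this, Subgroup.orderOf_mk]
    exact orderOf_eq_prime hxyr hxy1
  · exact mul_inv_cancel _
  · exact closure_subtype_eq_top hx hy hgen

end Cfsg.Agent.Lib.Helper28.M23Gen
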