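import Cfsg.Agent.Lib.Helper28.SchurFoxF
import Cfsg.Agent.Lib.Helper28.TC2Glue

set_option autoImplicit false

/-!
# Fox calculus certificates for presented groups

The coset space of a subgroup of a presented group is given by a verified coset table.
-/

namespace Cfsg.Agent.Lib.Helper28.SchurFox

open Subgroup
open scoped IsMulCommutative
open Cfsg.Agent.Lib.Helper28.TC2Lower (pathProd Table)
open Cfsg.Agent.Lib.Helper28.TC2Glue (pathOf lift_mk_eq_pathProd)

section Pres
variable {α : Type} (rels : Set (FreeGroup α)) (relWords : List (List (α × Bool)))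
  (lw : α × Bool → ℕ) (gi : α → ℕ)

theorem letG_lw (hlw : ∀ x b, lw (x, b) = 2 * gi x + cond b 0 1) {K : Type*} [Group K]
    (γx : ℕ → K) (x : α) (b : Bool) :
    letG γx (lw (x, b)) = cond b (γx (gi x)) (γx (gi x))⁻¹ := by
  rw [hlw]
  cases b with
  | true =>
    simp only [letG, cond_true, add_zero]
    rw [if_pos (by omega), show 2 * gi x / 2 = gi x by omega]
  | false =>
    simp only [letG, cond_false]
    rw [if_neg (by omega), show (2 * gi x + 1) / 2 = gi x by omega]

/-- the kernel of a stem extension of exponent `p` of a presented group is trivial, given a coset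
table of a subgroup, a retraction over the subgroup and a certificate modulo `p` -/
theorem ker_eq_bot_of_fox
    (hrels : ∀ r, r ∈ rels ↔ ∃ L ∈ relWords, r = FreeGroup.mk L)
    (hlw : ∀ x b, lw (x, b) = 2 * gi x + cond b 0 1) (hgi : Function.Injective gi)
    (H : Subgroup (PresentedGroup rels))
    (T : Table) (hT : T.OK) (hlwk : ∀ x, lw (x, true) < T.k)
    (φ : PresentedGroup rels →* Equiv.Perm (Fin T.n))
    (hφ : ∀ x, φ (PresentedGroup.of x) = Table.sigma hT (lw (x, true)))
    (f : PresentedGroup rels ⧸ H → Fin T.n) (hf : Function.Bijective f)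
    (hfe : ∀ g q, f (g • q) = φ g (f q))
    (D : FoxData) (hDn : D.n = T.n) (hDd : ∀ k < D.d, ∃ x, gi x = k)
    (hpaths : D.paths = relWords.map (pathOf lw))
    (hOK : D.staticOK T.tau = true) (hcyc : ∀ k < D.cycles.length, D.cycleOK T.tau k = true)
    {Γ : Type*} [Group Γ] (σ : Γ →* PresentedGroup rels) (hσ : Cfsg.IsStemExtension σ)
    (hexp : ∀ a ∈ σ.ker, a ^ D.p = 1) (R : Retraction σ (H.comap σ)) : σ.ker = ⊥ := by
  classical
  -- the cocycle on the coset space
  have hV : ∀ γ, γ ∈ H.comap σ ↔ σ γ • (QuotientGroup.mk 1 : PresentedGroup rels ⧸ H) = QuotientGroup.mk 1 := by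
    intro γ
    rw [Subgroup.mem_comap]
    show _ ↔ (QuotientGroup.mk (σ γ * 1) : PresentedGroup rels ⧸ H) = QuotientGroup.mk 1
    rw [mul_one, QuotientGroup.eq, mul_one, inv_mem_iff]
  obtain ⟨C⟩ := exists_cocycle σ hσ.1 hσ.2.1 (QuotientGroup.mk 1 : PresentedGroup rels ⧸ H) (H.comap σ) hV R
  -- lifts of the generators
  have hlift : ∀ x : α, ∃ g : Γ, σ g = PresentedGroup.of x := fun x => hσ.1 _
  choose γ0 hγ0 using hlift
  let γx : ℕ → Γ := fun k => if h : ∃ x, gi x = k then γ0 h.choose else 1
  have hγx : ∀ x, γx (gi x) = γ0 x := by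
    intro x
    have h : ∃ y, gi y = gi x := ⟨x, rfl⟩
    show (if h : ∃ y, gi y = gi x then γ0 h.choose else 1) = γ0 x
    rw [dif_pos h, hgi h.choose_spec]
  -- the points
  let e := Equiv.ofBijective f hf
  let pts : ℕ → PresentedGroup rels ⧸ H := fun i => if h : i < T.n then e.symm ⟨i, h⟩ else QuotientGroup.mk 1
  have hpts : ∀ i (h : i < T.n), f (pts i) = ⟨i, h⟩ := by
    intro i h
    show f (if h : i < T.n then e.symm ⟨i, h⟩ else QuotientGroup.mk 1) = _
    rw [dif_pos h]
    exact e.apply_symm_apply _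
  have hact : ∀ x < D.d, ∀ i < D.n, σ (γx x) • pts i = pts (T.tau (2 * x) i) := by
    intro k hk i hi
    rw [hDn] at hi
    obtain ⟨x, rfl⟩ := hDd k hk
    rw [hγx, hγ0]
    apply hf.1
    rw [hfe, hφ, hpts i hi]
    have hlt : T.tau (2 * gi x) i < T.n := by
      have := (Table.sigma hT (lw (x, true)) ⟨i, hi⟩).2
      rwa [Table.sigma_apply hT (hlwk x), hlw, cond_true, add_zero] at this
    rw [hpts _ hlt]
    apply Fin.ext
    rw [Table.sigma_apply hT (hlwk x), hlw]
    rfl
  have hcomp : ∀ (g : α → Γ), (∀ x, σ (g x) = PresentedGroup.of x) → ∀ L : List (α × Bool),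
      σ (FreeGroup.lift g (FreeGroup.mk L)) = PresentedGroup.mk rels (FreeGroup.mk L) := by
    intro g hg L
    have : σ.comp (FreeGroup.lift g) = PresentedGroup.mk rels := by
      apply FreeGroup.ext_hom
      intro x
      show σ (FreeGroup.lift g (FreeGroup.of x)) = PresentedGroup.mk rels (FreeGroup.of x)
      rw [FreeGroup.lift_apply_of, hg]
      rfl
    exact congrArg (fun h : FreeGroup α →* PresentedGroup rels => h (FreeGroup.mk L)) this
  have hrel : ∀ w ∈ D.paths, σ (pathProd (letG γx) w) = 1 := by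
    intro w hw
    rw [hpaths, List.mem_map] at hw
    obtain ⟨L, hL, rfl⟩ := hw
    rw [← lift_mk_eq_pathProd γ0 lw (letG γx) (fun x b => by rw [letG_lw lw gi hlw, hγx]) L, hcomp γ0 hγ0]
    exact PresentedGroup.one_of_mem ((hrels _).mpr ⟨L, hL, rfl⟩)
  obtain ⟨a, haker, harel⟩ := exists_adjust D T.tau hOK hcyc C hexp γx pts hact hrel
  -- the corrected lifts
  let γ' : α → Γ := fun x => γ0 x * (a (gi x) : Γ)
  have hγ' : ∀ x, σ (γ' x) = PresentedGroup.of x := by
    intro x
    show σ (γ0 x * (a (gi x) : Γ)) = _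
    rw [map_mul, hγ0, MonoidHom.mem_ker.mp (haker _), mul_one]
  refine ker_eq_bot_of_lifts rels σ hσ γ' hγ' ?_
  intro r hr
  obtain ⟨L, hL, rfl⟩ := (hrels r).mp hr
  rw [lift_mk_eq_pathProd γ' lw (letG (fun k => γx k * (a k : Γ))) (fun x b => by
    rw [letG_lw lw gi hlw, hγx]) L]
  exact harel _ (by rw [hpaths]; exact List.mem_map_of_mem hL)

end Pres

section Perfect

theorem prod_zpow_sum {A ι : Type*} [CommGroup A] (a : A) (s : Finset ι) (f : ι → ℤ) :
    ∏ i ∈ s, a ^ f i = a ^ ∑ i ∈ s, f i := by
  classical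
  induction s using Finset.induction_on with
  | empty => simp
  | insert i s hi ih => rw [Finset.prod_insert hi, Finset.sum_insert hi, zpow_add, ih]

/-- integer exponent of the generator `x` in a path -/
def expoZ (w : List ℕ) (x : ℕ) : ℤ :=
  (w.map (fun l => if l = 2 * x then (1 : ℤ) else if l = 2 * x + 1 then -1 else 0)).sum

theorem expoZ_cons (l : ℕ) (ls : List ℕ) (x : ℕ) :
    expoZ (l :: ls) x = (if l = 2 * x then (1 : ℤ) else if l = 2 * x + 1 then -1 else 0) + expoZ ls x := by
  simp [expoZ]

theorem prod_letZ {A : Type*} [CommGroup A] (a : ℕ → A) (d : ℕ) (w : List ℕ) (hw : ∀ l ∈ w, l < 2 * d) :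
    (w.map (fun l => if l % 2 = 0 then a (l / 2) else (a (l / 2))⁻¹)).prod =
      ∏ x ∈ Finset.range d, a x ^ expoZ w x := by
  induction w with
  | nil => simp [expoZ]
  | cons l ls ih =>
    rw [List.map_cons, List.prod_cons, ih (fun l' hl' => hw l' (List.mem_cons_of_mem _ hl'))]
    have hl : l < 2 * d := hw l List.mem_cons_self
    simp only [expoZ_cons, zpow_add, Finset.prod_mul_distrib]
    congr 1
    rw [Finset.prod_eq_single (l / 2)]
    · by_cases hpar : l % 2 = 0
      · rw [if_pos hpar, if_pos (by omega), zpow_one]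
      · rw [if_neg hpar, if_neg (by omega), if_pos (by omega), zpow_neg_one]
    · intro x _ hx
      rw [if_neg (by omega), if_neg (by omega), zpow_zero]
    · intro h
      exact absurd (Finset.mem_range.mpr (by omega)) h

variable {α : Type} (rels : Set (FreeGroup α)) (relWords : List (List (α × Bool)))
  (lw : α × Bool → ℕ) (gi : α → ℕ)

/-- a presented group is perfect when the exponent matrix of its relators has an integer left inverse -/
theorem commutator_eq_top_of_matrix
    (hrels : ∀ r, r ∈ rels ↔ ∃ L ∈ relWords, r = FreeGroup.mk L)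
    (hlw : ∀ x b, lw (x, b) = 2 * gi x + cond b 0 1) (hgi : Function.Injective gi)
    (d : ℕ) (hd : ∀ x, gi x < d) (S : ℕ → ℕ → ℤ)
    (hS : ∀ y < d, ∀ x < d, ∑ j ∈ Finset.range relWords.length,
      S y j * expoZ (pathOf lw (relWords.getD j [])) x = if y = x then 1 else 0) :
    commutator (PresentedGroup rels) = ⊤ := by
  classical
  let ab : PresentedGroup rels →* Abelianization (PresentedGroup rels) := Abelianization.of
  let v : ℕ → Abelianization (PresentedGroup rels) :=
    fun k => if h : ∃ x, gi x = k then ab (PresentedGroup.of h.choose) else 1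
  have hv : ∀ x, v (gi x) = ab (PresentedGroup.of x) := by
    intro x
    have h : ∃ y, gi y = gi x := ⟨x, rfl⟩
    show (if h : ∃ y, gi y = gi x then ab (PresentedGroup.of h.choose) else 1) = _
    rw [dif_pos h, hgi h.choose_spec]
  have hlt : ∀ L : List (α × Bool), ∀ l ∈ pathOf lw L, l < 2 * d := by
    intro L l hl
    unfold pathOf at hl
    rw [List.mem_reverse, List.mem_map] at hl
    obtain ⟨⟨x, b⟩, _, rfl⟩ := hl
    rw [hlw]
    have := hd x
    cases b <;> simp <;> omega
  have hrelA : ∀ L ∈ relWords, ∏ x ∈ Finset.range d, v x ^ expoZ (pathOf lw L) x = 1 := by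
    intro L hL
    rw [← prod_letZ v d _ (hlt L)]
    have h1 : ab (PresentedGroup.mk rels (FreeGroup.mk L)) = 1 := by
      rw [PresentedGroup.one_of_mem ((hrels _).mpr ⟨L, hL, rfl⟩), map_one]
    have h2 : (ab.comp (PresentedGroup.mk rels)) = FreeGroup.lift (fun x => ab (PresentedGroup.of x)) := by
      apply FreeGroup.ext_hom
      intro x
      rw [FreeGroup.lift_apply_of]
      rfl
    have h3 : ab (PresentedGroup.mk rels (FreeGroup.mk L)) =
        FreeGroup.lift (fun x => ab (PresentedGroup.of x)) (FreeGroup.mk L) :=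
      congrArg (fun h : FreeGroup α →* _ => h (FreeGroup.mk L)) h2
    rw [h3, lift_mk_eq_pathProd _ lw (letG v) (fun x b => by rw [letG_lw lw gi hlw, hv]) L,
      TC2Lower.pathProd_eq, List.map_reverse, List.prod_reverse] at h1
    · exact h1
  have key : ∀ y < d, v y = 1 := by
    intro y hy
    have h1 : v y = ∏ x ∈ Finset.range d, v x ^ (if y = x then (1 : ℤ) else 0) := by
      rw [Finset.prod_eq_single y]
      · simp
      · intro x _ hx
        rw [if_neg (Ne.symm hx), zpow_zero]
      · intro h
        exact absurd (Finset.mem_range.mpr hy) h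
    rw [h1]
    have h2 : ∀ x ∈ Finset.range d, v x ^ (if y = x then (1 : ℤ) else 0) =
        ∏ j ∈ Finset.range relWords.length, (v x ^ expoZ (pathOf lw (relWords.getD j [])) x) ^ S y j := by
      intro x hx
      rw [← hS y hy x (Finset.mem_range.mp hx), ← prod_zpow_sum]
      apply Finset.prod_congr rfl
      intro j _
      rw [← zpow_mul, mul_comm]
    rw [Finset.prod_congr rfl h2, Finset.prod_comm]
    apply Finset.prod_eq_one
    intro j hj
    rw [Finset.prod_zpow, hrelA _ (by
      rw [List.getD_eq_getElem _ _ (Finset.mem_range.mp hj)]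
      exact List.getElem_mem _), one_zpow]
  have htriv : ab = 1 := by
    apply PresentedGroup.ext
    intro x
    rw [← hv, key _ (hd x)]
    rfl
  rw [← Abelianization.ker_of, show (Abelianization.of : PresentedGroup rels →* _) = 1 from htriv]
  exact MonoidHom.ker_one

end Perfect

end Cfsg.Agent.Lib.Helper28.SchurFox
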