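import Cfsg.Agent.Lib.Helper28.TC2Upper
import Cfsg.Agent.Lib.Helper28.TCM24W0DataC0
set_option autoImplicit false
set_option maxRecDepth 100000

namespace Cfsg.Agent.Lib.Helper28.TCM24W0Data
open Cfsg.Agent.Lib.Helper28.TC2Upper

/-- relators -/
def relT : BT (ℕ × List ℕ × List ℕ) := (BT.node 13 (BT.node 6 (BT.node 3 (BT.node 1 (BT.node 0 (BT.leaf (2, [0, 0], [1, 1])) (BT.leaf (4, [2, 2, 2, 2], [3, 3, 3, 3]))) (BT.node 2 (BT.leaf (22, [2, 0, 2, 0, 2, 0, 2, 0, 2, 0, 2, 0, 2, 0, 2, 0, 2, 0, 2, 0, 2, 0], [1, 3, 1, 3, 1, 3, 1, 3, 1, 3, 1, 3, 1, 3, 1, 3, 1, 3, 1, 3, 1, 3])) (BT.leaf (18, [2, 2, 0, 2, 2, 0, 2, 2, 0, 2, 2, 0, 2, 2, 0, 2, 2, 0], [1, 3, 3, 1, 3, 3, 1, 3, 3, 1, 3, 3, 1, 3, 3, 1, 3, 3])))) (BT.node 5 (BT.node 4 (BT.leaf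 (19, [3, 0, 3, 0, 2, 0, 3, 0, 2, 2, 0, 2, 0, 3, 0, 2, 0, 2, 0], [1, 3, 1, 3, 1, 2, 1, 3, 1, 3, 3, 1, 2, 1, 3, 1, 2, 1, 2])) (BT.leaf (2, [4, 4], [5, 5]))) (BT.leaf (8, [0, 4, 0, 4, 0, 4, 0, 4], [5, 1, 5, 1, 5, 1, 5, 1])))) (BT.node 10 (BT.node 8 (BT.node 7 (BT.leaf (12, [3, 3, 4, 3, 3, 4, 2, 2, 4, 2, 2, 4], [5, 3, 3, 5, 3, 3, 5, 2, 2, 5, 2, 2])) (BT.leaf (12, [3, 4, 3, 3, 4, 3, 3, 4, 2, 2, 4, 3], [2, 5, 3, 3, 5, 2, 2, 5, 2, 2, 5, 2]))) (BT.node 9 (BT.leaf (12, [3, 4, 3, 4, 2, 4, 3, 4, 3, 4, 2, 4], [5, 3, 5, 2, 5, 2, 5, 3, 5, 2, 5, 2])) (BT.leaf (17, [0, 3, 3, 4, 3, 3, 4, 0, 4, 0, 2, 2, 4, 2, 2, 0, 4], [5, 1, 3, 3, 5, 3, 3, 1, 5, 1, 5, 2, 2, 5, 2, 2, 1])))) (BT.node 12 (BT.node 11 (BT.leaf (17, [0, 3, 3, 4, 3, 3, 0, 4,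 0, 4, 2, 2, 4, 2, 2, 0, 4], [5, 1, 3, 3, 5, 3, 3, 5, 1, 5, 1, 2, 2, 5, 2, 2, 1])) (BT.leaf (21, [0, 2, 0, 3, 3, 0, 3, 0, 4, 3, 4, 0, 3, 0, 4, 0, 2, 0, 4, 2, 4], [5, 3, 5, 1, 3, 1, 5, 1, 2, 1, 5, 2, 5, 1, 2, 1, 2, 2, 1, 3, 1]))) (BT.leaf (21, [3, 0, 3, 4, 0, 3, 3, 0, 3, 3, 0, 3, 3, 4, 2, 0, 2, 4, 2, 2, 4], [5, 3, 3, 5, 3, 1, 3, 5, 2, 2, 1, 2, 2, 1, 2, 2, 1, 5, 2, 1, 2]))))) (BT.node 20 (BT.node 17 (BT.node 15 (BT.node 14 (BT.leaf (21, [3, 0, 2, 0, 3, 0, 2, 4, 3, 4, 0, 2, 4, 0, 4, 0, 3, 0, 4, 2, 4], [5, 3, 5, 1, 2, 1, 5, 1, 5, 3, 1, 5, 2, 5, 3, 1, 2, 1, 3, 1, 2])) (BT.leaf (21, [0, 2, 0, 2, 0, 3, 0, 4, 2, 4, 2, 0, 4, 3, 4, 0, 2, 0, 3, 0, 4], [5, 1, 2, 1, 3, 1, 5, 2, 5, 1, 3, 5, 3, 5, 1, 2, 1, 3, 1, 3, 1]))) (BT.node 16 (BT.leaf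 (21, [3, 3, 0, 3, 0, 3, 4, 0, 4, 3, 0, 4, 0, 4, 2, 2, 0, 3, 4, 3, 4], [5, 2, 5, 2, 1, 3, 3, 5, 1, 5, 1, 2, 5, 1, 5, 2, 1, 2, 1, 2, 2])) (BT.leaf (22, [3, 3, 0, 3, 4, 0, 4, 2, 0, 2, 4, 3, 4, 2, 0, 3, 4, 0, 4, 2, 0, 4], [5, 1, 3, 5, 1, 5, 2, 1, 3, 5, 2, 5, 3, 1, 3, 5, 1, 5, 2, 1, 2, 2])))) (BT.node 19 (BT.node 18 (BT.leaf (22, [2, 0, 2, 0, 3, 0, 2, 0, 3, 0, 3, 4, 2, 4, 3, 3, 0, 2, 2, 4, 3, 4], [5, 2, 5, 3, 3, 1, 2, 2, 5, 3, 5, 2, 1, 2, 1, 3, 1, 2, 1, 3, 1, 3])) (BT.leaf (22, [0, 3, 3, 0, 4, 0, 4, 3, 0, 2, 4, 0, 2, 4, 0, 3, 4, 2, 0, 4, 3, 4], [5, 2, 5, 1, 3, 5, 2, 1, 5, 3, 1, 5, 3, 1, 2, 5, 1, 5, 1, 2, 2, 1]))) (BT.leaf (23, [3, 0, 2, 0, 2, 0, 2, 0, 3, 3, 0, 3, 0, 3, 0, 3, 0, 2, 4, 2, 0, 3, 4], [5, 2, 1, 3, 5, 3, 1, 2, 1,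 2, 1, 2, 1, 2, 2, 1, 3, 1, 3, 1, 3, 1, 2])))) (BT.node 23 (BT.node 22 (BT.node 21 (BT.leaf (2, [6, 6], [7, 7])) (BT.leaf (18, [2, 0, 2, 0, 2, 0, 4, 0, 3, 0, 3, 0, 3, 6, 3, 4, 2, 6], [7, 3, 5, 2, 7, 2, 1, 2, 1, 2, 1, 5, 1, 3, 1, 3, 1, 3]))) (BT.leaf (21, [2, 0, 3, 3, 0, 3, 0, 3, 3, 0, 3, 0, 2, 0, 3, 0, 6, 0, 2, 0, 6], [7, 1, 3, 1, 7, 1, 2, 1, 3, 1, 2, 1, 2, 2, 1, 2, 1, 2, 2, 1, 3]))) (BT.node 25 (BT.node 24 (BT.leaf (21, [0, 2, 0, 2, 0, 2, 0, 3, 0, 3, 0, 3, 0, 3, 3, 6, 3, 3, 6, 3, 6], [7, 2, 7, 2, 2, 7, 2, 2, 1, 2, 1, 2, 1, 2, 1, 3, 1, 3, 1, 3, 1])) (BT.leaf (21, [3, 3, 0, 2, 0, 2, 0, 2, 0, 3, 0, 3, 0, 3, 0, 6, 2, 6, 2, 2, 6], [7, 3, 3, 7, 3, 7, 1, 2, 1, 2, 1, 2, 1, 3, 1, 3, 1, 3, 1, 2, 2]))) (BT.leaf (22, [3, 3, 0, 3,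 0, 3, 3, 0, 3, 3, 0, 2, 0, 3, 3, 6, 4, 2, 0, 3, 4, 6], [7, 5, 2, 1, 3, 5, 7, 2, 2, 1, 3, 1, 2, 2, 1, 2, 2, 1, 2, 1, 2, 2]))))))
/-- subgroup generators -/
def subT : BT (ℕ × List ℕ × List ℕ) := (BT.node 1 (BT.node 0 (BT.leaf (1, [0], [1])) (BT.leaf (1, [2], [3]))) (BT.leaf (1, [4], [5])))
/-- fact chunks -/
def colET : BT ℕ := (BT.node 8 (BT.node 4 (BT.node 2 (BT.node 1 (BT.node 0 (BT.leaf cE0) (BT.leaf cE1)) (BT.leaf cE2)) (BT.node 3 (BT.leaf cE3) (BT.leaf cE4))) (BT.node 6 (BT.node 5 (BT.leaf cE5) (BT.leaf cE6)) (BT.node 7 (BT.leaf cE7) (BT.leaf cE8)))) (BT.node 13 (BT.node 11 (BT.node 10 (BT.node 9 (BT.leaf cE9) (BT.leaf cE10)) (BT.leaf cE11)) (BT.node 12 (BT.leaf cE12) (BT.leaf cE13))) (BT.node 15 (BT.node 14 (BT.leaf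 cE14) (BT.leaf cE15)) (BT.node 16 (BT.leaf cE16) (BT.leaf cE17)))))
/-- justification chunks -/
def colJT : BT ℕ := (BT.node 8 (BT.node 4 (BT.node 2 (BT.node 1 (BT.node 0 (BT.leaf cJ0) (BT.leaf cJ1)) (BT.leaf cJ2)) (BT.node 3 (BT.leaf cJ3) (BT.leaf cJ4))) (BT.node 6 (BT.node 5 (BT.leaf cJ5) (BT.leaf cJ6)) (BT.node 7 (BT.leaf cJ7) (BT.leaf cJ8)))) (BT.node 13 (BT.node 11 (BT.node 10 (BT.node 9 (BT.leaf cJ9) (BT.leaf cJ10)) (BT.leaf cJ11)) (BT.node 12 (BT.leaf cJ12) (BT.leaf cJ13))) (BT.node 15 (BT.node 14 (BT.leaf cJ14) (BT.leaf cJ15)) (BT.node 16 (BT.leaf cJ16) (BT.leaf cJ17)))))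
/-- parent chunks -/
def parCT : BT ℕ := (BT.node 0 (BT.leaf cP0) (BT.leaf cP1))
/-- the certificate -/
def data : Data where
  k := 8
  N := 985
  W := 20
  MW := 1048576
  B := 1024
  CH := 512
  NCH := 2
  colE := colET
  JW := 64
  MJ := 18446744073709551616
  A := 1048576
  colJ := colJT
  PW := 19
  MP := 524288
  parC := parCT
  inv := (BT.node 4 (BT.node 2 (BT.node 1 (BT.node 0 (BT.leaf 1) (BT.leaf 0)) (BT.leaf 3)) (BT.node 3 (BT.leaf 2) (BT.leaf 5))) (BT.node 6 (BT.node 5 (BT.leaf 4) (BT.leaf 7)) (BT.node 7 (BT.leaf 6) (BT.leaf 8))))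
  rel := relT
  sub := subT
  fuel := 64

end Cfsg.Agent.Lib.Helper28.TCM24W0Data
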