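import Cfsg.Agent.Lib.Helper28.TC2Orbit
set_option autoImplicit false
set_option maxRecDepth 100000

namespace Cfsg.Agent.Lib.Helper28.TCM24W0Table
open Cfsg.Agent.Lib.Helper28.TC2Upper Cfsg.Agent.Lib.Helper28.TC2Lower Cfsg.Agent.Lib.Helper28.TC2Orbit

def cT0 : ℕ := 0xbc1b47c9369baa85962c1994438440
def cT1 : ℕ := 0xbc1b47c9369baa85962c1994438440
def cT2 : ℕ := 0x7baad52616bc4d494ca43b16140860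
def cT3 : ℕ := 0x7c2ac52dd1bda862ce433b52808880
def cT4 : ℕ := 0xbda72ad1a839a2c5a8707b824488a0
def cT5 : ℕ := 0xbda72ad1a839a2c5a8707b824488a0
def cT6 : ℕ := 0x74d8db26115de95796432094741801
def cT7 : ℕ := 0x74d8db26115de95796432094741801
def cR0 : ℕ := 0x6701b819804c02501a401208804382180cc046022801410604300183081020610208004180000
/-- table chunks -/
def colTT : BT ℕ := (BT.node 3 (BT.node 1 (BT.node 0 (BT.leaf cT0) (BT.leaf cT1)) (BT.node 2 (BT.leaf cT2) (BT.leaf cT3))) (BT.node 5 (BT.node 4 (BT.leaf cT4) (BT.leaf cT5)) (BT.node 6 (BT.leaf cT6) (BT.leaf cT7))))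
/-- spanning tree chunks -/
def treeT : BT ℕ := (BT.leaf cR0)
/-- relator paths -/
def relPaths : List (List ℕ) := [[0, 0], [2, 2, 2, 2], [2, 0, 2, 0, 2, 0, 2, 0, 2, 0, 2, 0, 2, 0, 2, 0, 2, 0, 2, 0, 2, 0], [2, 2, 0, 2, 2, 0, 2, 2, 0, 2, 2, 0, 2, 2, 0, 2, 2, 0], [3, 0, 3, 0, 2, 0, 3, 0, 2, 2, 0, 2, 0, 3, 0, 2, 0, 2, 0], [4, 4], [0, 4, 0, 4, 0, 4, 0, 4], [3, 3, 4, 3, 3, 4, 2, 2, 4, 2, 2, 4], [3, 4, 3, 3, 4, 3, 3, 4, 2, 2, 4, 3], [3, 4, 3, 4, 2, 4, 3, 4, 3, 4, 2, 4], [0, 3, 3, 4, 3, 3, 4, 0, 4, 0, 2, 2, 4, 2, 2, 0, 4], [0, 3, 3, 4, 3, 3, 0, 4, 0, 4, 2, 2, 4, 2, 2, 0, 4], [0, 2, 0, 3, 3, 0, 3, 0, 4, 3, 4, 0, 3, 0, 4, 0, 2, 0, 4, 2, 4], [3, 0, 3, 4, 0, 3, 3, 0, 3, 3, 0, 3, 3, 4, 2, 0, 2, 4, 2, 2, 4], [3, 0, 2, 0,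 3, 0, 2, 4, 3, 4, 0, 2, 4, 0, 4, 0, 3, 0, 4, 2, 4], [0, 2, 0, 2, 0, 3, 0, 4, 2, 4, 2, 0, 4, 3, 4, 0, 2, 0, 3, 0, 4], [3, 3, 0, 3, 0, 3, 4, 0, 4, 3, 0, 4, 0, 4, 2, 2, 0, 3, 4, 3, 4], [3, 3, 0, 3, 4, 0, 4, 2, 0, 2, 4, 3, 4, 2, 0, 3, 4, 0, 4, 2, 0, 4], [2, 0, 2, 0, 3, 0, 2, 0, 3, 0, 3, 4, 2, 4, 3, 3, 0, 2, 2, 4, 3, 4], [0, 3, 3, 0, 4, 0, 4, 3, 0, 2, 4, 0, 2, 4, 0, 3, 4, 2, 0, 4, 3, 4], [3, 0, 2, 0, 2, 0, 2, 0, 3, 3, 0, 3, 0, 3, 0, 3, 0, 2, 4, 2, 0, 3, 4], [6, 6], [2, 0, 2, 0, 2, 0, 4, 0, 3, 0, 3, 0, 3, 6, 3, 4, 2, 6], [2, 0, 3, 3, 0, 3, 0, 3, 3, 0, 3, 0, 2, 0, 3, 0, 6, 0, 2, 0, 6], [0, 2, 0, 2, 0, 2, 0, 3, 0, 3, 0, 3, 0, 3, 3, 6, 3, 3, 6, 3, 6], [3, 3, 0, 2, 0, 2, 0, 2, 0, 3, 0, 3, 0, 3, 0, 6, 2, 6, 2, 2, 6],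 [3, 3, 0, 3, 0, 3, 3, 0, 3, 3, 0, 2, 0, 3, 3, 6, 4, 2, 0, 3, 4, 6]]
/-- subgroup generator paths -/
def subPaths : List (List ℕ) := [[0], [2], [4]]
/-- the relator paths that are checked directly -/
def chkPaths : List (List ℕ) := [[0, 0], [2, 2, 2, 2], [2, 0, 2, 0, 2, 0, 2, 0, 2, 0, 2, 0, 2, 0, 2, 0, 2, 0, 2, 0, 2, 0], [2, 2, 0, 2, 2, 0, 2, 2, 0, 2, 2, 0, 2, 2, 0, 2, 2, 0], [3, 0, 3, 0, 2, 0, 3, 0, 2, 2, 0, 2, 0, 3, 0, 2, 0, 2, 0], [4, 4], [0, 4, 0, 4, 0, 4, 0, 4], [3, 3, 4, 3, 3, 4, 2, 2, 4, 2, 2, 4], [3, 4, 3, 3, 4, 3, 3, 4, 2, 2, 4, 3], [3, 4, 3, 4, 2, 4, 3, 4, 3, 4, 2, 4], [0, 3, 3, 4, 3, 3, 4, 0, 4, 0, 2, 2, 4, 2, 2, 0, 4], [0, 3, 3, 4, 3, 3, 0, 4, 0, 4, 2, 2, 4, 2, 2, 0, 4], [0, 2, 0, 3, 3, 0, 3, 0,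 4, 3, 4, 0, 3, 0, 4, 0, 2, 0, 4, 2, 4], [3, 0, 3, 4, 0, 3, 3, 0, 3, 3, 0, 3, 3, 4, 2, 0, 2, 4, 2, 2, 4], [3, 0, 2, 0, 3, 0, 2, 4, 3, 4, 0, 2, 4, 0, 4, 0, 3, 0, 4, 2, 4], [0, 2, 0, 2, 0, 3, 0, 4, 2, 4, 2, 0, 4, 3, 4, 0, 2, 0, 3, 0, 4], [3, 3, 0, 3, 0, 3, 4, 0, 4, 3, 0, 4, 0, 4, 2, 2, 0, 3, 4, 3, 4], [3, 3, 0, 3, 4, 0, 4, 2, 0, 2, 4, 3, 4, 2, 0, 3, 4, 0, 4, 2, 0, 4], [2, 0, 2, 0, 3, 0, 2, 0, 3, 0, 3, 4, 2, 4, 3, 3, 0, 2, 2, 4, 3, 4], [0, 3, 3, 0, 4, 0, 4, 3, 0, 2, 4, 0, 2, 4, 0, 3, 4, 2, 0, 4, 3, 4], [3, 0, 2, 0, 2, 0, 2, 0, 3, 3, 0, 3, 0, 3, 0, 3, 0, 2, 4, 2, 0, 3, 4], [6, 6], [2, 0, 2, 0, 2, 0, 4, 0, 3, 0, 3, 0, 3, 6, 3, 4, 2, 6], [2, 0, 3, 3, 0, 3, 0, 3, 3, 0, 3, 0, 2, 0, 3, 0, 6, 0, 2, 0, 6], [0, 2, 0, 2,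 0, 2, 0, 3, 0, 3, 0, 3, 0, 3, 3, 6, 3, 3, 6, 3, 6], [3, 3, 0, 2, 0, 2, 0, 2, 0, 3, 0, 3, 0, 3, 0, 6, 2, 6, 2, 2, 6], [3, 3, 0, 3, 0, 3, 3, 0, 3, 3, 0, 2, 0, 3, 3, 6, 4, 2, 0, 3, 4, 6]]
/-- the coset table -/
def table : Table where
  n := 24
  k := 8
  w := 5
  M := 32
  CH := 1024
  NCH := 1
  col := colTT
  inv := (BT.node 4 (BT.node 2 (BT.node 1 (BT.node 0 (BT.leaf 1) (BT.leaf 0)) (BT.leaf 3)) (BT.node 3 (BT.leaf 2) (BT.leaf 5))) (BT.node 6 (BT.node 5 (BT.leaf 4) (BT.leaf 7)) (BT.node 7 (BT.leaf 6) (BT.leaf 8))))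
  tw := 13
  TM := 8192
  tree := treeT

end Cfsg.Agent.Lib.Helper28.TCM24W0Table
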