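import Cfsg.Agent.Lib.Helper28.TC2Upper
import Cfsg.Agent.Lib.Helper28.TCM24W1DataC0
set_option autoImplicit false
set_option maxRecDepth 100000

namespace Cfsg.Agent.Lib.Helper28.TCM24W1Data
open Cfsg.Agent.Lib.Helper28.TC2Upper

/-- relators -/
def relT : BT (ℕ × List ℕ × List ℕ) := (BT.node 10 (BT.node 5 (BT.node 2 (BT.node 1 (BT.node 0 (BT.leaf (2, [0, 0], [1, 1])) (BT.leaf (4, [2, 2, 2, 2], [3, 3, 3, 3]))) (BT.leaf (22, [2, 0, 2, 0, 2, 0, 2, 0, 2, 0, 2, 0, 2, 0, 2, 0, 2, 0, 2, 0, 2, 0], [1, 3, 1, 3, 1, 3, 1, 3, 1, 3, 1, 3, 1, 3, 1, 3, 1, 3, 1, 3, 1, 3]))) (BT.node 4 (BT.node 3 (BT.leaf (18, [2, 2, 0, 2, 2, 0, 2, 2, 0, 2, 2, 0, 2, 2, 0, 2, 2, 0], [1, 3, 3, 1, 3, 3, 1, 3, 3, 1, 3, 3, 1, 3, 3, 1, 3, 3])) (BT.leaf (19, [3, 0, 3, 0, 2, 0, 3, 0, 2, 2, 0, 2, 0, 3, 0, 2, 0, 2,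 0], [1, 3, 1, 3, 1, 2, 1, 3, 1, 3, 3, 1, 2, 1, 3, 1, 2, 1, 2]))) (BT.leaf (2, [4, 4], [5, 5])))) (BT.node 8 (BT.node 7 (BT.node 6 (BT.leaf (8, [0, 4, 0, 4, 0, 4, 0, 4], [5, 1, 5, 1, 5, 1, 5, 1])) (BT.leaf (12, [3, 3, 4, 3, 3, 4, 2, 2, 4, 2, 2, 4], [5, 3, 3, 5, 3, 3, 5, 2, 2, 5, 2, 2]))) (BT.leaf (12, [3, 4, 3, 3, 4, 3, 3, 4, 2, 2, 4, 3], [2, 5, 3, 3, 5, 2, 2, 5, 2, 2, 5, 2]))) (BT.node 9 (BT.leaf (12, [3, 4, 3, 4, 2, 4, 3, 4, 3, 4, 2, 4], [5, 3, 5, 2, 5, 2, 5, 3, 5, 2, 5, 2])) (BT.leaf (17, [0, 3, 3, 4, 3, 3, 4, 0, 4, 0, 2, 2, 4, 2, 2, 0, 4], [5, 1, 3, 3, 5, 3, 3, 1, 5, 1, 5, 2, 2, 5, 2, 2, 1]))))) (BT.node 15 (BT.node 13 (BT.node 12 (BT.node 11 (BT.leaf (17, [0, 3, 3, 4, 3, 3, 0, 4, 0, 4, 2, 2, 4, 2, 2, 0, 4], [5, 1, 3, 3, 5, 3, 3, 5, 1, 5, 1, 2, 2, 5, 2, 2, 1])) (BT.leaf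 (21, [0, 2, 0, 3, 3, 0, 3, 0, 4, 3, 4, 0, 3, 0, 4, 0, 2, 0, 4, 2, 4], [5, 3, 5, 1, 3, 1, 5, 1, 2, 1, 5, 2, 5, 1, 2, 1, 2, 2, 1, 3, 1]))) (BT.leaf (21, [3, 0, 3, 4, 0, 3, 3, 0, 3, 3, 0, 3, 3, 4, 2, 0, 2, 4, 2, 2, 4], [5, 3, 3, 5, 3, 1, 3, 5, 2, 2, 1, 2, 2, 1, 2, 2, 1, 5, 2, 1, 2]))) (BT.node 14 (BT.leaf (21, [3, 0, 2, 0, 3, 0, 2, 4, 3, 4, 0, 2, 4, 0, 4, 0, 3, 0, 4, 2, 4], [5, 3, 5, 1, 2, 1, 5, 1, 5, 3, 1, 5, 2, 5, 3, 1, 2, 1, 3, 1, 2])) (BT.leaf (21, [0, 2, 0, 2, 0, 3, 0, 4, 2, 4, 2, 0, 4, 3, 4, 0, 2, 0, 3, 0, 4], [5, 1, 2, 1, 3, 1, 5, 2, 5, 1, 3, 5, 3, 5, 1, 2, 1, 3, 1, 3, 1])))) (BT.node 18 (BT.node 17 (BT.node 16 (BT.leaf (21, [3, 3, 0, 3, 0, 3, 4, 0, 4, 3, 0, 4, 0, 4, 2, 2, 0, 3, 4, 3, 4], [5, 2, 5, 2, 1, 3, 3, 5, 1, 5, 1, 2, 5, 1, 5, 2, 1, 2, 1, 2, 2])) (BT.leaf (22,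 [3, 3, 0, 3, 4, 0, 4, 2, 0, 2, 4, 3, 4, 2, 0, 3, 4, 0, 4, 2, 0, 4], [5, 1, 3, 5, 1, 5, 2, 1, 3, 5, 2, 5, 3, 1, 3, 5, 1, 5, 2, 1, 2, 2]))) (BT.leaf (22, [2, 0, 2, 0, 3, 0, 2, 0, 3, 0, 3, 4, 2, 4, 3, 3, 0, 2, 2, 4, 3, 4], [5, 2, 5, 3, 3, 1, 2, 2, 5, 3, 5, 2, 1, 2, 1, 3, 1, 2, 1, 3, 1, 3]))) (BT.node 19 (BT.leaf (22, [0, 3, 3, 0, 4, 0, 4, 3, 0, 2, 4, 0, 2, 4, 0, 3, 4, 2, 0, 4, 3, 4], [5, 2, 5, 1, 3, 5, 2, 1, 5, 3, 1, 5, 3, 1, 2, 5, 1, 5, 1, 2, 2, 1])) (BT.leaf (23, [3, 0, 2, 0, 2, 0, 2, 0, 3, 3, 0, 3, 0, 3, 0, 3, 0, 2, 4, 2, 0, 3, 4], [5, 2, 1, 3, 5, 3, 1, 2, 1, 2, 1, 2, 1, 2, 2, 1, 3, 1, 3, 1, 3, 1, 2]))))))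
/-- subgroup generators -/
def subT : BT (ℕ × List ℕ × List ℕ) := (BT.node 0 (BT.leaf (1, [0], [1])) (BT.leaf (1, [2], [3])))
/-- fact chunks -/
def colET : BT ℕ := (BT.node 48 (BT.node 24 (BT.node 12 (BT.node 6 (BT.node 3 (BT.node 1 (BT.node 0 (BT.leaf cE0) (BT.leaf cE1)) (BT.node 2 (BT.leaf cE2) (BT.leaf cE3))) (BT.node 5 (BT.node 4 (BT.leaf cE4) (BT.leaf cE5)) (BT.leaf cE6))) (BT.node 9 (BT.node 8 (BT.node 7 (BT.leaf cE7) (BT.leaf cE8)) (BT.leaf cE9)) (BT.node 11 (BT.node 10 (BT.leaf cE10) (BT.leaf cE11)) (BT.leaf cE12)))) (BT.node 18 (BT.node 15 (BT.node 14 (BT.node 13 (BT.leaf cE13) (BT.leaf cE14)) (BT.leaf cE15)) (BT.node 17 (BT.node 16 (BT.leaf cE16) (BT.leaf cE17)) (BT.leaf cE18))) (BT.node 21 (BT.node 20 (BT.node 19 (BT.leaf cE19) (BT.leaf cE20)) (BT.leaf cE21))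 (BT.node 23 (BT.node 22 (BT.leaf cE22) (BT.leaf cE23)) (BT.leaf cE24))))) (BT.node 36 (BT.node 30 (BT.node 27 (BT.node 26 (BT.node 25 (BT.leaf cE25) (BT.leaf cE26)) (BT.leaf cE27)) (BT.node 29 (BT.node 28 (BT.leaf cE28) (BT.leaf cE29)) (BT.leaf cE30))) (BT.node 33 (BT.node 32 (BT.node 31 (BT.leaf cE31) (BT.leaf cE32)) (BT.leaf cE33)) (BT.node 35 (BT.node 34 (BT.leaf cE34) (BT.leaf cE35)) (BT.leaf cE36)))) (BT.node 42 (BT.node 39 (BT.node 38 (BT.node 37 (BT.leaf cE37) (BT.leaf cE38)) (BT.leaf cE39)) (BT.node 41 (BT.node 40 (BT.leaf cE40) (BT.leaf cE41)) (BT.leaf cE42))) (BT.node 45 (BT.node 44 (BT.node 43 (BT.leaf cE43) (BT.leaf cE44)) (BT.leaf cE45)) (BT.node 47 (BT.node 46 (BT.leaf cE46) (BT.leaf cE47)) (BT.leaf cE48)))))) (BT.node 73 (BT.node 61 (BT.node 55 (BT.node 52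 (BT.node 50 (BT.node 49 (BT.leaf cE49) (BT.leaf cE50)) (BT.node 51 (BT.leaf cE51) (BT.leaf cE52))) (BT.node 54 (BT.node 53 (BT.leaf cE53) (BT.leaf cE54)) (BT.leaf cE55))) (BT.node 58 (BT.node 57 (BT.node 56 (BT.leaf cE56) (BT.leaf cE57)) (BT.leaf cE58)) (BT.node 60 (BT.node 59 (BT.leaf cE59) (BT.leaf cE60)) (BT.leaf cE61)))) (BT.node 67 (BT.node 64 (BT.node 63 (BT.node 62 (BT.leaf cE62) (BT.leaf cE63)) (BT.leaf cE64)) (BT.node 66 (BT.node 65 (BT.leaf cE65) (BT.leaf cE66)) (BT.leaf cE67))) (BT.node 70 (BT.node 69 (BT.node 68 (BT.leaf cE68) (BT.leaf cE69)) (BT.leaf cE70)) (BT.node 72 (BT.node 71 (BT.leaf cE71) (BT.leaf cE72)) (BT.leaf cE73))))) (BT.node 85 (BT.node 79 (BT.node 76 (BT.node 75 (BT.node 74 (BT.leaf cE74) (BT.leaf cE75)) (BT.leaf cE76)) (BT.node 78 (BT.node 77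 (BT.leaf cE77) (BT.leaf cE78)) (BT.leaf cE79))) (BT.node 82 (BT.node 81 (BT.node 80 (BT.leaf cE80) (BT.leaf cE81)) (BT.leaf cE82)) (BT.node 84 (BT.node 83 (BT.leaf cE83) (BT.leaf cE84)) (BT.leaf cE85)))) (BT.node 91 (BT.node 88 (BT.node 87 (BT.node 86 (BT.leaf cE86) (BT.leaf cE87)) (BT.leaf cE88)) (BT.node 90 (BT.node 89 (BT.leaf cE89) (BT.leaf cE90)) (BT.leaf cE91))) (BT.node 94 (BT.node 93 (BT.node 92 (BT.leaf cE92) (BT.leaf cE93)) (BT.leaf cE94)) (BT.node 96 (BT.node 95 (BT.leaf cE95) (BT.leaf cE96)) (BT.leaf cE97)))))))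
/-- justification chunks -/
def colJT : BT ℕ := (BT.node 48 (BT.node 24 (BT.node 12 (BT.node 6 (BT.node 3 (BT.node 1 (BT.node 0 (BT.leaf cJ0) (BT.leaf cJ1)) (BT.node 2 (BT.leaf cJ2) (BT.leaf cJ3))) (BT.node 5 (BT.node 4 (BT.leaf cJ4) (BT.leaf cJ5)) (BT.leaf cJ6))) (BT.node 9 (BT.node 8 (BT.node 7 (BT.leaf cJ7) (BT.leaf cJ8)) (BT.leaf cJ9)) (BT.node 11 (BT.node 10 (BT.leaf cJ10) (BT.leaf cJ11)) (BT.leaf cJ12)))) (BT.node 18 (BT.node 15 (BT.node 14 (BT.node 13 (BT.leaf cJ13) (BT.leaf cJ14)) (BT.leaf cJ15)) (BT.node 17 (BT.node 16 (BT.leaf cJ16) (BT.leaf cJ17)) (BT.leaf cJ18))) (BT.node 21 (BT.node 20 (BT.node 19 (BT.leaf cJ19) (BT.leaf cJ20)) (BT.leaf cJ21)) (BT.node 23 (BT.node 22 (BT.leaf cJ22) (BT.leaf cJ23)) (BT.leaf cJ24))))) (BT.node 36 (BT.node 30 (BT.node 27 (BT.node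 26 (BT.node 25 (BT.leaf cJ25) (BT.leaf cJ26)) (BT.leaf cJ27)) (BT.node 29 (BT.node 28 (BT.leaf cJ28) (BT.leaf cJ29)) (BT.leaf cJ30))) (BT.node 33 (BT.node 32 (BT.node 31 (BT.leaf cJ31) (BT.leaf cJ32)) (BT.leaf cJ33)) (BT.node 35 (BT.node 34 (BT.leaf cJ34) (BT.leaf cJ35)) (BT.leaf cJ36)))) (BT.node 42 (BT.node 39 (BT.node 38 (BT.node 37 (BT.leaf cJ37) (BT.leaf cJ38)) (BT.leaf cJ39)) (BT.node 41 (BT.node 40 (BT.leaf cJ40) (BT.leaf cJ41)) (BT.leaf cJ42))) (BT.node 45 (BT.node 44 (BT.node 43 (BT.leaf cJ43) (BT.leaf cJ44)) (BT.leaf cJ45)) (BT.node 47 (BT.node 46 (BT.leaf cJ46) (BT.leaf cJ47)) (BT.leaf cJ48)))))) (BT.node 73 (BT.node 61 (BT.node 55 (BT.node 52 (BT.node 50 (BT.node 49 (BT.leaf cJ49) (BT.leaf cJ50)) (BT.node 51 (BT.leaf cJ51) (BT.leaf cJ52))) (BT.node 54 (BT.node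 53 (BT.leaf cJ53) (BT.leaf cJ54)) (BT.leaf cJ55))) (BT.node 58 (BT.node 57 (BT.node 56 (BT.leaf cJ56) (BT.leaf cJ57)) (BT.leaf cJ58)) (BT.node 60 (BT.node 59 (BT.leaf cJ59) (BT.leaf cJ60)) (BT.leaf cJ61)))) (BT.node 67 (BT.node 64 (BT.node 63 (BT.node 62 (BT.leaf cJ62) (BT.leaf cJ63)) (BT.leaf cJ64)) (BT.node 66 (BT.node 65 (BT.leaf cJ65) (BT.leaf cJ66)) (BT.leaf cJ67))) (BT.node 70 (BT.node 69 (BT.node 68 (BT.leaf cJ68) (BT.leaf cJ69)) (BT.leaf cJ70)) (BT.node 72 (BT.node 71 (BT.leaf cJ71) (BT.leaf cJ72)) (BT.leaf cJ73))))) (BT.node 85 (BT.node 79 (BT.node 76 (BT.node 75 (BT.node 74 (BT.leaf cJ74) (BT.leaf cJ75)) (BT.leaf cJ76)) (BT.node 78 (BT.node 77 (BT.leaf cJ77) (BT.leaf cJ78)) (BT.leaf cJ79))) (BT.node 82 (BT.node 81 (BT.node 80 (BT.leaf cJ80) (BT.leaf cJ81)) (BT.leaf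 cJ82)) (BT.node 84 (BT.node 83 (BT.leaf cJ83) (BT.leaf cJ84)) (BT.leaf cJ85)))) (BT.node 91 (BT.node 88 (BT.node 87 (BT.node 86 (BT.leaf cJ86) (BT.leaf cJ87)) (BT.leaf cJ88)) (BT.node 90 (BT.node 89 (BT.leaf cJ89) (BT.leaf cJ90)) (BT.leaf cJ91))) (BT.node 94 (BT.node 93 (BT.node 92 (BT.leaf cJ92) (BT.leaf cJ93)) (BT.leaf cJ94)) (BT.node 96 (BT.node 95 (BT.leaf cJ95) (BT.leaf cJ96)) (BT.leaf cJ97)))))))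
/-- parent chunks -/
def parCT : BT ℕ := (BT.node 6 (BT.node 3 (BT.node 1 (BT.node 0 (BT.leaf cP0) (BT.leaf cP1)) (BT.node 2 (BT.leaf cP2) (BT.leaf cP3))) (BT.node 5 (BT.node 4 (BT.leaf cP4) (BT.leaf cP5)) (BT.leaf cP6))) (BT.node 10 (BT.node 8 (BT.node 7 (BT.leaf cP7) (BT.leaf cP8)) (BT.node 9 (BT.leaf cP9) (BT.leaf cP10))) (BT.node 12 (BT.node 11 (BT.leaf cP11) (BT.leaf cP12)) (BT.leaf cP13))))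
/-- the certificate -/
def data : Data where
  k := 6
  N := 6829
  W := 27
  MW := 134217728
  B := 8192
  CH := 512
  NCH := 14
  colE := colET
  JW := 64
  MJ := 18446744073709551616
  A := 1048576
  colJ := colJT
  PW := 22
  MP := 4194304
  parC := parCT
  inv := (BT.node 3 (BT.node 1 (BT.node 0 (BT.leaf 1) (BT.leaf 0)) (BT.node 2 (BT.leaf 3) (BT.leaf 2))) (BT.node 5 (BT.node 4 (BT.leaf 5) (BT.leaf 4)) (BT.leaf 6)))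
  rel := relT
  sub := subT
  fuel := 64

end Cfsg.Agent.Lib.Helper28.TCM24W1Data
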