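import Cfsg.Prelude.Def_SporCoxeter
import Cfsg.Agent.Lib.Helper28.TCM24W0Def
set_option autoImplicit false

namespace Cfsg.Agent.Lib.Helper28.TCM24W1Def

/-- the generators -/
inductive Gen
  | a
  | b
  | t
  deriving DecidableEq

/-- the generators as generators of the larger presentation -/
def up : Gen → Cfsg.Agent.Lib.Helper28.TCM24W0Def.Gen
  | .a => .a
  | .b => .b
  | .t => .t

/-- the Coxeter graph -/
def edges : List (Gen × ℕ × Gen) :=
  []

/-- the further relators -/
def extra : List (FreeGroup Gen) := [
  FreeGroup.mk [(.a, true), (.a, true)],
  FreeGroup.mk [(.b, true), (.b, true), (.b, true), (.b, true)],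
  FreeGroup.mk [(.a, true), (.b, true), (.a, true), (.b, true), (.a, true), (.b, true), (.a, true), (.b, true), (.a, true), (.b, true), (.a, true), (.b, true), (.a, true), (.b, true), (.a, true), (.b, true), (.a, true), (.b, true), (.a, true), (.b, true), (.a, true), (.b, true)],
  FreeGroup.mk [(.a, true), (.b, true), (.b, true), (.a, true), (.b, true), (.b, true), (.a, true), (.b, true), (.b, true), (.a, true), (.b, true), (.b, true), (.a, true), (.b, true), (.b, true), (.a, true), (.b, true), (.b, true)],
  FreeGroup.mk [(.a, true), (.b, true), (.a, true), (.b, true), (.a, true), (.b, false), (.a, true), (.b, true), (.a, true), (.b, true), (.b, true), (.a, true), (.b, false), (.a, true), (.b, true), (.a, true), (.b, false), (.a, true), (.b, false)],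
  FreeGroup.mk [(.t, true), (.t, true)],
  FreeGroup.mk [(.t, true), (.a, true), (.t, true), (.a, true), (.t, true), (.a, true), (.t, true), (.a, true)],
  FreeGroup.mk [(.t, true), (.b, true), (.b, true), (.t, true), (.b, true), (.b, true), (.t, true), (.b, false), (.b, false), (.t, true), (.b, false), (.b, false)],
  FreeGroup.mk [(.b, false), (.t, true), (.b, true), (.b, true), (.t, true), (.b, false), (.b, false), (.t, true), (.b, false), (.b, false), (.t, true), (.b, false)],
  FreeGroup.mk [(.t, true), (.b, true), (.t, true), (.b, false), (.t, true), (.b, false), (.t, true), (.b, true), (.t, true), (.b, false), (.t, true), (.b, false)],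
  FreeGroup.mk [(.t, true), (.a, true), (.b, true), (.b, true), (.t, true), (.b, true), (.b, true), (.a, true), (.t, true), (.a, true), (.t, true), (.b, false), (.b, false), (.t, true), (.b, false), (.b, false), (.a, true)],
  FreeGroup.mk [(.t, true), (.a, true), (.b, true), (.b, true), (.t, true), (.b, true), (.b, true), (.t, true), (.a, true), (.t, true), (.a, true), (.b, false), (.b, false), (.t, true), (.b, false), (.b, false), (.a, true)],
  FreeGroup.mk [(.t, true), (.b, true), (.t, true), (.a, true), (.b, true), (.a, true), (.t, true), (.a, true), (.b, false), (.a, true), (.t, true), (.b, false), (.t, true), (.a, true), (.b, false), (.a, true), (.b, false), (.b, false), (.a, true), (.b, true), (.a, true)],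
  FreeGroup.mk [(.t, true), (.b, true), (.b, true), (.t, true), (.b, true), (.a, true), (.b, true), (.t, true), (.b, false), (.b, false), (.a, true), (.b, false), (.b, false), (.a, true), (.b, false), (.b, false), (.a, true), (.t, true), (.b, false), (.a, true), (.b, false)],
  FreeGroup.mk [(.t, true), (.b, true), (.t, true), (.a, true), (.b, false), (.a, true), (.t, true), (.a, true), (.t, true), (.b, true), (.a, true), (.t, true), (.b, false), (.t, true), (.b, true), (.a, true), (.b, false), (.a, true), (.b, true), (.a, true), (.b, false)],
  FreeGroup.mk [(.t, true), (.a, true), (.b, false), (.a, true), (.b, true), (.a, true), (.t, true), (.b, false), (.t, true), (.a, true), (.b, true), (.t, true), (.b, true), (.t, true), (.a, true), (.b, false), (.a, true), (.b, true), (.a, true), (.b, true), (.a, true)],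
  FreeGroup.mk [(.t, true), (.b, false), (.t, true), (.b, false), (.a, true), (.b, true), (.b, true), (.t, true), (.a, true), (.t, true), (.a, true), (.b, false), (.t, true), (.a, true), (.t, true), (.b, false), (.a, true), (.b, false), (.a, true), (.b, false), (.b, false)],
  FreeGroup.mk [(.t, true), (.a, true), (.b, true), (.t, true), (.a, true), (.t, true), (.b, false), (.a, true), (.b, true), (.t, true), (.b, false), (.t, true), (.b, true), (.a, true), (.b, true), (.t, true), (.a, true), (.t, true), (.b, false), (.a, true), (.b, false), (.b, false)],
  FreeGroup.mk [(.t, true), (.b, false), (.t, true), (.b, true), (.b, true), (.a, true), (.b, false), (.b, false), (.t, true), (.b, true), (.t, true), (.b, false), (.a, true), (.b, false), (.a, true), (.b, true), (.a, true), (.b, false), (.a, true), (.b, true), (.a, true), (.b, true)],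
  FreeGroup.mk [(.t, true), (.b, false), (.t, true), (.a, true), (.b, true), (.t, true), (.b, false), (.a, true), (.t, true), (.b, true), (.a, true), (.t, true), (.b, true), (.a, true), (.b, false), (.t, true), (.a, true), (.t, true), (.a, true), (.b, false), (.b, false), (.a, true)],
  FreeGroup.mk [(.t, true), (.b, false), (.a, true), (.b, true), (.t, true), (.b, true), (.a, true), (.b, false), (.a, true), (.b, false), (.a, true), (.b, false), (.a, true), (.b, false), (.b, false), (.a, true), (.b, true), (.a, true), (.b, true), (.a, true), (.b, true), (.a, true), (.b, false)] ]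

end Cfsg.Agent.Lib.Helper28.TCM24W1Def
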