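import Mathlib
import Cfsg.Agent.Lib.Helper28.M23Gen
import Cfsg.Agent.Lib.Helper3.OutAut.M23
import Cfsg.Agent.Lib.Helper3.Golay.M24Order
import Cfsg.Agent.Lib.Helper28.SchurFoxG
import Cfsg.Agent.Lib.Helper28.TC2Tower
import Cfsg.Agent.Lib.Helper28.TCM24W0Link
import Cfsg.Agent.Lib.Helper28.TCM24W1Link

set_option autoImplicit false
set_option maxRecDepth 100000

/-!
# The presented groups of the tower map onto the Mathieu groups `M₂₃` and `M₂₄`

The generators are given by tables; the relators are checked on the tables, and the generation is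
checked with transversals for the stabiliser chain of `M24` (library of helper3).
-/

namespace Cfsg.Agent.Lib.Helper28.SchurM24Conc

open Cfsg Cfsg.Agent.Lib.Helper3.Golay Cfsg.Agent.Lib.Helper3.OutAut
open Cfsg.Agent.Lib.Helper28.SchurFox Cfsg.Agent.Lib.Helper28.TC2Lower Cfsg.Agent.Lib.Helper28.TC2Glue

def aT : List ℕ := [0, 12, 2, 9, 21, 5, 15, 14, 8, 3, 16, 18, 1, 13, 7, 6, 10, 22, 11, 19, 20, 4, 17, 23]
def bT : List ℕ := [2, 1, 7, 8, 15, 3, 0, 6, 18, 9, 11, 13, 10, 12, 22, 4, 16, 20, 5, 21, 14, 19, 17, 23]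
def tT : List ℕ := [0, 1, 5, 14, 9, 2, 12, 10, 20, 4, 7, 22, 6, 13, 3, 15, 21, 17, 18, 19, 8, 16, 11, 23]
def sT : List ℕ := [21, 8, 7, 5, 17, 3, 15, 2, 1, 18, 11, 10, 23, 16, 22, 6, 13, 4, 9, 20, 19, 0, 14, 12]
def prog23 : List Ins := [
  .mul 1 1, .mul 2 1, .mul 0 3, .mul 1 3, .mul 2 3, .mul 1 4, .mul 1 5, .mul 0 6, .mul 2 6, .mul 0 7,
  .mul 1 7, .mul 0 8, .mul 1 8, .mul 0 9, .mul 1 10, .mul 0 11, .mul 2 12, .mul 0 13, .mul 1 13, .mul 2 15,
  .mul 1 19, .mul 18 1, .mul 22 10, .inv 17, .mul 26 25, .mul 17 19, .inv 19, .mul 29 28, .mul 24 24, .mul 27 24,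
  .mul 30 24, .mul 24 30, .mul 27 30, .mul 24 31, .mul 24 33, .mul 24 34, .mul 27 34, .mul 30 34, .mul 24 35, .mul 24 37,
  .mul 27 37, .mul 30 37, .mul 27 38, .mul 30 41, .mul 30 42, .mul 24 45, .mul 38 32, .inv 32, .mul 50 49, .mul 24 38,
  .inv 27, .mul 53 52, .mul 52 42, .inv 47, .mul 56 55, .mul 51 51, .mul 54 51, .mul 57 51, .mul 54 54, .mul 51 57,
  .mul 54 57, .mul 57 57, .mul 51 58, .mul 54 58, .mul 57 58, .mul 54 59, .mul 51 60, .mul 54 60, .mul 57 61, .mul 51 62,
  .mul 54 64, .mul 54 66, .mul 59 62, .inv 67, .mul 76 75, .mul 72 67, .mul 78 70, .inv 74, .mul 80 79, .mul 77 77,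
  .mul 78 77, .mul 81 77, .mul 78 78, .mul 81 78, .mul 77 81, .mul 81 81, .mul 77 82, .mul 78 82, .mul 77 85, .mul 78 85,
  .mul 81 85, .mul 78 87, .mul 77 88, .mul 81 89, .mul 81 92, .mul 83 88, .mul 95 97, .inv 87, .mul 100 99, .mul 92 84,
  .mul 100 102, .mul 98 101, .mul 101 104, .inv 101, .mul 106 105, .mul 104 103, .inv 98, .mul 109 108, .mul 104 101, .mul 106 111,
  .mul 101 98, .mul 105 101, .mul 109 114, .mul 103 108, .mul 106 116, .mul 110 104, .mul 117 104, .mul 112 110, .mul 113 110, .mul 117 110,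
  .mul 117 112, .mul 117 113, .mul 117 118, .mul 117 120, .mul 117 121]
def prog24 : List Ins := [
  .mul 0 3, .mul 1 3, .mul 2 3, .mul 3 4, .mul 0 5, .mul 1 5, .mul 2 5, .mul 0 6, .mul 1 6, .mul 1 7,
  .mul 2 7, .mul 2 8, .mul 3 8, .mul 2 9, .mul 0 10, .mul 3 10, .mul 1 11, .mul 1 13, .mul 3 13, .mul 3 14,
  .mul 0 17, .mul 2 18, .mul 15 4, .inv 17, .mul 27 26, .mul 18 12, .inv 23, .mul 30 29, .mul 2 2, .mul 24 20,
  .inv 22, .mul 34 33, .mul 28 28, .mul 28 31, .mul 35 31, .mul 31 35, .mul 35 35, .mul 31 36, .mul 35 36, .mul 31 37,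
  .mul 31 38, .mul 35 38, .mul 28 39, .mul 35 39, .mul 28 40, .mul 35 40, .mul 35 41, .mul 35 42, .mul 31 44, .mul 35 46,
  .mul 35 47, .mul 35 50, .mul 36 31, .inv 40, .mul 57 56, .mul 47 31, .inv 44, .mul 60 59, .mul 55 55, .mul 58 55,
  .mul 61 55, .mul 55 58, .mul 58 58, .mul 55 61, .mul 58 61, .mul 58 62, .mul 61 62, .mul 55 63, .mul 58 63, .mul 61 63,
  .mul 55 66, .mul 58 66, .mul 61 68, .mul 58 69, .mul 58 70, .mul 55 71, .mul 70 70, .inv 61, .mul 81 80, .mul 80 80,
  .inv 58, .mul 84 83, .mul 71 78, .inv 74, .mul 87 86, .mul 82 82, .mul 85 82, .mul 88 82, .mul 88 85, .mul 82 89,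
  .mul 85 89, .mul 88 89, .mul 82 90, .mul 85 90, .mul 82 92, .mul 85 92, .mul 88 92, .mul 82 93, .mul 85 94, .mul 82 95,
  .mul 85 95, .mul 82 98, .mul 82 100, .mul 101 91, .inv 95, .mul 108 107, .mul 95 93, .inv 101, .mul 111 110, .mul 90 85,
  .inv 85, .mul 114 113, .mul 112 109, .mul 115 109, .mul 109 112, .mul 109 115, .mul 112 115, .mul 115 115, .mul 109 116, .mul 112 116,
  .mul 115 116, .mul 109 117, .mul 115 118, .mul 109 120, .mul 112 120, .mul 109 121, .mul 112 121, .mul 112 125, .mul 123 109, .mul 123 122,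
  .inv 118, .mul 134 133, .mul 112 131, .inv 124, .mul 137 136, .mul 132 138, .mul 132 135, .inv 132, .mul 141 140, .mul 138 140,
  .mul 143 135, .mul 138 132, .mul 135 144, .mul 138 140, .mul 140 138, .mul 142 139, .mul 143 139, .mul 144 139, .mul 148 139, .mul 148 142,
  .mul 148 143, .mul 148 144, .mul 148 149, .mul 148 150, .mul 148 151]

theorem okA : tblOK 0xffffff aT = true := by decide +kernel
theorem okB : tblOK 0xffffff bT = true := by decide +kernel
theorem okT : tblOK 0xffffff tT = true := by decide +kernel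
theorem okS : tblOK 0xffffff sT = true := by decide +kernel

theorem ex_of_ok {T : List ℕ} (h : tblOK 0xffffff T = true) :
    ∃ σ : Equiv.Perm GolayPt, σ ∈ M24 ∧ HasTbl σ T := by
  obtain ⟨σ, h1, h2⟩ := tblOK_sound h
  exact ⟨σ, (Subgroup.mem_inf.mp h1).1, h2⟩

/-- the generators -/
noncomputable def gA : Equiv.Perm GolayPt := (ex_of_ok okA).choose
noncomputable def gB : Equiv.Perm GolayPt := (ex_of_ok okB).choose
noncomputable def gT : Equiv.Perm GolayPt := (ex_of_ok okT).choose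
noncomputable def gS : Equiv.Perm GolayPt := (ex_of_ok okS).choose

theorem gA_mem : gA ∈ M24 := (ex_of_ok okA).choose_spec.1
theorem gB_mem : gB ∈ M24 := (ex_of_ok okB).choose_spec.1
theorem gT_mem : gT ∈ M24 := (ex_of_ok okT).choose_spec.1
theorem gS_mem : gS ∈ M24 := (ex_of_ok okS).choose_spec.1
theorem gA_tbl : HasTbl gA aT := (ex_of_ok okA).choose_spec.2
theorem gB_tbl : HasTbl gB bT := (ex_of_ok okB).choose_spec.2
theorem gT_tbl : HasTbl gT tT := (ex_of_ok okT).choose_spec.2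
theorem gS_tbl : HasTbl gS sT := (ex_of_ok okS).choose_spec.2

theorem gA_mem23 : gA ∈ Cfsg.Spor.M23 :=
  Cfsg.Agent.Lib.Helper28.M23Gen.mem_M23.mpr ⟨gA_mem, Cfsg.Agent.Lib.Helper28.M23Gen.fixes_none gA_tbl (by decide)⟩
theorem gB_mem23 : gB ∈ Cfsg.Spor.M23 :=
  Cfsg.Agent.Lib.Helper28.M23Gen.mem_M23.mpr ⟨gB_mem, Cfsg.Agent.Lib.Helper28.M23Gen.fixes_none gB_tbl (by decide)⟩
theorem gT_mem23 : gT ∈ Cfsg.Spor.M23 :=
  Cfsg.Agent.Lib.Helper28.M23Gen.mem_M23.mpr ⟨gT_mem, Cfsg.Agent.Lib.Helper28.M23Gen.fixes_none gT_tbl (by decide)⟩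

/-- the generators by index -/
noncomputable def gx : ℕ → Equiv.Perm GolayPt
  | 0 => gA
  | 1 => gB
  | 2 => gT
  | _ => gS

/-- the tables of the letters -/
def tabL : ℕ → List ℕ
  | 0 => aT
  | 1 => invT aT
  | 2 => bT
  | 3 => invT bT
  | 4 => tT
  | 5 => invT tT
  | 6 => sT
  | _ => invT sT

theorem hasTbl_letG : ∀ l < 8, HasTbl (letG gx l) (tabL l) := by
  intro l hl
  interval_cases l
  · exact gA_tbl
  · exact gA_tbl.inv (by decide +kernel)
  · exact gB_tbl
  · exact gB_tbl.inv (by decide +kernel)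
  · exact gT_tbl
  · exact gT_tbl.inv (by decide +kernel)
  · exact gS_tbl
  · exact gS_tbl.inv (by decide +kernel)

/-- the table of a path -/
def pathTbl : List ℕ → List ℕ
  | [] => idT
  | l :: ls => compT (pathTbl ls) (tabL l)

theorem hasTbl_pathProd (w : List ℕ) (hw : ∀ l ∈ w, l < 8) : HasTbl (pathProd (letG gx) w) (pathTbl w) := by
  induction w with
  | nil => exact HasTbl.one
  | cons l ls ih =>
    exact (ih (fun l' hl' => hw l' (List.mem_cons_of_mem _ hl'))).mul (hasTbl_letG l (hw l List.mem_cons_self))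

theorem relPaths_ok : ∀ w ∈ Cfsg.Agent.Lib.Helper28.TCM24W0Table.relPaths, (∀ l ∈ w, l < 8) ∧ pathTbl w = idT := by
  decide +kernel

theorem pathProd_eq_one (w : List ℕ) (hw : w ∈ Cfsg.Agent.Lib.Helper28.TCM24W0Table.relPaths) :
    pathProd (letG gx) w = 1 := by
  obtain ⟨h1, h2⟩ := relPaths_ok w hw
  have := hasTbl_pathProd w h1
  rw [h2] at this
  exact this.ext HasTbl.one

section W0
open Cfsg.Agent.Lib.Helper28.TCM24W0Link
open Cfsg.Agent.Lib.Helper28.TCM24W0Def (Gen)

/-- index of a generator -/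
def gi24 : Gen → ℕ
  | .a => 0
  | .b => 1
  | .t => 2
  | .s => 3

theorem hlw24 : ∀ x b, lw (x, b) = 2 * gi24 x + cond b 0 1 := by
  rintro x b; cases x <;> cases b <;> rfl

theorem hgi24 : Function.Injective gi24 := by
  intro x y h; cases x <;> cases y <;> simp_all [gi24]

/-- the images of the generators -/
noncomputable def g24 (x : Gen) : Equiv.Perm GolayPt := gx (gi24 x)

theorem lift_g24 (L : List (Gen × Bool)) (hL : L ∈ relWords) : FreeGroup.lift g24 (FreeGroup.mk L) = 1 := by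
  rw [lift_mk_eq_pathProd g24 lw (letG gx) (fun x b => letG_lw lw gi24 hlw24 gx x b) L]
  exact pathProd_eq_one _ (hrelmem L hL)

theorem hrel24 : ∀ r ∈ rels, FreeGroup.lift g24 r = 1 := by
  intro r hr
  obtain ⟨L, hL, rfl⟩ := (link.hrels r).mp hr
  exact lift_g24 L hL

/-- the homomorphism onto `M24` -/
noncomputable def Φ24 : PresentedGroup rels →* Equiv.Perm GolayPt := PresentedGroup.toGroup hrel24

theorem Φ24_of (x : Gen) : Φ24 (PresentedGroup.of x) = g24 x := PresentedGroup.toGroup.of hrel24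

end W0

section Gen24
open Cfsg.Agent.Lib.Helper28.TCM24W0Link
open Cfsg.Agent.Lib.Helper28.TCM24W0Def (Gen)

/-- the subgroup generated by the four generators -/
noncomputable def K24 : Subgroup (Equiv.Perm GolayPt) := Subgroup.closure {gA, gB, gT, gS}

theorem K24_le : K24 ≤ M24 := by
  unfold K24
  rw [Subgroup.closure_le]
  intro x hx
  simp only [Set.mem_insert_iff, Set.mem_singleton_iff] at hx
  rcases hx with rfl | rfl | rfl | rfl
  exacts [gA_mem, gB_mem, gT_mem, gS_mem]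

theorem sound24 : Sound K24 (run prog24 [aT, bT, tT, sT] ++ [idT]) := by
  have h0 : Sound K24 [aT, bT, tT, sT] := by
    intro T hT
    simp only [List.mem_cons, List.not_mem_nil, or_false] at hT
    rcases hT with rfl | rfl | rfl | rfl
    · exact ⟨gA, Subgroup.subset_closure (by simp), gA_tbl⟩
    · exact ⟨gB, Subgroup.subset_closure (by simp), gB_tbl⟩
    · exact ⟨gT, Subgroup.subset_closure (by simp), gT_tbl⟩
    · exact ⟨gS, Subgroup.subset_closure (by simp), gS_tbl⟩
  have h1 := Sound.run prog24 _ h0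
  intro T hT
  rw [List.mem_append, List.mem_singleton] at hT
  rcases hT with hT | rfl
  · exact h1 T hT
  · exact ⟨1, Subgroup.one_mem _, HasTbl.one⟩

theorem gen24_ok : allBelow 7 (fun k => Nat.blt k 0 || transOK (run prog24 [aT, bT, tT, sT] ++ [idT]) baseL k (Dmask k)) = true := by
  decide +kernel

theorem M24_le_K24 : M24 ≤ K24 := by
  have h := M24_fixB_le K24_le sound24 0 (by norm_num) gen24_ok
  intro g hg
  exact h (Subgroup.mem_inf.mpr ⟨hg, mem_fixB.mpr (fun j hj => absurd hj (Nat.not_lt_zero j))⟩)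

theorem range24 : Φ24.range = M24 := by
  have h1 : Φ24.range = Subgroup.closure (Set.range g24) := by
    rw [MonoidHom.range_eq_map, ← PresentedGroup.closure_range_of, MonoidHom.map_closure, ← Set.range_comp]
    congr 2
  rw [h1]
  apply le_antisymm
  · rw [Subgroup.closure_le]
    rintro _ ⟨x, rfl⟩
    cases x
    exacts [gA_mem, gB_mem, gT_mem, gS_mem]
  · refine M24_le_K24.trans ?_
    unfold K24
    rw [Subgroup.closure_le]
    intro x hx
    simp only [Set.mem_insert_iff, Set.mem_singleton_iff] at hx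
    rcases hx with rfl | rfl | rfl | rfl
    · exact Subgroup.subset_closure ⟨.a, rfl⟩
    · exact Subgroup.subset_closure ⟨.b, rfl⟩
    · exact Subgroup.subset_closure ⟨.t, rfl⟩
    · exact Subgroup.subset_closure ⟨.s, rfl⟩

end Gen24

section W1
open Cfsg.Agent.Lib.Helper28.TCM24W1Link
open Cfsg.Agent.Lib.Helper28.TCM24W1Def (Gen up)

/-- index of a generator -/
def gi23 : Gen → ℕ
  | .a => 0
  | .b => 1
  | .t => 2

theorem hlw23 : ∀ x b, lw (x, b) = 2 * gi23 x + cond b 0 1 := by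
  rintro x b; cases x <;> cases b <;> rfl

theorem hgi23 : Function.Injective gi23 := by
  intro x y h; cases x <;> cases y <;> simp_all [gi23]

/-- the images of the generators -/
noncomputable def g23 (x : Gen) : Equiv.Perm GolayPt := g24 (up x)

theorem up_rel : ∀ L ∈ relWords, Cfsg.Agent.Lib.Helper28.TC2Tower.upWord up L ∈
    Cfsg.Agent.Lib.Helper28.TCM24W0Link.relWords := by decide +kernel

theorem hrel23 : ∀ r ∈ rels, FreeGroup.lift g23 r = 1 := by
  intro r hr
  obtain ⟨L, hL, rfl⟩ := (link.hrels r).mp hr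
  have h := lift_g24 _ (up_rel L hL)
  rw [FreeGroup.lift_mk] at h ⊢
  rw [← h, Cfsg.Agent.Lib.Helper28.TC2Tower.upWord, List.map_map]
  rfl

/-- the homomorphism onto `M23` -/
noncomputable def Φ23 : PresentedGroup rels →* Equiv.Perm GolayPt := PresentedGroup.toGroup hrel23

theorem Φ23_of (x : Gen) : Φ23 (PresentedGroup.of x) = g23 x := PresentedGroup.toGroup.of hrel23

/-- the subgroup generated by the three generators -/
noncomputable def K23 : Subgroup (Equiv.Perm GolayPt) := Subgroup.closure {gA, gB, gT}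

theorem K23_le : K23 ≤ M24 := by
  unfold K23
  rw [Subgroup.closure_le]
  intro x hx
  simp only [Set.mem_insert_iff, Set.mem_singleton_iff] at hx
  rcases hx with rfl | rfl | rfl
  exacts [gA_mem, gB_mem, gT_mem]

theorem sound23 : Sound K23 (run prog23 [aT, bT, tT] ++ [idT]) := by
  have h0 : Sound K23 [aT, bT, tT] := by
    intro T hT
    simp only [List.mem_cons, List.not_mem_nil, or_false] at hT
    rcases hT with rfl | rfl | rfl
    · exact ⟨gA, Subgroup.subset_closure (by simp), gA_tbl⟩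
    · exact ⟨gB, Subgroup.subset_closure (by simp), gB_tbl⟩
    · exact ⟨gT, Subgroup.subset_closure (by simp), gT_tbl⟩
  have h1 := Sound.run prog23 _ h0
  intro T hT
  rw [List.mem_append, List.mem_singleton] at hT
  rcases hT with hT | rfl
  · exact h1 T hT
  · exact ⟨1, Subgroup.one_mem _, HasTbl.one⟩

theorem gen23_ok : allBelow 7 (fun k => Nat.blt k 1 || transOK (run prog23 [aT, bT, tT] ++ [idT]) baseL k (Dmask k)) = true := by
  decide +kernel

theorem M23_le_K23 : Cfsg.Spor.M23 ≤ K23 := by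
  rw [Cfsg.Agent.Lib.Helper28.M23Gen.M23_eq]
  exact M24_fixB_le K23_le sound23 1 (by norm_num) gen23_ok

theorem range23 : Φ23.range = Cfsg.Spor.M23 := by
  have h1 : Φ23.range = Subgroup.closure (Set.range g23) := by
    rw [MonoidHom.range_eq_map, ← PresentedGroup.closure_range_of, MonoidHom.map_closure, ← Set.range_comp]
    congr 2
  rw [h1]
  apply le_antisymm
  · rw [Subgroup.closure_le]
    rintro _ ⟨x, rfl⟩
    cases x
    exacts [gA_mem23, gB_mem23, gT_mem23]
  · refine M23_le_K23.trans ?_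
    unfold K23
    rw [Subgroup.closure_le]
    intro x hx
    simp only [Set.mem_insert_iff, Set.mem_singleton_iff] at hx
    rcases hx with rfl | rfl | rfl
    · exact Subgroup.subset_closure ⟨.a, rfl⟩
    · exact Subgroup.subset_closure ⟨.b, rfl⟩
    · exact Subgroup.subset_closure ⟨.t, rfl⟩

end W1

end Cfsg.Agent.Lib.Helper28.SchurM24Conc
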