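import Cfsg.Agent.Lib.Helper28.SchurM11
import Cfsg.Agent.Lib.Helper28.SchurM24Conc
import Cfsg.Agent.Lib.Helper28.TCM24W1Main
import Cfsg.Agent.Lib.Helper28.FoxM24W1P2Chk
import Cfsg.Agent.Lib.Helper28.FoxM24W1P7Chk
import Cfsg.Agent.Lib.Helper28.FoxM24W1P23Chk

set_option autoImplicit false
set_option maxRecDepth 100000

/-!
# The Mathieu group `M₂₃` has trivial Schur multiplier
-/

namespace Cfsg.Agent.Lib.Helper28.SchurM23

open Cfsg.Agent.Lib.Helper28.SchurFox Cfsg.Agent.Lib.Helper28.TC2Lower Cfsg.Agent.Lib.Helper28.TC2Glue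
open Cfsg.Agent.Lib.Helper28.TC2Tower
open Cfsg.Agent.Lib.Helper28.TCM24W1Link Cfsg.Agent.Lib.Helper28.TCM24W1Table
open Cfsg.Agent.Lib.Helper28.TCM24W1Main
open Cfsg.Agent.Lib.Helper28.TCM24W1Def (Gen)
open Cfsg.Agent.Lib.Helper28.SchurM24Conc (gi23 hlw23 hgi23 Φ23 range23)
open Cfsg.Agent.Lib.Helper28.SchurM11 (P11)

/-- the presented group -/
abbrev P23 : Type := PresentedGroup rels

/-- the subgroup generated by `a` and `b` -/
abbrev H : Subgroup P23 := (Subgroup.closure S).map (PresentedGroup.mk rels)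

theorem hlwk : ∀ x, lw (x, true) < table.k := by
  intro x; cases x <;> decide

theorem hDd : ∀ k < 3, ∃ x, gi23 x = k := by
  intro k hk
  interval_cases k
  exacts [⟨.a, rfl⟩, ⟨.b, rfl⟩, ⟨.t, rfl⟩]

theorem up_rel : ∀ L ∈ Cfsg.Agent.Lib.Helper28.TCM24W2Link.relWords,
    upWord Cfsg.Agent.Lib.Helper28.TCM24W2Def.up L ∈ relWords := by decide +kernel

theorem hrelmap : ∀ r ∈ Cfsg.Agent.Lib.Helper28.TCM24W2Link.rels,
    FreeGroup.map Cfsg.Agent.Lib.Helper28.TCM24W2Def.up r ∈ rels :=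
  hrel_of_words rels Cfsg.Agent.Lib.Helper28.TCM24W2Link.rels Cfsg.Agent.Lib.Helper28.TCM24W2Def.up relWords
    Cfsg.Agent.Lib.Helper28.TCM24W2Link.relWords link.hrels Cfsg.Agent.Lib.Helper28.TCM24W2Link.link.hrels up_rel

theorem hψrel : ∀ r ∈ Cfsg.Agent.Lib.Helper28.TCM24W2Link.rels,
    FreeGroup.lift (fun g => (PresentedGroup.of (Cfsg.Agent.Lib.Helper28.TCM24W2Def.up g) : P23)) r = 1 := by
  intro r hr
  have key : FreeGroup.lift (fun g => (PresentedGroup.of (Cfsg.Agent.Lib.Helper28.TCM24W2Def.up g) : P23)) =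
      (PresentedGroup.mk rels).comp (FreeGroup.map Cfsg.Agent.Lib.Helper28.TCM24W2Def.up) := by
    ext g
    simp [PresentedGroup.of]
  rw [key]
  exact PresentedGroup.one_of_mem (hrelmap r hr)

/-- the map from the presented group of order 7920 -/
noncomputable def ψ : P11 →* P23 := PresentedGroup.toGroup hψrel

theorem ψ_of (g : Cfsg.Agent.Lib.Helper28.TCM24W2Def.Gen) :
    ψ (PresentedGroup.of g) = PresentedGroup.of (Cfsg.Agent.Lib.Helper28.TCM24W2Def.up g) :=
  PresentedGroup.toGroup.of hψrel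

theorem range_ψ : ψ.range = H := by
  rw [MonoidHom.range_eq_map, ← PresentedGroup.closure_range_of, MonoidHom.map_closure, ← Set.range_comp]
  show _ = (Subgroup.closure {FreeGroup.of Gen.a, FreeGroup.of Gen.b}).map _
  rw [MonoidHom.map_closure]
  congr 1
  ext x
  constructor
  · rintro ⟨g, rfl⟩
    cases g
    · exact ⟨FreeGroup.of Gen.a, by simp, (ψ_of .a).symm⟩
    · exact ⟨FreeGroup.of Gen.b, by simp, (ψ_of .b).symm⟩
  · rintro ⟨y, hy, rfl⟩
    simp only [Set.mem_insert_iff, Set.mem_singleton_iff] at hy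
    rcases hy with rfl | rfl
    · exact ⟨.a, ψ_of .a⟩
    · exact ⟨.b, ψ_of .b⟩

theorem index_H : H.index = 1288 := main.1

theorem card_H_le : Nat.card H ≤ 7920 := by
  rw [← range_ψ]
  calc Nat.card ψ.range ≤ Nat.card P11 := Nat.card_le_card_of_surjective ψ.rangeRestrict ψ.rangeRestrict_surjective
    _ ≤ 7920 := Cfsg.Agent.Lib.Helper28.SchurM11.card_le

theorem finite_H : Finite H := by
  rw [← range_ψ]
  exact Finite.of_surjective ψ.rangeRestrict ψ.rangeRestrict_surjective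

instance finite_P23 : Finite P23 := by
  have := finite_H
  exact finite_of_index H (by rw [index_H]; norm_num)

theorem card_le : Nat.card P23 ≤ 10200960 :=
  card_le_of_index H index_H card_H_le

/-- the homomorphism onto `M23` -/
noncomputable def φ23 : P23 →* ↥Cfsg.Spor.M23 :=
  Φ23.codRestrict Cfsg.Spor.M23 (fun x => by rw [← range23]; exact ⟨x, rfl⟩)

theorem φ23_surj : Function.Surjective φ23 := by
  rintro ⟨y, hy⟩
  rw [← range23] at hy
  obtain ⟨x, rfl⟩ := hy
  exact ⟨x, rfl⟩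

theorem card_eq : Nat.card P23 = 10200960 := by
  apply le_antisymm card_le
  rw [← Cfsg.Agent.Lib.Helper3.OutM23.card_M23]
  exact Nat.card_le_card_of_surjective φ23 φ23_surj

/-- the presented group is `M23` -/
noncomputable def e23 : P23 ≃* ↥Cfsg.Spor.M23 :=
  MulEquiv.ofBijective φ23 (φ23_surj.bijective_of_nat_card_le (by
    rw [card_eq, Cfsg.Agent.Lib.Helper3.OutM23.card_M23]))

theorem card_H : Nat.card H = 7920 := by
  have h := H.index_mul_card
  rw [index_H, card_eq] at h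
  omega

/-- the subgroup is the presented group of order 7920 -/
noncomputable def e11 : P11 ≃* ↥H := by
  have hr : ∀ x, ψ x ∈ H := fun x => by rw [← range_ψ]; exact ⟨x, rfl⟩
  let ψ' : P11 →* ↥H := ψ.codRestrict H hr
  have hs : Function.Surjective ψ' := by
    rintro ⟨y, hy⟩
    rw [← range_ψ] at hy
    obtain ⟨x, rfl⟩ := hy
    exact ⟨x, rfl⟩
  exact MulEquiv.ofBijective ψ' (hs.bijective_of_nat_card_le (by
    rw [card_H]; exact Cfsg.Agent.Lib.Helper28.SchurM11.card_le))

theorem trivMult_H : TrivMult ↥H := Cfsg.Agent.Lib.Helper28.SchurM11.trivMult.congr e11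

theorem perfect_H : ⁅H, H⁆ = H := by
  have h1 : H = (⊤ : Subgroup P11).map ψ := by rw [← MonoidHom.range_eq_map, range_ψ]
  rw [h1, ← Subgroup.map_commutator, ← commutator_def, Cfsg.Agent.Lib.Helper28.SchurM11.perfect]

theorem prime_dvd_1288 {p : ℕ} (hp : p.Prime) (h : p ∣ 1288) : p = 2 ∨ p = 7 ∨ p = 23 := by
  have h' : p ∣ 2 ^ 3 * 7 * 23 := h
  rcases (Nat.Prime.dvd_mul hp).mp h' with h1 | h1
  · rcases (Nat.Prime.dvd_mul hp).mp h1 with h2 | h2
    · left; exact (Nat.prime_dvd_prime_iff_eq hp Nat.prime_two).mp (hp.dvd_of_dvd_pow h2)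
    · right; left; exact (Nat.prime_dvd_prime_iff_eq hp (by norm_num)).mp h2
  · right; right; exact (Nat.prime_dvd_prime_iff_eq hp (by norm_num)).mp h1

theorem hpaths2 : FoxM24W1P2.data.paths = relWords.map (pathOf lw) := by decide +kernel
theorem hpaths7 : FoxM24W1P7.data.paths = relWords.map (pathOf lw) := by decide +kernel
theorem hpaths23 : FoxM24W1P23.data.paths = relWords.map (pathOf lw) := by decide +kernel

/-- every finite stem extension of the presented group is an isomorphism -/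
theorem trivMult : TrivMult P23 := by
  apply trivMult_of_exp
  intro p hp Γ _ _ σ hσ hexp
  obtain ⟨hidx, φ, hφ, f, hf, hfe, _⟩ := main
  obtain ⟨R⟩ := retraction_of_perfect σ hσ.1 hσ.2.1 H perfect_H trivMult_H
  by_cases hdiv : p ∣ 1288
  · rcases prime_dvd_1288 hp hdiv with rfl | rfl | rfl
    · exact ker_eq_bot_of_fox rels relWords lw gi23 link.hrels hlw23 hgi23 H table hT hlwk φ hφ f hf hfe
        FoxM24W1P2.data rfl hDd hpaths2 FoxM24W1P2Chk.hstatic FoxM24W1P2Chk.hcyc σ hσ hexp R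
    · exact ker_eq_bot_of_fox rels relWords lw gi23 link.hrels hlw23 hgi23 H table hT hlwk φ hφ f hf hfe
        FoxM24W1P7.data rfl hDd hpaths7 FoxM24W1P7Chk.hstatic FoxM24W1P7Chk.hcyc σ hσ hexp R
    · exact ker_eq_bot_of_fox rels relWords lw gi23 link.hrels hlw23 hgi23 H table hT hlwk φ hφ f hf hfe
        FoxM24W1P23.data rfl hDd hpaths23 FoxM24W1P23Chk.hstatic FoxM24W1P23Chk.hcyc σ hσ hexp R
  · have hi : (H.comap σ).index = 1288 := by
      rw [Subgroup.index_comap_of_surjective H hσ.1]; exact index_H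
    have : (H.comap σ).FiniteIndex := ⟨by rw [hi]; norm_num⟩
    refine ker_eq_bot_of_transfer σ hσ p hexp (H.comap σ) ?_ R.comm_inter
    rw [hi]
    exact ((Nat.Prime.coprime_iff_not_dvd hp).mpr hdiv).symm

/-- the left inverse of the exponent matrix -/
def Smat : List (List ℤ) := [[-1396004, -694320, 251428, 0, 2893, 8514, 0, 0, 0, -2893, 66, 0, 0, 0, 0, 0, 0, 0, 0, 0, 0], [126909, 63120, -22857, 0, -263, -774, 0, 0, 0, 263, -6, 0, 0, 0, 0, 0, 0, 0, 0, 0, 0], [21232, 10560, -3824, 0, -44, -129, 0, 0, 0, 44, -1, 0, 0, 0, 0, 0, 0, 0, 0, 0, 0]]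

theorem perfect : commutator P23 = ⊤ := by
  apply commutator_eq_top_of_matrix rels relWords lw gi23 link.hrels hlw23 hgi23 3 (by intro x; cases x <;> decide)
    (fun y j => (Smat.getD y []).getD j 0)
  decide +kernel

/-- the Schur multiplier of `M23` is trivial -/
theorem schur_M23 : Cfsg.HasCyclicSchurMultiplier ↥Cfsg.Spor.M23 1 :=
  hasCyclic_of_trivMult (trivMult.congr e23)

end Cfsg.Agent.Lib.Helper28.SchurM23
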