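import Cfsg.Agent.Lib.Helper28.TCCo3Main
import Cfsg.Agent.Lib.Helper28.SchurM23
import Cfsg.Agent.Lib.Helper4.Co3.Iso

set_option autoImplicit false
set_option maxRecDepth 100000

/-!
# A presentation of the Conway group `Co₃`

`PCo3 = ⟨a, b, t, u | R⟩`, where the relators in `a, b, t` are those of the presentation `P23` of `M₂₃`.
The subgroup `⟨a, b, t⟩` has index `48600` (coset enumeration), so `|PCo3| ≤ 48600 · |M₂₃| = |Co₃|`; the
generators map to words in helper4's generators of `Co₃` on 552 points (the relators are checked on the six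
base points), and this map is onto.
-/

namespace Cfsg.Agent.Lib.Helper28.Co3Link

open Cfsg.Agent.Lib.Helper28.SchurFox Cfsg.Agent.Lib.Helper28.TC2Lower Cfsg.Agent.Lib.Helper28.TC2Glue
open Cfsg.Agent.Lib.Helper28.TC2Tower
open Cfsg.Agent.Lib.Helper28.TCCo3Link Cfsg.Agent.Lib.Helper28.TCCo3Table
open Cfsg.Agent.Lib.Helper28.TCCo3Main
open Cfsg.Agent.Lib.Helper28.TCCo3Def (Gen)
open Cfsg.Agent.Lib.Helper4
open Cfsg.Agent.Lib.Helper10.SX

/-- the presented group -/
abbrev PCo3 : Type := PresentedGroup rels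

/-- the subgroup generated by `a`, `b` and `t` -/
abbrev H23 : Subgroup PCo3 := (Subgroup.closure S).map (PresentedGroup.mk rels)

/-- index of a generator -/
def gi : Gen → ℕ
  | .a => 0
  | .b => 1
  | .t => 2
  | .u => 3

theorem hlw : ∀ x b, lw (x, b) = 2 * gi x + cond b 0 1 := by
  rintro x b; cases x <;> cases b <;> rfl

theorem hgi : Function.Injective gi := by
  intro x y h; cases x <;> cases y <;> simp_all [gi]

theorem hlwk : ∀ x, lw (x, true) < table.k := by
  intro x; cases x <;> decide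

theorem hDd : ∀ k < 4, ∃ x, gi x = k := by
  intro k hk
  interval_cases k
  exacts [⟨.a, rfl⟩, ⟨.b, rfl⟩, ⟨.t, rfl⟩, ⟨.u, rfl⟩]

/-! ### The subgroup `M₂₃` -/

/-- the generators of the presentation of `M₂₃` as generators of this one -/
def up23 : Cfsg.Agent.Lib.Helper28.TCM24W1Def.Gen → Gen
  | .a => .a
  | .b => .b
  | .t => .t

theorem up_rel : ∀ L ∈ Cfsg.Agent.Lib.Helper28.TCM24W1Link.relWords, upWord up23 L ∈ relWords := by
  decide +kernel

theorem hrelmap : ∀ r ∈ Cfsg.Agent.Lib.Helper28.TCM24W1Link.rels, FreeGroup.map up23 r ∈ rels :=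
  hrel_of_words rels Cfsg.Agent.Lib.Helper28.TCM24W1Link.rels up23 relWords
    Cfsg.Agent.Lib.Helper28.TCM24W1Link.relWords link.hrels Cfsg.Agent.Lib.Helper28.TCM24W1Link.link.hrels up_rel

theorem hψrel : ∀ r ∈ Cfsg.Agent.Lib.Helper28.TCM24W1Link.rels,
    FreeGroup.lift (fun g => (PresentedGroup.of (up23 g) : PCo3)) r = 1 := by
  intro r hr
  have key : FreeGroup.lift (fun g => (PresentedGroup.of (up23 g) : PCo3)) =
      (PresentedGroup.mk rels).comp (FreeGroup.map up23) := by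
    ext g
    simp [PresentedGroup.of]
  rw [key]
  exact PresentedGroup.one_of_mem (hrelmap r hr)

/-- the map from the presented group `M₂₃` -/
noncomputable def ψ : SchurM23.P23 →* PCo3 := PresentedGroup.toGroup hψrel

theorem ψ_of (g : Cfsg.Agent.Lib.Helper28.TCM24W1Def.Gen) :
    ψ (PresentedGroup.of g) = PresentedGroup.of (up23 g) :=
  PresentedGroup.toGroup.of hψrel

theorem range_ψ : ψ.range = H23 := by
  rw [MonoidHom.range_eq_map, ← PresentedGroup.closure_range_of, MonoidHom.map_closure, ← Set.range_comp]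
  show _ = (Subgroup.closure {FreeGroup.of Gen.a, FreeGroup.of Gen.b, FreeGroup.of Gen.t}).map _
  rw [MonoidHom.map_closure]
  congr 1
  ext x
  constructor
  · rintro ⟨g, rfl⟩
    cases g
    · exact ⟨FreeGroup.of Gen.a, by simp, (ψ_of .a).symm⟩
    · exact ⟨FreeGroup.of Gen.b, by simp, (ψ_of .b).symm⟩
    · exact ⟨FreeGroup.of Gen.t, by simp, (ψ_of .t).symm⟩
  · rintro ⟨y, hy, rfl⟩
    simp only [Set.mem_insert_iff, Set.mem_singleton_iff] at hy
    rcases hy with rfl | rfl | rfl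
    · exact ⟨.a, ψ_of .a⟩
    · exact ⟨.b, ψ_of .b⟩
    · exact ⟨.t, ψ_of .t⟩

theorem index_H23 : H23.index = 48600 := main.1

theorem card_H23_le : Nat.card H23 ≤ 10200960 := by
  rw [← range_ψ]
  calc Nat.card ψ.range ≤ Nat.card SchurM23.P23 :=
        Nat.card_le_card_of_surjective ψ.rangeRestrict ψ.rangeRestrict_surjective
    _ = 10200960 := SchurM23.card_eq

theorem finite_H23 : Finite H23 := by
  rw [← range_ψ]
  exact Finite.of_surjective ψ.rangeRestrict ψ.rangeRestrict_surjective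

instance finite_PCo3 : Finite PCo3 := by
  have := finite_H23
  exact finite_of_index H23 (by rw [index_H23]; norm_num)

theorem card_le : Nat.card PCo3 ≤ 495766656000 := by
  have := card_le_of_index H23 index_H23 card_H23_le
  norm_num at this
  exact this

/-! ### The homomorphism onto the group on 552 points -/

/-- the image of `a` as a word in helper4's generators (letters `0..5` for `A, A⁻¹, B, B⁻¹, C, C⁻¹`) -/
def wa : List ℕ := [2, 2, 2, 2, 0, 3, 0, 2, 0, 3, 3, 3, 0, 3, 0, 0, 0, 0]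
/-- the image of `b` -/
def wb : List ℕ := [0, 0, 2, 0, 0, 2, 2, 0, 0, 3, 3, 3, 0, 3, 1, 5, 0, 0]
/-- the image of `t` -/
def wt : List ℕ := [3, 4, 1, 1, 2, 2, 2, 2, 2, 0, 0, 5, 2]
/-- the image of `u` -/
def wu : List ℕ := [2, 5, 3, 5, 5, 5, 3, 1, 3, 5, 2, 1, 4, 2, 2, 5, 5, 5]

/-- the word of a generator -/
def wordOf : Gen → List ℕ
  | .a => wa
  | .b => wb
  | .t => wt
  | .u => wu

/-- the images of the generators -/
noncomputable def gimg (x : Gen) : ↥Co3.P3 := Co3.gw (wordOf x)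

/-- a word in the generators as a word in helper4's generators -/
def expand : List (Gen × Bool) → List ℕ
  | [] => []
  | xb :: L => (cond xb.2 (wordOf xb.1) (Co3.winv (wordOf xb.1))) ++ expand L

theorem lift_eq_gw : ∀ L : List (Gen × Bool), FreeGroup.lift gimg (FreeGroup.mk L) = Co3.gw (expand L)
  | [] => by
    rw [FreeGroup.lift_mk]
    rfl
  | (x, b) :: L => by
    have ih := lift_eq_gw L
    rw [FreeGroup.lift_mk] at ih ⊢
    rw [List.map_cons, List.prod_cons, ih]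
    show _ = Co3.gw ((cond b (wordOf x) (Co3.winv (wordOf x))) ++ expand L)
    rw [Co3.gw_append]
    congr 1
    cases b with
    | true => rfl
    | false => exact (Co3.gw_winv _).symm

theorem gw_eq_one (w : List ℕ) (h : ∀ b < 6, Co3.evW w b = b) : Co3.gw w = 1 := by
  apply Co3.rigid
  intro b hb
  apply Fin.ext
  rw [Co3.gw_smul_val, Co3.fpt_val (by omega)]
  exact h b hb

theorem gw_eq (w w' : List ℕ) (h : ∀ b < 6, Co3.evW (Co3.winv w' ++ w) b = b) : Co3.gw w = Co3.gw w' := by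
  have := gw_eq_one _ h
  rw [Co3.gw_append, Co3.gw_winv] at this
  exact (inv_mul_eq_one.mp this).symm

theorem rel_ok : ∀ L ∈ relWords, ∀ b < 6, Co3.evW (expand L) b = b := by decide +kernel

theorem hrelP3 : ∀ r ∈ rels, FreeGroup.lift gimg r = 1 := by
  intro r hr
  obtain ⟨L, hL, rfl⟩ := (link.hrels r).mp hr
  rw [lift_eq_gw]
  exact gw_eq_one _ (rel_ok L hL)

/-- the homomorphism to the group on 552 points -/
noncomputable def Ψ : PCo3 →* ↥Co3.P3 := PresentedGroup.toGroup hrelP3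

theorem Ψ_of (x : Gen) : Ψ (PresentedGroup.of x) = gimg x := PresentedGroup.toGroup.of hrelP3

theorem Ψ_mk (L : List (Gen × Bool)) : Ψ (PresentedGroup.mk rels (FreeGroup.mk L)) = Co3.gw (expand L) :=
  lift_eq_gw L

/-- helper4's generator `A` as a word in `a, b, t, u` -/
def vA : List (Gen × Bool) := [(.t, true), (.a, true), (.b, false), (.a, true), (.b, true), (.a, true), (.b, true), (.b, true), (.t, true), (.b, false), (.a, true), (.t, true), (.b, false), (.t, true), (.b, true), (.a, true)]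
/-- helper4's generator `B` -/
def vB : List (Gen × Bool) := [(.t, true), (.b, true), (.t, true), (.a, true), (.t, true), (.a, true), (.b, false), (.t, true), (.a, true), (.t, true), (.b, false), (.u, true), (.t, true), (.b, false), (.u, true), (.b, true), (.b, true), (.a, true), (.b, false)]
/-- helper4's generator `C` -/
def vC : List (Gen × Bool) := [(.b, false), (.a, true), (.t, true), (.b, true), (.b, true), (.a, true), (.b, false), (.a, true), (.t, true), (.a, true), (.b, false), (.a, true), (.b, true), (.t, true), (.b, true)]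

theorem gen_ok : (∀ b < 6, Co3.evW (Co3.winv [0] ++ expand vA) b = b) ∧
    (∀ b < 6, Co3.evW (Co3.winv [2] ++ expand vB) b = b) ∧
    (∀ b < 6, Co3.evW (Co3.winv [4] ++ expand vC) b = b) := by decide +kernel

theorem pw_single (k : ℕ) : Co3.pw [k] = perm 552 (Co3.ltr k) := by
  rw [Co3.pw_cons, Co3.pw_nil, mul_one]

theorem Ψ_surj : Function.Surjective Ψ := by
  have hle : Co3.P3 ≤ Ψ.range.map Co3.P3.subtype := by
    show grp 552 [Co3.cA3, Co3.cB3, Co3.cC3] ≤ _
    rw [grp_le_iff]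
    intro c hc
    simp only [List.mem_cons, List.not_mem_nil, or_false] at hc
    rcases hc with rfl | rfl | rfl
    · refine ⟨Co3.gw [0], ⟨PresentedGroup.mk rels (FreeGroup.mk vA), ?_⟩, pw_single 0⟩
      rw [Ψ_mk]
      exact gw_eq _ _ gen_ok.1
    · refine ⟨Co3.gw [2], ⟨PresentedGroup.mk rels (FreeGroup.mk vB), ?_⟩, pw_single 2⟩
      rw [Ψ_mk]
      exact gw_eq _ _ gen_ok.2.1
    · refine ⟨Co3.gw [4], ⟨PresentedGroup.mk rels (FreeGroup.mk vC), ?_⟩, pw_single 4⟩
      rw [Ψ_mk]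
      exact gw_eq _ _ gen_ok.2.2
  intro y
  obtain ⟨r, ⟨g, rfl⟩, hr⟩ := hle y.2
  exact ⟨g, Subtype.ext hr⟩

theorem card_eq : Nat.card PCo3 = 495766656000 := by
  apply le_antisymm card_le
  calc 495766656000 = Nat.card ↥Co3.P3 := Co3.card_P3.symm
    _ ≤ Nat.card PCo3 := Nat.card_le_card_of_surjective Ψ Ψ_surj

/-- the presented group is the group on 552 points -/
noncomputable def eP : PCo3 ≃* ↥Co3.P3 :=
  MulEquiv.ofBijective Ψ (Ψ_surj.bijective_of_nat_card_le (le_of_eq (by rw [card_eq, Co3.card_P3])))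

theorem eP_apply (g : PCo3) : eP g = Ψ g := rfl

/-- the presented group is the Conway group `Co₃` of the definitions -/
noncomputable def eCo3 : PCo3 ≃* ↥Cfsg.Spor.Co3 := eP.trans Co3.co3Iso.symm

theorem card_H23 : Nat.card H23 = 10200960 := by
  have h := H23.index_mul_card
  rw [index_H23, card_eq] at h
  omega

/-- the subgroup is the presented group `M₂₃` -/
noncomputable def e23H : SchurM23.P23 ≃* ↥H23 := by
  have hr : ∀ x, ψ x ∈ H23 := fun x => by rw [← range_ψ]; exact ⟨x, rfl⟩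
  let ψ' : SchurM23.P23 →* ↥H23 := ψ.codRestrict H23 hr
  have hs : Function.Surjective ψ' := by
    rintro ⟨y, hy⟩
    rw [← range_ψ] at hy
    obtain ⟨x, rfl⟩ := hy
    exact ⟨x, rfl⟩
  exact MulEquiv.ofBijective ψ' (hs.bijective_of_nat_card_le (le_of_eq (by
    rw [card_H23, SchurM23.card_eq])))

theorem trivMult_H23 : TrivMult ↥H23 := SchurM23.trivMult.congr e23H

theorem perfect_H23 : ⁅H23, H23⁆ = H23 := by
  have h1 : H23 = (⊤ : Subgroup SchurM23.P23).map ψ := by rw [← MonoidHom.range_eq_map, range_ψ]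
  rw [h1, ← Subgroup.map_commutator, ← commutator_def, SchurM23.perfect]

/-- the left inverse of the exponent matrix -/
def Smat : List (List ℤ) := [[-1396004, -694320, 251428, 0, 2893, 8514, 0, 0, 0, -2893, 66, 0, 0, 0, 0, 0, 0, 0, 0, 0, 0, 0, 0, 0, 0, 0, 0, 0, 0, 0, 0, 0, 0, 0, 0, 0, 0, 0, 0, 0, 0, 0, 0, 0, 0, 0, 0, 0, 0, 0, 0, 0, 0, 0, 0, 0, 0, 0, 0, 0, 0, 0, 0, 0, 0, 0, 0, 0, 0, 0, 0, 0, 0], [126909, 63120, -22857, 0, -263, -774, 0, 0, 0, 263, -6, 0, 0, 0, 0, 0, 0, 0, 0, 0, 0, 0, 0, 0, 0, 0, 0, 0, 0, 0, 0, 0, 0, 0, 0, 0, 0, 0, 0, 0, 0, 0, 0, 0, 0, 0, 0, 0, 0, 0, 0, 0, 0, 0, 0, 0, 0, 0, 0, 0, 0, 0, 0, 0, 0, 0, 0, 0, 0, 0, 0, 0, 0], [21232, 10560, -3824, 0, -44, -129, 0, 0, 0, 44, -1, 0, 0, 0, 0, 0, 0, 0, 0, 0, 0, 0, 0, 0, 0, 0, 0, 0, 0, 0, 0, 0, 0, 0, 0, 0, 0, 0, 0, 0, 0, 0, 0, 0, 0, 0, 0, 0, 0, 0, 0, 0, 0, 0, 0, 0, 0, 0, 0, 0, 0, 0, 0, 0, 0, 0, 0, 0, 0, 0, 0, 0, 0], [-90315615, -44919600, 16266339, 0, 187165, 550830, 0, 0, 0, -187165, 4270,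 0, 0, 0, 0, 0, 0, 0, 0, 0, 0, 0, 0, 0, 0, 0, 0, 0, 0, 0, 0, 0, 0, 0, 0, 0, 0, 0, 0, 0, 0, 0, 0, 0, 0, 0, 0, 0, 0, 0, 0, 0, 0, 0, 0, 0, 0, 0, 0, 0, 0, 0, 0, 0, 0, 0, 0, 0, 0, 0, 0, -5, 1]]

theorem perfect : commutator PCo3 = ⊤ := by
  apply commutator_eq_top_of_matrix rels relWords lw gi link.hrels hlw hgi 4 (by intro x; cases x <;> decide)
    (fun y j => (Smat.getD y []).getD j 0)
  decide +kernel

end Cfsg.Agent.Lib.Helper28.Co3Link
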