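import Cfsg.Agent.Lib.Helper28.SchurFoxB

set_option autoImplicit false

/-!
# Retractions over a perfect subgroup whose multiplier has trivial `p`-part

`TrivMultAt p G`: every finite stem extension of `G` whose kernel has exponent `p` has trivial kernel.
This follows from `HasCyclicSchurMultiplier G n` with `n` prime to `p`, and it is enough to retract the
preimage of a perfect subgroup onto a kernel of exponent `p`.
-/

namespace Cfsg.Agent.Lib.Helper28.SchurFox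

universe u

open Subgroup
open scoped commutatorElement

/-- every finite stem extension of `G` whose kernel has exponent `p` has trivial kernel -/
def TrivMultAt (p : ℕ) (G : Type u) [Group G] : Prop :=
  ∀ (Γ : Type u) [Group Γ] [Finite Γ] (σ : Γ →* G), Cfsg.IsStemExtension σ →
    (∀ a ∈ σ.ker, a ^ p = 1) → σ.ker = ⊥

theorem TrivMultAt.congr {p : ℕ} {G G' : Type u} [Group G] [Group G'] (e : G ≃* G')
    (h : TrivMultAt p G) : TrivMultAt p G' := by
  intro Γ _ _ σ hσ hexp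
  have hker : (e.symm.toMonoidHom.comp σ).ker = σ.ker := by
    ext x
    simp [MonoidHom.mem_ker]
  have := h Γ (e.symm.toMonoidHom.comp σ) ⟨e.symm.surjective.comp hσ.1, by rw [hker]; exact hσ.2.1,
    by rw [hker]; exact hσ.2.2⟩ (by rw [hker]; exact hexp)
  rwa [hker] at this

/-- a multiplier cyclic of order prime to `p` has trivial `p`-part -/
theorem trivMultAt_of_hasCyclic {G : Type u} [Group G] {n p : ℕ}
    (h : Cfsg.HasCyclicSchurMultiplier G n) (hcop : Nat.Coprime n p) : TrivMultAt p G := by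
  intro Γ _ _ σ hσ hexp
  obtain ⟨π, hπ⟩ := h.2 Γ σ hσ
  have hz : ∀ z : Multiplicative (ZMod n), z ^ n = 1 := by
    intro z
    apply Multiplicative.toAdd.injective
    rw [toAdd_pow, toAdd_one, nsmul_eq_mul, ZMod.natCast_self, zero_mul]
  rw [eq_bot_iff]
  intro a ha
  obtain ⟨z, hz'⟩ := hπ ⟨a, ha⟩
  have h1 : (⟨a, ha⟩ : σ.ker) ^ n = 1 := by rw [← hz', ← map_pow, hz z, map_one]
  have h2 : a ^ n = 1 := by
    have := congrArg (fun x : σ.ker => (x : Γ)) h1
    simpa using this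
  have h3 : a ^ p = 1 := hexp a ha
  exact (pow_eq_one_iff_of_coprime hcop).mp ⟨h2, h3⟩

/-- over a perfect subgroup `H` whose multiplier has trivial `p`-part the preimage of `H` retracts onto a
kernel of exponent `p` -/
theorem retraction_of_perfect_at {Γ G : Type u} [Group Γ] [Group G] [Finite Γ] (σ : Γ →* G)
    (hs : Function.Surjective σ) (hc : σ.ker ≤ center Γ) (p : ℕ) (hexp : ∀ a ∈ σ.ker, a ^ p = 1)
    (H : Subgroup G) (hperf : ⁅H, H⁆ = H)
    (hH : TrivMultAt p ↥H) : Nonempty (Retraction σ (H.comap σ)) := by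
  set V : Subgroup Γ := H.comap σ with hV
  set K : Subgroup Γ := ⁅V, V⁆ with hK
  have hKV : K ≤ V := by
    rw [hK, Subgroup.commutator_le]
    intro x hx y hy
    exact V.mul_mem (V.mul_mem (V.mul_mem hx hy) (V.inv_mem hx)) (V.inv_mem hy)
  have hVmap : V.map σ = H := Subgroup.map_comap_eq_self_of_surjective hs H
  have hKmap : K.map σ = H := by
    rw [hK, Subgroup.map_commutator, hVmap, hperf]
  -- `V ≤ K ⊔ ker σ`
  have hVK : V ≤ K ⊔ σ.ker := by
    intro v hv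
    have : σ v ∈ K.map σ := by rw [hKmap]; exact hv
    obtain ⟨k, hk, hkv⟩ := this
    have h1 : k⁻¹ * v ∈ σ.ker := by
      rw [MonoidHom.mem_ker, map_mul, map_inv, hkv, inv_mul_cancel]
    have : v = k * (k⁻¹ * v) := by group
    rw [this]
    exact Subgroup.mul_mem_sup hk h1
  have hKperf : K ≤ ⁅K, K⁆ := by
    have h1 : ⁅V, V⁆ ≤ ⁅K ⊔ σ.ker, K ⊔ σ.ker⁆ := Subgroup.commutator_mono hVK hVK
    exact h1.trans (Cfsg.Agent.Lib.Helper3.SchurM.comm_sup_central_le K σ.ker hc)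
  -- the restriction of `σ` to `K`
  let σK : ↥K →* ↥H := (σ.comp K.subtype).codRestrict H (fun k => by
    have : σ (k : Γ) ∈ K.map σ := ⟨k, k.2, rfl⟩
    rw [hKmap] at this
    exact this)
  have hσK : ∀ k : ↥K, ((σK k : ↥H) : G) = σ (k : Γ) := fun k => rfl
  have hkerK : ∀ k : ↥K, k ∈ σK.ker → (k : Γ) ∈ σ.ker := by
    intro k hk
    rw [MonoidHom.mem_ker] at hk ⊢
    have := congrArg (fun x : ↥H => (x : G)) hk
    simpa [hσK] using this
  have hstem : Cfsg.IsStemExtension σK := by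
    refine ⟨?_, ?_, ?_⟩
    · intro h
      have : (h : G) ∈ K.map σ := by rw [hKmap]; exact h.2
      obtain ⟨k, hk, hkh⟩ := this
      exact ⟨⟨k, hk⟩, Subtype.ext hkh⟩
    · intro k hk
      have h1 : (k : Γ) ∈ σ.ker := hkerK k hk
      rw [mem_center_iff]
      intro g
      exact Subtype.ext (mem_center_iff.mp (hc h1) (g : Γ))
    · intro k _
      have h1 : (k : Γ) ∈ ⁅K, K⁆ := hKperf k.2
      rw [← K.map_subtype_commutator] at h1
      obtain ⟨k', hk', hkk⟩ := h1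
      have : k' = k := Subtype.ext hkk
      rwa [← this]
  have hbot : σK.ker = ⊥ := hH ↥K σK hstem (fun k hk => by
    apply Subtype.ext
    rw [Subgroup.coe_pow]
    exact hexp _ (hkerK k hk))
  have hinj : Function.Injective σK := (MonoidHom.ker_eq_bot_iff σK).mp hbot
  let e : ↥K ≃* ↥H := MulEquiv.ofBijective σK ⟨hinj, hstem.1⟩
  have he : ∀ h : ↥H, σ ((e.symm h : ↥K) : Γ) = (h : G) := by
    intro h
    have : σK (e.symm h) = h := e.apply_symm_apply h
    rw [← hσK, this]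
  -- the retraction
  have hmem : ∀ v : ↥V, (v : Γ) * ((e.symm ⟨σ v, v.2⟩ : ↥K) : Γ)⁻¹ ∈ σ.ker := by
    intro v
    rw [MonoidHom.mem_ker, map_mul, map_inv, he, mul_inv_cancel]
  let π : ↥V →* ↥(center Γ) := MonoidHom.mk'
    (fun v => ⟨(v : Γ) * ((e.symm ⟨σ v, v.2⟩ : ↥K) : Γ)⁻¹, hc (hmem v)⟩) (by
      intro v v'
      apply Subtype.ext
      have h1 : (⟨σ ((v * v' : ↥V) : Γ), (v * v').2⟩ : ↥H) = ⟨σ v, v.2⟩ * ⟨σ v', v'.2⟩ :=
        Subtype.ext (by simp)
      have hcen := mem_center_iff.mp (hc (hmem v'))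
      show ((v * v' : ↥V) : Γ) * ((e.symm ⟨σ ((v * v' : ↥V) : Γ), (v * v').2⟩ : ↥K) : Γ)⁻¹ =
        ((v : Γ) * ((e.symm ⟨σ v, v.2⟩ : ↥K) : Γ)⁻¹) * ((v' : Γ) * ((e.symm ⟨σ v', v'.2⟩ : ↥K) : Γ)⁻¹)
      rw [h1, map_mul, Subgroup.coe_mul, Subgroup.coe_mul, mul_inv_rev]
      set k := ((e.symm ⟨σ v, v.2⟩ : ↥K) : Γ)
      set k' := ((e.symm ⟨σ v', v'.2⟩ : ↥K) : Γ)
      calc (v : Γ) * (v' : Γ) * (k'⁻¹ * k⁻¹) = (v : Γ) * ((v' : Γ) * k'⁻¹) * k⁻¹ := by group
        _ = (v : Γ) * (k⁻¹ * ((v' : Γ) * k'⁻¹)) := by rw [mul_assoc, hcen k⁻¹]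
        _ = (v : Γ) * k⁻¹ * ((v' : Γ) * k'⁻¹) := by group)
  refine ⟨⟨π, fun v => hmem v, ?_⟩⟩
  intro a ha haV
  show a * ((e.symm ⟨σ a, haV⟩ : ↥K) : Γ)⁻¹ = a
  have h1 : (⟨σ a, haV⟩ : ↥H) = 1 := Subtype.ext (by simpa using ha)
  rw [h1, map_one]
  simp

end Cfsg.Agent.Lib.Helper28.SchurFox
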