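import Cfsg.Agent.Lib.Helper28.TC2Glue

set_option autoImplicit false

/-!
# The permutation representation of a table over the stabiliser of the point `0`

No coset enumeration is needed when the subgroup is taken to be the stabiliser of a point: the relators are
checked on the table, and the tree of the table gives the transitivity.
-/

namespace Cfsg.Agent.Lib.Helper28.TC2Stab

open Cfsg.Agent.Lib.Helper28.TC2Upper Cfsg.Agent.Lib.Helper28.TC2Lower Cfsg.Agent.Lib.Helper28.TC2Glue

section
variable {α : Type} (rels : Set (FreeGroup α)) (relWords : List (List (α × Bool)))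
  (lw : α × Bool → ℕ) {T : Table}

theorem sigma_cond (hT : T.OK) (lwk : ∀ xb, lw xb < T.k)
    (lwinv : ∀ x, lw (x, false) = T.invl (lw (x, true))) (x : α) (b : Bool) :
    Table.sigma hT (lw (x, b)) =
      cond b (Table.sigma hT (lw (x, true))) (Table.sigma hT (lw (x, true)))⁻¹ := by
  cases b with
  | true => rfl
  | false =>
    show Table.sigma hT (lw (x, false)) = (Table.sigma hT (lw (x, true)))⁻¹
    rw [lwinv, Table.sigma_inv hT (lwk _)]

/-- the relators hold for the permutations of the table -/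
theorem lift_rel (hrels : ∀ r, r ∈ rels ↔ ∃ L ∈ relWords, r = FreeGroup.mk L) (hT : T.OK)
    (lwk : ∀ xb, lw xb < T.k) (lwinv : ∀ x, lw (x, false) = T.invl (lw (x, true)))
    (hrelT : ∀ L ∈ relWords, ∀ p, p < T.n → T.walkT (pathOf lw L) p = p) :
    ∀ r ∈ rels, FreeGroup.lift (fun x => Table.sigma hT (lw (x, true))) r = 1 := by
  intro r hr
  obtain ⟨L, hLm, rfl⟩ := (hrels r).mp hr
  rw [lift_mk_eq_pathProd _ lw _ (sigma_cond lw hT lwk lwinv) L]
  refine Table.pathProd_sigma_eq_one hT _ ?_ (hrelT L hLm)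
  intro l hl
  unfold pathOf at hl
  rw [List.mem_reverse, List.mem_map] at hl
  obtain ⟨xb, _, rfl⟩ := hl
  exact lwk _

/-- the stabiliser of the point `0` -/
def stab0 {G : Type*} [Group G] (hn : 0 < T.n) (φ : G →* Equiv.Perm (Fin T.n)) : Subgroup G :=
  (MulAction.stabilizer (Equiv.Perm (Fin T.n)) (⟨0, hn⟩ : Fin T.n)).comap φ

theorem mem_stab0 {G : Type*} [Group G] (hn : 0 < T.n) (φ : G →* Equiv.Perm (Fin T.n)) (g : G) :
    g ∈ stab0 hn φ ↔ φ g ⟨0, hn⟩ = ⟨0, hn⟩ := by
  unfold stab0
  rw [Subgroup.mem_comap, MulAction.mem_stabilizer_iff]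
  rfl

/-- the cosets of the stabiliser of the point `0` are the points of the table -/
theorem stab_bij (hT : T.OK) (hn : 0 < T.n) (lwk : ∀ xb, lw xb < T.k)
    (lwinv : ∀ x, lw (x, false) = T.invl (lw (x, true)))
    (hdec : ∀ l, l < T.k → ∃ xb, lw xb = l)
    (φ : PresentedGroup rels →* Equiv.Perm (Fin T.n))
    (hφ : ∀ x, φ (PresentedGroup.of x) = Table.sigma hT (lw (x, true))) (htree : T.treeOK = true) :
    ∃ f : PresentedGroup rels ⧸ stab0 hn φ → Fin T.n,
      Function.Bijective f ∧ (∀ g q, f (g • q) = φ g (f q)) ∧ f (QuotientGroup.mk 1) = ⟨0, hn⟩ := by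
  classical
  have hH : ∀ h ∈ stab0 hn φ, φ h ⟨0, hn⟩ = ⟨0, hn⟩ := fun h hh => (mem_stab0 hn φ h).mp hh
  let γ : ℕ → PresentedGroup rels := fun l =>
    if h : ∃ xb : α × Bool, lw xb = l then
      cond h.choose.2 (PresentedGroup.of h.choose.1) (PresentedGroup.of h.choose.1)⁻¹ else 1
  have hγ : ∀ l, l < T.k → φ (γ l) = Table.sigma hT l := by
    intro l hl
    have h := hdec l hl
    show φ (if h : ∃ xb : α × Bool, lw xb = l then
      cond h.choose.2 (PresentedGroup.of h.choose.1) (PresentedGroup.of h.choose.1)⁻¹ else 1) = _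
    rw [dif_pos h]
    have hc := h.choose_spec
    rcases hxb : h.choose with ⟨x, b⟩
    rw [hxb] at hc
    rw [← hc, sigma_cond lw hT lwk lwinv]
    cases b with
    | true => exact hφ x
    | false =>
      show φ (PresentedGroup.of x)⁻¹ = _
      rw [map_inv, hφ]
      rfl
  refine ⟨orbitMap (stab0 hn φ) hn φ hH, ⟨?_, orbitMap_surjective _ hT hn φ γ hH hγ htree⟩,
    orbitMap_smul _ hn φ hH, ?_⟩
  · intro q q'
    induction q using QuotientGroup.induction_on with
    | H a =>
      induction q' using QuotientGroup.induction_on with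
      | H b =>
        intro hab
        rw [orbitMap_mk, orbitMap_mk] at hab
        apply QuotientGroup.eq.mpr
        rw [mem_stab0, map_mul, map_inv, Equiv.Perm.mul_apply, ← hab]
        exact (φ a).symm_apply_apply _
  · rw [orbitMap_mk, map_one]
    rfl

end

end Cfsg.Agent.Lib.Helper28.TC2Stab
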