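import Cfsg.Agent.Lib.Helper28.TCCo3MChk
set_option autoImplicit false
set_option maxRecDepth 100000

namespace Cfsg.Agent.Lib.Helper28.TCCo3MMain
open Cfsg.Agent.Lib.Helper28.TC2Upper Cfsg.Agent.Lib.Helper28.TC2Lower Cfsg.Agent.Lib.Helper28.TC2Range Cfsg.Agent.Lib.Helper28.TCCo3MTable Cfsg.Agent.Lib.Helper28.TCCo3MChk

theorem hT : table.OK :=
  Table.ok_of_rows table hinvOK (fun p hp => (Table.permRange_iff table 0 552).mp prm0 p (Nat.zero_le _) (by have : p < 552 := hp; omega))

theorem htree : table.treeOK = true :=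
  Table.treeOK_of_rows table (fun p hp => (Table.treeRange_iff table 0 551).mp tre0 p (Nat.zero_le _) (by have : p < 551 := hp; omega))

theorem hn : 0 < table.n := by decide

theorem hchkT : ∀ P ∈ chkPaths, ∀ p, p < table.n → table.walkT P p = p := by
  intro P hm p hp
  have hp' : p < 552 := hp
  rcases Nat.lt_or_ge p 138 with h0 | h0
  · exact (Table.relOK_iff chkPaths 0 138).mp rel0 p (by omega) (by omega) _ hm
  rcases Nat.lt_or_ge p 276 with h1 | h1
  · exact (Table.relOK_iff chkPaths 138 138).mp rel1 p (by omega) (by omega) _ hm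
  rcases Nat.lt_or_ge p 414 with h2 | h2
  · exact (Table.relOK_iff chkPaths 276 138).mp rel2 p (by omega) (by omega) _ hm
  exact (Table.relOK_iff chkPaths 414 138).mp rel3 p (by omega) (by omega) _ hm

theorem hrelP : ∀ P ∈ relPaths, ∀ p, p < table.n → table.walkT P p = p :=
  fun P hP => Table.fix_of_covered hT chkPaths hchkT _ (hcov _ hP).1 (hcov _ hP).2

end Cfsg.Agent.Lib.Helper28.TCCo3MMain
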