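import Cfsg.Agent.Lib.Helper28.Co3Link
import Cfsg.Agent.Lib.Helper28.TCCo3MMain
import Cfsg.Agent.Lib.Helper28.TC2Stab
import Cfsg.Agent.Lib.Helper28.SchurFoxAt
import Cfsg.Agent.Lib.Helper4.McL.Iso
import Cfsg.Agent.S2047

set_option autoImplicit false
set_option maxRecDepth 100000

/-!
# The McLaughlin group inside the presented group `Co₃`

The presented group `PCo3` acts on 552 points (a table); the stabiliser `H552` of the point `0` corresponds,
under the isomorphism with the group of the definitions, to the stabiliser of the vector `(4, 4, 0^22)`, which is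
the McLaughlin group of the definitions.  Hence `H552` is perfect and the `p`-part of its multiplier is trivial
for `p ≠ 3` (helper16's `S2047`).
-/

namespace Cfsg.Agent.Lib.Helper28.Co3McL

open Cfsg.Agent.Lib.Helper28.SchurFox Cfsg.Agent.Lib.Helper28.TC2Lower Cfsg.Agent.Lib.Helper28.TC2Glue
open Cfsg.Agent.Lib.Helper28.TC2Stab
open Cfsg.Agent.Lib.Helper28.TCCo3Link (rels relWords lw link)
open Cfsg.Agent.Lib.Helper28.TCCo3Def (Gen)
open Cfsg.Agent.Lib.Helper28.Co3Link
open Cfsg.Agent.Lib.Helper4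
open Cfsg.Agent.Lib.Helper10.SX

/-- the table of the action on 552 points -/
abbrev T552 : Table := TCCo3MTable.table

theorem lwk552 : ∀ xb, lw xb < T552.k := by
  rintro ⟨x, b⟩; cases x <;> cases b <;> decide

theorem lwinv552 : ∀ x, lw (x, false) = T552.invl (lw (x, true)) := by
  intro x; cases x <;> decide +kernel

theorem hdec552 : ∀ l, l < T552.k → ∃ xb, lw xb = l := by
  intro l hl
  have : l < 8 := hl
  interval_cases l
  exacts [⟨(.a, true), rfl⟩, ⟨(.a, false), rfl⟩, ⟨(.b, true), rfl⟩, ⟨(.b, false), rfl⟩,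
    ⟨(.t, true), rfl⟩, ⟨(.t, false), rfl⟩, ⟨(.u, true), rfl⟩, ⟨(.u, false), rfl⟩]

theorem hrelmem552 : ∀ L ∈ relWords, pathOf lw L ∈ TCCo3MTable.relPaths := by decide +kernel

theorem hrelT552 : ∀ L ∈ relWords, ∀ p, p < T552.n → T552.walkT (pathOf lw L) p = p :=
  fun L hL => TCCo3MMain.hrelP _ (hrelmem552 L hL)

/-- the action on the 552 points -/
noncomputable def φ552 : PCo3 →* Equiv.Perm (Fin T552.n) :=
  PresentedGroup.toGroup (lift_rel rels relWords lw link.hrels TCCo3MMain.hT lwk552 lwinv552 hrelT552)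

theorem φ552_of (x : Gen) : φ552 (PresentedGroup.of x) = Table.sigma TCCo3MMain.hT (lw (x, true)) :=
  PresentedGroup.toGroup.of _

/-- the stabiliser of the point `0` -/
noncomputable abbrev H552 : Subgroup PCo3 := stab0 TCCo3MMain.hn φ552

theorem bij552 : ∃ f : PCo3 ⧸ H552 → Fin T552.n,
    Function.Bijective f ∧ (∀ g q, f (g • q) = φ552 g (f q)) ∧ f (QuotientGroup.mk 1) = ⟨0, TCCo3MMain.hn⟩ :=
  stab_bij rels lw TCCo3MMain.hT TCCo3MMain.hn lwk552 lwinv552 hdec552 φ552 φ552_of TCCo3MMain.htree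

theorem index_H552 : H552.index = 552 := by
  obtain ⟨f, hf, -, -⟩ := bij552
  have := Nat.card_congr (Equiv.ofBijective f hf)
  rw [Nat.card_fin] at this
  exact this

theorem card_H552 : Nat.card H552 = 898128000 := by
  have h := H552.index_mul_card
  rw [index_H552, card_eq] at h
  omega

/-! ### Compatibility with the action of helper4's group -/

/-- the point of helper4's model of a row of the table -/
def rhoN (i : ℕ) : ℕ := TCCo3MTable.rho.getD i 0

theorem rho_lt : ∀ i < 552, rhoN i < 552 := by decide +kernel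

theorem compat_gen : ∀ x : Gen, ∀ i < 552,
    rhoN (T552.tau (lw (x, true)) i) = Co3.evW (wordOf x) (rhoN i) := by
  intro x; cases x <;> decide +kernel

/-- the point of a row -/
noncomputable def rhoF (i : Fin T552.n) : Fin 552 := Co3.fpt (rhoN i.val)

theorem compat_of (x : Gen) (i : Fin T552.n) :
    rhoF (φ552 (PresentedGroup.of x) i) = Ψ (PresentedGroup.of x) • rhoF i := by
  apply Fin.ext
  rw [Ψ_of]
  show (Co3.fpt (rhoN (φ552 (PresentedGroup.of x) i).val)).val = (Co3.gw (wordOf x) • Co3.fpt (rhoN i.val)).val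
  rw [Co3.gw_smul_val, Co3.fpt_val (rho_lt _ i.2), φ552_of, Table.sigma_apply _ (lwk552 _),
    Co3.fpt_val (rho_lt _ ((TCCo3MMain.hT.perm i.val i.2 _ (lwk552 _)).1))]
  exact compat_gen x i.val i.2

theorem compat (g : PCo3) : ∀ i : Fin T552.n, rhoF (φ552 g i) = Ψ g • rhoF i := by
  let K : Subgroup PCo3 :=
    { carrier := {g | ∀ i : Fin T552.n, rhoF (φ552 g i) = Ψ g • rhoF i}
      one_mem' := by
        intro i
        simp
      mul_mem' := by
        intro a b ha hb i
        rw [map_mul, map_mul, Equiv.Perm.mul_apply, ha, hb, mul_smul]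
      inv_mem' := by
        intro a ha i
        have h := ha (φ552 a⁻¹ i)
        have e : (φ552 a) ((φ552 a)⁻¹ i) = i := by
          rw [← Equiv.Perm.mul_apply, mul_inv_cancel, Equiv.Perm.one_apply]
        rw [map_inv, e] at h
        rw [map_inv, map_inv, h, inv_smul_smul] }
  have hK : K = ⊤ := by
    rw [eq_top_iff, ← PresentedGroup.closure_range_of, Subgroup.closure_le]
    rintro _ ⟨x, rfl⟩
    exact compat_of x
  have : g ∈ K := by rw [hK]; exact Subgroup.mem_top g
  exact this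

theorem rho0 : rhoN 0 = 0 := by decide +kernel

theorem stab_pt (g : PCo3) (hg : g ∈ H552) : Ψ g • Co3.fpt 0 = Co3.fpt 0 := by
  have h := compat g ⟨0, TCCo3MMain.hn⟩
  rw [(mem_stab0 _ _ g).mp hg] at h
  have e0 : rhoF ⟨0, TCCo3MMain.hn⟩ = Co3.fpt 0 := by
    show Co3.fpt (rhoN 0) = _
    rw [rho0]
  rw [e0] at h
  exact h.symm

/-! ### The stabiliser is the McLaughlin group -/

theorem P552_zero : Co3.P552 0 = McL.lU := by decide +kernel

theorem eXS3_zero : ((Co3.eXS3 (Co3.fpt 0) : ↥Co3.XS3) : ↥Cfsg.leechLattice) = Cfsg.Spor.leechU := by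
  apply Subtype.ext
  rw [Co3.eXS3_val]
  show McL.vecOf (Co3.P552 (0 % 552)) = Cfsg.Spor.vecU
  rw [McL.vecU_eq, Nat.zero_mod, P552_zero]

theorem mem_McL (g : PCo3) (hg : g ∈ H552) :
    ((eCo3 g : ↥Cfsg.Spor.Co3) : Equiv.Perm ↥Cfsg.leechLattice) ∈ Cfsg.Spor.McL := by
  set g' : ↥Cfsg.Spor.Co3 := eCo3 g with hg'
  have h1 : Co3.co3Iso g' = Ψ g := by
    rw [hg']
    show Co3.co3Iso (Co3.co3Iso.symm (eP g)) = _
    rw [MulEquiv.apply_symm_apply]
    rfl
  have h2 : Co3.psi3 g' (Co3.fpt 0) = Co3.fpt 0 := by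
    rw [← Co3.co3Iso_apply, h1]
    exact stab_pt g hg
  have h3 := Co3.psi3_apply g' (Co3.fpt 0)
  rw [h2] at h3
  have h4 : (g' : Equiv.Perm ↥Cfsg.leechLattice) Cfsg.Spor.leechU = Cfsg.Spor.leechU := by
    have := congrArg (fun x : ↥Co3.XS3 => (x : ↥Cfsg.leechLattice)) h3
    simp only [Co3.XS3_smul_val] at this
    rw [eXS3_zero] at this
    exact this.symm
  show (g' : Equiv.Perm ↥Cfsg.leechLattice) ∈
    Cfsg.Spor.Co3 ⊓ MulAction.stabilizer (Equiv.Perm ↥Cfsg.leechLattice) Cfsg.Spor.leechU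
  rw [Subgroup.mem_inf, MulAction.mem_stabilizer_iff]
  exact ⟨g'.2, h4⟩

/-- the map from the stabiliser to the McLaughlin group -/
noncomputable def θ : ↥H552 →* ↥Cfsg.Spor.McL :=
  ((Cfsg.Spor.Co3.subtype.comp eCo3.toMonoidHom).comp H552.subtype).codRestrict Cfsg.Spor.McL
    (fun g => mem_McL g.1 g.2)

theorem θ_injective : Function.Injective θ := by
  intro a b hab
  have h1 := congrArg (fun x : ↥Cfsg.Spor.McL => (x : Equiv.Perm ↥Cfsg.leechLattice)) hab
  have h2 : ((eCo3 a.1 : ↥Cfsg.Spor.Co3) : Equiv.Perm ↥Cfsg.leechLattice) = (eCo3 b.1 : ↥Cfsg.Spor.Co3) := h1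
  exact Subtype.ext (eCo3.injective (Subtype.ext h2))

/-- the stabiliser is the McLaughlin group of the definitions -/
noncomputable def θe : ↥H552 ≃* ↥Cfsg.Spor.McL :=
  MulEquiv.ofBijective θ (θ_injective.bijective_of_nat_card_le (le_of_eq (by
    rw [McL.card_McL, card_H552])))

/-! ### The McLaughlin group is perfect -/

theorem commutator_eq_top_of_two {G : Type*} [Group G] (A B : G) (hgen : Subgroup.closure {A, B} = ⊤)
    (h1 : A ^ 11 = 1) (h2 : B ^ 10 = 1) (h3 : (A * A * B) ^ 11 = 1) (h4 : (A * B) ^ 12 = 1) :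
    commutator G = ⊤ := by
  let ab : G →* Abelianization G := Abelianization.of
  have a1 : ab A ^ 11 = 1 := by rw [← map_pow, h1, map_one]
  have b1 : ab B ^ 10 = 1 := by rw [← map_pow, h2, map_one]
  have c1 : (ab A * ab A * ab B) ^ 11 = 1 := by rw [← map_mul, ← map_mul, ← map_pow, h3, map_one]
  have d1 : (ab A * ab B) ^ 12 = 1 := by rw [← map_mul, ← map_pow, h4, map_one]
  have hb : ab B = 1 := by
    rw [mul_pow, mul_pow, a1, one_mul, one_mul] at c1
    have : ab B ^ 11 = ab B ^ 10 * ab B := pow_succ _ _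
    rw [c1, b1, one_mul] at this
    exact this.symm
  have ha : ab A = 1 := by
    rw [hb, mul_one] at d1
    have : ab A ^ 12 = ab A ^ 11 * ab A := pow_succ _ _
    rw [d1, a1, one_mul] at this
    exact this.symm
  have hker : (⊤ : Subgroup G) ≤ ab.ker := by
    rw [← hgen, Subgroup.closure_le]
    intro x hx
    simp only [Set.mem_insert_iff, Set.mem_singleton_iff] at hx
    rcases hx with rfl | rfl
    · exact ha
    · exact hb
  rw [eq_top_iff, ← Abelianization.ker_of]
  exact hker

theorem commutator_eq_top_of_equiv {G G' : Type*} [Group G] [Group G'] (e : G ≃* G')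
    (h : commutator G = ⊤) : commutator G' = ⊤ := by
  rw [commutator_def] at h ⊢
  have := congrArg (Subgroup.map e.toMonoidHom) h
  rw [Subgroup.map_commutator, Subgroup.map_top_of_surjective _ e.surjective] at this
  exact this

theorem mcl_gw_pow (w : List ℕ) : ∀ k : ℕ, McL.gw w ^ k = McL.gw (List.replicate k w).flatten
  | 0 => rfl
  | k + 1 => by
    rw [pow_succ', mcl_gw_pow w k, List.replicate_succ, List.flatten_cons, McL.gw_append]

theorem mcl_gw_eq_one (w : List ℕ) (h : ∀ b < 5, McL.evW w b = b) : McL.gw w = 1 := by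
  apply McL.rigid
  intro b hb
  apply Fin.ext
  rw [McL.gw_smul_val, McL.fpt_val (by omega)]
  exact h b hb

theorem mcl_rel : (∀ b < 5, McL.evW (List.replicate 11 [0]).flatten b = b) ∧
    (∀ b < 5, McL.evW (List.replicate 10 [2]).flatten b = b) ∧
    (∀ b < 5, McL.evW (List.replicate 11 [0, 0, 2]).flatten b = b) ∧
    (∀ b < 5, McL.evW (List.replicate 12 [0, 2]).flatten b = b) := by decide +kernel

theorem mcl_pw_single (k : ℕ) : McL.pw [k] = perm 275 (McL.ltr k) := by
  rw [McL.pw_cons, McL.pw_nil, mul_one]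

theorem perfect_P275 : commutator ↥McL.P = ⊤ := by
  apply commutator_eq_top_of_two (McL.gw [0]) (McL.gw [2])
  · apply Subgroup.map_injective McL.P.subtype_injective
    rw [MonoidHom.map_closure, ← MonoidHom.range_eq_map, Subgroup.range_subtype, Set.image_pair]
    show Subgroup.closure {McL.pw [0], McL.pw [2]} = grp 275 [McL.cA, McL.cB]
    rw [mcl_pw_single, mcl_pw_single]
    unfold grp
    congr 1
    ext x
    simp only [Set.mem_insert_iff, Set.mem_singleton_iff, Set.mem_ofPred_eq, List.mem_cons, List.not_mem_nil,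
      or_false, exists_eq_or_imp, exists_eq_left]
    rfl
  · rw [mcl_gw_pow]; exact mcl_gw_eq_one _ mcl_rel.1
  · rw [mcl_gw_pow]; exact mcl_gw_eq_one _ mcl_rel.2.1
  · rw [← McL.gw_append, ← McL.gw_append, mcl_gw_pow]; exact mcl_gw_eq_one _ mcl_rel.2.2.1
  · rw [← McL.gw_append, mcl_gw_pow]; exact mcl_gw_eq_one _ mcl_rel.2.2.2

theorem perfect_McL : commutator ↥Cfsg.Spor.McL = ⊤ :=
  commutator_eq_top_of_equiv McL.mclIso.symm perfect_P275

theorem perfect_H552 : ⁅H552, H552⁆ = H552 := by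
  have h := commutator_eq_top_of_equiv θe.symm perfect_McL
  rw [← H552.map_subtype_commutator, h, ← MonoidHom.range_eq_map, Subgroup.range_subtype]

/-- the `p`-part of the multiplier of the stabiliser is trivial for `p ≠ 3` -/
theorem trivMultAt_H552 (p : ℕ) (hp : Nat.Coprime 3 p) : TrivMultAt p ↥H552 :=
  (trivMultAt_of_hasCyclic Cfsg.Agent.S2047.result hp).congr θe.symm

end Cfsg.Agent.Lib.Helper28.Co3McL
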