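import Cfsg.Agent.Lib.Helper28.FinMask
set_option autoImplicit false

/-!
Exhaustive enumeration of the `k`-subsets of `Fin n` as bitmasks, for kernel-checked brute force.
-/

namespace Cfsg.Agent.Lib.Helper28.Comb
open Cfsg.Agent.Lib.Helper28.GolayCode Cfsg.Agent.Lib.Helper28.FinMask

/-- `allComb n k acc f`: the test `f` holds at `acc + (mask of s)` for all `k`-subsets `s` of
`{0, …, n-1}` -/
def allComb : ℕ → ℕ → ℕ → (ℕ → Bool) → Bool
  | _, 0, acc, f => f acc
  | 0, _ + 1, _, _ => true
  | n + 1, k + 1, acc, f => allComb n k (acc + 2 ^ n) f && allComb n (k + 1) acc f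

theorem allComb_spec (f : ℕ → Bool) : ∀ (n k acc : ℕ), allComb n k acc f = true →
    ∀ s : Finset ℕ, (∀ i ∈ s, i < n) → s.card = k → f (acc + ∑ i ∈ s, 2 ^ i) = true := by
  intro n
  induction n with
  | zero =>
    intro k acc h s hs hk
    have hs0 : s = ∅ := by
      rw [Finset.eq_empty_iff_forall_notMem]
      intro i hi
      exact absurd (hs i hi) (Nat.not_lt_zero i)
    subst hs0
    rw [Finset.card_empty] at hk
    subst hk
    simpa [allComb] using h
  | succ n ih =>
    intro k acc h s hs hk
    cases k with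
    | zero =>
      have hs0 : s = ∅ := Finset.card_eq_zero.mp hk
      subst hs0
      simpa [allComb] using h
    | succ k =>
      rw [allComb, Bool.and_eq_true] at h
      by_cases hn : n ∈ s
      · have h1 := ih k (acc + 2 ^ n) h.1 (s.erase n) (by
          intro i hi
          rw [Finset.mem_erase] at hi
          have := hs i hi.2
          omega) (by rw [Finset.card_erase_of_mem hn, hk]; rfl)
        rw [← Finset.add_sum_erase s _ hn, ← add_assoc]
        exact h1
      · exact ih (k + 1) acc h.2 s (by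
          intro i hi
          have := hs i hi
          have : i ≠ n := fun e => hn (e ▸ hi)
          omega) hk

theorem testBit_sum_two_pow (s : Finset ℕ) (j : ℕ) :
    (∑ i ∈ s, 2 ^ i).testBit j = true ↔ j ∈ s := by
  rw [← Nat.mem_bitIndices, ← List.mem_toFinset, Finset.toFinset_bitIndices_sum_two_pow]

/-- brute force over all `k`-subsets of `Fin n` -/
theorem forall_of_allComb {n k : ℕ} {f : ℕ → Bool} (h : allComb n k 0 f = true)
    (K : Finset (Fin n)) (hK : K.card = k) : ∃ m, f m = true ∧ K = fset n m := by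
  have h1 := allComb_spec f n k 0 h (K.map ⟨Fin.val, Fin.val_injective⟩) (by
    intro i hi
    rw [Finset.mem_map] at hi
    obtain ⟨j, -, rfl⟩ := hi
    exact j.isLt) (by rw [Finset.card_map, hK])
  rw [zero_add] at h1
  refine ⟨_, h1, ?_⟩
  ext j
  rw [mem_fset, testBit_sum_two_pow, Finset.mem_map]
  constructor
  · intro hj; exact ⟨j, hj, rfl⟩
  · rintro ⟨j', hj', e⟩
    have : j' = j := Fin.ext e
    rwa [← this]


/-- enumeration with pruning: `prune n acc` may cut the whole subtree below `acc` (all of whose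
bits are at positions `≥ n`) -/
def allCombP (prune : ℕ → ℕ → Bool) (f : ℕ → Bool) : ℕ → ℕ → ℕ → Bool
  | _, 0, acc => f acc
  | 0, _ + 1, _ => true
  | n + 1, k + 1, acc =>
      (prune n (acc + 2 ^ n) || allCombP prune f n k (acc + 2 ^ n)) &&
      (prune n acc || allCombP prune f n (k + 1) acc)

theorem allCombP_spec (prune : ℕ → ℕ → Bool) (f : ℕ → Bool)
    (hprune : ∀ n acc, 2 ^ n ∣ acc → prune n acc = true →
      ∀ s : Finset ℕ, (∀ i ∈ s, i < n) → f (acc + ∑ i ∈ s, 2 ^ i) = true) :
    ∀ (n k acc : ℕ), 2 ^ n ∣ acc → allCombP prune f n k acc = true →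
    ∀ s : Finset ℕ, (∀ i ∈ s, i < n) → s.card = k → f (acc + ∑ i ∈ s, 2 ^ i) = true := by
  intro n
  induction n with
  | zero =>
    intro k acc _ h s hs hk
    have hs0 : s = ∅ := by
      rw [Finset.eq_empty_iff_forall_notMem]
      intro i hi
      exact absurd (hs i hi) (Nat.not_lt_zero i)
    subst hs0
    rw [Finset.card_empty] at hk
    subst hk
    simpa [allCombP] using h
  | succ n ih =>
    intro k acc hdvd h s hs hk
    cases k with
    | zero =>
      have hs0 : s = ∅ := Finset.card_eq_zero.mp hk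
      subst hs0
      simpa [allCombP] using h
    | succ k =>
      rw [allCombP, Bool.and_eq_true, Bool.or_eq_true, Bool.or_eq_true] at h
      have hdvd' : 2 ^ n ∣ acc := (Dvd.intro _ (pow_succ 2 n).symm).trans hdvd
      by_cases hn : n ∈ s
      · have hlt : ∀ i ∈ s.erase n, i < n := by
          intro i hi
          rw [Finset.mem_erase] at hi
          have := hs i hi.2
          omega
        have hd2 : 2 ^ n ∣ acc + 2 ^ n := Dvd.dvd.add hdvd' (dvd_refl _)
        rw [← Finset.add_sum_erase s _ hn, ← add_assoc]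
        rcases h.1 with h1 | h1
        · exact hprune n _ hd2 h1 _ hlt
        · exact ih k _ hd2 h1 _ hlt (by rw [Finset.card_erase_of_mem hn, hk]; rfl)
      · have hlt : ∀ i ∈ s, i < n := by
          intro i hi
          have := hs i hi
          have : i ≠ n := fun e => hn (e ▸ hi)
          omega
        rcases h.2 with h1 | h1
        · exact hprune n _ hdvd' h1 _ hlt
        · exact ih (k + 1) _ hdvd' h1 _ hlt hk

/-- brute force with pruning over all `k`-subsets of `Fin n` -/
theorem forall_of_allCombP {n k : ℕ} {prune : ℕ → ℕ → Bool} {f : ℕ → Bool}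
    (hprune : ∀ n acc, 2 ^ n ∣ acc → prune n acc = true →
      ∀ s : Finset ℕ, (∀ i ∈ s, i < n) → f (acc + ∑ i ∈ s, 2 ^ i) = true)
    (h : allCombP prune f n k 0 = true)
    (K : Finset (Fin n)) (hK : K.card = k) : ∃ m, f m = true ∧ K = fset n m := by
  have h1 := allCombP_spec prune f hprune n k 0 (dvd_zero _) h
    (K.map ⟨Fin.val, Fin.val_injective⟩) (by
    intro i hi
    rw [Finset.mem_map] at hi
    obtain ⟨j, -, rfl⟩ := hi
    exact j.isLt) (by rw [Finset.card_map, hK])
  rw [zero_add] at h1
  refine ⟨_, h1, ?_⟩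
  ext j
  rw [mem_fset, testBit_sum_two_pow, Finset.mem_map]
  constructor
  · intro hj; exact ⟨j, hj, rfl⟩
  · rintro ⟨j', hj', e⟩
    have : j' = j := Fin.ext e
    rwa [← this]

/-- low bits do not affect the intersection with a mask that has none -/
theorem land_add_low {n acc b t : ℕ} (hacc : 2 ^ n ∣ acc) (hb : 2 ^ n ∣ b) (ht : t < 2 ^ n) :
    Nat.land (acc + t) b = Nat.land acc b := by
  obtain ⟨a, rfl⟩ := hacc
  obtain ⟨c, rfl⟩ := hb
  apply Nat.eq_of_testBit_eq
  intro i
  show ((2 ^ n * a + t) &&& (2 ^ n * c)).testBit i = ((2 ^ n * a) &&& (2 ^ n * c)).testBit i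
  rw [Nat.testBit_and, Nat.testBit_and, Nat.testBit_two_pow_mul_add a ht, Nat.testBit_two_pow_mul,
    Nat.testBit_two_pow_mul]
  by_cases hi : i < n
  · have : ¬ (i ≥ n) := by omega
    simp [this]
  · have : i ≥ n := by omega
    simp [hi, this]

theorem sum_two_pow_lt {n : ℕ} {s : Finset ℕ} (hs : ∀ i ∈ s, i < n) : ∑ i ∈ s, 2 ^ i < 2 ^ n :=
  Nat.geomSum_lt (le_refl 2) hs

end Cfsg.Agent.Lib.Helper28.Comb
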