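import Mathlib
set_option autoImplicit false
set_option linter.style.haveILetI false

/-!
# Abstract group theory glue for the Fischer group Fi24 (helper28)
-/

namespace Cfsg.Agent.Lib.Helper28.Fi24GlueA


/-- a subgroup generated by the images of the generators of a finite presented group and a central
element `z` of order dividing `m`, in which the relators hold modulo `z`, has order at most `m` times
the order of the presented group -/
theorem card_closure_le_of_central {G : Type*} [Group G] {β : Type*} (rels' : Set (FreeGroup β))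
    [Finite (PresentedGroup rels')] (f : β → G) (z : G) (m : ℕ) (hm : 0 < m)
    (hcomm : ∀ b, f b * z = z * f b) (hzm : z ^ m = 1)
    (hrel : ∀ r ∈ rels', ∃ i : ℤ, FreeGroup.lift f r = z ^ i) :
    Finite (Subgroup.closure (Set.range f ∪ {z})) ∧
      Nat.card (Subgroup.closure (Set.range f ∪ {z})) ≤ m * Nat.card (PresentedGroup rels') := by
  classical
  set K := Subgroup.closure (Set.range f ∪ {z}) with hK
  have hfK : ∀ b, f b ∈ K := fun b => Subgroup.subset_closure (Or.inl ⟨b, rfl⟩)
  have hzK : z ∈ K := Subgroup.subset_closure (Or.inr rfl)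
  let zK : K := ⟨z, hzK⟩
  let fK : β → K := fun b => ⟨f b, hfK b⟩
  have hKC : K ≤ Subgroup.centralizer {z} := by
    rw [hK, Subgroup.closure_le]
    rintro x (⟨b, rfl⟩ | hx)
    · rw [SetLike.mem_coe, Subgroup.mem_centralizer_iff]
      intro h hh
      rw [Set.mem_singleton_iff] at hh
      rw [hh]; exact (hcomm b).symm
    · rw [Set.mem_singleton_iff] at hx
      rw [SetLike.mem_coe, Subgroup.mem_centralizer_iff]
      intro h hh
      rw [Set.mem_singleton_iff] at hh
      rw [hh, hx]
  have hcen : zK ∈ Subgroup.center K := by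
    rw [Subgroup.mem_center_iff]
    rintro ⟨g, hg⟩
    apply Subtype.ext
    show g * z = z * g
    have := hKC hg
    rw [Subgroup.mem_centralizer_iff] at this
    exact (this z rfl).symm
  set Z : Subgroup K := Subgroup.zpowers zK with hZ
  have hZle : Z ≤ Subgroup.center K := Subgroup.zpowers_le.mpr hcen
  have : Z.Normal := ⟨fun n hn g => by
    have h1 : n ∈ Subgroup.center K := hZle hn
    rw [Subgroup.mem_center_iff] at h1
    rw [h1 g, mul_inv_cancel_right]
    exact hn⟩
  let f' : β → K ⧸ Z := fun b => (QuotientGroup.mk' Z) (fK b)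
  have e1 : FreeGroup.lift f' = (QuotientGroup.mk' Z).comp (FreeGroup.lift fK) := by
    ext b; simp [f']
  have e2 : K.subtype.comp (FreeGroup.lift fK) = FreeGroup.lift f := by
    ext b; simp [fK]
  have hrel' : ∀ r ∈ rels', FreeGroup.lift f' r = 1 := by
    intro r hr
    obtain ⟨i, hi⟩ := hrel r hr
    rw [e1, MonoidHom.comp_apply, QuotientGroup.mk'_apply, QuotientGroup.eq_one_iff]
    have : FreeGroup.lift fK r = zK ^ i := by
      apply Subtype.ext
      have h2 : ((FreeGroup.lift fK r : K) : G) = FreeGroup.lift f r := by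
        rw [← e2]; rfl
      rw [h2, hi]
      simp [zK]
    rw [this]
    exact Subgroup.zpow_mem_zpowers zK i
  let η : PresentedGroup rels' →* K ⧸ Z := PresentedGroup.toGroup hrel'
  have hsurj : Function.Surjective η := by
    rw [← MonoidHom.range_eq_top]
    have h1 : (Subgroup.closure ((Subtype.val : K → G) ⁻¹' (Set.range f ∪ {z}))) = ⊤ :=
      Subgroup.closure_closure_coe_preimage
    have h2 : (⊤ : Subgroup K).map (QuotientGroup.mk' Z) = ⊤ := by
      rw [← MonoidHom.range_eq_map]
      exact MonoidHom.range_eq_top.mpr (QuotientGroup.mk'_surjective Z)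
    rw [eq_top_iff, ← h2, ← h1, MonoidHom.map_closure, Subgroup.closure_le]
    rintro _ ⟨⟨x, hx⟩, hxs, rfl⟩
    rcases hxs with ⟨b, hb⟩ | hz
    · refine ⟨PresentedGroup.of b, ?_⟩
      have : η (PresentedGroup.of b) = f' b := PresentedGroup.toGroup.of hrel'
      rw [this]
      show (QuotientGroup.mk' Z) (fK b) = (QuotientGroup.mk' Z) ⟨x, hx⟩
      congr 1
      exact Subtype.ext hb
    · refine ⟨1, ?_⟩
      rw [map_one]; symm
      show (QuotientGroup.mk' Z) ⟨x, hx⟩ = 1
      rw [QuotientGroup.mk'_apply, QuotientGroup.eq_one_iff]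
      have : (⟨x, hx⟩ : K) = zK := Subtype.ext hz
      rw [this]; exact Subgroup.mem_zpowers zK
  have hfinQ : Finite (K ⧸ Z) := Finite.of_surjective η hsurj
  have hzKm : zK ^ m = 1 := by
    apply Subtype.ext
    simp [zK, hzm]
  have hfo : IsOfFinOrder zK := isOfFinOrder_iff_pow_eq_one.mpr ⟨m, hm, hzKm⟩
  have hfinZ : Finite Z := by
    have := hfo.finite_zpowers
    exact this.to_subtype
  have hfinK : Finite K := Finite.of_equiv _ (Subgroup.groupEquivQuotientProdSubgroup (s := Z)).symm
  refine ⟨hfinK, ?_⟩
  rw [Subgroup.card_eq_card_quotient_mul_card_subgroup Z, mul_comm]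
  have hcZ : Nat.card Z ≤ m := by
    rw [hZ, Nat.card_zpowers]
    exact orderOf_le_of_pow_eq_one hm hzKm
  have hcQ : Nat.card (K ⧸ Z) ≤ Nat.card (PresentedGroup rels') := Nat.card_le_card_of_surjective η hsurj
  exact Nat.mul_le_mul hcZ hcQ



theorem isCyclic_of_card_le_three' {N : Type*} [Group N] [Finite N] (h : Nat.card N ≤ 3) : IsCyclic N := by
  have h0 : 0 < Nat.card N := Nat.card_pos
  have : Nat.card N = 1 ∨ Nat.card N = 2 ∨ Nat.card N = 3 := by omega
  rcases this with h1 | h2 | h3
  · exact @isCyclic_of_subsingleton N _ (Nat.card_eq_one_iff_unique.mp h1).1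
  · haveI : Fact (Nat.Prime 2) := ⟨Nat.prime_two⟩
    exact isCyclic_of_prime_card h2
  · haveI : Fact (Nat.Prime 3) := ⟨Nat.prime_three⟩
    exact isCyclic_of_prime_card h3

/-- a normal subgroup of order at most 3 of a perfect group is central -/
theorem le_center_of_card_le_three {P : Type*} [Group P] (hperf : commutator P = ⊤)
    (N : Subgroup P) [N.Normal] [Finite N] (hN : Nat.card N ≤ 3) : N ≤ Subgroup.center P := by
  haveI : IsCyclic N := isCyclic_of_card_le_three' hN
  let χ : P →* (ZMod (Nat.card N))ˣ := (IsCyclic.mulAutMulEquiv N).toMonoidHom.comp (MulAut.conjNormal : P →* MulAut N)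
  have hker : commutator P ≤ χ.ker := Abelianization.commutator_subset_ker χ
  rw [hperf] at hker
  intro n hn
  rw [Subgroup.mem_center_iff]
  intro g
  have hg : χ g = 1 := by
    have : g ∈ χ.ker := hker (Subgroup.mem_top g)
    exact this
  have hg' : (MulAut.conjNormal g : MulAut N) = 1 := by
    have : (IsCyclic.mulAutMulEquiv N) (MulAut.conjNormal g) = (IsCyclic.mulAutMulEquiv N) 1 := by
      rw [map_one]; exact hg
    exact (IsCyclic.mulAutMulEquiv N).injective this
  have h2 : ((MulAut.conjNormal g : MulAut N) ⟨n, hn⟩ : P) = g * n * g⁻¹ := MulAut.conjNormal_apply g ⟨n, hn⟩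
  rw [hg'] at h2
  have h3 : n = g * n * g⁻¹ := h2
  calc g * n = g * n * g⁻¹ * g := by group
    _ = n * g := by rw [← h3]



section
variable {G : Type*} [Group G]

/-- conjugation by `x` on the commutator subgroup, as a monoid hom -/
noncomputable def cm (x : G) : commutator G →* commutator G :=
  (MulAut.conjNormal x : MulAut (commutator G)).toMonoidHom

theorem cm_coe (x : G) (d : commutator G) : ((cm x d : commutator G) : G) = x * d * x⁻¹ :=
  MulAut.conjNormal_apply x d

theorem cm_inj (x : G) : Function.Injective (cm x) :=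
  (MulAut.conjNormal x : MulAut (commutator G)).injective

theorem cm_mul (x y : G) : cm (x * y) = (cm x).comp (cm y) := by
  ext d
  rw [MonoidHom.comp_apply, cm_coe, cm_coe, cm_coe]
  group

theorem map_cm_of_mem (K : Subgroup (commutator G)) [hK : K.Normal] (d0 : G) (hd0 : d0 ∈ commutator G) :
    K.map (cm d0) = K := by
  have key : ∀ k : commutator G, cm d0 k = ⟨d0, hd0⟩ * k * ⟨d0, hd0⟩⁻¹ := by
    intro k
    apply Subtype.ext
    rw [cm_coe]; rfl
  ext y
  rw [Subgroup.mem_map]
  constructor
  · rintro ⟨k, hk, rfl⟩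
    rw [key]
    exact hK.conj_mem k hk _
  · intro hy
    refine ⟨⟨d0, hd0⟩⁻¹ * y * ⟨d0, hd0⟩, ?_, ?_⟩
    · have := hK.conj_mem y hy ⟨d0, hd0⟩⁻¹
      rwa [inv_inv] at this
    · rw [key]; group

/-- a subgroup of the commutator subgroup stable under all conjugations maps to a normal subgroup -/
theorem normal_map_of_stable (M : Subgroup (commutator G)) (h : ∀ x : G, M.map (cm x) = M) :
    (M.map (commutator G).subtype).Normal := by
  refine ⟨fun n hn x => ?_⟩
  obtain ⟨k, hk, rfl⟩ := Subgroup.mem_map.mp hn
  refine Subgroup.mem_map.mpr ⟨cm x k, ?_, ?_⟩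
  · rw [← h x]; exact Subgroup.mem_map_of_mem _ hk
  · show ((cm x k : commutator G) : G) = x * k * x⁻¹
    exact cm_coe x k

/-- if the commutator subgroup `D` has index 2, lies in every nontrivial normal subgroup and its order
is not a square, then it is simple -/
theorem isSimpleGroup_commutator_of_min [Finite G]
    (hidx : (commutator G).index = 2)
    (hB : ∀ M : Subgroup G, M.Normal → M ≠ ⊥ → commutator G ≤ M)
    (hsq : ¬ IsSquare (Nat.card (commutator G))) : IsSimpleGroup (commutator G) := by
  have hnt : Nontrivial (commutator G) := by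
    by_contra h
    rw [not_nontrivial_iff_subsingleton] at h
    apply hsq
    rw [Nat.card_eq_one_iff_unique.mpr ⟨h, ⟨1⟩⟩]
    exact ⟨1, rfl⟩
  refine ⟨fun K hK => ?_⟩
  by_contra hcon
  rw [not_or] at hcon
  obtain ⟨hbot, htop⟩ := hcon
  -- an element outside D
  have hDne : commutator G ≠ ⊤ := by
    intro e
    rw [e, Subgroup.index_top] at hidx
    norm_num at hidx
  obtain ⟨g, -, hg⟩ := SetLike.exists_of_lt (lt_top_iff_ne_top.mpr hDne)
  set K' : Subgroup (commutator G) := K.map (cm g) with hK'
  have hDn : (commutator G).Normal := inferInstance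
  -- conjugation by elements of D fixes K and K'
  have h1 : ∀ d ∈ commutator G, K.map (cm d) = K := fun d hd => map_cm_of_mem K d hd
  have h2 : ∀ d ∈ commutator G, K'.map (cm d) = K' := by
    intro d hd
    rw [hK', Subgroup.map_map, ← cm_mul]
    have e : d * g = g * (g⁻¹ * d * g) := by group
    rw [e, cm_mul, ← Subgroup.map_map]
    have : g⁻¹ * d * g ∈ commutator G := by
      have := hDn.conj_mem d hd g⁻¹
      rwa [inv_inv] at this
    rw [h1 _ this]
  have hgg : g * g ∈ commutator G := by
    rw [Subgroup.mul_mem_iff_of_index_two hidx]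
  have h3 : K'.map (cm g) = K := by
    rw [hK', Subgroup.map_map, ← cm_mul]
    exact h1 _ hgg
  -- every element is in D or in g D
  have hx : ∀ x : G, x ∈ commutator G ∨ g⁻¹ * x ∈ commutator G := by
    intro x
    by_cases hxD : x ∈ commutator G
    · exact Or.inl hxD
    · right
      rw [Subgroup.mul_mem_iff_of_index_two hidx, Subgroup.inv_mem_iff]
      exact ⟨fun h => absurd h hg, fun h => absurd h hxD⟩
  have h4 : ∀ x : G, (K.map (cm x) = K ∧ K'.map (cm x) = K') ∨ (K.map (cm x) = K' ∧ K'.map (cm x) = K) := by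
    intro x
    rcases hx x with h | h
    · exact Or.inl ⟨h1 x h, h2 x h⟩
    · right
      have e : x = g * (g⁻¹ * x) := by group
      constructor
      · rw [e, cm_mul, ← Subgroup.map_map, h1 _ h]
      · rw [e, cm_mul, ← Subgroup.map_map, h2 _ h, h3]
  have hinf : ∀ x : G, (K ⊓ K').map (cm x) = K ⊓ K' := by
    intro x
    rw [Subgroup.map_inf _ _ _ (cm_inj x)]
    rcases h4 x with ⟨ha, hb⟩ | ⟨ha, hb⟩
    · rw [ha, hb]
    · rw [ha, hb, inf_comm]
  have hsup : ∀ x : G, (K ⊔ K').map (cm x) = K ⊔ K' := by
    intro x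
    rw [Subgroup.map_sup]
    rcases h4 x with ⟨ha, hb⟩ | ⟨ha, hb⟩
    · rw [ha, hb]
    · rw [ha, hb, sup_comm]
  have hsubinj : Function.Injective (commutator G).subtype := Subgroup.subtype_injective _
  -- a stable nontrivial subgroup of D is D
  have hstab : ∀ M : Subgroup (commutator G), (∀ x : G, M.map (cm x) = M) → M ≠ ⊥ → M = ⊤ := by
    intro M hM hMne
    have hn := normal_map_of_stable M hM
    have hne : M.map (commutator G).subtype ≠ ⊥ := by
      intro e
      exact hMne ((Subgroup.map_eq_bot_iff_of_injective _ hsubinj).mp e)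
    have hle := hB _ hn hne
    rw [eq_top_iff]
    intro d _
    obtain ⟨k, hk, hkd⟩ := Subgroup.mem_map.mp (hle d.2)
    have : k = d := Subtype.ext hkd
    rw [← this]; exact hk
  have hdisj : K ⊓ K' = ⊥ := by
    by_contra h
    have := hstab _ hinf h
    apply htop
    rw [eq_top_iff, ← this]
    exact inf_le_left
  have htop' : K ⊔ K' = ⊤ := by
    apply hstab _ hsup
    intro e
    apply hbot
    rw [eq_bot_iff, ← e]
    exact le_sup_left
  have hcompl : Subgroup.IsComplement' K K' := by
    apply Subgroup.isComplement'_of_disjoint_and_mul_eq_univ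
    · rw [disjoint_iff]; exact hdisj
    · rw [← Subgroup.normal_mul, htop']; rfl
  have hcard := hcompl.card_mul_card
  have hcK' : Nat.card K' = Nat.card K := Subgroup.card_map_of_injective (cm_inj g)
  rw [hcK'] at hcard
  exact hsq ⟨Nat.card K, hcard.symm⟩

/-- in a finite group with a core-free maximal subgroup `H`, an element of prime order `p` not
dividing the order of `H` lies in every nontrivial normal subgroup -/
theorem mem_of_normal_of_max [Finite G] (H : Subgroup G)
    (hcore : H.normalCore = ⊥)
    (hmax : ∀ K : Subgroup G, H ≤ K → K = H ∨ K = ⊤)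
    (p : ℕ) (hp : p.Prime) (hpH : ¬ p ∣ Nat.card H) (t : G) (ht : t ^ p = 1)
    (N : Subgroup G) (hN : N.Normal) (hbot : N ≠ ⊥) : t ∈ N := by
  have hNH : ¬ N ≤ H := by
    intro h
    apply hbot
    have : N ≤ H.normalCore := (Subgroup.normal_le_normalCore).mpr h
    rw [hcore] at this
    exact le_bot_iff.mp this
  have hsup : H ⊔ N = ⊤ := by
    rcases hmax (H ⊔ N) le_sup_left with h | h
    · exact absurd (h ▸ le_sup_right) hNH
    · exact h
  have hsurj : Function.Surjective ((QuotientGroup.mk' N).comp H.subtype) := by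
    intro q
    obtain ⟨g, rfl⟩ := QuotientGroup.mk'_surjective N q
    have hg : g ∈ H ⊔ N := by rw [hsup]; exact Subgroup.mem_top g
    rw [← SetLike.mem_coe, Subgroup.mul_normal] at hg
    obtain ⟨h, hh, n, hn, rfl⟩ := Set.mem_mul.mp hg
    refine ⟨⟨h, hh⟩, ?_⟩
    show (QuotientGroup.mk' N) h = (QuotientGroup.mk' N) (h * n)
    have hn1 : (QuotientGroup.mk' N) n = 1 := (QuotientGroup.eq_one_iff n).mpr hn
    rw [map_mul, hn1, mul_one]
  have hdvd : Nat.card (G ⧸ N) ∣ Nat.card H := Subgroup.card_dvd_of_surjective _ hsurj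
  have ht' : ((QuotientGroup.mk' N) t) ^ p = 1 := by rw [← map_pow, ht, map_one]
  have hord : orderOf ((QuotientGroup.mk' N) t) ∣ p := orderOf_dvd_of_pow_eq_one ht'
  have hord2 : orderOf ((QuotientGroup.mk' N) t) ∣ Nat.card (G ⧸ N) := orderOf_dvd_natCard _
  rcases (Nat.dvd_prime hp).mp hord with h1 | h1
  · rw [orderOf_eq_one_iff] at h1
    exact (QuotientGroup.eq_one_iff t).mp h1
  · rw [h1] at hord2
    exact absurd (dvd_trans hord2 hdvd) hpH

/-- the commutator subgroup of a finite group `G` with a core-free maximal subgroup `H` is simple, if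
it has index 2 and non-square order, and some element of odd prime order `p` not dividing the order
of `H` has a normal closure of index at most 2 -/
theorem isSimpleGroup_commutator_of_max [Finite G] (H : Subgroup G)
    (hcore : H.normalCore = ⊥)
    (hmax : ∀ K : Subgroup G, H ≤ K → K = H ∨ K = ⊤)
    (p : ℕ) (hp : p.Prime) (hp2 : p ≠ 2) (hpH : ¬ p ∣ Nat.card H) (t : G) (ht : t ^ p = 1)
    (hcl : (Subgroup.normalClosure {t}).index ≤ 2)
    (hidx : (commutator G).index = 2)
    (hsq : ¬ IsSquare (Nat.card (commutator G))) : IsSimpleGroup (commutator G) := by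
  -- t lies in the commutator subgroup
  have htD : t ∈ commutator G := by
    rw [← QuotientGroup.eq_one_iff]
    have h2 : ((t : G ⧸ commutator G)) ^ 2 = 1 := by
      have := pow_card_eq_one' (G := G ⧸ commutator G) (x := (t : G ⧸ commutator G))
      rwa [← Subgroup.index_eq_card, hidx] at this
    have hp' : ((t : G ⧸ commutator G)) ^ p = 1 := by
      rw [← QuotientGroup.mk_pow, ht]; rfl
    have d2 := orderOf_dvd_of_pow_eq_one h2
    have dp := orderOf_dvd_of_pow_eq_one hp'
    have hco : Nat.Coprime 2 p := (Nat.coprime_primes Nat.prime_two hp).mpr (Ne.symm hp2)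
    have := Nat.dvd_gcd d2 dp
    rw [hco.gcd_eq_one, Nat.dvd_one, orderOf_eq_one_iff] at this
    exact this
  have hNle : Subgroup.normalClosure {t} ≤ commutator G :=
    Subgroup.normalClosure_le_normal (Set.singleton_subset_iff.mpr htD)
  have hNidx : (Subgroup.normalClosure {t}).index = 2 := by
    have hd := Subgroup.index_dvd_of_le hNle
    rw [hidx] at hd
    have h0 : (Subgroup.normalClosure {t}).index ≠ 0 := Subgroup.index_ne_zero_of_finite
    obtain ⟨c, hc⟩ := hd
    have : c ≠ 0 := by rintro rfl; exact h0 (by rw [hc])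
    omega
  have hNeq : Subgroup.normalClosure {t} = commutator G := by
    apply Subgroup.eq_of_le_of_card_ge hNle
    have e1 := (Subgroup.normalClosure {t}).index_mul_card
    have e2 := (commutator G).index_mul_card
    rw [hNidx] at e1
    rw [hidx] at e2
    omega
  apply isSimpleGroup_commutator_of_min hidx ?_ hsq
  intro M hM hMne
  rw [← hNeq]
  haveI := hM
  exact Subgroup.normalClosure_le_normal
    (Set.singleton_subset_iff.mpr (mem_of_normal_of_max H hcore hmax p hp hpH t ht M hM hMne))

end


section Pres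
variable {α : Type*}

/-- if adding the relator `w` gives a finite group, the normal closure of `w` has index at most its order -/
theorem index_normalClosure_le (rels rels' : Set (FreeGroup α)) (w : FreeGroup α)
    (h : ∀ r ∈ rels', r ∈ rels ∨ r = w) [Finite (PresentedGroup rels')] :
    (Subgroup.normalClosure {PresentedGroup.mk rels w}).index ≤ Nat.card (PresentedGroup rels') := by
  set N : Subgroup (PresentedGroup rels) := Subgroup.normalClosure {PresentedGroup.mk rels w} with hN
  have key : FreeGroup.lift (fun x => (QuotientGroup.mk' N) (PresentedGroup.of x : PresentedGroup rels)) =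
      (QuotientGroup.mk' N).comp (PresentedGroup.mk rels) := by
    ext x
    simp [PresentedGroup.of]
  have h1 : ∀ r ∈ rels', FreeGroup.lift
      (fun x => (QuotientGroup.mk' N) (PresentedGroup.of x : PresentedGroup rels)) r = 1 := by
    intro r hr
    rw [key, MonoidHom.comp_apply]
    rcases h r hr with h2 | rfl
    · rw [PresentedGroup.one_of_mem h2, map_one]
    · rw [QuotientGroup.mk'_apply, QuotientGroup.eq_one_iff]
      exact Subgroup.subset_normalClosure (Set.mem_singleton _)
  let ψ : PresentedGroup rels' →* PresentedGroup rels ⧸ N := PresentedGroup.toGroup h1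
  have hψ : ∀ z : FreeGroup α, ψ (PresentedGroup.mk rels' z) = (QuotientGroup.mk' N) (PresentedGroup.mk rels z) := by
    intro z
    have : ψ (PresentedGroup.mk rels' z) = FreeGroup.lift
        (fun x => (QuotientGroup.mk' N) (PresentedGroup.of x : PresentedGroup rels)) z := rfl
    rw [this, key, MonoidHom.comp_apply]
  have hsurj : Function.Surjective ψ := by
    intro q
    obtain ⟨g, rfl⟩ := QuotientGroup.mk'_surjective N q
    induction g using PresentedGroup.induction_on with
    | H z => exact ⟨PresentedGroup.mk rels' z, hψ z⟩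
  rw [Subgroup.index_eq_card]
  exact Nat.card_le_card_of_surjective ψ hsurj

end Pres

/-- a group generated by one involution has at most two elements -/
theorem card_le_two_of_closure {Q : Type*} [Group Q] (x : Q) (hx : x ^ 2 = 1)
    (hgen : Subgroup.closure {x} = ⊤) : Finite Q ∧ Nat.card Q ≤ 2 := by
  rw [← Subgroup.zpowers_eq_closure] at hgen
  have hfo : IsOfFinOrder x := isOfFinOrder_iff_pow_eq_one.mpr ⟨2, by norm_num, hx⟩
  have hfinZ : Finite (Subgroup.zpowers x) := hfo.finite_zpowers.to_subtype
  have e : Subgroup.zpowers x ≃* Q := (MulEquiv.subgroupCongr hgen).trans Subgroup.topEquiv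
  have hfin : Finite Q := Finite.of_equiv _ e.toEquiv
  refine ⟨hfin, ?_⟩
  rw [← Nat.card_congr e.toEquiv, Nat.card_zpowers]
  exact orderOf_le_of_pow_eq_one (by norm_num) hx

end Cfsg.Agent.Lib.Helper28.Fi24GlueA
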