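import Cfsg.Agent.Lib.Helper28.TCF23NTower
import Cfsg.Agent.Lib.Helper28.Fi24GlueA
import Cfsg.Agent.S1697
import Cfsg.Agent.S2054
set_option autoImplicit false
set_option maxRecDepth 100000
set_option linter.style.haveILetI false

/-!
# The group `Y342` with the `E7` relation only is the Fischer group Fi23

The presented group `PN` (Coxeter relations of `Y342` and `(abcdefh)^9 = 1`, without the spider relation) has
order at most `3 |Fi23|` by coset enumeration, is perfect and maps onto `Fi23`; the kernel is central, so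
`PN → Fi23` is a stem extension and an isomorphism since the Schur multiplier of `Fi23` is trivial.
-/

namespace Cfsg.Agent.Lib.Helper28.F23NIso
open Cfsg Cfsg.Spor Cfsg.Agent.Lib.Helper28.TC2Tower Cfsg.Agent.Lib.Helper28.TC2Glue
open Cfsg.Agent.Lib.Helper28.Fi24GlueA

/-- the generators -/
abbrev GenN : Type := Cfsg.Agent.Lib.Helper28.TCF23NW0Def.Gen

/-- the relators -/
abbrev relsN : Set (FreeGroup GenN) := Cfsg.Agent.Lib.Helper28.TCF23NW0Link.rels

/-- the group -/
abbrev PN : Type := PresentedGroup relsN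

/-- the generators of `PN` as generators of `Fi23` -/
def up : GenN → Fi23.Gen
  | .a => .a
  | .b => .b
  | .c => .c
  | .d => .d
  | .e => .e
  | .f => .f
  | .g => .g
  | .j => .j
  | .h => .h
  | .i => .i

theorem up_words : ∀ L ∈ Cfsg.Agent.Lib.Helper28.TCF23NW0Link.relWords,
    upWord up L ∈ Cfsg.Agent.Lib.Helper28.TCFi23W0Link.relWords := by decide +kernel

theorem up_rels : ∀ r ∈ relsN, FreeGroup.map up r ∈ Cfsg.Agent.Lib.Helper28.TCFi23W0Link.rels :=
  hrel_of_words _ _ up _ _ Cfsg.Agent.Lib.Helper28.TCFi23W0Link.link.hrels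
    Cfsg.Agent.Lib.Helper28.TCF23NW0Link.link.hrels up_words

theorem lift_of_up {α β : Type} (rels : Set (FreeGroup α)) (ι : β → α) (r : FreeGroup β) :
    FreeGroup.lift (fun x => (PresentedGroup.of (ι x) : PresentedGroup rels)) r =
      PresentedGroup.mk rels (FreeGroup.map ι r) := by
  have : FreeGroup.lift (fun x => (PresentedGroup.of (ι x) : PresentedGroup rels)) =
      (PresentedGroup.mk rels).comp (FreeGroup.map ι) := by
    ext x
    simp [PresentedGroup.of]
  rw [this, MonoidHom.comp_apply]

theorem theta_rel : ∀ r ∈ relsN, FreeGroup.lift (fun x => (PresentedGroup.of (up x) : Fi23)) r = 1 := by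
  intro r hr
  rw [lift_of_up]
  exact PresentedGroup.one_of_mem (up_rels r hr)

/-- the map onto `Fi23` -/
noncomputable def theta : PN →* Fi23 := PresentedGroup.toGroup theta_rel

theorem theta_of (x : GenN) : theta (PresentedGroup.of x) = PresentedGroup.of (up x) :=
  PresentedGroup.toGroup.of theta_rel

theorem theta_surj : Function.Surjective theta := by
  rw [← MonoidHom.range_eq_top, eq_top_iff, ← PresentedGroup.closure_range_of, Subgroup.closure_le]
  rintro _ ⟨x, rfl⟩
  cases x
  exacts [⟨PresentedGroup.of .a, theta_of _⟩, ⟨PresentedGroup.of .b, theta_of _⟩,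
    ⟨PresentedGroup.of .c, theta_of _⟩, ⟨PresentedGroup.of .d, theta_of _⟩,
    ⟨PresentedGroup.of .e, theta_of _⟩, ⟨PresentedGroup.of .f, theta_of _⟩,
    ⟨PresentedGroup.of .g, theta_of _⟩, ⟨PresentedGroup.of .j, theta_of _⟩,
    ⟨PresentedGroup.of .h, theta_of _⟩, ⟨PresentedGroup.of .i, theta_of _⟩]

section Perfect

theorem node_mem (x : GenN) : x ∈ coxNodes Cfsg.Agent.Lib.Helper28.TCF23NW0Def.edges := by
  cases x <;> decide

theorem cox_rel (x y : GenN) :
    ((PresentedGroup.of x : PN) * PresentedGroup.of y) ^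
      coxLabel Cfsg.Agent.Lib.Helper28.TCF23NW0Def.edges x y = 1 := by
  have hmem : (FreeGroup.of x * FreeGroup.of y) ^ coxLabel Cfsg.Agent.Lib.Helper28.TCF23NW0Def.edges x y ∈ relsN :=
    Or.inl ⟨x, node_mem x, y, node_mem y, rfl⟩
  have := PresentedGroup.one_of_mem hmem
  rwa [map_pow, map_mul] at this

theorem eq_of_braid {A : Type*} [CommGroup A] (x y : A) (hx : x ^ 2 = 1) (hy : y ^ 2 = 1)
    (h : (x * y) ^ 3 = 1) : x = y := by
  have h1 : x * y = 1 := by
    have e : (x * y) ^ 3 = x ^ 2 * y ^ 2 * (x * y) := by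
      rw [mul_pow]
      rw [show x ^ 3 = x ^ 2 * x from pow_succ x 2, show y ^ 3 = y ^ 2 * y from pow_succ y 2]
      rw [mul_mul_mul_comm]
    rw [e, hx, hy, one_mul, one_mul] at h
    exact h
  have h2 : y * y = 1 := by rw [← pow_two]; exact hy
  calc x = x * (y * y) := by rw [h2, mul_one]
    _ = (x * y) * y := by rw [mul_assoc]
    _ = y := by rw [h1, one_mul]

/-- `PN` is perfect -/
theorem perfect : commutator PN = ⊤ := by
  let ab : PN →* Abelianization PN := Abelianization.of
  let v : GenN → Abelianization PN := fun x => ab (PresentedGroup.of x)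
  have hsq : ∀ x, v x ^ 2 = 1 := by
    intro x
    have := congrArg ab (cox_rel x x)
    have hl : coxLabel Cfsg.Agent.Lib.Helper28.TCF23NW0Def.edges x x = 1 := by
      unfold coxLabel; rw [if_pos rfl]
    rw [hl, pow_one, map_mul, map_one] at this
    rw [pow_two]; exact this
  have hbr : ∀ x y, coxLabel Cfsg.Agent.Lib.Helper28.TCF23NW0Def.edges x y = 3 → v x = v y := by
    intro x y hl
    have := congrArg ab (cox_rel x y)
    rw [hl, map_pow, map_mul, map_one] at this
    exact eq_of_braid _ _ (hsq x) (hsq y) this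
  have hab : v .a = v .b := hbr _ _ (by decide)
  have hbc : v .b = v .c := hbr _ _ (by decide)
  have hcd : v .c = v .d := hbr _ _ (by decide)
  have hde : v .d = v .e := hbr _ _ (by decide)
  have hdh : v .d = v .h := hbr _ _ (by decide)
  have hef : v .e = v .f := hbr _ _ (by decide)
  have hfg : v .f = v .g := hbr _ _ (by decide)
  have hgj : v .g = v .j := hbr _ _ (by decide)
  have hhi : v .h = v .i := hbr _ _ (by decide)
  -- the E7 relator
  have hmem : ((FreeGroup.of (.a : GenN) * FreeGroup.of (.b : GenN) * FreeGroup.of (.c : GenN) *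
      FreeGroup.of (.d : GenN) * FreeGroup.of (.e : GenN) * FreeGroup.of (.f : GenN) *
      FreeGroup.of (.h : GenN)) ^ 9 : FreeGroup GenN) ∈ relsN := by
    refine Or.inr ?_
    show _ ∈ Cfsg.Agent.Lib.Helper28.TCF23NW0Def.extra
    unfold Cfsg.Agent.Lib.Helper28.TCF23NW0Def.extra
    rw [List.mem_singleton]
    rfl
  have h7 := congrArg ab (PresentedGroup.one_of_mem hmem)
  simp only [map_pow, map_mul, map_one] at h7
  have h7' : (v .a * v .b * v .c * v .d * v .e * v .f * v .h) ^ 9 = 1 := h7
  have eb : v .b = v .a := hab.symm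
  have ec : v .c = v .a := hbc.symm.trans eb
  have ed : v .d = v .a := hcd.symm.trans ec
  have ee : v .e = v .a := hde.symm.trans ed
  have eh : v .h = v .a := hdh.symm.trans ed
  have ef : v .f = v .a := hef.symm.trans ee
  have eg : v .g = v .a := hfg.symm.trans ef
  have ej : v .j = v .a := hgj.symm.trans eg
  have ei : v .i = v .a := hhi.symm.trans eh
  rw [eb, ec, ed, ee, ef, eh] at h7'
  have ha1 : v .a = 1 := by
    have h63 : v .a ^ 63 = 1 := by
      rw [← h7']
      rw [show (63 : ℕ) = 7 * 9 from rfl, pow_mul]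
      congr 1
    have : v .a ^ 63 = (v .a ^ 2) ^ 31 * v .a := by
      rw [← pow_mul, ← pow_succ]
    rw [this, hsq, one_pow, one_mul] at h63
    exact h63
  have hall : ∀ x, v x = 1 := by
    intro x
    cases x
    exacts [ha1, eb.trans ha1, ec.trans ha1, ed.trans ha1, ee.trans ha1, ef.trans ha1, eg.trans ha1,
      ej.trans ha1, eh.trans ha1, ei.trans ha1]
  have hab1 : ab = 1 := by
    apply PresentedGroup.ext
    intro x
    exact hall x
  rw [← Abelianization.ker_of, eq_top_iff]
  intro g _
  rw [MonoidHom.mem_ker]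
  show ab g = 1
  rw [hab1]; rfl

end Perfect

/-- the order of `PN` is the order of `Fi23` -/
theorem card_PN : Finite PN ∧ Nat.card PN = 4089470473293004800 := by
  obtain ⟨hfin, hle⟩ := Cfsg.Agent.Lib.Helper28.TCF23NTower.card0
  haveI : Finite PN := hfin
  refine ⟨hfin, ?_⟩
  have hF : Nat.card Fi23 = 4089470473293004800 := Cfsg.Agent.S1697.result.2
  have h1 := theta.ker.index_mul_card
  have h2 : theta.ker.index = Nat.card Fi23 := by
    rw [Subgroup.index_ker, MonoidHom.range_eq_top.mpr theta_surj, Subgroup.card_top]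
  have hk : Nat.card theta.ker ≤ 3 := by
    rw [h2, hF] at h1
    by_contra hcon
    rw [not_le] at hcon
    have h4 : 4089470473293004800 * 4 ≤ 4089470473293004800 * Nat.card theta.ker :=
      Nat.mul_le_mul_left _ hcon
    have hle' : Nat.card PN ≤ 12268411419879014400 := hle
    omega
  have hcen : theta.ker ≤ Subgroup.center PN := le_center_of_card_le_three perfect theta.ker hk
  have hstem : IsStemExtension theta := ⟨theta_surj, hcen, by rw [perfect]; exact le_top⟩
  obtain ⟨π, hπ⟩ := Cfsg.Agent.S2054.result.2 PN theta hstem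
  have hinj : Function.Injective theta := by
    rw [← MonoidHom.ker_eq_bot_iff, eq_bot_iff]
    intro k hk
    obtain ⟨x, hx⟩ := hπ ⟨k, hk⟩
    have hx1 : x = 1 := by
      apply Multiplicative.toAdd.injective
      exact Subsingleton.elim (α := ZMod 1) _ _
    rw [hx1, map_one] at hx
    have := congrArg Subtype.val hx
    rw [Subgroup.mem_bot]
    exact this.symm
  rw [← hF]
  exact Nat.card_congr (Equiv.ofBijective theta ⟨hinj, theta_surj⟩)

end Cfsg.Agent.Lib.Helper28.F23NIso
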