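import Mathlib

/-!
helper28, S5801 (3) frames 6x1, helper10's market "F6" (notes/S5801_F6_leaves.lean), leaf **L3** `false_of_comb_six`:
the combinatorial kill (pure matrix statement).
-/

set_option autoImplicit false

namespace Cfsg.Agent.Lib.Helper28.F6Leaf
open Matrix

variable {F : Type*} [Field F] [Fintype F] {ι : Type} [Fintype ι] [DecidableEq ι]

lemma exists_notMem_fin {α : Type*} [Fintype α] (S : Finset α) (h : S.card < Fintype.card α) :
    ∃ x : α, x ∉ S := by
  obtain ⟨e, -, he⟩ := Finset.exists_mem_notMem_of_card_lt_card (s := S) (t := Finset.univ)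
    (by rwa [Finset.card_univ])
  exact ⟨e, he⟩

/-- UNIQUENESS: two functionals killing the same two rows are equal -/
lemma comb_unique (g : Matrix ι ι F) (a b c : ι)
    (hNP : ∀ i i' : ι, i ≠ i' → ∀ κ : F,
      ¬ (g i' a = κ * g i a ∧ g i' b = κ * g i b ∧ g i' c = κ * g i c))
    (α β α' β' : F) (x y : ι) (hxy : x ≠ y)
    (h1 : g x c = α * g x a + β * g x b) (h2 : g y c = α * g y a + β * g y b)
    (h3 : g x c = α' * g x a + β' * g x b) (h4 : g y c = α' * g y a + β' * g y b) :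
    α = α' ∧ β = β' := by
  by_contra hne
  have ex : (α - α') * g x a + (β - β') * g x b = 0 := by
    have : α * g x a + β * g x b = α' * g x a + β' * g x b := by rw [← h1, ← h3]
    linear_combination this
  have ey : (α - α') * g y a + (β - β') * g y b = 0 := by
    have : α * g y a + β * g y b = α' * g y a + β' * g y b := by rw [← h2, ← h4]
    linear_combination this
  have hD : g x a * g y b - g x b * g y a = 0 := by
    have hu : (α - α') * (g x a * g y b - g x b * g y a) = 0 := by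
      linear_combination g y b * ex - g x b * ey
    have hv : (β - β') * (g x a * g y b - g x b * g y a) = 0 := by
      linear_combination g x a * ey - g y a * ex
    by_contra hD0
    apply hne
    constructor
    · exact sub_eq_zero.1 ((mul_eq_zero.1 hu).resolve_right hD0)
    · exact sub_eq_zero.1 ((mul_eq_zero.1 hv).resolve_right hD0)
  by_cases hxa : g x a = 0
  · by_cases hxb : g x b = 0
    · -- row `x` vanishes on `a, b, c`
      apply hNP y x (Ne.symm hxy) 0
      refine ⟨by rw [hxa, zero_mul], by rw [hxb, zero_mul], ?_⟩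
      rw [h1, hxa, hxb]; ring
    · apply hNP x y hxy (g y b / g x b)
      have hya : g y a = 0 := by
        rw [hxa, zero_mul, zero_sub, neg_eq_zero] at hD
        exact (mul_eq_zero.1 hD).resolve_left hxb
      refine ⟨by rw [hya, hxa, mul_zero], by field_simp, ?_⟩
      rw [h2, h1, hya, hxa]
      field_simp
      ring
  · apply hNP x y hxy (g y a / g x a)
    have hyb : g y b = g y a / g x a * g x b := by
      field_simp
      linear_combination hD
    refine ⟨by field_simp, hyb, ?_⟩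
    rw [h2, h1, hyb]
    field_simp

/-- **L3** the combinatorial kill (pure matrix statement; `a b c` need not be distinct). -/
theorem false_of_comb_six (h6 : 6 ≤ Fintype.card ι) (g : Matrix ι ι F) (a b c : ι)
    (hcomb : ∀ k l : ι, k ≠ l → ∃ (α β : F) (i : ι), ∀ x, x ≠ k → x ≠ l → x ≠ i →
      g x c = α * g x a + β * g x b)
    (hNP : ∀ i i' : ι, i ≠ i' → ∀ κ : F,
      ¬ (g i' a = κ * g i a ∧ g i' b = κ * g i b ∧ g i' c = κ * g i c))
    (hH2 : ∀ α β : F, ∃ p q : ι, p ≠ q ∧ g p c ≠ α * g p a + β * g p b ∧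
      g q c ≠ α * g q a + β * g q b) : False := by
  classical
  -- a first pair of rows
  obtain ⟨k, l, hkl⟩ : ∃ k l : ι, k ≠ l := by
    have : 1 < Fintype.card ι := by omega
    exact Fintype.one_lt_card_iff.1 this
  obtain ⟨α₀, β₀, i₀, h₀⟩ := hcomb k l hkl
  obtain ⟨p, q, hpq, hp, hq⟩ := hH2 α₀ β₀
  -- three killed rows
  obtain ⟨x₁, hx₁⟩ := exists_notMem_fin ({k, l, i₀} : Finset ι) (by
    have := Finset.card_le_three (a := k) (b := l) (c := i₀); omega)
  obtain ⟨x₂, hx₂⟩ := exists_notMem_fin ({k, l, i₀, x₁} : Finset ι) (by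
    have := Finset.card_le_four (a := k) (b := l) (c := i₀) (d := x₁); omega)
  obtain ⟨x₃, hx₃⟩ := exists_notMem_fin ({k, l, i₀, x₁, x₂} : Finset ι) (by
    have := Finset.card_le_five (a := k) (b := l) (c := i₀) (d := x₁) (e := x₂); omega)
  simp only [Finset.mem_insert, Finset.mem_singleton, not_or] at hx₁ hx₂ hx₃
  have hk₁ : g x₁ c = α₀ * g x₁ a + β₀ * g x₁ b := h₀ x₁ hx₁.1 hx₁.2.1 hx₁.2.2
  have hk₂ : g x₂ c = α₀ * g x₂ a + β₀ * g x₂ b := h₀ x₂ hx₂.1 hx₂.2.1 hx₂.2.2.1
  have hk₃ : g x₃ c = α₀ * g x₃ a + β₀ * g x₃ b := h₀ x₃ hx₃.1 hx₃.2.1 hx₃.2.2.1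
  have h12 : x₁ ≠ x₂ := fun h => hx₂.2.2.2 h.symm
  have h13 : x₁ ≠ x₃ := fun h => hx₃.2.2.2.1 h.symm
  have h23 : x₂ ≠ x₃ := fun h => hx₃.2.2.2.2 h.symm
  -- the pair lemma
  have pair : ∀ x y : ι, x ≠ y → g x c = α₀ * g x a + β₀ * g x b → g y c = α₀ * g y a + β₀ * g y b →
      ∃ α' β' : F, g p c = α' * g p a + β' * g p b ∧ g q c = α' * g q a + β' * g q b ∧
        (g x c = α' * g x a + β' * g x b ∨ g y c = α' * g y a + β' * g y b) := by
    intro x y hxy hx hy
    have hxp : x ≠ p := fun h => hp (h ▸ hx)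
    have hxq : x ≠ q := fun h => hq (h ▸ hx)
    have hyp : y ≠ p := fun h => hp (h ▸ hy)
    have hyq : y ≠ q := fun h => hq (h ▸ hy)
    obtain ⟨k', hk'⟩ := exists_notMem_fin ({x, y, p, q} : Finset ι) (by
      have := Finset.card_le_four (a := x) (b := y) (c := p) (d := q); omega)
    obtain ⟨l', hl'⟩ := exists_notMem_fin ({x, y, p, q, k'} : Finset ι) (by
      have := Finset.card_le_five (a := x) (b := y) (c := p) (d := q) (e := k'); omega)
    simp only [Finset.mem_insert, Finset.mem_singleton, not_or] at hk' hl'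
    obtain ⟨α', β', i', h'⟩ := hcomb k' l' (fun h => hl'.2.2.2.2 h.symm)
    have kx : x ≠ i' → g x c = α' * g x a + β' * g x b :=
      fun h => h' x (Ne.symm hk'.1) (Ne.symm hl'.1) h
    have ky : y ≠ i' → g y c = α' * g y a + β' * g y b :=
      fun h => h' y (Ne.symm hk'.2.1) (Ne.symm hl'.2.1) h
    have kp : p ≠ i' → g p c = α' * g p a + β' * g p b :=
      fun h => h' p (Ne.symm hk'.2.2.1) (Ne.symm hl'.2.2.1) h
    have kq : q ≠ i' → g q c = α' * g q a + β' * g q b :=
      fun h => h' q (Ne.symm hk'.2.2.2) (Ne.symm hl'.2.2.2.1) h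
    refine ⟨α', β', ?_⟩
    by_cases hxi : x = i'
    · exact ⟨kp (fun h => hxp (hxi.trans h.symm)), kq (fun h => hxq (hxi.trans h.symm)),
        Or.inr (ky (fun h => hxy (hxi.trans h.symm)))⟩
    · by_cases hyi : y = i'
      · exact ⟨kp (fun h => hyp (hyi.trans h.symm)), kq (fun h => hyq (hyi.trans h.symm)),
          Or.inl (kx hxi)⟩
      · exfalso
        obtain ⟨e1, e2⟩ := comb_unique g a b c hNP α' β' α₀ β₀ x y hxy (kx hxi) (ky hyi) hx hy
        by_cases hpi : p = i'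
        · apply hq
          rw [← e1, ← e2]
          exact kq (fun h => hpq (hpi.trans h.symm))
        · apply hp
          rw [← e1, ← e2]
          exact kp hpi
  obtain ⟨α₁, β₁, p1, q1, o1⟩ := pair x₁ x₂ h12 hk₁ hk₂
  obtain ⟨α₂, β₂, p2, q2, o2⟩ := pair x₁ x₃ h13 hk₁ hk₃
  obtain ⟨α₃, β₃, p3, q3, o3⟩ := pair x₂ x₃ h23 hk₂ hk₃
  obtain ⟨e1, e2⟩ := comb_unique g a b c hNP α₂ β₂ α₁ β₁ p q hpq p2 q2 p1 q1
  obtain ⟨e3, e4⟩ := comb_unique g a b c hNP α₃ β₃ α₁ β₁ p q hpq p3 q3 p1 q1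
  rw [e1, e2] at o2
  rw [e3, e4] at o3
  -- `ψ = (α₁, β₁)` kills two of `x₁, x₂, x₃`, hence equals `φ₀`
  have fin : ∀ x y : ι, x ≠ y → g x c = α₀ * g x a + β₀ * g x b → g y c = α₀ * g y a + β₀ * g y b →
      g x c = α₁ * g x a + β₁ * g x b → g y c = α₁ * g y a + β₁ * g y b → False := by
    intro x y hxy hx hy hx' hy'
    obtain ⟨e5, e6⟩ := comb_unique g a b c hNP α₁ β₁ α₀ β₀ x y hxy hx' hy' hx hy
    apply hp
    rw [← e5, ← e6]
    exact p1
  rcases o1 with o1 | o1
  · rcases o3 with o3 | o3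
    · exact fin x₁ x₂ h12 hk₁ hk₂ o1 o3
    · exact fin x₁ x₃ h13 hk₁ hk₃ o1 o3
  · rcases o2 with o2 | o2
    · exact fin x₁ x₂ h12 hk₁ hk₂ o2 o1
    · exact fin x₂ x₃ h23 hk₂ hk₃ o1 o2

end Cfsg.Agent.Lib.Helper28.F6Leaf
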