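import Mathlib
import Cfsg.Agent.Lib.Helper18.UNdDefs
import Cfsg.Agent.Lib.Helper14.Unitary2
import Cfsg.Agent.Lib.Helper10.F6Main

/-!
helper28, S5801 (3) / S5655 `k = 1`, `q ≥ 3`: the UNITARY instantiation of helper10's dense kill for all `6 ≤ n`
(`Cfsg.Agent.Lib.Helper10.F6Main.not_worldW_six`).
* (U1) `hsym_of_GU`: in `GU_n(q)` the zero pattern is closed under inverse-transpose.
* (U2) `exists_nonmono_monoCol_six` = `Helper16.SUgDec10.exists_nonmono_monoCol_ten` with `6 ≤ n`.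
-/

set_option autoImplicit false
set_option linter.unusedSectionVars false

namespace Cfsg.Agent.Lib.Helper28.F6U
open Cfsg Matrix Cfsg.Agent.Lib.Helper11.Mono Cfsg.Agent.Lib.Helper15.MonoLeaf
  Cfsg.Agent.Lib.Helper18.UNd

variable {F : Type*} [Field F] [Fintype F] {n q : ℕ}

/-- (U1) in `GU_n(q)`: `y i j = 0 → y⁻¹ j i = 0` (indeed `y i j = (y⁻¹ j i) ^ q`). -/
theorem hsym_of_GU (hF : Fintype.card F = q ^ 2) (y : GL (Fin n) F) (hy : y ∈ Cfsg.GU n F q)
    (i j : Fin n) (h : (y : Matrix (Fin n) (Fin n) F) i j = 0) :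
    ((y⁻¹ : GL (Fin n) F) : Matrix (Fin n) (Fin n) F) j i = 0 := by
  have hq0 : q ≠ 0 := by
    intro h0
    rw [h0] at hF
    have : 1 < Fintype.card F := Fintype.one_lt_card
    rw [hF] at this
    norm_num at this
  have hU : ∀ x z : Fin n → F,
      Cfsg.hermForm n F q ((y : Matrix (Fin n) (Fin n) F) *ᵥ x) ((y : Matrix (Fin n) (Fin n) F) *ᵥ z) =
        Cfsg.hermForm n F q x z := fun x z => hy x z
  have e1 : (y : Matrix (Fin n) (Fin n) F) *ᵥ
      (((y⁻¹ : GL (Fin n) F) : Matrix (Fin n) (Fin n) F) *ᵥ (Pi.single i (1 : F))) = Pi.single i (1 : F) := by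
    rw [Matrix.mulVec_mulVec, ← Units.val_mul, mul_inv_cancel, Units.val_one, Matrix.one_mulVec]
  have e2 := hU (Pi.single j (1 : F))
    (((y⁻¹ : GL (Fin n) F) : Matrix (Fin n) (Fin n) F) *ᵥ (Pi.single i (1 : F)))
  rw [e1, herm_single_right hq0, herm_single_left, Matrix.mulVec_single_one, Matrix.mulVec_single_one] at e2
  simp only [Matrix.col_apply] at e2
  rw [h] at e2
  exact (pow_eq_zero_iff hq0).1 e2.symm

/-- (U2) L0 for `6 ≤ n`: the dense case is impossible, so a non-monomial element with a monomial column exists. -/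
theorem exists_nonmono_monoCol_six (hF : Fintype.card F = q ^ 2) (hq : 3 ≤ q) (hn : 6 ≤ n)
    (M : Subgroup (GL (Fin n) F))
    (hM : M ≤ Cfsg.GU n F q ⊓ Cfsg.Geo.specialLinear (Fin n) F) (hH : ContainsMonoU n q M)
    (g : GL (Fin n) F) (hg : g ∈ M) (hnm : ¬ IsMono (g : Matrix (Fin n) (Fin n) F)) :
    ∃ h ∈ M, ¬ IsMono (h : Matrix (Fin n) (Fin n) F) ∧ HasMonoCol (h : Matrix (Fin n) (Fin n) F) := by
  classical
  set Θ : Subgroup Fˣ := Cfsg.Agent.Lib.Helper14.normOne F q with hΘdef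
  have hcard : Nat.card Θ = q + 1 := Cfsg.Agent.Lib.Helper14.card_normOne hF
  have hΘ4 : 4 ≤ Nat.card Θ := by omega
  have hT : Cfsg.Agent.Lib.Helper18.UDense.HasTorus Θ M := by
    intro c c' hcc ε hε
    exact dg_tcc_mem_M hH hcc ((Cfsg.Agent.Lib.Helper14.mem_normOne ε).mp hε)
  obtain ⟨r, hr, hrd⟩ : ∃ r : ℕ, r.Prime ∧ r ∣ q + 1 := Nat.exists_prime_and_dvd (by omega)
  have : Fact r.Prime := ⟨hr⟩
  have : Finite Θ := Nat.finite_of_card_ne_zero (by omega)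
  obtain ⟨ζ, hζ⟩ := exists_prime_orderOf_dvd_card' (G := Θ) r (by rw [hcard]; exact hrd)
  have hζ' : orderOf (ζ : Fˣ) = r := by rw [Subgroup.orderOf_coe]; exact hζ
  have hnW := Cfsg.Agent.Lib.Helper10.F6Main.not_worldW_six (ι := Fin n) (by simpa using hn) Θ hΘ4 M hT
    (fun y hy i j h => hsym_of_GU hF y (hM hy).1 i j h)
    (ζ : Fˣ) ζ.2 r hr hζ' g hg hnm
  unfold WorldW at hnW
  push Not at hnW
  obtain ⟨h, hh, hcol, hnmh⟩ := hnW
  exact ⟨h, hh, hnmh, hcol⟩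

end Cfsg.Agent.Lib.Helper28.F6U
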