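/-
helper28: exported facts about the presented Fischer group `Cfsg.Spor.Fi23` (= `PresentedGroup rels`, the
Coxeter-type presentation of the Prelude) extracted from the proof of S1697, for other seats (helper4, S5588):
the permutation representation on the 31671 cosets of `⟨a,…,i⟩` (all generators but `j`) is FAITHFUL, the order
of the group, and "a word is trivial as soon as its path fixes the 31671 points".
-/
import Cfsg.Agent.Lib.Helper28.TCFi23Tower
import Cfsg.Agent.Lib.Helper28.TCFi23BMain
import Cfsg.Agent.Lib.Helper28.TC2Simple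

set_option autoImplicit false
set_option maxRecDepth 100000
open Cfsg

namespace Cfsg.Agent.Lib.Helper28.Fi23Faithful

open Cfsg.Agent.Lib.Helper28.TC2Upper Cfsg.Agent.Lib.Helper28.TC2Lower Cfsg.Agent.Lib.Helper28.TC2Orbit
  Cfsg.Agent.Lib.Helper28.TC2Glue Cfsg.Agent.Lib.Helper28.TC2GlueOrb Cfsg.Agent.Lib.Helper28.TC2Simple
  Cfsg.Agent.Lib.Helper28.TC2Bsgs Cfsg.Agent.Lib.Helper28.TC2Tower
open Cfsg.Agent.Lib.Helper28.TCFi23W0Table Cfsg.Agent.Lib.Helper28.TCFi23W0Link
  Cfsg.Agent.Lib.Helper28.TCFi23W0Main

/-- the coset action of `Fi23 = PresentedGroup rels` on the `31671` cosets of `⟨a,…,i⟩`, given on the generators by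
the columns of the coset table, is faithful; and the order of the group. -/
theorem exists_faithful :
    ∃ φ : PresentedGroup rels →* Equiv.Perm (Fin table.n),
      (∀ x, φ (PresentedGroup.of x) = Table.sigma hT (lw (x, true))) ∧ Function.Injective φ ∧
      Nat.card (PresentedGroup rels) = 4089470473293004800 := by
  obtain ⟨hidx, φ, hφ, f, hbij, hequiv, h0⟩ := Cfsg.Agent.Lib.Helper28.TCFi23W0Main.main
  obtain ⟨hfin, hle⟩ := Cfsg.Agent.Lib.Helper28.TCFi23Tower.card0
  haveI : Finite (PresentedGroup rels) := hfin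
  have hlow : 4089470473293004800 ≤ Nat.card φ.range :=
    le_trans Cfsg.Agent.Lib.Helper28.TCFi23BMain.card_base
      (card_baseGroup_le hT Cfsg.Agent.Lib.Helper28.TCFi23BMain.hTB rfl (by decide)
        Cfsg.Agent.Lib.Helper28.TCFi23BMain.hagree φ.range (sigma_mem_range link hT φ hφ))
  obtain ⟨hinj, hcard⟩ := injective_of_card_le φ hle hlow
  exact ⟨φ, hφ, hinj, hcard⟩

/-- **word problem by the table**: a word in the ten generators whose path (letters `lw (x, b)`) fixes every one of
the `31671` points is trivial in `Fi23`. -/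
theorem mk_eq_one_of_walk (L : List (Cfsg.Spor.Fi23.Gen × Bool))
    (h : ∀ p, p < table.n → table.walkT (pathOf lw L) p = p) :
    PresentedGroup.mk rels (FreeGroup.mk L) = 1 := by
  obtain ⟨φ, hφ, hinj, _⟩ := exists_faithful
  apply hinj
  rw [map_one]
  exact phi_mk_eq_one link hT φ hφ L h

/-- two words with the same action on the `31671` points are equal in `Fi23`. -/
theorem mk_eq_mk_of_walk (L L' : List (Cfsg.Spor.Fi23.Gen × Bool))
    (h : ∀ p, p < table.n → table.walkT (pathOf lw L) p = table.walkT (pathOf lw L') p) :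
    PresentedGroup.mk rels (FreeGroup.mk L) = PresentedGroup.mk rels (FreeGroup.mk L') := by
  obtain ⟨φ, hφ, hinj, _⟩ := exists_faithful
  apply hinj
  ext p
  rw [phi_mk_apply link hT φ hφ, phi_mk_apply link hT φ hφ, h p.val p.2]

theorem rels_eq : (Cfsg.Spor.Fi23 : Type) = PresentedGroup rels := rfl

end Cfsg.Agent.Lib.Helper28.Fi23Faithful
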