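import Cfsg.Agent.Lib.Helper28.Fi24Transp
import Cfsg.Agent.S1698

set_option autoImplicit false
set_option maxRecDepth 100000
set_option linter.style.haveILetI false

/-!
# The subgroup Fi₂₃ of the presented Fi₂₄

The presented group `PN` of `F23NIso` (the Coxeter relations of `Y342` and `(abcdefh)^9 = 1`), which is
isomorphic to Fi₂₃, embeds into the presented Fi₂₄ by `x ↦ l * x`. The image lies in the centraliser `H0` of the
transposition `l` and in the commutator subgroup.
-/

namespace Cfsg.Agent.Lib.Helper28.Fi24Fi23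
open Cfsg Cfsg.Spor Cfsg.Agent.Lib.Helper28.TC2Tower Cfsg.Agent.Lib.Helper28.TC2Glue
open Cfsg.Agent.Lib.Helper28.TC2Upper Cfsg.Agent.Lib.Helper28.TC2Lower Cfsg.Agent.Lib.Helper28.TC2Simple
open Cfsg.Agent.Lib.Helper28.Fi24GlueA Cfsg.Agent.Lib.Helper28.F23NIso Cfsg.Agent.Lib.Helper28.Fi24Upper
open Cfsg.Agent.Lib.Helper28.TCFi24Table Cfsg.Agent.Lib.Helper28.TCFi24Link Cfsg.Agent.Lib.Helper28.TCFi24Main
open Cfsg.Agent.Lib.Helper28.Fi24Transp

section Abstract
variable {G : Type*} [Group G] {α : Type*}

/-- twisting the images of the generators by a commuting involution multiplies the image of a word by a power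
of the involution -/
theorem lift_twist (z : G) (f : α → G) (hz : z * z = 1) (hc : ∀ x, f x * z = z * f x)
    (L : List (α × Bool)) :
    FreeGroup.lift (fun x => z * f x) (FreeGroup.mk L) =
      z ^ L.length * FreeGroup.lift f (FreeGroup.mk L) := by
  induction L with
  | nil =>
    have e : (FreeGroup.mk ([] : List (α × Bool))) = 1 := rfl
    rw [e, map_one, map_one, List.length_nil, pow_zero, one_mul]
  | cons xb L ih =>
    obtain ⟨x, b⟩ := xb
    have e : FreeGroup.mk ((x, b) :: L) = FreeGroup.mk [(x, b)] * FreeGroup.mk L := by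
      rw [FreeGroup.mul_mk]; rfl
    rw [e, map_mul, map_mul, ih, List.length_cons]
    have hzi : z⁻¹ = z := inv_eq_of_mul_eq_one_right hz
    have hcomm : Commute (f x) z := hc x
    cases b
    · have e1 : FreeGroup.mk [(x, false)] = (FreeGroup.of x)⁻¹ := by
        show _ = (FreeGroup.mk [(x, true)])⁻¹
        rw [FreeGroup.inv_mk]; rfl
      have hci : (f x)⁻¹ * z ^ (L.length + 1) = z ^ (L.length + 1) * (f x)⁻¹ :=
        (hcomm.inv_left.pow_right (L.length + 1))
      rw [e1, map_inv, map_inv, FreeGroup.lift_apply_of, FreeGroup.lift_apply_of, mul_inv_rev, hzi]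
      calc (f x)⁻¹ * z * (z ^ L.length * FreeGroup.lift f (FreeGroup.mk L))
          = (f x)⁻¹ * (z * z ^ L.length) * FreeGroup.lift f (FreeGroup.mk L) := by simp only [mul_assoc]
        _ = (f x)⁻¹ * z ^ (L.length + 1) * FreeGroup.lift f (FreeGroup.mk L) := by rw [← pow_succ']
        _ = z ^ (L.length + 1) * (f x)⁻¹ * FreeGroup.lift f (FreeGroup.mk L) := by rw [hci]
        _ = z ^ (L.length + 1) * ((f x)⁻¹ * FreeGroup.lift f (FreeGroup.mk L)) := by rw [mul_assoc]
    · have e1 : FreeGroup.mk [(x, true)] = FreeGroup.of x := rfl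
      have hci : f x * z ^ L.length = z ^ L.length * f x := hcomm.pow_right L.length
      rw [e1, FreeGroup.lift_apply_of, FreeGroup.lift_apply_of]
      calc z * f x * (z ^ L.length * FreeGroup.lift f (FreeGroup.mk L))
          = z * (f x * z ^ L.length) * FreeGroup.lift f (FreeGroup.mk L) := by simp only [mul_assoc]
        _ = z * (z ^ L.length * f x) * FreeGroup.lift f (FreeGroup.mk L) := by rw [hci]
        _ = z * z ^ L.length * (f x * FreeGroup.lift f (FreeGroup.mk L)) := by simp only [mul_assoc]
        _ = z ^ (L.length + 1) * (f x * FreeGroup.lift f (FreeGroup.mk L)) := by rw [← pow_succ']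

end Abstract

theorem cox_even : ∀ L ∈ coxWords Cfsg.Agent.Lib.Helper28.TCF23NW0Def.edges, L.length % 2 = 0 := by
  decide +kernel

theorem z24_sq : z24 * z24 = 1 := by
  have := hz2
  rwa [pow_two] at this

/-- the twisted images of the generators of `PN` satisfy its relators -/
theorem psi_rel : ∀ r ∈ relsN, FreeGroup.lift (fun x => z24 * f24 x) r = 1 := by
  intro r hr
  obtain ⟨L, hL, rfl⟩ := (Cfsg.Agent.Lib.Helper28.TCF23NW0Link.link.hrels r).mp hr
  rw [lift_twist z24 f24 z24_sq hcomm L]
  have e0 : FreeGroup.lift f24 (FreeGroup.mk L) =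
      PresentedGroup.mk rels24 (FreeGroup.mk (upWord up24 L)) := by
    rw [← map_mk]; exact lift_of_up rels24 up24 _
  rw [pow_eq_pow_mod L.length hz2, e0]
  rcases List.mem_append.mp hL with h | h
  · rw [cox_even L h, pow_zero, one_mul]
    exact PresentedGroup.one_of_mem
      ((Cfsg.Agent.Lib.Helper28.TCFi24Link.link.hrels _).mpr ⟨_, up24_cox L h, rfl⟩)
  · unfold Cfsg.Agent.Lib.Helper28.TCF23NW0Link.extraWords at h
    rw [List.mem_singleton] at h
    subst h
    have hmem : Fi24.l * (((Fi24.a * Fi24.b * Fi24.c * Fi24.d * Fi24.e * Fi24.f * Fi24.h) ^ 9)⁻¹) ∈ rels24 := by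
      refine Or.inr ?_
      show _ ∈ Fi24.extra
      unfold Fi24.extra
      exact List.mem_cons_self
    have h1 := PresentedGroup.one_of_mem hmem
    rw [map_mul, map_inv, mul_inv_eq_one] at h1
    have h2 : PresentedGroup.mk rels24 ((Fi24.a * Fi24.b * Fi24.c * Fi24.d * Fi24.e * Fi24.f * Fi24.h) ^ 9) = z24 :=
      h1.symm
    have hlen : ∀ (A : List (GenN × Bool)), A.length = 63 → z24 ^ (A.length % 2) = z24 := by
      intro A hA
      rw [hA]; exact pow_one _
    rw [hlen _ rfl]
    exact (congrArg (fun t => z24 * t) h2).trans z24_sq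

/-- the embedding of `PN ≅ Fi₂₃` into the presented Fi₂₄ -/
noncomputable def psi : PN →* Fi24 := PresentedGroup.toGroup psi_rel

theorem psi_of (x : GenN) : psi (PresentedGroup.of x) = z24 * f24 x :=
  PresentedGroup.toGroup.of psi_rel

theorem f24_mem (x : GenN) : f24 x ∈ H0 := by
  cases x <;> exact Subgroup.mem_map_of_mem _ (Subgroup.subset_closure (by simp [S, up24]))

/-- the image lies in the centraliser of the transposition `l` -/
theorem range_le_H0 : psi.range ≤ H0 := by
  rw [MonoidHom.range_eq_map, ← PresentedGroup.closure_range_of, MonoidHom.map_closure, Subgroup.closure_le]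
  rintro _ ⟨_, ⟨x, rfl⟩, rfl⟩
  rw [psi_of]
  exact H0.mul_mem zl_mem (f24_mem x)

/-- the image lies in the commutator subgroup -/
theorem range_le_commutator : psi.range ≤ commutator Fi24 := by
  rw [MonoidHom.range_eq_map, ← perfect, commutator_def, Subgroup.map_commutator, commutator_def]
  exact Subgroup.commutator_mono le_top le_top

theorem theta_bijective : Function.Bijective theta := by
  obtain ⟨hfin, hcard⟩ := card_PN
  haveI := hfin
  rw [Nat.bijective_iff_surjective_and_card]
  exact ⟨theta_surj, by rw [hcard, Cfsg.Agent.S1697.result.2]⟩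

/-- `PN` is isomorphic to the presented Fi₂₃ -/
noncomputable def thetaEquiv : PN ≃* Fi23 := MulEquiv.ofBijective theta theta_bijective

theorem isSimpleGroup_PN : IsSimpleGroup PN := by
  haveI := Cfsg.Agent.S1697.result.1
  exact thetaEquiv.isSimpleGroup

theorem hlane : table.walkT (pathOf lw [(.l, true), (.a, true)]) 1 ≠ 1 := by decide +kernel

theorem psi_injective : Function.Injective psi := by
  haveI := isSimpleGroup_PN
  rw [← MonoidHom.ker_eq_bot_iff]
  rcases (inferInstance : psi.ker.Normal).eq_bot_or_eq_top with h | h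
  · exact h
  · exfalso
    obtain ⟨φ, f, hφ, -⟩ := facts
    have h1 : psi (PresentedGroup.of .a) = 1 := by
      rw [← MonoidHom.mem_ker, h]; exact Subgroup.mem_top _
    rw [psi_of] at h1
    have e : z24 * f24 .a = PresentedGroup.mk rels (FreeGroup.mk [(.l, true), (.a, true)]) := by
      show PresentedGroup.mk rels (FreeGroup.mk [(.l, true)]) * PresentedGroup.mk rels (FreeGroup.mk [(.a, true)]) = _
      rw [← map_mul, FreeGroup.mul_mk]; rfl
    rw [e] at h1
    have h2 := phi_mk_apply link hT φ hφ [(.l, true), (.a, true)] ⟨1, by decide⟩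
    rw [h1, map_one] at h2
    exact hlane h2.symm

/-- the image is a simple group of the order of Fi₂₃ -/
theorem isFi23_range : Cfsg.IsFi23 psi.range := by
  have e : PN ≃* psi.range := MonoidHom.ofInjective psi_injective
  haveI := isSimpleGroup_PN
  exact ⟨e.symm.isSimpleGroup, by rw [← card_PN.2]; exact Nat.card_congr e.symm.toEquiv⟩

/-- the embedding of the presented Fi₂₃ into the presented Fi₂₄ -/
noncomputable def psi23 : Fi23 →* Fi24 := psi.comp thetaEquiv.symm.toMonoidHom

theorem psi23_of (x : GenN) :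
    psi23 (PresentedGroup.of (up x)) = PresentedGroup.of Fi24.Gen.l * PresentedGroup.of (up24 x) := by
  have e : thetaEquiv.symm (PresentedGroup.of (up x)) = PresentedGroup.of x := by
    rw [MulEquiv.symm_apply_eq]
    exact (theta_of x).symm
  show psi (thetaEquiv.symm (PresentedGroup.of (up x))) = _
  rw [e, psi_of]
  rfl

theorem psi23_injective : Function.Injective psi23 :=
  psi_injective.comp thetaEquiv.symm.injective

theorem psi23_range : psi23.range = psi.range := by
  ext y
  constructor
  · rintro ⟨x, rfl⟩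
    exact ⟨thetaEquiv.symm x, rfl⟩
  · rintro ⟨x, rfl⟩
    exact ⟨thetaEquiv x, by show psi (thetaEquiv.symm (thetaEquiv x)) = _; rw [MulEquiv.symm_apply_apply]⟩

/-- a subgroup of type Fi₂₃ in the centraliser of the transposition `l` -/
theorem exists_fi23_le_H0 : ∃ K0 : Subgroup Fi24, K0 ≤ H0 ∧ Cfsg.IsFi23 K0 :=
  ⟨psi.range, range_le_H0, isFi23_range⟩

/-- a subgroup of type Fi₂₃ in the commutator subgroup -/
theorem exists_fi23_commutator : ∃ K : Subgroup ↥(commutator Fi24), Cfsg.IsFi23 K := by
  refine ⟨psi.range.subgroupOf (commutator Fi24), ?_⟩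
  have e : psi.range.subgroupOf (commutator Fi24) ≃* psi.range :=
    Subgroup.subgroupOfEquivOfLe range_le_commutator
  obtain ⟨hs, hcard⟩ := isFi23_range
  haveI := hs
  exact ⟨e.isSimpleGroup, by rw [← hcard]; exact Nat.card_congr e.toEquiv⟩

/-- The realisation of Fi₂₄ as a 3-transposition group, given a subgroup of type He of its commutator subgroup. -/
theorem realization (hHe : ∃ K : Subgroup ↥(commutator Fi24), Cfsg.IsHe K) :
    ∃ (G : Type) (_ : Group G) (_ : Finite G), Nat.card G = 2 * 1255205709190661721292800 ∧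
      ∃ D : Set G, Cfsg.IsThreeTranspositionClass D ∧ Nat.card D = 306936 ∧
        (∀ d ∈ D, Nat.card (Subgroup.centralizer ({d} : Set G)) = 2 * 4089470473293004800 ∧
          ∃ K : Subgroup G, K ≤ Subgroup.centralizer ({d} : Set G) ∧ Cfsg.IsFi23 K) ∧
        ∃ H : Subgroup G, H.index = 2 ∧ Cfsg.IsFi24' H ∧ (∃ K : Subgroup H, Cfsg.IsFi23 K) ∧
          (∃ K : Subgroup H, Cfsg.IsHe K) := by
  obtain ⟨hfin, hcard, -⟩ := Cfsg.Agent.Lib.Helper28.Fi24Transp.main
  obtain ⟨K0, hK0, h23⟩ := exists_fi23_le_H0
  obtain ⟨D, hD, hcardD, hcent⟩ := transposition_half K0 hK0 h23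
  exact ⟨Fi24, inferInstance, hfin, hcard, D, hD, hcardD, hcent, commutator Fi24, Cfsg.Agent.S1691.result,
    Cfsg.Agent.S1698.result, exists_fi23_commutator, hHe⟩

end Cfsg.Agent.Lib.Helper28.Fi24Fi23
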