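import Cfsg.Agent.Lib.Helper28.TCGlue
import Cfsg.Agent.Lib.Helper28.TCOrbit
set_option autoImplicit false

/-!
# Verified coset enumeration: suborbits of a presented group on the cosets of a subgroup
-/

namespace Cfsg.Agent.Lib.Helper28.TCGlueOrb
open Cfsg.Agent.Lib.Helper28.TCUpper Cfsg.Agent.Lib.Helper28.TCLower Cfsg.Agent.Lib.Helper28.TCGlue
open Cfsg.Agent.Lib.Helper28.TCOrbit

variable {α : Type} {rels S : Set (FreeGroup α)} {relWords subWords : List (List (α × Bool))}
  {lw : α × Bool → ℕ} {dec : ℕ → α × Bool} {D : Data} {T : Table}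

theorem map_eq_permGroup (hL : Link rels S relWords subWords lw dec D T) (hT : T.OK)
    (φ : PresentedGroup rels →* Equiv.Perm (Fin T.n))
    (hφ : ∀ x, φ (PresentedGroup.of x) = Table.sigma hT (lw (x, true)))
    (subPaths : List (List ℕ)) (h1 : ∀ L ∈ subWords, pathOf lw L ∈ subPaths)
    (h2 : ∀ s ∈ subPaths, ∃ L ∈ subWords, s = pathOf lw L) :
    ((Subgroup.closure S).map (PresentedGroup.mk rels)).map φ = permGroup hT subPaths := by
  have hσ : ∀ x b, Table.sigma hT (lw (x, b)) =
      cond b (Table.sigma hT (lw (x, true))) (Table.sigma hT (lw (x, true)))⁻¹ := by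
    intro x b
    cases b with
    | true => rfl
    | false =>
      show Table.sigma hT (lw (x, false)) = (Table.sigma hT (lw (x, true)))⁻¹
      rw [hL.lwinv, ← hL.Tinv, Table.sigma_inv hT (by rw [hL.Tk]; exact hL.lwk _)]
  have hcomp : φ.comp (PresentedGroup.mk rels) = FreeGroup.lift (fun x => Table.sigma hT (lw (x, true))) := by
    apply FreeGroup.ext_hom
    intro x
    rw [MonoidHom.comp_apply, FreeGroup.lift_apply_of]
    exact hφ x
  have hval : ∀ L : List (α × Bool), φ (PresentedGroup.mk rels (FreeGroup.mk L)) =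
      pathProd (Table.sigma hT) (pathOf lw L) := by
    intro L
    rw [← MonoidHom.comp_apply, hcomp]
    exact lift_mk_eq_pathProd _ lw _ hσ L
  rw [Subgroup.map_map, MonoidHom.map_closure]
  unfold permGroup
  congr 1
  ext π
  simp only [Set.mem_image, Set.mem_setOf_eq]
  constructor
  · rintro ⟨s, hs, rfl⟩
    obtain ⟨L, hLm, rfl⟩ := (hL.hS s).mp hs
    exact ⟨pathOf lw L, h1 L hLm, by rw [MonoidHom.comp_apply, hval]⟩
  · rintro ⟨s, hs, rfl⟩
    obtain ⟨L, hLm, rfl⟩ := h2 s hs
    exact ⟨FreeGroup.mk L, (hL.hS _).mpr ⟨L, hLm, rfl⟩, by rw [MonoidHom.comp_apply, hval]⟩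

/-- the image of a suborbit under an equivariant map -/
theorem image_orbit {G : Type*} [Group G] (H : Subgroup G) {n : ℕ} (φ : G →* Equiv.Perm (Fin n))
    (f : G ⧸ H → Fin n) (hequiv : ∀ g q, f (g • q) = φ g (f q)) (q : G ⧸ H) :
    f '' (MulAction.orbit H q) = {p | ∃ π ∈ H.map φ, p = π (f q)} := by
  ext p
  simp only [Set.mem_image, Set.mem_setOf_eq, Subgroup.mem_map]
  constructor
  · rintro ⟨x, ⟨h, rfl⟩, rfl⟩
    exact ⟨φ h, ⟨h, h.2, rfl⟩, hequiv h q⟩
  · rintro ⟨π, ⟨h, hh, rfl⟩, rfl⟩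
    exact ⟨(⟨h, hh⟩ : H) • q, ⟨⟨h, hh⟩, rfl⟩, hequiv h q⟩

/-- sizes of the suborbits, and a criterion for two suborbits to differ -/
theorem suborbits (hL : Link rels S relWords subWords lw dec D T) (hT : T.OK)
    (φ : PresentedGroup rels →* Equiv.Perm (Fin T.n))
    (hφ : ∀ x, φ (PresentedGroup.of x) = Table.sigma hT (lw (x, true)))
    (f : PresentedGroup rels ⧸ (Subgroup.closure S).map (PresentedGroup.mk rels) → Fin T.n)
    (hbij : Function.Bijective f) (hequiv : ∀ g q, f (g • q) = φ g (f q))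
    (O : OrbData) (subPaths : List (List ℕ)) (h1 : ∀ L ∈ subWords, pathOf lw L ∈ subPaths)
    (h2 : ∀ s ∈ subPaths, ∃ L ∈ subWords, s = pathOf lw L)
    (hclosed : ∀ p, p < T.n → ∀ s ∈ subPaths, O.oid (T.walkT s p) = O.oid p)
    (hgens : BT.All (fun s => s ∈ subPaths) O.gens)
    (hconn : ∀ p, p < T.n →
      (O.depth p = 0 ∧ O.roots.look (O.oid p) = p) ∨
      (O.depth p ≠ 0 ∧ O.parent p < T.n ∧ O.oid (O.parent p) = O.oid p ∧
        O.depth (O.parent p) + 1 = O.depth p ∧ T.walkT (O.gens.look (O.gen p)) (O.parent p) = p))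
    (q : PresentedGroup rels ⧸ (Subgroup.closure S).map (PresentedGroup.mk rels)) :
    (MulAction.orbit ((Subgroup.closure S).map (PresentedGroup.mk rels)) q).ncard =
        O.count T.n (O.oid (f q).val) ∧
      ∀ q', MulAction.orbit ((Subgroup.closure S).map (PresentedGroup.mk rels)) q' =
        MulAction.orbit ((Subgroup.closure S).map (PresentedGroup.mk rels)) q →
          O.oid (f q').val = O.oid (f q).val := by
  have hlt : ∀ s ∈ subPaths, ∀ l ∈ s, l < T.k := by
    intro s hs l hl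
    obtain ⟨L, _, rfl⟩ := h2 s hs
    unfold pathOf at hl
    rw [List.mem_reverse, List.mem_map] at hl
    obtain ⟨xb, _, rfl⟩ := hl
    rw [hL.Tk]; exact hL.lwk _
  have himg : ∀ q, f '' (MulAction.orbit ((Subgroup.closure S).map (PresentedGroup.mk rels)) q) =
      {p : Fin T.n | O.oid p.val = O.oid (f q).val} := by
    intro q
    rw [image_orbit _ φ f hequiv q, map_eq_permGroup hL hT φ hφ subPaths h1 h2]
    exact orbit_eq hT hlt hclosed hgens hconn (f q)
  constructor
  · rw [← Set.ncard_image_of_injective _ hbij.1, himg, ncard_class]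
  · intro q' hq'
    have : f q' ∈ f '' (MulAction.orbit ((Subgroup.closure S).map (PresentedGroup.mk rels)) q) := by
      rw [← hq']
      exact ⟨q', MulAction.mem_orbit_self q', rfl⟩
    rw [himg] at this
    exact this

end Cfsg.Agent.Lib.Helper28.TCGlueOrb
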