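import Cfsg.Agent.Lib.Helper28.TCHeTable
set_option autoImplicit false
set_option maxRecDepth 100000
set_option maxHeartbeats 0

namespace Cfsg.Agent.Lib.Helper28.TCHeL0
open Cfsg.Agent.Lib.Helper28.TCUpper Cfsg.Agent.Lib.Helper28.TCLower Cfsg.Agent.Lib.Helper28.TCHeTable

theorem rel0 : table.relOK relPaths 0 868 = true := by decide +kernel
theorem rel1 : table.relOK relPaths 868 868 = true := by decide +kernel
theorem rel2 : table.relOK relPaths 1736 322 = true := by decide +kernel

end Cfsg.Agent.Lib.Helper28.TCHeL0
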