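import Cfsg.Agent.Lib.Helper28.Fi24Words
import Cfsg.Agent.S1695

set_option autoImplicit false
set_option maxRecDepth 100000
set_option linter.style.haveILetI false

/-!
# Subgroups of type He in the presented Fi₂₄ from words

Seven words in the generators of Fi₂₄ that satisfy the relators of the presented Held group on the eleven base
points, one of them moving a point, give a subgroup of type He of the commutator subgroup.
-/

namespace Cfsg.Agent.Lib.Helper28.Fi24He
open Cfsg.Agent.Lib.Helper28.TC2Upper Cfsg.Agent.Lib.Helper28.TC2Lower Cfsg.Agent.Lib.Helper28.TC2Glue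
open Cfsg.Agent.Lib.Helper28.TCFi24Table Cfsg.Agent.Lib.Helper28.TCFi24Link Cfsg.Agent.Lib.Helper28.TCFi24FinalChk
open Cfsg.Agent.Lib.Helper28.Fi24Transp Cfsg.Agent.Lib.Helper28.Fi24Words

/-- a subgroup of type He of the commutator subgroup of Fi₂₄ from seven words -/
theorem exists_isHe_of_words (img : Cfsg.Spor.He.Gen → List (Cfsg.Spor.Fi24.Gen × Bool))
    (hfix : ∀ L ∈ Cfsg.Agent.Lib.Helper3.TCX.HeBLink.relWords, ∀ b ∈ base,
      table.walkT (pathOf lw (substWord img L)) b = b)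
    (x0 : Cfsg.Spor.He.Gen) (p : ℕ) (hp : p < table.n)
    (hne : table.walkT (pathOf lw (img x0)) p ≠ p) :
    ∃ K : Subgroup ↥(commutator Cfsg.Spor.Fi24), Cfsg.IsHe K := by
  obtain ⟨hs, hcard⟩ := Cfsg.Agent.S1695.result
  haveI := hs
  haveI : Finite Cfsg.Spor.He := Nat.finite_of_card_ne_zero (by rw [hcard]; norm_num)
  obtain ⟨ψ, hψ⟩ := exists_hom_of_words Cfsg.Agent.Lib.Helper3.TCX.HeBLink.rels
    Cfsg.Agent.Lib.Helper3.TCX.HeBLink.relWords Cfsg.Agent.Lib.Helper3.TCX.HeBLink.link.hrels img hfix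
  obtain ⟨K, ⟨e⟩⟩ := exists_copy_in_commutator (P := Cfsg.Spor.He) (by rw [hcard]; norm_num) ψ
    (PresentedGroup.of x0) (by rw [hψ]; exact mk_ne_one_of_move _ p hp hne)
  haveI : IsSimpleGroup Cfsg.Spor.He := hs
  exact ⟨K, e.isSimpleGroup, by rw [← hcard]; exact Nat.card_congr e.toEquiv⟩

end Cfsg.Agent.Lib.Helper28.Fi24He
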