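import Cfsg.Agent.Lib.Helper28.TC2Cover
set_option autoImplicit false

/-!
# Classes of 3-transpositions from a rank 3 action

The conjugacy class of an involution `z` whose centraliser `H` has a rank 3 action on its cosets is a
class of 3-transpositions as soon as this holds for one representative of each double coset.
-/

namespace Cfsg.Agent.Lib.Helper28.TC2Transp

section Abstract
variable {G : Type*} [Group G]

theorem sq_of_comm {z e : G} (hz : z * z = 1) (he : e * e = 1) (h : z * e = e * z) :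
    (z * e) ^ 2 = 1 := by
  rw [pow_two]
  calc z * e * (z * e) = z * (e * z) * e := by group
    _ = z * (z * e) * e := by rw [h]
    _ = (z * z) * (e * e) := by group
    _ = 1 := by rw [hz, he, one_mul]

theorem cube_of_braid {z e : G} (hz : z * z = 1) (he : e * e = 1) (h : z * e * z = e * z * e) :
    (z * e) ^ 3 = 1 := by
  have e1 : (z * e) ^ 3 = (z * e * z) * (e * z * e) := by
    rw [pow_succ, pow_two]; group
  rw [e1, h]
  calc e * z * e * (e * z * e) = e * z * (e * e) * z * e := by group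
    _ = e * (z * z) * e := by rw [he]; group
    _ = 1 := by rw [hz, mul_one, he]

/-- conjugates of an involution are involutions -/
theorem conj_mul_self {z : G} (hz : z * z = 1) (g : G) : (g * z * g⁻¹) * (g * z * g⁻¹) = 1 := by
  calc (g * z * g⁻¹) * (g * z * g⁻¹) = g * (z * z) * g⁻¹ := by group
    _ = 1 := by rw [hz]; group

/-- the commuting case, from a membership in the centraliser -/
theorem sq_of_mem (H : Subgroup G) (z : G) (hzH : ∀ h ∈ H, h * z = z * h) (hz : z * z = 1) (y : G)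
    (h : y⁻¹ * z * y ∈ H) : (z * (y * z * y⁻¹)) ^ 2 = 1 := by
  apply sq_of_comm hz (conj_mul_self hz y)
  have h1 := hzH _ h
  calc z * (y * z * y⁻¹) = y * (y⁻¹ * z * y * z) * y⁻¹ := by group
    _ = y * (z * (y⁻¹ * z * y)) * y⁻¹ := by rw [h1]
    _ = y * z * y⁻¹ * z := by group

/-- the braid case, from a membership in the centraliser -/
theorem cube_of_mem (H : Subgroup G) (z : G) (hzH : ∀ h ∈ H, h * z = z * h) (hz : z * z = 1) (y : G)
    (h : y⁻¹ * z * y * z * y⁻¹ ∈ H) : (z * (y * z * y⁻¹)) ^ 3 = 1 := by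
  apply cube_of_braid hz (conj_mul_self hz y)
  have hzi : z⁻¹ = z := inv_eq_of_mul_eq_one_right hz
  have h1 := hzH _ h
  -- (z y) z (z y)⁻¹ = (y z y⁻¹) z (y z y⁻¹)⁻¹
  have h2 : (z * y) * (y⁻¹ * z * y * z * y⁻¹ * z) * (y * z⁻¹ * y⁻¹ * z⁻¹ * y) * (z * y)⁻¹ =
      (z * y) * (z * (y⁻¹ * z * y * z * y⁻¹)) * (y * z⁻¹ * y⁻¹ * z⁻¹ * y) * (z * y)⁻¹ := by rw [h1]
  have l : (z * y) * (y⁻¹ * z * y * z * y⁻¹ * z) * (y * z⁻¹ * y⁻¹ * z⁻¹ * y) * (z * y)⁻¹ =
      z * z * y * z * y⁻¹ * z * y * z⁻¹ * y⁻¹ * z⁻¹ * z⁻¹ := by group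
  have r : (z * y) * (z * (y⁻¹ * z * y * z * y⁻¹)) * (y * z⁻¹ * y⁻¹ * z⁻¹ * y) * (z * y)⁻¹ =
      z * y * z * y⁻¹ * z⁻¹ := by group
  rw [l, r, hzi, hz, one_mul] at h2
  -- h2 : y z y⁻¹ z y z y⁻¹ z z = z y z y⁻¹ z
  have h3 : y * z * y⁻¹ * z * y * z * y⁻¹ = z * y * z * y⁻¹ * z := by
    calc y * z * y⁻¹ * z * y * z * y⁻¹ = y * z * y⁻¹ * z * y * z * y⁻¹ * (z * z) := by rw [hz, mul_one]
      _ = y * z * y⁻¹ * z * y * z * y⁻¹ * z * z := by group
      _ = z * y * z * y⁻¹ * z := h2
  calc z * (y * z * y⁻¹) * z = z * y * z * y⁻¹ * z := by group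
    _ = y * z * y⁻¹ * z * y * z * y⁻¹ := h3.symm
    _ = y * z * y⁻¹ * z * (y * z * y⁻¹) := by group

/-- the 3-transposition property for all conjugates, from the two double coset representatives -/
theorem transp_of_rank3 (H : Subgroup G) {n : ℕ} (φ : G →* Equiv.Perm (Fin n))
    (f : G ⧸ H → Fin n) (hf : Function.Injective f) (hequiv : ∀ g q, f (g • q) = φ g (f q))
    (cls : Fin n → ℕ)
    (horb : ∀ p q, cls p = cls q → ∃ π ∈ H.map φ, π p = q)
    (z : G) (hzH : ∀ h ∈ H, h * z = z * h) (hz : z * z = 1)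
    (y1 y2 : G) (c1 c2 : ℕ)
    (hcls : ∀ x : G, x ∉ H → cls (f (QuotientGroup.mk x)) = c1 ∨ cls (f (QuotientGroup.mk x)) = c2)
    (hy1 : cls (f (QuotientGroup.mk y1)) = c1) (hy2 : cls (f (QuotientGroup.mk y2)) = c2)
    (h1 : (z * (y1 * z * y1⁻¹)) ^ 2 = 1 ∨ (z * (y1 * z * y1⁻¹)) ^ 3 = 1)
    (h2 : (z * (y2 * z * y2⁻¹)) ^ 2 = 1 ∨ (z * (y2 * z * y2⁻¹)) ^ 3 = 1) (g : G) :
    (z * (g * z * g⁻¹)) ^ 2 = 1 ∨ (z * (g * z * g⁻¹)) ^ 3 = 1 := by
  have key : ∀ y : G, cls (f (QuotientGroup.mk y)) = cls (f (QuotientGroup.mk g)) →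
      ((z * (y * z * y⁻¹)) ^ 2 = 1 ∨ (z * (y * z * y⁻¹)) ^ 3 = 1) →
      (z * (g * z * g⁻¹)) ^ 2 = 1 ∨ (z * (g * z * g⁻¹)) ^ 3 = 1 := by
    intro y hy hyz
    obtain ⟨π, ⟨h0, hh0, rfl⟩, hπ⟩ := horb _ _ hy
    rw [← hequiv] at hπ
    have e' : (QuotientGroup.mk (h0 * y) : G ⧸ H) = QuotientGroup.mk g := hf hπ
    rw [QuotientGroup.eq] at e'
    set k := (h0 * y)⁻¹ * g with hk
    have hg : g = h0 * y * k := by rw [hk]; group
    have hkz : k * z * k⁻¹ = z := by rw [hzH k e']; group
    have hh0z : h0 * z * h0⁻¹ = z := by rw [hzH h0 hh0]; group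
    have hconj : z * (g * z * g⁻¹) = h0 * (z * (y * z * y⁻¹)) * h0⁻¹ := by
      calc z * (g * z * g⁻¹) = z * (h0 * y * (k * z * k⁻¹) * y⁻¹ * h0⁻¹) := by rw [hg]; group
        _ = (h0 * z * h0⁻¹) * (h0 * y * z * y⁻¹ * h0⁻¹) := by rw [hkz, hh0z]
        _ = h0 * (z * (y * z * y⁻¹)) * h0⁻¹ := by group
    rw [hconj, conj_pow, conj_pow]
    rcases hyz with h | h
    · left; rw [h]; group
    · right; rw [h]; group
  by_cases hgH : g ∈ H
  · left
    have : g * z * g⁻¹ = z := by rw [hzH g hgH]; group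
    rw [this, hz, one_pow]
  · rcases hcls g hgH with h | h
    · exact key y1 (hy1.trans h.symm) h1
    · exact key y2 (hy2.trans h.symm) h2

/-- the conjugacy class of an involution with the 3-transposition property for its conjugates -/
theorem isThreeTranspositionSet_conjugatesOf (z : G) (hz : z * z = 1) (hz1 : z ≠ 1)
    (h : ∀ g : G, (z * (g * z * g⁻¹)) ^ 2 = 1 ∨ (z * (g * z * g⁻¹)) ^ 3 = 1) :
    Cfsg.IsThreeTranspositionSet (conjugatesOf z) := by
  constructor
  · intro d hd
    obtain ⟨c, rfl⟩ := isConj_iff.mp hd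
    apply orderOf_eq_prime
    · rw [pow_two]; exact conj_mul_self hz c
    · intro e
      apply hz1
      have : z = c⁻¹ * (c * z * c⁻¹) * c := by group
      rw [this, e]; group
  · intro d hd e he
    obtain ⟨c, rfl⟩ := isConj_iff.mp hd
    obtain ⟨c', rfl⟩ := isConj_iff.mp he
    have e1 : c * z * c⁻¹ * (c' * z * c'⁻¹) = c * (z * ((c⁻¹ * c') * z * (c⁻¹ * c')⁻¹)) * c⁻¹ := by group
    rw [e1, conj_pow, conj_pow]
    rcases h (c⁻¹ * c') with h | h
    · left; rw [h]; group
    · right; rw [h]; group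

/-- the size of a conjugacy class -/
theorem card_conjugatesOf (z : G) : Nat.card (conjugatesOf z) = (Subgroup.centralizer {z}).index := by
  have h1 : (MulAction.stabilizer (ConjAct G) z).index = (MulAction.orbit (ConjAct G) z).ncard :=
    MulAction.index_stabilizer (ConjAct G) z
  have h2 : ((MulAction.stabilizer (ConjAct G) z).comap (ConjAct.toConjAct (G := G)).toMonoidHom).index =
      (MulAction.stabilizer (ConjAct G) z).index :=
    Subgroup.index_comap_of_surjective _ (ConjAct.toConjAct (G := G)).surjective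
  have h0 : (Subgroup.centralizer {z}).index =
      ((MulAction.stabilizer (ConjAct G) z).comap (ConjAct.toConjAct (G := G)).toMonoidHom).index :=
    congrArg Subgroup.index (Subgroup.centralizer_eq_comap_stabilizer z)
  rw [h0, h2, h1, ConjAct.orbit_eq_carrier_conjClasses, ← Nat.card_coe_set_eq]
  rfl

/-- the centralisers of conjugate elements are isomorphic -/
theorem map_conj_centralizer (c z : G) :
    (Subgroup.centralizer {z}).map (MulAut.conj c).toMonoidHom = Subgroup.centralizer {c * z * c⁻¹} := by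
  ext x
  simp only [Subgroup.mem_map, Subgroup.mem_centralizer_iff, Set.mem_singleton_iff, forall_eq,
    MulEquiv.coe_toMonoidHom, MulAut.conj_apply]
  constructor
  · rintro ⟨y, hy, rfl⟩
    calc c * z * c⁻¹ * (c * y * c⁻¹) = c * (z * y) * c⁻¹ := by group
      _ = c * (y * z) * c⁻¹ := by rw [hy]
      _ = c * y * c⁻¹ * (c * z * c⁻¹) := by group
  · intro hx
    refine ⟨c⁻¹ * x * c, ?_, by group⟩
    calc z * (c⁻¹ * x * c) = c⁻¹ * (c * z * c⁻¹ * x) * c := by group
      _ = c⁻¹ * (x * (c * z * c⁻¹)) * c := by rw [hx]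
      _ = c⁻¹ * x * c * z := by group

theorem nonempty_centralizer_equiv (c z : G) :
    Nonempty (Subgroup.centralizer {z} ≃* Subgroup.centralizer {c * z * c⁻¹}) :=
  ⟨((MulAut.conj c).subgroupMap (Subgroup.centralizer {z})).trans
    (MulEquiv.subgroupCongr (map_conj_centralizer c z))⟩

end Abstract

section Cover
variable {H H' K : Type*} [Group H] [Group H'] [Group K]

/-- non-split double covers are invariant under isomorphism -/
theorem isNonsplitDoubleCover_congr (e : H ≃* H') (h : Cfsg.IsNonsplitDoubleCover H K) :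
    Cfsg.IsNonsplitDoubleCover H' K := by
  obtain ⟨h1, ⟨q⟩, h3⟩ := h
  have hmap : (Subgroup.center H).map e.toMonoidHom = Subgroup.center H' := by
    ext x
    constructor
    · rintro ⟨y, hy, rfl⟩
      rw [SetLike.mem_coe, Subgroup.mem_center_iff] at hy
      rw [Subgroup.mem_center_iff]
      intro g
      obtain ⟨g', rfl⟩ := e.surjective g
      show e g' * e y = e y * e g'
      rw [← map_mul, ← map_mul, hy g']
    · intro hx
      refine ⟨e.symm x, ?_, e.apply_symm_apply x⟩
      rw [Subgroup.mem_center_iff] at hx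
      show e.symm x ∈ Subgroup.center H
      rw [Subgroup.mem_center_iff]
      intro g
      apply e.injective
      rw [map_mul, map_mul, e.apply_symm_apply]
      exact hx (e g)
  refine ⟨?_, ⟨?_⟩, ?_⟩
  · rw [← h1]
    exact Nat.card_congr (Subgroup.centerCongr e).symm.toEquiv
  · exact (QuotientGroup.congr _ _ e hmap).symm.trans q
  · intro L hL
    apply h3 (L.comap e.toMonoidHom)
    apply Subgroup.isComplement'_of_disjoint_and_mul_eq_univ
    · rw [Subgroup.disjoint_def]
      intro x hx hxL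
      have h1 : e x ∈ Subgroup.center H' := by rw [← hmap]; exact ⟨x, hx, rfl⟩
      have h2 : e x ∈ L := hxL
      have := (Subgroup.disjoint_def.mp hL.disjoint) h1 h2
      exact e.injective (by rw [this, map_one])
    · rw [Set.eq_univ_iff_forall]
      intro g
      have hu := hL.mul_eq
      have hg : e g ∈ (Set.univ : Set H') := Set.mem_univ _
      rw [← hu] at hg
      obtain ⟨s, hs, t, ht, hst⟩ := hg
      refine ⟨e.symm s, ?_, e.symm t, ?_, ?_⟩
      · rw [← hmap] at hs
        obtain ⟨y, hy, rfl⟩ := hs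
        show e.symm (e y) ∈ Subgroup.center H
        rw [e.symm_apply_apply]; exact hy
      · show e (e.symm t) ∈ L
        rw [e.apply_symm_apply]; exact ht
      · apply e.injective
        show e (e.symm s * e.symm t) = e g
        rw [map_mul, e.apply_symm_apply, e.apply_symm_apply]; exact hst

end Cover

end Cfsg.Agent.Lib.Helper28.TC2Transp
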