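import Cfsg.Agent.Lib.Helper28.Fi24Upper
import Cfsg.Agent.Lib.Helper28.TCFi24BWMain
import Cfsg.Agent.Lib.Helper28.TCFi24FinalChk
import Cfsg.Agent.Lib.Helper28.TC2Transp

set_option autoImplicit false
set_option maxRecDepth 100000
set_option linter.style.haveILetI false

/-!
# The transpositions of the presented Fi₂₄

In the presented group `Cfsg.Spor.Fi24` the generator `l` is a 3-transposition: its centraliser is the
subgroup `H0` generated by all the generators but `k` (of index 306936 and order `2 · |Fi₂₃|`), its class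
has 306936 members, generates the group and consists of 3-transpositions.
-/

namespace Cfsg.Agent.Lib.Helper28.Fi24Transp
open Cfsg.Agent.Lib.Helper28.TC2Upper Cfsg.Agent.Lib.Helper28.TC2Lower Cfsg.Agent.Lib.Helper28.TC2Orbit Cfsg.Agent.Lib.Helper28.TC2Glue Cfsg.Agent.Lib.Helper28.TC2GlueOrb Cfsg.Agent.Lib.Helper28.TC2Simple Cfsg.Agent.Lib.Helper28.TC2Bsgs Cfsg.Agent.Lib.Helper28.TC2BsgsW Cfsg.Agent.Lib.Helper28.TC2Tower
open Cfsg.Agent.Lib.Helper28.TCFi24Table Cfsg.Agent.Lib.Helper28.TCFi24Link Cfsg.Agent.Lib.Helper28.TCFi24Main Cfsg.Agent.Lib.Helper28.TCFi24Orb Cfsg.Agent.Lib.Helper28.TCFi24FinalChk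
open Cfsg.Agent.Lib.Helper28.TC2Transp

section Abstract
variable {G : Type*} [Group G]

/-- two involutions whose product squares to one commute -/
theorem comm_of_sq {x y : G} (hx : x * x = 1) (hy : y * y = 1) (h : (x * y) ^ 2 = 1) :
    x * y = y * x := by
  have hxi : x⁻¹ = x := inv_eq_of_mul_eq_one_right hx
  have hyi : y⁻¹ = y := inv_eq_of_mul_eq_one_right hy
  rw [pow_two] at h
  calc x * y = (x * y)⁻¹ := eq_inv_of_mul_eq_one_left h
    _ = y⁻¹ * x⁻¹ := mul_inv_rev _ _
    _ = y * x := by rw [hxi, hyi]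

/-- two involutions whose product cubes to one are conjugate -/
theorem isConj_of_cube {x y : G} (hx : x * x = 1) (hy : y * y = 1) (h : (x * y) ^ 3 = 1) :
    IsConj x y := by
  rw [isConj_iff]
  refine ⟨x * y, ?_⟩
  have hxi : x⁻¹ = x := inv_eq_of_mul_eq_one_right hx
  have hyi : y⁻¹ = y := inv_eq_of_mul_eq_one_right hy
  have h3 : x * y * (x * y) * (x * y) = 1 := by rw [← h, pow_succ, pow_two]
  calc x * y * x * (x * y)⁻¹ = x * y * x * (y⁻¹ * x⁻¹) := by rw [mul_inv_rev]
    _ = x * y * x * (y * x) := by rw [hxi, hyi]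
    _ = (x * y * (x * y) * (x * y)) * y⁻¹ := by group
    _ = y := by rw [h3, one_mul, hyi]

/-- a central element of a core-free subgroup is trivial -/
theorem eq_one_of_central_of_core (H : Subgroup G) (hcore : H.normalCore = ⊥) (z : G) (hz : z ∈ H)
    (hc : ∀ g : G, g * z = z * g) : z = 1 := by
  have hmem : z ∈ H.normalCore := by
    intro g
    have : g * z * g⁻¹ = z := by rw [hc g]; group
    rw [this]; exact hz
  rw [hcore] at hmem
  exact Subgroup.mem_bot.mp hmem

/-- subgroups of the centraliser of `z` give subgroups of the centraliser of a conjugate, of the same type -/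
theorem exists_fi23_of_conj (z c : G) (K0 : Subgroup G) (hK0 : K0 ≤ Subgroup.centralizer {z})
    (h23 : Cfsg.IsFi23 K0) :
    ∃ K : Subgroup G, K ≤ Subgroup.centralizer ({c * z * c⁻¹} : Set G) ∧ Cfsg.IsFi23 K := by
  refine ⟨K0.map (MulAut.conj c).toMonoidHom, ?_, ?_⟩
  · rw [← map_conj_centralizer]
    exact Subgroup.map_mono hK0
  · have e : K0 ≃* K0.map (MulAut.conj c).toMonoidHom :=
      K0.equivMapOfInjective _ (MulAut.conj c).injective
    obtain ⟨hs, hcard⟩ := h23
    haveI := hs
    exact ⟨e.symm.isSimpleGroup, by rw [← hcard]; exact Nat.card_congr e.symm.toEquiv⟩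

end Abstract

/-- the presented Fi₂₄ -/
abbrev G0 : Type := PresentedGroup rels
/-- the subgroup generated by a, …, j and l (all generators but k) -/
abbrev H0 : Subgroup G0 := (Subgroup.closure S).map (PresentedGroup.mk rels)
/-- the generators of the presented group -/
abbrev gen (x : Cfsg.Spor.Fi24.Gen) : G0 := PresentedGroup.mk rels (FreeGroup.of x)

/-- the transposition `l` as a word -/
def zWord : List (Cfsg.Spor.Fi24.Gen × Bool) := [(.l, true)]
/-- a coset whose transposition does not commute with `l` -/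
def yoWord : List (Cfsg.Spor.Fi24.Gen × Bool) := [(.k, true)]
/-- a coset whose transposition commutes with `l` -/
def ycWord : List (Cfsg.Spor.Fi24.Gen × Bool) := [(.k, true), (.a, true), (.l, true), (.k, true)]

theorem hyo : orbData.oid (table.walkT (pathOf lw yoWord) 0) = 1 := by decide +kernel
theorem hyc : orbData.oid (table.walkT (pathOf lw ycWord) 0) = 2 := by decide +kernel
theorem hmc : table.walkT (pathOf lw (FreeGroup.invRev ycWord ++ zWord ++ ycWord)) 0 = 0 := by decide +kernel
theorem hmo : table.walkT (pathOf lw (FreeGroup.invRev yoWord ++ zWord ++ yoWord ++ zWord ++ FreeGroup.invRev yoWord)) 0 = 0 := by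
  decide +kernel
theorem hzne : table.walkT (pathOf lw zWord) 1 ≠ 1 := by decide +kernel

/-- the permutation representation of the presented Fi₂₄ on the cosets of `H0` is faithful and of rank 3,
and `H0` is maximal and core-free -/
theorem facts : ∃ (φ : G0 →* Equiv.Perm (Fin table.n)) (f : G0 ⧸ H0 → Fin table.n),
    (∀ x, φ (PresentedGroup.of x) = Table.sigma hT (lw (x, true))) ∧ Function.Bijective f ∧
    (∀ g q, f (g • q) = φ g (f q)) ∧ f (QuotientGroup.mk 1) = ⟨0, hn⟩ ∧ Function.Injective φ ∧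
    Finite G0 ∧ Nat.card G0 = 2510411418381323442585600 ∧ H0.index = 306936 ∧
    Nat.card H0 = 8178940946586009600 ∧ H0.normalCore = ⊥ ∧
    (∀ K : Subgroup G0, H0 ≤ K → K = H0 ∨ K = ⊤) ∧
    (∀ p q : Fin table.n, orbData.oid p.val = orbData.oid q.val → ∃ π ∈ H0.map φ, π p = q) ∧
    (∀ x : G0, x ∉ H0 → orbData.oid (f (QuotientGroup.mk x)).val = 1 ∨
      orbData.oid (f (QuotientGroup.mk x)).val = 2) := by
  obtain ⟨hidx, φ, hφ, f, hbij, hequiv, h0⟩ := Cfsg.Agent.Lib.Helper28.TCFi24Main.main
  obtain ⟨hfin, hle⟩ := Cfsg.Agent.Lib.Helper28.Fi24Upper.card_G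
  haveI : Finite (PresentedGroup rels) := hfin
  have hΓ : ∀ l, l < table.k → Table.sigma hT l ∈ φ.range := sigma_mem_range link hT φ hφ
  have hlow : 2510411418381323442585600 ≤ Nat.card φ.range :=
    Cfsg.Agent.Lib.Helper28.TCFi24BWMain.card_base hT φ.range hΓ
  obtain ⟨hinj, hcard⟩ := injective_of_card_le φ hle hlow
  have hidx' : H0.index = 306936 := hidx
  have hcardH : Nat.card H0 = 8178940946586009600 := by
    have := H0.index_mul_card
    rw [hidx', hcard] at this
    omega
  have hcore := normalCore_eq_bot _ φ f hbij.2 hequiv hinj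
  have hgens := BT.All_of_all (fun _ h => of_decide_eq_true h) _ Cfsg.Agent.Lib.Helper28.TCFi24Main.hgens
  have hfm := f_mk link hT hn φ hφ f hequiv h0
  have horb : ∀ p q : Fin table.n, orbData.oid p.val = orbData.oid q.val → ∃ π ∈ H0.map φ, π p = q :=
    fun p q hpq => exists_perm_of_oid_eq link hT φ hφ orbData subPaths hsubmem hsubmem' hclosed hgens hconn p q hpq
  have hcls : ∀ x : G0, x ∉ H0 → orbData.oid (f (QuotientGroup.mk x)).val = 1 ∨
      orbData.oid (f (QuotientGroup.mk x)).val = 2 :=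
    fun x hx => cls_of_not_mem _ hn f hbij.1 h0 orbData hclsAll h00 cntc0 x hx
  refine ⟨φ, f, hφ, hbij, hequiv, h0, hinj, hfin, hcard, hidx', hcardH, hcore, ?_, horb, hcls⟩
  apply max_of_rank3 _ φ f hbij.1 hequiv (fun q => orbData.oid q.val) horb
    (PresentedGroup.mk rels (FreeGroup.mk [(.k, true)])) (PresentedGroup.mk rels (FreeGroup.mk yWord))
    (PresentedGroup.mk rels (FreeGroup.mk hWord)) ?_ 1 2 hcls ?_ ?_ ?_ ?_
  · -- h ∈ H
    apply Subgroup.mem_map_of_mem
    have e : FreeGroup.mk hWord = FreeGroup.of (Cfsg.Spor.Fi24.Gen.b) := rfl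
    rw [e]
    exact Subgroup.subset_closure (by simp [S])
  · show orbData.oid (f _).val = 1
    rw [hfm]; exact hg0
  · show orbData.oid (f _).val = 2
    rw [hfm]; exact hy
  · show orbData.oid (f _).val = 1
    have e : PresentedGroup.mk rels (FreeGroup.mk yWord) * PresentedGroup.mk rels (FreeGroup.mk hWord) *
        PresentedGroup.mk rels (FreeGroup.mk yWord) = PresentedGroup.mk rels (FreeGroup.mk (yWord ++ hWord ++ yWord)) := by
      rw [← map_mul, ← map_mul, FreeGroup.mul_mk, FreeGroup.mul_mk]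
    rw [e, hfm]; exact hz
  · intro K hHK hg
    rw [eq_top_iff, ← PresentedGroup.closure_range_of, Subgroup.closure_le]
    rintro _ ⟨x, rfl⟩
    cases x
    · exact hHK (Subgroup.mem_map_of_mem _ (Subgroup.subset_closure (by simp [S])))
    · exact hg
    · exact hHK (Subgroup.mem_map_of_mem _ (Subgroup.subset_closure (by simp [S])))
    · exact hHK (Subgroup.mem_map_of_mem _ (Subgroup.subset_closure (by simp [S])))
    · exact hHK (Subgroup.mem_map_of_mem _ (Subgroup.subset_closure (by simp [S])))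
    · exact hHK (Subgroup.mem_map_of_mem _ (Subgroup.subset_closure (by simp [S])))
    · exact hHK (Subgroup.mem_map_of_mem _ (Subgroup.subset_closure (by simp [S])))
    · exact hHK (Subgroup.mem_map_of_mem _ (Subgroup.subset_closure (by simp [S])))
    · exact hHK (Subgroup.mem_map_of_mem _ (Subgroup.subset_closure (by simp [S])))
    · exact hHK (Subgroup.mem_map_of_mem _ (Subgroup.subset_closure (by simp [S])))
    · exact hHK (Subgroup.mem_map_of_mem _ (Subgroup.subset_closure (by simp [S])))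
    · exact hHK (Subgroup.mem_map_of_mem _ (Subgroup.subset_closure (by simp [S])))

/-- all generators are nodes of the graph -/
theorem mem_nodes (x : Cfsg.Spor.Fi24.Gen) : x ∈ Cfsg.Spor.coxNodes Cfsg.Spor.Fi24.edges := by
  cases x <;> decide

/-- the Coxeter relations -/
theorem cox_pow (x y : Cfsg.Spor.Fi24.Gen) :
    (gen x * gen y) ^ Cfsg.Spor.coxLabel Cfsg.Spor.Fi24.edges x y = 1 := by
  have hmem : (FreeGroup.of x * FreeGroup.of y) ^ Cfsg.Spor.coxLabel Cfsg.Spor.Fi24.edges x y ∈ rels :=
    Or.inl ⟨x, mem_nodes x, y, mem_nodes y, rfl⟩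
  have h1 := PresentedGroup.one_of_mem hmem
  rw [map_pow, map_mul] at h1
  exact h1

/-- the generators are involutions -/
theorem gen_sq (x : Cfsg.Spor.Fi24.Gen) : gen x * gen x = 1 := by
  have h := cox_pow x x
  have hl : Cfsg.Spor.coxLabel Cfsg.Spor.Fi24.edges x x = 1 := by
    unfold Cfsg.Spor.coxLabel; rw [if_pos rfl]
  rw [hl, pow_one] at h
  exact h

/-- generators that are not joined commute -/
theorem gen_comm (x y : Cfsg.Spor.Fi24.Gen) (h : Cfsg.Spor.coxLabel Cfsg.Spor.Fi24.edges x y = 2) :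
    gen x * gen y = gen y * gen x := by
  have h1 := cox_pow x y
  rw [h] at h1
  exact comm_of_sq (gen_sq x) (gen_sq y) h1

/-- generators that are joined are conjugate -/
theorem gen_conj (x y : Cfsg.Spor.Fi24.Gen) (h : Cfsg.Spor.coxLabel Cfsg.Spor.Fi24.edges x y = 3) :
    IsConj (gen x) (gen y) := by
  have h1 := cox_pow x y
  rw [h] at h1
  exact isConj_of_cube (gen_sq x) (gen_sq y) h1

/-- all generators are conjugate to `l` -/
theorem isConj_gen (x : Cfsg.Spor.Fi24.Gen) : IsConj (gen .l) (gen x) := by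
  have hk : IsConj (gen .l) (gen .k) := gen_conj .l .k (by decide)
  have ha := hk.trans (gen_conj .k .a (by decide))
  have hb := ha.trans (gen_conj .a .b (by decide))
  have hc := hb.trans (gen_conj .b .c (by decide))
  have hd := hc.trans (gen_conj .c .d (by decide))
  have he := hd.trans (gen_conj .d .e (by decide))
  have hf := he.trans (gen_conj .e .f (by decide))
  have hg := hf.trans (gen_conj .f .g (by decide))
  have hj := hg.trans (gen_conj .g .j (by decide))
  have hh := hd.trans (gen_conj .d .h (by decide))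
  have hi := hh.trans (gen_conj .h .i (by decide))
  cases x
  exacts [IsConj.refl _, hk, ha, hb, hc, hd, he, hf, hg, hj, hh, hi]

/-- the transposition `l` -/
abbrev zl : G0 := gen .l

/-- `H0` centralises `l` -/
theorem H0_le_centralizer : H0 ≤ Subgroup.centralizer {zl} := by
  rw [Subgroup.map_le_iff_le_comap, Subgroup.closure_le]
  intro s hs
  have key : ∀ x : Cfsg.Spor.Fi24.Gen, zl * gen x = gen x * zl →
      FreeGroup.of x ∈ ((Subgroup.centralizer {zl}).comap (PresentedGroup.mk rels) : Set _) := by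
    intro x hx
    show PresentedGroup.mk rels (FreeGroup.of x) ∈ Subgroup.centralizer {zl}
    rw [Subgroup.mem_centralizer_iff]
    intro y hy
    rw [Set.mem_singleton_iff] at hy
    rw [hy]; exact hx
  simp only [S, Set.mem_insert_iff, Set.mem_singleton_iff] at hs
  rcases hs with rfl | rfl | rfl | rfl | rfl | rfl | rfl | rfl | rfl | rfl | rfl
  · exact key _ (gen_comm .l .a (by decide))
  · exact key _ (gen_comm .l .b (by decide))
  · exact key _ (gen_comm .l .c (by decide))
  · exact key _ (gen_comm .l .d (by decide))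
  · exact key _ (gen_comm .l .e (by decide))
  · exact key _ (gen_comm .l .f (by decide))
  · exact key _ (gen_comm .l .g (by decide))
  · exact key _ (gen_comm .l .h (by decide))
  · exact key _ (gen_comm .l .i (by decide))
  · exact key _ (gen_comm .l .j (by decide))
  · exact key _ rfl

/-- the transposition `l` lies in `H0` -/
theorem zl_mem : zl ∈ H0 :=
  Subgroup.mem_map_of_mem _ (Subgroup.subset_closure (by simp [S]))

/-- The generator `l` of the presented Fi₂₄: its centraliser is `H0`, of order `2 · |Fi₂₃|`, and its class is a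
class of 306936 3-transpositions. -/
theorem main : Finite G0 ∧ Nat.card G0 = 2 * 1255205709190661721292800 ∧
    zl * zl = 1 ∧ zl ≠ 1 ∧ Subgroup.centralizer {zl} = H0 ∧ H0.index = 306936 ∧
    Nat.card H0 = 2 * 4089470473293004800 ∧
    Cfsg.IsThreeTranspositionClass (conjugatesOf zl) ∧ Nat.card (conjugatesOf zl) = 306936 ∧
    (∀ d ∈ conjugatesOf zl, Nat.card (Subgroup.centralizer ({d} : Set G0)) = 2 * 4089470473293004800) ∧
    (∀ d ∈ conjugatesOf zl, ∃ c : G0, d = c * zl * c⁻¹ ∧
      Subgroup.centralizer ({d} : Set G0) = H0.map (MulAut.conj c).toMonoidHom) := by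
  obtain ⟨φ, f, hφ, hbij, hequiv, h0, hinj, hfin, hcard, hidx, hcardH, hcore, hmax, horb, hcls⟩ := facts
  have hfm := f_mk link hT hn φ hφ f hequiv h0
  have mem_of_walk : ∀ L : List (Cfsg.Spor.Fi24.Gen × Bool), table.walkT (pathOf lw L) 0 = 0 →
      PresentedGroup.mk rels (FreeGroup.mk L) ∈ H0 := by
    intro L h
    have e1 := hfm L
    rw [h] at e1
    have e2 : f (QuotientGroup.mk (PresentedGroup.mk rels (FreeGroup.mk L))) = f (QuotientGroup.mk 1) := by
      rw [h0]; exact Fin.ext e1
    have e3 := hbij.1 e2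
    rw [QuotientGroup.eq, mul_one] at e3
    simpa using H0.inv_mem e3
  have hzw : zl = PresentedGroup.mk rels (FreeGroup.mk zWord) := rfl
  have hz2 : zl * zl = 1 := gen_sq .l
  have hle := H0_le_centralizer
  have hzH : ∀ h ∈ H0, h * zl = zl * h := by
    intro h hh
    have := hle hh
    rw [Subgroup.mem_centralizer_iff] at this
    exact (this zl rfl).symm
  have hz1 : zl ≠ 1 := by
    intro e
    have h1 := phi_mk_apply link hT φ hφ zWord ⟨1, by decide⟩
    have e' : PresentedGroup.mk rels (FreeGroup.mk zWord) = 1 := e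
    rw [e', map_one] at h1
    exact hzne h1.symm
  have hC : Subgroup.centralizer {zl} = H0 := by
    rcases hmax _ hle with h | h
    · exact h
    · exfalso
      apply hz1
      apply eq_one_of_central_of_core H0 hcore zl zl_mem
      intro g
      have hg : g ∈ Subgroup.centralizer {zl} := by rw [h]; exact Subgroup.mem_top g
      rw [Subgroup.mem_centralizer_iff] at hg
      exact (hg zl rfl).symm
  -- the two double coset representatives
  have hyo' : orbData.oid (f (QuotientGroup.mk (PresentedGroup.mk rels (FreeGroup.mk yoWord)))).val = 1 := by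
    rw [hfm]; exact hyo
  have hyc' : orbData.oid (f (QuotientGroup.mk (PresentedGroup.mk rels (FreeGroup.mk ycWord)))).val = 2 := by
    rw [hfm]; exact hyc
  have hmo' : (PresentedGroup.mk rels (FreeGroup.mk yoWord))⁻¹ * zl * PresentedGroup.mk rels (FreeGroup.mk yoWord) * zl *
      (PresentedGroup.mk rels (FreeGroup.mk yoWord))⁻¹ ∈ H0 := by
    have := mem_of_walk _ hmo
    rw [← FreeGroup.mul_mk, ← FreeGroup.mul_mk, ← FreeGroup.mul_mk, ← FreeGroup.mul_mk, ← FreeGroup.inv_mk,
      map_mul, map_mul, map_mul, map_mul, map_inv] at this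
    exact this
  have hmc' : (PresentedGroup.mk rels (FreeGroup.mk ycWord))⁻¹ * zl * PresentedGroup.mk rels (FreeGroup.mk ycWord) ∈ H0 := by
    have := mem_of_walk _ hmc
    rw [← FreeGroup.mul_mk, ← FreeGroup.mul_mk, ← FreeGroup.inv_mk, map_mul, map_mul, map_inv] at this
    exact this
  have hall : ∀ g : G0, (zl * (g * zl * g⁻¹)) ^ 2 = 1 ∨ (zl * (g * zl * g⁻¹)) ^ 3 = 1 :=
    transp_of_rank3 H0 φ f hbij.1 hequiv (fun q => orbData.oid q.val) horb zl hzH hz2
      (PresentedGroup.mk rels (FreeGroup.mk yoWord)) (PresentedGroup.mk rels (FreeGroup.mk ycWord)) 1 2 hcls hyo' hyc'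
      (Or.inr (cube_of_mem H0 zl hzH hz2 _ hmo')) (Or.inl (sq_of_mem H0 zl hzH hz2 _ hmc'))
  have hset := isThreeTranspositionSet_conjugatesOf zl hz2 hz1 hall
  have hclosure : Subgroup.closure (conjugatesOf zl) = ⊤ := by
    rw [eq_top_iff, ← PresentedGroup.closure_range_of, Subgroup.closure_le]
    rintro _ ⟨x, rfl⟩
    exact Subgroup.subset_closure (isConj_gen x)
  have hcardD : Nat.card (conjugatesOf zl) = 306936 := by
    rw [card_conjugatesOf, hC, hidx]
  refine ⟨hfin, by rw [hcard], hz2, hz1, hC, hidx, by rw [hcardH], ⟨hset, ⟨zl, mem_conjugatesOf_self, rfl⟩, hclosure⟩,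
    hcardD, ?_, ?_⟩
  · intro d hd
    obtain ⟨c, rfl⟩ := isConj_iff.mp hd
    obtain ⟨e⟩ := nonempty_centralizer_equiv c zl
    rw [← Nat.card_congr e.toEquiv, hC, hcardH]
  · intro d hd
    obtain ⟨c, rfl⟩ := isConj_iff.mp hd
    exact ⟨c, rfl, by rw [← map_conj_centralizer, hC]⟩

/-- The transposition half of the realisation of Fi₂₄ as a 3-transposition group, given a subgroup of `H0` of
type Fi₂₃. -/
theorem transposition_half (K0 : Subgroup Cfsg.Spor.Fi24) (hK0 : K0 ≤ H0) (h23 : Cfsg.IsFi23 K0) :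
    ∃ D : Set Cfsg.Spor.Fi24, Cfsg.IsThreeTranspositionClass D ∧ Nat.card D = 306936 ∧
      ∀ d ∈ D, Nat.card (Subgroup.centralizer ({d} : Set Cfsg.Spor.Fi24)) = 2 * 4089470473293004800 ∧
        ∃ K : Subgroup Cfsg.Spor.Fi24, K ≤ Subgroup.centralizer ({d} : Set Cfsg.Spor.Fi24) ∧ Cfsg.IsFi23 K := by
  obtain ⟨-, -, -, -, hC, -, -, hcls, hcardD, hcent, -⟩ := main
  refine ⟨conjugatesOf zl, hcls, hcardD, ?_⟩
  intro d hd
  refine ⟨hcent d hd, ?_⟩
  obtain ⟨c, rfl⟩ := isConj_iff.mp hd
  exact exists_fi23_of_conj zl c K0 (by rw [hC]; exact hK0) h23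

end Cfsg.Agent.Lib.Helper28.Fi24Transp
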