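import Cfsg.Agent.Lib.Helper28.Fi24Transp

set_option autoImplicit false
set_option maxRecDepth 100000
set_option linter.style.haveILetI false

/-!
# Words in the presented Fi₂₄

A word fixing the eleven base points of the stabiliser chain is trivial; homomorphisms from presented groups
into Fi₂₄ given by words for the images of the generators; copies of simple groups in the commutator subgroup.
-/

namespace Cfsg.Agent.Lib.Helper28.Fi24Words
open Cfsg.Agent.Lib.Helper28.TC2Upper Cfsg.Agent.Lib.Helper28.TC2Lower Cfsg.Agent.Lib.Helper28.TC2Orbit Cfsg.Agent.Lib.Helper28.TC2Glue Cfsg.Agent.Lib.Helper28.TC2GlueOrb Cfsg.Agent.Lib.Helper28.TC2Simple Cfsg.Agent.Lib.Helper28.TC2Bsgs Cfsg.Agent.Lib.Helper28.TC2BsgsW Cfsg.Agent.Lib.Helper28.TC2Tower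
open Cfsg.Agent.Lib.Helper28.TCFi24Table Cfsg.Agent.Lib.Helper28.TCFi24Link Cfsg.Agent.Lib.Helper28.TCFi24Main Cfsg.Agent.Lib.Helper28.TCFi24Orb Cfsg.Agent.Lib.Helper28.TCFi24FinalChk
open Cfsg.Agent.Lib.Helper28.Fi24Transp

/-- a permutation in the image of Fi₂₄ that fixes the eleven base points is trivial -/
theorem perm_eq_one_of_fix [Finite G0] (φ : G0 →* Equiv.Perm (Fin table.n))
    (hφ : ∀ x, φ (PresentedGroup.of x) = Table.sigma hT (lw (x, true)))
    (hcard : Nat.card G0 = 2510411418381323442585600) (π : Equiv.Perm (Fin table.n)) (hπ : π ∈ φ.range)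
    (h : ∀ b ∈ toFin table.n base, π b = b) : π = 1 := by
  have hΓ : ∀ l, l < table.k → Table.sigma hT l ∈ φ.range := sigma_mem_range link hT φ hφ
  have hrange : Nat.card φ.range ≤ 2510411418381323442585600 := by
    rw [← hcard]
    exact Nat.card_le_card_of_surjective φ.rangeRestrict φ.rangeRestrict_surjective
  exact eq_one_of_fix φ.range (toFin table.n base) 2510411418381323442585600 (by norm_num)
    (Cfsg.Agent.Lib.Helper28.TCFi24BWMain.chain hT φ.range hΓ) hrange π hπ h

/-- a word fixing the eleven base points is trivial -/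
theorem mk_eq_one_of_fix (L : List (Cfsg.Spor.Fi24.Gen × Bool))
    (h : ∀ b ∈ base, table.walkT (pathOf lw L) b = b) :
    PresentedGroup.mk rels (FreeGroup.mk L) = 1 := by
  obtain ⟨φ, f, hφ, hbij, hequiv, h0, hinj, hfin, hcard, -⟩ := facts
  haveI := hfin
  apply hinj
  rw [map_one]
  apply perm_eq_one_of_fix φ hφ hcard _ ⟨_, rfl⟩
  intro b hb
  apply Fin.ext
  rw [phi_mk_apply link hT φ hφ]
  exact h b.val (val_mem_of_mem_toFin hb)

/-- two words that agree on the eleven base points are equal -/
theorem mk_eq_mk_of_agree (L L' : List (Cfsg.Spor.Fi24.Gen × Bool))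
    (h : ∀ b ∈ base, table.walkT (pathOf lw L) b = table.walkT (pathOf lw L') b) :
    PresentedGroup.mk rels (FreeGroup.mk L) = PresentedGroup.mk rels (FreeGroup.mk L') := by
  obtain ⟨φ, f, hφ, hbij, hequiv, h0, hinj, hfin, hcard, -⟩ := facts
  haveI := hfin
  apply hinj
  have h1 : (φ (PresentedGroup.mk rels (FreeGroup.mk L')))⁻¹ * φ (PresentedGroup.mk rels (FreeGroup.mk L)) = 1 := by
    apply perm_eq_one_of_fix φ hφ hcard _
      (φ.range.mul_mem (φ.range.inv_mem ⟨_, rfl⟩) ⟨_, rfl⟩)
    intro b hb
    have e : φ (PresentedGroup.mk rels (FreeGroup.mk L)) b = φ (PresentedGroup.mk rels (FreeGroup.mk L')) b := by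
      apply Fin.ext
      rw [phi_mk_apply link hT φ hφ, phi_mk_apply link hT φ hφ]
      exact h b.val (val_mem_of_mem_toFin hb)
    rw [Equiv.Perm.mul_apply, e]
    exact Equiv.symm_apply_apply _ _
  exact (inv_mul_eq_one.mp h1).symm

section Subst
variable {α β : Type}

/-- substitute a word for every generator -/
def substWord (img : β → List (α × Bool)) (L : List (β × Bool)) : List (α × Bool) :=
  L.flatMap (fun xb => cond xb.2 (img xb.1) (FreeGroup.invRev (img xb.1)))

theorem substWord_nil (img : β → List (α × Bool)) : substWord img [] = [] := rfl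

theorem substWord_cons (img : β → List (α × Bool)) (x : β) (b : Bool) (L : List (β × Bool)) :
    substWord img ((x, b) :: L) = cond b (img x) (FreeGroup.invRev (img x)) ++ substWord img L := by
  unfold substWord
  rw [List.flatMap_cons]

/-- the image of a word under the homomorphism given by words is the substituted word -/
theorem lift_mk_subst (rels : Set (FreeGroup α)) (img : β → List (α × Bool)) (L : List (β × Bool)) :
    FreeGroup.lift (fun x => PresentedGroup.mk rels (FreeGroup.mk (img x))) (FreeGroup.mk L) =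
      PresentedGroup.mk rels (FreeGroup.mk (substWord img L)) := by
  induction L with
  | nil =>
    have e : (FreeGroup.mk ([] : List (β × Bool))) = 1 := rfl
    have e' : (FreeGroup.mk ([] : List (α × Bool))) = 1 := rfl
    rw [e, map_one, substWord_nil, e', map_one]
  | cons xb L ih =>
    obtain ⟨x, b⟩ := xb
    have e : FreeGroup.mk ((x, b) :: L) = FreeGroup.mk [(x, b)] * FreeGroup.mk L := by
      rw [FreeGroup.mul_mk]; rfl
    rw [e, map_mul, ih, substWord_cons, ← FreeGroup.mul_mk, map_mul]
    congr 1
    cases b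
    · have e1 : FreeGroup.mk [(x, false)] = (FreeGroup.of x)⁻¹ := by
        show _ = (FreeGroup.mk [(x, true)])⁻¹
        rw [FreeGroup.inv_mk]; rfl
      rw [e1, map_inv, FreeGroup.lift_apply_of]
      show _ = PresentedGroup.mk rels (FreeGroup.mk (FreeGroup.invRev (img x)))
      rw [← FreeGroup.inv_mk, map_inv]
    · have e1 : FreeGroup.mk [(x, true)] = FreeGroup.of x := rfl
      rw [e1, FreeGroup.lift_apply_of]
      rfl

end Subst

/-- a homomorphism from a presented group into Fi₂₄ from words for the images of the generators, the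
relators being checked on the eleven base points -/
theorem exists_hom_of_words {β : Type} (relsB : Set (FreeGroup β)) (relWordsB : List (List (β × Bool)))
    (hrels : ∀ r, r ∈ relsB ↔ ∃ L ∈ relWordsB, r = FreeGroup.mk L)
    (img : β → List (Cfsg.Spor.Fi24.Gen × Bool))
    (hfix : ∀ L ∈ relWordsB, ∀ b ∈ base, table.walkT (pathOf lw (substWord img L)) b = b) :
    ∃ ψ : PresentedGroup relsB →* G0,
      ∀ x, ψ (PresentedGroup.of x) = PresentedGroup.mk rels (FreeGroup.mk (img x)) := by
  have h1 : ∀ r ∈ relsB, FreeGroup.lift (fun x => PresentedGroup.mk rels (FreeGroup.mk (img x))) r = 1 := by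
    intro r hr
    obtain ⟨L, hL, rfl⟩ := (hrels r).mp hr
    rw [lift_mk_subst]
    exact mk_eq_one_of_fix _ (hfix L hL)
  exact ⟨PresentedGroup.toGroup h1, fun x => PresentedGroup.toGroup.of h1⟩

/-- a word moving a point is not trivial -/
theorem mk_ne_one_of_move (L : List (Cfsg.Spor.Fi24.Gen × Bool)) (p : ℕ) (hp : p < table.n)
    (h : table.walkT (pathOf lw L) p ≠ p) : PresentedGroup.mk rels (FreeGroup.mk L) ≠ 1 := by
  obtain ⟨φ, f, hφ, -⟩ := facts
  intro e
  have h1 := phi_mk_apply link hT φ hφ L ⟨p, hp⟩
  rw [e, map_one] at h1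
  exact h h1.symm

section Simple
variable {P : Type*} [Group P]

/-- a finite simple group of composite order is perfect -/
theorem commutator_eq_top_of_simple [Finite P] [IsSimpleGroup P] (hP : ¬ (Nat.card P).Prime) :
    commutator P = ⊤ := by
  rcases (inferInstance : (commutator P).Normal).eq_bot_or_eq_top with h | h
  · exfalso
    have hc : Subgroup.center P = ⊤ := (commutator_eq_bot_iff_center_eq_top P).mp h
    have hb : Subgroup.center P = ⊥ := Cfsg.Agent.Lib.Helper28.TC2Cover.center_eq_bot_of_simple hP
    rw [hb] at hc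
    exact bot_ne_top hc
  · exact h

/-- a nontrivial homomorphism from a finite simple group of composite order into a group `G` gives an
isomorphic copy inside the commutator subgroup of `G` -/
theorem exists_copy_in_commutator {G : Type*} [Group G] [Finite P] [IsSimpleGroup P]
    (hP : ¬ (Nat.card P).Prime) (ψ : P →* G) (x0 : P) (hx0 : ψ x0 ≠ 1) :
    ∃ K : Subgroup ↥(commutator G), Nonempty (K ≃* P) := by
  have hinj : Function.Injective ψ := by
    rw [← MonoidHom.ker_eq_bot_iff]
    rcases (inferInstance : ψ.ker.Normal).eq_bot_or_eq_top with h | h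
    · exact h
    · exfalso
      apply hx0
      rw [← MonoidHom.mem_ker, h]
      exact Subgroup.mem_top _
  have hle : ψ.range ≤ commutator G := by
    rw [MonoidHom.range_eq_map, ← commutator_eq_top_of_simple hP, commutator_def, Subgroup.map_commutator,
      commutator_def]
    exact Subgroup.commutator_mono le_top le_top
  exact ⟨ψ.range.subgroupOf (commutator G),
    ⟨(Subgroup.subgroupOfEquivOfLe hle).trans (MonoidHom.ofInjective hinj).symm⟩⟩

end Simple

end Cfsg.Agent.Lib.Helper28.Fi24Words
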