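import Mathlib.Data.Nat.Notation
set_option autoImplicit false
set_option maxRecDepth 100000

namespace Cfsg.Agent.Lib.Helper28.FoxCo3MP2Cyc

def cyc1 : List (List (ℕ × ℕ)) := [[], [], [], [], [], [(0, 1)], [], [], [], [], [], [], [], [], [], [], [], [], [], [], [], [], [], [], [], [], [], [], [], [], [], [], [], [], [], [], [], [], [], [], [], [], [], [], [], [], [], [], [], [], [], [], [], [], [], [], [], [], [], [], [], [], [], [], [], [], [], [], [], [], [], [], []]
def cyc3 : List (List (ℕ × ℕ)) := [[], [], [], [(1, 1)], [], [], [], [], [], [], [], [], [], [], [], [], [], [], [], [], [], [], [], [], [], [], [], [], [], [], [], [], [], [], [], [], [], [], [], [], [], [], [], [], [], [], [], [], [], [], [], [], [], [], [], [], [], [], [], [], [], [], [], [], [], [], [], [], [], [], [], [], []]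
def cyc4 : List (List (ℕ × ℕ)) := [[], [(7, 1)], [], [], [], [], [], [], [], [], [], [], [], [], [], [], [], [], [], [], [], [], [], [], [], [], [], [], [], [], [], [], [], [], [], [], [], [], [], [], [], [], [], [], [], [], [], [], [], [], [], [], [], [], [], [], [], [], [], [], [], [], [], [], [], [], [], [], [], [], [], [], []]
def cyc5 : List (List (ℕ × ℕ)) := [[], [], [], [], [], [], [], [(7, 1)], [], [], [], [], [], [], [], [], [], [], [], [], [], [], [], [], [], [], [], [], [], [], [], [], [], [], [], [], [], [], [], [], [], [], [], [], [], [], [], [], [], [], [], [], [], [], [], [], [], [], [], [], [], [], [], [], [], [], [], [], [], [], [], [], []]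
def cyc7 : List (List (ℕ × ℕ)) := [[], [], [], [], [], [], [], [], [], [(26, 1)], [], [], [], [], [], [], [], [], [], [], [], [], [], [], [], [], [], [], [], [], [], [], [], [], [], [], [], [], [], [], [], [], [], [], [], [], [], [], [], [], [], [], [], [], [], [], [], [], [], [], [], [], [], [], [], [], [], [], [], [], [], [], []]
def cyc9 : List (List (ℕ × ℕ)) := [[], [], [], [], [], [], [], [], [], [], [(8, 1)], [(2, 1)], [], [], [], [], [], [], [], [], [], [], [], [], [], [], [], [], [], [], [], [], [], [], [], [], [], [], [], [], [], [], [], [], [], [], [], [], [], [], [], [], [], [], [], [], [], [], [], [], [], [], [], [], [], [], [], [], [], [], [], [], []]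
def cyc10 : List (List (ℕ × ℕ)) := [[], [], [], [], [], [], [], [], [], [], [], [], [], [], [], [], [], [], [], [], [], [], [], [], [], [], [], [], [], [], [], [], [], [], [(48, 1)], [], [], [], [], [(48, 1)], [], [], [], [], [], [], [], [], [], [], [], [], [], [], [], [], [], [], [], [], [], [], [], [], [], [], [], [], [], [], [], [], []]
def cyc13 : List (List (ℕ × ℕ)) := [[], [], [], [], [], [], [], [], [], [], [], [], [], [], [], [], [], [], [], [], [], [], [], [], [], [], [], [], [], [], [], [], [], [], [], [], [], [(56, 1)], [(56, 1)], [], [], [], [], [], [], [], [], [], [], [], [], [], [], [], [], [], [], [], [], [], [], [], [], [], [], [], [], [], [], [], [], [], []]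
def cyc14 : List (List (ℕ × ℕ)) := [[], [], [], [], [], [], [], [], [], [], [], [], [], [], [], [], [], [], [], [], [], [], [], [], [], [], [], [(21, 1)], [], [(21, 1)], [], [], [], [], [], [], [], [], [], [], [], [], [], [], [], [], [], [], [], [], [], [], [], [], [], [], [], [], [], [], [], [], [], [], [], [], [], [], [], [], [], [], []]
def cyc19 : List (List (ℕ × ℕ)) := [[], [], [], [], [], [(381, 1)], [], [], [], [], [], [], [], [], [], [], [], [], [], [], [], [], [], [], [], [], [], [], [], [], [], [], [], [], [], [], [], [], [(99, 1)], [], [], [], [], [], [], [], [], [(99, 1)], [], [], [], [], [], [], [], [], [], [], [], [], [], [], [], [], [], [], [], [], [], [], [], [], []]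
def cyc23 : List (List (ℕ × ℕ)) := [[(2, 1), (15, 1), (24, 1)], [], [], [], [], [(2, 1)], [], [], [], [], [], [], [], [], [(24, 1)], [], [], [], [], [], [(8, 1)], [], [], [], [], [], [], [], [], [], [], [], [], [], [], [], [], [], [], [], [], [], [], [], [], [], [], [], [], [], [], [], [], [], [], [], [], [], [], [], [], [], [], [], [], [], [], [], [], [], [], [], []]
def cyc24 : List (List (ℕ × ℕ)) := [[(2, 1)], [(0, 1)], [], [], [], [], [], [], [], [], [], [], [], [], [], [], [(2, 1)], [(2, 1)], [(2, 1)], [(75, 1)], [(8, 1)], [], [], [], [], [], [], [], [], [], [], [], [], [], [], [], [], [], [], [], [], [], [], [], [], [], [], [], [], [], [], [], [], [], [], [], [], [], [], [], [], [], [], [], [], [], [], [], [], [], [], [], []]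
def cyc25 : List (List (ℕ × ℕ)) := [[], [], [], [], [], [], [], [(0, 1)], [], [(0, 1), (1, 1)], [], [], [(14, 1)], [], [], [], [(2, 1)], [(2, 1)], [], [(0, 1), (7, 1)], [], [], [], [], [], [], [], [], [], [], [], [], [], [], [], [], [], [], [], [], [], [], [], [], [], [], [], [], [], [], [], [], [], [], [], [], [], [], [], [], [], [], [], [], [], [], [], [], [], [], [], [], []]
def cyc28 : List (List (ℕ × ℕ)) := [[(68, 1)], [(0, 1)], [], [], [], [(2, 1), (28, 1)], [(2, 1)], [], [], [], [], [], [], [], [], [], [], [], [], [], [], [(1, 1), (8, 1), (21, 1)], [(8, 1)], [(20, 1)], [], [], [], [(1, 1)], [(2, 1)], [], [], [], [], [], [], [], [], [], [], [], [], [], [], [], [], [], [], [], [], [], [], [], [], [], [], [], [], [], [], [], [], [], [], [], [], [], [], [], [], [], [], [], []]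
def cyc30 : List (List (ℕ × ℕ)) := [[(32, 1), (89, 1), (94, 1), (127, 1), (222, 1)], [], [], [], [], [(9, 1), (30, 1), (112, 1)], [], [], [], [], [], [], [], [], [], [], [], [], [], [], [], [(216, 1), (227, 1)], [], [], [], [], [], [], [], [], [], [], [(29, 1)], [(29, 1)], [], [], [], [], [], [], [], [], [], [], [], [], [], [], [], [], [], [], [], [], [], [], [], [], [], [], [], [], [], [], [], [], [], [], [], [], [], [], []]
def cyc31 : List (List (ℕ × ℕ)) := [[(4, 1), (15, 1)], [], [], [], [], [(1, 1), (14, 1), (22, 1)], [], [(0, 1), (180, 1)], [], [(0, 1)], [], [], [], [], [], [(18, 1)], [], [], [], [(15, 1)], [], [(21, 1)], [(8, 1)], [], [], [], [], [], [], [], [], [], [], [], [], [], [], [], [], [], [], [(51, 1)], [], [], [], [], [], [], [], [], [], [], [], [], [], [], [], [], [], [], [], [], [], [], [], [], [], [], [], [], [], [], []]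
def cyc32 : List (List (ℕ × ℕ)) := [[(15, 1)], [(5, 1)], [], [], [], [(1, 1)], [], [], [], [], [(0, 1)], [], [], [(0, 1)], [], [(27, 1)], [], [], [(2, 1)], [(18, 1), (26, 1)], [(8, 1), (27, 1)], [], [], [], [], [], [], [], [], [], [], [], [], [], [], [], [], [], [], [], [], [], [], [], [], [(18, 1)], [], [], [], [], [], [], [], [], [], [], [], [], [], [], [(8, 1)], [], [], [], [], [], [], [], [], [], [], [], []]
def cyc34 : List (List (ℕ × ℕ)) := [[(2, 1)], [(0, 1)], [], [], [], [(1, 1), (2, 1), (14, 1)], [(2, 1)], [(1, 1)], [], [], [(0, 1), (1, 1)], [], [(14, 1)], [], [], [], [(2, 1)], [(2, 1)], [], [(15, 1)], [(8, 1)], [(17, 1)], [], [], [], [], [], [], [], [], [], [], [], [], [], [], [], [], [], [], [(59, 1)], [], [], [], [], [], [], [], [], [], [], [], [], [], [], [], [], [], [], [], [], [], [], [], [], [], [], [], [], [], [], [], []]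
def cyc35 : List (List (ℕ × ℕ)) := [[(4, 1)], [(5, 1)], [], [(0, 1)], [], [(2, 1), (14, 1)], [(2, 1)], [(1, 1)], [], [], [(0, 1), (1, 1), (2, 1)], [], [(14, 1)], [], [], [], [(2, 1)], [(2, 1)], [(0, 1), (2, 1)], [], [], [], [], [], [], [], [], [], [], [], [], [], [], [], [], [], [], [], [], [], [], [], [(58, 1)], [], [], [], [], [], [], [], [], [], [], [], [], [], [], [], [], [], [], [], [], [], [], [], [], [], [], [], [], [(5, 1)], []]
def cyc37 : List (List (ℕ × ℕ)) := [[(15, 1)], [(0, 1), (5, 1)], [], [], [], [(1, 1), (2, 1), (14, 1)], [], [], [], [(1, 1)], [], [], [(5, 1)], [(0, 1)], [(1, 1), (14, 1)], [], [(2, 1)], [], [], [(0, 1)], [], [(1, 1), (50, 1)], [], [], [], [], [], [], [], [], [], [], [], [], [(57, 1)], [], [], [], [], [], [], [], [], [], [(4, 1)], [], [], [], [], [], [], [], [], [], [], [], [], [], [], [], [], [], [], [], [], [], [], [], [], [], [], [], []]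
def cyc38 : List (List (ℕ × ℕ)) := [[], [(16, 1)], [], [(0, 1), (54, 1)], [], [], [], [(0, 1)], [(2, 1)], [(0, 1), (15, 1)], [(2, 1)], [(2, 1)], [(14, 1)], [], [(1, 1), (14, 1)], [], [(2, 1)], [(2, 1)], [], [(0, 1), (26, 1)], [], [], [], [], [], [], [], [], [], [], [], [], [], [], [], [], [], [], [], [], [], [], [], [(54, 1)], [], [(14, 1)], [], [], [], [], [], [], [], [], [], [], [], [], [], [], [], [], [], [], [], [], [], [], [], [], [], [], []]
def cyc40 : List (List (ℕ × ℕ)) := [[(2, 1), (15, 1), (31, 1)], [], [], [(0, 1)], [], [(2, 1), (14, 1)], [(2, 1)], [(0, 1)], [(2, 1)], [], [(0, 1)], [(2, 1)], [(14, 1)], [(0, 1)], [(1, 1), (14, 1)], [(18, 1)], [], [], [], [], [(8, 1)], [], [], [], [], [], [], [], [], [], [], [], [], [], [], [], [], [], [], [], [], [], [], [], [], [], [], [], [], [], [], [], [], [], [], [(87, 1)], [], [], [], [], [], [], [], [(0, 1)], [], [], [], [], [], [], [], [], []]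
def cyc42 : List (List (ℕ × ℕ)) := [[(2, 1)], [(0, 1)], [], [], [], [], [], [(0, 1)], [(2, 1)], [(0, 1), (1, 1)], [(0, 1), (2, 1)], [(2, 1)], [(5, 1)], [], [(1, 1), (8, 1)], [(27, 1)], [], [(2, 1)], [(2, 1)], [(0, 1), (15, 1)], [(8, 1), (27, 1)], [(17, 1)], [], [], [], [], [], [], [], [], [], [], [(1, 1)], [], [], [], [], [], [], [], [], [], [], [], [], [], [], [], [], [], [], [], [], [], [], [], [], [], [], [], [], [], [], [], [], [], [], [], [], [], [], [], []]
def cyc43 : List (List (ℕ × ℕ)) := [[(2, 1), (15, 1), (63, 1)], [], [], [], [], [(2, 1), (19, 1), (55, 1)], [(2, 1)], [(1, 1)], [(0, 1)], [], [(0, 1)], [(2, 1)], [(14, 1)], [(0, 1)], [(8, 1), (14, 1)], [(27, 1)], [], [], [], [], [(8, 1)], [(4, 1), (5, 1)], [], [], [], [], [], [], [], [], [], [], [], [], [], [], [], [], [], [], [], [], [], [], [], [], [], [], [], [(14, 1)], [], [], [], [], [(55, 1)], [], [], [], [], [], [], [], [], [], [], [], [], [], [], [], [], [], []]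
def cyc45 : List (List (ℕ × ℕ)) := [[(2, 1)], [], [(0, 1)], [], [], [(1, 1)], [(2, 1), (4, 1)], [(0, 1)], [(2, 1)], [], [], [(2, 1)], [(0, 1)], [(0, 1)], [(8, 1), (14, 1)], [(18, 1), (27, 1)], [(0, 1)], [], [(2, 1)], [(0, 1), (15, 1), (18, 1)], [(8, 1)], [], [], [], [], [], [], [], [], [], [], [(14, 1)], [], [], [], [], [], [], [], [], [], [], [], [], [], [], [], [], [], [], [], [], [], [], [], [], [], [], [], [], [(2, 1)], [], [], [], [], [], [], [], [], [], [], [], []]
def cyc50 : List (List (ℕ × ℕ)) := [[(76, 1)], [], [], [(0, 1)], [], [(1, 1)], [(2, 1)], [(1, 1)], [(0, 1), (2, 1)], [(0, 1), (1, 1)], [(0, 1)], [(2, 1)], [(5, 1)], [(0, 1)], [(14, 1)], [(27, 1)], [(2, 1)], [(2, 1)], [], [(0, 1), (26, 1)], [(27, 1)], [(24, 1), (26, 1)], [], [(1, 1)], [], [], [], [], [], [], [], [], [], [], [], [(27, 1)], [], [], [], [], [], [], [], [], [], [], [], [(4, 1)], [], [], [(14, 1)], [], [], [], [], [], [], [], [], [], [], [], [], [], [], [], [], [], [], [], [], [], []]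
def cyc51 : List (List (ℕ × ℕ)) := [[(4, 1)], [(5, 1)], [], [], [], [(2, 1), (52, 1)], [], [(0, 1)], [], [(1, 1)], [(2, 1)], [], [(0, 1), (5, 1)], [], [(14, 1)], [(18, 1), (27, 1)], [(2, 1)], [], [(0, 1), (2, 1)], [(18, 1), (26, 1)], [], [(15, 1), (41, 1)], [(17, 1)], [], [], [], [], [], [], [], [], [], [], [], [], [], [], [], [], [], [(15, 1), (47, 1)], [(59, 1)], [], [], [], [], [], [], [], [], [(5, 1)], [], [], [], [], [], [], [], [], [], [(8, 1)], [], [], [], [], [], [(0, 1)], [], [], [], [], [], []]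
def cyc52 : List (List (ℕ × ℕ)) := [[(2, 1)], [], [(0, 1)], [], [], [(2, 1)], [(2, 1)], [], [(0, 1)], [], [(1, 1)], [], [(5, 1)], [], [(1, 1), (14, 1)], [(18, 1)], [], [(2, 1)], [(0, 1), (2, 1)], [(15, 1), (18, 1), (26, 1)], [(8, 1), (27, 1)], [(17, 1), (47, 1)], [], [], [(18, 1), (158, 1)], [], [], [], [], [], [], [], [], [], [], [], [], [], [], [], [], [], [], [], [], [], [], [], [], [(2, 1)], [], [], [], [], [], [], [], [], [], [], [(2, 1)], [(18, 1)], [], [], [], [], [], [(18, 1)], [], [], [], [], []]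
def cyc54 : List (List (ℕ × ℕ)) := [[(2, 1), (4, 1)], [], [], [], [], [(1, 1), (14, 1)], [(4, 1)], [(1, 1)], [], [(15, 1)], [(2, 1)], [(2, 1)], [(14, 1)], [], [(8, 1)], [(27, 1)], [(2, 1)], [(0, 1), (2, 1)], [(0, 1)], [(0, 1), (15, 1)], [], [(17, 1)], [], [], [], [], [], [], [], [], [(0, 1)], [], [], [], [(8, 1)], [], [(0, 1), (320, 1)], [], [], [], [], [], [], [], [(0, 1)], [], [], [(27, 1)], [], [], [(5, 1)], [], [], [], [], [], [], [(0, 1)], [], [], [], [(18, 1)], [], [], [], [], [], [], [], [], [], [], []]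
def cyc58 : List (List (ℕ × ℕ)) := [[], [], [(0, 1)], [], [], [(1, 1), (2, 1), (59, 1), (319, 1)], [(4, 1)], [], [(2, 1)], [], [(0, 1)], [(2, 1)], [(0, 1), (5, 1), (14, 1)], [], [(8, 1)], [(18, 1)], [(0, 1)], [(2, 1)], [(2, 1)], [(0, 1)], [(157, 1)], [(47, 1)], [], [], [(18, 1)], [], [], [], [], [], [], [], [], [], [(8, 1)], [], [], [], [], [], [(17, 1)], [], [], [(0, 1)], [(0, 1)], [], [(5, 1)], [], [(8, 1)], [], [], [], [], [], [], [], [], [], [], [], [(8, 1)], [], [], [], [], [], [], [], [], [(27, 1)], [], [], []]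
def cyc59 : List (List (ℕ × ℕ)) := [[(15, 1), (68, 1), (76, 1)], [(6, 1)], [], [(0, 1)], [], [(1, 1), (28, 1)], [(4, 1)], [(0, 1), (1, 1)], [(2, 1)], [(1, 1)], [(1, 1)], [], [(0, 1), (14, 1)], [], [(1, 1), (14, 1)], [(18, 1)], [(0, 1)], [(0, 1)], [], [(0, 1), (15, 1), (18, 1)], [], [(21, 1), (24, 1)], [(8, 1)], [], [], [], [], [], [], [], [], [], [], [], [(48, 1)], [], [], [], [], [], [], [], [], [(1, 1)], [], [], [], [], [], [], [], [], [], [], [], [], [(5, 1)], [], [], [], [], [], [], [], [], [(15, 1)], [], [], [], [], [], [], []]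
def cyc60 : List (List (ℕ × ℕ)) := [[(2, 1), (15, 1), (24, 1)], [(5, 1)], [], [], [], [(14, 1), (52, 1)], [], [(0, 1)], [(2, 1)], [(0, 1), (1, 1), (15, 1)], [(0, 1)], [], [(5, 1)], [(0, 1)], [], [(27, 1)], [(2, 1)], [(2, 1)], [(2, 1)], [(0, 1), (15, 1), (26, 1)], [], [(15, 1), (41, 1)], [(17, 1)], [], [], [], [], [], [], [], [], [], [], [], [(8, 1)], [], [], [], [], [], [(15, 1)], [], [], [], [], [], [], [], [(8, 1)], [], [], [], [], [], [], [], [], [], [], [], [], [(18, 1)], [], [(349, 1)], [], [], [], [(18, 1)], [], [], [], [], []]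
def cyc62 : List (List (ℕ × ℕ)) := [[(2, 1)], [(5, 1), (16, 1)], [], [(54, 1)], [], [(2, 1)], [(4, 1)], [(0, 1), (1, 1)], [], [(0, 1), (1, 1)], [(0, 1)], [(2, 1)], [(0, 1), (5, 1), (14, 1)], [(0, 1)], [(14, 1)], [(18, 1)], [(0, 1)], [(2, 1)], [(0, 1)], [(0, 1), (15, 1), (18, 1), (26, 1)], [(8, 1), (27, 1)], [(4, 1), (14, 1)], [], [], [], [], [], [], [], [], [], [], [], [], [(0, 1)], [], [], [], [], [(0, 1)], [], [], [], [], [], [(14, 1)], [], [], [], [], [], [], [(47, 1)], [], [], [], [], [], [], [], [], [], [], [], [], [], [], [], [], [], [], [], []]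
def cyc66 : List (List (ℕ × ℕ)) := [[(2, 1), (9, 1), (15, 1), (25, 1)], [(16, 1), (28, 1), (49, 1)], [], [(54, 1)], [], [(9, 1)], [(9, 1)], [(0, 1), (1, 1)], [(0, 1), (2, 1), (20, 1)], [(0, 1)], [(92, 1)], [(2, 1)], [(0, 1), (5, 1), (14, 1)], [(0, 1)], [(14, 1)], [(27, 1)], [], [(0, 1)], [(0, 1)], [(18, 1)], [(8, 1)], [(4, 1), (8, 1), (71, 1)], [(7, 1)], [], [(2, 1)], [], [], [], [], [], [], [], [], [], [], [], [(15, 1), (47, 1)], [], [], [], [], [(49, 1)], [], [], [], [(14, 1)], [], [], [(1, 1)], [], [(4, 1)], [], [], [], [], [], [], [], [], [], [], [], [], [], [], [], [], [], [], [], [], [(15, 1)], []]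
def cyc67 : List (List (ℕ × ℕ)) := [[(2, 1), (4, 1), (6, 1), (23, 1), (33, 1), (49, 1), (65, 1), (68, 1), (77, 1)], [(0, 1), (28, 1)], [], [], [], [(1, 1), (6, 1), (25, 1), (28, 1), (33, 1)], [(2, 1)], [(0, 1), (1, 1)], [(0, 1)], [(1, 1)], [(0, 1), (1, 1)], [(2, 1)], [(5, 1)], [(0, 1)], [(8, 1)], [(18, 1), (73, 1)], [(2, 1)], [(2, 1)], [(0, 1)], [], [(8, 1)], [(0, 1), (8, 1), (14, 1), (21, 1), (24, 1), (26, 1)], [(8, 1)], [(1, 1), (58, 1)], [], [], [], [], [], [(15, 1)], [(1, 1)], [(10, 1)], [], [], [], [], [(47, 1), (51, 1)], [], [(4, 1)], [], [(7, 1)], [], [], [], [], [], [], [], [(26, 1)], [], [(14, 1)], [], [], [], [], [], [], [], [], [(0, 1)], [(135, 1)], [], [], [], [(135, 1)], [], [(15, 1)], [], [(1, 1)], [], [], [], []]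

end Cfsg.Agent.Lib.Helper28.FoxCo3MP2Cyc
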