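import Cfsg.Agent.Lib.Helper28.FoxCo3MP2
import Cfsg.Agent.Lib.Helper28.FoxCo3MP2CycB
import Cfsg.Agent.Lib.Helper28.TCCo3MTable
set_option autoImplicit false
set_option maxRecDepth 100000
set_option maxHeartbeats 0

namespace Cfsg.Agent.Lib.Helper28.FoxCo3MP2ChkB
open Cfsg.Agent.Lib.Helper28.SchurFox Cfsg.Agent.Lib.Helper29.SchurFoxSparse Cfsg.Agent.Lib.Helper28.FoxCo3MP2 Cfsg.Agent.Lib.Helper28.FoxCo3MP2Cyc Cfsg.Agent.Lib.Helper28.TCCo3MTable

theorem hcyc1 : cycleOKS data table.tau 1 cyc1 = true := by decide +kernel
theorem hcyc3 : cycleOKS data table.tau 3 cyc3 = true := by decide +kernel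
theorem hcyc4 : cycleOKS data table.tau 4 cyc4 = true := by decide +kernel
theorem hcyc5 : cycleOKS data table.tau 5 cyc5 = true := by decide +kernel
theorem hcyc7 : cycleOKS data table.tau 7 cyc7 = true := by decide +kernel
theorem hcyc9 : cycleOKS data table.tau 9 cyc9 = true := by decide +kernel
theorem hcyc10 : cycleOKS data table.tau 10 cyc10 = true := by decide +kernel
theorem hcyc13 : cycleOKS data table.tau 13 cyc13 = true := by decide +kernel
theorem hcyc14 : cycleOKS data table.tau 14 cyc14 = true := by decide +kernel
theorem hcyc19 : cycleOKS data table.tau 19 cyc19 = true := by decide +kernel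
theorem hcyc23 : cycleOKS data table.tau 23 cyc23 = true := by decide +kernel
theorem hcyc24 : cycleOKS data table.tau 24 cyc24 = true := by decide +kernel
theorem hcyc25 : cycleOKS data table.tau 25 cyc25 = true := by decide +kernel
theorem hcyc28 : cycleOKS data table.tau 28 cyc28 = true := by decide +kernel
theorem hcyc30 : cycleOKS data table.tau 30 cyc30 = true := by decide +kernel
theorem hcyc31 : cycleOKS data table.tau 31 cyc31 = true := by decide +kernel
theorem hcyc32 : cycleOKS data table.tau 32 cyc32 = true := by decide +kernel
theorem hcyc34 : cycleOKS data table.tau 34 cyc34 = true := by decide +kernel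
theorem hcyc35 : cycleOKS data table.tau 35 cyc35 = true := by decide +kernel
theorem hcyc37 : cycleOKS data table.tau 37 cyc37 = true := by decide +kernel
theorem hcyc38 : cycleOKS data table.tau 38 cyc38 = true := by decide +kernel
theorem hcyc40 : cycleOKS data table.tau 40 cyc40 = true := by decide +kernel
theorem hcyc42 : cycleOKS data table.tau 42 cyc42 = true := by decide +kernel
theorem hcyc43 : cycleOKS data table.tau 43 cyc43 = true := by decide +kernel
theorem hcyc45 : cycleOKS data table.tau 45 cyc45 = true := by decide +kernel
theorem hcyc50 : cycleOKS data table.tau 50 cyc50 = true := by decide +kernel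
theorem hcyc51 : cycleOKS data table.tau 51 cyc51 = true := by decide +kernel
theorem hcyc52 : cycleOKS data table.tau 52 cyc52 = true := by decide +kernel
theorem hcyc54 : cycleOKS data table.tau 54 cyc54 = true := by decide +kernel
theorem hcyc58 : cycleOKS data table.tau 58 cyc58 = true := by decide +kernel
theorem hcyc59 : cycleOKS data table.tau 59 cyc59 = true := by decide +kernel
theorem hcyc60 : cycleOKS data table.tau 60 cyc60 = true := by decide +kernel
theorem hcyc62 : cycleOKS data table.tau 62 cyc62 = true := by decide +kernel
theorem hcyc66 : cycleOKS data table.tau 66 cyc66 = true := by decide +kernel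
theorem hcyc67 : cycleOKS data table.tau 67 cyc67 = true := by decide +kernel

end Cfsg.Agent.Lib.Helper28.FoxCo3MP2ChkB
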