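import Cfsg.Agent.Lib.Helper28.FoxCo3MP2ChkA
import Cfsg.Agent.Lib.Helper28.FoxCo3MP2ChkB
set_option autoImplicit false
set_option maxRecDepth 100000

namespace Cfsg.Agent.Lib.Helper28.FoxCo3MP2Chk
open Cfsg.Agent.Lib.Helper28.SchurFox Cfsg.Agent.Lib.Helper29.SchurFoxSparse Cfsg.Agent.Lib.Helper28.FoxCo3MP2 Cfsg.Agent.Lib.Helper28.FoxCo3MP2Cyc Cfsg.Agent.Lib.Helper28.TCCo3MTable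

/-- the cycles by their cells -/
def CY : List (List (List (ℕ × ℕ))) := [cyc0, cyc1, cyc2, cyc3, cyc4, cyc5, cyc6, cyc7, cyc8, cyc9, cyc10, cyc11, cyc12, cyc13, cyc14, cyc15, cyc16, cyc17, cyc18, cyc19, cyc20, cyc21, cyc22, cyc23, cyc24, cyc25, cyc26, cyc27, cyc28, cyc29, cyc30, cyc31, cyc32, cyc33, cyc34, cyc35, cyc36, cyc37, cyc38, cyc39, cyc40, cyc41, cyc42, cyc43, cyc44, cyc45, cyc46, cyc47, cyc48, cyc49, cyc50, cyc51, cyc52, cyc53, cyc54, cyc55, cyc56, cyc57, cyc58, cyc59, cyc60, cyc61, cyc62, cyc63, cyc64, cyc65, cyc66, cyc67, cyc68]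

theorem hstatic : data.staticOK table.tau = true := Cfsg.Agent.Lib.Helper28.FoxCo3MP2ChkA.hstatic

theorem hcyc : ∀ k < data.cycles.length, cycleOKS data table.tau k (CY.getD k []) = true := by
  intro k hk
  have hk' : k < 69 := hk
  interval_cases k
  exacts [Cfsg.Agent.Lib.Helper28.FoxCo3MP2ChkA.hcyc0, Cfsg.Agent.Lib.Helper28.FoxCo3MP2ChkB.hcyc1, Cfsg.Agent.Lib.Helper28.FoxCo3MP2ChkA.hcyc2, Cfsg.Agent.Lib.Helper28.FoxCo3MP2ChkB.hcyc3, Cfsg.Agent.Lib.Helper28.FoxCo3MP2ChkB.hcyc4, Cfsg.Agent.Lib.Helper28.FoxCo3MP2ChkB.hcyc5, Cfsg.Agent.Lib.Helper28.FoxCo3MP2ChkA.hcyc6, Cfsg.Agent.Lib.Helper28.FoxCo3MP2ChkB.hcyc7, Cfsg.Agent.Lib.Helper28.FoxCo3MP2ChkA.hcyc8, Cfsg.Agent.Lib.Helper28.FoxCo3MP2ChkB.hcyc9, Cfsg.Agent.Lib.Helper28.FoxCo3MP2ChkB.hcyc10,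 Cfsg.Agent.Lib.Helper28.FoxCo3MP2ChkA.hcyc11, Cfsg.Agent.Lib.Helper28.FoxCo3MP2ChkA.hcyc12, Cfsg.Agent.Lib.Helper28.FoxCo3MP2ChkB.hcyc13, Cfsg.Agent.Lib.Helper28.FoxCo3MP2ChkB.hcyc14, Cfsg.Agent.Lib.Helper28.FoxCo3MP2ChkA.hcyc15, Cfsg.Agent.Lib.Helper28.FoxCo3MP2ChkA.hcyc16, Cfsg.Agent.Lib.Helper28.FoxCo3MP2ChkA.hcyc17, Cfsg.Agent.Lib.Helper28.FoxCo3MP2ChkA.hcyc18, Cfsg.Agent.Lib.Helper28.FoxCo3MP2ChkB.hcyc19, Cfsg.Agent.Lib.Helper28.FoxCo3MP2ChkA.hcyc20, Cfsg.Agent.Lib.Helper28.FoxCo3MP2ChkA.hcyc21, Cfsg.Agent.Lib.Helper28.FoxCo3MP2ChkA.hcyc22, Cfsg.Agent.Lib.Helper28.FoxCo3MP2ChkB.hcyc23, Cfsg.Agent.Lib.Helper28.FoxCo3MP2ChkB.hcyc24, Cfsg.Agent.Lib.Helper28.FoxCo3MP2ChkB.hcyc25, Cfsg.Agent.Lib.Helper28.FoxCo3MP2ChkA.hcyc26, Cfsg.Agent.Lib.Helper28.FoxCo3MP2ChkA.hcyc27,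 Cfsg.Agent.Lib.Helper28.FoxCo3MP2ChkB.hcyc28, Cfsg.Agent.Lib.Helper28.FoxCo3MP2ChkA.hcyc29, Cfsg.Agent.Lib.Helper28.FoxCo3MP2ChkB.hcyc30, Cfsg.Agent.Lib.Helper28.FoxCo3MP2ChkB.hcyc31, Cfsg.Agent.Lib.Helper28.FoxCo3MP2ChkB.hcyc32, Cfsg.Agent.Lib.Helper28.FoxCo3MP2ChkA.hcyc33, Cfsg.Agent.Lib.Helper28.FoxCo3MP2ChkB.hcyc34, Cfsg.Agent.Lib.Helper28.FoxCo3MP2ChkB.hcyc35, Cfsg.Agent.Lib.Helper28.FoxCo3MP2ChkA.hcyc36, Cfsg.Agent.Lib.Helper28.FoxCo3MP2ChkB.hcyc37, Cfsg.Agent.Lib.Helper28.FoxCo3MP2ChkB.hcyc38, Cfsg.Agent.Lib.Helper28.FoxCo3MP2ChkA.hcyc39, Cfsg.Agent.Lib.Helper28.FoxCo3MP2ChkB.hcyc40, Cfsg.Agent.Lib.Helper28.FoxCo3MP2ChkA.hcyc41, Cfsg.Agent.Lib.Helper28.FoxCo3MP2ChkB.hcyc42, Cfsg.Agent.Lib.Helper28.FoxCo3MP2ChkB.hcyc43, Cfsg.Agent.Lib.Helper28.FoxCo3MP2ChkA.hcyc44,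 Cfsg.Agent.Lib.Helper28.FoxCo3MP2ChkB.hcyc45, Cfsg.Agent.Lib.Helper28.FoxCo3MP2ChkA.hcyc46, Cfsg.Agent.Lib.Helper28.FoxCo3MP2ChkA.hcyc47, Cfsg.Agent.Lib.Helper28.FoxCo3MP2ChkA.hcyc48, Cfsg.Agent.Lib.Helper28.FoxCo3MP2ChkA.hcyc49, Cfsg.Agent.Lib.Helper28.FoxCo3MP2ChkB.hcyc50, Cfsg.Agent.Lib.Helper28.FoxCo3MP2ChkB.hcyc51, Cfsg.Agent.Lib.Helper28.FoxCo3MP2ChkB.hcyc52, Cfsg.Agent.Lib.Helper28.FoxCo3MP2ChkA.hcyc53, Cfsg.Agent.Lib.Helper28.FoxCo3MP2ChkB.hcyc54, Cfsg.Agent.Lib.Helper28.FoxCo3MP2ChkA.hcyc55, Cfsg.Agent.Lib.Helper28.FoxCo3MP2ChkA.hcyc56, Cfsg.Agent.Lib.Helper28.FoxCo3MP2ChkA.hcyc57, Cfsg.Agent.Lib.Helper28.FoxCo3MP2ChkB.hcyc58, Cfsg.Agent.Lib.Helper28.FoxCo3MP2ChkB.hcyc59, Cfsg.Agent.Lib.Helper28.FoxCo3MP2ChkB.hcyc60, Cfsg.Agent.Lib.Helper28.FoxCo3MP2ChkA.hcyc61,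 Cfsg.Agent.Lib.Helper28.FoxCo3MP2ChkB.hcyc62, Cfsg.Agent.Lib.Helper28.FoxCo3MP2ChkA.hcyc63, Cfsg.Agent.Lib.Helper28.FoxCo3MP2ChkA.hcyc64, Cfsg.Agent.Lib.Helper28.FoxCo3MP2ChkA.hcyc65, Cfsg.Agent.Lib.Helper28.FoxCo3MP2ChkB.hcyc66, Cfsg.Agent.Lib.Helper28.FoxCo3MP2ChkB.hcyc67, Cfsg.Agent.Lib.Helper28.FoxCo3MP2ChkA.hcyc68]

end Cfsg.Agent.Lib.Helper28.FoxCo3MP2Chk
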