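import Mathlib.Data.Nat.Notation
set_option autoImplicit false
set_option maxRecDepth 100000

namespace Cfsg.Agent.Lib.Helper28.FoxCo3MP2Cyc

def cyc0 : List (List (ℕ × ℕ)) := [[(0, 1)], [], [], [], [], [], [], [], [], [], [], [], [], [], [], [], [], [], [], [], [], [], [], [], [], [], [], [], [], [], [], [], [], [], [], [], [], [], [], [], [], [], [], [], [], [], [], [], [], [], [], [], [], [], [], [], [], [], [], [], [], [], [], [], [], [], [], [], [], [], [], [], []]
def cyc2 : List (List (ℕ × ℕ)) := [[], [], [], [], [], [], [(0, 1)], [], [], [], [], [], [], [], [], [], [], [], [], [], [], [], [], [], [], [], [], [], [], [], [], [], [], [], [], [], [], [], [], [], [], [], [], [], [], [], [], [], [], [], [], [], [], [], [], [], [], [], [], [], [], [], [], [], [], [], [], [], [], [], [], [], []]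
def cyc6 : List (List (ℕ × ℕ)) := [[], [], [], [], [], [], [], [], [(24, 1)], [], [], [], [], [], [], [], [], [], [], [], [], [], [], [], [], [], [], [], [], [], [], [], [], [], [], [], [], [], [], [], [], [], [], [], [], [], [], [], [], [], [], [], [], [], [], [], [], [], [], [], [], [], [], [], [], [], [], [], [], [], [], [], []]
def cyc8 : List (List (ℕ × ℕ)) := [[], [], [], [], [], [], [], [], [], [], [], [], [], [], [], [], [], [], [], [], [], [], [(2, 1)], [], [], [], [], [], [], [], [], [], [], [], [], [], [], [], [], [], [], [], [], [], [], [], [], [], [], [], [], [], [], [], [], [], [], [], [], [], [], [], [], [], [], [], [], [], [], [], [], [], []]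
def cyc11 : List (List (ℕ × ℕ)) := [[], [], [], [], [], [], [], [], [], [], [], [], [], [], [], [], [], [], [], [], [], [], [], [], [], [], [], [], [], [], [], [], [], [], [], [], [], [], [], [], [], [], [], [], [], [], [], [], [], [], [], [], [], [], [], [(29, 1)], [], [], [], [(85, 1)], [], [], [], [], [], [], [], [], [], [], [], [], []]
def cyc12 : List (List (ℕ × ℕ)) := [[], [], [], [], [], [], [], [], [], [], [], [], [], [], [], [], [], [], [], [], [], [], [], [], [], [], [(29, 1)], [], [(29, 1)], [], [], [], [], [], [], [], [], [], [], [], [], [], [], [], [], [], [], [], [], [], [], [], [], [], [], [], [], [], [], [], [], [], [], [], [], [], [], [], [], [], [], [], []]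
def cyc15 : List (List (ℕ × ℕ)) := [[], [], [], [], [], [], [], [], [], [], [], [], [], [], [], [], [], [], [], [], [], [], [], [], [], [], [], [(38, 1)], [(38, 1)], [], [], [], [], [], [], [], [], [], [], [], [], [], [], [], [], [], [], [], [], [], [], [], [], [], [], [], [], [], [], [], [], [], [], [], [], [], [], [], [], [], [], [], []]
def cyc16 : List (List (ℕ × ℕ)) := [[], [], [], [], [], [], [], [], [], [], [], [], [], [], [], [], [], [], [], [], [], [], [], [], [], [], [], [], [], [], [], [], [], [], [], [], [], [], [], [], [(17, 1)], [], [], [], [], [], [], [], [], [], [], [(17, 1)], [], [], [], [], [], [], [], [], [], [], [], [], [], [], [], [], [], [], [], [], []]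
def cyc17 : List (List (ℕ × ℕ)) := [[], [], [], [], [], [], [], [], [], [], [], [], [], [], [], [], [], [], [], [], [], [], [], [], [], [], [], [], [], [], [], [], [], [], [], [], [(19, 1)], [], [], [], [], [], [], [], [(19, 1)], [], [], [], [], [], [], [], [], [], [], [], [], [], [], [], [], [], [], [], [], [], [], [], [], [], [], [], []]
def cyc18 : List (List (ℕ × ℕ)) := [[], [], [], [], [], [(2, 1), (4, 1)], [], [], [], [], [], [], [], [], [], [], [], [], [(2, 1)], [], [], [], [], [], [], [], [], [], [], [], [], [], [], [], [], [], [], [], [], [], [], [], [], [], [], [], [], [], [], [], [], [], [], [], [], [], [], [], [], [], [], [], [], [], [], [], [], [], [], [], [], [], []]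
def cyc20 : List (List (ℕ × ℕ)) := [[(15, 1)], [], [], [], [], [], [], [(0, 1)], [], [], [(0, 1)], [], [(26, 1)], [], [], [], [], [], [], [], [], [], [], [], [], [], [], [], [], [], [], [], [], [], [], [], [], [], [], [], [], [], [], [], [], [], [], [], [], [], [], [], [], [], [], [], [], [], [], [], [], [], [], [], [], [], [], [], [], [], [], [], []]
def cyc21 : List (List (ℕ × ℕ)) := [[], [], [], [], [], [], [(2, 1)], [(0, 1)], [], [(0, 1)], [], [(2, 1)], [], [], [], [(26, 1)], [], [], [(2, 1)], [], [], [], [], [], [], [], [], [], [], [], [], [], [], [], [], [], [], [], [], [], [], [], [], [], [], [], [], [], [], [], [], [], [], [], [], [], [], [], [], [], [], [], [], [], [], [], [], [], [], [], [], [], []]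
def cyc22 : List (List (ℕ × ℕ)) := [[], [], [], [], [(27, 1)], [(2, 1)], [], [], [], [], [(0, 1)], [], [], [], [], [(27, 1)], [], [], [(2, 1)], [], [(8, 1)], [], [], [], [], [], [], [], [], [], [], [], [], [], [], [], [], [], [], [], [], [], [], [], [], [], [], [], [], [], [], [], [], [], [], [], [], [], [], [], [], [], [], [], [], [], [], [], [], [], [], [], []]
def cyc26 : List (List (ℕ × ℕ)) := [[], [], [], [], [], [(2, 1)], [], [(0, 1)], [(2, 1)], [], [(0, 1)], [], [], [(75, 1)], [], [(27, 1)], [], [], [(2, 1)], [], [(8, 1)], [], [], [], [], [], [], [], [], [], [], [], [], [], [], [], [], [], [], [], [], [], [], [], [], [], [], [], [], [], [], [], [], [], [], [], [], [], [], [], [], [], [], [], [], [], [], [], [], [], [], [], []]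
def cyc27 : List (List (ℕ × ℕ)) := [[(15, 1)], [(0, 1)], [], [], [], [(2, 1)], [(2, 1)], [], [], [], [(2, 1)], [], [], [], [], [], [(2, 1)], [(2, 1)], [], [], [(8, 1)], [], [], [], [], [], [], [], [], [(135, 1)], [], [(29, 1)], [], [], [], [], [], [], [], [], [], [], [], [], [], [], [], [], [], [], [], [], [], [], [], [], [], [], [], [], [], [], [], [], [], [], [], [], [], [], [], [], []]
def cyc29 : List (List (ℕ × ℕ)) := [[(4, 1), (136, 1)], [], [], [(0, 1)], [], [], [], [(0, 1)], [], [(1, 1)], [(0, 1)], [], [], [], [], [], [], [(0, 1), (2, 1)], [(0, 1), (2, 1)], [], [], [(47, 1)], [], [], [], [], [(319, 1)], [], [], [], [], [], [], [], [], [], [], [], [], [], [], [], [], [], [], [], [], [], [], [], [], [], [], [], [], [], [], [], [], [], [], [], [], [], [], [], [], [], [], [], [], [], []]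
def cyc33 : List (List (ℕ × ℕ)) := [[(15, 1), (24, 1), (38, 1)], [], [], [], [], [(2, 1), (11, 1)], [], [], [], [(44, 1)], [], [], [(0, 1)], [], [(0, 1)], [], [(2, 1)], [(2, 1)], [], [], [(8, 1)], [(0, 1)], [], [], [], [], [], [], [(109, 1)], [], [], [(12, 1)], [], [], [], [], [], [], [], [], [], [], [], [], [], [], [], [], [], [], [(1, 1)], [], [], [], [], [], [], [], [], [], [], [], [], [], [], [], [], [], [], [], [], [], []]
def cyc36 : List (List (ℕ × ℕ)) := [[], [(0, 1)], [(59, 1)], [], [], [(1, 1), (2, 1), (14, 1)], [(2, 1)], [], [], [(0, 1), (15, 1)], [(0, 1), (2, 1)], [], [(14, 1)], [], [], [(27, 1)], [(2, 1)], [], [(2, 1)], [(26, 1)], [], [(17, 1)], [], [], [], [], [], [], [], [], [], [], [], [], [], [], [], [], [], [], [], [], [], [], [], [], [], [], [(8, 1)], [], [], [], [], [], [], [], [], [], [], [], [], [], [], [], [], [], [], [], [], [], [], [], []]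
def cyc39 : List (List (ℕ × ℕ)) := [[(15, 1)], [(0, 1)], [(0, 1)], [(0, 1)], [], [(14, 1)], [], [(1, 1)], [(0, 1), (2, 1)], [(0, 1)], [(2, 1)], [(2, 1)], [], [(0, 1)], [(1, 1)], [(18, 1)], [(1, 1), (2, 1)], [(2, 1)], [], [], [(8, 1)], [], [], [], [], [], [], [], [], [], [], [], [], [], [], [], [], [], [], [], [], [], [], [], [], [], [], [], [], [], [], [], [], [], [], [], [], [], [], [], [], [], [], [], [], [], [], [], [], [], [], [], []]
def cyc41 : List (List (ℕ × ℕ)) := [[(4, 1), (15, 1)], [(0, 1)], [], [], [], [(2, 1), (14, 1)], [(2, 1)], [], [], [(1, 1), (15, 1), (345, 1)], [], [(2, 1)], [], [], [(8, 1)], [(27, 1)], [], [(2, 1)], [], [], [(8, 1)], [(17, 1), (47, 1)], [], [], [(18, 1)], [], [], [], [], [], [], [], [], [], [], [], [], [], [], [], [(17, 1), (47, 1)], [], [], [], [], [], [], [], [], [], [(5, 1)], [], [], [], [], [], [], [], [], [], [], [], [], [], [], [], [], [], [], [], [], [], []]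
def cyc44 : List (List (ℕ × ℕ)) := [[(4, 1), (15, 1), (156, 1)], [], [], [], [], [(1, 1), (2, 1), (14, 1)], [(2, 1)], [(0, 1)], [(2, 1)], [(0, 1)], [(0, 1)], [], [(5, 1)], [], [(1, 1)], [], [], [], [(2, 1)], [(15, 1)], [], [(18, 1), (57, 1)], [], [], [], [(5, 1)], [], [(58, 1)], [], [(5, 1)], [], [(15, 1)], [], [], [], [], [], [], [], [], [], [], [], [], [], [], [], [], [], [], [], [], [], [], [], [], [], [], [], [], [], [], [], [], [], [], [], [], [], [], [], [], []]
def cyc46 : List (List (ℕ × ℕ)) := [[(2, 1), (15, 1)], [], [(0, 1)], [(0, 1)], [], [(2, 1), (14, 1)], [(2, 1), (4, 1)], [], [(0, 1)], [(0, 1)], [(0, 1), (2, 1), (157, 1)], [(2, 1)], [], [], [(14, 1)], [(18, 1)], [], [(0, 1)], [], [(0, 1), (15, 1)], [], [(17, 1)], [], [], [], [], [], [], [], [], [], [], [], [], [], [], [], [], [], [], [], [], [], [], [], [], [], [], [], [], [(5, 1)], [], [], [], [], [], [], [(0, 1)], [], [], [(2, 1)], [], [], [], [], [], [], [], [], [], [], [], []]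
def cyc47 : List (List (ℕ × ℕ)) := [[(4, 1), (15, 1), (59, 1)], [(0, 1), (5, 1)], [], [], [], [(2, 1), (14, 1)], [(2, 1)], [], [(0, 1), (2, 1)], [(0, 1), (1, 1), (15, 1)], [(0, 1), (2, 1)], [], [(14, 1)], [], [(8, 1)], [], [(2, 1)], [(0, 1)], [(0, 1)], [(15, 1)], [(27, 1)], [], [], [], [], [], [], [], [], [], [], [], [], [], [], [], [], [], [], [], [], [], [], [], [], [], [], [], [(8, 1)], [], [], [], [], [], [], [], [], [], [], [], [], [], [], [], [], [], [], [], [], [], [], [(5, 1)], []]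
def cyc48 : List (List (ℕ × ℕ)) := [[(4, 1)], [(5, 1)], [], [], [], [(14, 1)], [], [(0, 1)], [], [(0, 1), (15, 1)], [], [(2, 1)], [], [(0, 1)], [(8, 1), (14, 1)], [(18, 1), (27, 1)], [(2, 1)], [], [(0, 1), (2, 1), (157, 1)], [(26, 1)], [(27, 1)], [(47, 1)], [], [], [(18, 1)], [(0, 1)], [], [], [], [], [(0, 1)], [], [], [], [], [], [], [], [], [], [(47, 1)], [], [], [], [], [], [], [], [], [], [(5, 1)], [], [], [], [], [], [], [], [], [], [], [], [], [], [], [], [], [], [], [], [], [], []]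
def cyc49 : List (List (ℕ × ℕ)) := [[(4, 1), (24, 1), (136, 1)], [(0, 1), (5, 1)], [], [], [], [(2, 1), (52, 1)], [(2, 1)], [(0, 1)], [(2, 1)], [], [(2, 1)], [], [], [(0, 1)], [(8, 1)], [(27, 1)], [(2, 1)], [], [], [(0, 1)], [], [(15, 1), (17, 1), (41, 1)], [(17, 1)], [], [(18, 1)], [], [], [], [], [], [], [], [], [], [], [], [], [], [], [], [(15, 1), (47, 1)], [], [], [], [], [], [], [(59, 1)], [(8, 1)], [], [], [], [], [], [], [], [], [], [], [], [], [], [], [], [], [], [], [], [], [], [], [], []]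
def cyc53 : List (List (ℕ × ℕ)) := [[(23, 1)], [], [], [], [], [(2, 1), (6, 1)], [(2, 1)], [(0, 1), (1, 1)], [(0, 1), (2, 1)], [(0, 1), (1, 1), (15, 1)], [], [(2, 1)], [(5, 1), (14, 1)], [], [(1, 1), (14, 1)], [], [], [(0, 1)], [(0, 1), (2, 1)], [(15, 1), (26, 1)], [(8, 1), (27, 1)], [(22, 1)], [], [], [], [], [], [], [], [], [], [], [], [], [], [], [(15, 1)], [], [], [], [], [], [(2, 1)], [], [], [], [], [], [], [], [], [], [], [], [], [], [], [], [], [], [], [(51, 1)], [], [], [], [], [], [], [], [], [], [], []]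
def cyc55 : List (List (ℕ × ℕ)) := [[(2, 1), (158, 1)], [(5, 1)], [(0, 1)], [], [], [(2, 1)], [], [(1, 1)], [(0, 1), (267, 1)], [(0, 1), (1, 1), (15, 1)], [(1, 1)], [], [(5, 1), (59, 1)], [], [], [(27, 1)], [(2, 1)], [(2, 1)], [(0, 1)], [(18, 1)], [(27, 1)], [(17, 1)], [], [], [], [], [], [], [], [], [], [], [], [], [(158, 1)], [], [(0, 1)], [], [], [], [(47, 1)], [], [], [], [], [], [], [], [], [(2, 1)], [], [], [], [], [], [], [], [], [], [], [(8, 1)], [], [], [], [], [], [], [], [], [], [(18, 1)], [(5, 1)], []]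
def cyc56 : List (List (ℕ × ℕ)) := [[(4, 1), (15, 1), (158, 1), (267, 1)], [(0, 1)], [], [(0, 1)], [], [(2, 1)], [], [], [(2, 1)], [(15, 1)], [(1, 1)], [(2, 1)], [], [(0, 1)], [(1, 1), (14, 1)], [(18, 1)], [(2, 1), (321, 1)], [(0, 1)], [(2, 1)], [], [(8, 1), (27, 1), (136, 1)], [(17, 1), (47, 1)], [], [], [], [], [], [], [], [], [], [], [], [], [], [], [], [], [], [], [], [], [], [], [], [], [], [], [(8, 1)], [(2, 1)], [], [], [], [], [], [], [], [], [], [], [], [(18, 1)], [], [], [], [], [(58, 1)], [], [], [], [], [], []]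
def cyc57 : List (List (ℕ × ℕ)) := [[(2, 1)], [(0, 1)], [(0, 1)], [], [(319, 1)], [(1, 1), (2, 1)], [(2, 1), (4, 1)], [(0, 1), (1, 1)], [(0, 1), (2, 1)], [], [], [], [(0, 1), (5, 1)], [(0, 1)], [(14, 1)], [], [(0, 1)], [], [(0, 1), (2, 1)], [(0, 1), (18, 1), (26, 1)], [(8, 1)], [(47, 1)], [], [], [], [], [], [], [], [], [], [], [], [], [], [], [(0, 1)], [], [], [], [(17, 1)], [], [], [], [], [], [(5, 1)], [(27, 1)], [], [], [(5, 1)], [], [], [], [], [], [], [], [], [], [], [], [], [], [], [], [], [], [], [], [], [], []]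
def cyc61 : List (List (ℕ × ℕ)) := [[(15, 1), (136, 1)], [], [(0, 1)], [], [], [(1, 1), (2, 1), (14, 1)], [], [(320, 1)], [(2, 1)], [(15, 1)], [(1, 1)], [(2, 1)], [(0, 1), (5, 1)], [], [(0, 1), (14, 1)], [(18, 1), (27, 1)], [(0, 1), (2, 1)], [(0, 1), (2, 1)], [], [(18, 1), (26, 1)], [(27, 1)], [], [], [], [(18, 1)], [], [], [], [], [], [], [], [], [], [], [(48, 1)], [], [], [], [], [], [], [], [], [], [], [], [], [], [], [], [], [], [], [], [], [], [(0, 1)], [], [], [], [], [(26, 1)], [], [], [], [], [(18, 1)], [], [], [], [(5, 1)], []]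
def cyc63 : List (List (ℕ × ℕ)) := [[(4, 1), (15, 1), (24, 1)], [(0, 1)], [], [], [], [(1, 1), (2, 1), (52, 1)], [(4, 1)], [(0, 1)], [(2, 1)], [(1, 1), (15, 1)], [(0, 1)], [(2, 1)], [], [(0, 1)], [(0, 1), (1, 1), (8, 1), (14, 1)], [], [], [], [(0, 1)], [(15, 1)], [(27, 1)], [(15, 1), (17, 1), (41, 1), (47, 1)], [(17, 1)], [], [(18, 1)], [], [], [], [], [], [], [], [], [], [(8, 1)], [], [], [], [], [], [(15, 1), (47, 1)], [], [], [], [], [], [], [], [(8, 1)], [], [], [], [], [(15, 1)], [], [], [], [], [], [], [], [], [], [], [], [], [], [], [], [], [], [], []]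
def cyc64 : List (List (ℕ × ℕ)) := [[(2, 1), (15, 1), (24, 1)], [(0, 1)], [], [], [], [(1, 1), (52, 1), (65, 1), (96, 1)], [(4, 1)], [(0, 1)], [(0, 1)], [(0, 1)], [(0, 1), (2, 1)], [(2, 1)], [(5, 1)], [], [(8, 1), (14, 1)], [(27, 1)], [], [(2, 1)], [], [(26, 1)], [(27, 1)], [(7, 1), (15, 1), (17, 1), (26, 1), (41, 1)], [(17, 1)], [], [], [], [], [], [], [], [], [], [], [], [], [], [(51, 1)], [(48, 1)], [(4, 1)], [(1, 1)], [(15, 1)], [], [], [], [], [], [], [(26, 1)], [], [], [], [], [], [], [], [], [], [], [], [], [], [], [], [], [], [], [], [], [(8, 1)], [], [], [(5, 1)], []]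
def cyc65 : List (List (ℕ × ℕ)) := [[(15, 1), (23, 1), (68, 1)], [], [], [], [], [(1, 1), (2, 1), (6, 1), (28, 1), (49, 1)], [(4, 1)], [], [(0, 1), (2, 1)], [(0, 1)], [(0, 1), (1, 1), (2, 1)], [(2, 1)], [(0, 1), (14, 1)], [(0, 1)], [], [(27, 1), (73, 1)], [(0, 1), (2, 1)], [(0, 1)], [], [(0, 1), (18, 1)], [(8, 1), (27, 1)], [(21, 1)], [(8, 1)], [], [], [], [], [], [], [], [], [(26, 1)], [], [], [(48, 1)], [], [], [], [], [], [], [], [], [], [], [], [(14, 1)], [(4, 1)], [(51, 1)], [], [], [], [], [], [], [], [], [], [], [], [], [], [], [], [], [(15, 1)], [], [], [], [], [], [], []]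
def cyc68 : List (List (ℕ × ℕ)) := [[(3, 1), (11, 1), (13, 1), (16, 1), (23, 1), (24, 1), (25, 1), (33, 1), (38, 1), (44, 1), (45, 1), (49, 1), (56, 1), (67, 1), (68, 1), (77, 1), (130, 1)], [(0, 1), (13, 1), (28, 1), (104, 1)], [(0, 1)], [(0, 1)], [], [(2, 1), (6, 1), (9, 1), (12, 1), (14, 1), (16, 1), (20, 1), (22, 1), (25, 1), (28, 1), (30, 1), (35, 1), (43, 1), (49, 1), (64, 1), (65, 1), (154, 1), (310, 1)], [(2, 1), (4, 1), (9, 1), (45, 1)], [(0, 1)], [(0, 1), (2, 1), (6, 1)], [(12, 1), (15, 1)], [(0, 1), (1, 1), (3, 1), (92, 1)], [(13, 1)], [(5, 1), (14, 1), (19, 1)], [], [(1, 1), (8, 1)], [(73, 1)], [(0, 1)], [(2, 1)], [(2, 1)], [(3, 1)], [(21, 1), (27, 1)], [(5, 1), (10, 1), (17, 1), (21, 1), (22, 1), (24, 1), (36, 1), (41, 1), (50, 1), (51, 1), (131, 1), (153, 1)], [(8, 1), (17, 1)], [(1, 1), (4, 1), (58, 1)], [(27, 1)], [], [(14, 1), (53, 1)], [], [(109, 1)], [(14, 1)], [], [(2, 1), (10, 1)], [], [], [(4, 1), (95, 1)], [(18, 1)], [(4, 1), (15, 1)], [(48, 1)],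 [(4, 1)], [(4, 1)], [(15, 1), (22, 1), (24, 1)], [(51, 1)], [(8, 1)], [], [], [(0, 1)], [(7, 1)], [(4, 1), (51, 1), (57, 1)], [(4, 1), (5, 1), (26, 1)], [(24, 1)], [], [], [], [(61, 1)], [(22, 1)], [], [], [], [(10, 1)], [], [(135, 1)], [], [], [], [], [], [(8, 1), (15, 1), (47, 1), (50, 1)], [(0, 1)], [(8, 1)], [(44, 1)], [], [(5, 1), (27, 1)], []]

end Cfsg.Agent.Lib.Helper28.FoxCo3MP2Cyc
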