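import Cfsg.Agent.Lib.Helper28.FoxCo3MP2
import Cfsg.Agent.Lib.Helper28.FoxCo3MP2CycA
import Cfsg.Agent.Lib.Helper28.TCCo3MTable
set_option autoImplicit false
set_option maxRecDepth 100000
set_option maxHeartbeats 0

namespace Cfsg.Agent.Lib.Helper28.FoxCo3MP2ChkA
open Cfsg.Agent.Lib.Helper28.SchurFox Cfsg.Agent.Lib.Helper29.SchurFoxSparse Cfsg.Agent.Lib.Helper28.FoxCo3MP2 Cfsg.Agent.Lib.Helper28.FoxCo3MP2Cyc Cfsg.Agent.Lib.Helper28.TCCo3MTable

theorem hstatic : data.staticOK table.tau = true := by decide +kernel

theorem hcyc0 : cycleOKS data table.tau 0 cyc0 = true := by decide +kernel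
theorem hcyc2 : cycleOKS data table.tau 2 cyc2 = true := by decide +kernel
theorem hcyc6 : cycleOKS data table.tau 6 cyc6 = true := by decide +kernel
theorem hcyc8 : cycleOKS data table.tau 8 cyc8 = true := by decide +kernel
theorem hcyc11 : cycleOKS data table.tau 11 cyc11 = true := by decide +kernel
theorem hcyc12 : cycleOKS data table.tau 12 cyc12 = true := by decide +kernel
theorem hcyc15 : cycleOKS data table.tau 15 cyc15 = true := by decide +kernel
theorem hcyc16 : cycleOKS data table.tau 16 cyc16 = true := by decide +kernel
theorem hcyc17 : cycleOKS data table.tau 17 cyc17 = true := by decide +kernel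
theorem hcyc18 : cycleOKS data table.tau 18 cyc18 = true := by decide +kernel
theorem hcyc20 : cycleOKS data table.tau 20 cyc20 = true := by decide +kernel
theorem hcyc21 : cycleOKS data table.tau 21 cyc21 = true := by decide +kernel
theorem hcyc22 : cycleOKS data table.tau 22 cyc22 = true := by decide +kernel
theorem hcyc26 : cycleOKS data table.tau 26 cyc26 = true := by decide +kernel
theorem hcyc27 : cycleOKS data table.tau 27 cyc27 = true := by decide +kernel
theorem hcyc29 : cycleOKS data table.tau 29 cyc29 = true := by decide +kernel
theorem hcyc33 : cycleOKS data table.tau 33 cyc33 = true := by decide +kernel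
theorem hcyc36 : cycleOKS data table.tau 36 cyc36 = true := by decide +kernel
theorem hcyc39 : cycleOKS data table.tau 39 cyc39 = true := by decide +kernel
theorem hcyc41 : cycleOKS data table.tau 41 cyc41 = true := by decide +kernel
theorem hcyc44 : cycleOKS data table.tau 44 cyc44 = true := by decide +kernel
theorem hcyc46 : cycleOKS data table.tau 46 cyc46 = true := by decide +kernel
theorem hcyc47 : cycleOKS data table.tau 47 cyc47 = true := by decide +kernel
theorem hcyc48 : cycleOKS data table.tau 48 cyc48 = true := by decide +kernel
theorem hcyc49 : cycleOKS data table.tau 49 cyc49 = true := by decide +kernel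
theorem hcyc53 : cycleOKS data table.tau 53 cyc53 = true := by decide +kernel
theorem hcyc55 : cycleOKS data table.tau 55 cyc55 = true := by decide +kernel
theorem hcyc56 : cycleOKS data table.tau 56 cyc56 = true := by decide +kernel
theorem hcyc57 : cycleOKS data table.tau 57 cyc57 = true := by decide +kernel
theorem hcyc61 : cycleOKS data table.tau 61 cyc61 = true := by decide +kernel
theorem hcyc63 : cycleOKS data table.tau 63 cyc63 = true := by decide +kernel
theorem hcyc64 : cycleOKS data table.tau 64 cyc64 = true := by decide +kernel
theorem hcyc65 : cycleOKS data table.tau 65 cyc65 = true := by decide +kernel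
theorem hcyc68 : cycleOKS data table.tau 68 cyc68 = true := by decide +kernel

end Cfsg.Agent.Lib.Helper28.FoxCo3MP2ChkA
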