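import Mathlib.Data.Nat.Notation
set_option autoImplicit false
set_option maxRecDepth 100000

namespace Cfsg.Agent.Lib.Helper28.FoxCo3P3Cyc

def cyc2 : List (List (ℕ × ℕ)) := [[], [], [], [], [], [(0, 1)], [], [(0, 1)], [], [], [], [], [], [], [], [], [], [], [], [], [], [], [], [], [], [], [], [], [], [], [], [], [], [], [], [], [], [], [], [], [], [], [], [], [], [], [], [], [], [], [], [], [], [], [], [], [], [], [], [], [], [], [], [], [], [], [], [], [], [], [], [], []]
def cyc6 : List (List (ℕ × ℕ)) := [[], [], [], [], [], [(0, 1)], [], [], [], [], [], [], [], [], [], [], [], [], [(0, 1)], [], [], [], [], [], [], [], [], [], [], [], [], [], [], [], [], [], [], [], [], [], [], [], [], [], [], [], [], [], [], [], [], [], [], [], [], [], [], [], [], [], [], [], [], [], [], [], [], [], [], [], [], [], []]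
def cyc11 : List (List (ℕ × ℕ)) := [[(0, 1)], [], [], [], [], [(0, 2)], [], [], [], [], [], [(0, 1)], [], [], [], [], [], [], [], [], [], [], [], [], [], [], [], [], [], [], [], [], [], [], [], [], [], [], [], [], [], [], [], [], [], [], [], [], [], [], [], [], [], [], [], [], [], [], [], [], [], [], [], [], [], [], [], [], [], [], [], [], []]
def cyc15 : List (List (ℕ × ℕ)) := [[], [(0, 1)], [], [], [], [], [], [], [], [], [], [], [], [], [], [], [], [], [], [], [], [], [], [], [], [], [], [], [], [], [], [], [], [], [], [], [], [(18, 2)], [(18, 1)], [], [], [], [], [], [], [], [], [], [], [], [], [], [], [], [], [], [], [], [], [], [], [], [], [], [], [], [], [], [], [], [], [], []]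
def cyc16 : List (List (ℕ × ℕ)) := [[], [(8, 1)], [], [], [], [], [], [], [], [], [], [], [], [], [], [], [], [], [], [], [], [], [], [], [], [], [], [], [], [], [], [], [], [], [], [], [], [], [], [], [], [], [], [], [], [], [], [], [], [], [], [], [], [], [], [(361, 2)], [], [], [], [(30, 1)], [], [], [], [], [], [], [], [], [], [], [], [], []]
def cyc19 : List (List (ℕ × ℕ)) := [[(0, 2)], [(0, 1)], [], [], [], [(0, 2)], [], [], [], [], [], [], [], [], [], [(0, 1)], [], [], [], [], [], [], [], [], [], [], [], [], [], [], [], [], [], [], [], [], [], [], [], [], [], [], [], [], [], [], [], [], [], [], [], [], [], [], [], [], [], [], [], [], [], [], [], [], [], [], [], [], [], [], [], [], []]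
def cyc20 : List (List (ℕ × ℕ)) := [[(0, 1)], [(0, 2)], [], [], [], [(0, 1)], [], [], [], [], [], [], [], [], [], [], [], [], [], [(0, 1)], [], [], [], [], [], [], [], [], [], [], [], [], [], [], [], [], [], [], [], [], [], [], [], [], [], [], [], [], [], [], [], [], [], [], [], [], [], [], [], [], [], [], [], [], [], [], [], [], [], [], [], [], []]
def cyc29 : List (List (ℕ × ℕ)) := [[], [], [], [], [], [(226, 1), (452, 2)], [], [], [], [], [], [], [], [], [], [], [], [], [], [], [], [], [], [], [], [], [], [], [(23, 1)], [(23, 2)], [], [], [], [], [], [], [], [(1222, 1)], [(1222, 2)], [], [], [], [], [], [], [], [], [], [], [], [], [], [], [], [], [], [], [], [], [], [], [], [], [], [], [], [], [], [], [], [], [], []]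
def cyc36 : List (List (ℕ × ℕ)) := [[(0, 1), (5, 2), (63, 1)], [(0, 1)], [], [], [], [(0, 2), (1, 2)], [], [], [], [], [], [], [], [], [], [], [], [], [], [], [], [(0, 2)], [], [], [], [(0, 1)], [], [], [], [], [], [], [], [], [], [], [], [], [], [], [], [], [], [], [], [], [], [], [], [], [], [], [], [], [], [], [], [], [], [], [], [], [], [], [], [], [], [], [], [], [], [], []]
def cyc38 : List (List (ℕ × ℕ)) := [[(0, 2), (1, 2), (8, 2)], [(0, 1)], [], [], [], [(2, 2), (102, 1)], [], [], [], [], [], [], [], [], [], [], [], [], [], [], [], [(0, 2)], [], [], [], [], [], [], [], [], [], [], [], [], [], [], [], [], [], [], [], [(0, 1)], [], [], [], [], [], [], [], [], [], [], [], [], [], [], [], [], [], [], [], [], [], [], [], [], [], [], [], [], [], [], []]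
def cyc40 : List (List (ℕ × ℕ)) := [[(0, 1), (1, 2), (7, 2), (12, 2)], [(0, 2)], [], [], [], [(3, 2), (25, 2)], [], [], [], [], [], [], [], [], [], [], [], [], [], [], [], [(0, 1)], [], [], [], [], [], [], [], [], [], [], [], [], [], [], [], [], [], [], [], [], [(0, 1)], [], [], [], [], [], [(0, 1)], [], [], [], [], [], [], [], [], [], [], [], [], [], [], [], [], [], [], [], [], [], [], [], []]
def cyc46 : List (List (ℕ × ℕ)) := [[(0, 1), (3, 1), (15, 1), (37, 1)], [(0, 1), (2, 1), (21, 1)], [], [], [(7, 2), (25, 1)], [(0, 1), (4, 1)], [], [], [], [], [], [], [], [], [], [], [], [], [], [], [], [], [], [], [], [], [], [], [], [], [], [], [], [], [], [], [(0, 1)], [], [], [], [], [], [], [], [], [], [], [], [], [], [], [], [], [], [], [], [], [], [], [], [(0, 1)], [(0, 2)], [], [], [], [], [], [], [], [], [], [(91, 2)], []]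
def cyc49 : List (List (ℕ × ℕ)) := [[(0, 1), (1, 1), (15, 1), (26, 1), (317, 1)], [(0, 1), (26, 2)], [], [], [], [(0, 2), (4, 1), (54, 1), (95, 2)], [(317, 2)], [(23, 1)], [], [], [], [], [], [], [], [], [], [(321, 2)], [], [], [], [(0, 1)], [], [], [], [], [], [], [], [], [], [], [], [], [], [(0, 1)], [], [], [], [], [], [], [], [], [], [], [], [], [], [], [], [], [], [], [], [], [], [(0, 1)], [], [], [], [], [], [], [], [], [], [], [], [], [], [], []]
def cyc51 : List (List (ℕ × ℕ)) := [[(3, 2), (18, 1), (40, 2), (63, 2), (133, 1)], [(0, 2), (10, 1)], [], [], [], [(0, 1), (1, 2), (10, 2), (11, 2)], [(68, 2)], [], [], [], [], [], [], [], [], [], [(38, 1)], [], [], [], [], [(0, 1)], [], [], [(0, 1)], [], [], [], [], [], [], [], [], [], [], [], [], [], [], [], [], [], [], [], [], [], [(0, 1)], [], [(460, 2)], [], [], [], [], [], [(133, 1)], [], [], [], [], [], [], [], [], [], [], [], [], [], [], [], [], [], []]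
def cyc57 : List (List (ℕ × ℕ)) := [[(1, 2), (3, 2), (7, 1), (18, 2), (36, 2), (133, 1)], [(0, 1), (1, 2), (10, 1), (15, 2)], [], [], [], [(2, 1), (25, 1), (66, 1)], [], [(110, 2)], [], [], [(30, 1)], [], [], [], [], [], [], [], [], [], [], [(0, 2)], [], [], [(0, 1)], [], [], [], [], [], [], [], [], [], [(0, 2)], [], [], [], [], [], [], [], [], [], [], [], [(133, 1)], [], [], [], [], [], [], [(0, 2)], [], [], [], [], [], [], [], [], [], [], [], [], [], [(0, 2)], [], [], [], [(0, 2)], []]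
def cyc60 : List (List (ℕ × ℕ)) := [[(0, 2), (1, 2), (3, 2), (7, 2), (15, 2), (37, 2), (44, 1), (96, 2), (521, 2)], [(2, 1), (26, 1), (68, 2), (1063, 2), (2600, 2)], [], [], [(132, 2)], [(0, 1), (4, 2), (44, 2)], [(21, 1)], [], [(1063, 2)], [(522, 1)], [(2600, 2)], [], [], [], [], [], [], [(522, 1)], [(1, 1)], [], [], [(0, 2)], [], [(7, 1)], [(307, 2)], [], [], [], [], [], [], [], [(182, 1)], [], [], [], [(0, 2)], [], [], [], [], [], [], [], [], [], [], [], [], [], [], [], [], [], [], [], [], [], [], [], [], [(0, 1)], [], [], [], [], [(0, 2)], [], [], [], [], [(91, 1)], []]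
def cyc68 : List (List (ℕ × ℕ)) := [[(1, 2), (3, 2), (4, 1), (5, 1), (6, 1), (7, 1), (8, 1), (9, 1), (15, 2), (18, 2), (20, 2), (22, 2), (24, 1), (33, 1), (34, 1), (35, 1), (36, 1), (37, 1), (40, 2), (41, 2), (44, 2), (45, 1), (47, 2), (49, 1), (50, 2), (52, 1), (53, 1), (59, 2), (61, 1), (63, 1), (65, 2), (68, 2), (75, 2), (80, 1), (81, 1), (83, 1), (88, 1), (89, 1), (90, 1), (92, 1), (96, 1), (97, 2), (103, 2), (114, 1), (115, 2), (116, 2), (118, 1), (122, 2), (123, 2), (130, 2), (133, 2), (137, 1), (146, 2), (147, 2), (151, 2), (159, 2), (161, 2), (163, 1), (171, 1), (178, 2), (185, 2), (187, 1), (189, 1), (194, 1), (207, 2), (218, 1), (219, 2), (222, 2), (223, 1), (228, 2), (229, 1), (233, 2), (235, 1), (242, 1), (246, 2), (247, 2), (248, 2), (249, 1), (252, 2), (253, 1), (259, 1), (260, 1), (271, 1), (273, 2), (279, 1), (286, 2), (290, 2), (293, 2), (304, 2), (305, 2), (308, 1), (313, 1), (317, 1), (321, 2), (349, 2), (350, 2), (351, 2), (357, 1), (363, 1),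 (364, 1), (366, 1), (367, 2), (368, 2), (369, 2), (372, 1), (379, 1), (387, 2), (395, 2), (427, 1), (434, 2), (438, 2), (453, 1), (454, 2), (464, 2), (466, 2), (467, 1), (484, 1), (487, 1), (492, 1), (494, 2), (499, 2), (507, 2), (519, 2), (521, 2), (530, 1), (544, 2), (547, 2), (550, 1), (558, 1), (607, 1), (613, 2), (616, 2), (620, 1), (623, 1), (638, 2), (639, 1), (649, 1), (651, 2), (671, 1), (705, 1), (713, 1), (727, 1), (732, 1), (740, 1), (743, 2), (745, 1), (747, 1), (751, 2), (762, 1), (769, 1), (782, 1), (809, 2), (814, 1), (882, 1), (903, 2), (907, 2), (929, 2), (939, 1), (941, 1), (942, 1), (947, 2), (968, 2), (982, 1), (1008, 1), (1026, 1), (1028, 2), (1053, 2), (1066, 1), (1067, 2), (1070, 2), (1154, 1), (1157, 2), (1158, 1), (1164, 2), (1185, 1), (1187, 2), (1189, 2), (1209, 2), (1210, 1), (1215, 2), (1228, 2), (1261, 1), (1321, 1), (1358, 2), (1372, 2), (1455, 2), (1477, 2), (1513, 2), (1542, 2), (1550, 2), (1619, 2), (1627, 2), (1635, 1), (1690,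 2), (1712, 1), (1714, 2), (1719, 1), (1720, 1), (1734, 2), (1741, 2), (1827, 1), (1867, 2), (1916, 1), (1974, 1), (2007, 2), (2046, 1), (2061, 2), (2109, 1), (2138, 2), (2293, 1), (2343, 1), (2473, 2), (2474, 2), (2487, 1), (2489, 1), (2503, 2), (2507, 1), (2520, 2), (2547, 2), (2559, 1), (2573, 2), (2575, 1), (2591, 1), (2598, 2), (2599, 2), (2611, 2), (2710, 2), (2713, 2), (2796, 1), (2807, 2), (2847, 2), (2926, 1), (3014, 2), (3028, 2), (3048, 2), (3080, 2), (3087, 1), (3102, 1), (3103, 1), (3133, 1), (3230, 2), (3369, 1), (3416, 1), (3423, 2), (3450, 1), (3526, 2), (3538, 2), (3547, 2), (3564, 1), (3817, 2), (3835, 2), (3953, 1), (3957, 2), (3962, 1), (4041, 1), (4094, 2), (4116, 2), (4161, 1), (4312, 1), (4375, 1), (4477, 2), (4519, 1), (4804, 1), (4992, 2), (5149, 1), (5336, 1), (5365, 1), (5373, 2), (5401, 1), (5417, 2), (5564, 2), (5637, 2), (5986, 1), (6121, 1), (6563, 1), (6584, 2), (6597, 2), (6658, 2), (6685, 1), (6861, 2), (6905, 1), (7045, 2), (7300,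 2), (7495, 1), (7983, 1), (7987, 2), (8369, 2), (8372, 1), (8489, 1), (8856, 2), (9174, 2), (9286, 1), (9501, 1), (9519, 2), (9523, 1), (9990, 1), (11015, 2), (11110, 2), (11245, 1), (11994, 1), (12020, 2), (12257, 1), (12284, 2), (12564, 2), (15062, 1), (15654, 2), (17147, 1), (19706, 1), (19761, 1), (20349, 2), (21303, 1), (25568, 1), (31009, 2)], [(2, 2), (9, 2), (10, 2), (13, 1), (15, 2), (17, 2), (21, 1), (25, 1), (26, 2), (28, 2), (31, 1), (40, 2), (41, 1), (46, 1), (53, 2), (58, 1), (61, 2), (65, 1), (71, 2), (72, 2), (79, 2), (81, 1), (86, 2), (104, 2), (109, 1), (113, 2), (116, 2), (121, 2), (123, 1), (125, 2), (139, 2), (147, 1), (148, 2), (151, 1), (158, 1), (168, 2), (170, 2), (186, 2), (194, 1), (220, 2), (223, 2), (224, 1), (229, 2), (235, 1), (243, 2), (258, 1), (274, 1), (282, 2), (284, 1), (286, 2), (303, 2), (308, 1), (311, 1), (319, 1), (322, 2), (323, 2), (348, 1), (352, 1), (364, 2), (368, 1), (373, 1), (377, 2), (380, 1), (382, 1), (426, 1),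 (449, 2), (453, 1), (462, 2), (468, 2), (485, 1), (487, 1), (490, 1), (498, 1), (500, 2), (558, 1), (597, 1), (609, 1), (614, 1), (626, 1), (630, 2), (638, 1), (743, 1), (746, 1), (754, 1), (761, 2), (778, 1), (843, 2), (854, 1), (878, 2), (905, 1), (906, 2), (911, 1), (960, 2), (984, 2), (989, 1), (1010, 1), (1024, 1), (1062, 2), (1063, 1), (1074, 1), (1185, 1), (1203, 1), (1212, 1), (1247, 2), (1250, 2), (1288, 2), (1357, 1), (1549, 2), (1561, 1), (1618, 1), (1647, 1), (1718, 2), (1728, 2), (2005, 2), (2011, 2), (2030, 2), (2051, 2), (2086, 1), (2360, 2), (2600, 2), (3421, 1), (3542, 1), (3909, 2), (5630, 1), (6592, 1), (7966, 1), (8096, 1), (13369, 1), (14764, 1), (19903, 2), (22681, 2), (28976, 2)], [(63, 1), (103, 1)], [(133, 1), (323, 2), (346, 1), (351, 1), (827, 2), (1413, 1), (2343, 2), (6733, 2), (6861, 2)], [(4, 1), (23, 2), (80, 2), (132, 2), (219, 1), (288, 2), (307, 1), (595, 2), (1160, 1), (1643, 1), (2476, 1), (2545, 1), (3357, 2), (3953, 2), (5825,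 2), (8199, 2), (12744, 1), (20491, 2), (24124, 2)], [(0, 2), (2, 2), (3, 2), (4, 1), (7, 2), (13, 1), (14, 1), (16, 1), (17, 2), (18, 2), (20, 1), (22, 2), (24, 2), (29, 1), (30, 1), (31, 2), (33, 1), (34, 2), (36, 1), (41, 2), (43, 2), (44, 1), (45, 2), (46, 1), (47, 2), (48, 1), (53, 2), (58, 1), (59, 2), (60, 1), (62, 2), (66, 1), (71, 2), (72, 2), (73, 2), (74, 1), (77, 2), (79, 1), (83, 2), (86, 2), (102, 2), (109, 2), (112, 2), (113, 1), (114, 1), (115, 2), (121, 2), (128, 2), (134, 2), (139, 2), (148, 2), (149, 1), (154, 2), (155, 2), (158, 1), (160, 1), (166, 2), (182, 2), (184, 2), (186, 2), (188, 1), (190, 1), (192, 1), (193, 1), (205, 1), (209, 1), (213, 1), (221, 1), (224, 2), (230, 2), (231, 1), (240, 2), (241, 1), (242, 1), (243, 1), (244, 1), (245, 1), (247, 2), (252, 2), (255, 2), (259, 2), (262, 1), (265, 1), (271, 1), (274, 1), (282, 2), (284, 2), (293, 2), (300, 1), (307, 1), (317, 2), (319, 2), (322, 2), (323, 1), (325, 1), (348, 2), (350, 1),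 (365, 1), (366, 1), (371, 2), (373, 2), (378, 1), (383, 1), (390, 1), (409, 2), (412, 2), (415, 2), (426, 1), (466, 1), (467, 2), (487, 1), (491, 2), (495, 2), (505, 2), (506, 2), (507, 1), (513, 1), (518, 1), (523, 2), (532, 2), (557, 2), (575, 1), (599, 2), (607, 1), (611, 1), (635, 1), (638, 1), (641, 1), (730, 2), (731, 1), (732, 1), (739, 1), (745, 2), (748, 1), (766, 1), (771, 1), (781, 2), (785, 1), (787, 2), (810, 1), (821, 2), (824, 2), (829, 1), (843, 2), (851, 1), (862, 2), (866, 1), (882, 1), (885, 1), (886, 1), (902, 1), (910, 1), (918, 1), (945, 1), (976, 2), (982, 1), (991, 2), (1024, 2), (1036, 1), (1053, 1), (1060, 1), (1065, 2), (1066, 1), (1067, 2), (1071, 2), (1072, 1), (1156, 1), (1165, 2), (1166, 2), (1188, 2), (1201, 2), (1208, 1), (1215, 2), (1224, 2), (1225, 1), (1226, 1), (1227, 1), (1249, 2), (1254, 2), (1260, 2), (1267, 2), (1278, 2), (1279, 2), (1287, 1), (1311, 1), (1315, 2), (1364, 2), (1412, 2), (1423, 1), (1424, 1), (1427, 1), (1466,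 2), (1508, 2), (1509, 2), (1542, 1), (1561, 1), (1566, 2), (1623, 1), (1625, 1), (1635, 1), (1638, 1), (1642, 1), (1643, 1), (1663, 2), (1666, 2), (1667, 1), (1692, 1), (1719, 2), (1730, 2), (1734, 1), (2005, 2), (2006, 1), (2007, 2), (2051, 2), (2054, 1), (2055, 2), (2063, 2), (2090, 1), (2141, 2), (2154, 1), (2158, 2), (2162, 1), (2174, 2), (2240, 1), (2242, 2), (2271, 1), (2300, 2), (2315, 2), (2439, 2), (2450, 2), (2452, 2), (2487, 2), (2498, 2), (2499, 1), (2509, 1), (2546, 1), (2565, 2), (2568, 2), (2575, 1), (2615, 1), (2673, 2), (2696, 2), (2709, 1), (2806, 2), (2879, 1), (2893, 1), (2940, 1), (2951, 2), (3122, 1), (3140, 1), (3190, 2), (3233, 2), (3358, 1), (3383, 2), (3415, 2), (3505, 2), (3538, 1), (3553, 2), (3559, 2), (3560, 1), (3829, 1), (3916, 1), (3928, 1), (3962, 2), (3980, 2), (4024, 1), (4031, 1), (4036, 1), (4040, 2), (4041, 2), (4078, 2), (4116, 2), (4343, 1), (4375, 1), (4555, 1), (4906, 2), (5006, 1), (5149, 1), (5154, 1), (5363, 2), (5392,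 1), (5489, 1), (5637, 2), (6598, 2), (6603, 2), (6713, 2), (6723, 2), (6791, 1), (6837, 2), (6928, 1), (6990, 1), (7704, 1), (8100, 1), (8144, 2), (8342, 2), (8410, 2), (8657, 2), (8658, 1), (8710, 1), (9947, 2), (10850, 2), (11261, 1), (12255, 2), (12283, 2), (12589, 2), (25920, 2), (27493, 1), (30578, 1), (30631, 2), (36981, 2)], [(17, 2), (28, 1), (36, 1), (49, 2), (56, 1), (68, 2), (125, 2), (316, 1), (426, 2), (450, 1), (563, 1), (575, 2), (820, 2), (829, 2), (866, 2), (947, 2), (1074, 1), (1148, 1), (1522, 1), (1542, 1), (1619, 1), (1922, 2), (5148, 1), (13360, 2), (13554, 2), (26809, 1)], [(1, 1), (2, 2), (7, 1), (36, 2), (107, 2), (110, 1), (154, 1), (193, 1), (209, 2), (285, 2), (293, 1), (361, 1), (507, 2), (868, 1), (1150, 1), (1202, 2), (1291, 2), (1719, 1), (1720, 2), (2899, 1), (3543, 2), (3971, 1), (4241, 2), (4244, 1), (4699, 2), (5168, 2), (8148, 1), (8696, 1)], [(176, 1), (260, 1), (1063, 1), (2350, 2), (3959, 1), (5393, 1), (8095, 2), (11976, 2)],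 [(7, 2), (83, 2), (107, 2), (176, 1), (213, 2), (363, 1), (521, 1), (522, 1), (815, 1), (887, 2), (1203, 2), (1223, 1), (1267, 2), (1295, 1), (1364, 2), (1624, 2), (1626, 1), (1636, 1), (3550, 2), (3558, 2), (4037, 2), (4105, 2), (5392, 1), (16215, 2), (27493, 1)], [(1, 2), (3, 2), (12, 2), (14, 2), (23, 1), (71, 1), (111, 2), (189, 1), (230, 2), (245, 2), (318, 1), (437, 1), (516, 2), (532, 2), (626, 2), (727, 1), (773, 1), (882, 2), (945, 2), (1372, 1), (1384, 2), (1623, 2), (1638, 2), (2600, 1), (2755, 1), (2850, 2), (5479, 2), (5767, 1), (9543, 1), (11975, 1), (25600, 1)], [(5, 2), (12, 1), (52, 1), (53, 2), (189, 1), (216, 1), (224, 1), (246, 2), (412, 1), (437, 2), (563, 2), (626, 1), (827, 1), (1210, 1), (5350, 2), (16300, 1), (16341, 1), (28547, 2)], [(2, 1), (12, 1), (19, 2), (30, 1), (36, 2), (218, 2), (241, 1), (253, 2), (256, 2), (815, 1), (1023, 2), (1154, 2), (1222, 1), (2616, 2), (3980, 1), (7956, 1)], [(4, 2), (54, 2), (55, 2), (91, 1), (357, 2),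 (513, 2), (864, 2), (944, 2), (982, 2), (1010, 2), (1162, 2), (1624, 2), (3971, 2), (6838, 2), (7696, 2), (7983, 2), (8064, 2), (12255, 1), (12256, 2)], [(5, 1), (19, 2), (23, 2), (30, 1), (63, 2), (82, 2), (92, 2), (95, 1), (221, 1), (259, 1), (280, 1), (285, 2), (323, 2), (781, 2), (1052, 2), (1057, 1), (1424, 2), (1719, 1), (2600, 1), (5698, 1), (12589, 2)], [(1, 1), (10, 2), (21, 1), (55, 1), (92, 2), (163, 1), (463, 2), (502, 2), (3030, 1), (3132, 2), (9723, 2), (23430, 1)], [(1, 1), (17, 1), (90, 1), (96, 1), (133, 1), (176, 2), (221, 1), (228, 2), (230, 2), (765, 1), (902, 2), (2010, 2), (2438, 2), (3190, 2), (4001, 1), (4101, 2), (5465, 1), (31117, 2)], [(51, 2), (66, 1), (133, 1), (146, 2), (177, 1), (321, 2), (463, 1), (514, 1), (521, 1), (984, 2), (1160, 2), (2712, 1), (7300, 1)], [(3, 2), (5, 1), (107, 1), (195, 2), (228, 2), (234, 2), (271, 1), (367, 1), (604, 2), (1054, 2), (1153, 1), (1154, 2), (3383, 1), (3829, 2), (4798, 2), (5148, 2), (5389, 2),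 (16413, 1), (22860, 1), (27014, 1)], [(2, 1), (5, 1), (8, 2), (23, 1), (77, 1), (109, 1), (178, 1), (190, 2), (195, 2), (371, 2), (733, 2), (1481, 1), (2010, 2), (4231, 2), (11248, 1), (22033, 2)], [(26, 1), (35, 1), (70, 1), (79, 2), (228, 2), (274, 1), (285, 1), (415, 1), (459, 2), (529, 1), (772, 2), (2495, 1), (2608, 2), (3052, 2), (12036, 2), (19444, 2), (30578, 1)], [(0, 2), (2, 1), (3, 1), (4, 1), (5, 2), (6, 1), (8, 2), (11, 1), (12, 1), (14, 1), (23, 1), (25, 1), (26, 2), (29, 1), (30, 2), (36, 2), (40, 1), (43, 1), (52, 2), (54, 1), (55, 1), (62, 2), (63, 1), (66, 1), (68, 2), (70, 2), (76, 2), (77, 1), (82, 1), (83, 2), (90, 1), (94, 1), (102, 1), (103, 2), (106, 2), (108, 2), (111, 1), (133, 2), (135, 2), (138, 2), (153, 2), (156, 1), (178, 2), (182, 1), (193, 2), (218, 1), (221, 2), (228, 2), (234, 2), (241, 1), (264, 2), (270, 2), (272, 1), (274, 2), (280, 1), (283, 1), (316, 2), (317, 2), (320, 1), (323, 1), (346, 1), (348, 1), (358, 1), (372, 2),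 (395, 2), (488, 2), (514, 2), (521, 2), (594, 1), (595, 2), (611, 1), (615, 1), (616, 2), (730, 2), (772, 2), (781, 2), (803, 1), (902, 1), (1054, 2), (1071, 1), (1072, 1), (1152, 2), (1154, 2), (1162, 2), (1189, 2), (1222, 1), (1225, 1), (1618, 2), (2010, 1), (2135, 2), (2449, 2), (2940, 1), (2941, 2), (3030, 2), (3558, 1), (3820, 1), (3840, 2), (12700, 2), (22037, 2)], [(1311, 1), (6597, 1)], [(7, 1), (144, 1), (521, 2), (598, 1), (615, 1), (3028, 1), (3357, 2), (12021, 2), (15734, 2), (20349, 2)], [(2, 2), (20, 1), (47, 1), (90, 1), (153, 1), (243, 2), (307, 1), (320, 1), (610, 1), (803, 2), (946, 2), (1070, 1), (1071, 1), (1227, 1), (2846, 1), (3319, 2), (3817, 2), (6201, 1)], [(4, 1), (11, 2), (29, 2), (43, 2), (62, 2), (156, 2), (183, 1), (228, 2), (272, 2), (274, 2), (346, 2), (389, 1), (460, 2), (522, 1), (801, 2), (1641, 2), (1720, 2), (2049, 2)], [(10, 2), (44, 2), (132, 2), (137, 1), (369, 2), (408, 1), (786, 1), (801, 2), (905, 2), (906, 1), (3319, 1),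 (3817, 1), (9691, 1)], [(77, 1), (310, 2), (732, 1), (1069, 1), (6656, 2)], [(25, 1), (36, 2), (132, 1), (138, 1), (218, 2), (228, 1), (369, 1), (604, 1), (1719, 1)], [(21, 1), (36, 1), (137, 1), (138, 2), (271, 2), (460, 2), (644, 2), (12579, 2)], [(176, 1), (177, 2), (230, 2), (350, 1), (486, 2), (815, 1), (1189, 2), (1191, 1), (1632, 1), (2343, 2), (8144, 1), (9082, 1)], [(50, 1), (56, 1), (156, 2), (316, 2), (514, 1), (742, 1), (824, 2), (1153, 2), (1224, 1), (4033, 2), (15642, 2)], [(5, 2), (88, 2), (228, 2), (259, 2), (272, 1), (369, 2), (930, 1), (1152, 1), (1227, 2), (1553, 1), (3103, 2), (4853, 2), (12013, 2)], [(28, 2), (29, 1), (82, 1), (146, 1), (310, 2), (325, 2), (359, 1), (371, 1), (460, 2), (488, 1), (598, 1), (1054, 1), (1554, 2), (2509, 1), (3450, 2)], [(0, 1), (42, 2), (51, 2), (83, 2), (95, 2), (108, 1), (176, 2), (178, 1), (216, 2), (230, 1), (323, 1), (363, 1), (611, 2), (742, 1), (827, 1), (902, 2), (946, 2), (2049, 1), (5095, 1)], [(0, 2),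 (25, 2), (182, 1), (271, 1), (731, 1), (785, 2), (1183, 1), (2546, 2), (3357, 1), (4100, 1), (8720, 1)], [(0, 2), (21, 1), (25, 2), (83, 1), (84, 2), (95, 1), (107, 2), (133, 1), (218, 2), (285, 2), (307, 1), (316, 1), (323, 2), (513, 2), (612, 2), (765, 2), (779, 1), (782, 2), (1023, 2), (1161, 1), (1618, 2), (1720, 1), (2449, 2), (2547, 1), (2598, 2), (6894, 1)], [(26, 2), (79, 2), (270, 2), (285, 1), (361, 1), (369, 2), (372, 1), (516, 2), (773, 2), (1153, 2), (1161, 2), (1183, 2), (2050, 2), (2135, 1), (2940, 1), (3552, 1), (5630, 2)], [(6, 1), (23, 1), (51, 2), (79, 1), (184, 2), (283, 2), (318, 1), (321, 2), (513, 2), (595, 1), (610, 1), (615, 2), (1153, 2), (1222, 2), (1618, 1), (2009, 2), (2941, 2)], [(0, 1), (23, 2), (55, 2), (62, 2), (271, 1), (280, 1), (363, 1), (610, 2), (611, 2), (1054, 2)], [(36, 2), (70, 2), (82, 2), (90, 1), (94, 1), (96, 2), (110, 2), (135, 1), (190, 1), (222, 2), (363, 2), (730, 1), (732, 1), (803, 1), (1189, 1), (1191, 1), (2049,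 2), (2941, 1)], [(43, 1), (50, 2), (217, 2), (369, 2), (731, 2), (1202, 2), (3820, 1), (5950, 2), (8371, 1)], [(12, 1), (14, 1), (43, 2), (135, 2), (180, 2), (193, 2), (228, 2), (262, 1), (461, 2), (644, 1), (10426, 1)], [(12, 1), (594, 1), (815, 2), (907, 2), (1413, 2), (1561, 1), (2005, 2), (2707, 2), (6124, 2), (6609, 2), (25568, 1), (28976, 1)], [(178, 1), (1023, 1), (3511, 2)], [(11, 2), (12, 2), (52, 1), (133, 1), (262, 2), (274, 2), (305, 1), (323, 1), (324, 2), (360, 2), (369, 2), (486, 1), (765, 2), (1202, 1)], [(50, 1), (108, 1), (133, 1), (217, 1), (241, 1), (270, 1), (730, 2), (1712, 1), (1974, 2), (2050, 2), (2488, 2), (6476, 1)], [(79, 2), (80, 2), (184, 2), (190, 2), (217, 2), (316, 1), (1054, 1), (1222, 2)], [(37, 2), (43, 1), (52, 2), (56, 1), (135, 1), (137, 2), (138, 1), (183, 1), (272, 1), (357, 2), (459, 1), (514, 1), (594, 2), (604, 1), (801, 1), (1225, 1), (1618, 2), (2010, 1), (2519, 1)], [(42, 2), (67, 2), (184, 1), (230, 1), (378, 2), (594,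 2), (650, 2), (742, 1), (765, 2), (7956, 1)], [(2, 2), (25, 2), (68, 2), (80, 2), (104, 1), (233, 1), (321, 2), (363, 2), (594, 1), (644, 2), (1197, 1), (2941, 2), (12375, 2)], [(111, 1), (145, 2), (153, 1), (773, 1), (803, 1), (902, 2), (2135, 2)], [(50, 1), (68, 2), (234, 2), (321, 1), (742, 1), (1057, 1), (1146, 2), (1197, 2)], [(0, 1), (17, 2), (51, 2), (132, 2), (182, 1), (224, 2), (316, 1), (320, 2), (1146, 2), (2135, 1), (12285, 1)], [(194, 1), (863, 2), (1260, 2), (1358, 1), (1453, 1), (2879, 2), (3507, 2), (4340, 1), (4800, 2), (6713, 1), (8353, 1), (11248, 1), (11262, 1), (12385, 2)], [(240, 1), (496, 1), (770, 2), (1635, 2), (1719, 2), (1864, 2), (2271, 2), (5353, 1), (5723, 2), (6586, 2), (6603, 1), (6733, 1), (10850, 1), (12058, 1), (22682, 1), (25263, 2)], [(0, 1)], [(0, 1), (12, 1), (21, 1), (68, 2), (190, 2), (486, 2), (610, 1), (781, 2), (932, 2), (1719, 1), (2049, 1)], [(30, 1)], [(1756, 1), (9206, 2), (10188, 2), (11165, 2)], [(5, 2), (25, 2),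 (307, 1), (351, 2), (463, 1), (772, 2), (2924, 1), (5095, 1)], [(25, 1), (54, 1), (91, 1), (111, 1), (138, 1), (144, 1), (176, 1), (177, 1), (180, 1), (190, 2), (270, 1), (324, 2), (350, 2), (516, 1), (594, 2), (616, 2), (744, 2), (773, 1), (1618, 1), (2062, 2), (2438, 2), (2600, 1), (2924, 1), (8371, 1)], [(0, 2), (56, 1), (84, 2), (177, 2), (191, 2), (221, 1), (280, 2), (324, 1), (765, 1), (1071, 1), (1161, 2), (1222, 1), (1223, 2), (3030, 2), (3820, 1)], [(18, 1), (55, 2), (138, 2), (234, 1), (272, 2), (360, 2), (801, 1), (2135, 2), (5719, 1)], [(0, 1), (94, 2)], [(12, 1), (26, 2), (55, 1), (95, 2), (274, 2), (1023, 2)], [(8, 1), (12, 2), (104, 1), (133, 1), (230, 1), (910, 1), (1191, 1), (1619, 2), (1720, 1), (2707, 1)], [(0, 1), (1, 1), (2, 1), (10, 2), (18, 1), (21, 1), (50, 2), (80, 2), (345, 1), (732, 1), (781, 1), (910, 1), (2009, 1), (2488, 2), (3840, 2), (4050, 2)], [], [(0, 2), (186, 2), (296, 1), (989, 1), (1186, 2), (1759, 2), (5990, 2), (9345, 1),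 (12760, 1), (17011, 1)], [(0, 1), (25, 2), (52, 2), (70, 1), (216, 2), (222, 1), (240, 1), (521, 1), (595, 2), (744, 2), (779, 1), (5336, 1), (6120, 2), (8424, 1)], [(0, 2), (54, 1), (104, 2), (108, 2), (177, 1), (281, 2), (650, 1), (946, 1), (1222, 2), (1316, 2), (1559, 1), (1618, 2), (3577, 1), (8372, 2), (12540, 1)], []]

end Cfsg.Agent.Lib.Helper28.FoxCo3P3Cyc
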