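import Mathlib.Data.Nat.Notation
set_option autoImplicit false
set_option maxRecDepth 100000

namespace Cfsg.Agent.Lib.Helper28.FoxCo3P3Cyc

def cyc3 : List (List (ℕ × ℕ)) := [[], [(0, 2)], [], [], [], [], [], [], [], [(0, 1)], [], [], [], [], [], [], [], [], [], [], [], [], [], [], [], [], [], [], [], [], [], [], [], [], [], [], [], [], [], [], [], [], [], [], [], [], [], [], [], [], [], [], [], [], [], [], [], [], [], [], [], [], [], [], [], [], [], [], [], [], [], [], []]
def cyc5 : List (List (ℕ × ℕ)) := [[], [(0, 2)], [], [], [], [], [], [], [], [], [], [], [], [], [], [], [(0, 1)], [], [], [], [], [], [], [], [], [], [], [], [], [], [], [], [], [], [], [], [], [], [], [], [], [], [], [], [], [], [], [], [], [], [], [], [], [], [], [], [], [], [], [], [], [], [], [], [], [], [], [], [], [], [], [], []]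
def cyc10 : List (List (ℕ × ℕ)) := [[(0, 1)], [], [], [], [], [(0, 2)], [], [], [], [], [(0, 1)], [], [], [], [], [], [], [], [], [], [], [], [], [], [], [], [], [], [], [], [], [], [], [], [], [], [], [], [], [], [], [], [], [], [], [], [], [], [], [], [], [], [], [], [], [], [], [], [], [], [], [], [], [], [], [], [], [], [], [], [], [], []]
def cyc18 : List (List (ℕ × ℕ)) := [[(0, 2)], [(0, 1)], [], [], [], [(0, 1)], [], [], [], [], [], [], [], [(0, 1)], [], [], [], [], [], [], [], [], [], [], [], [], [], [], [], [], [], [], [], [], [], [], [], [], [], [], [], [], [], [], [], [], [], [], [], [], [], [], [], [], [], [], [], [], [], [], [], [], [], [], [], [], [], [], [], [], [], [], []]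
def cyc21 : List (List (ℕ × ℕ)) := [[], [(0, 2)], [], [], [], [(0, 2)], [], [], [], [(5, 1)], [], [], [], [], [], [], [], [], [], [], [], [(0, 2)], [], [], [], [], [], [], [], [], [], [], [], [], [], [], [], [(0, 1)], [], [], [], [], [], [], [], [], [], [], [], [], [], [], [], [], [], [], [], [], [], [], [], [], [], [], [], [], [], [], [], [], [], [], []]
def cyc23 : List (List (ℕ × ℕ)) := [[], [(0, 2)], [], [], [], [], [(10, 1)], [], [], [], [], [], [], [], [], [], [], [], [], [], [], [(0, 2)], [], [], [], [], [], [], [], [], [], [], [], [], [(0, 2)], [], [], [], [], [], [], [], [], [], [(0, 2)], [], [], [], [], [], [], [], [], [], [], [], [], [], [], [], [], [], [], [], [], [], [], [], [], [], [], [], []]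
def cyc24 : List (List (ℕ × ℕ)) := [[(0, 2), (18, 2)], [], [], [], [], [(1, 2), (66, 1)], [], [], [], [], [], [], [], [], [], [], [], [], [], [], [], [(0, 2)], [], [], [], [], [], [], [], [], [], [], [], [], [], [], [], [], [], [], [(0, 1)], [], [], [], [], [], [], [], [], [], [], [], [], [], [], [], [], [], [], [], [], [], [], [], [], [], [], [], [], [], [], [], []]
def cyc27 : List (List (ℕ × ℕ)) := [[], [], [], [], [], [(312, 1), (1038, 1), (10985, 1)], [], [], [], [(3460, 2)], [], [], [], [], [], [], [], [], [], [], [], [], [], [], [], [], [], [(6, 2)], [(6, 1)], [], [], [], [], [], [], [], [], [], [], [], [], [], [], [], [], [], [], [], [], [], [], [], [], [], [], [], [], [], [], [], [], [], [], [], [], [], [], [], [], [], [], [], []]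
def cyc35 : List (List (ℕ × ℕ)) := [[(0, 1)], [(1023, 2)], [], [], [], [(25, 2), (307, 2)], [], [(25, 1)], [], [], [], [], [], [], [], [], [], [], [], [], [], [], [], [], [], [], [], [], [], [], [], [], [], [], [], [], [], [], [], [], [], [], [(0, 1)], [], [], [], [], [], [], [], [], [], [], [], [], [], [], [], [], [], [], [], [], [], [], [], [], [(0, 2)], [], [], [], [], []]
def cyc39 : List (List (ℕ × ℕ)) := [[(8, 2), (29, 2), (359, 2), (3913, 2)], [], [], [], [], [(102, 1), (28714, 1)], [], [], [], [], [], [], [], [], [], [], [], [], [], [], [], [(106, 2)], [], [(8, 1)], [], [], [], [], [], [], [], [], [], [], [], [], [], [], [], [], [], [], [], [], [], [], [], [], [], [], [], [], [], [], [], [], [], [], [], [], [], [], [], [], [], [], [], [], [], [], [], [], []]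
def cyc42 : List (List (ℕ × ℕ)) := [[(0, 1), (4, 2)], [(0, 1), (1, 1), (12, 2), (40, 2)], [], [], [], [(0, 1), (43, 1)], [], [(44, 2)], [], [(40, 1)], [], [], [], [], [], [], [], [], [], [], [], [(0, 1)], [], [], [], [], [], [], [], [], [(0, 1)], [], [], [], [], [], [], [], [], [], [], [], [], [], [], [], [], [], [], [], [], [], [], [], [], [(11, 1)], [], [], [], [], [], [], [], [], [], [], [], [], [], [], [], [], []]
def cyc47 : List (List (ℕ × ℕ)) := [[(0, 2), (3, 1), (18, 1), (36, 1), (133, 2)], [(0, 2), (1, 2), (10, 2)], [], [], [(1, 1)], [(0, 1), (1, 1), (36, 2), (66, 2)], [], [], [], [], [], [], [], [], [], [], [], [], [], [], [], [], [], [], [(0, 2)], [], [], [], [], [], [], [], [], [], [], [], [], [], [], [], [], [], [], [], [], [], [], [], [], [], [(133, 2)], [], [], [], [], [], [], [], [], [], [(0, 2)], [], [], [], [], [], [], [], [], [], [], [], []]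
def cyc53 : List (List (ℕ × ℕ)) := [[(0, 2), (15, 2), (26, 2), (317, 2)], [(0, 2), (5, 2)], [], [], [], [(0, 2), (4, 2), (6, 1), (95, 1)], [(317, 1)], [(285, 2), (321, 2)], [], [], [], [(4, 1)], [], [], [], [], [], [(321, 1)], [], [], [], [(0, 1)], [], [], [], [], [], [], [], [], [(177, 2)], [], [], [], [], [(0, 2)], [], [], [], [], [], [], [], [], [], [], [], [], [], [], [], [], [], [], [], [], [], [(0, 1)], [], [], [], [], [(0, 1)], [], [], [], [], [], [], [], [], [(0, 2)], []]
def cyc54 : List (List (ℕ × ℕ)) := [[(1, 1), (26, 2), (84, 2), (96, 2), (317, 2)], [(0, 2), (2, 2), (26, 1), (323, 1)], [], [], [], [(7, 2), (95, 2), (280, 1)], [(182, 2), (317, 1)], [(7, 2)], [], [], [], [], [], [], [], [], [], [(321, 1)], [(7, 1)], [], [], [(0, 2)], [], [], [], [], [], [], [], [], [], [], [(182, 1)], [], [], [], [], [], [], [], [], [], [], [], [], [], [], [], [], [], [], [], [], [], [], [], [], [(0, 1)], [], [], [], [(0, 2)], [], [], [], [], [], [], [], [], [], [], []]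
def cyc58 : List (List (ℕ × ℕ)) := [[(0, 2), (3, 1), (15, 2), (37, 2), (50, 2), (133, 2)], [(0, 2), (1, 1), (10, 1), (14, 2), (176, 1)], [], [(133, 2)], [], [(0, 2), (4, 2), (36, 2), (176, 1)], [], [(36, 1)], [(176, 2)], [(176, 2)], [], [], [(38, 1)], [], [], [], [], [], [], [], [], [], [], [], [], [], [], [], [], [], [], [], [], [], [], [], [(0, 2)], [], [], [], [], [], [], [], [], [], [], [], [], [], [], [], [], [], [], [], [], [], [], [], [], [(0, 1)], [], [], [], [], [], [], [], [], [], [], []]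
def cyc62 : List (List (ℕ × ℕ)) := [[(0, 2), (5, 2), (12, 2), (15, 2), (18, 2), (30, 1), (37, 1), (44, 2), (56, 2), (68, 2), (90, 1), (271, 2), (361, 1), (369, 2), (484, 2), (1619, 1), (1719, 1)], [(0, 1), (2, 2), (8, 1), (10, 1), (12, 1), (15, 2), (17, 1), (323, 1)], [(29, 1)], [], [(369, 2)], [(0, 2), (1, 1), (3, 1), (4, 2), (18, 2), (25, 2), (36, 2), (66, 2), (484, 2), (611, 2), (1618, 2), (6723, 2)], [(68, 1), (1619, 1)], [(107, 2), (193, 2), (361, 2)], [(7, 1)], [], [(516, 2)], [(5, 1), (272, 1)], [], [(4, 1)], [(63, 2)], [], [], [], [], [(5, 1)], [(358, 2)], [(0, 2), (2050, 1)], [], [(7, 2)], [(0, 1)], [], [], [], [], [], [], [], [], [], [], [], [], [], [], [], [], [], [], [], [], [], [(0, 1)], [], [], [], [], [], [], [], [(133, 1)], [], [], [], [], [], [(0, 1)], [(0, 2)], [], [], [], [(12, 2)], [], [], [], [(0, 2)], [], [(0, 1)], []]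
def cyc67 : List (List (ℕ × ℕ)) := [[(3, 2), (4, 1), (6, 1), (7, 2), (8, 2), (12, 2), (15, 1), (18, 1), (19, 2), (22, 2), (23, 1), (27, 1), (30, 1), (36, 2), (37, 1), (40, 2), (44, 1), (50, 2), (56, 2), (57, 1), (62, 2), (67, 2), (68, 1), (69, 2), (78, 1), (80, 2), (83, 2), (92, 2), (95, 1), (100, 2), (103, 2), (107, 1), (112, 2), (122, 2), (133, 2), (137, 2), (142, 2), (143, 1), (152, 2), (157, 1), (178, 2), (179, 2), (187, 1), (198, 1), (199, 1), (200, 1), (222, 2), (228, 2), (238, 1), (268, 1), (280, 2), (286, 2), (287, 2), (314, 2), (315, 2), (321, 1), (331, 1), (332, 2), (339, 1), (342, 2), (343, 1), (351, 1), (354, 1), (355, 1), (356, 1), (357, 1), (361, 1), (363, 1), (369, 1), (372, 2), (376, 2), (377, 2), (457, 2), (458, 1), (489, 1), (511, 1), (512, 2), (521, 2), (526, 1), (527, 1), (602, 1), (616, 2), (668, 2), (727, 2), (732, 1), (772, 1), (774, 2), (882, 2), (888, 1), (889, 1), (892, 2), (899, 1), (900, 2), (909, 2), (914, 2), (949, 1), (950, 1), (1029,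 1), (1033, 2), (1038, 1), (1071, 2), (1093, 1), (1097, 1), (1107, 1), (1112, 1), (1120, 1), (1125, 1), (1136, 1), (1154, 2), (1173, 2), (1189, 1), (1236, 2), (1372, 2), (1506, 1), (1531, 1), (1542, 1), (1570, 1), (1584, 1), (1585, 2), (1594, 2), (1703, 1), (1709, 2), (1710, 1), (1712, 2), (1719, 2), (1721, 2), (1725, 1), (1743, 1), (1749, 1), (1752, 1), (2026, 2), (2135, 2), (2192, 1), (2214, 1), (2215, 1), (2220, 1), (2227, 1), (2230, 1), (2448, 1), (2487, 1), (2598, 1), (2643, 2), (2668, 1), (2981, 1), (2999, 1), (3022, 2), (3107, 1), (3142, 1), (3150, 2), (3406, 1), (3467, 1), (3481, 1), (3553, 1), (3636, 2), (3638, 1), (3642, 1), (3671, 1), (3675, 2), (3717, 1), (3731, 1), (3735, 1), (3756, 2), (3775, 1), (3817, 1), (3884, 2), (3931, 1), (4984, 1), (5220, 2), (5255, 2), (5307, 1), (5617, 1), (5621, 2), (5663, 1), (5742, 2), (5752, 1), (6861, 2), (7192, 1), (7227, 1), (7233, 2), (8372, 2), (8520, 1), (9580, 2), (9585, 1), (9606, 1), (9644, 2), (9953, 2), (10892,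 1), (10906, 1), (11015, 2), (11086, 2), (11467, 2), (11568, 1), (11573, 2), (12111, 2), (12290, 1), (12641, 2), (12670, 2), (15854, 2), (15908, 1), (15943, 1), (16131, 1), (27009, 1), (29855, 2)], [(0, 1), (2, 1), (8, 1), (10, 1), (12, 2), (14, 1), (15, 1), (21, 2), (25, 1), (26, 1), (27, 1), (28, 1), (53, 1), (68, 2), (69, 1), (79, 1), (93, 2), (98, 1), (101, 2), (104, 1), (111, 2), (112, 2), (136, 2), (140, 2), (143, 2), (197, 1), (236, 2), (239, 2), (269, 1), (273, 1), (274, 1), (309, 2), (318, 1), (334, 2), (336, 1), (338, 1), (339, 2), (348, 2), (377, 1), (448, 2), (471, 1), (473, 2), (477, 2), (512, 2), (517, 1), (626, 1), (630, 1), (664, 2), (666, 1), (911, 2), (934, 2), (1023, 2), (1033, 2), (1041, 2), (1043, 2), (1063, 2), (1123, 2), (1140, 2), (1192, 1), (1235, 1), (1585, 2), (1618, 1), (2448, 1), (2600, 1), (3497, 2), (7149, 1), (9696, 1), (9723, 1), (10070, 2), (29774, 1), (31610, 2)], [(63, 1), (103, 2)], [(320, 1), (351, 1), (525, 2), (1505, 1), (6861,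 2)], [(4, 1), (23, 1), (78, 2), (80, 2), (83, 1), (94, 2), (105, 1), (236, 2), (307, 1), (369, 2), (595, 2), (891, 1), (1160, 2), (3641, 2), (5100, 1), (5201, 2), (5619, 1), (19538, 2)], [(0, 1), (2, 1), (3, 1), (4, 2), (11, 2), (14, 1), (17, 1), (19, 2), (25, 2), (30, 1), (39, 1), (50, 1), (54, 1), (56, 2), (57, 1), (77, 1), (78, 2), (79, 1), (83, 2), (84, 1), (95, 2), (96, 1), (98, 1), (99, 2), (105, 1), (112, 2), (137, 1), (142, 1), (157, 2), (176, 2), (179, 1), (190, 1), (197, 2), (198, 2), (216, 1), (221, 1), (241, 1), (262, 1), (266, 1), (267, 2), (268, 1), (271, 2), (273, 1), (274, 2), (280, 1), (287, 2), (312, 2), (313, 2), (314, 1), (316, 1), (317, 1), (341, 1), (343, 2), (350, 2), (354, 1), (375, 1), (412, 2), (455, 1), (456, 2), (469, 1), (470, 2), (473, 2), (477, 2), (480, 2), (481, 2), (484, 2), (510, 1), (511, 2), (513, 2), (517, 1), (525, 2), (526, 1), (602, 1), (611, 2), (615, 2), (650, 2), (660, 1), (729, 2), (730, 2), (731, 1), (771, 2), (774, 2),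 (788, 1), (791, 2), (882, 2), (891, 2), (892, 1), (895, 2), (900, 1), (902, 2), (907, 1), (908, 1), (910, 1), (914, 1), (934, 1), (945, 2), (948, 2), (950, 1), (1030, 1), (1048, 2), (1049, 1), (1071, 2), (1072, 1), (1093, 2), (1096, 2), (1098, 1), (1099, 1), (1100, 2), (1119, 2), (1125, 2), (1170, 2), (1225, 2), (1231, 1), (1243, 2), (1505, 2), (1506, 2), (1530, 2), (1531, 2), (1540, 1), (1542, 2), (1568, 2), (1572, 2), (1594, 2), (1595, 1), (1622, 2), (1719, 1), (1721, 2), (1753, 1), (2015, 2), (2022, 2), (2199, 2), (2220, 1), (2439, 1), (2447, 2), (2632, 2), (2658, 1), (2940, 2), (3016, 1), (3019, 2), (3106, 1), (3140, 1), (3142, 2), (3155, 1), (3487, 1), (3493, 2), (3626, 1), (3642, 1), (3674, 2), (3689, 2), (3756, 2), (3780, 1), (3923, 1), (4048, 2), (4068, 2), (4983, 1), (5064, 2), (5100, 2), (5344, 2), (5607, 1), (5663, 2), (6637, 2), (6643, 2), (6644, 2), (8378, 2), (8381, 2), (9554, 2), (9711, 1), (9748, 1), (10070, 2), (10085, 2), (10845, 1), (11431, 2), (11432,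 2), (11493, 1), (11848, 2), (11880, 2), (12113, 2), (12178, 2), (15486, 2), (15523, 2), (20993, 2), (26090, 1), (28632, 2)], [(28, 1), (54, 2), (56, 1), (68, 2), (182, 2), (198, 2), (268, 1), (316, 1), (317, 1), (480, 1), (895, 2), (1575, 1), (1595, 2), (1619, 1), (2022, 1), (2621, 1), (3731, 1), (4051, 2), (5258, 2)], [(2, 2), (7, 2), (44, 1), (51, 1), (110, 2), (154, 1), (285, 2), (321, 2), (892, 2), (1719, 1), (1720, 2), (5620, 2)], [(7, 2), (470, 1), (481, 1), (1063, 2), (15854, 1)], [(7, 2), (40, 2), (83, 1), (107, 1), (233, 1), (343, 1), (363, 2), (516, 2), (521, 2), (2199, 2), (2444, 1), (3728, 2), (5064, 1), (11493, 1), (11881, 1), (15293, 1)], [(1, 1), (12, 2), (14, 2), (23, 2), (64, 1), (230, 2), (318, 2), (509, 1), (516, 1), (663, 1), (727, 2), (882, 1), (945, 1), (1072, 2), (2576, 1), (2600, 1)], [(5, 1), (12, 2), (216, 1), (2600, 2), (3150, 1)], [(1, 2), (12, 1), (19, 2), (30, 1), (36, 1), (55, 2), (63, 1), (99, 1), (241, 1), (341, 2), (351, 1), (375,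 2), (1154, 1)], [(2, 1), (17, 1), (54, 2), (55, 1), (152, 2), (200, 2), (269, 1), (272, 1), (355, 2), (357, 1), (656, 2), (892, 1), (944, 2), (1162, 2), (1231, 2), (1719, 1), (1723, 1), (2015, 1), (3728, 1), (5752, 2)], [(12, 1), (21, 1), (23, 1), (30, 1), (63, 2), (78, 2), (92, 2), (95, 1), (108, 2), (221, 1), (285, 2), (286, 2), (323, 1), (771, 1), (781, 2), (1052, 1), (1599, 1), (2600, 2), (3030, 1), (11564, 1)], [(21, 1), (28, 2), (52, 1), (55, 1), (264, 1), (334, 2), (354, 2), (463, 1), (1170, 1), (1575, 2), (1596, 1), (3030, 2), (5623, 1), (9723, 1), (11059, 1), (12166, 2)], [(26, 1), (63, 2), (80, 1), (133, 2), (176, 1), (221, 1), (228, 2), (230, 2), (668, 1), (765, 1), (1124, 2), (2010, 2), (2438, 2), (5095, 2), (7156, 2), (7233, 2)], [(5, 2), (7, 2), (25, 2), (38, 2), (57, 1), (133, 1), (136, 1), (146, 1), (177, 2), (234, 1), (321, 1), (463, 1), (514, 2), (521, 2), (522, 1), (650, 2), (914, 1), (1041, 2), (1160, 1), (1596, 1), (2233, 1), (3802, 1), (7252,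 1), (7981, 2), (29548, 2)], [(1, 1), (3, 2), (5, 1), (107, 2), (195, 2), (234, 1), (271, 2), (313, 2), (604, 2), (949, 1), (1038, 2), (1093, 1), (1154, 2), (3689, 1), (5201, 1)], [(2, 2), (5, 1), (8, 2), (23, 1), (79, 2), (92, 2), (96, 2), (103, 2), (371, 2), (2010, 1), (2062, 1), (7149, 2)], [(50, 1), (70, 2), (79, 1), (145, 2), (199, 1), (228, 1), (274, 2), (285, 1), (343, 2), (772, 1), (1162, 2), (5307, 2), (8371, 2), (11840, 2)], [(0, 2), (2, 2), (7, 2), (10, 2), (14, 2), (15, 2), (18, 2), (21, 2), (25, 2), (28, 1), (30, 1), (37, 1), (44, 2), (79, 1), (84, 2), (91, 2), (132, 2), (146, 1), (154, 2), (216, 2), (217, 1), (230, 2), (281, 1), (310, 1), (361, 1), (461, 2), (470, 2), (486, 1), (604, 2), (667, 2), (882, 1), (899, 2), (945, 2), (1023, 1), (1113, 1), (1232, 2), (1235, 1)], [(69, 2), (105, 2), (1147, 2), (12622, 2)], [(44, 1), (657, 2), (1700, 2), (9604, 2)], [(0, 1), (5, 2), (11, 2), (376, 2), (644, 2), (902, 1), (1032, 1), (3467, 2), (17188, 2), (22937,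 1)], [(3, 2), (10, 2), (144, 2), (195, 2), (270, 1), (744, 1), (2050, 1), (3817, 2), (3892, 1)], [(83, 2), (108, 2), (135, 1), (216, 2), (285, 1), (657, 2), (906, 2), (5254, 1), (9604, 2), (16039, 1)], [(6, 1), (54, 2), (135, 1), (216, 2), (595, 1)], [(84, 1), (285, 2), (727, 1), (2135, 1)], [(83, 1), (84, 2), (595, 2), (11047, 1)], [(10, 2), (23, 2), (63, 1), (90, 1), (177, 2), (190, 1), (488, 2), (1570, 2), (3406, 2), (7233, 2), (16002, 2), (22936, 1), (30197, 2)], [(6, 2), (7, 1), (178, 2), (488, 2), (951, 2), (5199, 2), (26429, 2)], [(70, 1), (182, 2), (271, 1), (1225, 2), (3156, 2)], [(240, 1), (8371, 2), (10998, 1), (16978, 1), (23839, 2)], [(5, 1), (76, 1), (96, 1), (107, 2), (137, 2), (178, 2), (233, 1), (240, 1), (460, 1), (2574, 2)], [(0, 1), (153, 2), (346, 2), (1041, 1), (1173, 2), (12111, 1), (29788, 1)], [(3, 2), (23, 1), (56, 1), (82, 1), (184, 1), (195, 2), (270, 2), (307, 1), (369, 1), (514, 1), (902, 2), (1570, 2), (3817, 1)], [(11, 1), (1577, 1),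 (1709, 1), (3044, 2), (3553, 1)], [(7, 2), (28, 2), (30, 2), (42, 1), (91, 1), (132, 1), (137, 1), (460, 2), (521, 1), (667, 1), (3553, 1)], [(0, 2), (22, 1), (184, 2), (218, 2), (3840, 2)], [(7, 2), (21, 1), (25, 1), (42, 2), (50, 1), (460, 2)], [(7, 1), (91, 2), (882, 1), (902, 2), (1751, 1), (3142, 1)], [(55, 1), (90, 1), (146, 1), (910, 2), (1052, 2), (1189, 1), (3817, 1), (5271, 2)], [(190, 1), (317, 2), (488, 1), (882, 1), (907, 1), (2985, 2), (3930, 1), (6894, 1)], [(0, 2), (55, 1), (82, 1), (184, 2), (190, 2), (514, 2)], [(39, 1), (83, 1), (262, 1), (280, 2), (463, 2), (470, 1), (902, 2), (1751, 1), (2207, 2)], [(11, 2), (38, 2), (91, 2), (216, 1), (469, 2), (486, 1), (1720, 1), (1743, 2)], [(7, 2), (10, 1), (44, 2), (350, 1), (371, 1), (521, 2), (522, 2), (781, 1), (1719, 2)], [(10, 1), (28, 2), (30, 2), (157, 2), (178, 2), (184, 2), (218, 2), (262, 1), (460, 2), (945, 1), (1222, 2), (2574, 2), (2598, 1)], [(0, 1), (320, 2), (350, 2), (513, 1), (611, 2), (1057,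 1), (1161, 2), (2135, 2), (3511, 1), (6643, 1)], [(4, 2), (43, 2), (133, 2), (153, 1), (216, 1), (346, 2), (1056, 2), (1720, 2), (11556, 2)], [(25, 2), (80, 2), (1544, 1), (1622, 2)], [(17, 2), (29, 2), (96, 1), (727, 1), (2487, 2), (16039, 2), (28631, 2)], [(0, 2), (70, 1), (133, 1), (346, 1), (1050, 2), (4061, 2), (4981, 1)], [(0, 1), (221, 1), (900, 2), (908, 2), (1743, 1), (5752, 2), (19540, 1), (20852, 2)], [(11, 1), (330, 1), (335, 2), (474, 2), (660, 1), (661, 2), (1534, 2), (1568, 1), (3019, 1), (3038, 1), (7974, 1), (12290, 2)], [], [(0, 2), (54, 1), (176, 2), (184, 1), (274, 2), (285, 2), (611, 1), (902, 2)], [], [(1751, 2), (3155, 1), (10913, 2)], [(50, 2), (67, 2), (178, 2), (184, 2), (218, 2), (270, 1), (285, 2), (323, 1), (513, 1), (616, 2), (1161, 2), (1222, 2), (2135, 2), (8371, 2), (11573, 1)], [(64, 2), (76, 1), (83, 1), (107, 2), (232, 1), (280, 2), (355, 1), (376, 1), (3038, 1), (8518, 2)], [(0, 1), (19, 1), (38, 1), (369, 1), (615, 2), (765, 2),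 (771, 2), (772, 2), (3552, 1), (15904, 1)], [(232, 1), (521, 2), (1534, 2), (3019, 1), (9952, 2)], [], [], [(0, 1), (76, 2), (82, 1), (369, 2), (488, 2), (1109, 1), (3406, 1)], [(0, 2), (64, 2), (94, 2), (103, 1), (154, 1), (193, 2), (272, 2), (363, 1), (644, 1), (660, 2), (1107, 2)], [(36, 1), (262, 1), (9952, 1)], [(0, 2), (521, 2), (1135, 2), (7189, 1), (20755, 2)], [(0, 1), (1, 1), (11, 2), (36, 2), (51, 1), (91, 1), (232, 1), (280, 1), (307, 1)], [(0, 2), (1, 2), (62, 1), (91, 1), (105, 1), (262, 1), (331, 1), (522, 1), (612, 2), (3730, 2), (10982, 1)], [(1049, 1)]]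

end Cfsg.Agent.Lib.Helper28.FoxCo3P3Cyc
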