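import Mathlib.Data.Nat.Notation
set_option autoImplicit false
set_option maxRecDepth 100000

namespace Cfsg.Agent.Lib.Helper28.FoxCo3P3Cyc

def cyc4 : List (List (ℕ × ℕ)) := [[(0, 1)], [], [], [], [], [], [], [], [], [], [], [], [], [], [(0, 1)], [], [], [], [], [], [], [], [], [], [], [], [], [], [], [], [], [], [], [], [], [], [], [], [], [], [], [], [], [], [], [], [], [], [], [], [], [], [], [], [], [], [], [], [], [], [], [], [], [], [], [], [], [], [], [], [], [], []]
def cyc9 : List (List (ℕ × ℕ)) := [[], [(0, 1)], [], [], [], [(0, 1)], [], [], [(0, 1)], [], [], [], [], [], [], [], [], [], [], [], [], [], [], [], [], [], [], [], [], [], [], [], [], [], [], [], [], [], [], [], [], [], [], [], [], [], [], [], [], [], [], [], [], [], [], [], [], [], [], [], [], [], [], [], [], [], [], [], [], [], [], [], []]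
def cyc12 : List (List (ℕ × ℕ)) := [[], [(0, 1)], [], [], [], [(0, 1)], [], [], [], [], [], [], [], [], [], [], [], [(0, 1)], [], [], [], [], [], [], [], [], [], [], [], [], [], [], [], [], [], [], [], [], [], [], [], [], [], [], [], [], [], [], [], [], [], [], [], [], [], [], [], [], [], [], [], [], [], [], [], [], [], [], [], [], [], [], []]
def cyc14 : List (List (ℕ × ℕ)) := [[], [(2051, 1)], [], [], [], [], [], [], [], [], [], [], [], [], [], [], [], [], [], [], [], [], [], [], [], [], [], [], [], [], [], [], [], [], [], [], [], [(5, 2)], [], [], [], [], [], [], [], [], [], [(5, 1)], [], [], [], [], [], [], [], [], [], [], [], [], [], [], [], [], [], [], [], [], [], [], [], [], []]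
def cyc17 : List (List (ℕ × ℕ)) := [[(0, 2)], [(0, 2)], [], [], [], [(0, 2)], [], [], [], [], [], [], [(0, 1)], [], [], [], [], [], [], [], [], [], [], [], [], [], [], [], [], [], [], [], [], [], [], [], [], [], [], [], [], [], [], [], [], [], [], [], [], [], [], [], [], [], [], [], [], [], [], [], [], [], [], [], [], [], [], [], [], [], [], [], []]
def cyc22 : List (List (ℕ × ℕ)) := [[], [(0, 2)], [], [], [], [], [(3, 1)], [], [], [], [], [], [], [], [], [], [], [], [], [], [], [(0, 2)], [], [], [], [], [], [], [], [], [], [], [], [], [], [], [(0, 2)], [], [], [(0, 2)], [], [], [], [], [], [], [], [], [], [], [], [], [], [], [], [], [], [], [], [], [], [], [], [], [], [], [], [], [], [], [], [], []]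
def cyc25 : List (List (ℕ × ℕ)) := [[(0, 2), (44, 1)], [], [], [], [], [(0, 2), (3, 2)], [], [], [], [], [], [], [], [], [], [], [], [], [], [], [], [(0, 2)], [], [], [], [], [], [], [], [], [], [], [], [], [], [], [], [], [], [], [], [], [], [], [], [], [], [], [], [], [(0, 1)], [], [], [], [], [], [], [], [], [], [], [], [], [], [], [], [], [], [], [], [], [], []]
def cyc31 : List (List (ℕ × ℕ)) := [[(0, 1), (1, 2)], [(0, 2)], [], [], [], [(7, 2), (95, 1)], [], [], [], [], [], [], [], [], [], [], [], [], [], [], [], [(0, 2)], [], [], [], [], [], [], [(0, 1)], [], [], [], [], [], [], [], [], [], [], [], [], [], [], [], [], [], [], [], [], [], [], [], [], [], [], [], [], [], [], [], [], [], [], [], [], [], [], [], [], [], [], [], []]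
def cyc33 : List (List (ℕ × ℕ)) := [[(0, 2), (56, 2)], [(0, 1)], [], [], [], [(4, 2)], [(56, 1)], [], [], [], [], [], [], [], [], [], [], [], [], [], [], [(0, 2)], [], [], [], [], [], [], [], [], [], [], [], [], [], [], [], [], [], [], [], [], [], [], [], [], [], [], [], [], [], [], [(0, 1)], [], [], [], [], [], [], [], [], [], [], [], [], [], [], [], [], [], [], [], []]
def cyc43 : List (List (ℕ × ℕ)) := [[(0, 2), (1, 1), (7, 2), (12, 2), (30, 2), (92, 2)], [(0, 2)], [], [], [], [(0, 1), (2, 2), (3, 2), (25, 2)], [], [], [], [], [], [], [], [], [], [], [], [], [], [], [], [], [], [], [], [], [], [], [], [], [], [], [(0, 1)], [], [], [], [], [], [], [], [], [], [(0, 1)], [], [], [], [], [], [], [], [], [], [], [], [], [], [], [], [], [], [], [], [], [], [], [], [], [], [], [], [], [(0, 1)], []]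
def cyc45 : List (List (ℕ × ℕ)) := [[(0, 2), (7, 2), (26, 2), (90, 2)], [(0, 2), (25, 1), (176, 1)], [], [], [(21, 1), (594, 2)], [(0, 2), (7, 2), (95, 2)], [], [], [], [], [], [], [], [], [(95, 1)], [], [], [], [], [], [], [], [], [(7, 1)], [], [], [], [], [], [], [], [], [], [], [], [], [], [], [], [], [], [], [], [], [], [], [], [], [], [], [], [], [], [], [], [], [], [], [], [], [(0, 2)], [], [], [], [], [], [], [], [], [], [], [], []]
def cyc50 : List (List (ℕ × ℕ)) := [[(0, 1), (1, 1), (3, 1), (56, 2)], [(10, 1)], [], [], [], [(0, 2), (1, 1), (2, 1), (4, 1), (36, 1)], [(56, 1)], [], [], [], [], [], [], [], [], [], [(36, 1)], [], [], [], [], [(0, 1)], [], [], [], [], [], [], [], [], [], [], [], [], [], [], [], [], [], [], [], [], [], [], [], [], [], [], [], [(0, 2)], [], [], [], [(0, 2)], [], [], [], [], [], [], [], [(0, 2)], [(0, 2)], [], [], [], [], [], [], [], [], [], []]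
def cyc55 : List (List (ℕ × ℕ)) := [[(0, 1), (1, 2), (4, 1), (7, 2), (90, 1)], [(0, 1), (1, 1), (25, 2)], [], [], [(36, 1)], [(0, 2), (3, 1), (14, 1), (25, 1), (43, 1)], [], [], [], [(40, 1)], [], [], [], [], [], [(52, 2)], [], [], [], [], [], [(0, 2)], [], [], [(307, 2)], [], [], [], [], [], [], [], [], [], [], [], [], [], [], [(0, 1)], [], [], [], [], [], [], [], [], [], [], [], [], [], [], [], [], [], [], [], [], [(0, 2)], [], [], [], [], [], [], [(0, 2)], [], [], [], [], []]
def cyc56 : List (List (ℕ × ℕ)) := [[(1, 1), (8, 1), (20, 2), (249, 2), (352, 2), (2762, 2), (3850, 2), (24730, 2)], [], [], [], [], [(1, 1), (2, 1), (28, 1), (72, 2), (1165, 2), (8935, 2)], [(17, 2), (28, 2)], [], [], [], [], [], [], [], [], [], [], [], [], [], [], [(5, 2), (104, 2), (829, 2), (12068, 2)], [(5, 1), (12068, 1)], [], [], [], [], [], [], [], [], [], [], [], [], [], [], [], [], [], [], [], [], [], [], [], [], [], [], [], [], [], [], [], [], [], [], [], [], [], [], [], [], [], [], [],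 [], [], [], [], [], [], []]
def cyc59 : List (List (ℕ × ℕ)) := [[(22, 1), (36, 2), (133, 2), (271, 2)], [(0, 2), (10, 2), (15, 1), (26, 1), (68, 2), (1063, 2), (2600, 2)], [], [], [], [(0, 2), (1, 2), (4, 2), (7, 1), (19, 2), (36, 1), (79, 1)], [(6, 1), (36, 2)], [], [(1063, 2)], [(5, 2)], [], [(2600, 2)], [(2, 2)], [], [], [], [], [], [(1, 1)], [], [], [(0, 2)], [], [], [], [], [], [], [], [], [], [], [], [], [], [], [], [], [], [], [], [], [], [], [], [], [], [], [], [], [], [], [], [(0, 1)], [], [], [], [], [], [], [(0, 1)], [], [], [], [], [], [], [], [], [(0, 2)], [], [], []]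
def cyc63 : List (List (ℕ × ℕ)) := [[(0, 1), (1, 2), (3, 1), (4, 1), (6, 2), (15, 2), (22, 1), (36, 1), (37, 2), (90, 2), (95, 2), (96, 2), (133, 1), (187, 2), (271, 2), (273, 1), (907, 1), (6861, 1)], [(1, 1), (2, 2), (10, 1), (40, 2), (53, 2), (68, 2), (323, 2), (626, 2), (630, 2), (906, 1), (1063, 2), (2600, 2)], [], [(323, 2), (6861, 1)], [(132, 2)], [(0, 1), (1, 2), (7, 1), (11, 1), (25, 1), (36, 1), (95, 2), (271, 2)], [], [(1, 2)], [(1063, 2)], [(5, 2)], [(36, 1), (111, 1), (2600, 2)], [], [], [], [(21, 2)], [], [], [], [(1, 1)], [], [], [(0, 2), (14, 1)], [], [], [(0, 1)], [], [(906, 2)], [], [], [], [], [], [], [], [], [], [(0, 2)], [], [], [], [], [], [], [(907, 1), (6894, 2)], [(0, 2)], [], [(133, 1)], [], [], [], [], [], [], [], [], [], [], [], [], [], [(0, 1)], [(0, 1)], [(0, 1)], [], [], [], [], [(0, 2)], [], [], [(0, 2)], [(0, 2), (91, 1)], []]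
def cyc66 : List (List (ℕ × ℕ)) := [[(0, 2), (1, 1), (3, 1), (4, 1), (5, 2), (18, 1), (19, 2), (20, 2), (22, 1), (23, 2), (29, 1), (30, 1), (34, 1), (37, 2), (40, 2), (43, 2), (44, 2), (51, 1), (52, 1), (62, 2), (63, 1), (67, 1), (80, 1), (83, 1), (84, 2), (90, 1), (95, 2), (96, 2), (133, 2), (137, 1), (178, 1), (184, 1), (187, 1), (218, 2), (222, 1), (228, 1), (237, 2), (247, 2), (248, 2), (273, 2), (286, 1), (313, 1), (317, 1), (321, 1), (350, 1), (357, 2), (363, 1), (484, 1), (521, 1), (616, 1), (727, 1), (772, 2), (818, 1), (877, 2), (882, 2), (907, 2), (1154, 2), (1189, 2), (1619, 1), (1719, 2), (2026, 2), (2487, 1), (3406, 1), (3553, 1), (6861, 2), (8372, 1), (8856, 2), (11015, 2)], [(1, 2), (2, 1), (5, 1), (10, 2), (12, 2), (15, 1), (17, 1), (25, 2), (26, 2), (28, 2), (40, 2), (53, 1), (68, 2), (72, 2), (79, 1), (104, 2), (111, 1), (246, 1), (286, 1), (323, 2), (626, 1), (630, 1), (906, 2), (911, 1), (1023, 2), (1063, 1), (2600, 2), (8376, 1)], [(63, 1), (103, 1)],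 [(133, 2), (323, 1), (346, 2), (351, 1), (827, 2), (6861, 2)], [(4, 2), (7, 2), (23, 2), (83, 2), (132, 1), (594, 1)], [(2, 2), (3, 1), (4, 2), (7, 2), (11, 1), (17, 2), (19, 1), (22, 1), (25, 2), (28, 1), (29, 2), (34, 1), (36, 2), (43, 2), (44, 1), (51, 2), (54, 2), (56, 1), (66, 2), (71, 1), (77, 1), (79, 2), (83, 1), (84, 1), (94, 1), (95, 2), (96, 2), (107, 1), (153, 1), (154, 2), (176, 2), (182, 1), (184, 2), (190, 2), (193, 1), (216, 1), (230, 1), (244, 1), (271, 1), (316, 2), (348, 1), (374, 2), (610, 2), (611, 1), (615, 1), (650, 1), (781, 1), (902, 1), (907, 2), (910, 2), (1072, 1), (1225, 1), (1226, 2), (1618, 1), (1719, 1), (2141, 2), (2487, 2), (2575, 2), (2632, 1), (3553, 1), (3923, 1), (4031, 1), (6723, 2)], [(17, 2), (28, 2), (54, 1), (56, 2), (182, 2), (316, 2), (317, 2), (1619, 1)], [(1, 2), (2, 1), (7, 2), (51, 1), (110, 2), (285, 1), (321, 2), (361, 2), (1719, 2), (1720, 2)], [(176, 1), (1063, 2)], [(5, 1), (83, 2), (107, 1), (176, 1), (307, 2), (516,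 2), (521, 2), (522, 1), (815, 1), (2444, 1)], [(1, 1), (14, 2), (55, 2), (64, 1), (230, 1), (463, 1), (1198, 1)], [(5, 2), (12, 1), (52, 1), (64, 2), (2600, 1)], [(2, 2), (19, 1), (30, 1), (36, 2), (63, 2), (144, 1), (218, 1), (241, 1), (358, 2), (522, 2), (610, 1)], [(4, 1), (17, 2), (54, 1), (80, 1), (272, 2), (357, 2), (1162, 2)], [(5, 2), (12, 1), (23, 2), (30, 1), (82, 2), (92, 1), (95, 1), (108, 1), (132, 2), (221, 2), (280, 1), (285, 2), (286, 1), (323, 1), (771, 2), (2600, 1), (3030, 1)], [(10, 2), (28, 1), (36, 1), (52, 1), (92, 2), (264, 2), (271, 2), (3030, 2)], [(17, 1), (43, 2), (63, 1), (80, 1), (133, 2), (176, 2), (228, 2), (230, 2), (765, 2), (902, 2), (2010, 2), (2438, 2)], [(5, 2), (7, 2), (177, 2), (234, 1), (521, 2), (1719, 1)], [(1, 2), (3, 1), (5, 2), (195, 2), (228, 1)], [(5, 2), (8, 2), (23, 1), (79, 1), (92, 1), (190, 2), (195, 2), (2010, 2)], [(3, 1), (26, 1), (50, 1), (70, 1), (79, 1), (459, 2), (1162, 1), (8371, 1)], [(0, 1), (2, 1), (5, 2), (14,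 2), (18, 1), (25, 1), (79, 2), (102, 1), (216, 2), (372, 1), (771, 1), (772, 2), (1232, 2), (2050, 1)], [], [(7, 2)], [(0, 2), (307, 1)], [(177, 2)], [(906, 1)], [], [(731, 2)], [], [(177, 1), (815, 2)], [(824, 1)], [], [(11, 2)], [(827, 1)], [], [(0, 2)], [(11, 1), (18, 2), (2050, 2)], [], [(0, 2)], [], [(262, 2), (882, 1)], [], [(907, 2), (1413, 2), (6894, 1)], [(0, 2)], [(11, 2)], [], [], [(460, 1)], [(323, 1)], [(133, 1), (153, 1), (216, 1)], [], [], [(0, 2)], [(133, 1)], [(11, 1)], [(0, 1)], [(0, 1), (190, 1)], [], [], [(0, 1)], [(0, 1)], [(0, 1), (84, 1), (765, 1)], [(30, 1), (55, 2)], [(0, 2)], [(12, 2)], [(0, 2)], [(0, 2)], [(0, 2), (262, 2)], [], [(0, 1)], [(0, 2)], []]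

end Cfsg.Agent.Lib.Helper28.FoxCo3P3Cyc
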