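import Mathlib.Data.Nat.Notation
set_option autoImplicit false
set_option maxRecDepth 100000

namespace Cfsg.Agent.Lib.Helper28.FoxCo3P3Cyc

def cyc0 : List (List (ℕ × ℕ)) := [[], [], [], [(0, 1)], [], [], [], [], [], [], [], [], [], [], [], [], [], [], [], [], [], [], [], [], [], [], [], [], [], [], [], [], [], [], [], [], [], [], [], [], [], [], [], [], [], [], [], [], [], [], [], [], [], [], [], [], [], [], [], [], [], [], [], [], [], [], [], [], [], [], [], [], []]
def cyc1 : List (List (ℕ × ℕ)) := [[], [(0, 1)], [], [], [(0, 1)], [], [], [], [], [], [], [], [], [], [], [], [], [], [], [], [], [], [], [], [], [], [], [], [], [], [], [], [], [], [], [], [], [], [], [], [], [], [], [], [], [], [], [], [], [], [], [], [], [], [], [], [], [], [], [], [], [], [], [], [], [], [], [], [], [], [], [], []]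
def cyc7 : List (List (ℕ × ℕ)) := [[(0, 2)], [(0, 1)], [(0, 1)], [], [], [], [], [], [], [], [], [], [], [], [], [], [], [], [], [], [], [], [], [], [], [], [], [], [], [], [], [], [], [], [], [], [], [], [], [], [], [], [], [], [], [], [], [], [], [], [], [], [], [], [], [], [], [], [], [], [], [], [], [], [], [], [], [], [], [], [], [], []]
def cyc8 : List (List (ℕ × ℕ)) := [[(0, 1)], [], [], [], [], [(0, 1)], [(0, 1)], [], [], [], [], [], [], [], [], [], [], [], [], [], [], [], [], [], [], [], [], [], [], [], [], [], [], [], [], [], [], [], [], [], [], [], [], [], [], [], [], [], [], [], [], [], [], [], [], [], [], [], [], [], [], [], [], [], [], [], [], [], [], [], [], [], []]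
def cyc13 : List (List (ℕ × ℕ)) := [[], [(0, 2)], [], [], [], [(0, 2)], [], [], [], [], [], [], [], [], [], [], [], [], [], [], [(0, 1)], [], [], [], [], [], [], [], [], [], [], [], [], [], [], [], [], [], [], [], [], [], [], [], [], [], [], [], [], [], [], [], [], [], [], [], [], [], [], [], [], [], [], [], [], [], [], [], [], [], [], [], []]
def cyc26 : List (List (ℕ × ℕ)) := [[(129, 1), (1464, 1)], [], [], [], [], [(437, 1)], [(4842, 2)], [], [], [], [], [], [], [], [], [], [], [], [], [], [], [], [], [], [], [], [], [], [], [], [], [], [], [], [], [], [], [], [], [], [(2, 2)], [], [], [], [], [], [], [], [], [], [], [(2, 1)], [], [], [], [], [], [], [], [], [], [], [], [], [], [], [], [], [], [], [], [], []]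
def cyc28 : List (List (ℕ × ℕ)) := [[(50, 1), (271, 1)], [(2, 1), (176, 1)], [], [], [], [], [], [], [], [], [], [], [], [], [], [], [], [], [], [], [], [], [], [], [], [], [], [], [], [(22, 1)], [], [(906, 2)], [], [], [], [], [], [], [], [], [], [], [], [], [], [], [], [], [], [], [], [], [], [], [], [], [], [], [], [], [], [], [], [], [], [], [], [], [], [], [], [], []]
def cyc30 : List (List (ℕ × ℕ)) := [[(0, 1), (1, 2)], [(0, 2)], [], [], [], [(6, 2), (83, 1)], [], [], [], [], [], [], [], [], [], [], [], [], [], [], [], [(0, 2)], [], [], [], [], [(0, 1)], [], [], [], [], [], [], [], [], [], [], [], [], [], [], [], [], [], [], [], [], [], [], [], [], [], [], [], [], [], [], [], [], [], [], [], [], [], [], [], [], [], [], [], [], [], []]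
def cyc32 : List (List (ℕ × ℕ)) := [[(0, 1), (3, 2), (133, 1)], [(0, 2)], [], [], [], [(0, 2)], [], [], [], [], [], [], [], [], [], [], [], [], [], [], [], [(0, 2)], [], [], [], [], [], [], [], [], [], [], [], [], [], [], [], [], [], [], [], [], [], [], [], [(0, 1)], [], [], [], [], [], [], [], [], [], [], [], [], [], [], [], [], [], [], [], [], [], [], [], [], [], [], []]
def cyc34 : List (List (ℕ × ℕ)) := [[(3, 1), (11, 1)], [(0, 2)], [], [], [], [(10, 1)], [], [], [], [], [], [], [], [], [], [], [], [], [], [], [], [(0, 2)], [], [], [], [], [], [], [], [], [], [], [], [], [(0, 2)], [], [(0, 2)], [], [], [], [], [], [], [], [], [], [], [], [], [], [], [], [], [], [], [], [], [], [], [], [], [], [], [], [], [], [], [], [], [], [], [], []]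
def cyc37 : List (List (ℕ × ℕ)) := [[(1, 1), (7, 1)], [(0, 2)], [], [], [], [(25, 1)], [], [], [], [], [], [], [], [], [], [], [], [], [], [], [], [(0, 1)], [], [], [], [], [], [], [], [], [], [], [], [(0, 1)], [], [], [], [], [], [], [], [], [(0, 2)], [], [], [], [], [], [], [], [], [], [], [], [], [], [], [], [], [], [], [], [], [], [], [], [], [], [], [], [], [(0, 2)], []]
def cyc41 : List (List (ℕ × ℕ)) := [[(0, 2), (1, 1)], [(0, 2), (1, 2)], [], [], [], [(0, 1), (2, 1)], [], [], [], [], [], [(10, 1)], [], [], [], [], [], [], [], [], [], [], [], [], [], [], [], [], [], [], [], [], [], [], [(0, 2)], [], [], [], [], [], [], [], [], [], [], [], [], [], [], [], [], [], [], [(0, 2)], [], [], [], [], [], [], [], [], [(0, 2)], [], [], [], [], [], [], [], [], [], []]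
def cyc44 : List (List (ℕ × ℕ)) := [[(4, 2)], [(40, 2)], [], [], [], [(0, 2), (43, 1), (50, 1), (184, 2), (1719, 2)], [], [(44, 2), (1719, 1)], [], [(516, 2), (521, 2), (522, 1)], [], [], [], [], [], [], [], [], [], [], [], [(0, 1)], [], [], [], [], [], [], [], [], [], [], [], [], [], [], [], [], [], [], [], [], [], [], [], [], [], [], [], [], [], [], [], [], [], [(11, 1)], [], [], [], [], [], [], [], [(0, 1)], [], [], [], [], [], [], [], [], []]
def cyc48 : List (List (ℕ × ℕ)) := [[(0, 2), (3, 1), (12, 1), (133, 1)], [(0, 1), (12, 2), (15, 1)], [], [], [], [(19, 2)], [], [], [], [(5, 2)], [], [], [], [(4, 2)], [], [], [], [(1, 1)], [], [], [], [(0, 2)], [], [], [], [], [], [], [], [], [], [], [], [], [], [], [], [], [], [], [], [], [(0, 1)], [], [], [], [], [], [], [(0, 2)], [], [], [], [], [(133, 2)], [], [], [], [], [], [], [], [], [], [], [], [], [(0, 2)], [], [], [], [], []]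
def cyc52 : List (List (ℕ × ℕ)) := [[(0, 1), (1, 1), (4, 2), (12, 1), (30, 1), (90, 2), (92, 1)], [(0, 1), (14, 1)], [], [], [], [(0, 1), (2, 1), (3, 1), (25, 2)], [], [(1, 2)], [(4, 1)], [], [], [], [], [], [], [], [], [], [], [(92, 2)], [], [], [], [(7, 1)], [], [(177, 1)], [], [], [], [], [], [], [], [], [], [], [], [], [], [], [], [], [], [], [], [], [], [], [], [], [], [], [], [], [], [], [], [], [], [], [], [], [], [], [], [], [], [(0, 2)], [], [], [], [(0, 2)], []]
def cyc61 : List (List (ℕ × ℕ)) := [[(0, 2), (3, 2), (4, 1), (5, 1), (62, 2), (63, 1), (133, 1), (187, 2), (6861, 1)], [(0, 1), (2, 1), (8, 1), (53, 2), (626, 2), (630, 2)], [], [(6861, 1)], [], [(0, 1), (1, 1), (4, 1), (6, 1), (22, 1), (36, 1), (83, 2)], [], [(2, 2), (107, 1)], [], [(83, 2), (2444, 1)], [], [], [], [], [], [], [], [], [(36, 1)], [], [], [(0, 1), (14, 1), (216, 2)], [], [], [], [], [], [], [], [], [], [], [], [], [(0, 2)], [], [], [(11, 1)], [], [], [], [], [], [(6894, 2)], [], [], [], [], [], [(0, 2)],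 [], [], [], [], [(133, 2)], [], [], [], [], [], [], [(0, 2)], [], [], [], [], [], [], [], [], [], [], []]
def cyc64 : List (List (ℕ × ℕ)) := [[(0, 2), (1, 1), (3, 2), (5, 1), (7, 1), (15, 2), (18, 1), (26, 1), (36, 1), (37, 2), (40, 1), (44, 1), (52, 2), (68, 1), (90, 2), (92, 1), (95, 2), (96, 1), (133, 1), (137, 1), (271, 2), (273, 1), (313, 1), (317, 1), (357, 2), (363, 2), (521, 2), (907, 1), (1719, 1), (1752, 1), (11015, 2)], [(1, 2), (5, 1), (8, 1), (12, 2), (17, 2), (26, 1), (38, 2), (79, 1), (323, 1), (906, 1)], [], [(323, 1)], [(132, 1)], [(0, 1), (1, 1), (2, 1), (3, 1), (7, 1), (11, 1), (18, 1), (19, 1), (29, 2), (30, 1), (36, 1), (44, 2), (66, 2), (79, 1), (83, 1), (95, 2), (96, 1), (152, 2), (154, 2), (323, 2), (371, 1), (902, 1), (1071, 1), (1719, 2)], [(28, 2), (317, 2)], [(2, 2), (36, 2), (107, 1)], [], [(5, 1), (83, 1), (521, 2), (522, 1), (1223, 2), (2444, 2), (3558, 2)], [(14, 1), (463, 2)], [(5, 2), (216, 1)], [], [(17, 1), (37, 2)], [(12, 2)], [(463, 1)], [(902, 1)],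 [(7, 2), (522, 1)], [(271, 2)], [], [], [(0, 1), (25, 1), (216, 1)], [], [(7, 1)], [(0, 2), (307, 2)], [], [(906, 2)], [], [], [], [], [], [], [], [(0, 1)], [], [(0, 2)], [(11, 2)], [], [(5, 1)], [(42, 1)], [(262, 1)], [(0, 1)], [(907, 1)], [(0, 2)], [(11, 2), (262, 2)], [(0, 2), (42, 2)], [], [], [(0, 2), (323, 1)], [(133, 2)], [], [], [], [(133, 1)], [], [], [], [], [], [(0, 1)], [(0, 1)], [(0, 1)], [], [], [], [], [(0, 1)], [(0, 2)], [(0, 2)], [], [(0, 1), (91, 1)], []]
def cyc65 : List (List (ℕ × ℕ)) := [[(1, 1), (4, 2), (6, 2), (12, 1), (18, 1), (20, 2), (34, 1), (43, 2), (44, 2), (56, 2), (67, 1), (96, 1), (133, 1), (137, 1), (187, 2), (222, 2), (247, 2), (271, 2), (313, 2), (363, 2), (732, 2), (818, 1), (1719, 1), (2598, 2), (6861, 1), (8856, 2), (11015, 1)], [(0, 2), (5, 2), (8, 1), (15, 2), (17, 2), (26, 2), (38, 1), (53, 2), (68, 2), (72, 2), (79, 2), (246, 1), (323, 1), (626, 2), (630, 2), (1063, 2), (2600, 2)], [], [(323, 1), (827, 2), (6861, 1)], [], [(0, 2), (2, 2), (4,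 1), (6, 2), (7, 1), (10, 2), (11, 1), (14, 1), (17, 2), (25, 1), (29, 2), (34, 1), (43, 2), (66, 2), (71, 1), (79, 1), (83, 1), (230, 1), (244, 1), (323, 2), (781, 2), (827, 1), (902, 2), (1719, 1)], [(36, 2), (54, 2), (426, 2)], [(1, 2), (2, 2), (36, 2), (107, 1), (193, 2)], [(1063, 2)], [(5, 2), (40, 2), (83, 1), (521, 1), (815, 1)], [(14, 1), (111, 1), (773, 1), (2600, 2)], [(5, 2)], [], [(4, 2), (37, 2), (272, 1), (357, 1)], [(21, 2), (92, 1)], [(264, 2)], [(228, 1), (230, 2)], [(38, 2), (66, 1), (146, 1)], [(1, 1)], [], [], [(5, 2), (14, 1), (25, 2), (771, 1)], [], [], [(0, 1), (307, 1)], [], [], [], [], [], [(815, 2)], [], [], [], [(0, 2), (28, 1), (827, 1)], [], [(0, 2)], [], [], [(28, 2)], [], [(262, 2)], [], [(1413, 2), (6894, 2)], [(0, 2)], [(11, 1), (262, 1)], [(133, 1)], [], [], [(323, 1)], [(133, 2)], [], [], [], [], [], [(0, 1)], [], [], [], [], [], [(0, 2)], [], [], [], [], [(0, 1)], [], [(0, 1)], [(0, 2)], [(0, 2)], []]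

end Cfsg.Agent.Lib.Helper28.FoxCo3P3Cyc
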