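import Cfsg.Agent.Lib.Helper28.SchurFoxW
import Cfsg.Agent.Lib.Helper28.FoxCo3P3
import Cfsg.Agent.Lib.Helper28.FoxCo3P3CycA
import Cfsg.Agent.Lib.Helper28.FoxCo3P3CycB
import Cfsg.Agent.Lib.Helper28.FoxCo3P3CycC
import Cfsg.Agent.Lib.Helper28.TCCo3Table
set_option autoImplicit false
set_option maxRecDepth 100000
set_option maxHeartbeats 0

namespace Cfsg.Agent.Lib.Helper28.FoxCo3P3W0
open Cfsg.Agent.Lib.Helper28.SchurFox Cfsg.Agent.Lib.Helper29.SchurFoxSparse Cfsg.Agent.Lib.Helper28.SchurFoxW Cfsg.Agent.Lib.Helper28.FoxCo3P3 Cfsg.Agent.Lib.Helper28.FoxCo3P3Cyc Cfsg.Agent.Lib.Helper28.TCCo3Table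

theorem hblk47_0 : blocksOK data table.tau 1080 cyc47 0 45 = true := by decide +kernel
theorem hblk63_0 : blocksOK data table.tau 1080 cyc63 0 45 = true := by decide +kernel
theorem hblk66_0 : blocksOK data table.tau 1080 cyc66 0 16 = true := by decide +kernel
theorem hblk66_16 : blocksOK data table.tau 1080 cyc66 16 16 = true := by decide +kernel
theorem hblk67_44 : blocksOK data table.tau 1080 cyc67 44 1 = true := by decide +kernel
theorem hblk68_0 : blocksOK data table.tau 1080 cyc68 0 3 = true := by decide +kernel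

end Cfsg.Agent.Lib.Helper28.FoxCo3P3W0
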