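import Cfsg.Agent.Lib.Helper28.SchurFoxW
import Cfsg.Agent.Lib.Helper28.FoxCo3P3
import Cfsg.Agent.Lib.Helper28.FoxCo3P3CycA
import Cfsg.Agent.Lib.Helper28.FoxCo3P3CycB
import Cfsg.Agent.Lib.Helper28.FoxCo3P3CycC
import Cfsg.Agent.Lib.Helper28.FoxCo3P3CycD
import Cfsg.Agent.Lib.Helper28.TCCo3Table
import Cfsg.Agent.Lib.Helper28.FoxCo3P3W1
set_option autoImplicit false
set_option maxRecDepth 100000
set_option maxHeartbeats 0

namespace Cfsg.Agent.Lib.Helper28.FoxCo3P3W3
open Cfsg.Agent.Lib.Helper28.SchurFox Cfsg.Agent.Lib.Helper29.SchurFoxSparse Cfsg.Agent.Lib.Helper28.SchurFoxW Cfsg.Agent.Lib.Helper28.FoxCo3P3 Cfsg.Agent.Lib.Helper28.FoxCo3P3Cyc Cfsg.Agent.Lib.Helper28.TCCo3Table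

theorem hblk41_0 : blocksOK data table.tau 1080 cyc41 0 45 = true := by decide +kernel
theorem hblk46_0 : blocksOK data table.tau 1080 cyc46 0 45 = true := by decide +kernel
theorem hblk50_0 : blocksOK data table.tau 1080 cyc50 0 45 = true := by decide +kernel
theorem hblk51_0 : blocksOK data table.tau 1080 cyc51 0 45 = true := by decide +kernel
theorem hblk52_0 : blocksOK data table.tau 1080 cyc52 0 45 = true := by decide +kernel
theorem hblk54_0 : blocksOK data table.tau 1080 cyc54 0 45 = true := by decide +kernel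
theorem hblk58_0 : blocksOK data table.tau 1080 cyc58 0 45 = true := by decide +kernel
theorem hblk68_21 : blocksOK data table.tau 1080 cyc68 21 3 = true := by decide +kernel
theorem hblk68_24 : blocksOK data table.tau 1080 cyc68 24 3 = true := by decide +kernel
theorem hblk68_27 : blocksOK data table.tau 1080 cyc68 27 3 = true := by decide +kernel

end Cfsg.Agent.Lib.Helper28.FoxCo3P3W3
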