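import Cfsg.Agent.Lib.Helper28.SchurFoxW
import Cfsg.Agent.Lib.Helper28.FoxCo3P3
import Cfsg.Agent.Lib.Helper28.FoxCo3P3CycA
import Cfsg.Agent.Lib.Helper28.FoxCo3P3CycB
import Cfsg.Agent.Lib.Helper28.FoxCo3P3CycC
import Cfsg.Agent.Lib.Helper28.FoxCo3P3CycD
import Cfsg.Agent.Lib.Helper28.TCCo3Table
import Cfsg.Agent.Lib.Helper28.FoxCo3P3W2
set_option autoImplicit false
set_option maxRecDepth 100000
set_option maxHeartbeats 0

namespace Cfsg.Agent.Lib.Helper28.FoxCo3P3W4
open Cfsg.Agent.Lib.Helper28.SchurFox Cfsg.Agent.Lib.Helper29.SchurFoxSparse Cfsg.Agent.Lib.Helper28.SchurFoxW Cfsg.Agent.Lib.Helper28.FoxCo3P3 Cfsg.Agent.Lib.Helper28.FoxCo3P3Cyc Cfsg.Agent.Lib.Helper28.TCCo3Table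

theorem hblk22_0 : blocksOK data table.tau 1080 cyc22 0 45 = true := by decide +kernel
theorem hblk26_0 : blocksOK data table.tau 1080 cyc26 0 45 = true := by decide +kernel
theorem hblk29_0 : blocksOK data table.tau 1080 cyc29 0 45 = true := by decide +kernel
theorem hblk35_0 : blocksOK data table.tau 1080 cyc35 0 45 = true := by decide +kernel
theorem hblk37_0 : blocksOK data table.tau 1080 cyc37 0 45 = true := by decide +kernel
theorem hblk40_0 : blocksOK data table.tau 1080 cyc40 0 45 = true := by decide +kernel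
theorem hblk42_0 : blocksOK data table.tau 1080 cyc42 0 45 = true := by decide +kernel
theorem hblk43_0 : blocksOK data table.tau 1080 cyc43 0 45 = true := by decide +kernel
theorem hblk44_0 : blocksOK data table.tau 1080 cyc44 0 45 = true := by decide +kernel
theorem hblk45_0 : blocksOK data table.tau 1080 cyc45 0 45 = true := by decide +kernel
theorem hblk49_0 : blocksOK data table.tau 1080 cyc49 0 45 = true := by decide +kernel
theorem hblk56_0 : blocksOK data table.tau 1080 cyc56 0 45 = true := by decide +kernel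
theorem hblk68_30 : blocksOK data table.tau 1080 cyc68 30 3 = true := by decide +kernel
theorem hblk68_33 : blocksOK data table.tau 1080 cyc68 33 3 = true := by decide +kernel
theorem hblk68_36 : blocksOK data table.tau 1080 cyc68 36 3 = true := by decide +kernel

end Cfsg.Agent.Lib.Helper28.FoxCo3P3W4
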