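import Cfsg.Agent.Lib.Helper28.SchurFoxW
import Cfsg.Agent.Lib.Helper28.FoxCo3P3
import Cfsg.Agent.Lib.Helper28.FoxCo3P3CycA
import Cfsg.Agent.Lib.Helper28.FoxCo3P3CycB
import Cfsg.Agent.Lib.Helper28.FoxCo3P3CycC
import Cfsg.Agent.Lib.Helper28.FoxCo3P3CycD
import Cfsg.Agent.Lib.Helper28.TCCo3Table
import Cfsg.Agent.Lib.Helper28.FoxCo3P3W4
set_option autoImplicit false
set_option maxRecDepth 100000
set_option maxHeartbeats 0

namespace Cfsg.Agent.Lib.Helper28.FoxCo3P3W6
open Cfsg.Agent.Lib.Helper28.SchurFox Cfsg.Agent.Lib.Helper29.SchurFoxSparse Cfsg.Agent.Lib.Helper28.SchurFoxW Cfsg.Agent.Lib.Helper28.FoxCo3P3 Cfsg.Agent.Lib.Helper28.FoxCo3P3Cyc Cfsg.Agent.Lib.Helper28.TCCo3Table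

theorem hblk14_0 : blocksOK data table.tau 1080 cyc14 0 45 = true := by decide +kernel
theorem hblk16_0 : blocksOK data table.tau 1080 cyc16 0 45 = true := by decide +kernel
theorem hblk34_0 : blocksOK data table.tau 1080 cyc34 0 45 = true := by decide +kernel
theorem hblk38_0 : blocksOK data table.tau 1080 cyc38 0 45 = true := by decide +kernel
theorem hblk67_4 : blocksOK data table.tau 1080 cyc67 4 4 = true := by decide +kernel
theorem hblk67_8 : blocksOK data table.tau 1080 cyc67 8 4 = true := by decide +kernel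
theorem hblk67_12 : blocksOK data table.tau 1080 cyc67 12 4 = true := by decide +kernel
theorem hblk67_16 : blocksOK data table.tau 1080 cyc67 16 4 = true := by decide +kernel

end Cfsg.Agent.Lib.Helper28.FoxCo3P3W6
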