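import Cfsg.Agent.Lib.Helper28.SchurFoxW
import Cfsg.Agent.Lib.Helper28.FoxCo3P3
import Cfsg.Agent.Lib.Helper28.FoxCo3P3CycA
import Cfsg.Agent.Lib.Helper28.FoxCo3P3CycB
import Cfsg.Agent.Lib.Helper28.FoxCo3P3CycC
import Cfsg.Agent.Lib.Helper28.FoxCo3P3CycD
import Cfsg.Agent.Lib.Helper28.TCCo3Table
import Cfsg.Agent.Lib.Helper28.FoxCo3P3W6
set_option autoImplicit false
set_option maxRecDepth 100000
set_option maxHeartbeats 0

namespace Cfsg.Agent.Lib.Helper28.FoxCo3P3W8
open Cfsg.Agent.Lib.Helper28.SchurFox Cfsg.Agent.Lib.Helper29.SchurFoxSparse Cfsg.Agent.Lib.Helper28.SchurFoxW Cfsg.Agent.Lib.Helper28.FoxCo3P3 Cfsg.Agent.Lib.Helper28.FoxCo3P3Cyc Cfsg.Agent.Lib.Helper28.TCCo3Table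

theorem hblk21_0 : blocksOK data table.tau 1080 cyc21 0 45 = true := by decide +kernel
theorem hblk24_0 : blocksOK data table.tau 1080 cyc24 0 45 = true := by decide +kernel
theorem hblk25_0 : blocksOK data table.tau 1080 cyc25 0 45 = true := by decide +kernel
theorem hblk30_0 : blocksOK data table.tau 1080 cyc30 0 45 = true := by decide +kernel
theorem hblk32_0 : blocksOK data table.tau 1080 cyc32 0 45 = true := by decide +kernel
theorem hblk36_0 : blocksOK data table.tau 1080 cyc36 0 45 = true := by decide +kernel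
theorem hblk64_0 : blocksOK data table.tau 1080 cyc64 0 45 = true := by decide +kernel
theorem hblk65_0 : blocksOK data table.tau 1080 cyc65 0 45 = true := by decide +kernel
theorem hblk67_36 : blocksOK data table.tau 1080 cyc67 36 4 = true := by decide +kernel
theorem hblk67_40 : blocksOK data table.tau 1080 cyc67 40 4 = true := by decide +kernel

end Cfsg.Agent.Lib.Helper28.FoxCo3P3W8
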