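import Cfsg.Agent.Lib.Helper28.SchurFoxW
import Cfsg.Agent.Lib.Helper28.FoxCo3P3
import Cfsg.Agent.Lib.Helper28.FoxCo3P3CycA
import Cfsg.Agent.Lib.Helper28.FoxCo3P3CycB
import Cfsg.Agent.Lib.Helper28.FoxCo3P3CycC
import Cfsg.Agent.Lib.Helper28.FoxCo3P3CycD
import Cfsg.Agent.Lib.Helper28.TCCo3Table
import Cfsg.Agent.Lib.Helper28.FoxCo3P3W7
set_option autoImplicit false
set_option maxRecDepth 100000
set_option maxHeartbeats 0

namespace Cfsg.Agent.Lib.Helper28.FoxCo3P3W9
open Cfsg.Agent.Lib.Helper28.SchurFox Cfsg.Agent.Lib.Helper29.SchurFoxSparse Cfsg.Agent.Lib.Helper28.SchurFoxW Cfsg.Agent.Lib.Helper28.FoxCo3P3 Cfsg.Agent.Lib.Helper28.FoxCo3P3Cyc Cfsg.Agent.Lib.Helper28.TCCo3Table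

theorem hblk0_0 : blocksOK data table.tau 1080 cyc0 0 45 = true := by decide +kernel
theorem hblk1_0 : blocksOK data table.tau 1080 cyc1 0 45 = true := by decide +kernel
theorem hblk3_0 : blocksOK data table.tau 1080 cyc3 0 45 = true := by decide +kernel
theorem hblk4_0 : blocksOK data table.tau 1080 cyc4 0 45 = true := by decide +kernel
theorem hblk5_0 : blocksOK data table.tau 1080 cyc5 0 45 = true := by decide +kernel
theorem hblk6_0 : blocksOK data table.tau 1080 cyc6 0 45 = true := by decide +kernel
theorem hblk7_0 : blocksOK data table.tau 1080 cyc7 0 45 = true := by decide +kernel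
theorem hblk8_0 : blocksOK data table.tau 1080 cyc8 0 45 = true := by decide +kernel
theorem hblk9_0 : blocksOK data table.tau 1080 cyc9 0 45 = true := by decide +kernel
theorem hblk10_0 : blocksOK data table.tau 1080 cyc10 0 45 = true := by decide +kernel
theorem hblk11_0 : blocksOK data table.tau 1080 cyc11 0 45 = true := by decide +kernel
theorem hblk12_0 : blocksOK data table.tau 1080 cyc12 0 45 = true := by decide +kernel
theorem hblk13_0 : blocksOK data table.tau 1080 cyc13 0 45 = true := by decide +kernel
theorem hblk17_0 : blocksOK data table.tau 1080 cyc17 0 45 = true := by decide +kernel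
theorem hblk18_0 : blocksOK data table.tau 1080 cyc18 0 45 = true := by decide +kernel
theorem hblk19_0 : blocksOK data table.tau 1080 cyc19 0 45 = true := by decide +kernel
theorem hblk20_0 : blocksOK data table.tau 1080 cyc20 0 45 = true := by decide +kernel
theorem hblk31_0 : blocksOK data table.tau 1080 cyc31 0 45 = true := by decide +kernel
theorem hblk39_0 : blocksOK data table.tau 1080 cyc39 0 45 = true := by decide +kernel

end Cfsg.Agent.Lib.Helper28.FoxCo3P3W9
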