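import Cfsg.Agent.Lib.Helper28.FoxCo3P3W0
import Cfsg.Agent.Lib.Helper28.FoxCo3P3W1
import Cfsg.Agent.Lib.Helper28.FoxCo3P3W2
import Cfsg.Agent.Lib.Helper28.FoxCo3P3W3
import Cfsg.Agent.Lib.Helper28.FoxCo3P3W4
import Cfsg.Agent.Lib.Helper28.FoxCo3P3W5
import Cfsg.Agent.Lib.Helper28.FoxCo3P3W6
import Cfsg.Agent.Lib.Helper28.FoxCo3P3W7
import Cfsg.Agent.Lib.Helper28.FoxCo3P3W8
import Cfsg.Agent.Lib.Helper28.FoxCo3P3W9
import Cfsg.Agent.Lib.Helper28.FoxCo3P3WS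
set_option autoImplicit false
set_option maxRecDepth 100000

namespace Cfsg.Agent.Lib.Helper28.FoxCo3P3WChk
open Cfsg.Agent.Lib.Helper28.SchurFox Cfsg.Agent.Lib.Helper29.SchurFoxSparse Cfsg.Agent.Lib.Helper28.SchurFoxW Cfsg.Agent.Lib.Helper28.FoxCo3P3 Cfsg.Agent.Lib.Helper28.FoxCo3P3Cyc Cfsg.Agent.Lib.Helper28.TCCo3Table

/-- the cycles by their cells -/
def CY : List (List (List (ℕ × ℕ))) := [cyc0, cyc1, cyc2, cyc3, cyc4, cyc5, cyc6, cyc7, cyc8, cyc9, cyc10, cyc11, cyc12, cyc13, cyc14, cyc15, cyc16, cyc17, cyc18, cyc19, cyc20, cyc21, cyc22, cyc23, cyc24, cyc25, cyc26, cyc27, cyc28, cyc29, cyc30, cyc31, cyc32, cyc33, cyc34, cyc35, cyc36, cyc37, cyc38, cyc39, cyc40, cyc41, cyc42, cyc43, cyc44, cyc45, cyc46, cyc47, cyc48, cyc49, cyc50, cyc51, cyc52, cyc53, cyc54, cyc55, cyc56, cyc57, cyc58, cyc59, cyc60, cyc61, cyc62, cyc63, cyc64, cyc65, cyc66, cyc67, cyc68]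

theorem hstatic : data.staticOK table.tau = true := Cfsg.Agent.Lib.Helper28.FoxCo3P3WS.hstatic

theorem hblk0 : ∀ b < 45, blockOK data table.tau 1080 cyc0 b = true := by
  intro b hb
  exact (blocksOK_iff data table.tau 1080 cyc0 0 45).mp Cfsg.Agent.Lib.Helper28.FoxCo3P3W9.hblk0_0 b (by omega) (by omega)
theorem hblk1 : ∀ b < 45, blockOK data table.tau 1080 cyc1 b = true := by
  intro b hb
  exact (blocksOK_iff data table.tau 1080 cyc1 0 45).mp Cfsg.Agent.Lib.Helper28.FoxCo3P3W9.hblk1_0 b (by omega) (by omega)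
theorem hblk2 : ∀ b < 45, blockOK data table.tau 1080 cyc2 b = true := by
  intro b hb
  exact (blocksOK_iff data table.tau 1080 cyc2 0 45).mp Cfsg.Agent.Lib.Helper28.FoxCo3P3W5.hblk2_0 b (by omega) (by omega)
theorem hblk3 : ∀ b < 45, blockOK data table.tau 1080 cyc3 b = true := by
  intro b hb
  exact (blocksOK_iff data table.tau 1080 cyc3 0 45).mp Cfsg.Agent.Lib.Helper28.FoxCo3P3W9.hblk3_0 b (by omega) (by omega)
theorem hblk4 : ∀ b < 45, blockOK data table.tau 1080 cyc4 b = true := by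
  intro b hb
  exact (blocksOK_iff data table.tau 1080 cyc4 0 45).mp Cfsg.Agent.Lib.Helper28.FoxCo3P3W9.hblk4_0 b (by omega) (by omega)
theorem hblk5 : ∀ b < 45, blockOK data table.tau 1080 cyc5 b = true := by
  intro b hb
  exact (blocksOK_iff data table.tau 1080 cyc5 0 45).mp Cfsg.Agent.Lib.Helper28.FoxCo3P3W9.hblk5_0 b (by omega) (by omega)
theorem hblk6 : ∀ b < 45, blockOK data table.tau 1080 cyc6 b = true := by
  intro b hb
  exact (blocksOK_iff data table.tau 1080 cyc6 0 45).mp Cfsg.Agent.Lib.Helper28.FoxCo3P3W9.hblk6_0 b (by omega) (by omega)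
theorem hblk7 : ∀ b < 45, blockOK data table.tau 1080 cyc7 b = true := by
  intro b hb
  exact (blocksOK_iff data table.tau 1080 cyc7 0 45).mp Cfsg.Agent.Lib.Helper28.FoxCo3P3W9.hblk7_0 b (by omega) (by omega)
theorem hblk8 : ∀ b < 45, blockOK data table.tau 1080 cyc8 b = true := by
  intro b hb
  exact (blocksOK_iff data table.tau 1080 cyc8 0 45).mp Cfsg.Agent.Lib.Helper28.FoxCo3P3W9.hblk8_0 b (by omega) (by omega)
theorem hblk9 : ∀ b < 45, blockOK data table.tau 1080 cyc9 b = true := by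
  intro b hb
  exact (blocksOK_iff data table.tau 1080 cyc9 0 45).mp Cfsg.Agent.Lib.Helper28.FoxCo3P3W9.hblk9_0 b (by omega) (by omega)
theorem hblk10 : ∀ b < 45, blockOK data table.tau 1080 cyc10 b = true := by
  intro b hb
  exact (blocksOK_iff data table.tau 1080 cyc10 0 45).mp Cfsg.Agent.Lib.Helper28.FoxCo3P3W9.hblk10_0 b (by omega) (by omega)
theorem hblk11 : ∀ b < 45, blockOK data table.tau 1080 cyc11 b = true := by
  intro b hb
  exact (blocksOK_iff data table.tau 1080 cyc11 0 45).mp Cfsg.Agent.Lib.Helper28.FoxCo3P3W9.hblk11_0 b (by omega) (by omega)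
theorem hblk12 : ∀ b < 45, blockOK data table.tau 1080 cyc12 b = true := by
  intro b hb
  exact (blocksOK_iff data table.tau 1080 cyc12 0 45).mp Cfsg.Agent.Lib.Helper28.FoxCo3P3W9.hblk12_0 b (by omega) (by omega)
theorem hblk13 : ∀ b < 45, blockOK data table.tau 1080 cyc13 b = true := by
  intro b hb
  exact (blocksOK_iff data table.tau 1080 cyc13 0 45).mp Cfsg.Agent.Lib.Helper28.FoxCo3P3W9.hblk13_0 b (by omega) (by omega)
theorem hblk14 : ∀ b < 45, blockOK data table.tau 1080 cyc14 b = true := by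
  intro b hb
  exact (blocksOK_iff data table.tau 1080 cyc14 0 45).mp Cfsg.Agent.Lib.Helper28.FoxCo3P3W6.hblk14_0 b (by omega) (by omega)
theorem hblk15 : ∀ b < 45, blockOK data table.tau 1080 cyc15 b = true := by
  intro b hb
  exact (blocksOK_iff data table.tau 1080 cyc15 0 45).mp Cfsg.Agent.Lib.Helper28.FoxCo3P3W7.hblk15_0 b (by omega) (by omega)
theorem hblk16 : ∀ b < 45, blockOK data table.tau 1080 cyc16 b = true := by
  intro b hb
  exact (blocksOK_iff data table.tau 1080 cyc16 0 45).mp Cfsg.Agent.Lib.Helper28.FoxCo3P3W6.hblk16_0 b (by omega) (by omega)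
theorem hblk17 : ∀ b < 45, blockOK data table.tau 1080 cyc17 b = true := by
  intro b hb
  exact (blocksOK_iff data table.tau 1080 cyc17 0 45).mp Cfsg.Agent.Lib.Helper28.FoxCo3P3W9.hblk17_0 b (by omega) (by omega)
theorem hblk18 : ∀ b < 45, blockOK data table.tau 1080 cyc18 b = true := by
  intro b hb
  exact (blocksOK_iff data table.tau 1080 cyc18 0 45).mp Cfsg.Agent.Lib.Helper28.FoxCo3P3W9.hblk18_0 b (by omega) (by omega)
theorem hblk19 : ∀ b < 45, blockOK data table.tau 1080 cyc19 b = true := by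
  intro b hb
  exact (blocksOK_iff data table.tau 1080 cyc19 0 45).mp Cfsg.Agent.Lib.Helper28.FoxCo3P3W9.hblk19_0 b (by omega) (by omega)
theorem hblk20 : ∀ b < 45, blockOK data table.tau 1080 cyc20 b = true := by
  intro b hb
  exact (blocksOK_iff data table.tau 1080 cyc20 0 45).mp Cfsg.Agent.Lib.Helper28.FoxCo3P3W9.hblk20_0 b (by omega) (by omega)
theorem hblk21 : ∀ b < 45, blockOK data table.tau 1080 cyc21 b = true := by
  intro b hb
  exact (blocksOK_iff data table.tau 1080 cyc21 0 45).mp Cfsg.Agent.Lib.Helper28.FoxCo3P3W8.hblk21_0 b (by omega) (by omega)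
theorem hblk22 : ∀ b < 45, blockOK data table.tau 1080 cyc22 b = true := by
  intro b hb
  exact (blocksOK_iff data table.tau 1080 cyc22 0 45).mp Cfsg.Agent.Lib.Helper28.FoxCo3P3W4.hblk22_0 b (by omega) (by omega)
theorem hblk23 : ∀ b < 45, blockOK data table.tau 1080 cyc23 b = true := by
  intro b hb
  exact (blocksOK_iff data table.tau 1080 cyc23 0 45).mp Cfsg.Agent.Lib.Helper28.FoxCo3P3W5.hblk23_0 b (by omega) (by omega)
theorem hblk24 : ∀ b < 45, blockOK data table.tau 1080 cyc24 b = true := by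
  intro b hb
  exact (blocksOK_iff data table.tau 1080 cyc24 0 45).mp Cfsg.Agent.Lib.Helper28.FoxCo3P3W8.hblk24_0 b (by omega) (by omega)
theorem hblk25 : ∀ b < 45, blockOK data table.tau 1080 cyc25 b = true := by
  intro b hb
  exact (blocksOK_iff data table.tau 1080 cyc25 0 45).mp Cfsg.Agent.Lib.Helper28.FoxCo3P3W8.hblk25_0 b (by omega) (by omega)
theorem hblk26 : ∀ b < 45, blockOK data table.tau 1080 cyc26 b = true := by
  intro b hb
  exact (blocksOK_iff data table.tau 1080 cyc26 0 45).mp Cfsg.Agent.Lib.Helper28.FoxCo3P3W4.hblk26_0 b (by omega) (by omega)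
theorem hblk27 : ∀ b < 45, blockOK data table.tau 1080 cyc27 b = true := by
  intro b hb
  exact (blocksOK_iff data table.tau 1080 cyc27 0 45).mp Cfsg.Agent.Lib.Helper28.FoxCo3P3W7.hblk27_0 b (by omega) (by omega)
theorem hblk28 : ∀ b < 45, blockOK data table.tau 1080 cyc28 b = true := by
  intro b hb
  exact (blocksOK_iff data table.tau 1080 cyc28 0 45).mp Cfsg.Agent.Lib.Helper28.FoxCo3P3W7.hblk28_0 b (by omega) (by omega)
theorem hblk29 : ∀ b < 45, blockOK data table.tau 1080 cyc29 b = true := by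
  intro b hb
  exact (blocksOK_iff data table.tau 1080 cyc29 0 45).mp Cfsg.Agent.Lib.Helper28.FoxCo3P3W4.hblk29_0 b (by omega) (by omega)
theorem hblk30 : ∀ b < 45, blockOK data table.tau 1080 cyc30 b = true := by
  intro b hb
  exact (blocksOK_iff data table.tau 1080 cyc30 0 45).mp Cfsg.Agent.Lib.Helper28.FoxCo3P3W8.hblk30_0 b (by omega) (by omega)
theorem hblk31 : ∀ b < 45, blockOK data table.tau 1080 cyc31 b = true := by
  intro b hb
  exact (blocksOK_iff data table.tau 1080 cyc31 0 45).mp Cfsg.Agent.Lib.Helper28.FoxCo3P3W9.hblk31_0 b (by omega) (by omega)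
theorem hblk32 : ∀ b < 45, blockOK data table.tau 1080 cyc32 b = true := by
  intro b hb
  exact (blocksOK_iff data table.tau 1080 cyc32 0 45).mp Cfsg.Agent.Lib.Helper28.FoxCo3P3W8.hblk32_0 b (by omega) (by omega)
theorem hblk33 : ∀ b < 45, blockOK data table.tau 1080 cyc33 b = true := by
  intro b hb
  exact (blocksOK_iff data table.tau 1080 cyc33 0 45).mp Cfsg.Agent.Lib.Helper28.FoxCo3P3W7.hblk33_0 b (by omega) (by omega)
theorem hblk34 : ∀ b < 45, blockOK data table.tau 1080 cyc34 b = true := by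
  intro b hb
  exact (blocksOK_iff data table.tau 1080 cyc34 0 45).mp Cfsg.Agent.Lib.Helper28.FoxCo3P3W6.hblk34_0 b (by omega) (by omega)
theorem hblk35 : ∀ b < 45, blockOK data table.tau 1080 cyc35 b = true := by
  intro b hb
  exact (blocksOK_iff data table.tau 1080 cyc35 0 45).mp Cfsg.Agent.Lib.Helper28.FoxCo3P3W4.hblk35_0 b (by omega) (by omega)
theorem hblk36 : ∀ b < 45, blockOK data table.tau 1080 cyc36 b = true := by
  intro b hb
  exact (blocksOK_iff data table.tau 1080 cyc36 0 45).mp Cfsg.Agent.Lib.Helper28.FoxCo3P3W8.hblk36_0 b (by omega) (by omega)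
theorem hblk37 : ∀ b < 45, blockOK data table.tau 1080 cyc37 b = true := by
  intro b hb
  exact (blocksOK_iff data table.tau 1080 cyc37 0 45).mp Cfsg.Agent.Lib.Helper28.FoxCo3P3W4.hblk37_0 b (by omega) (by omega)
theorem hblk38 : ∀ b < 45, blockOK data table.tau 1080 cyc38 b = true := by
  intro b hb
  exact (blocksOK_iff data table.tau 1080 cyc38 0 45).mp Cfsg.Agent.Lib.Helper28.FoxCo3P3W6.hblk38_0 b (by omega) (by omega)
theorem hblk39 : ∀ b < 45, blockOK data table.tau 1080 cyc39 b = true := by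
  intro b hb
  exact (blocksOK_iff data table.tau 1080 cyc39 0 45).mp Cfsg.Agent.Lib.Helper28.FoxCo3P3W9.hblk39_0 b (by omega) (by omega)
theorem hblk40 : ∀ b < 45, blockOK data table.tau 1080 cyc40 b = true := by
  intro b hb
  exact (blocksOK_iff data table.tau 1080 cyc40 0 45).mp Cfsg.Agent.Lib.Helper28.FoxCo3P3W4.hblk40_0 b (by omega) (by omega)
theorem hblk41 : ∀ b < 45, blockOK data table.tau 1080 cyc41 b = true := by
  intro b hb
  exact (blocksOK_iff data table.tau 1080 cyc41 0 45).mp Cfsg.Agent.Lib.Helper28.FoxCo3P3W3.hblk41_0 b (by omega) (by omega)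
theorem hblk42 : ∀ b < 45, blockOK data table.tau 1080 cyc42 b = true := by
  intro b hb
  exact (blocksOK_iff data table.tau 1080 cyc42 0 45).mp Cfsg.Agent.Lib.Helper28.FoxCo3P3W4.hblk42_0 b (by omega) (by omega)
theorem hblk43 : ∀ b < 45, blockOK data table.tau 1080 cyc43 b = true := by
  intro b hb
  exact (blocksOK_iff data table.tau 1080 cyc43 0 45).mp Cfsg.Agent.Lib.Helper28.FoxCo3P3W4.hblk43_0 b (by omega) (by omega)
theorem hblk44 : ∀ b < 45, blockOK data table.tau 1080 cyc44 b = true := by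
  intro b hb
  exact (blocksOK_iff data table.tau 1080 cyc44 0 45).mp Cfsg.Agent.Lib.Helper28.FoxCo3P3W4.hblk44_0 b (by omega) (by omega)
theorem hblk45 : ∀ b < 45, blockOK data table.tau 1080 cyc45 b = true := by
  intro b hb
  exact (blocksOK_iff data table.tau 1080 cyc45 0 45).mp Cfsg.Agent.Lib.Helper28.FoxCo3P3W4.hblk45_0 b (by omega) (by omega)
theorem hblk46 : ∀ b < 45, blockOK data table.tau 1080 cyc46 b = true := by
  intro b hb
  exact (blocksOK_iff data table.tau 1080 cyc46 0 45).mp Cfsg.Agent.Lib.Helper28.FoxCo3P3W3.hblk46_0 b (by omega) (by omega)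
theorem hblk47 : ∀ b < 45, blockOK data table.tau 1080 cyc47 b = true := by
  intro b hb
  exact (blocksOK_iff data table.tau 1080 cyc47 0 45).mp Cfsg.Agent.Lib.Helper28.FoxCo3P3W0.hblk47_0 b (by omega) (by omega)
theorem hblk48 : ∀ b < 45, blockOK data table.tau 1080 cyc48 b = true := by
  intro b hb
  exact (blocksOK_iff data table.tau 1080 cyc48 0 45).mp Cfsg.Agent.Lib.Helper28.FoxCo3P3W2.hblk48_0 b (by omega) (by omega)
theorem hblk49 : ∀ b < 45, blockOK data table.tau 1080 cyc49 b = true := by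
  intro b hb
  exact (blocksOK_iff data table.tau 1080 cyc49 0 45).mp Cfsg.Agent.Lib.Helper28.FoxCo3P3W4.hblk49_0 b (by omega) (by omega)
theorem hblk50 : ∀ b < 45, blockOK data table.tau 1080 cyc50 b = true := by
  intro b hb
  exact (blocksOK_iff data table.tau 1080 cyc50 0 45).mp Cfsg.Agent.Lib.Helper28.FoxCo3P3W3.hblk50_0 b (by omega) (by omega)
theorem hblk51 : ∀ b < 45, blockOK data table.tau 1080 cyc51 b = true := by
  intro b hb
  exact (blocksOK_iff data table.tau 1080 cyc51 0 45).mp Cfsg.Agent.Lib.Helper28.FoxCo3P3W3.hblk51_0 b (by omega) (by omega)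
theorem hblk52 : ∀ b < 45, blockOK data table.tau 1080 cyc52 b = true := by
  intro b hb
  exact (blocksOK_iff data table.tau 1080 cyc52 0 45).mp Cfsg.Agent.Lib.Helper28.FoxCo3P3W3.hblk52_0 b (by omega) (by omega)
theorem hblk53 : ∀ b < 45, blockOK data table.tau 1080 cyc53 b = true := by
  intro b hb
  exact (blocksOK_iff data table.tau 1080 cyc53 0 45).mp Cfsg.Agent.Lib.Helper28.FoxCo3P3W2.hblk53_0 b (by omega) (by omega)
theorem hblk54 : ∀ b < 45, blockOK data table.tau 1080 cyc54 b = true := by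
  intro b hb
  exact (blocksOK_iff data table.tau 1080 cyc54 0 45).mp Cfsg.Agent.Lib.Helper28.FoxCo3P3W3.hblk54_0 b (by omega) (by omega)
theorem hblk55 : ∀ b < 45, blockOK data table.tau 1080 cyc55 b = true := by
  intro b hb
  exact (blocksOK_iff data table.tau 1080 cyc55 0 45).mp Cfsg.Agent.Lib.Helper28.FoxCo3P3W2.hblk55_0 b (by omega) (by omega)
theorem hblk56 : ∀ b < 45, blockOK data table.tau 1080 cyc56 b = true := by
  intro b hb
  exact (blocksOK_iff data table.tau 1080 cyc56 0 45).mp Cfsg.Agent.Lib.Helper28.FoxCo3P3W4.hblk56_0 b (by omega) (by omega)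
theorem hblk57 : ∀ b < 45, blockOK data table.tau 1080 cyc57 b = true := by
  intro b hb
  exact (blocksOK_iff data table.tau 1080 cyc57 0 45).mp Cfsg.Agent.Lib.Helper28.FoxCo3P3W2.hblk57_0 b (by omega) (by omega)
theorem hblk58 : ∀ b < 45, blockOK data table.tau 1080 cyc58 b = true := by
  intro b hb
  exact (blocksOK_iff data table.tau 1080 cyc58 0 45).mp Cfsg.Agent.Lib.Helper28.FoxCo3P3W3.hblk58_0 b (by omega) (by omega)
theorem hblk59 : ∀ b < 45, blockOK data table.tau 1080 cyc59 b = true := by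
  intro b hb
  exact (blocksOK_iff data table.tau 1080 cyc59 0 45).mp Cfsg.Agent.Lib.Helper28.FoxCo3P3W1.hblk59_0 b (by omega) (by omega)
theorem hblk60 : ∀ b < 45, blockOK data table.tau 1080 cyc60 b = true := by
  intro b hb
  exact (blocksOK_iff data table.tau 1080 cyc60 0 45).mp Cfsg.Agent.Lib.Helper28.FoxCo3P3W1.hblk60_0 b (by omega) (by omega)
theorem hblk61 : ∀ b < 45, blockOK data table.tau 1080 cyc61 b = true := by
  intro b hb
  exact (blocksOK_iff data table.tau 1080 cyc61 0 45).mp Cfsg.Agent.Lib.Helper28.FoxCo3P3W2.hblk61_0 b (by omega) (by omega)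
theorem hblk62 : ∀ b < 45, blockOK data table.tau 1080 cyc62 b = true := by
  intro b hb
  exact (blocksOK_iff data table.tau 1080 cyc62 0 45).mp Cfsg.Agent.Lib.Helper28.FoxCo3P3W1.hblk62_0 b (by omega) (by omega)
theorem hblk63 : ∀ b < 45, blockOK data table.tau 1080 cyc63 b = true := by
  intro b hb
  exact (blocksOK_iff data table.tau 1080 cyc63 0 45).mp Cfsg.Agent.Lib.Helper28.FoxCo3P3W0.hblk63_0 b (by omega) (by omega)
theorem hblk64 : ∀ b < 45, blockOK data table.tau 1080 cyc64 b = true := by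
  intro b hb
  exact (blocksOK_iff data table.tau 1080 cyc64 0 45).mp Cfsg.Agent.Lib.Helper28.FoxCo3P3W8.hblk64_0 b (by omega) (by omega)
theorem hblk65 : ∀ b < 45, blockOK data table.tau 1080 cyc65 b = true := by
  intro b hb
  exact (blocksOK_iff data table.tau 1080 cyc65 0 45).mp Cfsg.Agent.Lib.Helper28.FoxCo3P3W8.hblk65_0 b (by omega) (by omega)
theorem hblk66 : ∀ b < 45, blockOK data table.tau 1080 cyc66 b = true := by
  intro b hb
  by_cases h0 : b < 16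
  · exact (blocksOK_iff data table.tau 1080 cyc66 0 16).mp Cfsg.Agent.Lib.Helper28.FoxCo3P3W0.hblk66_0 b (by omega) (by omega)
  by_cases h1 : b < 32
  · exact (blocksOK_iff data table.tau 1080 cyc66 16 16).mp Cfsg.Agent.Lib.Helper28.FoxCo3P3W0.hblk66_16 b (by omega) (by omega)
  exact (blocksOK_iff data table.tau 1080 cyc66 32 13).mp Cfsg.Agent.Lib.Helper28.FoxCo3P3W5.hblk66_32 b (by omega) (by omega)
theorem hblk67 : ∀ b < 45, blockOK data table.tau 1080 cyc67 b = true := by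
  intro b hb
  by_cases h0 : b < 4
  · exact (blocksOK_iff data table.tau 1080 cyc67 0 4).mp Cfsg.Agent.Lib.Helper28.FoxCo3P3W5.hblk67_0 b (by omega) (by omega)
  by_cases h1 : b < 8
  · exact (blocksOK_iff data table.tau 1080 cyc67 4 4).mp Cfsg.Agent.Lib.Helper28.FoxCo3P3W6.hblk67_4 b (by omega) (by omega)
  by_cases h2 : b < 12
  · exact (blocksOK_iff data table.tau 1080 cyc67 8 4).mp Cfsg.Agent.Lib.Helper28.FoxCo3P3W6.hblk67_8 b (by omega) (by omega)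
  by_cases h3 : b < 16
  · exact (blocksOK_iff data table.tau 1080 cyc67 12 4).mp Cfsg.Agent.Lib.Helper28.FoxCo3P3W6.hblk67_12 b (by omega) (by omega)
  by_cases h4 : b < 20
  · exact (blocksOK_iff data table.tau 1080 cyc67 16 4).mp Cfsg.Agent.Lib.Helper28.FoxCo3P3W6.hblk67_16 b (by omega) (by omega)
  by_cases h5 : b < 24
  · exact (blocksOK_iff data table.tau 1080 cyc67 20 4).mp Cfsg.Agent.Lib.Helper28.FoxCo3P3W7.hblk67_20 b (by omega) (by omega)
  by_cases h6 : b < 28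
  · exact (blocksOK_iff data table.tau 1080 cyc67 24 4).mp Cfsg.Agent.Lib.Helper28.FoxCo3P3W7.hblk67_24 b (by omega) (by omega)
  by_cases h7 : b < 32
  · exact (blocksOK_iff data table.tau 1080 cyc67 28 4).mp Cfsg.Agent.Lib.Helper28.FoxCo3P3W7.hblk67_28 b (by omega) (by omega)
  by_cases h8 : b < 36
  · exact (blocksOK_iff data table.tau 1080 cyc67 32 4).mp Cfsg.Agent.Lib.Helper28.FoxCo3P3W7.hblk67_32 b (by omega) (by omega)
  by_cases h9 : b < 40
  · exact (blocksOK_iff data table.tau 1080 cyc67 36 4).mp Cfsg.Agent.Lib.Helper28.FoxCo3P3W8.hblk67_36 b (by omega) (by omega)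
  by_cases h10 : b < 44
  · exact (blocksOK_iff data table.tau 1080 cyc67 40 4).mp Cfsg.Agent.Lib.Helper28.FoxCo3P3W8.hblk67_40 b (by omega) (by omega)
  exact (blocksOK_iff data table.tau 1080 cyc67 44 1).mp Cfsg.Agent.Lib.Helper28.FoxCo3P3W0.hblk67_44 b (by omega) (by omega)
theorem hblk68 : ∀ b < 45, blockOK data table.tau 1080 cyc68 b = true := by
  intro b hb
  by_cases h0 : b < 3
  · exact (blocksOK_iff data table.tau 1080 cyc68 0 3).mp Cfsg.Agent.Lib.Helper28.FoxCo3P3W0.hblk68_0 b (by omega) (by omega)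
  by_cases h1 : b < 6
  · exact (blocksOK_iff data table.tau 1080 cyc68 3 3).mp Cfsg.Agent.Lib.Helper28.FoxCo3P3W1.hblk68_3 b (by omega) (by omega)
  by_cases h2 : b < 9
  · exact (blocksOK_iff data table.tau 1080 cyc68 6 3).mp Cfsg.Agent.Lib.Helper28.FoxCo3P3W1.hblk68_6 b (by omega) (by omega)
  by_cases h3 : b < 12
  · exact (blocksOK_iff data table.tau 1080 cyc68 9 3).mp Cfsg.Agent.Lib.Helper28.FoxCo3P3W1.hblk68_9 b (by omega) (by omega)
  by_cases h4 : b < 15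
  · exact (blocksOK_iff data table.tau 1080 cyc68 12 3).mp Cfsg.Agent.Lib.Helper28.FoxCo3P3W2.hblk68_12 b (by omega) (by omega)
  by_cases h5 : b < 18
  · exact (blocksOK_iff data table.tau 1080 cyc68 15 3).mp Cfsg.Agent.Lib.Helper28.FoxCo3P3W2.hblk68_15 b (by omega) (by omega)
  by_cases h6 : b < 21
  · exact (blocksOK_iff data table.tau 1080 cyc68 18 3).mp Cfsg.Agent.Lib.Helper28.FoxCo3P3W2.hblk68_18 b (by omega) (by omega)
  by_cases h7 : b < 24
  · exact (blocksOK_iff data table.tau 1080 cyc68 21 3).mp Cfsg.Agent.Lib.Helper28.FoxCo3P3W3.hblk68_21 b (by omega) (by omega)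
  by_cases h8 : b < 27
  · exact (blocksOK_iff data table.tau 1080 cyc68 24 3).mp Cfsg.Agent.Lib.Helper28.FoxCo3P3W3.hblk68_24 b (by omega) (by omega)
  by_cases h9 : b < 30
  · exact (blocksOK_iff data table.tau 1080 cyc68 27 3).mp Cfsg.Agent.Lib.Helper28.FoxCo3P3W3.hblk68_27 b (by omega) (by omega)
  by_cases h10 : b < 33
  · exact (blocksOK_iff data table.tau 1080 cyc68 30 3).mp Cfsg.Agent.Lib.Helper28.FoxCo3P3W4.hblk68_30 b (by omega) (by omega)
  by_cases h11 : b < 36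
  · exact (blocksOK_iff data table.tau 1080 cyc68 33 3).mp Cfsg.Agent.Lib.Helper28.FoxCo3P3W4.hblk68_33 b (by omega) (by omega)
  by_cases h12 : b < 39
  · exact (blocksOK_iff data table.tau 1080 cyc68 36 3).mp Cfsg.Agent.Lib.Helper28.FoxCo3P3W4.hblk68_36 b (by omega) (by omega)
  by_cases h13 : b < 42
  · exact (blocksOK_iff data table.tau 1080 cyc68 39 3).mp Cfsg.Agent.Lib.Helper28.FoxCo3P3W5.hblk68_39 b (by omega) (by omega)
  exact (blocksOK_iff data table.tau 1080 cyc68 42 3).mp Cfsg.Agent.Lib.Helper28.FoxCo3P3W5.hblk68_42 b (by omega) (by omega)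

theorem hcyc : ∀ k < data.cycles.length, cycleStatOK data k (CY.getD k []) = true ∧
    ∀ b < 45, blockOK data table.tau 1080 (CY.getD k []) b = true := by
  intro k hk
  have hk' : k < 69 := hk
  interval_cases k
  exacts [⟨Cfsg.Agent.Lib.Helper28.FoxCo3P3WS.hstat0, hblk0⟩, ⟨Cfsg.Agent.Lib.Helper28.FoxCo3P3WS.hstat1, hblk1⟩, ⟨Cfsg.Agent.Lib.Helper28.FoxCo3P3WS.hstat2, hblk2⟩, ⟨Cfsg.Agent.Lib.Helper28.FoxCo3P3WS.hstat3, hblk3⟩, ⟨Cfsg.Agent.Lib.Helper28.FoxCo3P3WS.hstat4, hblk4⟩, ⟨Cfsg.Agent.Lib.Helper28.FoxCo3P3WS.hstat5, hblk5⟩, ⟨Cfsg.Agent.Lib.Helper28.FoxCo3P3WS.hstat6, hblk6⟩, ⟨Cfsg.Agent.Lib.Helper28.FoxCo3P3WS.hstat7, hblk7⟩, ⟨Cfsg.Agent.Lib.Helper28.FoxCo3P3WS.hstat8, hblk8⟩, ⟨Cfsg.Agent.Lib.Helper28.FoxCo3P3WS.hstat9, hblk9⟩, ⟨Cfsg.Agent.Lib.Helper28.FoxCo3P3WS.hstat10, hblk10⟩, ⟨Cfsg.Agent.Lib.Helper28.FoxCo3P3WS.hstat11, hblk11⟩, ⟨Cfsg.Agent.Lib.Helper28.FoxCo3P3WS.hstat12, hblk12⟩, ⟨Cfsg.Agent.Lib.Helper28.FoxCo3P3WS.hstat13,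 hblk13⟩, ⟨Cfsg.Agent.Lib.Helper28.FoxCo3P3WS.hstat14, hblk14⟩, ⟨Cfsg.Agent.Lib.Helper28.FoxCo3P3WS.hstat15, hblk15⟩, ⟨Cfsg.Agent.Lib.Helper28.FoxCo3P3WS.hstat16, hblk16⟩, ⟨Cfsg.Agent.Lib.Helper28.FoxCo3P3WS.hstat17, hblk17⟩, ⟨Cfsg.Agent.Lib.Helper28.FoxCo3P3WS.hstat18, hblk18⟩, ⟨Cfsg.Agent.Lib.Helper28.FoxCo3P3WS.hstat19, hblk19⟩, ⟨Cfsg.Agent.Lib.Helper28.FoxCo3P3WS.hstat20, hblk20⟩, ⟨Cfsg.Agent.Lib.Helper28.FoxCo3P3WS.hstat21, hblk21⟩, ⟨Cfsg.Agent.Lib.Helper28.FoxCo3P3WS.hstat22, hblk22⟩, ⟨Cfsg.Agent.Lib.Helper28.FoxCo3P3WS.hstat23, hblk23⟩, ⟨Cfsg.Agent.Lib.Helper28.FoxCo3P3WS.hstat24, hblk24⟩, ⟨Cfsg.Agent.Lib.Helper28.FoxCo3P3WS.hstat25, hblk25⟩, ⟨Cfsg.Agent.Lib.Helper28.FoxCo3P3WS.hstat26, hblk26⟩, ⟨Cfsg.Agent.Lib.Helper28.FoxCo3P3WS.hstat27, hblk27⟩, ⟨Cfsg.Agent.Lib.Helper28.FoxCo3P3WS.hstat28, hblk28⟩, ⟨Cfsg.Agent.Lib.Helper28.FoxCo3P3WS.hstat29, hblk29⟩, ⟨Cfsg.Agent.Lib.Helper28.FoxCo3P3WS.hstat30,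 hblk30⟩, ⟨Cfsg.Agent.Lib.Helper28.FoxCo3P3WS.hstat31, hblk31⟩, ⟨Cfsg.Agent.Lib.Helper28.FoxCo3P3WS.hstat32, hblk32⟩, ⟨Cfsg.Agent.Lib.Helper28.FoxCo3P3WS.hstat33, hblk33⟩, ⟨Cfsg.Agent.Lib.Helper28.FoxCo3P3WS.hstat34, hblk34⟩, ⟨Cfsg.Agent.Lib.Helper28.FoxCo3P3WS.hstat35, hblk35⟩, ⟨Cfsg.Agent.Lib.Helper28.FoxCo3P3WS.hstat36, hblk36⟩, ⟨Cfsg.Agent.Lib.Helper28.FoxCo3P3WS.hstat37, hblk37⟩, ⟨Cfsg.Agent.Lib.Helper28.FoxCo3P3WS.hstat38, hblk38⟩, ⟨Cfsg.Agent.Lib.Helper28.FoxCo3P3WS.hstat39, hblk39⟩, ⟨Cfsg.Agent.Lib.Helper28.FoxCo3P3WS.hstat40, hblk40⟩, ⟨Cfsg.Agent.Lib.Helper28.FoxCo3P3WS.hstat41, hblk41⟩, ⟨Cfsg.Agent.Lib.Helper28.FoxCo3P3WS.hstat42, hblk42⟩, ⟨Cfsg.Agent.Lib.Helper28.FoxCo3P3WS.hstat43, hblk43⟩, ⟨Cfsg.Agent.Lib.Helper28.FoxCo3P3WS.hstat44, hblk44⟩, ⟨Cfsg.Agent.Lib.Helper28.FoxCo3P3WS.hstat45, hblk45⟩, ⟨Cfsg.Agent.Lib.Helper28.FoxCo3P3WS.hstat46, hblk46⟩, ⟨Cfsg.Agent.Lib.Helper28.FoxCo3P3WS.hstat47,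 hblk47⟩, ⟨Cfsg.Agent.Lib.Helper28.FoxCo3P3WS.hstat48, hblk48⟩, ⟨Cfsg.Agent.Lib.Helper28.FoxCo3P3WS.hstat49, hblk49⟩, ⟨Cfsg.Agent.Lib.Helper28.FoxCo3P3WS.hstat50, hblk50⟩, ⟨Cfsg.Agent.Lib.Helper28.FoxCo3P3WS.hstat51, hblk51⟩, ⟨Cfsg.Agent.Lib.Helper28.FoxCo3P3WS.hstat52, hblk52⟩, ⟨Cfsg.Agent.Lib.Helper28.FoxCo3P3WS.hstat53, hblk53⟩, ⟨Cfsg.Agent.Lib.Helper28.FoxCo3P3WS.hstat54, hblk54⟩, ⟨Cfsg.Agent.Lib.Helper28.FoxCo3P3WS.hstat55, hblk55⟩, ⟨Cfsg.Agent.Lib.Helper28.FoxCo3P3WS.hstat56, hblk56⟩, ⟨Cfsg.Agent.Lib.Helper28.FoxCo3P3WS.hstat57, hblk57⟩, ⟨Cfsg.Agent.Lib.Helper28.FoxCo3P3WS.hstat58, hblk58⟩, ⟨Cfsg.Agent.Lib.Helper28.FoxCo3P3WS.hstat59, hblk59⟩, ⟨Cfsg.Agent.Lib.Helper28.FoxCo3P3WS.hstat60, hblk60⟩, ⟨Cfsg.Agent.Lib.Helper28.FoxCo3P3WS.hstat61, hblk61⟩, ⟨Cfsg.Agent.Lib.Helper28.FoxCo3P3WS.hstat62, hblk62⟩, ⟨Cfsg.Agent.Lib.Helper28.FoxCo3P3WS.hstat63, hblk63⟩, ⟨Cfsg.Agent.Lib.Helper28.FoxCo3P3WS.hstat64,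 hblk64⟩, ⟨Cfsg.Agent.Lib.Helper28.FoxCo3P3WS.hstat65, hblk65⟩, ⟨Cfsg.Agent.Lib.Helper28.FoxCo3P3WS.hstat66, hblk66⟩, ⟨Cfsg.Agent.Lib.Helper28.FoxCo3P3WS.hstat67, hblk67⟩, ⟨Cfsg.Agent.Lib.Helper28.FoxCo3P3WS.hstat68, hblk68⟩]

end Cfsg.Agent.Lib.Helper28.FoxCo3P3WChk
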