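import Cfsg.Agent.Lib.Helper28.SchurFoxW
import Cfsg.Agent.Lib.Helper28.FoxCo3P3
import Cfsg.Agent.Lib.Helper28.FoxCo3P3CycA
import Cfsg.Agent.Lib.Helper28.FoxCo3P3CycB
import Cfsg.Agent.Lib.Helper28.FoxCo3P3CycC
import Cfsg.Agent.Lib.Helper28.FoxCo3P3CycD
import Cfsg.Agent.Lib.Helper28.TCCo3Table
set_option autoImplicit false
set_option maxRecDepth 100000
set_option maxHeartbeats 0

namespace Cfsg.Agent.Lib.Helper28.FoxCo3P3WS
open Cfsg.Agent.Lib.Helper28.SchurFox Cfsg.Agent.Lib.Helper29.SchurFoxSparse Cfsg.Agent.Lib.Helper28.SchurFoxW Cfsg.Agent.Lib.Helper28.FoxCo3P3 Cfsg.Agent.Lib.Helper28.FoxCo3P3Cyc Cfsg.Agent.Lib.Helper28.TCCo3Table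

theorem hstatic : data.staticOK table.tau = true := by decide +kernel

theorem hstat0 : cycleStatOK data 0 cyc0 = true := by decide +kernel
theorem hstat1 : cycleStatOK data 1 cyc1 = true := by decide +kernel
theorem hstat2 : cycleStatOK data 2 cyc2 = true := by decide +kernel
theorem hstat3 : cycleStatOK data 3 cyc3 = true := by decide +kernel
theorem hstat4 : cycleStatOK data 4 cyc4 = true := by decide +kernel
theorem hstat5 : cycleStatOK data 5 cyc5 = true := by decide +kernel
theorem hstat6 : cycleStatOK data 6 cyc6 = true := by decide +kernel
theorem hstat7 : cycleStatOK data 7 cyc7 = true := by decide +kernel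
theorem hstat8 : cycleStatOK data 8 cyc8 = true := by decide +kernel
theorem hstat9 : cycleStatOK data 9 cyc9 = true := by decide +kernel
theorem hstat10 : cycleStatOK data 10 cyc10 = true := by decide +kernel
theorem hstat11 : cycleStatOK data 11 cyc11 = true := by decide +kernel
theorem hstat12 : cycleStatOK data 12 cyc12 = true := by decide +kernel
theorem hstat13 : cycleStatOK data 13 cyc13 = true := by decide +kernel
theorem hstat14 : cycleStatOK data 14 cyc14 = true := by decide +kernel
theorem hstat15 : cycleStatOK data 15 cyc15 = true := by decide +kernel
theorem hstat16 : cycleStatOK data 16 cyc16 = true := by decide +kernel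
theorem hstat17 : cycleStatOK data 17 cyc17 = true := by decide +kernel
theorem hstat18 : cycleStatOK data 18 cyc18 = true := by decide +kernel
theorem hstat19 : cycleStatOK data 19 cyc19 = true := by decide +kernel
theorem hstat20 : cycleStatOK data 20 cyc20 = true := by decide +kernel
theorem hstat21 : cycleStatOK data 21 cyc21 = true := by decide +kernel
theorem hstat22 : cycleStatOK data 22 cyc22 = true := by decide +kernel
theorem hstat23 : cycleStatOK data 23 cyc23 = true := by decide +kernel
theorem hstat24 : cycleStatOK data 24 cyc24 = true := by decide +kernel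
theorem hstat25 : cycleStatOK data 25 cyc25 = true := by decide +kernel
theorem hstat26 : cycleStatOK data 26 cyc26 = true := by decide +kernel
theorem hstat27 : cycleStatOK data 27 cyc27 = true := by decide +kernel
theorem hstat28 : cycleStatOK data 28 cyc28 = true := by decide +kernel
theorem hstat29 : cycleStatOK data 29 cyc29 = true := by decide +kernel
theorem hstat30 : cycleStatOK data 30 cyc30 = true := by decide +kernel
theorem hstat31 : cycleStatOK data 31 cyc31 = true := by decide +kernel
theorem hstat32 : cycleStatOK data 32 cyc32 = true := by decide +kernel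
theorem hstat33 : cycleStatOK data 33 cyc33 = true := by decide +kernel
theorem hstat34 : cycleStatOK data 34 cyc34 = true := by decide +kernel
theorem hstat35 : cycleStatOK data 35 cyc35 = true := by decide +kernel
theorem hstat36 : cycleStatOK data 36 cyc36 = true := by decide +kernel
theorem hstat37 : cycleStatOK data 37 cyc37 = true := by decide +kernel
theorem hstat38 : cycleStatOK data 38 cyc38 = true := by decide +kernel
theorem hstat39 : cycleStatOK data 39 cyc39 = true := by decide +kernel
theorem hstat40 : cycleStatOK data 40 cyc40 = true := by decide +kernel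
theorem hstat41 : cycleStatOK data 41 cyc41 = true := by decide +kernel
theorem hstat42 : cycleStatOK data 42 cyc42 = true := by decide +kernel
theorem hstat43 : cycleStatOK data 43 cyc43 = true := by decide +kernel
theorem hstat44 : cycleStatOK data 44 cyc44 = true := by decide +kernel
theorem hstat45 : cycleStatOK data 45 cyc45 = true := by decide +kernel
theorem hstat46 : cycleStatOK data 46 cyc46 = true := by decide +kernel
theorem hstat47 : cycleStatOK data 47 cyc47 = true := by decide +kernel
theorem hstat48 : cycleStatOK data 48 cyc48 = true := by decide +kernel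
theorem hstat49 : cycleStatOK data 49 cyc49 = true := by decide +kernel
theorem hstat50 : cycleStatOK data 50 cyc50 = true := by decide +kernel
theorem hstat51 : cycleStatOK data 51 cyc51 = true := by decide +kernel
theorem hstat52 : cycleStatOK data 52 cyc52 = true := by decide +kernel
theorem hstat53 : cycleStatOK data 53 cyc53 = true := by decide +kernel
theorem hstat54 : cycleStatOK data 54 cyc54 = true := by decide +kernel
theorem hstat55 : cycleStatOK data 55 cyc55 = true := by decide +kernel
theorem hstat56 : cycleStatOK data 56 cyc56 = true := by decide +kernel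
theorem hstat57 : cycleStatOK data 57 cyc57 = true := by decide +kernel
theorem hstat58 : cycleStatOK data 58 cyc58 = true := by decide +kernel
theorem hstat59 : cycleStatOK data 59 cyc59 = true := by decide +kernel
theorem hstat60 : cycleStatOK data 60 cyc60 = true := by decide +kernel
theorem hstat61 : cycleStatOK data 61 cyc61 = true := by decide +kernel
theorem hstat62 : cycleStatOK data 62 cyc62 = true := by decide +kernel
theorem hstat63 : cycleStatOK data 63 cyc63 = true := by decide +kernel
theorem hstat64 : cycleStatOK data 64 cyc64 = true := by decide +kernel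
theorem hstat65 : cycleStatOK data 65 cyc65 = true := by decide +kernel
theorem hstat66 : cycleStatOK data 66 cyc66 = true := by decide +kernel
theorem hstat67 : cycleStatOK data 67 cyc67 = true := by decide +kernel
theorem hstat68 : cycleStatOK data 68 cyc68 = true := by decide +kernel

end Cfsg.Agent.Lib.Helper28.FoxCo3P3WS
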