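import Cfsg.Agent.Lib.Helper28.FoxHeS0P2
import Cfsg.Agent.Lib.Helper28.TCHeS0Table
set_option autoImplicit false
set_option maxRecDepth 100000
set_option maxHeartbeats 0

namespace Cfsg.Agent.Lib.Helper28.FoxHeS0P2Chk
open Cfsg.Agent.Lib.Helper28.SchurFox Cfsg.Agent.Lib.Helper28.FoxHeS0P2 Cfsg.Agent.Lib.Helper28.TCHeS0Table

theorem hstatic : data.staticOK table.tau = true := by decide +kernel

theorem hcyc0 : data.cycleOK table.tau 0 = true := by decide +kernel
theorem hcyc1 : data.cycleOK table.tau 1 = true := by decide +kernel
theorem hcyc2 : data.cycleOK table.tau 2 = true := by decide +kernel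
theorem hcyc3 : data.cycleOK table.tau 3 = true := by decide +kernel
theorem hcyc4 : data.cycleOK table.tau 4 = true := by decide +kernel
theorem hcyc5 : data.cycleOK table.tau 5 = true := by decide +kernel
theorem hcyc6 : data.cycleOK table.tau 6 = true := by decide +kernel
theorem hcyc7 : data.cycleOK table.tau 7 = true := by decide +kernel
theorem hcyc8 : data.cycleOK table.tau 8 = true := by decide +kernel
theorem hcyc9 : data.cycleOK table.tau 9 = true := by decide +kernel
theorem hcyc10 : data.cycleOK table.tau 10 = true := by decide +kernel
theorem hcyc11 : data.cycleOK table.tau 11 = true := by decide +kernel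
theorem hcyc12 : data.cycleOK table.tau 12 = true := by decide +kernel
theorem hcyc13 : data.cycleOK table.tau 13 = true := by decide +kernel
theorem hcyc14 : data.cycleOK table.tau 14 = true := by decide +kernel
theorem hcyc15 : data.cycleOK table.tau 15 = true := by decide +kernel
theorem hcyc16 : data.cycleOK table.tau 16 = true := by decide +kernel
theorem hcyc17 : data.cycleOK table.tau 17 = true := by decide +kernel
theorem hcyc18 : data.cycleOK table.tau 18 = true := by decide +kernel
theorem hcyc19 : data.cycleOK table.tau 19 = true := by decide +kernel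
theorem hcyc20 : data.cycleOK table.tau 20 = true := by decide +kernel
theorem hcyc21 : data.cycleOK table.tau 21 = true := by decide +kernel
theorem hcyc22 : data.cycleOK table.tau 22 = true := by decide +kernel
theorem hcyc23 : data.cycleOK table.tau 23 = true := by decide +kernel
theorem hcyc24 : data.cycleOK table.tau 24 = true := by decide +kernel
theorem hcyc25 : data.cycleOK table.tau 25 = true := by decide +kernel
theorem hcyc26 : data.cycleOK table.tau 26 = true := by decide +kernel
theorem hcyc27 : data.cycleOK table.tau 27 = true := by decide +kernel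
theorem hcyc28 : data.cycleOK table.tau 28 = true := by decide +kernel
theorem hcyc29 : data.cycleOK table.tau 29 = true := by decide +kernel
theorem hcyc30 : data.cycleOK table.tau 30 = true := by decide +kernel
theorem hcyc31 : data.cycleOK table.tau 31 = true := by decide +kernel
theorem hcyc32 : data.cycleOK table.tau 32 = true := by decide +kernel
theorem hcyc33 : data.cycleOK table.tau 33 = true := by decide +kernel
theorem hcyc34 : data.cycleOK table.tau 34 = true := by decide +kernel
theorem hcyc35 : data.cycleOK table.tau 35 = true := by decide +kernel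
theorem hcyc36 : data.cycleOK table.tau 36 = true := by decide +kernel
theorem hcyc37 : data.cycleOK table.tau 37 = true := by decide +kernel
theorem hcyc38 : data.cycleOK table.tau 38 = true := by decide +kernel
theorem hcyc39 : data.cycleOK table.tau 39 = true := by decide +kernel
theorem hcyc40 : data.cycleOK table.tau 40 = true := by decide +kernel
theorem hcyc41 : data.cycleOK table.tau 41 = true := by decide +kernel
theorem hcyc42 : data.cycleOK table.tau 42 = true := by decide +kernel
theorem hcyc43 : data.cycleOK table.tau 43 = true := by decide +kernel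
theorem hcyc44 : data.cycleOK table.tau 44 = true := by decide +kernel
theorem hcyc45 : data.cycleOK table.tau 45 = true := by decide +kernel

theorem hcyc : ∀ k < data.cycles.length, data.cycleOK table.tau k = true := by
  intro k hk
  have hk' : k < 46 := hk
  interval_cases k
  exacts [hcyc0, hcyc1, hcyc2, hcyc3, hcyc4, hcyc5, hcyc6, hcyc7, hcyc8, hcyc9, hcyc10, hcyc11, hcyc12, hcyc13, hcyc14, hcyc15, hcyc16, hcyc17, hcyc18, hcyc19, hcyc20, hcyc21, hcyc22, hcyc23, hcyc24, hcyc25, hcyc26, hcyc27, hcyc28, hcyc29, hcyc30, hcyc31, hcyc32, hcyc33, hcyc34, hcyc35, hcyc36, hcyc37, hcyc38, hcyc39, hcyc40, hcyc41, hcyc42, hcyc43, hcyc44, hcyc45]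

end Cfsg.Agent.Lib.Helper28.FoxHeS0P2Chk
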