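import Cfsg.Agent.Lib.Helper28.SchurFoxD
set_option autoImplicit false
set_option maxRecDepth 1000000

namespace Cfsg.Agent.Lib.Helper28.FoxHeS0P3
open Cfsg.Agent.Lib.Helper28.SchurFox

def c0_0 : ℕ := 0x0
def c0_1 : ℕ := 0x0
def c0_2 : ℕ := 0x0
def c0_3 : ℕ := 0x0
def c0_4 : ℕ := 0x0
def c0_5 : ℕ := 0x0
def c0_6 : ℕ := 0x0
def c0_7 : ℕ := 0x0
def c0_8 : ℕ := 0x0
def c0_9 : ℕ := 0x0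
def c0_10 : ℕ := 0x0
def c0_11 : ℕ := 0x0
def c0_12 : ℕ := 0x0
def c0_13 : ℕ := 0x0
def c0_14 : ℕ := 0x0
def c0_15 : ℕ := 0x0
def c0_16 : ℕ := 0x0
def c0_17 : ℕ := 0x0
def c0_18 : ℕ := 0x0
def c0_19 : ℕ := 0x0
def c0_20 : ℕ := 0x0
def c0_21 : ℕ := 0x0
def c0_22 : ℕ := 0x0
def c0_23 : ℕ := 0x0
def c0_24 : ℕ := 0x0
def c0_25 : ℕ := 0x1
def c0_26 : ℕ := 0x0
def c0_27 : ℕ := 0x0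
def c0_28 : ℕ := 0x0
def c0_29 : ℕ := 0x0
def c0_30 : ℕ := 0x0
def c0_31 : ℕ := 0x0
def c0_32 : ℕ := 0x0
def c0_33 : ℕ := 0x0
def c0_34 : ℕ := 0x0
def c0_35 : ℕ := 0x0
def c0_36 : ℕ := 0x0
def c0_37 : ℕ := 0x0
def c0_38 : ℕ := 0x0
def c0_39 : ℕ := 0x0
def c0_40 : ℕ := 0x0
def c0_41 : ℕ := 0x0
def c0_42 : ℕ := 0x0
def c0_43 : ℕ := 0x0
def c0_44 : ℕ := 0x0
def c0_45 : ℕ := 0x0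
def c0_46 : ℕ := 0x0
def c0_47 : ℕ := 0x0
def c0_48 : ℕ := 0x0
def c0_49 : ℕ := 0x0
def c0_50 : ℕ := 0x0
def c0_51 : ℕ := 0x0
def c0_52 : ℕ := 0x0
def c1_0 : ℕ := 0x0
def c1_1 : ℕ := 0x0
def c1_2 : ℕ := 0x0
def c1_3 : ℕ := 0x0
def c1_4 : ℕ := 0x0
def c1_5 : ℕ := 0x0
def c1_6 : ℕ := 0x0
def c1_7 : ℕ := 0x0
def c1_8 : ℕ := 0x0
def c1_9 : ℕ := 0x0
def c1_10 : ℕ := 0x0
def c1_11 : ℕ := 0x0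
def c1_12 : ℕ := 0x0
def c1_13 : ℕ := 0x0
def c1_14 : ℕ := 0x0
def c1_15 : ℕ := 0x0
def c1_16 : ℕ := 0x0
def c1_17 : ℕ := 0x0
def c1_18 : ℕ := 0x0
def c1_19 : ℕ := 0x0
def c1_20 : ℕ := 0x0
def c1_21 : ℕ := 0x0
def c1_22 : ℕ := 0x0
def c1_23 : ℕ := 0x0
def c1_24 : ℕ := 0x0
def c1_25 : ℕ := 0x0
def c1_26 : ℕ := 0x0
def c1_27 : ℕ := 0x1
def c1_28 : ℕ := 0x0
def c1_29 : ℕ := 0x0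
def c1_30 : ℕ := 0x0
def c1_31 : ℕ := 0x0
def c1_32 : ℕ := 0x0
def c1_33 : ℕ := 0x0
def c1_34 : ℕ := 0x0
def c1_35 : ℕ := 0x0
def c1_36 : ℕ := 0x0
def c1_37 : ℕ := 0x0
def c1_38 : ℕ := 0x0
def c1_39 : ℕ := 0x0
def c1_40 : ℕ := 0x0
def c1_41 : ℕ := 0x0
def c1_42 : ℕ := 0x0
def c1_43 : ℕ := 0x0
def c1_44 : ℕ := 0x0
def c1_45 : ℕ := 0x0
def c1_46 : ℕ := 0x0
def c1_47 : ℕ := 0x0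
def c1_48 : ℕ := 0x0
def c1_49 : ℕ := 0x0
def c1_50 : ℕ := 0x0
def c1_51 : ℕ := 0x0
def c1_52 : ℕ := 0x0
def c2_0 : ℕ := 0x0
def c2_1 : ℕ := 0x0
def c2_2 : ℕ := 0x0
def c2_3 : ℕ := 0x0
def c2_4 : ℕ := 0x0
def c2_5 : ℕ := 0x0
def c2_6 : ℕ := 0x0
def c2_7 : ℕ := 0x0
def c2_8 : ℕ := 0x0
def c2_9 : ℕ := 0x0
def c2_10 : ℕ := 0x0
def c2_11 : ℕ := 0x0
def c2_12 : ℕ := 0x0
def c2_13 : ℕ := 0x0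
def c2_14 : ℕ := 0x0
def c2_15 : ℕ := 0x0
def c2_16 : ℕ := 0x0
def c2_17 : ℕ := 0x0
def c2_18 : ℕ := 0x0
def c2_19 : ℕ := 0x0
def c2_20 : ℕ := 0x0
def c2_21 : ℕ := 0x0
def c2_22 : ℕ := 0x0
def c2_23 : ℕ := 0x0
def c2_24 : ℕ := 0x0
def c2_25 : ℕ := 0x0
def c2_26 : ℕ := 0x0
def c2_27 : ℕ := 0x0
def c2_28 : ℕ := 0x0
def c2_29 : ℕ := 0x0
def c2_30 : ℕ := 0x0
def c2_31 : ℕ := 0x1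
def c2_32 : ℕ := 0x0
def c2_33 : ℕ := 0x0
def c2_34 : ℕ := 0x0
def c2_35 : ℕ := 0x0
def c2_36 : ℕ := 0x0
def c2_37 : ℕ := 0x0
def c2_38 : ℕ := 0x0
def c2_39 : ℕ := 0x0
def c2_40 : ℕ := 0x0
def c2_41 : ℕ := 0x0
def c2_42 : ℕ := 0x0
def c2_43 : ℕ := 0x0
def c2_44 : ℕ := 0x0
def c2_45 : ℕ := 0x0
def c2_46 : ℕ := 0x0
def c2_47 : ℕ := 0x0
def c2_48 : ℕ := 0x0
def c2_49 : ℕ := 0x0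
def c2_50 : ℕ := 0x0
def c2_51 : ℕ := 0x0
def c2_52 : ℕ := 0x0
def c3_0 : ℕ := 0x0
def c3_1 : ℕ := 0x0
def c3_2 : ℕ := 0x0
def c3_3 : ℕ := 0x0
def c3_4 : ℕ := 0x0
def c3_5 : ℕ := 0x0
def c3_6 : ℕ := 0x0
def c3_7 : ℕ := 0x0
def c3_8 : ℕ := 0x0
def c3_9 : ℕ := 0x0
def c3_10 : ℕ := 0x0
def c3_11 : ℕ := 0x0
def c3_12 : ℕ := 0x0
def c3_13 : ℕ := 0x0
def c3_14 : ℕ := 0x0
def c3_15 : ℕ := 0x0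
def c3_16 : ℕ := 0x0
def c3_17 : ℕ := 0x0
def c3_18 : ℕ := 0x0
def c3_19 : ℕ := 0x0
def c3_20 : ℕ := 0x0
def c3_21 : ℕ := 0x0
def c3_22 : ℕ := 0x0
def c3_23 : ℕ := 0x0
def c3_24 : ℕ := 0x0
def c3_25 : ℕ := 0x0
def c3_26 : ℕ := 0x0
def c3_27 : ℕ := 0x0
def c3_28 : ℕ := 0x0
def c3_29 : ℕ := 0x0
def c3_30 : ℕ := 0x0
def c3_31 : ℕ := 0x0
def c3_32 : ℕ := 0x0
def c3_33 : ℕ := 0x0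
def c3_34 : ℕ := 0x0
def c3_35 : ℕ := 0x0
def c3_36 : ℕ := 0x0
def c3_37 : ℕ := 0x0
def c3_38 : ℕ := 0x0
def c3_39 : ℕ := 0x0
def c3_40 : ℕ := 0x0
def c3_41 : ℕ := 0x0
def c3_42 : ℕ := 0x0
def c3_43 : ℕ := 0x0
def c3_44 : ℕ := 0x0
def c3_45 : ℕ := 0x1
def c3_46 : ℕ := 0x0
def c3_47 : ℕ := 0x0
def c3_48 : ℕ := 0x0
def c3_49 : ℕ := 0x0
def c3_50 : ℕ := 0x0
def c3_51 : ℕ := 0x0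
def c3_52 : ℕ := 0x0
def c4_0 : ℕ := 0x0
def c4_1 : ℕ := 0x0
def c4_2 : ℕ := 0x0
def c4_3 : ℕ := 0x0
def c4_4 : ℕ := 0x0
def c4_5 : ℕ := 0x0
def c4_6 : ℕ := 0x0
def c4_7 : ℕ := 0x0
def c4_8 : ℕ := 0x0
def c4_9 : ℕ := 0x0
def c4_10 : ℕ := 0x0
def c4_11 : ℕ := 0x0
def c4_12 : ℕ := 0x0
def c4_13 : ℕ := 0x0
def c4_14 : ℕ := 0x0
def c4_15 : ℕ := 0x0
def c4_16 : ℕ := 0x0
def c4_17 : ℕ := 0x0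
def c4_18 : ℕ := 0x0
def c4_19 : ℕ := 0x0
def c4_20 : ℕ := 0x0
def c4_21 : ℕ := 0x0
def c4_22 : ℕ := 0x0
def c4_23 : ℕ := 0x0
def c4_24 : ℕ := 0x0
def c4_25 : ℕ := 0x0
def c4_26 : ℕ := 0x10000000
def c4_27 : ℕ := 0x0
def c4_28 : ℕ := 0x0
def c4_29 : ℕ := 0x0
def c4_30 : ℕ := 0x0
def c4_31 : ℕ := 0x0
def c4_32 : ℕ := 0x0
def c4_33 : ℕ := 0x0
def c4_34 : ℕ := 0x0
def c4_35 : ℕ := 0x0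
def c4_36 : ℕ := 0x0
def c4_37 : ℕ := 0x0
def c4_38 : ℕ := 0x0
def c4_39 : ℕ := 0x0
def c4_40 : ℕ := 0x0
def c4_41 : ℕ := 0x0
def c4_42 : ℕ := 0x0
def c4_43 : ℕ := 0x0
def c4_44 : ℕ := 0x0
def c4_45 : ℕ := 0x0
def c4_46 : ℕ := 0x0
def c4_47 : ℕ := 0x0
def c4_48 : ℕ := 0x0
def c4_49 : ℕ := 0x0
def c4_50 : ℕ := 0x0
def c4_51 : ℕ := 0x0
def c4_52 : ℕ := 0x0
def c5_0 : ℕ := 0x0
def c5_1 : ℕ := 0x0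
def c5_2 : ℕ := 0x0
def c5_3 : ℕ := 0x0
def c5_4 : ℕ := 0x0
def c5_5 : ℕ := 0x0
def c5_6 : ℕ := 0x0
def c5_7 : ℕ := 0x0
def c5_8 : ℕ := 0x0
def c5_9 : ℕ := 0x0
def c5_10 : ℕ := 0x0
def c5_11 : ℕ := 0x0
def c5_12 : ℕ := 0x0
def c5_13 : ℕ := 0x0
def c5_14 : ℕ := 0x0
def c5_15 : ℕ := 0x0
def c5_16 : ℕ := 0x0
def c5_17 : ℕ := 0x0
def c5_18 : ℕ := 0x0
def c5_19 : ℕ := 0x0
def c5_20 : ℕ := 0x0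
def c5_21 : ℕ := 0x0
def c5_22 : ℕ := 0x0
def c5_23 : ℕ := 0x0
def c5_24 : ℕ := 0x0
def c5_25 : ℕ := 0x0
def c5_26 : ℕ := 0x0
def c5_27 : ℕ := 0x0
def c5_28 : ℕ := 0x0
def c5_29 : ℕ := 0x0
def c5_30 : ℕ := 0x0
def c5_31 : ℕ := 0x0
def c5_32 : ℕ := 0x0
def c5_33 : ℕ := 0x0
def c5_34 : ℕ := 0x0
def c5_35 : ℕ := 0x0
def c5_36 : ℕ := 0x0
def c5_37 : ℕ := 0x0
def c5_38 : ℕ := 0x10000000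
def c5_39 : ℕ := 0x0
def c5_40 : ℕ := 0x0
def c5_41 : ℕ := 0x0
def c5_42 : ℕ := 0x0
def c5_43 : ℕ := 0x0
def c5_44 : ℕ := 0x0
def c5_45 : ℕ := 0x0
def c5_46 : ℕ := 0x0
def c5_47 : ℕ := 0x0
def c5_48 : ℕ := 0x0
def c5_49 : ℕ := 0x0
def c5_50 : ℕ := 0x0
def c5_51 : ℕ := 0x0
def c5_52 : ℕ := 0x0
def c6_0 : ℕ := 0x0
def c6_1 : ℕ := 0x0
def c6_2 : ℕ := 0x2
def c6_3 : ℕ := 0x0
def c6_4 : ℕ := 0x0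
def c6_5 : ℕ := 0x0
def c6_6 : ℕ := 0x0
def c6_7 : ℕ := 0x0
def c6_8 : ℕ := 0x0
def c6_9 : ℕ := 0x0
def c6_10 : ℕ := 0x0
def c6_11 : ℕ := 0x0
def c6_12 : ℕ := 0x0
def c6_13 : ℕ := 0x0
def c6_14 : ℕ := 0x1
def c6_15 : ℕ := 0x0
def c6_16 : ℕ := 0x0
def c6_17 : ℕ := 0x0
def c6_18 : ℕ := 0x0
def c6_19 : ℕ := 0x0
def c6_20 : ℕ := 0x0
def c6_21 : ℕ := 0x0
def c6_22 : ℕ := 0x0
def c6_23 : ℕ := 0x0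
def c6_24 : ℕ := 0x0
def c6_25 : ℕ := 0x0
def c6_26 : ℕ := 0x0
def c6_27 : ℕ := 0x0
def c6_28 : ℕ := 0x0
def c6_29 : ℕ := 0x0
def c6_30 : ℕ := 0x0
def c6_31 : ℕ := 0x0
def c6_32 : ℕ := 0x0
def c6_33 : ℕ := 0x0
def c6_34 : ℕ := 0x0
def c6_35 : ℕ := 0x0
def c6_36 : ℕ := 0x0
def c6_37 : ℕ := 0x0
def c6_38 : ℕ := 0x0
def c6_39 : ℕ := 0x0
def c6_40 : ℕ := 0x0
def c6_41 : ℕ := 0x0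
def c6_42 : ℕ := 0x0
def c6_43 : ℕ := 0x0
def c6_44 : ℕ := 0x0
def c6_45 : ℕ := 0x0
def c6_46 : ℕ := 0x0
def c6_47 : ℕ := 0x0
def c6_48 : ℕ := 0x0
def c6_49 : ℕ := 0x0
def c6_50 : ℕ := 0x0
def c6_51 : ℕ := 0x0
def c6_52 : ℕ := 0x0
def c7_0 : ℕ := 0x0
def c7_1 : ℕ := 0x0
def c7_2 : ℕ := 0x0
def c7_3 : ℕ := 0x2
def c7_4 : ℕ := 0x0
def c7_5 : ℕ := 0x0
def c7_6 : ℕ := 0x0
def c7_7 : ℕ := 0x0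
def c7_8 : ℕ := 0x0
def c7_9 : ℕ := 0x0
def c7_10 : ℕ := 0x0
def c7_11 : ℕ := 0x0
def c7_12 : ℕ := 0x0
def c7_13 : ℕ := 0x0
def c7_14 : ℕ := 0x0
def c7_15 : ℕ := 0x0
def c7_16 : ℕ := 0x0
def c7_17 : ℕ := 0x0
def c7_18 : ℕ := 0x0
def c7_19 : ℕ := 0x0
def c7_20 : ℕ := 0x0
def c7_21 : ℕ := 0x1
def c7_22 : ℕ := 0x0
def c7_23 : ℕ := 0x0
def c7_24 : ℕ := 0x0
def c7_25 : ℕ := 0x0
def c7_26 : ℕ := 0x0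
def c7_27 : ℕ := 0x0
def c7_28 : ℕ := 0x0
def c7_29 : ℕ := 0x0
def c7_30 : ℕ := 0x0
def c7_31 : ℕ := 0x0
def c7_32 : ℕ := 0x0
def c7_33 : ℕ := 0x0
def c7_34 : ℕ := 0x0
def c7_35 : ℕ := 0x0
def c7_36 : ℕ := 0x0
def c7_37 : ℕ := 0x0
def c7_38 : ℕ := 0x0
def c7_39 : ℕ := 0x0
def c7_40 : ℕ := 0x0
def c7_41 : ℕ := 0x0
def c7_42 : ℕ := 0x0
def c7_43 : ℕ := 0x0
def c7_44 : ℕ := 0x0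
def c7_45 : ℕ := 0x0
def c7_46 : ℕ := 0x0
def c7_47 : ℕ := 0x0
def c7_48 : ℕ := 0x0
def c7_49 : ℕ := 0x0
def c7_50 : ℕ := 0x0
def c7_51 : ℕ := 0x0
def c7_52 : ℕ := 0x0
def c8_0 : ℕ := 0x0
def c8_1 : ℕ := 0x0
def c8_2 : ℕ := 0x0
def c8_3 : ℕ := 0x0
def c8_4 : ℕ := 0x2
def c8_5 : ℕ := 0x0
def c8_6 : ℕ := 0x0
def c8_7 : ℕ := 0x0
def c8_8 : ℕ := 0x0
def c8_9 : ℕ := 0x0
def c8_10 : ℕ := 0x0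
def c8_11 : ℕ := 0x0
def c8_12 : ℕ := 0x0
def c8_13 : ℕ := 0x0
def c8_14 : ℕ := 0x0
def c8_15 : ℕ := 0x0
def c8_16 : ℕ := 0x0
def c8_17 : ℕ := 0x0
def c8_18 : ℕ := 0x0
def c8_19 : ℕ := 0x0
def c8_20 : ℕ := 0x0
def c8_21 : ℕ := 0x0
def c8_22 : ℕ := 0x0
def c8_23 : ℕ := 0x0
def c8_24 : ℕ := 0x0
def c8_25 : ℕ := 0x0
def c8_26 : ℕ := 0x0
def c8_27 : ℕ := 0x0
def c8_28 : ℕ := 0x1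
def c8_29 : ℕ := 0x0
def c8_30 : ℕ := 0x0
def c8_31 : ℕ := 0x0
def c8_32 : ℕ := 0x0
def c8_33 : ℕ := 0x0
def c8_34 : ℕ := 0x0
def c8_35 : ℕ := 0x0
def c8_36 : ℕ := 0x0
def c8_37 : ℕ := 0x0
def c8_38 : ℕ := 0x0
def c8_39 : ℕ := 0x0
def c8_40 : ℕ := 0x0
def c8_41 : ℕ := 0x0
def c8_42 : ℕ := 0x0
def c8_43 : ℕ := 0x0
def c8_44 : ℕ := 0x0
def c8_45 : ℕ := 0x0
def c8_46 : ℕ := 0x0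
def c8_47 : ℕ := 0x0
def c8_48 : ℕ := 0x0
def c8_49 : ℕ := 0x0
def c8_50 : ℕ := 0x0
def c8_51 : ℕ := 0x0
def c8_52 : ℕ := 0x0
def c9_0 : ℕ := 0x0
def c9_1 : ℕ := 0x0
def c9_2 : ℕ := 0x0
def c9_3 : ℕ := 0x0
def c9_4 : ℕ := 0x0
def c9_5 : ℕ := 0x0
def c9_6 : ℕ := 0x2
def c9_7 : ℕ := 0x0
def c9_8 : ℕ := 0x0
def c9_9 : ℕ := 0x0
def c9_10 : ℕ := 0x0
def c9_11 : ℕ := 0x0
def c9_12 : ℕ := 0x0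
def c9_13 : ℕ := 0x0
def c9_14 : ℕ := 0x0
def c9_15 : ℕ := 0x0
def c9_16 : ℕ := 0x0
def c9_17 : ℕ := 0x0
def c9_18 : ℕ := 0x0
def c9_19 : ℕ := 0x0
def c9_20 : ℕ := 0x0
def c9_21 : ℕ := 0x0
def c9_22 : ℕ := 0x0
def c9_23 : ℕ := 0x0
def c9_24 : ℕ := 0x0
def c9_25 : ℕ := 0x0
def c9_26 : ℕ := 0x0
def c9_27 : ℕ := 0x0
def c9_28 : ℕ := 0x0
def c9_29 : ℕ := 0x0
def c9_30 : ℕ := 0x0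
def c9_31 : ℕ := 0x0
def c9_32 : ℕ := 0x0
def c9_33 : ℕ := 0x0
def c9_34 : ℕ := 0x0
def c9_35 : ℕ := 0x0
def c9_36 : ℕ := 0x0
def c9_37 : ℕ := 0x0
def c9_38 : ℕ := 0x0
def c9_39 : ℕ := 0x0
def c9_40 : ℕ := 0x0
def c9_41 : ℕ := 0x0
def c9_42 : ℕ := 0x1
def c9_43 : ℕ := 0x0
def c9_44 : ℕ := 0x0
def c9_45 : ℕ := 0x0
def c9_46 : ℕ := 0x0
def c9_47 : ℕ := 0x0
def c9_48 : ℕ := 0x0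
def c9_49 : ℕ := 0x0
def c9_50 : ℕ := 0x0
def c9_51 : ℕ := 0x0
def c9_52 : ℕ := 0x0
def c10_0 : ℕ := 0x0
def c10_1 : ℕ := 0x0
def c10_2 : ℕ := 0x0
def c10_3 : ℕ := 0x0
def c10_4 : ℕ := 0x0
def c10_5 : ℕ := 0x0
def c10_6 : ℕ := 0x0
def c10_7 : ℕ := 0x0
def c10_8 : ℕ := 0x0
def c10_9 : ℕ := 0x0
def c10_10 : ℕ := 0x2
def c10_11 : ℕ := 0x0
def c10_12 : ℕ := 0x0
def c10_13 : ℕ := 0x0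
def c10_14 : ℕ := 0x0
def c10_15 : ℕ := 0x0
def c10_16 : ℕ := 0x0
def c10_17 : ℕ := 0x0
def c10_18 : ℕ := 0x0
def c10_19 : ℕ := 0x0
def c10_20 : ℕ := 0x0
def c10_21 : ℕ := 0x0
def c10_22 : ℕ := 0x1
def c10_23 : ℕ := 0x0
def c10_24 : ℕ := 0x0
def c10_25 : ℕ := 0x0
def c10_26 : ℕ := 0x0
def c10_27 : ℕ := 0x0
def c10_28 : ℕ := 0x0
def c10_29 : ℕ := 0x0
def c10_30 : ℕ := 0x0
def c10_31 : ℕ := 0x0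
def c10_32 : ℕ := 0x0
def c10_33 : ℕ := 0x0
def c10_34 : ℕ := 0x0
def c10_35 : ℕ := 0x0
def c10_36 : ℕ := 0x0
def c10_37 : ℕ := 0x0
def c10_38 : ℕ := 0x0
def c10_39 : ℕ := 0x0
def c10_40 : ℕ := 0x0
def c10_41 : ℕ := 0x0
def c10_42 : ℕ := 0x0
def c10_43 : ℕ := 0x0
def c10_44 : ℕ := 0x0
def c10_45 : ℕ := 0x0
def c10_46 : ℕ := 0x0
def c10_47 : ℕ := 0x0
def c10_48 : ℕ := 0x0
def c10_49 : ℕ := 0x0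
def c10_50 : ℕ := 0x0
def c10_51 : ℕ := 0x0
def c10_52 : ℕ := 0x0
def c11_0 : ℕ := 0x0
def c11_1 : ℕ := 0x0
def c11_2 : ℕ := 0x0
def c11_3 : ℕ := 0x0
def c11_4 : ℕ := 0x0
def c11_5 : ℕ := 0x0
def c11_6 : ℕ := 0x0
def c11_7 : ℕ := 0x0
def c11_8 : ℕ := 0x0
def c11_9 : ℕ := 0x0
def c11_10 : ℕ := 0x0
def c11_11 : ℕ := 0x2
def c11_12 : ℕ := 0x0
def c11_13 : ℕ := 0x0
def c11_14 : ℕ := 0x0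
def c11_15 : ℕ := 0x0
def c11_16 : ℕ := 0x0
def c11_17 : ℕ := 0x0
def c11_18 : ℕ := 0x0
def c11_19 : ℕ := 0x0
def c11_20 : ℕ := 0x0
def c11_21 : ℕ := 0x0
def c11_22 : ℕ := 0x0
def c11_23 : ℕ := 0x0
def c11_24 : ℕ := 0x0
def c11_25 : ℕ := 0x0
def c11_26 : ℕ := 0x0
def c11_27 : ℕ := 0x0
def c11_28 : ℕ := 0x0
def c11_29 : ℕ := 0x1
def c11_30 : ℕ := 0x0
def c11_31 : ℕ := 0x0
def c11_32 : ℕ := 0x0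
def c11_33 : ℕ := 0x0
def c11_34 : ℕ := 0x0
def c11_35 : ℕ := 0x0
def c11_36 : ℕ := 0x0
def c11_37 : ℕ := 0x0
def c11_38 : ℕ := 0x0
def c11_39 : ℕ := 0x0
def c11_40 : ℕ := 0x0
def c11_41 : ℕ := 0x0
def c11_42 : ℕ := 0x0
def c11_43 : ℕ := 0x0
def c11_44 : ℕ := 0x0
def c11_45 : ℕ := 0x0
def c11_46 : ℕ := 0x0
def c11_47 : ℕ := 0x0
def c11_48 : ℕ := 0x0
def c11_49 : ℕ := 0x0
def c11_50 : ℕ := 0x0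
def c11_51 : ℕ := 0x0
def c11_52 : ℕ := 0x0
def c12_0 : ℕ := 0x0
def c12_1 : ℕ := 0x0
def c12_2 : ℕ := 0x0
def c12_3 : ℕ := 0x0
def c12_4 : ℕ := 0x0
def c12_5 : ℕ := 0x0
def c12_6 : ℕ := 0x0
def c12_7 : ℕ := 0x0
def c12_8 : ℕ := 0x0
def c12_9 : ℕ := 0x0
def c12_10 : ℕ := 0x0
def c12_11 : ℕ := 0x0
def c12_12 : ℕ := 0x0
def c12_13 : ℕ := 0x2
def c12_14 : ℕ := 0x0
def c12_15 : ℕ := 0x0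
def c12_16 : ℕ := 0x0
def c12_17 : ℕ := 0x0
def c12_18 : ℕ := 0x0
def c12_19 : ℕ := 0x0
def c12_20 : ℕ := 0x0
def c12_21 : ℕ := 0x0
def c12_22 : ℕ := 0x0
def c12_23 : ℕ := 0x0
def c12_24 : ℕ := 0x0
def c12_25 : ℕ := 0x0
def c12_26 : ℕ := 0x0
def c12_27 : ℕ := 0x0
def c12_28 : ℕ := 0x0
def c12_29 : ℕ := 0x0
def c12_30 : ℕ := 0x0
def c12_31 : ℕ := 0x0
def c12_32 : ℕ := 0x0
def c12_33 : ℕ := 0x0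
def c12_34 : ℕ := 0x0
def c12_35 : ℕ := 0x0
def c12_36 : ℕ := 0x0
def c12_37 : ℕ := 0x0
def c12_38 : ℕ := 0x0
def c12_39 : ℕ := 0x0
def c12_40 : ℕ := 0x0
def c12_41 : ℕ := 0x0
def c12_42 : ℕ := 0x0
def c12_43 : ℕ := 0x1
def c12_44 : ℕ := 0x0
def c12_45 : ℕ := 0x0
def c12_46 : ℕ := 0x0
def c12_47 : ℕ := 0x0
def c12_48 : ℕ := 0x0
def c12_49 : ℕ := 0x0
def c12_50 : ℕ := 0x0
def c12_51 : ℕ := 0x0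
def c12_52 : ℕ := 0x0
def c13_0 : ℕ := 0x0
def c13_1 : ℕ := 0x0
def c13_2 : ℕ := 0x0
def c13_3 : ℕ := 0x0
def c13_4 : ℕ := 0x0
def c13_5 : ℕ := 0x2
def c13_6 : ℕ := 0x0
def c13_7 : ℕ := 0x0
def c13_8 : ℕ := 0x0
def c13_9 : ℕ := 0x0
def c13_10 : ℕ := 0x0
def c13_11 : ℕ := 0x0
def c13_12 : ℕ := 0x0
def c13_13 : ℕ := 0x0
def c13_14 : ℕ := 0x0
def c13_15 : ℕ := 0x0
def c13_16 : ℕ := 0x0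
def c13_17 : ℕ := 0x0
def c13_18 : ℕ := 0x0
def c13_19 : ℕ := 0x0
def c13_20 : ℕ := 0x0
def c13_21 : ℕ := 0x0
def c13_22 : ℕ := 0x0
def c13_23 : ℕ := 0x0
def c13_24 : ℕ := 0x0
def c13_25 : ℕ := 0x0
def c13_26 : ℕ := 0x0
def c13_27 : ℕ := 0x0
def c13_28 : ℕ := 0x0
def c13_29 : ℕ := 0x0
def c13_30 : ℕ := 0x0
def c13_31 : ℕ := 0x0
def c13_32 : ℕ := 0x0
def c13_33 : ℕ := 0x0
def c13_34 : ℕ := 0x0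
def c13_35 : ℕ := 0x1
def c13_36 : ℕ := 0x0
def c13_37 : ℕ := 0x0
def c13_38 : ℕ := 0x0
def c13_39 : ℕ := 0x0
def c13_40 : ℕ := 0x0
def c13_41 : ℕ := 0x0
def c13_42 : ℕ := 0x0
def c13_43 : ℕ := 0x0
def c13_44 : ℕ := 0x0
def c13_45 : ℕ := 0x0
def c13_46 : ℕ := 0x0
def c13_47 : ℕ := 0x0
def c13_48 : ℕ := 0x0
def c13_49 : ℕ := 0x0
def c13_50 : ℕ := 0x0
def c13_51 : ℕ := 0x0
def c13_52 : ℕ := 0x0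
def c14_0 : ℕ := 0x0
def c14_1 : ℕ := 0x0
def c14_2 : ℕ := 0x0
def c14_3 : ℕ := 0x0
def c14_4 : ℕ := 0x0
def c14_5 : ℕ := 0x0
def c14_6 : ℕ := 0x0
def c14_7 : ℕ := 0x0
def c14_8 : ℕ := 0x0
def c14_9 : ℕ := 0x0
def c14_10 : ℕ := 0x0
def c14_11 : ℕ := 0x0
def c14_12 : ℕ := 0x0
def c14_13 : ℕ := 0x0
def c14_14 : ℕ := 0x0
def c14_15 : ℕ := 0x0
def c14_16 : ℕ := 0x0
def c14_17 : ℕ := 0x0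
def c14_18 : ℕ := 0x0
def c14_19 : ℕ := 0x2
def c14_20 : ℕ := 0x0
def c14_21 : ℕ := 0x0
def c14_22 : ℕ := 0x0
def c14_23 : ℕ := 0x0
def c14_24 : ℕ := 0x0
def c14_25 : ℕ := 0x0
def c14_26 : ℕ := 0x0
def c14_27 : ℕ := 0x0
def c14_28 : ℕ := 0x0
def c14_29 : ℕ := 0x0
def c14_30 : ℕ := 0x0
def c14_31 : ℕ := 0x0
def c14_32 : ℕ := 0x0
def c14_33 : ℕ := 0x0
def c14_34 : ℕ := 0x0
def c14_35 : ℕ := 0x0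
def c14_36 : ℕ := 0x0
def c14_37 : ℕ := 0x1
def c14_38 : ℕ := 0x0
def c14_39 : ℕ := 0x0
def c14_40 : ℕ := 0x0
def c14_41 : ℕ := 0x0
def c14_42 : ℕ := 0x0
def c14_43 : ℕ := 0x0
def c14_44 : ℕ := 0x0
def c14_45 : ℕ := 0x0
def c14_46 : ℕ := 0x0
def c14_47 : ℕ := 0x0
def c14_48 : ℕ := 0x0
def c14_49 : ℕ := 0x0
def c14_50 : ℕ := 0x0
def c14_51 : ℕ := 0x0
def c14_52 : ℕ := 0x0
def c15_0 : ℕ := 0x0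
def c15_1 : ℕ := 0x0
def c15_2 : ℕ := 0x0
def c15_3 : ℕ := 0x0
def c15_4 : ℕ := 0x0
def c15_5 : ℕ := 0x0
def c15_6 : ℕ := 0x0
def c15_7 : ℕ := 0x0
def c15_8 : ℕ := 0x0
def c15_9 : ℕ := 0x0
def c15_10 : ℕ := 0x0
def c15_11 : ℕ := 0x0
def c15_12 : ℕ := 0x0
def c15_13 : ℕ := 0x0
def c15_14 : ℕ := 0x0
def c15_15 : ℕ := 0x0
def c15_16 : ℕ := 0x0
def c15_17 : ℕ := 0x0
def c15_18 : ℕ := 0x0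
def c15_19 : ℕ := 0x0
def c15_20 : ℕ := 0x0
def c15_21 : ℕ := 0x0
def c15_22 : ℕ := 0x0
def c15_23 : ℕ := 0x0
def c15_24 : ℕ := 0x0
def c15_25 : ℕ := 0x0
def c15_26 : ℕ := 0x0
def c15_27 : ℕ := 0x0
def c15_28 : ℕ := 0x0
def c15_29 : ℕ := 0x0
def c15_30 : ℕ := 0x0
def c15_31 : ℕ := 0x0
def c15_32 : ℕ := 0x0
def c15_33 : ℕ := 0x2
def c15_34 : ℕ := 0x0
def c15_35 : ℕ := 0x0
def c15_36 : ℕ := 0x0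
def c15_37 : ℕ := 0x0
def c15_38 : ℕ := 0x0
def c15_39 : ℕ := 0x1
def c15_40 : ℕ := 0x0
def c15_41 : ℕ := 0x0
def c15_42 : ℕ := 0x0
def c15_43 : ℕ := 0x0
def c15_44 : ℕ := 0x0
def c15_45 : ℕ := 0x0
def c15_46 : ℕ := 0x0
def c15_47 : ℕ := 0x0
def c15_48 : ℕ := 0x0
def c15_49 : ℕ := 0x0
def c15_50 : ℕ := 0x0
def c15_51 : ℕ := 0x0
def c15_52 : ℕ := 0x0
def c16_0 : ℕ := 0x0
def c16_1 : ℕ := 0x0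
def c16_2 : ℕ := 0x0
def c16_3 : ℕ := 0x0
def c16_4 : ℕ := 0x0
def c16_5 : ℕ := 0x0
def c16_6 : ℕ := 0x0
def c16_7 : ℕ := 0x0
def c16_8 : ℕ := 0x0
def c16_9 : ℕ := 0x0
def c16_10 : ℕ := 0x0
def c16_11 : ℕ := 0x0
def c16_12 : ℕ := 0x0
def c16_13 : ℕ := 0x0
def c16_14 : ℕ := 0x0
def c16_15 : ℕ := 0x0
def c16_16 : ℕ := 0x0
def c16_17 : ℕ := 0x0
def c16_18 : ℕ := 0x0
def c16_19 : ℕ := 0x0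
def c16_20 : ℕ := 0x0
def c16_21 : ℕ := 0x0
def c16_22 : ℕ := 0x0
def c16_23 : ℕ := 0x0
def c16_24 : ℕ := 0x0
def c16_25 : ℕ := 0x0
def c16_26 : ℕ := 0x0
def c16_27 : ℕ := 0x0
def c16_28 : ℕ := 0x0
def c16_29 : ℕ := 0x0
def c16_30 : ℕ := 0x0
def c16_31 : ℕ := 0x0
def c16_32 : ℕ := 0x0
def c16_33 : ℕ := 0x0
def c16_34 : ℕ := 0x0
def c16_35 : ℕ := 0x0
def c16_36 : ℕ := 0x0
def c16_37 : ℕ := 0x0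
def c16_38 : ℕ := 0x0
def c16_39 : ℕ := 0x0
def c16_40 : ℕ := 0x0
def c16_41 : ℕ := 0x2
def c16_42 : ℕ := 0x0
def c16_43 : ℕ := 0x0
def c16_44 : ℕ := 0x0
def c16_45 : ℕ := 0x0
def c16_46 : ℕ := 0x0
def c16_47 : ℕ := 0x1
def c16_48 : ℕ := 0x0
def c16_49 : ℕ := 0x0
def c16_50 : ℕ := 0x0
def c16_51 : ℕ := 0x0
def c16_52 : ℕ := 0x0
def c17_0 : ℕ := 0x0
def c17_1 : ℕ := 0x0
def c17_2 : ℕ := 0x0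
def c17_3 : ℕ := 0x0
def c17_4 : ℕ := 0x0
def c17_5 : ℕ := 0x0
def c17_6 : ℕ := 0x0
def c17_7 : ℕ := 0x0
def c17_8 : ℕ := 0x0
def c17_9 : ℕ := 0x2
def c17_10 : ℕ := 0x0
def c17_11 : ℕ := 0x0
def c17_12 : ℕ := 0x0
def c17_13 : ℕ := 0x0
def c17_14 : ℕ := 0x0
def c17_15 : ℕ := 0x1
def c17_16 : ℕ := 0x0
def c17_17 : ℕ := 0x0
def c17_18 : ℕ := 0x0
def c17_19 : ℕ := 0x0
def c17_20 : ℕ := 0x0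
def c17_21 : ℕ := 0x0
def c17_22 : ℕ := 0x0
def c17_23 : ℕ := 0x0
def c17_24 : ℕ := 0x0
def c17_25 : ℕ := 0x0
def c17_26 : ℕ := 0x0
def c17_27 : ℕ := 0x0
def c17_28 : ℕ := 0x0
def c17_29 : ℕ := 0x0
def c17_30 : ℕ := 0x0
def c17_31 : ℕ := 0x0
def c17_32 : ℕ := 0x0
def c17_33 : ℕ := 0x0
def c17_34 : ℕ := 0x0
def c17_35 : ℕ := 0x0
def c17_36 : ℕ := 0x0
def c17_37 : ℕ := 0x0
def c17_38 : ℕ := 0x0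
def c17_39 : ℕ := 0x0
def c17_40 : ℕ := 0x0
def c17_41 : ℕ := 0x0
def c17_42 : ℕ := 0x0
def c17_43 : ℕ := 0x0
def c17_44 : ℕ := 0x0
def c17_45 : ℕ := 0x0
def c17_46 : ℕ := 0x0
def c17_47 : ℕ := 0x0
def c17_48 : ℕ := 0x0
def c17_49 : ℕ := 0x0
def c17_50 : ℕ := 0x0
def c17_51 : ℕ := 0x0
def c17_52 : ℕ := 0x0
def c18_0 : ℕ := 0x0
def c18_1 : ℕ := 0x0
def c18_2 : ℕ := 0x0
def c18_3 : ℕ := 0x0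
def c18_4 : ℕ := 0x0
def c18_5 : ℕ := 0x0
def c18_6 : ℕ := 0x0
def c18_7 : ℕ := 0x0
def c18_8 : ℕ := 0x0
def c18_9 : ℕ := 0x0
def c18_10 : ℕ := 0x0
def c18_11 : ℕ := 0x0
def c18_12 : ℕ := 0x0
def c18_13 : ℕ := 0x0
def c18_14 : ℕ := 0x0
def c18_15 : ℕ := 0x0
def c18_16 : ℕ := 0x0
def c18_17 : ℕ := 0x0
def c18_18 : ℕ := 0x8
def c18_19 : ℕ := 0x0
def c18_20 : ℕ := 0x0
def c18_21 : ℕ := 0x0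
def c18_22 : ℕ := 0x0
def c18_23 : ℕ := 0x0
def c18_24 : ℕ := 0x0
def c18_25 : ℕ := 0x0
def c18_26 : ℕ := 0x0
def c18_27 : ℕ := 0x0
def c18_28 : ℕ := 0x0
def c18_29 : ℕ := 0x0
def c18_30 : ℕ := 0x4
def c18_31 : ℕ := 0x0
def c18_32 : ℕ := 0x0
def c18_33 : ℕ := 0x0
def c18_34 : ℕ := 0x0
def c18_35 : ℕ := 0x0
def c18_36 : ℕ := 0x0
def c18_37 : ℕ := 0x0
def c18_38 : ℕ := 0x0
def c18_39 : ℕ := 0x0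
def c18_40 : ℕ := 0x0
def c18_41 : ℕ := 0x0
def c18_42 : ℕ := 0x0
def c18_43 : ℕ := 0x0
def c18_44 : ℕ := 0x0
def c18_45 : ℕ := 0x0
def c18_46 : ℕ := 0x0
def c18_47 : ℕ := 0x0
def c18_48 : ℕ := 0x0
def c18_49 : ℕ := 0x0
def c18_50 : ℕ := 0x0
def c18_51 : ℕ := 0x0
def c18_52 : ℕ := 0x0
def c19_0 : ℕ := 0x0
def c19_1 : ℕ := 0x0
def c19_2 : ℕ := 0x0
def c19_3 : ℕ := 0x0
def c19_4 : ℕ := 0x0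
def c19_5 : ℕ := 0x0
def c19_6 : ℕ := 0x0
def c19_7 : ℕ := 0x0
def c19_8 : ℕ := 0x0
def c19_9 : ℕ := 0x0
def c19_10 : ℕ := 0x0
def c19_11 : ℕ := 0x0
def c19_12 : ℕ := 0x0
def c19_13 : ℕ := 0x0
def c19_14 : ℕ := 0x0
def c19_15 : ℕ := 0x0
def c19_16 : ℕ := 0x0
def c19_17 : ℕ := 0x0
def c19_18 : ℕ := 0x0
def c19_19 : ℕ := 0x0
def c19_20 : ℕ := 0x8
def c19_21 : ℕ := 0x0
def c19_22 : ℕ := 0x0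
def c19_23 : ℕ := 0x0
def c19_24 : ℕ := 0x0
def c19_25 : ℕ := 0x0
def c19_26 : ℕ := 0x0
def c19_27 : ℕ := 0x0
def c19_28 : ℕ := 0x0
def c19_29 : ℕ := 0x0
def c19_30 : ℕ := 0x0
def c19_31 : ℕ := 0x0
def c19_32 : ℕ := 0x0
def c19_33 : ℕ := 0x0
def c19_34 : ℕ := 0x0
def c19_35 : ℕ := 0x0
def c19_36 : ℕ := 0x0
def c19_37 : ℕ := 0x0
def c19_38 : ℕ := 0x0
def c19_39 : ℕ := 0x0
def c19_40 : ℕ := 0x0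
def c19_41 : ℕ := 0x0
def c19_42 : ℕ := 0x0
def c19_43 : ℕ := 0x0
def c19_44 : ℕ := 0x4
def c19_45 : ℕ := 0x0
def c19_46 : ℕ := 0x0
def c19_47 : ℕ := 0x0
def c19_48 : ℕ := 0x0
def c19_49 : ℕ := 0x0
def c19_50 : ℕ := 0x0
def c19_51 : ℕ := 0x0
def c19_52 : ℕ := 0x0
def c20_0 : ℕ := 0x0
def c20_1 : ℕ := 0x0
def c20_2 : ℕ := 0x0
def c20_3 : ℕ := 0x0
def c20_4 : ℕ := 0x0
def c20_5 : ℕ := 0x0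
def c20_6 : ℕ := 0x0
def c20_7 : ℕ := 0x0
def c20_8 : ℕ := 0x0
def c20_9 : ℕ := 0x0
def c20_10 : ℕ := 0x0
def c20_11 : ℕ := 0x0
def c20_12 : ℕ := 0x4
def c20_13 : ℕ := 0x0
def c20_14 : ℕ := 0x0
def c20_15 : ℕ := 0x0
def c20_16 : ℕ := 0x0
def c20_17 : ℕ := 0x0
def c20_18 : ℕ := 0x0
def c20_19 : ℕ := 0x0
def c20_20 : ℕ := 0x0
def c20_21 : ℕ := 0x0
def c20_22 : ℕ := 0x0
def c20_23 : ℕ := 0x0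
def c20_24 : ℕ := 0x0
def c20_25 : ℕ := 0x0
def c20_26 : ℕ := 0x0
def c20_27 : ℕ := 0x0
def c20_28 : ℕ := 0x0
def c20_29 : ℕ := 0x0
def c20_30 : ℕ := 0x0
def c20_31 : ℕ := 0x0
def c20_32 : ℕ := 0x0
def c20_33 : ℕ := 0x0
def c20_34 : ℕ := 0x0
def c20_35 : ℕ := 0x0
def c20_36 : ℕ := 0x2
def c20_37 : ℕ := 0x0
def c20_38 : ℕ := 0x0
def c20_39 : ℕ := 0x0
def c20_40 : ℕ := 0x0
def c20_41 : ℕ := 0x0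
def c20_42 : ℕ := 0x0
def c20_43 : ℕ := 0x0
def c20_44 : ℕ := 0x0
def c20_45 : ℕ := 0x0
def c20_46 : ℕ := 0x0
def c20_47 : ℕ := 0x0
def c20_48 : ℕ := 0x0
def c20_49 : ℕ := 0x0
def c20_50 : ℕ := 0x0
def c20_51 : ℕ := 0x0
def c20_52 : ℕ := 0x0
def c21_0 : ℕ := 0x0
def c21_1 : ℕ := 0x2
def c21_2 : ℕ := 0x0
def c21_3 : ℕ := 0x0
def c21_4 : ℕ := 0x0
def c21_5 : ℕ := 0x0
def c21_6 : ℕ := 0x0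
def c21_7 : ℕ := 0x1
def c21_8 : ℕ := 0x0
def c21_9 : ℕ := 0x0
def c21_10 : ℕ := 0x0
def c21_11 : ℕ := 0x0
def c21_12 : ℕ := 0x0
def c21_13 : ℕ := 0x0
def c21_14 : ℕ := 0x0
def c21_15 : ℕ := 0x0
def c21_16 : ℕ := 0x0
def c21_17 : ℕ := 0x0
def c21_18 : ℕ := 0x0
def c21_19 : ℕ := 0x0
def c21_20 : ℕ := 0x0
def c21_21 : ℕ := 0x0
def c21_22 : ℕ := 0x0
def c21_23 : ℕ := 0x0
def c21_24 : ℕ := 0x0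
def c21_25 : ℕ := 0x0
def c21_26 : ℕ := 0x0
def c21_27 : ℕ := 0x0
def c21_28 : ℕ := 0x0
def c21_29 : ℕ := 0x0
def c21_30 : ℕ := 0x0
def c21_31 : ℕ := 0x0
def c21_32 : ℕ := 0x0
def c21_33 : ℕ := 0x0
def c21_34 : ℕ := 0x0
def c21_35 : ℕ := 0x0
def c21_36 : ℕ := 0x0
def c21_37 : ℕ := 0x0
def c21_38 : ℕ := 0x0
def c21_39 : ℕ := 0x0
def c21_40 : ℕ := 0x0
def c21_41 : ℕ := 0x0
def c21_42 : ℕ := 0x0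
def c21_43 : ℕ := 0x0
def c21_44 : ℕ := 0x0
def c21_45 : ℕ := 0x0
def c21_46 : ℕ := 0x0
def c21_47 : ℕ := 0x0
def c21_48 : ℕ := 0x0
def c21_49 : ℕ := 0x0
def c21_50 : ℕ := 0x0
def c21_51 : ℕ := 0x0
def c21_52 : ℕ := 0x0
def c22_0 : ℕ := 0x0
def c22_1 : ℕ := 0x0
def c22_2 : ℕ := 0x0
def c22_3 : ℕ := 0x0
def c22_4 : ℕ := 0x0
def c22_5 : ℕ := 0x0
def c22_6 : ℕ := 0x0
def c22_7 : ℕ := 0x0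
def c22_8 : ℕ := 0x0
def c22_9 : ℕ := 0x0
def c22_10 : ℕ := 0x0
def c22_11 : ℕ := 0x0
def c22_12 : ℕ := 0x0
def c22_13 : ℕ := 0x0
def c22_14 : ℕ := 0x0
def c22_15 : ℕ := 0x0
def c22_16 : ℕ := 0x0
def c22_17 : ℕ := 0x0
def c22_18 : ℕ := 0x0
def c22_19 : ℕ := 0x0
def c22_20 : ℕ := 0x0
def c22_21 : ℕ := 0x0
def c22_22 : ℕ := 0x0
def c22_23 : ℕ := 0x0
def c22_24 : ℕ := 0x0
def c22_25 : ℕ := 0x0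
def c22_26 : ℕ := 0x0
def c22_27 : ℕ := 0x0
def c22_28 : ℕ := 0x0
def c22_29 : ℕ := 0x0
def c22_30 : ℕ := 0x0
def c22_31 : ℕ := 0x0
def c22_32 : ℕ := 0x0
def c22_33 : ℕ := 0x0
def c22_34 : ℕ := 0x10000000
def c22_35 : ℕ := 0x0
def c22_36 : ℕ := 0x0
def c22_37 : ℕ := 0x0
def c22_38 : ℕ := 0x0
def c22_39 : ℕ := 0x0
def c22_40 : ℕ := 0x0
def c22_41 : ℕ := 0x0
def c22_42 : ℕ := 0x0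
def c22_43 : ℕ := 0x0
def c22_44 : ℕ := 0x0
def c22_45 : ℕ := 0x0
def c22_46 : ℕ := 0x2000
def c22_47 : ℕ := 0x0
def c22_48 : ℕ := 0x0
def c22_49 : ℕ := 0x0
def c22_50 : ℕ := 0x0
def c22_51 : ℕ := 0x0
def c22_52 : ℕ := 0x0
def c23_0 : ℕ := 0x0
def c23_1 : ℕ := 0x0
def c23_2 : ℕ := 0x0
def c23_3 : ℕ := 0x0
def c23_4 : ℕ := 0x0
def c23_5 : ℕ := 0x0
def c23_6 : ℕ := 0x0
def c23_7 : ℕ := 0x0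
def c23_8 : ℕ := 0x0
def c23_9 : ℕ := 0x0
def c23_10 : ℕ := 0x0
def c23_11 : ℕ := 0x0
def c23_12 : ℕ := 0x0
def c23_13 : ℕ := 0x0
def c23_14 : ℕ := 0x0
def c23_15 : ℕ := 0x0
def c23_16 : ℕ := 0x0
def c23_17 : ℕ := 0x20
def c23_18 : ℕ := 0x0
def c23_19 : ℕ := 0x0
def c23_20 : ℕ := 0x0
def c23_21 : ℕ := 0x0
def c23_22 : ℕ := 0x0
def c23_23 : ℕ := 0x10
def c23_24 : ℕ := 0x0
def c23_25 : ℕ := 0x0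
def c23_26 : ℕ := 0x0
def c23_27 : ℕ := 0x0
def c23_28 : ℕ := 0x0
def c23_29 : ℕ := 0x0
def c23_30 : ℕ := 0x0
def c23_31 : ℕ := 0x0
def c23_32 : ℕ := 0x0
def c23_33 : ℕ := 0x0
def c23_34 : ℕ := 0x0
def c23_35 : ℕ := 0x0
def c23_36 : ℕ := 0x0
def c23_37 : ℕ := 0x0
def c23_38 : ℕ := 0x0
def c23_39 : ℕ := 0x0
def c23_40 : ℕ := 0x0
def c23_41 : ℕ := 0x0
def c23_42 : ℕ := 0x0
def c23_43 : ℕ := 0x0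
def c23_44 : ℕ := 0x0
def c23_45 : ℕ := 0x0
def c23_46 : ℕ := 0x0
def c23_47 : ℕ := 0x0
def c23_48 : ℕ := 0x0
def c23_49 : ℕ := 0x0
def c23_50 : ℕ := 0x0
def c23_51 : ℕ := 0x0
def c23_52 : ℕ := 0x0
def c24_0 : ℕ := 0x1
def c24_1 : ℕ := 0x0
def c24_2 : ℕ := 0x2
def c24_3 : ℕ := 0x0
def c24_4 : ℕ := 0x0
def c24_5 : ℕ := 0x0
def c24_6 : ℕ := 0x0
def c24_7 : ℕ := 0x0
def c24_8 : ℕ := 0x0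
def c24_9 : ℕ := 0x0
def c24_10 : ℕ := 0x0
def c24_11 : ℕ := 0x0
def c24_12 : ℕ := 0x0
def c24_13 : ℕ := 0x0
def c24_14 : ℕ := 0x0
def c24_15 : ℕ := 0x0
def c24_16 : ℕ := 0x1
def c24_17 : ℕ := 0x0
def c24_18 : ℕ := 0x0
def c24_19 : ℕ := 0x0
def c24_20 : ℕ := 0x0
def c24_21 : ℕ := 0x0
def c24_22 : ℕ := 0x0
def c24_23 : ℕ := 0x0
def c24_24 : ℕ := 0x0
def c24_25 : ℕ := 0x0
def c24_26 : ℕ := 0x0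
def c24_27 : ℕ := 0x0
def c24_28 : ℕ := 0x0
def c24_29 : ℕ := 0x0
def c24_30 : ℕ := 0x0
def c24_31 : ℕ := 0x0
def c24_32 : ℕ := 0x0
def c24_33 : ℕ := 0x0
def c24_34 : ℕ := 0x0
def c24_35 : ℕ := 0x0
def c24_36 : ℕ := 0x0
def c24_37 : ℕ := 0x0
def c24_38 : ℕ := 0x0
def c24_39 : ℕ := 0x0
def c24_40 : ℕ := 0x0
def c24_41 : ℕ := 0x0
def c24_42 : ℕ := 0x0
def c24_43 : ℕ := 0x0
def c24_44 : ℕ := 0x0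
def c24_45 : ℕ := 0x0
def c24_46 : ℕ := 0x0
def c24_47 : ℕ := 0x0
def c24_48 : ℕ := 0x0
def c24_49 : ℕ := 0x0
def c24_50 : ℕ := 0x0
def c24_51 : ℕ := 0x0
def c24_52 : ℕ := 0x0
def c25_0 : ℕ := 0x1
def c25_1 : ℕ := 0x0
def c25_2 : ℕ := 0x0
def c25_3 : ℕ := 0x2
def c25_4 : ℕ := 0x0
def c25_5 : ℕ := 0x0
def c25_6 : ℕ := 0x0
def c25_7 : ℕ := 0x0
def c25_8 : ℕ := 0x0
def c25_9 : ℕ := 0x0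
def c25_10 : ℕ := 0x0
def c25_11 : ℕ := 0x0
def c25_12 : ℕ := 0x0
def c25_13 : ℕ := 0x0
def c25_14 : ℕ := 0x0
def c25_15 : ℕ := 0x0
def c25_16 : ℕ := 0x0
def c25_17 : ℕ := 0x0
def c25_18 : ℕ := 0x0
def c25_19 : ℕ := 0x0
def c25_20 : ℕ := 0x0
def c25_21 : ℕ := 0x0
def c25_22 : ℕ := 0x0
def c25_23 : ℕ := 0x0
def c25_24 : ℕ := 0x1
def c25_25 : ℕ := 0x0
def c25_26 : ℕ := 0x0
def c25_27 : ℕ := 0x0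
def c25_28 : ℕ := 0x0
def c25_29 : ℕ := 0x0
def c25_30 : ℕ := 0x0
def c25_31 : ℕ := 0x0
def c25_32 : ℕ := 0x0
def c25_33 : ℕ := 0x0
def c25_34 : ℕ := 0x0
def c25_35 : ℕ := 0x0
def c25_36 : ℕ := 0x0
def c25_37 : ℕ := 0x0
def c25_38 : ℕ := 0x0
def c25_39 : ℕ := 0x0
def c25_40 : ℕ := 0x0
def c25_41 : ℕ := 0x0
def c25_42 : ℕ := 0x0
def c25_43 : ℕ := 0x0
def c25_44 : ℕ := 0x0
def c25_45 : ℕ := 0x0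
def c25_46 : ℕ := 0x0
def c25_47 : ℕ := 0x0
def c25_48 : ℕ := 0x0
def c25_49 : ℕ := 0x0
def c25_50 : ℕ := 0x0
def c25_51 : ℕ := 0x0
def c25_52 : ℕ := 0x0
def c26_0 : ℕ := 0x1
def c26_1 : ℕ := 0x0
def c26_2 : ℕ := 0x0
def c26_3 : ℕ := 0x0
def c26_4 : ℕ := 0x2
def c26_5 : ℕ := 0x0
def c26_6 : ℕ := 0x0
def c26_7 : ℕ := 0x0
def c26_8 : ℕ := 0x0
def c26_9 : ℕ := 0x0
def c26_10 : ℕ := 0x0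
def c26_11 : ℕ := 0x0
def c26_12 : ℕ := 0x0
def c26_13 : ℕ := 0x0
def c26_14 : ℕ := 0x0
def c26_15 : ℕ := 0x0
def c26_16 : ℕ := 0x0
def c26_17 : ℕ := 0x0
def c26_18 : ℕ := 0x0
def c26_19 : ℕ := 0x0
def c26_20 : ℕ := 0x0
def c26_21 : ℕ := 0x0
def c26_22 : ℕ := 0x0
def c26_23 : ℕ := 0x0
def c26_24 : ℕ := 0x0
def c26_25 : ℕ := 0x0
def c26_26 : ℕ := 0x0
def c26_27 : ℕ := 0x0
def c26_28 : ℕ := 0x0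
def c26_29 : ℕ := 0x0
def c26_30 : ℕ := 0x0
def c26_31 : ℕ := 0x0
def c26_32 : ℕ := 0x1
def c26_33 : ℕ := 0x0
def c26_34 : ℕ := 0x0
def c26_35 : ℕ := 0x0
def c26_36 : ℕ := 0x0
def c26_37 : ℕ := 0x0
def c26_38 : ℕ := 0x0
def c26_39 : ℕ := 0x0
def c26_40 : ℕ := 0x0
def c26_41 : ℕ := 0x0
def c26_42 : ℕ := 0x0
def c26_43 : ℕ := 0x0
def c26_44 : ℕ := 0x0
def c26_45 : ℕ := 0x0
def c26_46 : ℕ := 0x0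
def c26_47 : ℕ := 0x0
def c26_48 : ℕ := 0x0
def c26_49 : ℕ := 0x0
def c26_50 : ℕ := 0x0
def c26_51 : ℕ := 0x0
def c26_52 : ℕ := 0x0
def c27_0 : ℕ := 0x1
def c27_1 : ℕ := 0x0
def c27_2 : ℕ := 0x0
def c27_3 : ℕ := 0x0
def c27_4 : ℕ := 0x0
def c27_5 : ℕ := 0x0
def c27_6 : ℕ := 0x2
def c27_7 : ℕ := 0x0
def c27_8 : ℕ := 0x0
def c27_9 : ℕ := 0x0
def c27_10 : ℕ := 0x0
def c27_11 : ℕ := 0x0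
def c27_12 : ℕ := 0x0
def c27_13 : ℕ := 0x0
def c27_14 : ℕ := 0x0
def c27_15 : ℕ := 0x0
def c27_16 : ℕ := 0x0
def c27_17 : ℕ := 0x0
def c27_18 : ℕ := 0x0
def c27_19 : ℕ := 0x0
def c27_20 : ℕ := 0x0
def c27_21 : ℕ := 0x0
def c27_22 : ℕ := 0x0
def c27_23 : ℕ := 0x0
def c27_24 : ℕ := 0x0
def c27_25 : ℕ := 0x0
def c27_26 : ℕ := 0x0
def c27_27 : ℕ := 0x0
def c27_28 : ℕ := 0x0
def c27_29 : ℕ := 0x0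
def c27_30 : ℕ := 0x0
def c27_31 : ℕ := 0x0
def c27_32 : ℕ := 0x0
def c27_33 : ℕ := 0x0
def c27_34 : ℕ := 0x0
def c27_35 : ℕ := 0x0
def c27_36 : ℕ := 0x0
def c27_37 : ℕ := 0x0
def c27_38 : ℕ := 0x0
def c27_39 : ℕ := 0x0
def c27_40 : ℕ := 0x0
def c27_41 : ℕ := 0x0
def c27_42 : ℕ := 0x0
def c27_43 : ℕ := 0x0
def c27_44 : ℕ := 0x0
def c27_45 : ℕ := 0x0
def c27_46 : ℕ := 0x0
def c27_47 : ℕ := 0x0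
def c27_48 : ℕ := 0x1
def c27_49 : ℕ := 0x0
def c27_50 : ℕ := 0x0
def c27_51 : ℕ := 0x0
def c27_52 : ℕ := 0x0
def c28_0 : ℕ := 0x1
def c28_1 : ℕ := 0x0
def c28_2 : ℕ := 0x1
def c28_3 : ℕ := 0x1
def c28_4 : ℕ := 0x0
def c28_5 : ℕ := 0x0
def c28_6 : ℕ := 0x0
def c28_7 : ℕ := 0x0
def c28_8 : ℕ := 0x0
def c28_9 : ℕ := 0x0
def c28_10 : ℕ := 0x0
def c28_11 : ℕ := 0x0
def c28_12 : ℕ := 0x0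
def c28_13 : ℕ := 0x0
def c28_14 : ℕ := 0x0
def c28_15 : ℕ := 0x0
def c28_16 : ℕ := 0x0
def c28_17 : ℕ := 0x1
def c28_18 : ℕ := 0x0
def c28_19 : ℕ := 0x0
def c28_20 : ℕ := 0x0
def c28_21 : ℕ := 0x0
def c28_22 : ℕ := 0x0
def c28_23 : ℕ := 0x0
def c28_24 : ℕ := 0x0
def c28_25 : ℕ := 0x0
def c28_26 : ℕ := 0x0
def c28_27 : ℕ := 0x0
def c28_28 : ℕ := 0x0
def c28_29 : ℕ := 0x0
def c28_30 : ℕ := 0x0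
def c28_31 : ℕ := 0x0
def c28_32 : ℕ := 0x0
def c28_33 : ℕ := 0x0
def c28_34 : ℕ := 0x0
def c28_35 : ℕ := 0x0
def c28_36 : ℕ := 0x0
def c28_37 : ℕ := 0x0
def c28_38 : ℕ := 0x0
def c28_39 : ℕ := 0x0
def c28_40 : ℕ := 0x0
def c28_41 : ℕ := 0x0
def c28_42 : ℕ := 0x0
def c28_43 : ℕ := 0x0
def c28_44 : ℕ := 0x0
def c28_45 : ℕ := 0x0
def c28_46 : ℕ := 0x0
def c28_47 : ℕ := 0x0
def c28_48 : ℕ := 0x0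
def c28_49 : ℕ := 0x0
def c28_50 : ℕ := 0x0
def c28_51 : ℕ := 0x0
def c28_52 : ℕ := 0x0
def c29_0 : ℕ := 0x2
def c29_1 : ℕ := 0x0
def c29_2 : ℕ := 0x2
def c29_3 : ℕ := 0x0
def c29_4 : ℕ := 0x2
def c29_5 : ℕ := 0x0
def c29_6 : ℕ := 0x0
def c29_7 : ℕ := 0x0
def c29_8 : ℕ := 0x0
def c29_9 : ℕ := 0x0
def c29_10 : ℕ := 0x0
def c29_11 : ℕ := 0x0
def c29_12 : ℕ := 0x0
def c29_13 : ℕ := 0x0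
def c29_14 : ℕ := 0x0
def c29_15 : ℕ := 0x0
def c29_16 : ℕ := 0x0
def c29_17 : ℕ := 0x0
def c29_18 : ℕ := 0x1
def c29_19 : ℕ := 0x0
def c29_20 : ℕ := 0x0
def c29_21 : ℕ := 0x0
def c29_22 : ℕ := 0x0
def c29_23 : ℕ := 0x0
def c29_24 : ℕ := 0x0
def c29_25 : ℕ := 0x0
def c29_26 : ℕ := 0x0
def c29_27 : ℕ := 0x0
def c29_28 : ℕ := 0x0
def c29_29 : ℕ := 0x0
def c29_30 : ℕ := 0x0
def c29_31 : ℕ := 0x0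
def c29_32 : ℕ := 0x0
def c29_33 : ℕ := 0x0
def c29_34 : ℕ := 0x0
def c29_35 : ℕ := 0x0
def c29_36 : ℕ := 0x0
def c29_37 : ℕ := 0x0
def c29_38 : ℕ := 0x0
def c29_39 : ℕ := 0x0
def c29_40 : ℕ := 0x0
def c29_41 : ℕ := 0x0
def c29_42 : ℕ := 0x0
def c29_43 : ℕ := 0x0
def c29_44 : ℕ := 0x0
def c29_45 : ℕ := 0x0
def c29_46 : ℕ := 0x0
def c29_47 : ℕ := 0x0
def c29_48 : ℕ := 0x0
def c29_49 : ℕ := 0x0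
def c29_50 : ℕ := 0x0
def c29_51 : ℕ := 0x0
def c29_52 : ℕ := 0x0
def c30_0 : ℕ := 0x2
def c30_1 : ℕ := 0x0
def c30_2 : ℕ := 0x2
def c30_3 : ℕ := 0x0
def c30_4 : ℕ := 0x0
def c30_5 : ℕ := 0x0
def c30_6 : ℕ := 0x2
def c30_7 : ℕ := 0x0
def c30_8 : ℕ := 0x0
def c30_9 : ℕ := 0x0
def c30_10 : ℕ := 0x0
def c30_11 : ℕ := 0x0
def c30_12 : ℕ := 0x0
def c30_13 : ℕ := 0x0
def c30_14 : ℕ := 0x0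
def c30_15 : ℕ := 0x0
def c30_16 : ℕ := 0x0
def c30_17 : ℕ := 0x0
def c30_18 : ℕ := 0x0
def c30_19 : ℕ := 0x0
def c30_20 : ℕ := 0x1
def c30_21 : ℕ := 0x0
def c30_22 : ℕ := 0x0
def c30_23 : ℕ := 0x0
def c30_24 : ℕ := 0x0
def c30_25 : ℕ := 0x0
def c30_26 : ℕ := 0x0
def c30_27 : ℕ := 0x0
def c30_28 : ℕ := 0x0
def c30_29 : ℕ := 0x0
def c30_30 : ℕ := 0x0
def c30_31 : ℕ := 0x0
def c30_32 : ℕ := 0x0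
def c30_33 : ℕ := 0x0
def c30_34 : ℕ := 0x0
def c30_35 : ℕ := 0x0
def c30_36 : ℕ := 0x0
def c30_37 : ℕ := 0x0
def c30_38 : ℕ := 0x0
def c30_39 : ℕ := 0x0
def c30_40 : ℕ := 0x0
def c30_41 : ℕ := 0x0
def c30_42 : ℕ := 0x0
def c30_43 : ℕ := 0x0
def c30_44 : ℕ := 0x0
def c30_45 : ℕ := 0x0
def c30_46 : ℕ := 0x0
def c30_47 : ℕ := 0x0
def c30_48 : ℕ := 0x0
def c30_49 : ℕ := 0x0
def c30_50 : ℕ := 0x0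
def c30_51 : ℕ := 0x0
def c30_52 : ℕ := 0x0
def c31_0 : ℕ := 0x2
def c31_1 : ℕ := 0x0
def c31_2 : ℕ := 0x0
def c31_3 : ℕ := 0x0
def c31_4 : ℕ := 0x2
def c31_5 : ℕ := 0x0
def c31_6 : ℕ := 0x2
def c31_7 : ℕ := 0x0
def c31_8 : ℕ := 0x0
def c31_9 : ℕ := 0x0
def c31_10 : ℕ := 0x0
def c31_11 : ℕ := 0x0
def c31_12 : ℕ := 0x0
def c31_13 : ℕ := 0x0
def c31_14 : ℕ := 0x0
def c31_15 : ℕ := 0x0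
def c31_16 : ℕ := 0x0
def c31_17 : ℕ := 0x0
def c31_18 : ℕ := 0x0
def c31_19 : ℕ := 0x0
def c31_20 : ℕ := 0x0
def c31_21 : ℕ := 0x0
def c31_22 : ℕ := 0x0
def c31_23 : ℕ := 0x0
def c31_24 : ℕ := 0x0
def c31_25 : ℕ := 0x0
def c31_26 : ℕ := 0x0
def c31_27 : ℕ := 0x0
def c31_28 : ℕ := 0x0
def c31_29 : ℕ := 0x0
def c31_30 : ℕ := 0x0
def c31_31 : ℕ := 0x0
def c31_32 : ℕ := 0x0
def c31_33 : ℕ := 0x0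
def c31_34 : ℕ := 0x1
def c31_35 : ℕ := 0x0
def c31_36 : ℕ := 0x0
def c31_37 : ℕ := 0x0
def c31_38 : ℕ := 0x0
def c31_39 : ℕ := 0x0
def c31_40 : ℕ := 0x0
def c31_41 : ℕ := 0x0
def c31_42 : ℕ := 0x0
def c31_43 : ℕ := 0x0
def c31_44 : ℕ := 0x0
def c31_45 : ℕ := 0x0
def c31_46 : ℕ := 0x0
def c31_47 : ℕ := 0x0
def c31_48 : ℕ := 0x0
def c31_49 : ℕ := 0x0
def c31_50 : ℕ := 0x0
def c31_51 : ℕ := 0x0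
def c31_52 : ℕ := 0x0
def c32_0 : ℕ := 0x2
def c32_1 : ℕ := 0x0
def c32_2 : ℕ := 0x1
def c32_3 : ℕ := 0x1
def c32_4 : ℕ := 0x0
def c32_5 : ℕ := 0x0
def c32_6 : ℕ := 0x0
def c32_7 : ℕ := 0x0
def c32_8 : ℕ := 0x0
def c32_9 : ℕ := 0x0
def c32_10 : ℕ := 0x0
def c32_11 : ℕ := 0x0
def c32_12 : ℕ := 0x0
def c32_13 : ℕ := 0x0
def c32_14 : ℕ := 0x0
def c32_15 : ℕ := 0x0
def c32_16 : ℕ := 0x0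
def c32_17 : ℕ := 0x0
def c32_18 : ℕ := 0x0
def c32_19 : ℕ := 0x0
def c32_20 : ℕ := 0x0
def c32_21 : ℕ := 0x0
def c32_22 : ℕ := 0x0
def c32_23 : ℕ := 0x0
def c32_24 : ℕ := 0x0
def c32_25 : ℕ := 0x0
def c32_26 : ℕ := 0x0
def c32_27 : ℕ := 0x0
def c32_28 : ℕ := 0x0
def c32_29 : ℕ := 0x0
def c32_30 : ℕ := 0x0
def c32_31 : ℕ := 0x0
def c32_32 : ℕ := 0x0
def c32_33 : ℕ := 0x0
def c32_34 : ℕ := 0x0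
def c32_35 : ℕ := 0x0
def c32_36 : ℕ := 0x0
def c32_37 : ℕ := 0x0
def c32_38 : ℕ := 0x0
def c32_39 : ℕ := 0x0
def c32_40 : ℕ := 0x0
def c32_41 : ℕ := 0x0
def c32_42 : ℕ := 0x0
def c32_43 : ℕ := 0x0
def c32_44 : ℕ := 0x0
def c32_45 : ℕ := 0x0
def c32_46 : ℕ := 0x0
def c32_47 : ℕ := 0x0
def c32_48 : ℕ := 0x0
def c32_49 : ℕ := 0x0
def c32_50 : ℕ := 0x0
def c32_51 : ℕ := 0x1
def c32_52 : ℕ := 0x0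
def c33_0 : ℕ := 0x2
def c33_1 : ℕ := 0x0
def c33_2 : ℕ := 0x0
def c33_3 : ℕ := 0x0
def c33_4 : ℕ := 0x0
def c33_5 : ℕ := 0x0
def c33_6 : ℕ := 0x1
def c33_7 : ℕ := 0x0
def c33_8 : ℕ := 0x0
def c33_9 : ℕ := 0x0
def c33_10 : ℕ := 0x0
def c33_11 : ℕ := 0x0
def c33_12 : ℕ := 0x0
def c33_13 : ℕ := 0x0
def c33_14 : ℕ := 0x0
def c33_15 : ℕ := 0x0
def c33_16 : ℕ := 0x0
def c33_17 : ℕ := 0x0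
def c33_18 : ℕ := 0x0
def c33_19 : ℕ := 0x0
def c33_20 : ℕ := 0x0
def c33_21 : ℕ := 0x0
def c33_22 : ℕ := 0x0
def c33_23 : ℕ := 0x0
def c33_24 : ℕ := 0x0
def c33_25 : ℕ := 0x0
def c33_26 : ℕ := 0x0
def c33_27 : ℕ := 0x0
def c33_28 : ℕ := 0x0
def c33_29 : ℕ := 0x0
def c33_30 : ℕ := 0x0
def c33_31 : ℕ := 0x0
def c33_32 : ℕ := 0x0
def c33_33 : ℕ := 0x2
def c33_34 : ℕ := 0x0
def c33_35 : ℕ := 0x0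
def c33_36 : ℕ := 0x0
def c33_37 : ℕ := 0x0
def c33_38 : ℕ := 0x0
def c33_39 : ℕ := 0x0
def c33_40 : ℕ := 0x0
def c33_41 : ℕ := 0x0
def c33_42 : ℕ := 0x0
def c33_43 : ℕ := 0x0
def c33_44 : ℕ := 0x0
def c33_45 : ℕ := 0x0
def c33_46 : ℕ := 0x0
def c33_47 : ℕ := 0x0
def c33_48 : ℕ := 0x0
def c33_49 : ℕ := 0x1
def c33_50 : ℕ := 0x0
def c33_51 : ℕ := 0x0
def c33_52 : ℕ := 0x0
def c34_0 : ℕ := 0x11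
def c34_1 : ℕ := 0x0
def c34_2 : ℕ := 0x0
def c34_3 : ℕ := 0x0
def c34_4 : ℕ := 0x0
def c34_5 : ℕ := 0x1
def c34_6 : ℕ := 0x0
def c34_7 : ℕ := 0x0
def c34_8 : ℕ := 0x0
def c34_9 : ℕ := 0x0
def c34_10 : ℕ := 0x0
def c34_11 : ℕ := 0x0
def c34_12 : ℕ := 0x0
def c34_13 : ℕ := 0x0
def c34_14 : ℕ := 0x0
def c34_15 : ℕ := 0x0
def c34_16 : ℕ := 0x0
def c34_17 : ℕ := 0x0
def c34_18 : ℕ := 0x0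
def c34_19 : ℕ := 0x0
def c34_20 : ℕ := 0x0
def c34_21 : ℕ := 0x0
def c34_22 : ℕ := 0x0
def c34_23 : ℕ := 0x0
def c34_24 : ℕ := 0x0
def c34_25 : ℕ := 0x0
def c34_26 : ℕ := 0x0
def c34_27 : ℕ := 0x0
def c34_28 : ℕ := 0x0
def c34_29 : ℕ := 0x0
def c34_30 : ℕ := 0x0
def c34_31 : ℕ := 0x0
def c34_32 : ℕ := 0x0
def c34_33 : ℕ := 0x0
def c34_34 : ℕ := 0x0
def c34_35 : ℕ := 0x0
def c34_36 : ℕ := 0x0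
def c34_37 : ℕ := 0x0
def c34_38 : ℕ := 0x0
def c34_39 : ℕ := 0x0
def c34_40 : ℕ := 0x2
def c34_41 : ℕ := 0x0
def c34_42 : ℕ := 0x0
def c34_43 : ℕ := 0x0
def c34_44 : ℕ := 0x0
def c34_45 : ℕ := 0x0
def c34_46 : ℕ := 0x0
def c34_47 : ℕ := 0x0
def c34_48 : ℕ := 0x0
def c34_49 : ℕ := 0x0
def c34_50 : ℕ := 0x0
def c34_51 : ℕ := 0x0
def c34_52 : ℕ := 0x0
def c35_0 : ℕ := 0x2
def c35_1 : ℕ := 0x0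
def c35_2 : ℕ := 0x0
def c35_3 : ℕ := 0x1
def c35_4 : ℕ := 0x0
def c35_5 : ℕ := 0x0
def c35_6 : ℕ := 0x0
def c35_7 : ℕ := 0x0
def c35_8 : ℕ := 0x2
def c35_9 : ℕ := 0x0
def c35_10 : ℕ := 0x1
def c35_11 : ℕ := 0x0
def c35_12 : ℕ := 0x0
def c35_13 : ℕ := 0x0
def c35_14 : ℕ := 0x0
def c35_15 : ℕ := 0x0
def c35_16 : ℕ := 0x0
def c35_17 : ℕ := 0x0
def c35_18 : ℕ := 0x0
def c35_19 : ℕ := 0x0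
def c35_20 : ℕ := 0x0
def c35_21 : ℕ := 0x0
def c35_22 : ℕ := 0x0
def c35_23 : ℕ := 0x0
def c35_24 : ℕ := 0x4
def c35_25 : ℕ := 0x0
def c35_26 : ℕ := 0x0
def c35_27 : ℕ := 0x0
def c35_28 : ℕ := 0x0
def c35_29 : ℕ := 0x0
def c35_30 : ℕ := 0x0
def c35_31 : ℕ := 0x0
def c35_32 : ℕ := 0x0
def c35_33 : ℕ := 0x0
def c35_34 : ℕ := 0x0
def c35_35 : ℕ := 0x0
def c35_36 : ℕ := 0x0
def c35_37 : ℕ := 0x0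
def c35_38 : ℕ := 0x0
def c35_39 : ℕ := 0x0
def c35_40 : ℕ := 0x0
def c35_41 : ℕ := 0x0
def c35_42 : ℕ := 0x0
def c35_43 : ℕ := 0x0
def c35_44 : ℕ := 0x0
def c35_45 : ℕ := 0x0
def c35_46 : ℕ := 0x0
def c35_47 : ℕ := 0x0
def c35_48 : ℕ := 0x0
def c35_49 : ℕ := 0x0
def c35_50 : ℕ := 0x0
def c35_51 : ℕ := 0x0
def c35_52 : ℕ := 0x0
def c36_0 : ℕ := 0x2
def c36_1 : ℕ := 0x0
def c36_2 : ℕ := 0x0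
def c36_3 : ℕ := 0x0
def c36_4 : ℕ := 0x1
def c36_5 : ℕ := 0x0
def c36_6 : ℕ := 0x0
def c36_7 : ℕ := 0x0
def c36_8 : ℕ := 0x2
def c36_9 : ℕ := 0x0
def c36_10 : ℕ := 0x0
def c36_11 : ℕ := 0x1
def c36_12 : ℕ := 0x0
def c36_13 : ℕ := 0x0
def c36_14 : ℕ := 0x0
def c36_15 : ℕ := 0x0
def c36_16 : ℕ := 0x0
def c36_17 : ℕ := 0x0
def c36_18 : ℕ := 0x0
def c36_19 : ℕ := 0x0
def c36_20 : ℕ := 0x0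
def c36_21 : ℕ := 0x0
def c36_22 : ℕ := 0x0
def c36_23 : ℕ := 0x0
def c36_24 : ℕ := 0x0
def c36_25 : ℕ := 0x0
def c36_26 : ℕ := 0x0
def c36_27 : ℕ := 0x0
def c36_28 : ℕ := 0x0
def c36_29 : ℕ := 0x0
def c36_30 : ℕ := 0x0
def c36_31 : ℕ := 0x0
def c36_32 : ℕ := 0x4
def c36_33 : ℕ := 0x0
def c36_34 : ℕ := 0x0
def c36_35 : ℕ := 0x0
def c36_36 : ℕ := 0x0
def c36_37 : ℕ := 0x0
def c36_38 : ℕ := 0x0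
def c36_39 : ℕ := 0x0
def c36_40 : ℕ := 0x0
def c36_41 : ℕ := 0x0
def c36_42 : ℕ := 0x0
def c36_43 : ℕ := 0x0
def c36_44 : ℕ := 0x0
def c36_45 : ℕ := 0x0
def c36_46 : ℕ := 0x0
def c36_47 : ℕ := 0x0
def c36_48 : ℕ := 0x0
def c36_49 : ℕ := 0x0
def c36_50 : ℕ := 0x0
def c36_51 : ℕ := 0x0
def c36_52 : ℕ := 0x0
def c37_0 : ℕ := 0x2
def c37_1 : ℕ := 0x0
def c37_2 : ℕ := 0x0
def c37_3 : ℕ := 0x0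
def c37_4 : ℕ := 0x0
def c37_5 : ℕ := 0x0
def c37_6 : ℕ := 0x1
def c37_7 : ℕ := 0x0
def c37_8 : ℕ := 0x2
def c37_9 : ℕ := 0x0
def c37_10 : ℕ := 0x0
def c37_11 : ℕ := 0x0
def c37_12 : ℕ := 0x0
def c37_13 : ℕ := 0x1
def c37_14 : ℕ := 0x0
def c37_15 : ℕ := 0x0
def c37_16 : ℕ := 0x0
def c37_17 : ℕ := 0x0
def c37_18 : ℕ := 0x0
def c37_19 : ℕ := 0x0
def c37_20 : ℕ := 0x0
def c37_21 : ℕ := 0x0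
def c37_22 : ℕ := 0x0
def c37_23 : ℕ := 0x0
def c37_24 : ℕ := 0x0
def c37_25 : ℕ := 0x0
def c37_26 : ℕ := 0x0
def c37_27 : ℕ := 0x0
def c37_28 : ℕ := 0x0
def c37_29 : ℕ := 0x0
def c37_30 : ℕ := 0x0
def c37_31 : ℕ := 0x0
def c37_32 : ℕ := 0x0
def c37_33 : ℕ := 0x0
def c37_34 : ℕ := 0x0
def c37_35 : ℕ := 0x0
def c37_36 : ℕ := 0x0
def c37_37 : ℕ := 0x0
def c37_38 : ℕ := 0x0
def c37_39 : ℕ := 0x0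
def c37_40 : ℕ := 0x0
def c37_41 : ℕ := 0x0
def c37_42 : ℕ := 0x0
def c37_43 : ℕ := 0x0
def c37_44 : ℕ := 0x0
def c37_45 : ℕ := 0x0
def c37_46 : ℕ := 0x0
def c37_47 : ℕ := 0x0
def c37_48 : ℕ := 0x4
def c37_49 : ℕ := 0x0
def c37_50 : ℕ := 0x0
def c37_51 : ℕ := 0x0
def c37_52 : ℕ := 0x0
def c38_0 : ℕ := 0x0
def c38_1 : ℕ := 0x0
def c38_2 : ℕ := 0x11
def c38_3 : ℕ := 0x0
def c38_4 : ℕ := 0x0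
def c38_5 : ℕ := 0x1
def c38_6 : ℕ := 0x0
def c38_7 : ℕ := 0x0
def c38_8 : ℕ := 0x0
def c38_9 : ℕ := 0x0
def c38_10 : ℕ := 0x0
def c38_11 : ℕ := 0x0
def c38_12 : ℕ := 0x0
def c38_13 : ℕ := 0x0
def c38_14 : ℕ := 0x0
def c38_15 : ℕ := 0x0
def c38_16 : ℕ := 0x0
def c38_17 : ℕ := 0x0
def c38_18 : ℕ := 0x0
def c38_19 : ℕ := 0x1
def c38_20 : ℕ := 0x0
def c38_21 : ℕ := 0x0
def c38_22 : ℕ := 0x0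
def c38_23 : ℕ := 0x0
def c38_24 : ℕ := 0x0
def c38_25 : ℕ := 0x0
def c38_26 : ℕ := 0x0
def c38_27 : ℕ := 0x0
def c38_28 : ℕ := 0x0
def c38_29 : ℕ := 0x0
def c38_30 : ℕ := 0x0
def c38_31 : ℕ := 0x0
def c38_32 : ℕ := 0x0
def c38_33 : ℕ := 0x0
def c38_34 : ℕ := 0x0
def c38_35 : ℕ := 0x0
def c38_36 : ℕ := 0x0
def c38_37 : ℕ := 0x0
def c38_38 : ℕ := 0x0
def c38_39 : ℕ := 0x0
def c38_40 : ℕ := 0x1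
def c38_41 : ℕ := 0x0
def c38_42 : ℕ := 0x0
def c38_43 : ℕ := 0x0
def c38_44 : ℕ := 0x0
def c38_45 : ℕ := 0x0
def c38_46 : ℕ := 0x0
def c38_47 : ℕ := 0x0
def c38_48 : ℕ := 0x0
def c38_49 : ℕ := 0x0
def c38_50 : ℕ := 0x0
def c38_51 : ℕ := 0x0
def c38_52 : ℕ := 0x0
def c39_0 : ℕ := 0x0
def c39_1 : ℕ := 0x0
def c39_2 : ℕ := 0x0
def c39_3 : ℕ := 0x0
def c39_4 : ℕ := 0x11
def c39_5 : ℕ := 0x1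
def c39_6 : ℕ := 0x0
def c39_7 : ℕ := 0x0
def c39_8 : ℕ := 0x0
def c39_9 : ℕ := 0x0
def c39_10 : ℕ := 0x0
def c39_11 : ℕ := 0x0
def c39_12 : ℕ := 0x0
def c39_13 : ℕ := 0x0
def c39_14 : ℕ := 0x0
def c39_15 : ℕ := 0x0
def c39_16 : ℕ := 0x0
def c39_17 : ℕ := 0x0
def c39_18 : ℕ := 0x0
def c39_19 : ℕ := 0x0
def c39_20 : ℕ := 0x0
def c39_21 : ℕ := 0x0
def c39_22 : ℕ := 0x0
def c39_23 : ℕ := 0x0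
def c39_24 : ℕ := 0x0
def c39_25 : ℕ := 0x0
def c39_26 : ℕ := 0x0
def c39_27 : ℕ := 0x0
def c39_28 : ℕ := 0x0
def c39_29 : ℕ := 0x0
def c39_30 : ℕ := 0x0
def c39_31 : ℕ := 0x0
def c39_32 : ℕ := 0x0
def c39_33 : ℕ := 0x2
def c39_34 : ℕ := 0x0
def c39_35 : ℕ := 0x0
def c39_36 : ℕ := 0x0
def c39_37 : ℕ := 0x0
def c39_38 : ℕ := 0x0
def c39_39 : ℕ := 0x0
def c39_40 : ℕ := 0x1
def c39_41 : ℕ := 0x0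
def c39_42 : ℕ := 0x0
def c39_43 : ℕ := 0x0
def c39_44 : ℕ := 0x0
def c39_45 : ℕ := 0x0
def c39_46 : ℕ := 0x0
def c39_47 : ℕ := 0x0
def c39_48 : ℕ := 0x0
def c39_49 : ℕ := 0x0
def c39_50 : ℕ := 0x0
def c39_51 : ℕ := 0x0
def c39_52 : ℕ := 0x0
def c40_0 : ℕ := 0x0
def c40_1 : ℕ := 0x0
def c40_2 : ℕ := 0x0
def c40_3 : ℕ := 0x0
def c40_4 : ℕ := 0x0
def c40_5 : ℕ := 0x1
def c40_6 : ℕ := 0x11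
def c40_7 : ℕ := 0x0
def c40_8 : ℕ := 0x0
def c40_9 : ℕ := 0x0
def c40_10 : ℕ := 0x0
def c40_11 : ℕ := 0x0
def c40_12 : ℕ := 0x0
def c40_13 : ℕ := 0x0
def c40_14 : ℕ := 0x0
def c40_15 : ℕ := 0x0
def c40_16 : ℕ := 0x0
def c40_17 : ℕ := 0x0
def c40_18 : ℕ := 0x0
def c40_19 : ℕ := 0x0
def c40_20 : ℕ := 0x0
def c40_21 : ℕ := 0x0
def c40_22 : ℕ := 0x0
def c40_23 : ℕ := 0x0
def c40_24 : ℕ := 0x0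
def c40_25 : ℕ := 0x0
def c40_26 : ℕ := 0x0
def c40_27 : ℕ := 0x0
def c40_28 : ℕ := 0x0
def c40_29 : ℕ := 0x0
def c40_30 : ℕ := 0x0
def c40_31 : ℕ := 0x0
def c40_32 : ℕ := 0x0
def c40_33 : ℕ := 0x0
def c40_34 : ℕ := 0x0
def c40_35 : ℕ := 0x0
def c40_36 : ℕ := 0x0
def c40_37 : ℕ := 0x0
def c40_38 : ℕ := 0x0
def c40_39 : ℕ := 0x0
def c40_40 : ℕ := 0x1
def c40_41 : ℕ := 0x1
def c40_42 : ℕ := 0x0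
def c40_43 : ℕ := 0x0
def c40_44 : ℕ := 0x0
def c40_45 : ℕ := 0x0
def c40_46 : ℕ := 0x0
def c40_47 : ℕ := 0x0
def c40_48 : ℕ := 0x0
def c40_49 : ℕ := 0x0
def c40_50 : ℕ := 0x0
def c40_51 : ℕ := 0x0
def c40_52 : ℕ := 0x0
def c41_0 : ℕ := 0x0
def c41_1 : ℕ := 0x0
def c41_2 : ℕ := 0x0
def c41_3 : ℕ := 0x0
def c41_4 : ℕ := 0x0
def c41_5 : ℕ := 0x0
def c41_6 : ℕ := 0x0
def c41_7 : ℕ := 0x0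
def c41_8 : ℕ := 0x0
def c41_9 : ℕ := 0x0
def c41_10 : ℕ := 0x0
def c41_11 : ℕ := 0x0
def c41_12 : ℕ := 0x40000100000
def c41_13 : ℕ := 0x100000
def c41_14 : ℕ := 0x0
def c41_15 : ℕ := 0x0
def c41_16 : ℕ := 0x0
def c41_17 : ℕ := 0x0
def c41_18 : ℕ := 0x0
def c41_19 : ℕ := 0x0
def c41_20 : ℕ := 0x0
def c41_21 : ℕ := 0x0
def c41_22 : ℕ := 0x0
def c41_23 : ℕ := 0x0
def c41_24 : ℕ := 0x0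
def c41_25 : ℕ := 0x0
def c41_26 : ℕ := 0x0
def c41_27 : ℕ := 0x0
def c41_28 : ℕ := 0x0
def c41_29 : ℕ := 0x0
def c41_30 : ℕ := 0x0
def c41_31 : ℕ := 0x0
def c41_32 : ℕ := 0x0
def c41_33 : ℕ := 0x0
def c41_34 : ℕ := 0x0
def c41_35 : ℕ := 0x0
def c41_36 : ℕ := 0x0
def c41_37 : ℕ := 0x0
def c41_38 : ℕ := 0x0
def c41_39 : ℕ := 0x0
def c41_40 : ℕ := 0x0
def c41_41 : ℕ := 0x100000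
def c41_42 : ℕ := 0x0
def c41_43 : ℕ := 0x0
def c41_44 : ℕ := 0x0
def c41_45 : ℕ := 0x0
def c41_46 : ℕ := 0x0
def c41_47 : ℕ := 0x0
def c41_48 : ℕ := 0x100000
def c41_49 : ℕ := 0x0
def c41_50 : ℕ := 0x0
def c41_51 : ℕ := 0x0
def c41_52 : ℕ := 0x0
def c42_0 : ℕ := 0x2
def c42_1 : ℕ := 0x0
def c42_2 : ℕ := 0x1
def c42_3 : ℕ := 0x0
def c42_4 : ℕ := 0x0
def c42_5 : ℕ := 0x0
def c42_6 : ℕ := 0x0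
def c42_7 : ℕ := 0x0
def c42_8 : ℕ := 0x102
def c42_9 : ℕ := 0x1
def c42_10 : ℕ := 0x0
def c42_11 : ℕ := 0x0
def c42_12 : ℕ := 0x0
def c42_13 : ℕ := 0x0
def c42_14 : ℕ := 0x0
def c42_15 : ℕ := 0x0
def c42_16 : ℕ := 0x8
def c42_17 : ℕ := 0x0
def c42_18 : ℕ := 0x0
def c42_19 : ℕ := 0x0
def c42_20 : ℕ := 0x0
def c42_21 : ℕ := 0x0
def c42_22 : ℕ := 0x0
def c42_23 : ℕ := 0x0
def c42_24 : ℕ := 0x0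
def c42_25 : ℕ := 0x0
def c42_26 : ℕ := 0x0
def c42_27 : ℕ := 0x0
def c42_28 : ℕ := 0x0
def c42_29 : ℕ := 0x0
def c42_30 : ℕ := 0x0
def c42_31 : ℕ := 0x0
def c42_32 : ℕ := 0x0
def c42_33 : ℕ := 0x0
def c42_34 : ℕ := 0x0
def c42_35 : ℕ := 0x0
def c42_36 : ℕ := 0x0
def c42_37 : ℕ := 0x0
def c42_38 : ℕ := 0x0
def c42_39 : ℕ := 0x0
def c42_40 : ℕ := 0x0
def c42_41 : ℕ := 0x0
def c42_42 : ℕ := 0x0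
def c42_43 : ℕ := 0x0
def c42_44 : ℕ := 0x0
def c42_45 : ℕ := 0x0
def c42_46 : ℕ := 0x0
def c42_47 : ℕ := 0x0
def c42_48 : ℕ := 0x0
def c42_49 : ℕ := 0x0
def c42_50 : ℕ := 0x0
def c42_51 : ℕ := 0x0
def c42_52 : ℕ := 0x0
def c43_0 : ℕ := 0x4009
def c43_1 : ℕ := 0x1
def c43_2 : ℕ := 0x0
def c43_3 : ℕ := 0x0
def c43_4 : ℕ := 0x0
def c43_5 : ℕ := 0x0
def c43_6 : ℕ := 0x0
def c43_7 : ℕ := 0x0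
def c43_8 : ℕ := 0x82
def c43_9 : ℕ := 0x0
def c43_10 : ℕ := 0x0
def c43_11 : ℕ := 0x0
def c43_12 : ℕ := 0x0
def c43_13 : ℕ := 0x0
def c43_14 : ℕ := 0x0
def c43_15 : ℕ := 0x0
def c43_16 : ℕ := 0x0
def c43_17 : ℕ := 0x0
def c43_18 : ℕ := 0x0
def c43_19 : ℕ := 0x0
def c43_20 : ℕ := 0x0
def c43_21 : ℕ := 0x0
def c43_22 : ℕ := 0x0
def c43_23 : ℕ := 0x0
def c43_24 : ℕ := 0x0
def c43_25 : ℕ := 0x0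
def c43_26 : ℕ := 0x0
def c43_27 : ℕ := 0x0
def c43_28 : ℕ := 0x0
def c43_29 : ℕ := 0x0
def c43_30 : ℕ := 0x0
def c43_31 : ℕ := 0x0
def c43_32 : ℕ := 0x0
def c43_33 : ℕ := 0x0
def c43_34 : ℕ := 0x0
def c43_35 : ℕ := 0x0
def c43_36 : ℕ := 0x0
def c43_37 : ℕ := 0x0
def c43_38 : ℕ := 0x0
def c43_39 : ℕ := 0x0
def c43_40 : ℕ := 0x0
def c43_41 : ℕ := 0x0
def c43_42 : ℕ := 0x0
def c43_43 : ℕ := 0x0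
def c43_44 : ℕ := 0x0
def c43_45 : ℕ := 0x0
def c43_46 : ℕ := 0x0
def c43_47 : ℕ := 0x0
def c43_48 : ℕ := 0x0
def c43_49 : ℕ := 0x0
def c43_50 : ℕ := 0x0
def c43_51 : ℕ := 0x0
def c43_52 : ℕ := 0x0
def c44_0 : ℕ := 0x1
def c44_1 : ℕ := 0x0
def c44_2 : ℕ := 0x1
def c44_3 : ℕ := 0x0
def c44_4 : ℕ := 0x0
def c44_5 : ℕ := 0x0
def c44_6 : ℕ := 0x2
def c44_7 : ℕ := 0x0
def c44_8 : ℕ := 0x10002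
def c44_9 : ℕ := 0x0
def c44_10 : ℕ := 0x0
def c44_11 : ℕ := 0x0
def c44_12 : ℕ := 0x0
def c44_13 : ℕ := 0x0
def c44_14 : ℕ := 0x8
def c44_15 : ℕ := 0x0
def c44_16 : ℕ := 0x0
def c44_17 : ℕ := 0x0
def c44_18 : ℕ := 0x0
def c44_19 : ℕ := 0x0
def c44_20 : ℕ := 0x0
def c44_21 : ℕ := 0x0
def c44_22 : ℕ := 0x0
def c44_23 : ℕ := 0x0
def c44_24 : ℕ := 0x0
def c44_25 : ℕ := 0x0
def c44_26 : ℕ := 0x0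
def c44_27 : ℕ := 0x0
def c44_28 : ℕ := 0x0
def c44_29 : ℕ := 0x0
def c44_30 : ℕ := 0x0
def c44_31 : ℕ := 0x0
def c44_32 : ℕ := 0x0
def c44_33 : ℕ := 0x0
def c44_34 : ℕ := 0x0
def c44_35 : ℕ := 0x0
def c44_36 : ℕ := 0x0
def c44_37 : ℕ := 0x0
def c44_38 : ℕ := 0x0
def c44_39 : ℕ := 0x0
def c44_40 : ℕ := 0x0
def c44_41 : ℕ := 0x0
def c44_42 : ℕ := 0x0
def c44_43 : ℕ := 0x0
def c44_44 : ℕ := 0x0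
def c44_45 : ℕ := 0x0
def c44_46 : ℕ := 0x0
def c44_47 : ℕ := 0x0
def c44_48 : ℕ := 0x0
def c44_49 : ℕ := 0x0
def c44_50 : ℕ := 0x2
def c44_51 : ℕ := 0x0
def c44_52 : ℕ := 0x0
def c45_0 : ℕ := 0x1
def c45_1 : ℕ := 0x0
def c45_2 : ℕ := 0x2
def c45_3 : ℕ := 0x1
def c45_4 : ℕ := 0x2
def c45_5 : ℕ := 0x0
def c45_6 : ℕ := 0x0
def c45_7 : ℕ := 0x0
def c45_8 : ℕ := 0x1
def c45_9 : ℕ := 0x10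
def c45_10 : ℕ := 0x101
def c45_11 : ℕ := 0x2
def c45_12 : ℕ := 0x100202
def c45_13 : ℕ := 0x0
def c45_14 : ℕ := 0x0
def c45_15 : ℕ := 0x0
def c45_16 : ℕ := 0x8
def c45_17 : ℕ := 0x0
def c45_18 : ℕ := 0x8
def c45_19 : ℕ := 0xa
def c45_20 : ℕ := 0x0
def c45_21 : ℕ := 0x0
def c45_22 : ℕ := 0x0
def c45_23 : ℕ := 0x0
def c45_24 : ℕ := 0x100
def c45_25 : ℕ := 0x0
def c45_26 : ℕ := 0x100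
def c45_27 : ℕ := 0x0
def c45_28 : ℕ := 0x0
def c45_29 : ℕ := 0x0
def c45_30 : ℕ := 0x0
def c45_31 : ℕ := 0x0
def c45_32 : ℕ := 0x0
def c45_33 : ℕ := 0x200
def c45_34 : ℕ := 0x0
def c45_35 : ℕ := 0x0
def c45_36 : ℕ := 0x2
def c45_37 : ℕ := 0x0
def c45_38 : ℕ := 0x0
def c45_39 : ℕ := 0x0
def c45_40 : ℕ := 0xa
def c45_41 : ℕ := 0x0
def c45_42 : ℕ := 0x0
def c45_43 : ℕ := 0x0
def c45_44 : ℕ := 0x0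
def c45_45 : ℕ := 0x0
def c45_46 : ℕ := 0x0
def c45_47 : ℕ := 0x0
def c45_48 : ℕ := 0x0
def c45_49 : ℕ := 0x0
def c45_50 : ℕ := 0x0
def c45_51 : ℕ := 0x0
def c45_52 : ℕ := 0x100

/-- the certificate -/
def data : FoxData where
  n := 4116
  d := 7
  p := 3
  w := 9
  mw := 512
  cw := 2
  mc := 4
  paths := [[0, 0], [2, 0, 2, 0, 2, 0, 2, 0], [4, 0, 4, 0], [6, 0, 6, 0], [10, 0, 10, 0], [12, 0, 12, 0], [8, 0, 8, 0], [0, 2, 0, 2, 0, 2, 0, 2], [2, 2], [4, 2, 4, 2, 4, 2], [6, 2, 6, 2], [10, 2, 10, 2], [12, 2, 12, 2], [8, 2, 8, 2], [0, 4, 0, 4], [2, 4, 2, 4, 2, 4], [4, 4], [6, 4, 6, 4, 6, 4, 6, 4, 6, 4, 6, 4, 6, 4, 6, 4, 6, 4, 6, 4], [10, 4, 10, 4], [12, 4, 12, 4], [8, 4, 8, 4], [0, 6, 0, 6], [2, 6, 2, 6], [4, 6, 4, 6, 4, 6, 4, 6, 4, 6, 4, 6, 4, 6, 4,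 6, 4, 6, 4, 6], [6, 6], [10, 6, 10, 6, 10, 6], [12, 6, 12, 6, 12, 6], [8, 6, 8, 6, 8, 6], [0, 10, 0, 10], [2, 10, 2, 10], [4, 10, 4, 10], [6, 10, 6, 10, 6, 10], [10, 10], [12, 10, 12, 10, 12, 10, 12, 10], [8, 10, 8, 10], [0, 12, 0, 12], [2, 12, 2, 12], [4, 12, 4, 12], [6, 12, 6, 12, 6, 12], [10, 12, 10, 12, 10, 12, 10, 12], [12, 12], [8, 12, 8, 12], [0, 8, 0, 8], [2, 8, 2, 8], [4, 8, 4, 8], [6, 8, 6, 8, 6, 8], [10, 8, 10, 8], [12, 8, 12, 8], [8, 8], [11, 13, 11, 13, 8], [1, 3, 5, 1, 3, 5, 1, 3, 5, 8], [5, 7, 5, 7, 5, 7, 5, 7, 5, 7, 0], [12, 10, 6, 4, 12, 10, 6, 4, 12, 10, 6, 4, 12, 10, 6, 4]]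
  cycles := [[c0_0, c0_1, c0_2, c0_3, c0_4, c0_5, c0_6, c0_7, c0_8, c0_9, c0_10, c0_11, c0_12, c0_13, c0_14, c0_15, c0_16, c0_17, c0_18, c0_19, c0_20, c0_21, c0_22, c0_23, c0_24, c0_25, c0_26, c0_27, c0_28, c0_29, c0_30, c0_31, c0_32, c0_33, c0_34, c0_35, c0_36, c0_37, c0_38, c0_39, c0_40, c0_41, c0_42, c0_43, c0_44, c0_45, c0_46, c0_47, c0_48, c0_49, c0_50, c0_51, c0_52], [c1_0, c1_1, c1_2, c1_3, c1_4, c1_5, c1_6, c1_7, c1_8, c1_9, c1_10, c1_11, c1_12, c1_13, c1_14, c1_15, c1_16, c1_17, c1_18, c1_19, c1_20, c1_21, c1_22, c1_23, c1_24, c1_25, c1_26, c1_27, c1_28, c1_29, c1_30, c1_31, c1_32, c1_33, c1_34, c1_35, c1_36, c1_37, c1_38, c1_39, c1_40, c1_41, c1_42, c1_43, c1_44, c1_45, c1_46, c1_47, c1_48, c1_49, c1_50, c1_51, c1_52], [c2_0, c2_1, c2_2,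 c2_3, c2_4, c2_5, c2_6, c2_7, c2_8, c2_9, c2_10, c2_11, c2_12, c2_13, c2_14, c2_15, c2_16, c2_17, c2_18, c2_19, c2_20, c2_21, c2_22, c2_23, c2_24, c2_25, c2_26, c2_27, c2_28, c2_29, c2_30, c2_31, c2_32, c2_33, c2_34, c2_35, c2_36, c2_37, c2_38, c2_39, c2_40, c2_41, c2_42, c2_43, c2_44, c2_45, c2_46, c2_47, c2_48, c2_49, c2_50, c2_51, c2_52], [c3_0, c3_1, c3_2, c3_3, c3_4, c3_5, c3_6, c3_7, c3_8, c3_9, c3_10, c3_11, c3_12, c3_13, c3_14, c3_15, c3_16, c3_17, c3_18, c3_19, c3_20, c3_21, c3_22, c3_23, c3_24, c3_25, c3_26, c3_27, c3_28, c3_29, c3_30, c3_31, c3_32, c3_33, c3_34, c3_35, c3_36, c3_37, c3_38, c3_39, c3_40, c3_41, c3_42, c3_43, c3_44, c3_45, c3_46, c3_47, c3_48, c3_49, c3_50, c3_51, c3_52], [c4_0, c4_1, c4_2, c4_3, c4_4, c4_5, c4_6, c4_7,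 c4_8, c4_9, c4_10, c4_11, c4_12, c4_13, c4_14, c4_15, c4_16, c4_17, c4_18, c4_19, c4_20, c4_21, c4_22, c4_23, c4_24, c4_25, c4_26, c4_27, c4_28, c4_29, c4_30, c4_31, c4_32, c4_33, c4_34, c4_35, c4_36, c4_37, c4_38, c4_39, c4_40, c4_41, c4_42, c4_43, c4_44, c4_45, c4_46, c4_47, c4_48, c4_49, c4_50, c4_51, c4_52], [c5_0, c5_1, c5_2, c5_3, c5_4, c5_5, c5_6, c5_7, c5_8, c5_9, c5_10, c5_11, c5_12, c5_13, c5_14, c5_15, c5_16, c5_17, c5_18, c5_19, c5_20, c5_21, c5_22, c5_23, c5_24, c5_25, c5_26, c5_27, c5_28, c5_29, c5_30, c5_31, c5_32, c5_33, c5_34, c5_35, c5_36, c5_37, c5_38, c5_39, c5_40, c5_41, c5_42, c5_43, c5_44, c5_45, c5_46, c5_47, c5_48, c5_49, c5_50, c5_51, c5_52], [c6_0, c6_1, c6_2, c6_3, c6_4, c6_5, c6_6, c6_7, c6_8, c6_9, c6_10, c6_11, c6_12,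 c6_13, c6_14, c6_15, c6_16, c6_17, c6_18, c6_19, c6_20, c6_21, c6_22, c6_23, c6_24, c6_25, c6_26, c6_27, c6_28, c6_29, c6_30, c6_31, c6_32, c6_33, c6_34, c6_35, c6_36, c6_37, c6_38, c6_39, c6_40, c6_41, c6_42, c6_43, c6_44, c6_45, c6_46, c6_47, c6_48, c6_49, c6_50, c6_51, c6_52], [c7_0, c7_1, c7_2, c7_3, c7_4, c7_5, c7_6, c7_7, c7_8, c7_9, c7_10, c7_11, c7_12, c7_13, c7_14, c7_15, c7_16, c7_17, c7_18, c7_19, c7_20, c7_21, c7_22, c7_23, c7_24, c7_25, c7_26, c7_27, c7_28, c7_29, c7_30, c7_31, c7_32, c7_33, c7_34, c7_35, c7_36, c7_37, c7_38, c7_39, c7_40, c7_41, c7_42, c7_43, c7_44, c7_45, c7_46, c7_47, c7_48, c7_49, c7_50, c7_51, c7_52], [c8_0, c8_1, c8_2, c8_3, c8_4, c8_5, c8_6, c8_7, c8_8, c8_9, c8_10, c8_11, c8_12, c8_13, c8_14, c8_15, c8_16, c8_17,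 c8_18, c8_19, c8_20, c8_21, c8_22, c8_23, c8_24, c8_25, c8_26, c8_27, c8_28, c8_29, c8_30, c8_31, c8_32, c8_33, c8_34, c8_35, c8_36, c8_37, c8_38, c8_39, c8_40, c8_41, c8_42, c8_43, c8_44, c8_45, c8_46, c8_47, c8_48, c8_49, c8_50, c8_51, c8_52], [c9_0, c9_1, c9_2, c9_3, c9_4, c9_5, c9_6, c9_7, c9_8, c9_9, c9_10, c9_11, c9_12, c9_13, c9_14, c9_15, c9_16, c9_17, c9_18, c9_19, c9_20, c9_21, c9_22, c9_23, c9_24, c9_25, c9_26, c9_27, c9_28, c9_29, c9_30, c9_31, c9_32, c9_33, c9_34, c9_35, c9_36, c9_37, c9_38, c9_39, c9_40, c9_41, c9_42, c9_43, c9_44, c9_45, c9_46, c9_47, c9_48, c9_49, c9_50, c9_51, c9_52], [c10_0, c10_1, c10_2, c10_3, c10_4, c10_5, c10_6, c10_7, c10_8, c10_9, c10_10, c10_11, c10_12, c10_13, c10_14, c10_15, c10_16, c10_17, c10_18, c10_19,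 c10_20, c10_21, c10_22, c10_23, c10_24, c10_25, c10_26, c10_27, c10_28, c10_29, c10_30, c10_31, c10_32, c10_33, c10_34, c10_35, c10_36, c10_37, c10_38, c10_39, c10_40, c10_41, c10_42, c10_43, c10_44, c10_45, c10_46, c10_47, c10_48, c10_49, c10_50, c10_51, c10_52], [c11_0, c11_1, c11_2, c11_3, c11_4, c11_5, c11_6, c11_7, c11_8, c11_9, c11_10, c11_11, c11_12, c11_13, c11_14, c11_15, c11_16, c11_17, c11_18, c11_19, c11_20, c11_21, c11_22, c11_23, c11_24, c11_25, c11_26, c11_27, c11_28, c11_29, c11_30, c11_31, c11_32, c11_33, c11_34, c11_35, c11_36, c11_37, c11_38, c11_39, c11_40, c11_41, c11_42, c11_43, c11_44, c11_45, c11_46, c11_47, c11_48, c11_49, c11_50, c11_51, c11_52], [c12_0, c12_1, c12_2, c12_3, c12_4, c12_5, c12_6, c12_7, c12_8, c12_9, c12_10,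 c12_11, c12_12, c12_13, c12_14, c12_15, c12_16, c12_17, c12_18, c12_19, c12_20, c12_21, c12_22, c12_23, c12_24, c12_25, c12_26, c12_27, c12_28, c12_29, c12_30, c12_31, c12_32, c12_33, c12_34, c12_35, c12_36, c12_37, c12_38, c12_39, c12_40, c12_41, c12_42, c12_43, c12_44, c12_45, c12_46, c12_47, c12_48, c12_49, c12_50, c12_51, c12_52], [c13_0, c13_1, c13_2, c13_3, c13_4, c13_5, c13_6, c13_7, c13_8, c13_9, c13_10, c13_11, c13_12, c13_13, c13_14, c13_15, c13_16, c13_17, c13_18, c13_19, c13_20, c13_21, c13_22, c13_23, c13_24, c13_25, c13_26, c13_27, c13_28, c13_29, c13_30, c13_31, c13_32, c13_33, c13_34, c13_35, c13_36, c13_37, c13_38, c13_39, c13_40, c13_41, c13_42, c13_43, c13_44, c13_45, c13_46, c13_47, c13_48, c13_49, c13_50, c13_51, c13_52], [c14_0,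 c14_1, c14_2, c14_3, c14_4, c14_5, c14_6, c14_7, c14_8, c14_9, c14_10, c14_11, c14_12, c14_13, c14_14, c14_15, c14_16, c14_17, c14_18, c14_19, c14_20, c14_21, c14_22, c14_23, c14_24, c14_25, c14_26, c14_27, c14_28, c14_29, c14_30, c14_31, c14_32, c14_33, c14_34, c14_35, c14_36, c14_37, c14_38, c14_39, c14_40, c14_41, c14_42, c14_43, c14_44, c14_45, c14_46, c14_47, c14_48, c14_49, c14_50, c14_51, c14_52], [c15_0, c15_1, c15_2, c15_3, c15_4, c15_5, c15_6, c15_7, c15_8, c15_9, c15_10, c15_11, c15_12, c15_13, c15_14, c15_15, c15_16, c15_17, c15_18, c15_19, c15_20, c15_21, c15_22, c15_23, c15_24, c15_25, c15_26, c15_27, c15_28, c15_29, c15_30, c15_31, c15_32, c15_33, c15_34, c15_35, c15_36, c15_37, c15_38, c15_39, c15_40, c15_41, c15_42, c15_43, c15_44,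 c15_45, c15_46, c15_47, c15_48, c15_49, c15_50, c15_51, c15_52], [c16_0, c16_1, c16_2, c16_3, c16_4, c16_5, c16_6, c16_7, c16_8, c16_9, c16_10, c16_11, c16_12, c16_13, c16_14, c16_15, c16_16, c16_17, c16_18, c16_19, c16_20, c16_21, c16_22, c16_23, c16_24, c16_25, c16_26, c16_27, c16_28, c16_29, c16_30, c16_31, c16_32, c16_33, c16_34, c16_35, c16_36, c16_37, c16_38, c16_39, c16_40, c16_41, c16_42, c16_43, c16_44, c16_45, c16_46, c16_47, c16_48, c16_49, c16_50, c16_51, c16_52], [c17_0, c17_1, c17_2, c17_3, c17_4, c17_5, c17_6, c17_7, c17_8, c17_9, c17_10, c17_11, c17_12, c17_13, c17_14, c17_15, c17_16, c17_17, c17_18, c17_19, c17_20, c17_21, c17_22, c17_23, c17_24, c17_25, c17_26, c17_27, c17_28, c17_29, c17_30, c17_31, c17_32, c17_33, c17_34, c17_35,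 c17_36, c17_37, c17_38, c17_39, c17_40, c17_41, c17_42, c17_43, c17_44, c17_45, c17_46, c17_47, c17_48, c17_49, c17_50, c17_51, c17_52], [c18_0, c18_1, c18_2, c18_3, c18_4, c18_5, c18_6, c18_7, c18_8, c18_9, c18_10, c18_11, c18_12, c18_13, c18_14, c18_15, c18_16, c18_17, c18_18, c18_19, c18_20, c18_21, c18_22, c18_23, c18_24, c18_25, c18_26, c18_27, c18_28, c18_29, c18_30, c18_31, c18_32, c18_33, c18_34, c18_35, c18_36, c18_37, c18_38, c18_39, c18_40, c18_41, c18_42, c18_43, c18_44, c18_45, c18_46, c18_47, c18_48, c18_49, c18_50, c18_51, c18_52], [c19_0, c19_1, c19_2, c19_3, c19_4, c19_5, c19_6, c19_7, c19_8, c19_9, c19_10, c19_11, c19_12, c19_13, c19_14, c19_15, c19_16, c19_17, c19_18, c19_19, c19_20, c19_21, c19_22, c19_23, c19_24, c19_25, c19_26,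 c19_27, c19_28, c19_29, c19_30, c19_31, c19_32, c19_33, c19_34, c19_35, c19_36, c19_37, c19_38, c19_39, c19_40, c19_41, c19_42, c19_43, c19_44, c19_45, c19_46, c19_47, c19_48, c19_49, c19_50, c19_51, c19_52], [c20_0, c20_1, c20_2, c20_3, c20_4, c20_5, c20_6, c20_7, c20_8, c20_9, c20_10, c20_11, c20_12, c20_13, c20_14, c20_15, c20_16, c20_17, c20_18, c20_19, c20_20, c20_21, c20_22, c20_23, c20_24, c20_25, c20_26, c20_27, c20_28, c20_29, c20_30, c20_31, c20_32, c20_33, c20_34, c20_35, c20_36, c20_37, c20_38, c20_39, c20_40, c20_41, c20_42, c20_43, c20_44, c20_45, c20_46, c20_47, c20_48, c20_49, c20_50, c20_51, c20_52], [c21_0, c21_1, c21_2, c21_3, c21_4, c21_5, c21_6, c21_7, c21_8, c21_9, c21_10, c21_11, c21_12, c21_13, c21_14, c21_15, c21_16, c21_17,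 c21_18, c21_19, c21_20, c21_21, c21_22, c21_23, c21_24, c21_25, c21_26, c21_27, c21_28, c21_29, c21_30, c21_31, c21_32, c21_33, c21_34, c21_35, c21_36, c21_37, c21_38, c21_39, c21_40, c21_41, c21_42, c21_43, c21_44, c21_45, c21_46, c21_47, c21_48, c21_49, c21_50, c21_51, c21_52], [c22_0, c22_1, c22_2, c22_3, c22_4, c22_5, c22_6, c22_7, c22_8, c22_9, c22_10, c22_11, c22_12, c22_13, c22_14, c22_15, c22_16, c22_17, c22_18, c22_19, c22_20, c22_21, c22_22, c22_23, c22_24, c22_25, c22_26, c22_27, c22_28, c22_29, c22_30, c22_31, c22_32, c22_33, c22_34, c22_35, c22_36, c22_37, c22_38, c22_39, c22_40, c22_41, c22_42, c22_43, c22_44, c22_45, c22_46, c22_47, c22_48, c22_49, c22_50, c22_51, c22_52], [c23_0, c23_1, c23_2, c23_3, c23_4, c23_5, c23_6, c23_7, c23_8,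 c23_9, c23_10, c23_11, c23_12, c23_13, c23_14, c23_15, c23_16, c23_17, c23_18, c23_19, c23_20, c23_21, c23_22, c23_23, c23_24, c23_25, c23_26, c23_27, c23_28, c23_29, c23_30, c23_31, c23_32, c23_33, c23_34, c23_35, c23_36, c23_37, c23_38, c23_39, c23_40, c23_41, c23_42, c23_43, c23_44, c23_45, c23_46, c23_47, c23_48, c23_49, c23_50, c23_51, c23_52], [c24_0, c24_1, c24_2, c24_3, c24_4, c24_5, c24_6, c24_7, c24_8, c24_9, c24_10, c24_11, c24_12, c24_13, c24_14, c24_15, c24_16, c24_17, c24_18, c24_19, c24_20, c24_21, c24_22, c24_23, c24_24, c24_25, c24_26, c24_27, c24_28, c24_29, c24_30, c24_31, c24_32, c24_33, c24_34, c24_35, c24_36, c24_37, c24_38, c24_39, c24_40, c24_41, c24_42, c24_43, c24_44, c24_45, c24_46, c24_47, c24_48, c24_49, c24_50, c24_51,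 c24_52], [c25_0, c25_1, c25_2, c25_3, c25_4, c25_5, c25_6, c25_7, c25_8, c25_9, c25_10, c25_11, c25_12, c25_13, c25_14, c25_15, c25_16, c25_17, c25_18, c25_19, c25_20, c25_21, c25_22, c25_23, c25_24, c25_25, c25_26, c25_27, c25_28, c25_29, c25_30, c25_31, c25_32, c25_33, c25_34, c25_35, c25_36, c25_37, c25_38, c25_39, c25_40, c25_41, c25_42, c25_43, c25_44, c25_45, c25_46, c25_47, c25_48, c25_49, c25_50, c25_51, c25_52], [c26_0, c26_1, c26_2, c26_3, c26_4, c26_5, c26_6, c26_7, c26_8, c26_9, c26_10, c26_11, c26_12, c26_13, c26_14, c26_15, c26_16, c26_17, c26_18, c26_19, c26_20, c26_21, c26_22, c26_23, c26_24, c26_25, c26_26, c26_27, c26_28, c26_29, c26_30, c26_31, c26_32, c26_33, c26_34, c26_35, c26_36, c26_37, c26_38, c26_39, c26_40, c26_41, c26_42,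 c26_43, c26_44, c26_45, c26_46, c26_47, c26_48, c26_49, c26_50, c26_51, c26_52], [c27_0, c27_1, c27_2, c27_3, c27_4, c27_5, c27_6, c27_7, c27_8, c27_9, c27_10, c27_11, c27_12, c27_13, c27_14, c27_15, c27_16, c27_17, c27_18, c27_19, c27_20, c27_21, c27_22, c27_23, c27_24, c27_25, c27_26, c27_27, c27_28, c27_29, c27_30, c27_31, c27_32, c27_33, c27_34, c27_35, c27_36, c27_37, c27_38, c27_39, c27_40, c27_41, c27_42, c27_43, c27_44, c27_45, c27_46, c27_47, c27_48, c27_49, c27_50, c27_51, c27_52], [c28_0, c28_1, c28_2, c28_3, c28_4, c28_5, c28_6, c28_7, c28_8, c28_9, c28_10, c28_11, c28_12, c28_13, c28_14, c28_15, c28_16, c28_17, c28_18, c28_19, c28_20, c28_21, c28_22, c28_23, c28_24, c28_25, c28_26, c28_27, c28_28, c28_29, c28_30, c28_31, c28_32, c28_33,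 c28_34, c28_35, c28_36, c28_37, c28_38, c28_39, c28_40, c28_41, c28_42, c28_43, c28_44, c28_45, c28_46, c28_47, c28_48, c28_49, c28_50, c28_51, c28_52], [c29_0, c29_1, c29_2, c29_3, c29_4, c29_5, c29_6, c29_7, c29_8, c29_9, c29_10, c29_11, c29_12, c29_13, c29_14, c29_15, c29_16, c29_17, c29_18, c29_19, c29_20, c29_21, c29_22, c29_23, c29_24, c29_25, c29_26, c29_27, c29_28, c29_29, c29_30, c29_31, c29_32, c29_33, c29_34, c29_35, c29_36, c29_37, c29_38, c29_39, c29_40, c29_41, c29_42, c29_43, c29_44, c29_45, c29_46, c29_47, c29_48, c29_49, c29_50, c29_51, c29_52], [c30_0, c30_1, c30_2, c30_3, c30_4, c30_5, c30_6, c30_7, c30_8, c30_9, c30_10, c30_11, c30_12, c30_13, c30_14, c30_15, c30_16, c30_17, c30_18, c30_19, c30_20, c30_21, c30_22, c30_23, c30_24,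 c30_25, c30_26, c30_27, c30_28, c30_29, c30_30, c30_31, c30_32, c30_33, c30_34, c30_35, c30_36, c30_37, c30_38, c30_39, c30_40, c30_41, c30_42, c30_43, c30_44, c30_45, c30_46, c30_47, c30_48, c30_49, c30_50, c30_51, c30_52], [c31_0, c31_1, c31_2, c31_3, c31_4, c31_5, c31_6, c31_7, c31_8, c31_9, c31_10, c31_11, c31_12, c31_13, c31_14, c31_15, c31_16, c31_17, c31_18, c31_19, c31_20, c31_21, c31_22, c31_23, c31_24, c31_25, c31_26, c31_27, c31_28, c31_29, c31_30, c31_31, c31_32, c31_33, c31_34, c31_35, c31_36, c31_37, c31_38, c31_39, c31_40, c31_41, c31_42, c31_43, c31_44, c31_45, c31_46, c31_47, c31_48, c31_49, c31_50, c31_51, c31_52], [c32_0, c32_1, c32_2, c32_3, c32_4, c32_5, c32_6, c32_7, c32_8, c32_9, c32_10, c32_11, c32_12, c32_13, c32_14, c32_15,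 c32_16, c32_17, c32_18, c32_19, c32_20, c32_21, c32_22, c32_23, c32_24, c32_25, c32_26, c32_27, c32_28, c32_29, c32_30, c32_31, c32_32, c32_33, c32_34, c32_35, c32_36, c32_37, c32_38, c32_39, c32_40, c32_41, c32_42, c32_43, c32_44, c32_45, c32_46, c32_47, c32_48, c32_49, c32_50, c32_51, c32_52], [c33_0, c33_1, c33_2, c33_3, c33_4, c33_5, c33_6, c33_7, c33_8, c33_9, c33_10, c33_11, c33_12, c33_13, c33_14, c33_15, c33_16, c33_17, c33_18, c33_19, c33_20, c33_21, c33_22, c33_23, c33_24, c33_25, c33_26, c33_27, c33_28, c33_29, c33_30, c33_31, c33_32, c33_33, c33_34, c33_35, c33_36, c33_37, c33_38, c33_39, c33_40, c33_41, c33_42, c33_43, c33_44, c33_45, c33_46, c33_47, c33_48, c33_49, c33_50, c33_51, c33_52], [c34_0, c34_1, c34_2, c34_3, c34_4, c34_5,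 c34_6, c34_7, c34_8, c34_9, c34_10, c34_11, c34_12, c34_13, c34_14, c34_15, c34_16, c34_17, c34_18, c34_19, c34_20, c34_21, c34_22, c34_23, c34_24, c34_25, c34_26, c34_27, c34_28, c34_29, c34_30, c34_31, c34_32, c34_33, c34_34, c34_35, c34_36, c34_37, c34_38, c34_39, c34_40, c34_41, c34_42, c34_43, c34_44, c34_45, c34_46, c34_47, c34_48, c34_49, c34_50, c34_51, c34_52], [c35_0, c35_1, c35_2, c35_3, c35_4, c35_5, c35_6, c35_7, c35_8, c35_9, c35_10, c35_11, c35_12, c35_13, c35_14, c35_15, c35_16, c35_17, c35_18, c35_19, c35_20, c35_21, c35_22, c35_23, c35_24, c35_25, c35_26, c35_27, c35_28, c35_29, c35_30, c35_31, c35_32, c35_33, c35_34, c35_35, c35_36, c35_37, c35_38, c35_39, c35_40, c35_41, c35_42, c35_43, c35_44, c35_45, c35_46, c35_47, c35_48,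 c35_49, c35_50, c35_51, c35_52], [c36_0, c36_1, c36_2, c36_3, c36_4, c36_5, c36_6, c36_7, c36_8, c36_9, c36_10, c36_11, c36_12, c36_13, c36_14, c36_15, c36_16, c36_17, c36_18, c36_19, c36_20, c36_21, c36_22, c36_23, c36_24, c36_25, c36_26, c36_27, c36_28, c36_29, c36_30, c36_31, c36_32, c36_33, c36_34, c36_35, c36_36, c36_37, c36_38, c36_39, c36_40, c36_41, c36_42, c36_43, c36_44, c36_45, c36_46, c36_47, c36_48, c36_49, c36_50, c36_51, c36_52], [c37_0, c37_1, c37_2, c37_3, c37_4, c37_5, c37_6, c37_7, c37_8, c37_9, c37_10, c37_11, c37_12, c37_13, c37_14, c37_15, c37_16, c37_17, c37_18, c37_19, c37_20, c37_21, c37_22, c37_23, c37_24, c37_25, c37_26, c37_27, c37_28, c37_29, c37_30, c37_31, c37_32, c37_33, c37_34, c37_35, c37_36, c37_37, c37_38, c37_39,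 c37_40, c37_41, c37_42, c37_43, c37_44, c37_45, c37_46, c37_47, c37_48, c37_49, c37_50, c37_51, c37_52], [c38_0, c38_1, c38_2, c38_3, c38_4, c38_5, c38_6, c38_7, c38_8, c38_9, c38_10, c38_11, c38_12, c38_13, c38_14, c38_15, c38_16, c38_17, c38_18, c38_19, c38_20, c38_21, c38_22, c38_23, c38_24, c38_25, c38_26, c38_27, c38_28, c38_29, c38_30, c38_31, c38_32, c38_33, c38_34, c38_35, c38_36, c38_37, c38_38, c38_39, c38_40, c38_41, c38_42, c38_43, c38_44, c38_45, c38_46, c38_47, c38_48, c38_49, c38_50, c38_51, c38_52], [c39_0, c39_1, c39_2, c39_3, c39_4, c39_5, c39_6, c39_7, c39_8, c39_9, c39_10, c39_11, c39_12, c39_13, c39_14, c39_15, c39_16, c39_17, c39_18, c39_19, c39_20, c39_21, c39_22, c39_23, c39_24, c39_25, c39_26, c39_27, c39_28, c39_29, c39_30,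 c39_31, c39_32, c39_33, c39_34, c39_35, c39_36, c39_37, c39_38, c39_39, c39_40, c39_41, c39_42, c39_43, c39_44, c39_45, c39_46, c39_47, c39_48, c39_49, c39_50, c39_51, c39_52], [c40_0, c40_1, c40_2, c40_3, c40_4, c40_5, c40_6, c40_7, c40_8, c40_9, c40_10, c40_11, c40_12, c40_13, c40_14, c40_15, c40_16, c40_17, c40_18, c40_19, c40_20, c40_21, c40_22, c40_23, c40_24, c40_25, c40_26, c40_27, c40_28, c40_29, c40_30, c40_31, c40_32, c40_33, c40_34, c40_35, c40_36, c40_37, c40_38, c40_39, c40_40, c40_41, c40_42, c40_43, c40_44, c40_45, c40_46, c40_47, c40_48, c40_49, c40_50, c40_51, c40_52], [c41_0, c41_1, c41_2, c41_3, c41_4, c41_5, c41_6, c41_7, c41_8, c41_9, c41_10, c41_11, c41_12, c41_13, c41_14, c41_15, c41_16, c41_17, c41_18, c41_19, c41_20, c41_21,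 c41_22, c41_23, c41_24, c41_25, c41_26, c41_27, c41_28, c41_29, c41_30, c41_31, c41_32, c41_33, c41_34, c41_35, c41_36, c41_37, c41_38, c41_39, c41_40, c41_41, c41_42, c41_43, c41_44, c41_45, c41_46, c41_47, c41_48, c41_49, c41_50, c41_51, c41_52], [c42_0, c42_1, c42_2, c42_3, c42_4, c42_5, c42_6, c42_7, c42_8, c42_9, c42_10, c42_11, c42_12, c42_13, c42_14, c42_15, c42_16, c42_17, c42_18, c42_19, c42_20, c42_21, c42_22, c42_23, c42_24, c42_25, c42_26, c42_27, c42_28, c42_29, c42_30, c42_31, c42_32, c42_33, c42_34, c42_35, c42_36, c42_37, c42_38, c42_39, c42_40, c42_41, c42_42, c42_43, c42_44, c42_45, c42_46, c42_47, c42_48, c42_49, c42_50, c42_51, c42_52], [c43_0, c43_1, c43_2, c43_3, c43_4, c43_5, c43_6, c43_7, c43_8, c43_9, c43_10, c43_11, c43_12,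 c43_13, c43_14, c43_15, c43_16, c43_17, c43_18, c43_19, c43_20, c43_21, c43_22, c43_23, c43_24, c43_25, c43_26, c43_27, c43_28, c43_29, c43_30, c43_31, c43_32, c43_33, c43_34, c43_35, c43_36, c43_37, c43_38, c43_39, c43_40, c43_41, c43_42, c43_43, c43_44, c43_45, c43_46, c43_47, c43_48, c43_49, c43_50, c43_51, c43_52], [c44_0, c44_1, c44_2, c44_3, c44_4, c44_5, c44_6, c44_7, c44_8, c44_9, c44_10, c44_11, c44_12, c44_13, c44_14, c44_15, c44_16, c44_17, c44_18, c44_19, c44_20, c44_21, c44_22, c44_23, c44_24, c44_25, c44_26, c44_27, c44_28, c44_29, c44_30, c44_31, c44_32, c44_33, c44_34, c44_35, c44_36, c44_37, c44_38, c44_39, c44_40, c44_41, c44_42, c44_43, c44_44, c44_45, c44_46, c44_47, c44_48, c44_49, c44_50, c44_51, c44_52], [c45_0, c45_1, c45_2,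 c45_3, c45_4, c45_5, c45_6, c45_7, c45_8, c45_9, c45_10, c45_11, c45_12, c45_13, c45_14, c45_15, c45_16, c45_17, c45_18, c45_19, c45_20, c45_21, c45_22, c45_23, c45_24, c45_25, c45_26, c45_27, c45_28, c45_29, c45_30, c45_31, c45_32, c45_33, c45_34, c45_35, c45_36, c45_37, c45_38, c45_39, c45_40, c45_41, c45_42, c45_43, c45_44, c45_45, c45_46, c45_47, c45_48, c45_49, c45_50, c45_51, c45_52]]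
  Lam := [[0, 0, 0, 0, 0, 0, 0, 0, 0, 0, 0, 0, 0, 0, 0, 0, 0, 0, 0, 0, 0, 0, 0, 0, 0, 1, 0, 0, 0, 0, 0, 0, 0, 0, 0, 0, 0, 0, 0, 0, 0, 0, 0, 0, 0, 0, 0, 0, 0, 0, 0, 0, 0], [0, 0, 0, 0, 0, 0, 0, 0, 0, 0, 0, 0, 0, 0, 0, 0, 0, 0, 0, 0, 0, 0, 0, 0, 0, 0, 0, 1, 0, 0, 0, 0, 0, 0, 0, 0, 0, 0, 0, 0, 0, 0, 0, 0, 0, 0, 0, 0, 0, 0, 0, 0, 0], [0, 0, 0, 0, 0, 0, 0, 0, 0, 0, 0, 0, 0, 0, 0, 0, 0, 0, 0, 0, 0, 0, 0, 0, 0, 0, 0, 0, 0, 0, 0, 1, 0, 0, 0, 0, 0, 0, 0, 0, 0, 0, 0, 0, 0, 0, 0, 0, 0, 0, 0, 0, 0], [0, 0, 0, 0, 0, 0, 0, 0, 0, 0, 0, 0, 0, 0, 0, 0, 0, 0, 0, 0, 0, 0, 0, 0, 0, 0, 0, 0, 0, 0, 0, 0, 0, 0, 0, 0, 0, 0, 0, 0, 0, 0, 0, 0, 0, 1, 0, 0, 0, 0, 0, 0, 0], [0, 0, 0, 0, 0, 0, 0, 0, 0, 0, 0, 0, 0, 0, 0, 0, 0, 0, 0, 0, 0, 0, 0, 0, 0, 0, 1, 0, 0, 0, 0, 0, 0, 0,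 0, 0, 0, 0, 0, 0, 0, 0, 0, 0, 0, 0, 0, 0, 0, 0, 0, 0, 0], [0, 0, 0, 0, 0, 0, 0, 0, 0, 0, 0, 0, 0, 0, 0, 0, 0, 0, 0, 0, 0, 0, 0, 0, 0, 0, 0, 0, 0, 0, 0, 0, 0, 0, 0, 0, 0, 0, 1, 0, 0, 0, 0, 0, 0, 0, 0, 0, 0, 0, 0, 0, 0], [0, 0, 2, 0, 0, 0, 0, 0, 0, 0, 0, 0, 0, 0, 1, 0, 0, 0, 0, 0, 0, 0, 0, 0, 0, 0, 0, 0, 0, 0, 0, 0, 0, 0, 0, 0, 0, 0, 0, 0, 0, 0, 0, 0, 0, 0, 0, 0, 0, 0, 0, 0, 0], [0, 0, 0, 2, 0, 0, 0, 0, 0, 0, 0, 0, 0, 0, 0, 0, 0, 0, 0, 0, 0, 1, 0, 0, 0, 0, 0, 0, 0, 0, 0, 0, 0, 0, 0, 0, 0, 0, 0, 0, 0, 0, 0, 0, 0, 0, 0, 0, 0, 0, 0, 0, 0], [0, 0, 0, 0, 2, 0, 0, 0, 0, 0, 0, 0, 0, 0, 0, 0, 0, 0, 0, 0, 0, 0, 0, 0, 0, 0, 0, 0, 1, 0, 0, 0, 0, 0, 0, 0, 0, 0, 0, 0, 0, 0, 0, 0, 0, 0, 0, 0, 0, 0, 0, 0, 0], [0, 0, 0, 0, 0, 0, 2, 0, 0, 0, 0, 0, 0, 0, 0, 0, 0, 0,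 0, 0, 0, 0, 0, 0, 0, 0, 0, 0, 0, 0, 0, 0, 0, 0, 0, 0, 0, 0, 0, 0, 0, 0, 1, 0, 0, 0, 0, 0, 0, 0, 0, 0, 0], [0, 0, 0, 0, 0, 0, 0, 0, 0, 0, 2, 0, 0, 0, 0, 0, 0, 0, 0, 0, 0, 0, 1, 0, 0, 0, 0, 0, 0, 0, 0, 0, 0, 0, 0, 0, 0, 0, 0, 0, 0, 0, 0, 0, 0, 0, 0, 0, 0, 0, 0, 0, 0], [0, 0, 0, 0, 0, 0, 0, 0, 0, 0, 0, 2, 0, 0, 0, 0, 0, 0, 0, 0, 0, 0, 0, 0, 0, 0, 0, 0, 0, 1, 0, 0, 0, 0, 0, 0, 0, 0, 0, 0, 0, 0, 0, 0, 0, 0, 0, 0, 0, 0, 0, 0, 0], [0, 0, 0, 0, 0, 0, 0, 0, 0, 0, 0, 0, 0, 2, 0, 0, 0, 0, 0, 0, 0, 0, 0, 0, 0, 0, 0, 0, 0, 0, 0, 0, 0, 0, 0, 0, 0, 0, 0, 0, 0, 0, 0, 1, 0, 0, 0, 0, 0, 0, 0, 0, 0], [0, 0, 0, 0, 0, 2, 0, 0, 0, 0, 0, 0, 0, 0, 0, 0, 0, 0, 0, 0, 0, 0, 0, 0, 0, 0, 0, 0, 0, 0, 0, 0, 0, 0, 0, 1, 0, 0, 0, 0, 0, 0, 0, 0, 0, 0, 0, 0, 0, 0, 0, 0, 0], [0, 0,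 0, 0, 0, 0, 0, 0, 0, 0, 0, 0, 0, 0, 0, 0, 0, 0, 0, 2, 0, 0, 0, 0, 0, 0, 0, 0, 0, 0, 0, 0, 0, 0, 0, 0, 0, 1, 0, 0, 0, 0, 0, 0, 0, 0, 0, 0, 0, 0, 0, 0, 0], [0, 0, 0, 0, 0, 0, 0, 0, 0, 0, 0, 0, 0, 0, 0, 0, 0, 0, 0, 0, 0, 0, 0, 0, 0, 0, 0, 0, 0, 0, 0, 0, 0, 2, 0, 0, 0, 0, 0, 1, 0, 0, 0, 0, 0, 0, 0, 0, 0, 0, 0, 0, 0], [0, 0, 0, 0, 0, 0, 0, 0, 0, 0, 0, 0, 0, 0, 0, 0, 0, 0, 0, 0, 0, 0, 0, 0, 0, 0, 0, 0, 0, 0, 0, 0, 0, 0, 0, 0, 0, 0, 0, 0, 0, 2, 0, 0, 0, 0, 0, 1, 0, 0, 0, 0, 0], [0, 0, 0, 0, 0, 0, 0, 0, 0, 2, 0, 0, 0, 0, 0, 1, 0, 0, 0, 0, 0, 0, 0, 0, 0, 0, 0, 0, 0, 0, 0, 0, 0, 0, 0, 0, 0, 0, 0, 0, 0, 0, 0, 0, 0, 0, 0, 0, 0, 0, 0, 0, 0], [0, 0, 0, 0, 0, 0, 0, 0, 0, 0, 0, 0, 0, 0, 0, 0, 0, 0, 2, 0, 0, 0, 0, 0, 0, 0, 0, 0, 0, 0, 1, 0, 0, 0, 0, 0, 0, 0, 0,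 0, 0, 0, 0, 0, 0, 0, 0, 0, 0, 0, 0, 0, 0], [0, 0, 0, 0, 0, 0, 0, 0, 0, 0, 0, 0, 0, 0, 0, 0, 0, 0, 0, 0, 2, 0, 0, 0, 0, 0, 0, 0, 0, 0, 0, 0, 0, 0, 0, 0, 0, 0, 0, 0, 0, 0, 0, 0, 1, 0, 0, 0, 0, 0, 0, 0, 0], [0, 0, 0, 0, 0, 0, 0, 0, 0, 0, 0, 0, 1, 0, 0, 0, 0, 0, 0, 0, 0, 0, 0, 0, 0, 0, 0, 0, 0, 0, 0, 0, 0, 0, 0, 0, 2, 0, 0, 0, 0, 0, 0, 0, 0, 0, 0, 0, 0, 0, 0, 0, 0], [0, 2, 0, 0, 0, 0, 0, 1, 0, 0, 0, 0, 0, 0, 0, 0, 0, 0, 0, 0, 0, 0, 0, 0, 0, 0, 0, 0, 0, 0, 0, 0, 0, 0, 0, 0, 0, 0, 0, 0, 0, 0, 0, 0, 0, 0, 0, 0, 0, 0, 0, 0, 0], [0, 0, 0, 0, 0, 0, 0, 0, 0, 0, 0, 0, 0, 0, 0, 0, 0, 0, 0, 0, 0, 0, 0, 0, 0, 0, 0, 0, 0, 0, 0, 0, 0, 0, 1, 0, 0, 0, 0, 0, 0, 0, 0, 0, 0, 0, 2, 0, 0, 0, 0, 0, 0], [0, 0, 0, 0, 0, 0, 0, 0, 0, 0, 0, 0, 0, 0, 0, 0, 0, 2, 0, 0, 0, 0, 0,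 1, 0, 0, 0, 0, 0, 0, 0, 0, 0, 0, 0, 0, 0, 0, 0, 0, 0, 0, 0, 0, 0, 0, 0, 0, 0, 0, 0, 0, 0], [1, 0, 2, 0, 0, 0, 0, 0, 0, 0, 0, 0, 0, 0, 0, 0, 1, 0, 0, 0, 0, 0, 0, 0, 0, 0, 0, 0, 0, 0, 0, 0, 0, 0, 0, 0, 0, 0, 0, 0, 0, 0, 0, 0, 0, 0, 0, 0, 0, 0, 0, 0, 0], [1, 0, 0, 2, 0, 0, 0, 0, 0, 0, 0, 0, 0, 0, 0, 0, 0, 0, 0, 0, 0, 0, 0, 0, 1, 0, 0, 0, 0, 0, 0, 0, 0, 0, 0, 0, 0, 0, 0, 0, 0, 0, 0, 0, 0, 0, 0, 0, 0, 0, 0, 0, 0], [1, 0, 0, 0, 2, 0, 0, 0, 0, 0, 0, 0, 0, 0, 0, 0, 0, 0, 0, 0, 0, 0, 0, 0, 0, 0, 0, 0, 0, 0, 0, 0, 1, 0, 0, 0, 0, 0, 0, 0, 0, 0, 0, 0, 0, 0, 0, 0, 0, 0, 0, 0, 0], [1, 0, 0, 0, 0, 0, 2, 0, 0, 0, 0, 0, 0, 0, 0, 0, 0, 0, 0, 0, 0, 0, 0, 0, 0, 0, 0, 0, 0, 0, 0, 0, 0, 0, 0, 0, 0, 0, 0, 0, 0, 0, 0, 0, 0, 0, 0, 0, 1, 0, 0, 0, 0], [1, 0, 1, 1, 0, 0, 0,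 0, 0, 0, 0, 0, 0, 0, 0, 0, 0, 1, 0, 0, 0, 0, 0, 0, 0, 0, 0, 0, 0, 0, 0, 0, 0, 0, 0, 0, 0, 0, 0, 0, 0, 0, 0, 0, 0, 0, 0, 0, 0, 0, 0, 0, 0], [2, 0, 2, 0, 2, 0, 0, 0, 0, 0, 0, 0, 0, 0, 0, 0, 0, 0, 1, 0, 0, 0, 0, 0, 0, 0, 0, 0, 0, 0, 0, 0, 0, 0, 0, 0, 0, 0, 0, 0, 0, 0, 0, 0, 0, 0, 0, 0, 0, 0, 0, 0, 0], [2, 0, 2, 0, 0, 0, 2, 0, 0, 0, 0, 0, 0, 0, 0, 0, 0, 0, 0, 0, 1, 0, 0, 0, 0, 0, 0, 0, 0, 0, 0, 0, 0, 0, 0, 0, 0, 0, 0, 0, 0, 0, 0, 0, 0, 0, 0, 0, 0, 0, 0, 0, 0], [2, 0, 0, 0, 2, 0, 2, 0, 0, 0, 0, 0, 0, 0, 0, 0, 0, 0, 0, 0, 0, 0, 0, 0, 0, 0, 0, 0, 0, 0, 0, 0, 0, 0, 1, 0, 0, 0, 0, 0, 0, 0, 0, 0, 0, 0, 0, 0, 0, 0, 0, 0, 0], [2, 0, 1, 1, 0, 0, 0, 0, 0, 0, 0, 0, 0, 0, 0, 0, 0, 0, 0, 0, 0, 0, 0, 0, 0, 0, 0, 0, 0, 0, 0, 0, 0, 0, 0, 0, 0, 0, 0, 0, 0, 0, 0, 0,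 0, 0, 0, 0, 0, 0, 0, 1, 0], [2, 0, 0, 0, 0, 0, 1, 0, 0, 0, 0, 0, 0, 0, 0, 0, 0, 0, 0, 0, 0, 0, 0, 0, 0, 0, 0, 0, 0, 0, 0, 0, 0, 2, 0, 0, 0, 0, 0, 0, 0, 0, 0, 0, 0, 0, 0, 0, 0, 1, 0, 0, 0], [2, 0, 0, 0, 0, 1, 0, 0, 0, 0, 0, 0, 0, 0, 0, 0, 0, 0, 0, 0, 0, 0, 0, 0, 0, 0, 0, 0, 0, 0, 0, 0, 0, 0, 0, 0, 0, 0, 0, 0, 2, 0, 0, 0, 0, 0, 0, 0, 0, 0, 0, 0, 0], [2, 0, 0, 1, 0, 0, 0, 0, 2, 0, 1, 0, 0, 0, 0, 0, 0, 0, 0, 0, 0, 0, 0, 0, 1, 0, 0, 0, 0, 0, 0, 0, 0, 0, 0, 0, 0, 0, 0, 0, 0, 0, 0, 0, 0, 0, 0, 0, 0, 0, 0, 0, 0], [2, 0, 0, 0, 1, 0, 0, 0, 2, 0, 0, 1, 0, 0, 0, 0, 0, 0, 0, 0, 0, 0, 0, 0, 0, 0, 0, 0, 0, 0, 0, 0, 1, 0, 0, 0, 0, 0, 0, 0, 0, 0, 0, 0, 0, 0, 0, 0, 0, 0, 0, 0, 0], [2, 0, 0, 0, 0, 0, 1, 0, 2, 0, 0, 0, 0, 1, 0, 0, 0, 0, 0, 0, 0, 0, 0, 0, 0, 0, 0, 0,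 0, 0, 0, 0, 0, 0, 0, 0, 0, 0, 0, 0, 0, 0, 0, 0, 0, 0, 0, 0, 1, 0, 0, 0, 0], [0, 0, 2, 0, 0, 1, 0, 0, 0, 0, 0, 0, 0, 0, 0, 0, 0, 0, 0, 1, 0, 0, 0, 0, 0, 0, 0, 0, 0, 0, 0, 0, 0, 0, 0, 0, 0, 0, 0, 0, 1, 0, 0, 0, 0, 0, 0, 0, 0, 0, 0, 0, 0], [0, 0, 0, 0, 2, 1, 0, 0, 0, 0, 0, 0, 0, 0, 0, 0, 0, 0, 0, 0, 0, 0, 0, 0, 0, 0, 0, 0, 0, 0, 0, 0, 0, 2, 0, 0, 0, 0, 0, 0, 1, 0, 0, 0, 0, 0, 0, 0, 0, 0, 0, 0, 0], [0, 0, 0, 0, 0, 1, 2, 0, 0, 0, 0, 0, 0, 0, 0, 0, 0, 0, 0, 0, 0, 0, 0, 0, 0, 0, 0, 0, 0, 0, 0, 0, 0, 0, 0, 0, 0, 0, 0, 0, 1, 1, 0, 0, 0, 0, 0, 0, 0, 0, 0, 0, 0], [0, 0, 0, 0, 0, 0, 0, 0, 0, 0, 0, 0, 2, 1, 0, 0, 0, 0, 0, 0, 0, 0, 0, 0, 0, 0, 0, 0, 0, 0, 0, 0, 0, 0, 0, 0, 0, 0, 0, 0, 0, 1, 0, 0, 0, 0, 0, 0, 1, 0, 0, 0, 0], [2, 0, 1, 0, 0, 0, 0, 0, 3, 1, 0, 0,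 0, 0, 0, 0, 2, 0, 0, 0, 0, 0, 0, 0, 0, 0, 0, 0, 0, 0, 0, 0, 0, 0, 0, 0, 0, 0, 0, 0, 0, 0, 0, 0, 0, 0, 0, 0, 0, 0, 0, 0, 0], [4, 1, 0, 0, 0, 0, 0, 0, 4, 0, 0, 0, 0, 0, 0, 0, 0, 0, 0, 0, 0, 0, 0, 0, 0, 0, 0, 0, 0, 0, 0, 0, 0, 0, 0, 0, 0, 0, 0, 0, 0, 0, 0, 0, 0, 0, 0, 0, 0, 0, 0, 0, 0], [1, 0, 1, 0, 0, 0, 2, 0, 3, 0, 0, 0, 0, 0, 2, 0, 0, 0, 0, 0, 0, 0, 0, 0, 0, 0, 0, 0, 0, 0, 0, 0, 0, 0, 0, 0, 0, 0, 0, 0, 0, 0, 0, 0, 0, 0, 0, 0, 0, 0, 2, 0, 0], [1, 0, 2, 1, 2, 0, 0, 0, 1, 1, 2, 2, 5, 0, 0, 0, 2, 0, 2, 4, 0, 0, 0, 0, 1, 0, 1, 0, 0, 0, 0, 0, 0, 2, 0, 0, 2, 0, 0, 0, 4, 0, 0, 0, 0, 0, 0, 0, 0, 0, 0, 0, 1]]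
  S := [[2, 0, 0, 0, 0, 0, 0, 0, 0, 0, 0, 0, 0, 0, 0, 0, 0, 0, 0, 0, 0, 0, 0, 0, 0, 0, 0, 0, 0, 0, 0, 0, 0, 0, 0, 0, 0, 0, 0, 0, 0, 0, 0, 0, 0, 0, 0, 0, 0, 0, 0, 0, 0], [1, 1, 0, 0, 0, 0, 0, 0, 0, 0, 0, 0, 0, 0, 0, 0, 0, 0, 0, 0, 0, 0, 0, 0, 0, 0, 0, 0, 0, 0, 0, 0, 0, 0, 0, 0, 0, 0, 0, 0, 0, 0, 0, 0, 0, 0, 0, 0, 0, 0, 0, 0, 0], [1, 0, 2, 0, 0, 0, 0, 0, 0, 0, 0, 0, 0, 0, 0, 0, 0, 0, 0, 0, 0, 0, 0, 0, 0, 0, 0, 0, 0, 0, 0, 0, 0, 0, 0, 0, 0, 0, 0, 0, 0, 0, 0, 0, 0, 0, 0, 0, 0, 0, 0, 0, 0], [1, 0, 0, 2, 0, 0, 0, 0, 0, 0, 0, 0, 0, 0, 0, 0, 0, 0, 0, 0, 0, 0, 0, 0, 0, 0, 0, 0, 0, 0, 0, 0, 0, 0, 0, 0, 0, 0, 0, 0, 0, 0, 0, 0, 0, 0, 0, 0, 0, 0, 0, 0, 0], [1, 0, 0, 0, 0, 0, 2, 0, 0, 0, 0, 0, 0, 0, 0, 0, 0, 0, 0, 0, 0, 0, 0, 0, 0, 0, 0, 0, 0, 0, 0, 0, 0, 0,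 0, 0, 0, 0, 0, 0, 0, 0, 0, 0, 0, 0, 0, 0, 0, 0, 0, 0, 0], [1, 0, 0, 0, 2, 0, 0, 0, 0, 0, 0, 0, 0, 0, 0, 0, 0, 0, 0, 0, 0, 0, 0, 0, 0, 0, 0, 0, 0, 0, 0, 0, 0, 0, 0, 0, 0, 0, 0, 0, 0, 0, 0, 0, 0, 0, 0, 0, 0, 0, 0, 0, 0], [1, 0, 0, 0, 0, 2, 0, 0, 0, 0, 0, 0, 0, 0, 0, 0, 0, 0, 0, 0, 0, 0, 0, 0, 0, 0, 0, 0, 0, 0, 0, 0, 0, 0, 0, 0, 0, 0, 0, 0, 0, 0, 0, 0, 0, 0, 0, 0, 0, 0, 0, 0, 0]]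
  Tm := [[0, 0, 0, 0, 0, 0, 0, 0, 0, 0, 0, 0, 0, 0, 0, 0, 0, 0, 0, 0, 0, 0, 0, 0, 0, 0, 0, 0, 0, 0, 0, 0, 0, 0, 0, 0, 0, 0, 0, 0, 0, 0, 0, 0, 0, 0], [0, 0, 0, 0, 0, 0, 0, 0, 0, 0, 0, 0, 0, 0, 0, 0, 0, 0, 0, 0, 0, 0, 0, 0, 0, 0, 0, 0, 0, 0, 0, 0, 0, 0, 0, 0, 0, 0, 0, 0, 0, 0, 0, 0, 0, 0], [0, 0, 0, 0, 0, 0, 0, 0, 0, 0, 0, 0, 0, 0, 0, 0, 0, 0, 0, 0, 0, 0, 0, 0, 0, 0, 0, 0, 0, 0, 0, 0, 0, 0, 0, 0, 0, 0, 0, 0, 0, 0, 0, 0, 0, 0], [0, 0, 0, 0, 0, 0, 0, 0, 0, 0, 0, 0, 0, 0, 0, 0, 0, 0, 0, 0, 0, 0, 0, 0, 0, 0, 0, 0, 0, 0, 0, 0, 0, 0, 0, 0, 0, 0, 0, 0, 0, 0, 0, 0, 0, 0], [0, 0, 0, 0, 0, 0, 0, 0, 0, 0, 0, 0, 0, 0, 0, 0, 0, 0, 0, 0, 0, 0, 0, 0, 0, 0, 0, 0, 0, 0, 0, 0, 0, 0, 0, 0, 0, 0, 0, 0, 0, 0, 0, 0, 0, 0], [0, 0, 0, 0, 0, 0, 0, 0, 0, 0, 0, 0, 0, 0, 0,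 0, 0, 0, 0, 0, 0, 0, 0, 0, 0, 0, 0, 0, 0, 0, 0, 0, 0, 0, 0, 0, 0, 0, 0, 0, 0, 0, 0, 0, 0, 0], [0, 0, 0, 0, 0, 0, 0, 0, 0, 0, 0, 0, 0, 0, 0, 0, 0, 0, 0, 0, 0, 0, 0, 0, 0, 0, 0, 0, 0, 0, 0, 0, 0, 0, 0, 0, 0, 0, 0, 0, 0, 0, 0, 0, 0, 0], [0, 0, 0, 0, 0, 0, 0, 0, 0, 0, 0, 0, 0, 0, 0, 0, 0, 0, 0, 0, 0, 1, 0, 0, 0, 0, 0, 0, 0, 0, 0, 0, 0, 0, 0, 0, 0, 0, 0, 0, 0, 0, 0, 0, 0, 0], [0, 0, 0, 0, 0, 0, 0, 0, 0, 0, 0, 0, 0, 0, 0, 0, 0, 0, 0, 0, 0, 0, 0, 0, 0, 0, 0, 0, 0, 0, 0, 0, 0, 0, 0, 0, 0, 0, 0, 0, 0, 0, 0, 1, 0, 0], [0, 0, 0, 0, 0, 0, 0, 0, 0, 0, 0, 0, 0, 0, 0, 0, 0, 0, 0, 0, 0, 0, 0, 0, 1, 0, 0, 0, 0, 0, 0, 0, 0, 0, 0, 0, 0, 0, 0, 0, 0, 0, 1, 0, 0, 0], [0, 0, 0, 0, 0, 0, 0, 0, 0, 0, 0, 0, 0, 0, 0, 0, 0, 0, 0, 0, 0, 0, 0, 0, 0, 2, 0, 0, 0, 0, 0, 0, 0, 0,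 0, 1, 0, 0, 0, 0, 0, 0, 0, 1, 0, 0], [0, 0, 0, 0, 0, 0, 0, 0, 0, 0, 0, 0, 0, 0, 0, 0, 0, 0, 0, 0, 0, 0, 0, 0, 0, 0, 2, 0, 0, 0, 0, 0, 0, 0, 0, 0, 1, 0, 0, 0, 0, 0, 0, 1, 0, 0], [0, 0, 0, 0, 0, 0, 0, 0, 0, 0, 0, 0, 0, 0, 0, 0, 0, 0, 0, 0, 0, 0, 0, 0, 0, 0, 0, 0, 0, 0, 0, 0, 0, 0, 1, 0, 0, 1, 0, 0, 1, 2, 0, 1, 0, 0], [0, 0, 0, 0, 0, 0, 0, 0, 0, 0, 0, 0, 0, 0, 0, 0, 0, 0, 0, 0, 0, 0, 0, 0, 0, 0, 0, 2, 0, 0, 0, 0, 0, 0, 0, 0, 0, 1, 0, 0, 0, 0, 0, 1, 0, 0], [0, 0, 0, 0, 0, 0, 1, 0, 0, 0, 0, 0, 0, 0, 0, 0, 0, 0, 0, 0, 0, 0, 0, 0, 0, 0, 0, 0, 0, 0, 0, 0, 0, 0, 0, 0, 0, 0, 0, 0, 0, 0, 0, 0, 0, 0], [0, 0, 0, 0, 0, 0, 0, 0, 0, 0, 0, 0, 0, 0, 0, 0, 0, 1, 0, 0, 0, 0, 0, 0, 1, 0, 0, 0, 0, 0, 0, 0, 0, 0, 0, 0, 0, 0, 0, 0, 0, 0, 1, 0, 0, 0], [0, 0, 0, 0, 0, 0,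 0, 0, 0, 0, 0, 0, 0, 0, 0, 0, 0, 0, 0, 0, 0, 0, 0, 0, 1, 0, 0, 0, 0, 0, 0, 0, 0, 0, 0, 0, 0, 0, 0, 0, 0, 0, 0, 0, 0, 0], [0, 0, 0, 0, 0, 0, 0, 0, 0, 0, 0, 0, 0, 0, 0, 0, 0, 0, 0, 0, 0, 0, 0, 0, 0, 0, 0, 0, 1, 0, 0, 0, 0, 0, 0, 0, 0, 0, 0, 0, 0, 0, 0, 0, 0, 0], [0, 0, 0, 0, 0, 0, 0, 0, 0, 0, 0, 0, 0, 0, 0, 0, 0, 0, 0, 0, 0, 0, 0, 0, 0, 0, 0, 0, 0, 1, 0, 0, 0, 0, 0, 0, 0, 0, 0, 0, 0, 0, 0, 0, 0, 0], [0, 0, 0, 0, 0, 0, 0, 0, 0, 0, 0, 0, 0, 0, 0, 0, 0, 0, 0, 0, 0, 0, 0, 0, 0, 0, 0, 0, 0, 0, 0, 0, 0, 0, 1, 0, 0, 0, 1, 0, 0, 0, 0, 0, 0, 0], [0, 0, 0, 0, 0, 0, 0, 0, 0, 0, 0, 0, 0, 0, 0, 0, 0, 0, 0, 0, 0, 0, 0, 0, 0, 0, 0, 0, 0, 0, 1, 0, 0, 0, 0, 0, 0, 0, 0, 0, 0, 0, 0, 0, 0, 0], [0, 0, 0, 0, 0, 0, 0, 1, 0, 0, 0, 0, 0, 0, 0, 0, 0, 0, 0, 0, 0, 0, 0, 0, 0,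 0, 0, 0, 0, 0, 0, 0, 0, 0, 0, 0, 0, 0, 0, 0, 0, 0, 0, 0, 0, 0], [0, 0, 0, 0, 0, 0, 0, 0, 0, 0, 1, 0, 0, 0, 0, 0, 0, 0, 0, 0, 0, 0, 0, 0, 0, 2, 0, 0, 0, 0, 0, 0, 0, 0, 0, 1, 0, 0, 0, 0, 0, 0, 0, 1, 0, 0], [0, 0, 0, 0, 0, 0, 0, 0, 0, 0, 0, 0, 0, 0, 0, 0, 0, 0, 0, 0, 0, 0, 0, 1, 0, 0, 0, 0, 1, 0, 0, 0, 0, 0, 0, 0, 0, 0, 0, 0, 0, 0, 0, 0, 0, 0], [0, 0, 0, 0, 0, 0, 0, 0, 0, 0, 0, 0, 0, 0, 0, 0, 0, 0, 0, 0, 0, 0, 0, 0, 0, 1, 0, 0, 0, 0, 0, 0, 0, 0, 0, 0, 0, 0, 0, 0, 0, 0, 0, 0, 0, 0], [1, 0, 0, 0, 0, 0, 0, 0, 0, 0, 0, 0, 0, 0, 0, 0, 0, 0, 0, 0, 0, 0, 0, 0, 0, 0, 0, 0, 0, 0, 0, 0, 0, 0, 0, 0, 0, 0, 0, 0, 0, 0, 0, 0, 0, 0], [0, 0, 0, 0, 1, 0, 0, 0, 0, 0, 0, 0, 0, 0, 0, 0, 0, 0, 0, 0, 0, 0, 0, 0, 0, 0, 0, 0, 0, 0, 0, 0, 0, 0, 0, 0, 0, 0, 0, 0, 0, 0, 0, 0,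 0, 0], [0, 1, 0, 0, 0, 0, 0, 0, 0, 0, 0, 0, 0, 0, 0, 0, 0, 0, 0, 0, 0, 0, 0, 0, 0, 0, 0, 0, 0, 0, 0, 0, 0, 0, 0, 0, 0, 0, 0, 0, 0, 0, 0, 0, 0, 0], [0, 0, 0, 0, 0, 0, 0, 0, 1, 0, 0, 0, 0, 0, 0, 0, 0, 0, 0, 0, 0, 0, 0, 0, 0, 0, 0, 0, 0, 0, 0, 0, 0, 0, 0, 0, 0, 0, 0, 0, 0, 0, 0, 0, 0, 0], [0, 0, 0, 0, 0, 0, 0, 0, 0, 0, 0, 1, 0, 0, 0, 0, 0, 0, 0, 0, 0, 0, 0, 0, 0, 0, 2, 0, 0, 0, 0, 0, 0, 0, 0, 0, 1, 0, 0, 0, 0, 0, 0, 1, 0, 0], [0, 0, 0, 0, 0, 0, 0, 0, 0, 0, 0, 0, 0, 0, 0, 0, 0, 0, 1, 0, 0, 0, 0, 0, 0, 0, 0, 0, 0, 1, 0, 0, 0, 0, 0, 0, 0, 0, 0, 0, 0, 0, 0, 0, 0, 0], [0, 0, 1, 0, 0, 0, 0, 0, 0, 0, 0, 0, 0, 0, 0, 0, 0, 0, 0, 0, 0, 0, 0, 0, 0, 0, 0, 0, 0, 0, 0, 0, 0, 0, 0, 0, 0, 0, 0, 0, 0, 0, 0, 0, 0, 0], [0, 0, 0, 0, 0, 0, 0, 0, 0, 0, 0, 0, 0, 0, 0, 0,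 0, 0, 0, 0, 0, 0, 0, 0, 0, 0, 1, 0, 0, 0, 0, 0, 0, 0, 0, 0, 0, 0, 0, 0, 0, 0, 0, 0, 0, 0], [0, 0, 0, 0, 0, 0, 0, 0, 0, 0, 0, 0, 0, 0, 0, 0, 0, 0, 0, 0, 0, 0, 0, 0, 0, 0, 0, 0, 0, 0, 0, 0, 0, 0, 2, 0, 0, 0, 0, 2, 0, 0, 0, 0, 0, 0], [0, 0, 0, 0, 0, 0, 0, 0, 0, 0, 0, 0, 0, 0, 0, 0, 0, 0, 0, 0, 0, 0, 0, 0, 0, 0, 0, 0, 0, 0, 0, 1, 0, 0, 0, 0, 0, 0, 0, 0, 0, 0, 0, 0, 0, 0], [0, 0, 0, 0, 0, 0, 0, 0, 0, 0, 0, 0, 0, 1, 0, 0, 0, 0, 0, 0, 0, 0, 0, 0, 0, 0, 0, 0, 0, 0, 0, 0, 0, 0, 0, 0, 0, 0, 0, 0, 0, 0, 0, 0, 0, 0], [0, 0, 0, 0, 0, 0, 0, 0, 0, 0, 0, 0, 0, 0, 0, 0, 0, 0, 0, 0, 2, 0, 0, 0, 0, 0, 0, 0, 0, 0, 0, 0, 0, 0, 1, 0, 0, 1, 0, 0, 1, 2, 0, 1, 0, 0], [0, 0, 0, 0, 0, 0, 0, 0, 0, 0, 0, 0, 0, 0, 1, 0, 0, 0, 0, 0, 0, 0, 0, 0, 0, 0, 0, 0, 0, 0, 0, 0, 0, 0, 1,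 0, 0, 0, 1, 0, 0, 0, 0, 0, 0, 0], [0, 0, 0, 0, 0, 1, 0, 0, 0, 0, 0, 0, 0, 0, 0, 0, 0, 0, 0, 0, 0, 0, 0, 0, 0, 0, 0, 0, 0, 0, 0, 0, 0, 0, 0, 0, 0, 0, 0, 0, 0, 0, 0, 0, 0, 0], [0, 0, 0, 0, 0, 0, 0, 0, 0, 0, 0, 0, 0, 0, 0, 1, 0, 0, 0, 0, 0, 0, 0, 0, 0, 0, 0, 0, 0, 0, 0, 0, 0, 0, 2, 0, 0, 0, 0, 2, 0, 0, 0, 0, 0, 0], [0, 0, 0, 0, 0, 0, 0, 0, 0, 0, 0, 0, 0, 0, 0, 0, 0, 0, 0, 0, 0, 0, 0, 0, 0, 0, 0, 0, 0, 0, 0, 0, 0, 0, 2, 0, 0, 0, 0, 0, 0, 0, 0, 0, 0, 0], [0, 0, 0, 0, 0, 0, 0, 0, 0, 0, 0, 0, 0, 0, 0, 0, 0, 0, 0, 0, 0, 0, 0, 0, 0, 0, 0, 0, 0, 0, 0, 0, 0, 0, 1, 0, 0, 0, 0, 0, 1, 0, 0, 0, 0, 0], [0, 0, 0, 0, 0, 0, 0, 0, 0, 1, 0, 0, 0, 0, 0, 0, 0, 0, 0, 0, 0, 0, 0, 0, 0, 0, 0, 0, 0, 0, 0, 0, 0, 0, 0, 0, 0, 0, 0, 0, 0, 0, 0, 0, 0, 0], [0, 0, 0, 0, 0, 0, 0,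 0, 0, 0, 0, 0, 1, 0, 0, 0, 0, 0, 0, 0, 0, 0, 0, 0, 0, 0, 0, 2, 0, 0, 0, 0, 0, 0, 0, 0, 0, 1, 0, 0, 0, 0, 0, 1, 0, 0], [0, 0, 0, 0, 0, 0, 0, 0, 0, 0, 0, 0, 0, 0, 0, 0, 0, 0, 0, 1, 0, 0, 0, 0, 0, 0, 0, 0, 0, 0, 1, 0, 0, 0, 0, 0, 0, 0, 0, 0, 0, 0, 0, 0, 0, 0], [0, 0, 0, 1, 0, 0, 0, 0, 0, 0, 0, 0, 0, 0, 0, 0, 0, 0, 0, 0, 0, 0, 0, 0, 0, 0, 0, 0, 0, 0, 0, 0, 0, 0, 0, 0, 0, 0, 0, 0, 0, 0, 0, 0, 0, 0], [0, 0, 0, 0, 0, 0, 0, 0, 0, 0, 0, 0, 0, 0, 0, 0, 0, 0, 0, 0, 0, 0, 2, 0, 0, 0, 0, 0, 0, 0, 0, 1, 0, 0, 0, 0, 0, 0, 0, 0, 0, 0, 0, 0, 0, 0], [0, 0, 0, 0, 0, 0, 0, 0, 0, 0, 0, 0, 0, 0, 0, 0, 1, 0, 0, 0, 0, 0, 0, 0, 0, 0, 0, 0, 0, 0, 0, 0, 0, 0, 1, 0, 0, 0, 0, 0, 1, 0, 0, 0, 0, 0], [0, 0, 0, 0, 0, 0, 0, 0, 0, 0, 0, 0, 0, 0, 0, 0, 0, 0, 0, 0, 0, 0, 0, 0, 0, 0,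 0, 1, 0, 0, 0, 0, 0, 0, 0, 0, 0, 0, 0, 0, 0, 0, 0, 0, 0, 0], [0, 0, 0, 0, 0, 0, 0, 0, 0, 0, 0, 0, 0, 0, 0, 0, 0, 0, 0, 0, 0, 0, 0, 0, 0, 0, 0, 0, 0, 0, 0, 0, 0, 1, 2, 0, 0, 0, 0, 2, 0, 0, 0, 0, 0, 0], [0, 0, 0, 0, 0, 0, 2, 0, 0, 0, 0, 0, 0, 0, 0, 0, 0, 0, 0, 0, 0, 0, 0, 0, 0, 0, 0, 0, 0, 0, 0, 0, 0, 0, 0, 0, 0, 0, 0, 0, 0, 0, 0, 0, 2, 0], [0, 0, 0, 0, 0, 0, 0, 0, 0, 0, 0, 0, 0, 0, 0, 0, 0, 0, 0, 0, 0, 0, 0, 0, 0, 0, 0, 0, 0, 0, 0, 0, 1, 0, 0, 0, 0, 0, 0, 0, 0, 0, 0, 0, 0, 0], [0, 0, 0, 0, 2, 0, 0, 0, 0, 0, 0, 0, 0, 0, 0, 0, 0, 0, 0, 0, 2, 0, 0, 0, 0, 1, 2, 0, 0, 1, 0, 0, 0, 0, 1, 1, 1, 2, 2, 2, 2, 1, 2, 0, 0, 1]]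

end Cfsg.Agent.Lib.Helper28.FoxHeS0P3
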