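import Cfsg.Agent.Lib.Helper28.SchurFoxD
set_option autoImplicit false

namespace Cfsg.Agent.Lib.Helper28.FoxHeS1P2
open Cfsg.Agent.Lib.Helper28.SchurFox

def c0_0 : ℕ := 0x1
def c0_1 : ℕ := 0x0
def c0_2 : ℕ := 0x0
def c0_3 : ℕ := 0x0
def c0_4 : ℕ := 0x0
def c0_5 : ℕ := 0x0
def c0_6 : ℕ := 0x0
def c0_7 : ℕ := 0x0
def c1_0 : ℕ := 0x0
def c1_1 : ℕ := 0x0
def c1_2 : ℕ := 0x1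
def c1_3 : ℕ := 0x0
def c1_4 : ℕ := 0x0
def c1_5 : ℕ := 0x0
def c1_6 : ℕ := 0x0
def c1_7 : ℕ := 0x0
def c2_0 : ℕ := 0x0
def c2_1 : ℕ := 0x0
def c2_2 : ℕ := 0x0
def c2_3 : ℕ := 0x0
def c2_4 : ℕ := 0x10000
def c2_5 : ℕ := 0x0
def c2_6 : ℕ := 0x0
def c2_7 : ℕ := 0x0
def c3_0 : ℕ := 0x0
def c3_1 : ℕ := 0x0
def c3_2 : ℕ := 0x0
def c3_3 : ℕ := 0x0
def c3_4 : ℕ := 0x0
def c3_5 : ℕ := 0x10000000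
def c3_6 : ℕ := 0x0
def c3_7 : ℕ := 0x0
def c4_0 : ℕ := 0x400410000
def c4_1 : ℕ := 0x0
def c4_2 : ℕ := 0x14000
def c4_3 : ℕ := 0x0
def c4_4 : ℕ := 0x99
def c4_5 : ℕ := 0x410090
def c4_6 : ℕ := 0x1000b
def c4_7 : ℕ := 0x1

/-- the certificate -/
def data : FoxData where
  n := 240
  d := 3
  p := 2
  w := 8
  mw := 256
  cw := 1
  mc := 2
  paths := [[0, 0], [2, 2, 2, 2, 2, 2, 2, 2, 2, 2, 2, 2, 2, 2, 2, 2, 2], [0, 2, 0, 3, 3, 0, 2, 0, 3, 3], [0, 3, 3, 3, 3, 3, 0, 3, 3, 3, 3, 3, 0, 3, 3, 3, 3, 3], [4, 4], [4, 0, 4, 0], [0, 2, 0, 4, 3, 4, 2, 4, 3, 4, 2, 4, 0, 3], [0, 3, 4, 2, 4, 2, 2, 0, 2, 4, 2, 4, 3, 0, 3, 0, 3, 3]]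
  cycles := [[c0_0, c0_1, c0_2, c0_3, c0_4, c0_5, c0_6, c0_7], [c1_0, c1_1, c1_2, c1_3, c1_4, c1_5, c1_6, c1_7], [c2_0, c2_1, c2_2, c2_3, c2_4, c2_5, c2_6, c2_7], [c3_0, c3_1, c3_2, c3_3, c3_4, c3_5, c3_6, c3_7], [c4_0, c4_1, c4_2, c4_3, c4_4, c4_5, c4_6, c4_7]]
  Lam := [[1, 0, 0, 0, 0, 0, 0, 0], [0, 0, 1, 0, 0, 0, 0, 0], [0, 0, 0, 0, 1, 0, 0, 0], [0, 0, 0, 0, 0, 1, 0, 0], [3, 0, 2, 0, 4, 4, 4, 1]]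
  S := [[0, 1, 0, 1, 0, 0, 0, 0], [0, 1, 0, 0, 0, 0, 0, 0], [0, 1, 0, 1, 0, 0, 1, 0]]
  Tm := [[1, 0, 0, 0, 0], [0, 0, 0, 0, 0], [0, 1, 0, 0, 0], [0, 0, 0, 0, 0], [0, 0, 1, 0, 0], [0, 0, 0, 1, 0], [0, 0, 0, 0, 0], [1, 0, 0, 0, 1]]

end Cfsg.Agent.Lib.Helper28.FoxHeS1P2
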