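import Cfsg.Agent.Lib.Helper28.SchurFoxD
set_option autoImplicit false

namespace Cfsg.Agent.Lib.Helper28.FoxHeS2P2
open Cfsg.Agent.Lib.Helper28.SchurFox

def c0_0 : ℕ := 0x400000020810005000004445088
def c0_1 : ℕ := 0x0
def c0_2 : ℕ := 0x2001005046000
def c0_3 : ℕ := 0x200008000000000
def c1_0 : ℕ := 0x8000010000000000000000000c00000025400a1
def c1_1 : ℕ := 0x200020003
def c1_2 : ℕ := 0x4000000000000000000000000000000008000000000202a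
def c1_3 : ℕ := 0x40000100210

/-- the certificate -/
def data : FoxData where
  n := 240
  d := 2
  p := 2
  w := 9
  mw := 512
  cw := 1
  mc := 2
  paths := [[0, 0], [2, 2, 2, 2, 2, 2, 2, 2, 2, 2, 2, 2, 2, 2, 2, 2, 2], [0, 2, 0, 3, 3, 0, 2, 0, 3, 3], [0, 3, 3, 3, 3, 3, 0, 3, 3, 3, 3, 3, 0, 3, 3, 3, 3, 3]]
  cycles := [[c0_0, c0_1, c0_2, c0_3], [c1_0, c1_1, c1_2, c1_3]]
  Lam := [[13, 0, 7, 2], [11, 4, 6, 4]]
  S := [[0, 1, 0, 1], [0, 1, 0, 0]]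
  Tm := [[0, 1], [0, 0], [1, 1], [0, 0]]

end Cfsg.Agent.Lib.Helper28.FoxHeS2P2
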