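import Cfsg.Agent.Lib.Helper28.SchurFoxD
set_option autoImplicit false

namespace Cfsg.Agent.Lib.Helper28.FoxHeS2P3
open Cfsg.Agent.Lib.Helper28.SchurFox

def c0_0 : ℕ := 0x800a2
def c0_1 : ℕ := 0x400000001
def c0_2 : ℕ := 0x41
def c0_3 : ℕ := 0x0
def c1_0 : ℕ := 0x15000000400000110111011014440
def c1_1 : ℕ := 0x0
def c1_2 : ℕ := 0x80000080000000000200280a0808
def c1_3 : ℕ := 0x40001

/-- the certificate -/
def data : FoxData where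
  n := 240
  d := 2
  p := 3
  w := 10
  mw := 1024
  cw := 2
  mc := 4
  paths := [[0, 0], [2, 2, 2, 2, 2, 2, 2, 2, 2, 2, 2, 2, 2, 2, 2, 2, 2], [0, 2, 0, 3, 3, 0, 2, 0, 3, 3], [0, 3, 3, 3, 3, 3, 0, 3, 3, 3, 3, 3, 0, 3, 3, 3, 3, 3]]
  cycles := [[c0_0, c0_1, c0_2, c0_3], [c1_0, c1_1, c1_2, c1_3]]
  Lam := [[8, 2, 2, 0], [15, 0, 18, 2]]
  S := [[2, 0, 0, 0], [0, 2, 0, 0]]
  Tm := [[0, 0], [0, 0], [2, 0], [0, 2]]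

end Cfsg.Agent.Lib.Helper28.FoxHeS2P3
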