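import Cfsg.Agent.Lib.Helper28.SchurFoxD
set_option autoImplicit false

namespace Cfsg.Agent.Lib.Helper28.FoxHeS2P5
open Cfsg.Agent.Lib.Helper28.SchurFox

def c0_0 : ℕ := 0x20000904
def c0_1 : ℕ := 0x8000000000001
def c0_2 : ℕ := 0x201
def c0_3 : ℕ := 0x0
def c1_0 : ℕ := 0x12400000000080000000010400410400410192088c3
def c1_1 : ℕ := 0x0
def c1_2 : ℕ := 0x800000000800000000000000004000120024020422
def c1_3 : ℕ := 0x8000001

/-- the certificate -/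
def data : FoxData where
  n := 240
  d := 2
  p := 5
  w := 12
  mw := 4096
  cw := 3
  mc := 8
  paths := [[0, 0], [2, 2, 2, 2, 2, 2, 2, 2, 2, 2, 2, 2, 2, 2, 2, 2, 2], [0, 2, 0, 3, 3, 0, 2, 0, 3, 3], [0, 3, 3, 3, 3, 3, 0, 3, 3, 3, 3, 3, 0, 3, 3, 3, 3, 3]]
  cycles := [[c0_0, c0_1, c0_2, c0_3], [c1_0, c1_1, c1_2, c1_3]]
  Lam := [[16, 2, 2, 0], [27, 0, 40, 2]]
  S := [[3, 0, 0, 0], [0, 3, 0, 0]]
  Tm := [[0, 0], [0, 0], [3, 0], [0, 3]]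

end Cfsg.Agent.Lib.Helper28.FoxHeS2P5
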