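import Cfsg.Agent.Lib.Helper28.SchurFoxD
set_option autoImplicit false

namespace Cfsg.Agent.Lib.Helper28.FoxM24W0P2
open Cfsg.Agent.Lib.Helper28.SchurFox

def c0_0 : ℕ := 0x1
def c0_1 : ℕ := 0x0
def c0_2 : ℕ := 0x0
def c0_3 : ℕ := 0x0
def c0_4 : ℕ := 0x0
def c0_5 : ℕ := 0x0
def c0_6 : ℕ := 0x0
def c0_7 : ℕ := 0x0
def c0_8 : ℕ := 0x0
def c0_9 : ℕ := 0x0
def c0_10 : ℕ := 0x0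
def c0_11 : ℕ := 0x0
def c0_12 : ℕ := 0x0
def c0_13 : ℕ := 0x0
def c0_14 : ℕ := 0x0
def c0_15 : ℕ := 0x0
def c0_16 : ℕ := 0x0
def c0_17 : ℕ := 0x0
def c0_18 : ℕ := 0x0
def c0_19 : ℕ := 0x0
def c0_20 : ℕ := 0x0
def c0_21 : ℕ := 0x0
def c0_22 : ℕ := 0x0
def c0_23 : ℕ := 0x0
def c0_24 : ℕ := 0x0
def c0_25 : ℕ := 0x0
def c0_26 : ℕ := 0x0
def c1_0 : ℕ := 0x0
def c1_1 : ℕ := 0x1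
def c1_2 : ℕ := 0x0
def c1_3 : ℕ := 0x0
def c1_4 : ℕ := 0x0
def c1_5 : ℕ := 0x0
def c1_6 : ℕ := 0x0
def c1_7 : ℕ := 0x0
def c1_8 : ℕ := 0x0
def c1_9 : ℕ := 0x0
def c1_10 : ℕ := 0x0
def c1_11 : ℕ := 0x0
def c1_12 : ℕ := 0x0
def c1_13 : ℕ := 0x0
def c1_14 : ℕ := 0x0
def c1_15 : ℕ := 0x0
def c1_16 : ℕ := 0x0
def c1_17 : ℕ := 0x0
def c1_18 : ℕ := 0x0
def c1_19 : ℕ := 0x0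
def c1_20 : ℕ := 0x0
def c1_21 : ℕ := 0x0
def c1_22 : ℕ := 0x0
def c1_23 : ℕ := 0x0
def c1_24 : ℕ := 0x0
def c1_25 : ℕ := 0x0
def c1_26 : ℕ := 0x0
def c2_0 : ℕ := 0x0
def c2_1 : ℕ := 0x0
def c2_2 : ℕ := 0x0
def c2_3 : ℕ := 0x1
def c2_4 : ℕ := 0x0
def c2_5 : ℕ := 0x0
def c2_6 : ℕ := 0x0
def c2_7 : ℕ := 0x0
def c2_8 : ℕ := 0x0
def c2_9 : ℕ := 0x0
def c2_10 : ℕ := 0x0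
def c2_11 : ℕ := 0x0
def c2_12 : ℕ := 0x0
def c2_13 : ℕ := 0x0
def c2_14 : ℕ := 0x0
def c2_15 : ℕ := 0x0
def c2_16 : ℕ := 0x0
def c2_17 : ℕ := 0x0
def c2_18 : ℕ := 0x0
def c2_19 : ℕ := 0x0
def c2_20 : ℕ := 0x0
def c2_21 : ℕ := 0x0
def c2_22 : ℕ := 0x0
def c2_23 : ℕ := 0x0
def c2_24 : ℕ := 0x0
def c2_25 : ℕ := 0x0
def c2_26 : ℕ := 0x0
def c3_0 : ℕ := 0x0
def c3_1 : ℕ := 0x0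
def c3_2 : ℕ := 0x0
def c3_3 : ℕ := 0x0
def c3_4 : ℕ := 0x0
def c3_5 : ℕ := 0x1
def c3_6 : ℕ := 0x0
def c3_7 : ℕ := 0x0
def c3_8 : ℕ := 0x0
def c3_9 : ℕ := 0x0
def c3_10 : ℕ := 0x0
def c3_11 : ℕ := 0x0
def c3_12 : ℕ := 0x0
def c3_13 : ℕ := 0x0
def c3_14 : ℕ := 0x0
def c3_15 : ℕ := 0x0
def c3_16 : ℕ := 0x0
def c3_17 : ℕ := 0x0
def c3_18 : ℕ := 0x0
def c3_19 : ℕ := 0x0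
def c3_20 : ℕ := 0x0
def c3_21 : ℕ := 0x0
def c3_22 : ℕ := 0x0
def c3_23 : ℕ := 0x0
def c3_24 : ℕ := 0x0
def c3_25 : ℕ := 0x0
def c3_26 : ℕ := 0x0
def c4_0 : ℕ := 0x0
def c4_1 : ℕ := 0x0
def c4_2 : ℕ := 0x0
def c4_3 : ℕ := 0x0
def c4_4 : ℕ := 0x0
def c4_5 : ℕ := 0x0
def c4_6 : ℕ := 0x1
def c4_7 : ℕ := 0x0
def c4_8 : ℕ := 0x0
def c4_9 : ℕ := 0x0
def c4_10 : ℕ := 0x0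
def c4_11 : ℕ := 0x0
def c4_12 : ℕ := 0x0
def c4_13 : ℕ := 0x0
def c4_14 : ℕ := 0x0
def c4_15 : ℕ := 0x0
def c4_16 : ℕ := 0x0
def c4_17 : ℕ := 0x0
def c4_18 : ℕ := 0x0
def c4_19 : ℕ := 0x0
def c4_20 : ℕ := 0x0
def c4_21 : ℕ := 0x0
def c4_22 : ℕ := 0x0
def c4_23 : ℕ := 0x0
def c4_24 : ℕ := 0x0
def c4_25 : ℕ := 0x0
def c4_26 : ℕ := 0x0
def c5_0 : ℕ := 0x0
def c5_1 : ℕ := 0x0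
def c5_2 : ℕ := 0x0
def c5_3 : ℕ := 0x0
def c5_4 : ℕ := 0x0
def c5_5 : ℕ := 0x0
def c5_6 : ℕ := 0x0
def c5_7 : ℕ := 0x1
def c5_8 : ℕ := 0x0
def c5_9 : ℕ := 0x0
def c5_10 : ℕ := 0x0
def c5_11 : ℕ := 0x0
def c5_12 : ℕ := 0x0
def c5_13 : ℕ := 0x0
def c5_14 : ℕ := 0x0
def c5_15 : ℕ := 0x0
def c5_16 : ℕ := 0x0
def c5_17 : ℕ := 0x0
def c5_18 : ℕ := 0x0
def c5_19 : ℕ := 0x0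
def c5_20 : ℕ := 0x0
def c5_21 : ℕ := 0x0
def c5_22 : ℕ := 0x0
def c5_23 : ℕ := 0x0
def c5_24 : ℕ := 0x0
def c5_25 : ℕ := 0x0
def c5_26 : ℕ := 0x0
def c6_0 : ℕ := 0x0
def c6_1 : ℕ := 0x0
def c6_2 : ℕ := 0x0
def c6_3 : ℕ := 0x0
def c6_4 : ℕ := 0x0
def c6_5 : ℕ := 0x0
def c6_6 : ℕ := 0x0
def c6_7 : ℕ := 0x0
def c6_8 : ℕ := 0x1
def c6_9 : ℕ := 0x0
def c6_10 : ℕ := 0x0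
def c6_11 : ℕ := 0x0
def c6_12 : ℕ := 0x0
def c6_13 : ℕ := 0x0
def c6_14 : ℕ := 0x0
def c6_15 : ℕ := 0x0
def c6_16 : ℕ := 0x0
def c6_17 : ℕ := 0x0
def c6_18 : ℕ := 0x0
def c6_19 : ℕ := 0x0
def c6_20 : ℕ := 0x0
def c6_21 : ℕ := 0x0
def c6_22 : ℕ := 0x0
def c6_23 : ℕ := 0x0
def c6_24 : ℕ := 0x0
def c6_25 : ℕ := 0x0
def c6_26 : ℕ := 0x0
def c7_0 : ℕ := 0x0
def c7_1 : ℕ := 0x0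
def c7_2 : ℕ := 0x0
def c7_3 : ℕ := 0x0
def c7_4 : ℕ := 0x0
def c7_5 : ℕ := 0x0
def c7_6 : ℕ := 0x0
def c7_7 : ℕ := 0x0
def c7_8 : ℕ := 0x0
def c7_9 : ℕ := 0x1
def c7_10 : ℕ := 0x0
def c7_11 : ℕ := 0x0
def c7_12 : ℕ := 0x0
def c7_13 : ℕ := 0x0
def c7_14 : ℕ := 0x0
def c7_15 : ℕ := 0x0
def c7_16 : ℕ := 0x0
def c7_17 : ℕ := 0x0
def c7_18 : ℕ := 0x0
def c7_19 : ℕ := 0x0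
def c7_20 : ℕ := 0x0
def c7_21 : ℕ := 0x0
def c7_22 : ℕ := 0x0
def c7_23 : ℕ := 0x0
def c7_24 : ℕ := 0x0
def c7_25 : ℕ := 0x0
def c7_26 : ℕ := 0x0
def c8_0 : ℕ := 0x0
def c8_1 : ℕ := 0x0
def c8_2 : ℕ := 0x0
def c8_3 : ℕ := 0x0
def c8_4 : ℕ := 0x0
def c8_5 : ℕ := 0x0
def c8_6 : ℕ := 0x0
def c8_7 : ℕ := 0x0
def c8_8 : ℕ := 0x0
def c8_9 : ℕ := 0x0
def c8_10 : ℕ := 0x0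
def c8_11 : ℕ := 0x0
def c8_12 : ℕ := 0x0
def c8_13 : ℕ := 0x0
def c8_14 : ℕ := 0x0
def c8_15 : ℕ := 0x0
def c8_16 : ℕ := 0x0
def c8_17 : ℕ := 0x0
def c8_18 : ℕ := 0x1
def c8_19 : ℕ := 0x0
def c8_20 : ℕ := 0x0
def c8_21 : ℕ := 0x0
def c8_22 : ℕ := 0x0
def c8_23 : ℕ := 0x0
def c8_24 : ℕ := 0x0
def c8_25 : ℕ := 0x0
def c8_26 : ℕ := 0x0
def c9_0 : ℕ := 0x0
def c9_1 : ℕ := 0x0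
def c9_2 : ℕ := 0x0
def c9_3 : ℕ := 0x0
def c9_4 : ℕ := 0x0
def c9_5 : ℕ := 0x0
def c9_6 : ℕ := 0x0
def c9_7 : ℕ := 0x0
def c9_8 : ℕ := 0x0
def c9_9 : ℕ := 0x0
def c9_10 : ℕ := 0x1
def c9_11 : ℕ := 0x1
def c9_12 : ℕ := 0x0
def c9_13 : ℕ := 0x0
def c9_14 : ℕ := 0x0
def c9_15 : ℕ := 0x0
def c9_16 : ℕ := 0x0
def c9_17 : ℕ := 0x0
def c9_18 : ℕ := 0x0
def c9_19 : ℕ := 0x0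
def c9_20 : ℕ := 0x0
def c9_21 : ℕ := 0x0
def c9_22 : ℕ := 0x0
def c9_23 : ℕ := 0x0
def c9_24 : ℕ := 0x0
def c9_25 : ℕ := 0x0
def c9_26 : ℕ := 0x0
def c10_0 : ℕ := 0x0
def c10_1 : ℕ := 0x0
def c10_2 : ℕ := 0x0
def c10_3 : ℕ := 0x0
def c10_4 : ℕ := 0x0
def c10_5 : ℕ := 0x0
def c10_6 : ℕ := 0x0
def c10_7 : ℕ := 0x0
def c10_8 : ℕ := 0x0
def c10_9 : ℕ := 0x0
def c10_10 : ℕ := 0x1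
def c10_11 : ℕ := 0x0
def c10_12 : ℕ := 0x1
def c10_13 : ℕ := 0x0
def c10_14 : ℕ := 0x0
def c10_15 : ℕ := 0x0
def c10_16 : ℕ := 0x0
def c10_17 : ℕ := 0x0
def c10_18 : ℕ := 0x0
def c10_19 : ℕ := 0x0
def c10_20 : ℕ := 0x0
def c10_21 : ℕ := 0x0
def c10_22 : ℕ := 0x0
def c10_23 : ℕ := 0x0
def c10_24 : ℕ := 0x0
def c10_25 : ℕ := 0x0
def c10_26 : ℕ := 0x0
def c11_0 : ℕ := 0x0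
def c11_1 : ℕ := 0x0
def c11_2 : ℕ := 0x0
def c11_3 : ℕ := 0x0
def c11_4 : ℕ := 0x1
def c11_5 : ℕ := 0x0
def c11_6 : ℕ := 0x0
def c11_7 : ℕ := 0x0
def c11_8 : ℕ := 0x0
def c11_9 : ℕ := 0x0
def c11_10 : ℕ := 0x0
def c11_11 : ℕ := 0x0
def c11_12 : ℕ := 0x0
def c11_13 : ℕ := 0x1
def c11_14 : ℕ := 0x0
def c11_15 : ℕ := 0x0
def c11_16 : ℕ := 0x0
def c11_17 : ℕ := 0x0
def c11_18 : ℕ := 0x0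
def c11_19 : ℕ := 0x0
def c11_20 : ℕ := 0x0
def c11_21 : ℕ := 0x0
def c11_22 : ℕ := 0x0
def c11_23 : ℕ := 0x0
def c11_24 : ℕ := 0x0
def c11_25 : ℕ := 0x0
def c11_26 : ℕ := 0x0
def c12_0 : ℕ := 0x0
def c12_1 : ℕ := 0x0
def c12_2 : ℕ := 0x0
def c12_3 : ℕ := 0x0
def c12_4 : ℕ := 0x1
def c12_5 : ℕ := 0x0
def c12_6 : ℕ := 0x0
def c12_7 : ℕ := 0x0
def c12_8 : ℕ := 0x0
def c12_9 : ℕ := 0x0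
def c12_10 : ℕ := 0x0
def c12_11 : ℕ := 0x0
def c12_12 : ℕ := 0x0
def c12_13 : ℕ := 0x0
def c12_14 : ℕ := 0x1
def c12_15 : ℕ := 0x0
def c12_16 : ℕ := 0x0
def c12_17 : ℕ := 0x0
def c12_18 : ℕ := 0x0
def c12_19 : ℕ := 0x0
def c12_20 : ℕ := 0x0
def c12_21 : ℕ := 0x0
def c12_22 : ℕ := 0x0
def c12_23 : ℕ := 0x0
def c12_24 : ℕ := 0x0
def c12_25 : ℕ := 0x0
def c12_26 : ℕ := 0x0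
def c13_0 : ℕ := 0x0
def c13_1 : ℕ := 0x0
def c13_2 : ℕ := 0x0
def c13_3 : ℕ := 0x0
def c13_4 : ℕ := 0x0
def c13_5 : ℕ := 0x0
def c13_6 : ℕ := 0x0
def c13_7 : ℕ := 0x0
def c13_8 : ℕ := 0x0
def c13_9 : ℕ := 0x0
def c13_10 : ℕ := 0x1
def c13_11 : ℕ := 0x0
def c13_12 : ℕ := 0x0
def c13_13 : ℕ := 0x0
def c13_14 : ℕ := 0x0
def c13_15 : ℕ := 0x1
def c13_16 : ℕ := 0x0
def c13_17 : ℕ := 0x0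
def c13_18 : ℕ := 0x0
def c13_19 : ℕ := 0x0
def c13_20 : ℕ := 0x0
def c13_21 : ℕ := 0x0
def c13_22 : ℕ := 0x0
def c13_23 : ℕ := 0x0
def c13_24 : ℕ := 0x0
def c13_25 : ℕ := 0x0
def c13_26 : ℕ := 0x0
def c14_0 : ℕ := 0x0
def c14_1 : ℕ := 0x0
def c14_2 : ℕ := 0x0
def c14_3 : ℕ := 0x0
def c14_4 : ℕ := 0x1
def c14_5 : ℕ := 0x0
def c14_6 : ℕ := 0x0
def c14_7 : ℕ := 0x0
def c14_8 : ℕ := 0x0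
def c14_9 : ℕ := 0x0
def c14_10 : ℕ := 0x0
def c14_11 : ℕ := 0x0
def c14_12 : ℕ := 0x0
def c14_13 : ℕ := 0x0
def c14_14 : ℕ := 0x0
def c14_15 : ℕ := 0x0
def c14_16 : ℕ := 0x0
def c14_17 : ℕ := 0x0
def c14_18 : ℕ := 0x0
def c14_19 : ℕ := 0x0
def c14_20 : ℕ := 0x1
def c14_21 : ℕ := 0x0
def c14_22 : ℕ := 0x0
def c14_23 : ℕ := 0x0
def c14_24 : ℕ := 0x0
def c14_25 : ℕ := 0x0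
def c14_26 : ℕ := 0x0
def c15_0 : ℕ := 0x0
def c15_1 : ℕ := 0x0
def c15_2 : ℕ := 0x1
def c15_3 : ℕ := 0x0
def c15_4 : ℕ := 0x1
def c15_5 : ℕ := 0x0
def c15_6 : ℕ := 0x0
def c15_7 : ℕ := 0x0
def c15_8 : ℕ := 0x0
def c15_9 : ℕ := 0x0
def c15_10 : ℕ := 0x0
def c15_11 : ℕ := 0x0
def c15_12 : ℕ := 0x0
def c15_13 : ℕ := 0x0
def c15_14 : ℕ := 0x0
def c15_15 : ℕ := 0x0
def c15_16 : ℕ := 0x1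
def c15_17 : ℕ := 0x0
def c15_18 : ℕ := 0x0
def c15_19 : ℕ := 0x0
def c15_20 : ℕ := 0x0
def c15_21 : ℕ := 0x0
def c15_22 : ℕ := 0x0
def c15_23 : ℕ := 0x0
def c15_24 : ℕ := 0x0
def c15_25 : ℕ := 0x0
def c15_26 : ℕ := 0x0
def c16_0 : ℕ := 0x0
def c16_1 : ℕ := 0x0
def c16_2 : ℕ := 0x0
def c16_3 : ℕ := 0x0
def c16_4 : ℕ := 0x1
def c16_5 : ℕ := 0x0
def c16_6 : ℕ := 0x0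
def c16_7 : ℕ := 0x0
def c16_8 : ℕ := 0x0
def c16_9 : ℕ := 0x0
def c16_10 : ℕ := 0x1
def c16_11 : ℕ := 0x0
def c16_12 : ℕ := 0x0
def c16_13 : ℕ := 0x0
def c16_14 : ℕ := 0x0
def c16_15 : ℕ := 0x0
def c16_16 : ℕ := 0x0
def c16_17 : ℕ := 0x0
def c16_18 : ℕ := 0x0
def c16_19 : ℕ := 0x1
def c16_20 : ℕ := 0x0
def c16_21 : ℕ := 0x0
def c16_22 : ℕ := 0x0
def c16_23 : ℕ := 0x0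
def c16_24 : ℕ := 0x0
def c16_25 : ℕ := 0x0
def c16_26 : ℕ := 0x0
def c17_0 : ℕ := 0x0
def c17_1 : ℕ := 0x0
def c17_2 : ℕ := 0x0
def c17_3 : ℕ := 0x0
def c17_4 : ℕ := 0x0
def c17_5 : ℕ := 0x0
def c17_6 : ℕ := 0x0
def c17_7 : ℕ := 0x0
def c17_8 : ℕ := 0x0
def c17_9 : ℕ := 0x0
def c17_10 : ℕ := 0x0
def c17_11 : ℕ := 0x0
def c17_12 : ℕ := 0x0
def c17_13 : ℕ := 0x0
def c17_14 : ℕ := 0x0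
def c17_15 : ℕ := 0x0
def c17_16 : ℕ := 0x0
def c17_17 : ℕ := 0x0
def c17_18 : ℕ := 0x0
def c17_19 : ℕ := 0x0
def c17_20 : ℕ := 0x0
def c17_21 : ℕ := 0x8
def c17_22 : ℕ := 0x0
def c17_23 : ℕ := 0x0
def c17_24 : ℕ := 0x1
def c17_25 : ℕ := 0x1
def c17_26 : ℕ := 0x0
def c18_0 : ℕ := 0x0
def c18_1 : ℕ := 0x0
def c18_2 : ℕ := 0x1
def c18_3 : ℕ := 0x0
def c18_4 : ℕ := 0x1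
def c18_5 : ℕ := 0x0
def c18_6 : ℕ := 0x0
def c18_7 : ℕ := 0x0
def c18_8 : ℕ := 0x0
def c18_9 : ℕ := 0x0
def c18_10 : ℕ := 0x1
def c18_11 : ℕ := 0x0
def c18_12 : ℕ := 0x0
def c18_13 : ℕ := 0x0
def c18_14 : ℕ := 0x0
def c18_15 : ℕ := 0x0
def c18_16 : ℕ := 0x0
def c18_17 : ℕ := 0x1
def c18_18 : ℕ := 0x0
def c18_19 : ℕ := 0x0
def c18_20 : ℕ := 0x0
def c18_21 : ℕ := 0x0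
def c18_22 : ℕ := 0x0
def c18_23 : ℕ := 0x0
def c18_24 : ℕ := 0x0
def c18_25 : ℕ := 0x0
def c18_26 : ℕ := 0x0
def c19_0 : ℕ := 0x8
def c19_1 : ℕ := 0x0
def c19_2 : ℕ := 0x0
def c19_3 : ℕ := 0x0
def c19_4 : ℕ := 0x1
def c19_5 : ℕ := 0x0
def c19_6 : ℕ := 0x0
def c19_7 : ℕ := 0x0
def c19_8 : ℕ := 0x0
def c19_9 : ℕ := 0x0
def c19_10 : ℕ := 0x0
def c19_11 : ℕ := 0x0
def c19_12 : ℕ := 0x0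
def c19_13 : ℕ := 0x0
def c19_14 : ℕ := 0x0
def c19_15 : ℕ := 0x0
def c19_16 : ℕ := 0x0
def c19_17 : ℕ := 0x0
def c19_18 : ℕ := 0x0
def c19_19 : ℕ := 0x0
def c19_20 : ℕ := 0x2
def c19_21 : ℕ := 0x1
def c19_22 : ℕ := 0x0
def c19_23 : ℕ := 0x0
def c19_24 : ℕ := 0x0
def c19_25 : ℕ := 0x0
def c19_26 : ℕ := 0x1
def c20_0 : ℕ := 0x0
def c20_1 : ℕ := 0x0
def c20_2 : ℕ := 0x0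
def c20_3 : ℕ := 0x0
def c20_4 : ℕ := 0x0
def c20_5 : ℕ := 0x8
def c20_6 : ℕ := 0x0
def c20_7 : ℕ := 0x0
def c20_8 : ℕ := 0x0
def c20_9 : ℕ := 0x0
def c20_10 : ℕ := 0x11
def c20_11 : ℕ := 0x0
def c20_12 : ℕ := 0x0
def c20_13 : ℕ := 0x0
def c20_14 : ℕ := 0x0
def c20_15 : ℕ := 0x0
def c20_16 : ℕ := 0x0
def c20_17 : ℕ := 0x0
def c20_18 : ℕ := 0x0
def c20_19 : ℕ := 0x0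
def c20_20 : ℕ := 0x0
def c20_21 : ℕ := 0x1
def c20_22 : ℕ := 0x1
def c20_23 : ℕ := 0x0
def c20_24 : ℕ := 0x0
def c20_25 : ℕ := 0x0
def c20_26 : ℕ := 0x0
def c21_0 : ℕ := 0x0
def c21_1 : ℕ := 0x2
def c21_2 : ℕ := 0x0
def c21_3 : ℕ := 0x0
def c21_4 : ℕ := 0x2
def c21_5 : ℕ := 0x0
def c21_6 : ℕ := 0x0
def c21_7 : ℕ := 0x0
def c21_8 : ℕ := 0x0
def c21_9 : ℕ := 0x0
def c21_10 : ℕ := 0x0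
def c21_11 : ℕ := 0x0
def c21_12 : ℕ := 0x0
def c21_13 : ℕ := 0x0
def c21_14 : ℕ := 0x0
def c21_15 : ℕ := 0x0
def c21_16 : ℕ := 0x0
def c21_17 : ℕ := 0x0
def c21_18 : ℕ := 0x0
def c21_19 : ℕ := 0x0
def c21_20 : ℕ := 0x0
def c21_21 : ℕ := 0x0
def c21_22 : ℕ := 0x0
def c21_23 : ℕ := 0x100
def c21_24 : ℕ := 0x1
def c21_25 : ℕ := 0x1
def c21_26 : ℕ := 0x0
def c22_0 : ℕ := 0x0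
def c22_1 : ℕ := 0x0
def c22_2 : ℕ := 0x0
def c22_3 : ℕ := 0x0
def c22_4 : ℕ := 0x0
def c22_5 : ℕ := 0x102
def c22_6 : ℕ := 0x0
def c22_7 : ℕ := 0x0
def c22_8 : ℕ := 0x2
def c22_9 : ℕ := 0x2
def c22_10 : ℕ := 0x0
def c22_11 : ℕ := 0x0
def c22_12 : ℕ := 0x0
def c22_13 : ℕ := 0x0
def c22_14 : ℕ := 0x0
def c22_15 : ℕ := 0x4
def c22_16 : ℕ := 0x0
def c22_17 : ℕ := 0x0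
def c22_18 : ℕ := 0x2
def c22_19 : ℕ := 0x4
def c22_20 : ℕ := 0x0
def c22_21 : ℕ := 0x1
def c22_22 : ℕ := 0x3
def c22_23 : ℕ := 0x1
def c22_24 : ℕ := 0x2
def c22_25 : ℕ := 0x1
def c22_26 : ℕ := 0x0

/-- the certificate -/
def data : FoxData where
  n := 24
  d := 4
  p := 2
  w := 9
  mw := 512
  cw := 1
  mc := 2
  paths := [[0, 0], [2, 2, 2, 2], [2, 0, 2, 0, 2, 0, 2, 0, 2, 0, 2, 0, 2, 0, 2, 0, 2, 0, 2, 0, 2, 0], [2, 2, 0, 2, 2, 0, 2, 2, 0, 2, 2, 0, 2, 2, 0, 2, 2, 0], [3, 0, 3, 0, 2, 0, 3, 0, 2, 2, 0, 2, 0, 3, 0, 2, 0, 2, 0], [4, 4], [0, 4, 0, 4, 0, 4, 0, 4], [3, 3, 4, 3, 3, 4, 2, 2, 4, 2, 2, 4], [3, 4, 3, 3, 4, 3, 3, 4, 2, 2, 4, 3], [3, 4, 3, 4, 2, 4, 3, 4, 3, 4, 2, 4], [0, 3, 3, 4, 3, 3, 4, 0, 4, 0, 2, 2, 4, 2, 2, 0, 4],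 [0, 3, 3, 4, 3, 3, 0, 4, 0, 4, 2, 2, 4, 2, 2, 0, 4], [0, 2, 0, 3, 3, 0, 3, 0, 4, 3, 4, 0, 3, 0, 4, 0, 2, 0, 4, 2, 4], [3, 0, 3, 4, 0, 3, 3, 0, 3, 3, 0, 3, 3, 4, 2, 0, 2, 4, 2, 2, 4], [3, 0, 2, 0, 3, 0, 2, 4, 3, 4, 0, 2, 4, 0, 4, 0, 3, 0, 4, 2, 4], [0, 2, 0, 2, 0, 3, 0, 4, 2, 4, 2, 0, 4, 3, 4, 0, 2, 0, 3, 0, 4], [3, 3, 0, 3, 0, 3, 4, 0, 4, 3, 0, 4, 0, 4, 2, 2, 0, 3, 4, 3, 4], [3, 3, 0, 3, 4, 0, 4, 2, 0, 2, 4, 3, 4, 2, 0, 3, 4, 0, 4, 2, 0, 4], [2, 0, 2, 0, 3, 0, 2, 0, 3, 0, 3, 4, 2, 4, 3, 3, 0, 2, 2, 4, 3, 4], [0, 3, 3, 0, 4, 0, 4, 3, 0, 2, 4, 0, 2, 4, 0, 3, 4, 2, 0, 4, 3, 4], [3, 0, 2, 0, 2, 0, 2, 0, 3, 3, 0, 3, 0, 3, 0, 3, 0, 2, 4, 2, 0, 3, 4], [6, 6], [2, 0, 2, 0, 2, 0, 4, 0, 3, 0, 3, 0, 3, 6, 3, 4, 2, 6], [2, 0, 3, 3, 0, 3,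 0, 3, 3, 0, 3, 0, 2, 0, 3, 0, 6, 0, 2, 0, 6], [0, 2, 0, 2, 0, 2, 0, 3, 0, 3, 0, 3, 0, 3, 3, 6, 3, 3, 6, 3, 6], [3, 3, 0, 2, 0, 2, 0, 2, 0, 3, 0, 3, 0, 3, 0, 6, 2, 6, 2, 2, 6], [3, 3, 0, 3, 0, 3, 3, 0, 3, 3, 0, 2, 0, 3, 3, 6, 4, 2, 0, 3, 4, 6]]
  cycles := [[c0_0, c0_1, c0_2, c0_3, c0_4, c0_5, c0_6, c0_7, c0_8, c0_9, c0_10, c0_11, c0_12, c0_13, c0_14, c0_15, c0_16, c0_17, c0_18, c0_19, c0_20, c0_21, c0_22, c0_23, c0_24, c0_25, c0_26], [c1_0, c1_1, c1_2, c1_3, c1_4, c1_5, c1_6, c1_7, c1_8, c1_9, c1_10, c1_11, c1_12, c1_13, c1_14, c1_15, c1_16, c1_17, c1_18, c1_19, c1_20, c1_21, c1_22, c1_23, c1_24, c1_25, c1_26], [c2_0, c2_1, c2_2, c2_3, c2_4, c2_5, c2_6, c2_7, c2_8, c2_9, c2_10, c2_11, c2_12, c2_13, c2_14, c2_15, c2_16, c2_17,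 c2_18, c2_19, c2_20, c2_21, c2_22, c2_23, c2_24, c2_25, c2_26], [c3_0, c3_1, c3_2, c3_3, c3_4, c3_5, c3_6, c3_7, c3_8, c3_9, c3_10, c3_11, c3_12, c3_13, c3_14, c3_15, c3_16, c3_17, c3_18, c3_19, c3_20, c3_21, c3_22, c3_23, c3_24, c3_25, c3_26], [c4_0, c4_1, c4_2, c4_3, c4_4, c4_5, c4_6, c4_7, c4_8, c4_9, c4_10, c4_11, c4_12, c4_13, c4_14, c4_15, c4_16, c4_17, c4_18, c4_19, c4_20, c4_21, c4_22, c4_23, c4_24, c4_25, c4_26], [c5_0, c5_1, c5_2, c5_3, c5_4, c5_5, c5_6, c5_7, c5_8, c5_9, c5_10, c5_11, c5_12, c5_13, c5_14, c5_15, c5_16, c5_17, c5_18, c5_19, c5_20, c5_21, c5_22, c5_23, c5_24, c5_25, c5_26], [c6_0, c6_1, c6_2, c6_3, c6_4, c6_5, c6_6, c6_7, c6_8, c6_9, c6_10, c6_11, c6_12, c6_13, c6_14, c6_15, c6_16, c6_17, c6_18, c6_19,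 c6_20, c6_21, c6_22, c6_23, c6_24, c6_25, c6_26], [c7_0, c7_1, c7_2, c7_3, c7_4, c7_5, c7_6, c7_7, c7_8, c7_9, c7_10, c7_11, c7_12, c7_13, c7_14, c7_15, c7_16, c7_17, c7_18, c7_19, c7_20, c7_21, c7_22, c7_23, c7_24, c7_25, c7_26], [c8_0, c8_1, c8_2, c8_3, c8_4, c8_5, c8_6, c8_7, c8_8, c8_9, c8_10, c8_11, c8_12, c8_13, c8_14, c8_15, c8_16, c8_17, c8_18, c8_19, c8_20, c8_21, c8_22, c8_23, c8_24, c8_25, c8_26], [c9_0, c9_1, c9_2, c9_3, c9_4, c9_5, c9_6, c9_7, c9_8, c9_9, c9_10, c9_11, c9_12, c9_13, c9_14, c9_15, c9_16, c9_17, c9_18, c9_19, c9_20, c9_21, c9_22, c9_23, c9_24, c9_25, c9_26], [c10_0, c10_1, c10_2, c10_3, c10_4, c10_5, c10_6, c10_7, c10_8, c10_9, c10_10, c10_11, c10_12, c10_13, c10_14, c10_15, c10_16, c10_17, c10_18,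 c10_19, c10_20, c10_21, c10_22, c10_23, c10_24, c10_25, c10_26], [c11_0, c11_1, c11_2, c11_3, c11_4, c11_5, c11_6, c11_7, c11_8, c11_9, c11_10, c11_11, c11_12, c11_13, c11_14, c11_15, c11_16, c11_17, c11_18, c11_19, c11_20, c11_21, c11_22, c11_23, c11_24, c11_25, c11_26], [c12_0, c12_1, c12_2, c12_3, c12_4, c12_5, c12_6, c12_7, c12_8, c12_9, c12_10, c12_11, c12_12, c12_13, c12_14, c12_15, c12_16, c12_17, c12_18, c12_19, c12_20, c12_21, c12_22, c12_23, c12_24, c12_25, c12_26], [c13_0, c13_1, c13_2, c13_3, c13_4, c13_5, c13_6, c13_7, c13_8, c13_9, c13_10, c13_11, c13_12, c13_13, c13_14, c13_15, c13_16, c13_17, c13_18, c13_19, c13_20, c13_21, c13_22, c13_23, c13_24, c13_25, c13_26], [c14_0, c14_1, c14_2, c14_3, c14_4, c14_5, c14_6,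 c14_7, c14_8, c14_9, c14_10, c14_11, c14_12, c14_13, c14_14, c14_15, c14_16, c14_17, c14_18, c14_19, c14_20, c14_21, c14_22, c14_23, c14_24, c14_25, c14_26], [c15_0, c15_1, c15_2, c15_3, c15_4, c15_5, c15_6, c15_7, c15_8, c15_9, c15_10, c15_11, c15_12, c15_13, c15_14, c15_15, c15_16, c15_17, c15_18, c15_19, c15_20, c15_21, c15_22, c15_23, c15_24, c15_25, c15_26], [c16_0, c16_1, c16_2, c16_3, c16_4, c16_5, c16_6, c16_7, c16_8, c16_9, c16_10, c16_11, c16_12, c16_13, c16_14, c16_15, c16_16, c16_17, c16_18, c16_19, c16_20, c16_21, c16_22, c16_23, c16_24, c16_25, c16_26], [c17_0, c17_1, c17_2, c17_3, c17_4, c17_5, c17_6, c17_7, c17_8, c17_9, c17_10, c17_11, c17_12, c17_13, c17_14, c17_15, c17_16, c17_17, c17_18, c17_19, c17_20, c17_21,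 c17_22, c17_23, c17_24, c17_25, c17_26], [c18_0, c18_1, c18_2, c18_3, c18_4, c18_5, c18_6, c18_7, c18_8, c18_9, c18_10, c18_11, c18_12, c18_13, c18_14, c18_15, c18_16, c18_17, c18_18, c18_19, c18_20, c18_21, c18_22, c18_23, c18_24, c18_25, c18_26], [c19_0, c19_1, c19_2, c19_3, c19_4, c19_5, c19_6, c19_7, c19_8, c19_9, c19_10, c19_11, c19_12, c19_13, c19_14, c19_15, c19_16, c19_17, c19_18, c19_19, c19_20, c19_21, c19_22, c19_23, c19_24, c19_25, c19_26], [c20_0, c20_1, c20_2, c20_3, c20_4, c20_5, c20_6, c20_7, c20_8, c20_9, c20_10, c20_11, c20_12, c20_13, c20_14, c20_15, c20_16, c20_17, c20_18, c20_19, c20_20, c20_21, c20_22, c20_23, c20_24, c20_25, c20_26], [c21_0, c21_1, c21_2, c21_3, c21_4, c21_5, c21_6, c21_7, c21_8, c21_9,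 c21_10, c21_11, c21_12, c21_13, c21_14, c21_15, c21_16, c21_17, c21_18, c21_19, c21_20, c21_21, c21_22, c21_23, c21_24, c21_25, c21_26], [c22_0, c22_1, c22_2, c22_3, c22_4, c22_5, c22_6, c22_7, c22_8, c22_9, c22_10, c22_11, c22_12, c22_13, c22_14, c22_15, c22_16, c22_17, c22_18, c22_19, c22_20, c22_21, c22_22, c22_23, c22_24, c22_25, c22_26]]
  Lam := [[1, 0, 0, 0, 0, 0, 0, 0, 0, 0, 0, 0, 0, 0, 0, 0, 0, 0, 0, 0, 0, 0, 0, 0, 0, 0, 0], [0, 1, 0, 0, 0, 0, 0, 0, 0, 0, 0, 0, 0, 0, 0, 0, 0, 0, 0, 0, 0, 0, 0, 0, 0, 0, 0], [0, 0, 0, 1, 0, 0, 0, 0, 0, 0, 0, 0, 0, 0, 0, 0, 0, 0, 0, 0, 0, 0, 0, 0, 0, 0, 0], [0, 0, 0, 0, 0, 1, 0, 0, 0, 0, 0, 0, 0, 0, 0, 0, 0, 0, 0, 0, 0, 0, 0, 0, 0, 0, 0], [0, 0, 0, 0, 0, 0, 1, 0, 0, 0, 0, 0, 0, 0, 0, 0,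 0, 0, 0, 0, 0, 0, 0, 0, 0, 0, 0], [0, 0, 0, 0, 0, 0, 0, 1, 0, 0, 0, 0, 0, 0, 0, 0, 0, 0, 0, 0, 0, 0, 0, 0, 0, 0, 0], [0, 0, 0, 0, 0, 0, 0, 0, 1, 0, 0, 0, 0, 0, 0, 0, 0, 0, 0, 0, 0, 0, 0, 0, 0, 0, 0], [0, 0, 0, 0, 0, 0, 0, 0, 0, 1, 0, 0, 0, 0, 0, 0, 0, 0, 0, 0, 0, 0, 0, 0, 0, 0, 0], [0, 0, 0, 0, 0, 0, 0, 0, 0, 0, 0, 0, 0, 0, 0, 0, 0, 0, 1, 0, 0, 0, 0, 0, 0, 0, 0], [0, 0, 0, 0, 0, 0, 0, 0, 0, 0, 1, 1, 0, 0, 0, 0, 0, 0, 0, 0, 0, 0, 0, 0, 0, 0, 0], [0, 0, 0, 0, 0, 0, 0, 0, 0, 0, 1, 0, 1, 0, 0, 0, 0, 0, 0, 0, 0, 0, 0, 0, 0, 0, 0], [0, 0, 0, 0, 1, 0, 0, 0, 0, 0, 0, 0, 0, 1, 0, 0, 0, 0, 0, 0, 0, 0, 0, 0, 0, 0, 0], [0, 0, 0, 0, 1, 0, 0, 0, 0, 0, 0, 0, 0, 0, 1, 0, 0, 0, 0, 0, 0, 0, 0, 0, 0, 0, 0], [0, 0, 0, 0, 0, 0, 0, 0, 0, 0, 1, 0,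 0, 0, 0, 1, 0, 0, 0, 0, 0, 0, 0, 0, 0, 0, 0], [0, 0, 0, 0, 1, 0, 0, 0, 0, 0, 0, 0, 0, 0, 0, 0, 0, 0, 0, 0, 1, 0, 0, 0, 0, 0, 0], [0, 0, 1, 0, 1, 0, 0, 0, 0, 0, 0, 0, 0, 0, 0, 0, 1, 0, 0, 0, 0, 0, 0, 0, 0, 0, 0], [0, 0, 0, 0, 1, 0, 0, 0, 0, 0, 1, 0, 0, 0, 0, 0, 0, 0, 0, 1, 0, 0, 0, 0, 0, 0, 0], [0, 0, 0, 0, 0, 0, 0, 0, 0, 0, 0, 0, 0, 0, 0, 0, 0, 0, 0, 0, 0, 1, 0, 0, 1, 1, 0], [0, 0, 1, 0, 1, 0, 0, 0, 0, 0, 1, 0, 0, 0, 0, 0, 0, 1, 0, 0, 0, 0, 0, 0, 0, 0, 0], [1, 0, 0, 0, 1, 0, 0, 0, 0, 0, 0, 0, 0, 0, 0, 0, 0, 0, 0, 0, 1, 1, 0, 0, 0, 0, 1], [0, 0, 0, 0, 0, 1, 0, 0, 0, 0, 2, 0, 0, 0, 0, 0, 0, 0, 0, 0, 0, 1, 1, 0, 0, 0, 0], [0, 1, 0, 0, 1, 0, 0, 0, 0, 0, 0, 0, 0, 0, 0, 0, 0, 0, 0, 0, 0, 0, 0, 1, 1, 1, 0], [0, 0, 0, 0, 0, 2, 0, 0,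 1, 1, 0, 0, 0, 0, 0, 1, 0, 0, 1, 1, 0, 1, 2, 1, 1, 1, 0]]
  S := [[0, 0, 0, 0, 1, 0, 0, 0, 0, 0, 0, 0, 0, 0, 0, 0, 0, 0, 0, 0, 0, 0, 0, 0, 0, 0, 0], [0, 0, 1, 0, 1, 0, 0, 0, 0, 0, 0, 0, 0, 0, 0, 0, 0, 0, 0, 0, 0, 0, 0, 0, 0, 0, 0], [0, 0, 0, 0, 0, 0, 0, 0, 0, 0, 1, 0, 0, 0, 0, 0, 0, 0, 0, 0, 0, 0, 0, 0, 0, 0, 0], [0, 0, 1, 0, 0, 0, 0, 0, 0, 0, 0, 0, 0, 0, 0, 0, 0, 0, 0, 0, 0, 0, 0, 0, 1, 0, 0]]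
  Tm := [[1, 0, 0, 0, 0, 0, 0, 0, 0, 0, 0, 0, 0, 0, 0, 0, 0, 0, 0, 0, 0, 0, 0], [0, 1, 0, 0, 0, 0, 0, 0, 0, 0, 0, 0, 0, 0, 0, 0, 0, 0, 0, 0, 0, 0, 0], [0, 0, 0, 0, 0, 0, 0, 0, 0, 0, 0, 0, 0, 0, 0, 0, 0, 0, 0, 0, 0, 0, 0], [0, 0, 1, 0, 0, 0, 0, 0, 0, 0, 0, 0, 0, 0, 0, 0, 0, 0, 0, 0, 0, 0, 0], [0, 0, 0, 0, 0, 0, 0, 0, 0, 0, 0, 0, 0, 0, 0, 0, 0, 0, 0, 0, 0, 0, 0], [0, 0, 0, 1, 0, 0, 0, 0, 0, 0, 0, 0, 0, 0, 0, 0, 0, 0, 0, 0, 0, 0, 0], [0, 0, 0, 0, 1, 0, 0, 0, 0, 0, 0, 0, 0, 0, 0, 0, 0, 0, 0, 0, 0, 0, 0], [0, 0, 0, 0, 0, 1, 0, 0, 0, 0, 0, 0, 0, 0, 0, 0, 0, 0, 0, 0, 0, 0, 0], [0, 0, 0, 0, 0, 0, 1, 0, 0, 0, 0, 0, 0, 0, 0, 0, 0, 0, 0, 0, 0, 0, 0], [0, 0, 0, 0, 0, 0, 0, 1, 0, 0, 0, 0, 0, 0, 0, 0, 0, 0, 0, 0, 0, 0, 0], [0, 0, 0, 0, 0,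 0, 0, 0, 0, 0, 0, 0, 0, 0, 0, 0, 0, 0, 0, 0, 0, 0, 0], [0, 0, 0, 0, 0, 0, 0, 0, 0, 1, 0, 0, 0, 0, 0, 0, 0, 0, 0, 0, 0, 0, 0], [0, 0, 0, 0, 0, 0, 0, 0, 0, 0, 1, 0, 0, 0, 0, 0, 0, 0, 0, 0, 0, 0, 0], [0, 0, 0, 0, 0, 0, 0, 0, 0, 0, 0, 1, 0, 0, 0, 0, 0, 0, 0, 0, 0, 0, 0], [0, 0, 0, 0, 0, 0, 0, 0, 0, 0, 0, 0, 1, 0, 0, 0, 0, 0, 0, 0, 0, 0, 0], [0, 0, 0, 0, 0, 0, 0, 0, 0, 0, 0, 0, 0, 1, 0, 0, 0, 0, 0, 0, 0, 0, 0], [0, 0, 0, 0, 0, 0, 0, 0, 0, 0, 0, 0, 0, 0, 0, 1, 0, 0, 0, 0, 0, 0, 0], [0, 0, 0, 0, 0, 0, 0, 0, 0, 0, 0, 0, 0, 0, 0, 0, 0, 0, 1, 0, 0, 0, 0], [0, 0, 0, 0, 0, 0, 0, 0, 1, 0, 0, 0, 0, 0, 0, 0, 0, 0, 0, 0, 0, 0, 0], [0, 0, 0, 0, 0, 0, 0, 0, 0, 0, 0, 0, 0, 0, 0, 0, 1, 0, 0, 0, 0, 0, 0], [0, 0, 0, 0, 0, 0, 0, 0, 0, 0, 0, 0, 0,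 0, 1, 0, 0, 0, 0, 0, 0, 0, 0], [0, 1, 0, 0, 0, 0, 1, 1, 1, 0, 0, 0, 0, 1, 0, 0, 1, 0, 0, 0, 0, 1, 1], [0, 1, 0, 1, 0, 0, 1, 1, 1, 0, 0, 0, 0, 1, 0, 0, 1, 0, 0, 0, 1, 1, 1], [0, 0, 0, 0, 0, 0, 1, 1, 1, 0, 0, 0, 0, 1, 0, 0, 1, 1, 0, 0, 0, 0, 1], [0, 0, 0, 0, 0, 0, 0, 0, 0, 0, 0, 0, 0, 0, 0, 0, 0, 0, 0, 0, 0, 0, 0], [0, 1, 0, 0, 0, 0, 1, 1, 1, 0, 0, 0, 0, 1, 0, 0, 1, 1, 0, 0, 0, 1, 1], [1, 1, 0, 0, 0, 0, 1, 1, 1, 0, 0, 0, 0, 1, 1, 0, 1, 0, 0, 1, 0, 1, 1]]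

end Cfsg.Agent.Lib.Helper28.FoxM24W0P2
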