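import Cfsg.Agent.Lib.Helper28.FoxM24W0P2
import Cfsg.Agent.Lib.Helper28.TCM24W0Table
set_option autoImplicit false
set_option maxRecDepth 100000
set_option maxHeartbeats 0

namespace Cfsg.Agent.Lib.Helper28.FoxM24W0P2Chk
open Cfsg.Agent.Lib.Helper28.SchurFox Cfsg.Agent.Lib.Helper28.FoxM24W0P2 Cfsg.Agent.Lib.Helper28.TCM24W0Table

theorem hstatic : data.staticOK table.tau = true := by decide +kernel

theorem hcyc0 : data.cycleOK table.tau 0 = true := by decide +kernel
theorem hcyc1 : data.cycleOK table.tau 1 = true := by decide +kernel
theorem hcyc2 : data.cycleOK table.tau 2 = true := by decide +kernel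
theorem hcyc3 : data.cycleOK table.tau 3 = true := by decide +kernel
theorem hcyc4 : data.cycleOK table.tau 4 = true := by decide +kernel
theorem hcyc5 : data.cycleOK table.tau 5 = true := by decide +kernel
theorem hcyc6 : data.cycleOK table.tau 6 = true := by decide +kernel
theorem hcyc7 : data.cycleOK table.tau 7 = true := by decide +kernel
theorem hcyc8 : data.cycleOK table.tau 8 = true := by decide +kernel
theorem hcyc9 : data.cycleOK table.tau 9 = true := by decide +kernel
theorem hcyc10 : data.cycleOK table.tau 10 = true := by decide +kernel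
theorem hcyc11 : data.cycleOK table.tau 11 = true := by decide +kernel
theorem hcyc12 : data.cycleOK table.tau 12 = true := by decide +kernel
theorem hcyc13 : data.cycleOK table.tau 13 = true := by decide +kernel
theorem hcyc14 : data.cycleOK table.tau 14 = true := by decide +kernel
theorem hcyc15 : data.cycleOK table.tau 15 = true := by decide +kernel
theorem hcyc16 : data.cycleOK table.tau 16 = true := by decide +kernel
theorem hcyc17 : data.cycleOK table.tau 17 = true := by decide +kernel
theorem hcyc18 : data.cycleOK table.tau 18 = true := by decide +kernel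
theorem hcyc19 : data.cycleOK table.tau 19 = true := by decide +kernel
theorem hcyc20 : data.cycleOK table.tau 20 = true := by decide +kernel
theorem hcyc21 : data.cycleOK table.tau 21 = true := by decide +kernel
theorem hcyc22 : data.cycleOK table.tau 22 = true := by decide +kernel

theorem hcyc : ∀ k < data.cycles.length, data.cycleOK table.tau k = true := by
  intro k hk
  have hk' : k < 23 := hk
  interval_cases k
  exacts [hcyc0, hcyc1, hcyc2, hcyc3, hcyc4, hcyc5, hcyc6, hcyc7, hcyc8, hcyc9, hcyc10, hcyc11, hcyc12, hcyc13, hcyc14, hcyc15, hcyc16, hcyc17, hcyc18, hcyc19, hcyc20, hcyc21, hcyc22]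

end Cfsg.Agent.Lib.Helper28.FoxM24W0P2Chk
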