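import Cfsg.Agent.Lib.Helper28.SchurFoxD
set_option autoImplicit false

namespace Cfsg.Agent.Lib.Helper28.FoxM24W1P7
open Cfsg.Agent.Lib.Helper28.SchurFox

def c0_0 : ℕ := 0x5
def c0_1 : ℕ := 0x6
def c0_2 : ℕ := 0x1
def c0_3 : ℕ := 0x0
def c0_4 : ℕ := 0x0
def c0_5 : ℕ := 0x0
def c0_6 : ℕ := 0x0
def c0_7 : ℕ := 0x0
def c0_8 : ℕ := 0x0
def c0_9 : ℕ := 0x0
def c0_10 : ℕ := 0x0
def c0_11 : ℕ := 0x0
def c0_12 : ℕ := 0x0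
def c0_13 : ℕ := 0x0
def c0_14 : ℕ := 0x0
def c0_15 : ℕ := 0x0
def c0_16 : ℕ := 0x0
def c0_17 : ℕ := 0x0
def c0_18 : ℕ := 0x0
def c0_19 : ℕ := 0x0
def c0_20 : ℕ := 0x0
def c1_0 : ℕ := 0x4
def c1_1 : ℕ := 0x4
def c1_2 : ℕ := 0x0
def c1_3 : ℕ := 0x1
def c1_4 : ℕ := 0x0
def c1_5 : ℕ := 0x0
def c1_6 : ℕ := 0x0
def c1_7 : ℕ := 0x0
def c1_8 : ℕ := 0x0
def c1_9 : ℕ := 0x0
def c1_10 : ℕ := 0x0
def c1_11 : ℕ := 0x0
def c1_12 : ℕ := 0x0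
def c1_13 : ℕ := 0x0
def c1_14 : ℕ := 0x0
def c1_15 : ℕ := 0x0
def c1_16 : ℕ := 0x0
def c1_17 : ℕ := 0x0
def c1_18 : ℕ := 0x0
def c1_19 : ℕ := 0x0
def c1_20 : ℕ := 0x0
def c2_0 : ℕ := 0x6
def c2_1 : ℕ := 0x3
def c2_2 : ℕ := 0x0
def c2_3 : ℕ := 0x0
def c2_4 : ℕ := 0x1
def c2_5 : ℕ := 0x0
def c2_6 : ℕ := 0x0
def c2_7 : ℕ := 0x0
def c2_8 : ℕ := 0x0
def c2_9 : ℕ := 0x0
def c2_10 : ℕ := 0x0
def c2_11 : ℕ := 0x0
def c2_12 : ℕ := 0x0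
def c2_13 : ℕ := 0x0
def c2_14 : ℕ := 0x0
def c2_15 : ℕ := 0x0
def c2_16 : ℕ := 0x0
def c2_17 : ℕ := 0x0
def c2_18 : ℕ := 0x0
def c2_19 : ℕ := 0x0
def c2_20 : ℕ := 0x0
def c3_0 : ℕ := 0x0
def c3_1 : ℕ := 0x6
def c3_2 : ℕ := 0x0
def c3_3 : ℕ := 0x0
def c3_4 : ℕ := 0x0
def c3_5 : ℕ := 0x0
def c3_6 : ℕ := 0x0
def c3_7 : ℕ := 0x8
def c3_8 : ℕ := 0x6
def c3_9 : ℕ := 0x0
def c3_10 : ℕ := 0x0
def c3_11 : ℕ := 0x0
def c3_12 : ℕ := 0x0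
def c3_13 : ℕ := 0x0
def c3_14 : ℕ := 0x0
def c3_15 : ℕ := 0x0
def c3_16 : ℕ := 0x0
def c3_17 : ℕ := 0x0
def c3_18 : ℕ := 0x0
def c3_19 : ℕ := 0x0
def c3_20 : ℕ := 0x0
def c4_0 : ℕ := 0x0
def c4_1 : ℕ := 0x0
def c4_2 : ℕ := 0x0
def c4_3 : ℕ := 0x0
def c4_4 : ℕ := 0x0
def c4_5 : ℕ := 0x0
def c4_6 : ℕ := 0x0
def c4_7 : ℕ := 0x0
def c4_8 : ℕ := 0x0
def c4_9 : ℕ := 0x0
def c4_10 : ℕ := 0x180000000000180000000
def c4_11 : ℕ := 0x40000000000040000000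
def c4_12 : ℕ := 0x0
def c4_13 : ℕ := 0x0
def c4_14 : ℕ := 0x0
def c4_15 : ℕ := 0x0
def c4_16 : ℕ := 0x0
def c4_17 : ℕ := 0x0
def c4_18 : ℕ := 0x0
def c4_19 : ℕ := 0x0
def c4_20 : ℕ := 0x0
def c5_0 : ℕ := 0x0
def c5_1 : ℕ := 0x0
def c5_2 : ℕ := 0x0
def c5_3 : ℕ := 0x0
def c5_4 : ℕ := 0x0
def c5_5 : ℕ := 0x1000000000000000000000000000000000000000000000000000000000000000000000000000000000000000000000000000000000000000000000000000000000000000000000000000000000000000000000000000000000000000000000000000000000000000000000000000000000000000000000000000000000088000000000000000000000000000000000000000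
def c5_6 : ℕ := 0x0
def c5_7 : ℕ := 0x28000000000000000000000000000000000000000
def c5_8 : ℕ := 0x0
def c5_9 : ℕ := 0x0
def c5_10 : ℕ := 0x0
def c5_11 : ℕ := 0x0
def c5_12 : ℕ := 0x0
def c5_13 : ℕ := 0x0
def c5_14 : ℕ := 0x0
def c5_15 : ℕ := 0x0
def c5_16 : ℕ := 0x0
def c5_17 : ℕ := 0x0
def c5_18 : ℕ := 0x0
def c5_19 : ℕ := 0x0
def c5_20 : ℕ := 0x0
def c6_0 : ℕ := 0x201
def c6_1 : ℕ := 0x6
def c6_2 : ℕ := 0x0
def c6_3 : ℕ := 0x0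
def c6_4 : ℕ := 0x0
def c6_5 : ℕ := 0x2
def c6_6 : ℕ := 0x0
def c6_7 : ℕ := 0x0
def c6_8 : ℕ := 0x0
def c6_9 : ℕ := 0x0
def c6_10 : ℕ := 0x0
def c6_11 : ℕ := 0x0
def c6_12 : ℕ := 0x0
def c6_13 : ℕ := 0x0
def c6_14 : ℕ := 0x0
def c6_15 : ℕ := 0x0
def c6_16 : ℕ := 0x0
def c6_17 : ℕ := 0x0
def c6_18 : ℕ := 0x0
def c6_19 : ℕ := 0x0
def c6_20 : ℕ := 0x5
def c7_0 : ℕ := 0x3
def c7_1 : ℕ := 0x0
def c7_2 : ℕ := 0x0
def c7_3 : ℕ := 0x0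
def c7_4 : ℕ := 0x0
def c7_5 : ℕ := 0x2
def c7_6 : ℕ := 0x0
def c7_7 : ℕ := 0x6
def c7_8 : ℕ := 0x0
def c7_9 : ℕ := 0x0
def c7_10 : ℕ := 0x0
def c7_11 : ℕ := 0x0
def c7_12 : ℕ := 0x0
def c7_13 : ℕ := 0x1000000
def c7_14 : ℕ := 0x0
def c7_15 : ℕ := 0x0
def c7_16 : ℕ := 0x0
def c7_17 : ℕ := 0x0
def c7_18 : ℕ := 0x0
def c7_19 : ℕ := 0x0
def c7_20 : ℕ := 0x5
def c8_0 : ℕ := 0x8000000000000000000000000000000000000000005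
def c8_1 : ℕ := 0x0
def c8_2 : ℕ := 0x0
def c8_3 : ℕ := 0x0
def c8_4 : ℕ := 0x0
def c8_5 : ℕ := 0x402
def c8_6 : ℕ := 0x0
def c8_7 : ℕ := 0x0
def c8_8 : ℕ := 0x0
def c8_9 : ℕ := 0x0
def c8_10 : ℕ := 0x0
def c8_11 : ℕ := 0x0
def c8_12 : ℕ := 0x0
def c8_13 : ℕ := 0x0
def c8_14 : ℕ := 0x0
def c8_15 : ℕ := 0x0
def c8_16 : ℕ := 0x0
def c8_17 : ℕ := 0x0
def c8_18 : ℕ := 0x5
def c8_19 : ℕ := 0x0
def c8_20 : ℕ := 0x0
def c9_0 : ℕ := 0x200011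
def c9_1 : ℕ := 0x0
def c9_2 : ℕ := 0x0
def c9_3 : ℕ := 0x0
def c9_4 : ℕ := 0x0
def c9_5 : ℕ := 0x82
def c9_6 : ℕ := 0x5
def c9_7 : ℕ := 0x0
def c9_8 : ℕ := 0x0
def c9_9 : ℕ := 0x0
def c9_10 : ℕ := 0x0
def c9_11 : ℕ := 0x0
def c9_12 : ℕ := 0x0
def c9_13 : ℕ := 0x0
def c9_14 : ℕ := 0x0
def c9_15 : ℕ := 0x0
def c9_16 : ℕ := 0x0
def c9_17 : ℕ := 0x0
def c9_18 : ℕ := 0x0
def c9_19 : ℕ := 0x0
def c9_20 : ℕ := 0x0
def c10_0 : ℕ := 0x0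
def c10_1 : ℕ := 0x40000000000000000000000000000000000000000000000000000001
def c10_2 : ℕ := 0x0
def c10_3 : ℕ := 0x0
def c10_4 : ℕ := 0x0
def c10_5 : ℕ := 0x3000000000000000003003
def c10_6 : ℕ := 0x0
def c10_7 : ℕ := 0x0
def c10_8 : ℕ := 0x0
def c10_9 : ℕ := 0x4
def c10_10 : ℕ := 0x0
def c10_11 : ℕ := 0x0
def c10_12 : ℕ := 0x0
def c10_13 : ℕ := 0x0
def c10_14 : ℕ := 0x0
def c10_15 : ℕ := 0x0
def c10_16 : ℕ := 0x0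
def c10_17 : ℕ := 0x0
def c10_18 : ℕ := 0x0
def c10_19 : ℕ := 0x0
def c10_20 : ℕ := 0x0
def c11_0 : ℕ := 0x400000003
def c11_1 : ℕ := 0x0
def c11_2 : ℕ := 0x0
def c11_3 : ℕ := 0x0
def c11_4 : ℕ := 0x0
def c11_5 : ℕ := 0x2002
def c11_6 : ℕ := 0x1000000000000000000000000000000000000000000000000000000000000000000000000000000000000000000000000000000000000000000000000000000
def c11_7 : ℕ := 0x0
def c11_8 : ℕ := 0x0
def c11_9 : ℕ := 0x0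
def c11_10 : ℕ := 0x0
def c11_11 : ℕ := 0x0
def c11_12 : ℕ := 0x0
def c11_13 : ℕ := 0x0
def c11_14 : ℕ := 0x5
def c11_15 : ℕ := 0x0
def c11_16 : ℕ := 0x0
def c11_17 : ℕ := 0x0
def c11_18 : ℕ := 0x0
def c11_19 : ℕ := 0x0
def c11_20 : ℕ := 0x0
def c12_0 : ℕ := 0x0
def c12_1 : ℕ := 0xc00000000000
def c12_2 : ℕ := 0x0
def c12_3 : ℕ := 0x0
def c12_4 : ℕ := 0x0
def c12_5 : ℕ := 0x8000000000000000000400000000000
def c12_6 : ℕ := 0xa00000000000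
def c12_7 : ℕ := 0x30000000000000000000000000000000
def c12_8 : ℕ := 0x180000000000000000000000000000
def c12_9 : ℕ := 0x0
def c12_10 : ℕ := 0x1000000000000
def c12_11 : ℕ := 0x200000000000000000000000000000000000000000000000000000000000000000000000000000
def c12_12 : ℕ := 0x0
def c12_13 : ℕ := 0x0
def c12_14 : ℕ := 0x0
def c12_15 : ℕ := 0x0
def c12_16 : ℕ := 0x0
def c12_17 : ℕ := 0x0
def c12_18 : ℕ := 0x0
def c12_19 : ℕ := 0x0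
def c12_20 : ℕ := 0x0
def c13_0 : ℕ := 0x80000000000000000000000000000000000000000000400000004
def c13_1 : ℕ := 0x6
def c13_2 : ℕ := 0x0
def c13_3 : ℕ := 0x0
def c13_4 : ℕ := 0x0
def c13_5 : ℕ := 0x200000000000000000000000000000000000000000000000000000000000000000000000000000000000000000000000000000000000000000000000000002002
def c13_6 : ℕ := 0x0
def c13_7 : ℕ := 0x0
def c13_8 : ℕ := 0x0
def c13_9 : ℕ := 0x0
def c13_10 : ℕ := 0x0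
def c13_11 : ℕ := 0x0
def c13_12 : ℕ := 0x5
def c13_13 : ℕ := 0x0
def c13_14 : ℕ := 0x0
def c13_15 : ℕ := 0x0
def c13_16 : ℕ := 0x0
def c13_17 : ℕ := 0x0
def c13_18 : ℕ := 0x0
def c13_19 : ℕ := 0x0
def c13_20 : ℕ := 0x0
def c14_0 : ℕ := 0x200000000000000000000000000000000000000000000000000000000000080000000000000000000000000000000000010000000
def c14_1 : ℕ := 0x11
def c14_2 : ℕ := 0x0
def c14_3 : ℕ := 0x0
def c14_4 : ℕ := 0x0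
def c14_5 : ℕ := 0x80000000000000000000000180000000000000405
def c14_6 : ℕ := 0x0
def c14_7 : ℕ := 0x6
def c14_8 : ℕ := 0x28000001
def c14_9 : ℕ := 0xa02000810
def c14_10 : ℕ := 0x0
def c14_11 : ℕ := 0x0
def c14_12 : ℕ := 0x0
def c14_13 : ℕ := 0xa00000000000000010
def c14_14 : ℕ := 0x0
def c14_15 : ℕ := 0x0
def c14_16 : ℕ := 0x0
def c14_17 : ℕ := 0x28000a00
def c14_18 : ℕ := 0x1
def c14_19 : ℕ := 0x0
def c14_20 : ℕ := 0x4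
def c15_0 : ℕ := 0x8000000040201000040010009036
def c15_1 : ℕ := 0x30000a06a20c00002
def c15_2 : ℕ := 0x0
def c15_3 : ℕ := 0x0
def c15_4 : ℕ := 0x0
def c15_5 : ℕ := 0x4000000000000000000000000000200030000000040000000000000000040000000030000000006000140140c01040195584
def c15_6 : ℕ := 0x8000000000000000000000000000000000000000000000000000000000000000000000000018000000030000000000000030000000000000000c06180080c01
def c15_7 : ℕ := 0x20080c00000000000000200000003984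
def c15_8 : ℕ := 0x1000000000002000000000000000000000000000000000000000c0000180000000000a00a0003019d
def c15_9 : ℕ := 0x1000000000000000000000000000000000000200000180000000004000000c0000a243
def c15_10 : ℕ := 0x40000000008000000008000000000000000000000c00000001000000000186
def c15_11 : ℕ := 0x30000000000000000000000200000000000000170041
def c15_12 : ℕ := 0x0
def c15_13 : ℕ := 0x0
def c15_14 : ℕ := 0x0
def c15_15 : ℕ := 0x0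
def c15_16 : ℕ := 0x6000000000000000000000000000000000000000000000000000180000008000000000
def c15_17 : ℕ := 0x40000000000000000000000000000000000000000000000000000000000000000000000000000000000000000000000000000000001c00
def c15_18 : ℕ := 0x8000000000000000000000000003
def c15_19 : ℕ := 0x6000000000000000000000000000000000000000000000000000000000000000000000000000000030000000
def c15_20 : ℕ := 0x0
def c16_0 : ℕ := 0x6000000200000000000000000000000080000004008c000200040001800001800d80330e5013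
def c16_1 : ℕ := 0x30000000000000000000000000000000000000000000000000000000000a00000000200000000008000800c00000145
def c16_2 : ℕ := 0x0
def c16_3 : ℕ := 0xc00000000000000000000000000000000000000000000000000000000000000000000
def c16_4 : ℕ := 0x1000000000000000000008000000200000
def c16_5 : ℕ := 0x40000000000000000006000000000000000000000000000000080000000000000000000818003001058200c0418006e083
def c16_6 : ℕ := 0x30000000000600008000000000000100003000018a06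
def c16_7 : ℕ := 0x30a00000001000000000020000000000001044
def c16_8 : ℕ := 0x28000000000000000000000000000000000000000000000000000040000000000000000000000c00180c18040004
def c16_9 : ℕ := 0x180000000000000000000003001018401030b95
def c16_10 : ℕ := 0x30000000000000000000800000000000040000040000080000031
def c16_11 : ℕ := 0x80000000000000000000000000000000000180c0000198000180
def c16_12 : ℕ := 0x20000000000000000004000000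
def c16_13 : ℕ := 0x1000000000000008000a00000000000000008
def c16_14 : ℕ := 0x0
def c16_15 : ℕ := 0x0
def c16_16 : ℕ := 0x30000000000
def c16_17 : ℕ := 0x30000000
def c16_18 : ℕ := 0x30000000000000000000000000d80000000008030000000000000000006000200000000c06
def c16_19 : ℕ := 0x0
def c16_20 : ℕ := 0x1
def c17_0 : ℕ := 0x20000800004000000000004000000000c0300000690040001800000081600250de016
def c17_1 : ℕ := 0x30000000000008000200000000000000000000000000200000000008c00a002a8200151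
def c17_2 : ℕ := 0x6000000000000000000
def c17_3 : ℕ := 0x188c00
def c17_4 : ℕ := 0x1b0000000000030000000006000000046000180000000000001000000000
def c17_5 : ℕ := 0xc00008000000008000000000000000088000000000000818004206010158004180156403
def c17_6 : ℕ := 0x40000000000000000000000000000000000000040010000000000000010000000000000000003040018c01
def c17_7 : ℕ := 0x10000000000000000000000000000280000000c0006000000000028000000000075c43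
def c17_8 : ℕ := 0x1000000000000000000000000000000000000000000000000000000005040208010042
def c17_9 : ℕ := 0xc00000000000000000000000000000000005000000000008000000000000000180000000180000000000000036180098204015372
def c17_10 : ℕ := 0x300000000280000000000000000000000000000000000c0000283
def c17_11 : ℕ := 0x800000001000000000000000000000000001000000011800010d
def c17_12 : ℕ := 0x20000000000000030004000000
def c17_13 : ℕ := 0x0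
def c17_14 : ℕ := 0x30000000000000000000000000000000000000000000000000006000000
def c17_15 : ℕ := 0x30
def c17_16 : ℕ := 0xc00000000000000000000000000000000000000000000000000000000000000000000000000000000000000180030000000000
def c17_17 : ℕ := 0x8000000000000030000000000000000000000000200
def c17_18 : ℕ := 0x1000000000000000000000000000000000000000000000000000000000000000000000000000000000000000000000000000000000000000000000000000000000000000000000000000040000000000000000000028000000000000000000001000080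
def c17_19 : ℕ := 0x0
def c17_20 : ℕ := 0x40000000000000001000000000000000002

/-- the certificate -/
def data : FoxData where
  n := 1288
  d := 3
  p := 7
  w := 15
  mw := 32768
  cw := 3
  mc := 8
  paths := [[0, 0], [2, 2, 2, 2], [2, 0, 2, 0, 2, 0, 2, 0, 2, 0, 2, 0, 2, 0, 2, 0, 2, 0, 2, 0, 2, 0], [2, 2, 0, 2, 2, 0, 2, 2, 0, 2, 2, 0, 2, 2, 0, 2, 2, 0], [3, 0, 3, 0, 2, 0, 3, 0, 2, 2, 0, 2, 0, 3, 0, 2, 0, 2, 0], [4, 4], [0, 4, 0, 4, 0, 4, 0, 4], [3, 3, 4, 3, 3, 4, 2, 2, 4, 2, 2, 4], [3, 4, 3, 3, 4, 3, 3, 4, 2, 2, 4, 3], [3, 4, 3, 4, 2, 4, 3, 4, 3, 4, 2, 4], [0, 3, 3, 4, 3, 3, 4, 0, 4, 0, 2, 2, 4, 2, 2, 0, 4], [0, 3, 3, 4, 3, 3, 0, 4, 0, 4, 2, 2, 4, 2, 2, 0, 4], [0, 2, 0, 3, 3, 0, 3, 0, 4, 3, 4, 0, 3, 0, 4, 0, 2, 0, 4, 2, 4], [3, 0, 3, 4, 0, 3, 3, 0, 3, 3, 0, 3, 3, 4, 2, 0, 2, 4, 2, 2, 4], [3, 0, 2, 0, 3, 0, 2, 4, 3, 4, 0,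 2, 4, 0, 4, 0, 3, 0, 4, 2, 4], [0, 2, 0, 2, 0, 3, 0, 4, 2, 4, 2, 0, 4, 3, 4, 0, 2, 0, 3, 0, 4], [3, 3, 0, 3, 0, 3, 4, 0, 4, 3, 0, 4, 0, 4, 2, 2, 0, 3, 4, 3, 4], [3, 3, 0, 3, 4, 0, 4, 2, 0, 2, 4, 3, 4, 2, 0, 3, 4, 0, 4, 2, 0, 4], [2, 0, 2, 0, 3, 0, 2, 0, 3, 0, 3, 4, 2, 4, 3, 3, 0, 2, 2, 4, 3, 4], [0, 3, 3, 0, 4, 0, 4, 3, 0, 2, 4, 0, 2, 4, 0, 3, 4, 2, 0, 4, 3, 4], [3, 0, 2, 0, 2, 0, 2, 0, 3, 3, 0, 3, 0, 3, 0, 3, 0, 2, 4, 2, 0, 3, 4]]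
  cycles := [[c0_0, c0_1, c0_2, c0_3, c0_4, c0_5, c0_6, c0_7, c0_8, c0_9, c0_10, c0_11, c0_12, c0_13, c0_14, c0_15, c0_16, c0_17, c0_18, c0_19, c0_20], [c1_0, c1_1, c1_2, c1_3, c1_4, c1_5, c1_6, c1_7, c1_8, c1_9, c1_10, c1_11, c1_12, c1_13, c1_14, c1_15, c1_16, c1_17, c1_18, c1_19, c1_20], [c2_0, c2_1, c2_2, c2_3, c2_4, c2_5, c2_6, c2_7, c2_8, c2_9, c2_10, c2_11, c2_12, c2_13, c2_14, c2_15, c2_16, c2_17, c2_18, c2_19, c2_20], [c3_0, c3_1, c3_2, c3_3, c3_4, c3_5, c3_6, c3_7, c3_8, c3_9, c3_10, c3_11, c3_12, c3_13, c3_14, c3_15, c3_16, c3_17, c3_18, c3_19, c3_20], [c4_0, c4_1, c4_2, c4_3, c4_4, c4_5, c4_6, c4_7, c4_8, c4_9, c4_10, c4_11, c4_12, c4_13, c4_14, c4_15, c4_16, c4_17, c4_18, c4_19, c4_20], [c5_0, c5_1, c5_2, c5_3, c5_4, c5_5, c5_6, c5_7, c5_8, c5_9, c5_10, c5_11, c5_12, c5_13, c5_14, c5_15, c5_16, c5_17, c5_18, c5_19,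 c5_20], [c6_0, c6_1, c6_2, c6_3, c6_4, c6_5, c6_6, c6_7, c6_8, c6_9, c6_10, c6_11, c6_12, c6_13, c6_14, c6_15, c6_16, c6_17, c6_18, c6_19, c6_20], [c7_0, c7_1, c7_2, c7_3, c7_4, c7_5, c7_6, c7_7, c7_8, c7_9, c7_10, c7_11, c7_12, c7_13, c7_14, c7_15, c7_16, c7_17, c7_18, c7_19, c7_20], [c8_0, c8_1, c8_2, c8_3, c8_4, c8_5, c8_6, c8_7, c8_8, c8_9, c8_10, c8_11, c8_12, c8_13, c8_14, c8_15, c8_16, c8_17, c8_18, c8_19, c8_20], [c9_0, c9_1, c9_2, c9_3, c9_4, c9_5, c9_6, c9_7, c9_8, c9_9, c9_10, c9_11, c9_12, c9_13, c9_14, c9_15, c9_16, c9_17, c9_18, c9_19, c9_20], [c10_0, c10_1, c10_2, c10_3, c10_4, c10_5, c10_6, c10_7, c10_8, c10_9, c10_10, c10_11, c10_12, c10_13, c10_14, c10_15, c10_16, c10_17, c10_18, c10_19, c10_20], [c11_0, c11_1, c11_2, c11_3, c11_4, c11_5, c11_6, c11_7, c11_8, c11_9, c11_10, c11_11, c11_12, c11_13, c11_14,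 c11_15, c11_16, c11_17, c11_18, c11_19, c11_20], [c12_0, c12_1, c12_2, c12_3, c12_4, c12_5, c12_6, c12_7, c12_8, c12_9, c12_10, c12_11, c12_12, c12_13, c12_14, c12_15, c12_16, c12_17, c12_18, c12_19, c12_20], [c13_0, c13_1, c13_2, c13_3, c13_4, c13_5, c13_6, c13_7, c13_8, c13_9, c13_10, c13_11, c13_12, c13_13, c13_14, c13_15, c13_16, c13_17, c13_18, c13_19, c13_20], [c14_0, c14_1, c14_2, c14_3, c14_4, c14_5, c14_6, c14_7, c14_8, c14_9, c14_10, c14_11, c14_12, c14_13, c14_14, c14_15, c14_16, c14_17, c14_18, c14_19, c14_20], [c15_0, c15_1, c15_2, c15_3, c15_4, c15_5, c15_6, c15_7, c15_8, c15_9, c15_10, c15_11, c15_12, c15_13, c15_14, c15_15, c15_16, c15_17, c15_18, c15_19, c15_20], [c16_0, c16_1, c16_2, c16_3, c16_4, c16_5, c16_6, c16_7, c16_8, c16_9, c16_10, c16_11, c16_12, c16_13, c16_14, c16_15, c16_16, c16_17, c16_18, c16_19,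 c16_20], [c17_0, c17_1, c17_2, c17_3, c17_4, c17_5, c17_6, c17_7, c17_8, c17_9, c17_10, c17_11, c17_12, c17_13, c17_14, c17_15, c17_16, c17_17, c17_18, c17_19, c17_20]]
  Lam := [[5, 6, 1, 0, 0, 0, 0, 0, 0, 0, 0, 0, 0, 0, 0, 0, 0, 0, 0, 0, 0], [4, 4, 0, 1, 0, 0, 0, 0, 0, 0, 0, 0, 0, 0, 0, 0, 0, 0, 0, 0, 0], [6, 3, 0, 0, 1, 0, 0, 0, 0, 0, 0, 0, 0, 0, 0, 0, 0, 0, 0, 0, 0], [0, 6, 0, 0, 0, 0, 0, 1, 6, 0, 0, 0, 0, 0, 0, 0, 0, 0, 0, 0, 0], [0, 0, 0, 0, 0, 0, 0, 0, 0, 0, 12, 2, 0, 0, 0, 0, 0, 0, 0, 0, 0], [0, 0, 0, 0, 0, 4, 0, 5, 0, 0, 0, 0, 0, 0, 0, 0, 0, 0, 0, 0, 0], [2, 6, 0, 0, 0, 2, 0, 0, 0, 0, 0, 0, 0, 0, 0, 0, 0, 0, 0, 0, 5], [3, 0, 0, 0, 0, 2, 0, 6, 0, 0, 0, 0, 0, 1, 0, 0, 0, 0, 0, 0, 5], [6, 0, 0, 0, 0, 4, 0, 0, 0, 0, 0, 0, 0, 0, 0, 0, 0, 0, 5, 0, 0], [4, 0, 0, 0, 0, 4, 5, 0, 0, 0, 0, 0, 0, 0, 0, 0, 0, 0, 0, 0, 0], [0, 2,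 0, 0, 0, 9, 0, 0, 0, 4, 0, 0, 0, 0, 0, 0, 0, 0, 0, 0, 0], [5, 0, 0, 0, 0, 4, 1, 0, 0, 0, 0, 0, 0, 0, 5, 0, 0, 0, 0, 0, 0], [0, 6, 0, 0, 0, 3, 5, 6, 6, 0, 1, 1, 0, 0, 0, 0, 0, 0, 0, 0, 0], [8, 6, 0, 0, 0, 5, 0, 0, 0, 0, 0, 0, 5, 0, 0, 0, 0, 0, 0, 0, 0], [5, 3, 0, 0, 0, 15, 0, 6, 6, 13, 0, 0, 0, 7, 0, 0, 0, 10, 1, 0, 4], [21, 34, 0, 0, 0, 68, 43, 30, 44, 26, 22, 20, 0, 0, 0, 0, 13, 8, 4, 12, 0], [72, 33, 0, 6, 3, 58, 31, 22, 32, 40, 21, 22, 8, 8, 0, 0, 6, 6, 44, 0, 1], [71, 38, 6, 13, 38, 67, 20, 42, 14, 73, 20, 22, 14, 0, 12, 6, 18, 8, 10, 0, 4]]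
  S := [[4, 0, 0, 0, 0, 0, 0, 0, 0, 0, 0, 0, 0, 0, 0, 0, 0, 0, 0, 0, 0], [0, 2, 0, 0, 0, 0, 0, 0, 0, 0, 0, 0, 0, 0, 0, 0, 0, 0, 0, 0, 0], [0, 0, 0, 0, 0, 4, 0, 0, 0, 0, 0, 0, 0, 0, 0, 0, 0, 0, 0, 0, 0]]
  Tm := [[0, 0, 0, 0, 0, 0, 0, 0, 0, 0, 0, 0, 0, 0, 0, 0, 0, 0], [0, 0, 0, 0, 0, 0, 0, 0, 0, 0, 0, 0, 0, 0, 0, 0, 0, 0], [1, 0, 0, 0, 0, 0, 0, 0, 0, 0, 0, 0, 0, 0, 0, 0, 0, 0], [0, 1, 0, 0, 0, 0, 0, 0, 0, 0, 0, 0, 0, 0, 0, 0, 0, 0], [0, 0, 1, 0, 0, 0, 0, 0, 0, 0, 0, 0, 0, 0, 0, 0, 0, 0], [0, 0, 0, 0, 0, 0, 0, 0, 0, 0, 0, 0, 0, 0, 0, 0, 0, 0], [0, 0, 0, 0, 0, 0, 0, 0, 0, 3, 0, 0, 0, 0, 0, 0, 0, 0], [0, 0, 0, 0, 0, 3, 0, 0, 0, 0, 0, 0, 0, 0, 0, 0, 0, 0], [0, 0, 0, 6, 0, 3, 0, 0, 0, 0, 0, 0, 0, 0, 0, 0, 0, 0], [0, 0, 0, 0, 0, 0, 0, 0, 0, 0, 2, 0, 0, 0, 0, 0, 0, 0], [0, 0, 0, 3, 5, 3, 0, 0, 0, 3, 0, 0, 4, 0, 0, 0, 0, 0], [0, 0,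 0, 3, 2, 3, 0, 0, 0, 3, 0, 0, 4, 0, 0, 0, 0, 0], [0, 0, 0, 0, 0, 0, 0, 0, 0, 0, 0, 0, 0, 3, 0, 0, 0, 0], [0, 0, 0, 0, 0, 3, 6, 1, 0, 0, 0, 0, 0, 0, 0, 0, 0, 0], [0, 0, 0, 0, 0, 0, 0, 0, 0, 5, 0, 3, 0, 0, 0, 0, 0, 0], [6, 2, 1, 4, 5, 1, 4, 4, 1, 0, 2, 1, 2, 5, 6, 0, 3, 6], [0, 6, 3, 4, 2, 5, 6, 1, 0, 5, 0, 0, 4, 3, 2, 0, 6, 0], [0, 0, 0, 2, 0, 2, 3, 0, 6, 0, 3, 0, 0, 0, 5, 0, 0, 0], [0, 0, 0, 0, 0, 0, 0, 0, 3, 0, 0, 0, 0, 0, 0, 0, 0, 0], [0, 4, 2, 5, 4, 1, 2, 3, 2, 6, 3, 0, 5, 2, 5, 3, 4, 0], [0, 0, 0, 0, 0, 0, 3, 0, 0, 0, 0, 0, 0, 0, 0, 0, 0, 0]]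

end Cfsg.Agent.Lib.Helper28.FoxM24W1P7
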