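import Cfsg.Agent.Lib.Helper28.SchurFoxD
set_option autoImplicit false

namespace Cfsg.Agent.Lib.Helper28.FoxM24W2P2
open Cfsg.Agent.Lib.Helper28.SchurFox

def c0_0 : ℕ := 0x80000030000
def c0_1 : ℕ := 0x1
def c0_2 : ℕ := 0x0
def c0_3 : ℕ := 0x0
def c0_4 : ℕ := 0x4010000
def c1_0 : ℕ := 0x404000000080000000000180000000004020000000000000080200200140010020004000004284
def c1_1 : ℕ := 0x400000080000000000000000000010000000000000000000000809400000000200000200100000000030
def c1_2 : ℕ := 0x800000000000000000000000090001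
def c1_3 : ℕ := 0x800000001000000000000000803c0
def c1_4 : ℕ := 0x40000000000000000000000020000000000100000000000001008000000000000000004000000000000000002000080010000000000010011
def c2_0 : ℕ := 0x800000000000000000000000000000000000000000000000000000001000000200000000000000000000003000000040000000000400404000004000490b4289
def c2_1 : ℕ := 0x20000000080000002000000000000000100000000004000001000002120014800010
def c2_2 : ℕ := 0x8000000000000010000004001
def c2_3 : ℕ := 0x200000000000000000000008000000000000000001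
def c2_4 : ℕ := 0x10000000000000000000002000000000000000000000000010000000000000020820000080000800000001c043

/-- the certificate -/
def data : FoxData where
  n := 720
  d := 2
  p := 2
  w := 11
  mw := 2048
  cw := 1
  mc := 2
  paths := [[0, 0], [2, 2, 2, 2], [2, 0, 2, 0, 2, 0, 2, 0, 2, 0, 2, 0, 2, 0, 2, 0, 2, 0, 2, 0, 2, 0], [2, 2, 0, 2, 2, 0, 2, 2, 0, 2, 2, 0, 2, 2, 0, 2, 2, 0], [3, 0, 3, 0, 2, 0, 3, 0, 2, 2, 0, 2, 0, 3, 0, 2, 0, 2, 0]]
  cycles := [[c0_0, c0_1, c0_2, c0_3, c0_4], [c1_0, c1_1, c1_2, c1_3, c1_4], [c2_0, c2_1, c2_2, c2_3, c2_4]]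
  Lam := [[3, 1, 0, 0, 2], [19, 12, 4, 7, 12], [21, 13, 4, 3, 14]]
  S := [[0, 0, 0, 0, 1], [0, 0, 1, 0, 1]]
  Tm := [[1, 1, 1], [0, 1, 1], [0, 0, 0], [1, 0, 1], [0, 0, 0]]

end Cfsg.Agent.Lib.Helper28.FoxM24W2P2
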