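import Cfsg.Agent.Lib.Helper28.SchurFoxD
set_option autoImplicit false

namespace Cfsg.Agent.Lib.Helper28.FoxM24W2P3
open Cfsg.Agent.Lib.Helper28.SchurFox

def c0_0 : ℕ := 0x100000000004000044050
def c0_1 : ℕ := 0x40000000
def c0_2 : ℕ := 0x0
def c0_3 : ℕ := 0x0
def c0_4 : ℕ := 0xa
def c1_0 : ℕ := 0x1000000000000000010400051
def c1_1 : ℕ := 0x401000000502
def c1_2 : ℕ := 0x0
def c1_3 : ℕ := 0xa
def c1_4 : ℕ := 0x0
def c2_0 : ℕ := 0x200000000000000000000000000000000000000000000000000000000000000200200000040010000000000080000000008000400000001000000440000008000008000000000021004000000000000020400000008400882090a10489092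
def c2_1 : ℕ := 0x4000000000000000000000000000000000000000000000000000000000000000000000000000000000000000000000000000000000000000000000000000000000000000000000000000000000000000000000000000000000000000000000000000000000040000000004000000000000000000000000000000000000010000201000100008000021000000000000040000400081004010402089100900
def c2_2 : ℕ := 0x200000000000000000000000000000000000000000000000000000000000000000200020800008000000001
def c2_3 : ℕ := 0x1000000000080000000000000000020890002100a
def c2_4 : ℕ := 0x2000000000000000000000040000000000000000010000000000000000000000004010000200000000000000100000000000080000a04004004000400020100000000010400402000220041062a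

/-- the certificate -/
def data : FoxData where
  n := 720
  d := 2
  p := 3
  w := 12
  mw := 4096
  cw := 2
  mc := 4
  paths := [[0, 0], [2, 2, 2, 2], [2, 0, 2, 0, 2, 0, 2, 0, 2, 0, 2, 0, 2, 0, 2, 0, 2, 0, 2, 0, 2, 0], [2, 2, 0, 2, 2, 0, 2, 2, 0, 2, 2, 0, 2, 2, 0, 2, 2, 0], [3, 0, 3, 0, 2, 0, 3, 0, 2, 2, 0, 2, 0, 3, 0, 2, 0, 2, 0]]
  cycles := [[c0_0, c0_1, c0_2, c0_3, c0_4], [c1_0, c1_1, c1_2, c1_3, c1_4], [c2_0, c2_1, c2_2, c2_3, c2_4]]
  Lam := [[6, 1, 0, 0, 4], [6, 6, 0, 4, 0], [55, 32, 11, 17, 42]]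
  S := [[2, 0, 0, 0, 0], [0, 1, 0, 0, 0]]
  Tm := [[0, 0, 0], [0, 0, 0], [0, 2, 2], [0, 1, 0], [1, 0, 0]]

end Cfsg.Agent.Lib.Helper28.FoxM24W2P3
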