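import Cfsg.Agent.Lib.Helper28.SchurFoxD
set_option autoImplicit false

namespace Cfsg.Agent.Lib.Helper28.FoxM24W2P5
open Cfsg.Agent.Lib.Helper28.SchurFox

def c0_0 : ℕ := 0x200000000000000000009000000080082
def c0_1 : ℕ := 0x1
def c0_2 : ℕ := 0x0
def c0_3 : ℕ := 0x0
def c0_4 : ℕ := 0x100000004000000000000
def c1_0 : ℕ := 0x1000000000000000000000000040200000241
def c1_1 : ℕ := 0x200040000000009002
def c1_2 : ℕ := 0x0
def c1_3 : ℕ := 0x24
def c1_4 : ℕ := 0x0
def c2_0 : ℕ := 0x10000010000000000000000000000080000000000000000000000000000000000420000000000000001000000000000010000002000000000000000000000000000000000000000000020000002000000000200000000104400000401c00000402000000000001040010001c1206180808038c0842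
def c2_1 : ℕ := 0x40000000000000000000200000000000000000000000000000000000000000000000000000000000000004000000000000000000000000000000000000000000000000000000000000000000800000201040000000000000000000000000008000000000000000008000000004000801000403000200000212080010002
def c2_2 : ℕ := 0x800000000000000000000000000000000000000000000000000000000002000000020000000201000000000002
def c2_3 : ℕ := 0x80000000000000000000000000400000000000000000000000000000000000000000000080000000a30000c
def c2_4 : ℕ := 0x400000000000000000000000000000000000000000000000000000000000000000000000080000000000000000000000000000000010000000000000000000000000000000000000000010000008000000000000000000000000000000000000000000000000000001000000000000000000000000000000000000000000000000000000080080000000002000000000040030180000000000010180c0000000000813008201001419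

/-- the certificate -/
def data : FoxData where
  n := 720
  d := 2
  p := 5
  w := 13
  mw := 8192
  cw := 3
  mc := 8
  paths := [[0, 0], [2, 2, 2, 2], [2, 0, 2, 0, 2, 0, 2, 0, 2, 0, 2, 0, 2, 0, 2, 0, 2, 0, 2, 0, 2, 0], [2, 2, 0, 2, 2, 0, 2, 2, 0, 2, 2, 0, 2, 2, 0, 2, 2, 0], [3, 0, 3, 0, 2, 0, 3, 0, 2, 2, 0, 2, 0, 3, 0, 2, 0, 2, 0]]
  cycles := [[c0_0, c0_1, c0_2, c0_3, c0_4], [c1_0, c1_1, c1_2, c1_3, c1_4], [c2_0, c2_1, c2_2, c2_3, c2_4]]
  Lam := [[9, 1, 0, 0, 8], [6, 6, 0, 8, 0], [111, 41, 14, 25, 51]]
  S := [[3, 0, 0, 0, 0], [0, 4, 0, 0, 0]]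
  Tm := [[0, 0, 0], [0, 0, 0], [2, 0, 4], [0, 2, 0], [2, 0, 0]]

end Cfsg.Agent.Lib.Helper28.FoxM24W2P5
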