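import Cfsg.Agent.Lib.Helper28.FoxM24W2P5
import Cfsg.Agent.Lib.Helper28.TCM24W2Table
set_option autoImplicit false
set_option maxRecDepth 100000
set_option maxHeartbeats 0

namespace Cfsg.Agent.Lib.Helper28.FoxM24W2P5Chk
open Cfsg.Agent.Lib.Helper28.SchurFox Cfsg.Agent.Lib.Helper28.FoxM24W2P5 Cfsg.Agent.Lib.Helper28.TCM24W2Table

theorem hstatic : data.staticOK table.tau = true := by decide +kernel

theorem hcyc0 : data.cycleOK table.tau 0 = true := by decide +kernel
theorem hcyc1 : data.cycleOK table.tau 1 = true := by decide +kernel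
theorem hcyc2 : data.cycleOK table.tau 2 = true := by decide +kernel

theorem hcyc : ∀ k < data.cycles.length, data.cycleOK table.tau k = true := by
  intro k hk
  have hk' : k < 3 := hk
  interval_cases k
  exacts [hcyc0, hcyc1, hcyc2]

end Cfsg.Agent.Lib.Helper28.FoxM24W2P5Chk
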