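import Mathlib
import Cfsg.Agent.Lib.Helper18.UniqueInvolution
set_option autoImplicit false

/-! # Sylow subgroups of a group of order 72 with the element structure of `3² : Q₈` -/

namespace Cfsg.Agent.Lib.Helper28.FrobM9

theorem fact72_3 : (72 : ℕ).factorization 3 = 2 := by
  have : (72 : ℕ) = 3 ^ 2 * 2 ^ 3 := by norm_num
  rw [this, Nat.factorization_mul (by norm_num) (by norm_num), Nat.factorization_pow,
    Nat.factorization_pow]
  simp [Nat.Prime.factorization Nat.prime_three, Nat.Prime.factorization Nat.prime_two]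

theorem fact72_2 : (72 : ℕ).factorization 2 = 3 := by
  have : (72 : ℕ) = 3 ^ 2 * 2 ^ 3 := by norm_num
  rw [this, Nat.factorization_mul (by norm_num) (by norm_num), Nat.factorization_pow,
    Nat.factorization_pow]
  simp [Nat.Prime.factorization Nat.prime_three, Nat.Prime.factorization Nat.prime_two]

theorem sylow_of_facts {H : Type*} [Group H] [Finite H] (h72 : Nat.card H = 72)
    (hexp : ∀ x : H, x ^ 4 = 1 ∨ x ^ 3 = 1)
    (h3 : ∀ x y : H, x ^ 3 = 1 → y ^ 3 = 1 → (x * y) ^ 3 = 1)
    (hinv : ∀ u v : H, u ^ 2 = 1 → v ^ 2 = 1 → u ≠ 1 → v ≠ 1 → u ≠ v → (u * v) ^ 3 = 1) :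
    (∀ Q : Sylow 3 H, (Q : Subgroup H).Normal ∧ Nat.card Q = 9 ∧
      ∀ x ∈ (Q : Subgroup H), x ^ 3 = 1) ∧
    ∀ P : Sylow 2 H, Nonempty (↥P ≃* QuaternionGroup 2) := by
  have : Fact (Nat.Prime 3) := ⟨Nat.prime_three⟩
  have : Fact (Nat.Prime 2) := ⟨Nat.prime_two⟩
  constructor
  · intro Q
    have hQ9 : Nat.card Q = 9 := by
      rw [Sylow.card_eq_multiplicity, h72, fact72_3]
      norm_num
    let R : Subgroup H :=
      { carrier := {x | x ^ 3 = 1}
        mul_mem' := fun {a b} ha hb => h3 a b ha hb
        one_mem' := one_pow 3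
        inv_mem' := fun {a} ha => by
          show a⁻¹ ^ 3 = 1
          rw [inv_pow, show a ^ 3 = 1 from ha, inv_one] }
    have hR : IsPGroup 3 R := by
      intro x
      refine ⟨1, ?_⟩
      apply Subtype.ext
      have : (x : H) ^ 3 = 1 := x.2
      simpa using this
    have hQR : (Q : Subgroup H) ≤ R := by
      intro x hx
      show x ^ 3 = 1
      have h9 : x ^ 9 = 1 := by
        have := pow_card_eq_one' (G := ↥(Q : Subgroup H)) (x := ⟨x, hx⟩)
        rw [hQ9] at this
        exact congrArg Subtype.val this
      rcases hexp x with h4 | h3'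
      · have : x = 1 := by
          have e : x = x ^ 9 * ((x ^ 4) ^ 2)⁻¹ := by
            rw [← pow_mul, ← pow_sub x (by norm_num : 4 * 2 ≤ 9)]
            norm_num
          rw [e, h9, h4]
          simp
        rw [this, one_pow]
      · exact h3'
    have hRQ : R = (Q : Subgroup H) := Q.is_maximal' hR hQR
    refine ⟨?_, hQ9, ?_⟩
    · rw [← hRQ]
      constructor
      intro n hn g
      show (g * n * g⁻¹) ^ 3 = 1
      rw [conj_pow, show n ^ 3 = 1 from hn]
      simp
    · intro x hx
      rw [← hRQ] at hx
      exact hx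
  · intro P
    have hP8 : Nat.card P = 8 := by
      rw [Sylow.card_eq_multiplicity, h72, fact72_2]
      norm_num
    have hP8' : Nat.card (↥P) = 8 := hP8
    have hpow8 : ∀ x : ↥P, (x : H) ^ 8 = 1 := by
      intro x
      have := pow_card_eq_one' (G := ↥P) (x := x)
      rw [hP8'] at this
      exact congrArg Subtype.val this
    have h4 : ∀ x : ↥P, (x : H) ^ 4 = 1 := by
      intro x
      rcases hexp (x : H) with h | h
      · exact h
      · have h8 := hpow8 x
        have : (x : H) = 1 := by
          have e : (x : H) = ((x : H) ^ 3) ^ 3 * ((x : H) ^ 8)⁻¹ := by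
            rw [← pow_mul, ← pow_sub (x : H) (by norm_num : 8 ≤ 3 * 3)]
            norm_num
          rw [e, h, h8]
          simp
        rw [this, one_pow]
    have huniq : ∀ s t : ↥P, orderOf s = 2 → orderOf t = 2 → s = t := by
      intro s t hs ht
      by_contra hne
      have hs2 : (s : H) ^ 2 = 1 := by
        have := pow_orderOf_eq_one s
        rw [hs] at this
        exact congrArg Subtype.val this
      have ht2 : (t : H) ^ 2 = 1 := by
        have := pow_orderOf_eq_one t
        rw [ht] at this
        exact congrArg Subtype.val this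
      have hs1 : (s : H) ≠ 1 := by
        intro h
        have : s = 1 := Subtype.ext h
        rw [this, orderOf_one] at hs
        norm_num at hs
      have ht1 : (t : H) ≠ 1 := by
        intro h
        have : t = 1 := Subtype.ext h
        rw [this, orderOf_one] at ht
        norm_num at ht
      have hst : (s : H) ≠ (t : H) := fun h => hne (Subtype.ext h)
      have hc := hinv _ _ hs2 ht2 hs1 ht1 hst
      have h8 := hpow8 (s * t)
      have hst1 : (s : H) * (t : H) = 1 := by
        have e : (s : H) * (t : H) = (((s : H) * (t : H)) ^ 3) ^ 3 * (((s : H) * (t : H)) ^ 8)⁻¹ := by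
          rw [← pow_mul, ← pow_sub _ (by norm_num : 8 ≤ 3 * 3)]
          norm_num
        rw [e, hc]
        have : ((s : H) * (t : H)) ^ 8 = 1 := h8
        rw [this]
        simp
      apply hst
      have : (s : H) = (t : H)⁻¹ := eq_inv_of_mul_eq_one_left hst1
      rw [this]
      have : (t : H) * (t : H) = 1 := by rw [← pow_two]; exact ht2
      exact inv_eq_of_mul_eq_one_left this
    rcases Cfsg.Agent.Lib.Helper18.isCyclic_or_quaternion_of_unique_involution
      (G := ↥P) P.isPGroup' huniq with hcyc | ⟨n, hn, ⟨e⟩⟩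
    · exfalso
      obtain ⟨z, hz⟩ := hcyc.exists_ofOrder_eq_natCard
      rw [hP8'] at hz
      have hz4 : z ^ 4 = 1 := Subtype.ext (h4 z)
      have := orderOf_dvd_of_pow_eq_one hz4
      rw [hz] at this
      norm_num at this
    · have hcard : Nat.card (QuaternionGroup (2 ^ n)) = 8 := by
        rw [← Nat.card_congr e.toEquiv, hP8']
      have hn1 : n = 1 := by
        have : NeZero (2 ^ n) := ⟨by positivity⟩
        rw [Nat.card_eq_fintype_card, QuaternionGroup.card] at hcard
        have h2 : 2 ^ n = 2 := by omega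
        exact Nat.pow_right_injective (le_refl 2) (by simpa using h2)
      subst hn1
      exact ⟨e⟩

end Cfsg.Agent.Lib.Helper28.FrobM9
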