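import Cfsg.Agent.Lib.Helper3.Cover.Basic
import Cfsg.Agent.Lib.Helper28.TCG24W0Def
import Cfsg.Agent.Lib.Helper28.TCG24W1Def
set_option autoImplicit false
set_option maxRecDepth 100000

/-!
# Covering presentations of the presented groups `G₂(4)` (generators `a..f`) and `J₂` (generators `a..e`)
-/

namespace Cfsg.Agent.Lib.Helper28.G24CovDef

open Cfsg.Agent.Lib.Helper3.Cover

/-- the generators -/
abbrev Gen : Type := Cfsg.Agent.Lib.Helper28.TCG24W0Def.Gen

instance fintypeGen : Fintype Gen := ⟨⟨(([.a, .b, .c, .d, .e, .f] : List Gen) : Multiset Gen), by decide⟩, by intro x; cases x <;> decide⟩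

/-- the relators of the group -/
def R : List (List (Gen × Bool)) := [
  [(.a, true), (.a, true)],
  [(.a, true), (.b, true), (.a, true), (.b, true), (.a, true), (.b, true), (.a, true), (.b, true), (.a, true), (.b, true)],
  [(.a, true), (.c, true), (.a, true), (.c, true)],
  [(.a, true), (.d, true), (.a, true), (.d, true)],
  [(.a, true), (.e, true), (.a, true), (.e, true)],
  [(.a, true), (.f, true), (.a, true), (.f, true)],
  [(.b, true), (.a, true), (.b, true), (.a, true), (.b, true), (.a, true), (.b, true), (.a, true), (.b, true), (.a, true)],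
  [(.b, true), (.b, true)],
  [(.b, true), (.c, true), (.b, true), (.c, true), (.b, true), (.c, true)],
  [(.b, true), (.d, true), (.b, true), (.d, true)],
  [(.b, true), (.e, true), (.b, true), (.e, true)],
  [(.b, true), (.f, true), (.b, true), (.f, true), (.b, true), (.f, true)],
  [(.c, true), (.a, true), (.c, true), (.a, true)],
  [(.c, true), (.b, true), (.c, true), (.b, true), (.c, true), (.b, true)],
  [(.c, true), (.c, true)],
  [(.c, true), (.d, true), (.c, true), (.d, true), (.c, true), (.d, true), (.c, true), (.d, true), (.c, true), (.d, true), (.c, true), (.d, true), (.c, true), (.d, true), (.c, true), (.d, true)],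
  [(.c, true), (.e, true), (.c, true), (.e, true)],
  [(.c, true), (.f, true), (.c, true), (.f, true)],
  [(.d, true), (.a, true), (.d, true), (.a, true)],
  [(.d, true), (.b, true), (.d, true), (.b, true)],
  [(.d, true), (.c, true), (.d, true), (.c, true), (.d, true), (.c, true), (.d, true), (.c, true), (.d, true), (.c, true), (.d, true), (.c, true), (.d, true), (.c, true), (.d, true), (.c, true)],
  [(.d, true), (.d, true)],
  [(.d, true), (.e, true), (.d, true), (.e, true), (.d, true), (.e, true)],
  [(.d, true), (.f, true), (.d, true), (.f, true)],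
  [(.e, true), (.a, true), (.e, true), (.a, true)],
  [(.e, true), (.b, true), (.e, true), (.b, true)],
  [(.e, true), (.c, true), (.e, true), (.c, true)],
  [(.e, true), (.d, true), (.e, true), (.d, true), (.e, true), (.d, true)],
  [(.e, true), (.e, true)],
  [(.e, true), (.f, true), (.e, true), (.f, true)],
  [(.f, true), (.a, true), (.f, true), (.a, true)],
  [(.f, true), (.b, true), (.f, true), (.b, true), (.f, true), (.b, true)],
  [(.f, true), (.c, true), (.f, true), (.c, true)],
  [(.f, true), (.d, true), (.f, true), (.d, true)],
  [(.f, true), (.e, true), (.f, true), (.e, true)],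
  [(.f, true), (.f, true)],
  [(.a, true), (.d, false), (.c, false), (.d, false), (.c, false), (.d, false), (.c, false), (.d, false), (.c, false)],
  [(.a, true), (.b, true), (.c, true), (.f, true), (.a, true), (.b, true), (.c, true), (.f, true), (.a, true), (.b, true), (.c, true), (.f, true), (.a, true), (.b, true), (.c, true), (.f, true), (.a, true), (.b, true), (.c, true), (.f, true)],
  [(.b, true), (.c, true), (.d, true), (.c, true), (.d, true), (.b, true), (.c, true), (.d, true), (.c, true), (.d, true), (.b, true), (.c, true), (.d, true), (.c, true), (.d, true), (.b, true), (.c, true), (.d, true), (.c, true), (.d, true), (.b, true), (.c, true), (.d, true), (.c, true), (.d, true), (.e, true), (.b, true), (.c, true), (.d, true), (.c, true), (.d, true), (.b, true), (.c, true), (.d, true), (.c, true), (.d, true), (.b, true), (.c, true), (.d, true), (.c, true), (.d, true), (.b, true), (.c, true), (.d, true), (.c, true), (.d, true), (.b, true), (.c, true), (.d, true), (.c, true), (.d, true), (.e, true), (.b, true), (.c, true), (.d, true), (.c, true), (.d, true), (.b, true), (.c, true),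 (.d, true), (.c, true), (.d, true), (.b, true), (.c, true), (.d, true), (.c, true), (.d, true), (.b, true), (.c, true), (.d, true), (.c, true), (.d, true), (.b, true), (.c, true), (.d, true), (.c, true), (.d, true), (.e, true)] ]

/-- the normalising word of `a` -/
def nrm_a : List (Gen × Bool) := combWord [(R.getD 36 [], 1), (R.getD 14 [], 2), (R.getD 21 [], 2)]

/-- the normalising word of `b` -/
def nrm_b : List (Gen × Bool) := combWord [(R.getD 1 [], 1), (R.getD 0 [], -2), (nrm_a, -1), (R.getD 7 [], -2)]

/-- the normalising word of `c` -/
def nrm_c : List (Gen × Bool) := combWord [(R.getD 8 [], 1), (R.getD 7 [], -1), (nrm_b, -1), (R.getD 14 [], -1)]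

/-- the normalising word of `e` -/
def nrm_e : List (Gen × Bool) := combWord [(R.getD 38 [], 1), (R.getD 7 [], -7), (nrm_b, -1), (R.getD 14 [], -15), (R.getD 21 [], -15), (R.getD 28 [], -1)]

/-- the normalising word of `d` -/
def nrm_d : List (Gen × Bool) := combWord [(R.getD 22 [], 1), (R.getD 21 [], -1), (R.getD 28 [], -1), (nrm_e, -1)]

/-- the normalising word of `f` -/
def nrm_f : List (Gen × Bool) := combWord [(R.getD 11 [], 1), (R.getD 7 [], -1), (nrm_b, -1), (R.getD 35 [], -1)]

/-- the normalising words -/
def nrm : Gen → List (Gen × Bool)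
  | .a => nrm_a
  | .b => nrm_b
  | .c => nrm_c
  | .d => nrm_d
  | .e => nrm_e
  | .f => nrm_f

theorem hR : ∀ L ∈ R, PresentedGroup.mk (relSet R) (FreeGroup.mk L) = 1 :=
  fun L hL => PresentedGroup.one_of_mem ⟨L, hL, rfl⟩

theorem hn_a : PresentedGroup.mk (relSet R) (FreeGroup.mk nrm_a) = 1 :=
  map_combWord_eq_one _ _ (by
    intro p hp
    simp only [List.mem_cons, List.not_mem_nil, or_false] at hp
    rcases hp with rfl | rfl | rfl
    · exact hR _ (by decide +kernel)
    · exact hR _ (by decide +kernel)
    · exact hR _ (by decide +kernel))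

theorem hn_b : PresentedGroup.mk (relSet R) (FreeGroup.mk nrm_b) = 1 :=
  map_combWord_eq_one _ _ (by
    intro p hp
    simp only [List.mem_cons, List.not_mem_nil, or_false] at hp
    rcases hp with rfl | rfl | rfl | rfl
    · exact hR _ (by decide +kernel)
    · exact hR _ (by decide +kernel)
    · exact hn_a
    · exact hR _ (by decide +kernel))

theorem hn_c : PresentedGroup.mk (relSet R) (FreeGroup.mk nrm_c) = 1 :=
  map_combWord_eq_one _ _ (by
    intro p hp
    simp only [List.mem_cons, List.not_mem_nil, or_false] at hp
    rcases hp with rfl | rfl | rfl | rfl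
    · exact hR _ (by decide +kernel)
    · exact hR _ (by decide +kernel)
    · exact hn_b
    · exact hR _ (by decide +kernel))

theorem hn_e : PresentedGroup.mk (relSet R) (FreeGroup.mk nrm_e) = 1 :=
  map_combWord_eq_one _ _ (by
    intro p hp
    simp only [List.mem_cons, List.not_mem_nil, or_false] at hp
    rcases hp with rfl | rfl | rfl | rfl | rfl | rfl
    · exact hR _ (by decide +kernel)
    · exact hR _ (by decide +kernel)
    · exact hn_b
    · exact hR _ (by decide +kernel)
    · exact hR _ (by decide +kernel)
    · exact hR _ (by decide +kernel))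

theorem hn_d : PresentedGroup.mk (relSet R) (FreeGroup.mk nrm_d) = 1 :=
  map_combWord_eq_one _ _ (by
    intro p hp
    simp only [List.mem_cons, List.not_mem_nil, or_false] at hp
    rcases hp with rfl | rfl | rfl | rfl
    · exact hR _ (by decide +kernel)
    · exact hR _ (by decide +kernel)
    · exact hR _ (by decide +kernel)
    · exact hn_e)

theorem hn_f : PresentedGroup.mk (relSet R) (FreeGroup.mk nrm_f) = 1 :=
  map_combWord_eq_one _ _ (by
    intro p hp
    simp only [List.mem_cons, List.not_mem_nil, or_false] at hp
    rcases hp with rfl | rfl | rfl | rfl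
    · exact hR _ (by decide +kernel)
    · exact hR _ (by decide +kernel)
    · exact hn_b
    · exact hR _ (by decide +kernel))

/-- the covering presentation -/
def cover : CoverData Gen where
  R := R
  gens := [.a, .b, .c, .d, .e, .f]
  nrm := nrm
  norms := [nrm_a, nrm_b, nrm_c, nrm_d, nrm_e, nrm_f]
  hgens := by intro x; cases x <;> decide
  hnorms := by intro x; cases x <;> simp [nrm]
  hnorms' := by
    intro L hL
    simp only [List.mem_cons, List.not_mem_nil, or_false] at hL
    rcases hL with rfl | rfl | rfl | rfl | rfl | rfl
    · exact ⟨.a, rfl⟩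
    · exact ⟨.b, rfl⟩
    · exact ⟨.c, rfl⟩
    · exact ⟨.d, rfl⟩
    · exact ⟨.e, rfl⟩
    · exact ⟨.f, rfl⟩
  hnrm := by
    intro x
    cases x
    · exact hn_a
    · exact hn_b
    · exact hn_c
    · exact hn_d
    · exact hn_e
    · exact hn_f
  hexp := by intro x y; cases x <;> cases y <;> decide +kernel

/-- the relators of the covering group in list form -/
abbrev relWords : List (List (Gen × Bool)) := coverWords cover.R cover.gens cover.norms

end Cfsg.Agent.Lib.Helper28.G24CovDef

namespace Cfsg.Agent.Lib.Helper28.G24CovDefJ

open Cfsg.Agent.Lib.Helper3.Cover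

/-- the generators -/
abbrev Gen : Type := Cfsg.Agent.Lib.Helper28.TCG24W1Def.Gen

instance fintypeGenJ : Fintype Gen := ⟨⟨(([.a, .b, .c, .d, .e] : List Gen) : Multiset Gen), by decide⟩, by intro x; cases x <;> decide⟩

/-- the relators of the group -/
def R : List (List (Gen × Bool)) := [
  [(.a, true), (.a, true)],
  [(.a, true), (.b, true), (.a, true), (.b, true), (.a, true), (.b, true), (.a, true), (.b, true), (.a, true), (.b, true)],
  [(.a, true), (.c, true), (.a, true), (.c, true)],
  [(.a, true), (.d, true), (.a, true), (.d, true)],
  [(.a, true), (.e, true), (.a, true), (.e, true)],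
  [(.b, true), (.a, true), (.b, true), (.a, true), (.b, true), (.a, true), (.b, true), (.a, true), (.b, true), (.a, true)],
  [(.b, true), (.b, true)],
  [(.b, true), (.c, true), (.b, true), (.c, true), (.b, true), (.c, true)],
  [(.b, true), (.d, true), (.b, true), (.d, true)],
  [(.b, true), (.e, true), (.b, true), (.e, true)],
  [(.c, true), (.a, true), (.c, true), (.a, true)],
  [(.c, true), (.b, true), (.c, true), (.b, true), (.c, true), (.b, true)],
  [(.c, true), (.c, true)],
  [(.c, true), (.d, true), (.c, true), (.d, true), (.c, true), (.d, true), (.c, true), (.d, true), (.c, true), (.d, true), (.c, true), (.d, true), (.c, true), (.d, true), (.c, true), (.d, true)],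
  [(.c, true), (.e, true), (.c, true), (.e, true)],
  [(.d, true), (.a, true), (.d, true), (.a, true)],
  [(.d, true), (.b, true), (.d, true), (.b, true)],
  [(.d, true), (.c, true), (.d, true), (.c, true), (.d, true), (.c, true), (.d, true), (.c, true), (.d, true), (.c, true), (.d, true), (.c, true), (.d, true), (.c, true), (.d, true), (.c, true)],
  [(.d, true), (.d, true)],
  [(.d, true), (.e, true), (.d, true), (.e, true), (.d, true), (.e, true)],
  [(.e, true), (.a, true), (.e, true), (.a, true)],
  [(.e, true), (.b, true), (.e, true), (.b, true)],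
  [(.e, true), (.c, true), (.e, true), (.c, true)],
  [(.e, true), (.d, true), (.e, true), (.d, true), (.e, true), (.d, true)],
  [(.e, true), (.e, true)],
  [(.a, true), (.d, false), (.c, false), (.d, false), (.c, false), (.d, false), (.c, false), (.d, false), (.c, false)],
  [(.b, true), (.c, true), (.d, true), (.c, true), (.d, true), (.b, true), (.c, true), (.d, true), (.c, true), (.d, true), (.b, true), (.c, true), (.d, true), (.c, true), (.d, true), (.b, true), (.c, true), (.d, true), (.c, true), (.d, true), (.b, true), (.c, true), (.d, true), (.c, true), (.d, true), (.e, true), (.b, true), (.c, true), (.d, true), (.c, true), (.d, true), (.b, true), (.c, true), (.d, true), (.c, true), (.d, true), (.b, true), (.c, true), (.d, true), (.c, true), (.d, true), (.b, true), (.c, true), (.d, true), (.c, true), (.d, true), (.b, true), (.c, true), (.d, true), (.c, true), (.d, true), (.e, true), (.b, true), (.c, true), (.d, true), (.c, true), (.d, true), (.b, true), (.c, true), (.d, true), (.c, true), (.d, true), (.b, true), (.c, true), (.d, true), (.c, true), (.d, true), (.b, true), (.c, true),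 (.d, true), (.c, true), (.d, true), (.b, true), (.c, true), (.d, true), (.c, true), (.d, true), (.e, true)] ]

/-- the normalising word of `a` -/
def nrm_a : List (Gen × Bool) := combWord [(R.getD 25 [], 1), (R.getD 12 [], 2), (R.getD 18 [], 2)]

/-- the normalising word of `b` -/
def nrm_b : List (Gen × Bool) := combWord [(R.getD 1 [], 1), (R.getD 0 [], -2), (nrm_a, -1), (R.getD 6 [], -2)]

/-- the normalising word of `c` -/
def nrm_c : List (Gen × Bool) := combWord [(R.getD 7 [], 1), (R.getD 6 [], -1), (nrm_b, -1), (R.getD 12 [], -1)]

/-- the normalising word of `e` -/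
def nrm_e : List (Gen × Bool) := combWord [(R.getD 26 [], 1), (R.getD 6 [], -7), (nrm_b, -1), (R.getD 12 [], -15), (R.getD 18 [], -15), (R.getD 24 [], -1)]

/-- the normalising word of `d` -/
def nrm_d : List (Gen × Bool) := combWord [(R.getD 19 [], 1), (R.getD 18 [], -1), (R.getD 24 [], -1), (nrm_e, -1)]

/-- the normalising words -/
def nrm : Gen → List (Gen × Bool)
  | .a => nrm_a
  | .b => nrm_b
  | .c => nrm_c
  | .d => nrm_d
  | .e => nrm_e

theorem hR : ∀ L ∈ R, PresentedGroup.mk (relSet R) (FreeGroup.mk L) = 1 :=
  fun L hL => PresentedGroup.one_of_mem ⟨L, hL, rfl⟩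

theorem hn_a : PresentedGroup.mk (relSet R) (FreeGroup.mk nrm_a) = 1 :=
  map_combWord_eq_one _ _ (by
    intro p hp
    simp only [List.mem_cons, List.not_mem_nil, or_false] at hp
    rcases hp with rfl | rfl | rfl
    · exact hR _ (by decide +kernel)
    · exact hR _ (by decide +kernel)
    · exact hR _ (by decide +kernel))

theorem hn_b : PresentedGroup.mk (relSet R) (FreeGroup.mk nrm_b) = 1 :=
  map_combWord_eq_one _ _ (by
    intro p hp
    simp only [List.mem_cons, List.not_mem_nil, or_false] at hp
    rcases hp with rfl | rfl | rfl | rfl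
    · exact hR _ (by decide +kernel)
    · exact hR _ (by decide +kernel)
    · exact hn_a
    · exact hR _ (by decide +kernel))

theorem hn_c : PresentedGroup.mk (relSet R) (FreeGroup.mk nrm_c) = 1 :=
  map_combWord_eq_one _ _ (by
    intro p hp
    simp only [List.mem_cons, List.not_mem_nil, or_false] at hp
    rcases hp with rfl | rfl | rfl | rfl
    · exact hR _ (by decide +kernel)
    · exact hR _ (by decide +kernel)
    · exact hn_b
    · exact hR _ (by decide +kernel))

theorem hn_e : PresentedGroup.mk (relSet R) (FreeGroup.mk nrm_e) = 1 :=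
  map_combWord_eq_one _ _ (by
    intro p hp
    simp only [List.mem_cons, List.not_mem_nil, or_false] at hp
    rcases hp with rfl | rfl | rfl | rfl | rfl | rfl
    · exact hR _ (by decide +kernel)
    · exact hR _ (by decide +kernel)
    · exact hn_b
    · exact hR _ (by decide +kernel)
    · exact hR _ (by decide +kernel)
    · exact hR _ (by decide +kernel))

theorem hn_d : PresentedGroup.mk (relSet R) (FreeGroup.mk nrm_d) = 1 :=
  map_combWord_eq_one _ _ (by
    intro p hp
    simp only [List.mem_cons, List.not_mem_nil, or_false] at hp
    rcases hp with rfl | rfl | rfl | rfl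
    · exact hR _ (by decide +kernel)
    · exact hR _ (by decide +kernel)
    · exact hR _ (by decide +kernel)
    · exact hn_e)

/-- the covering presentation -/
def cover : CoverData Gen where
  R := R
  gens := [.a, .b, .c, .d, .e]
  nrm := nrm
  norms := [nrm_a, nrm_b, nrm_c, nrm_d, nrm_e]
  hgens := by intro x; cases x <;> decide
  hnorms := by intro x; cases x <;> simp [nrm]
  hnorms' := by
    intro L hL
    simp only [List.mem_cons, List.not_mem_nil, or_false] at hL
    rcases hL with rfl | rfl | rfl | rfl | rfl
    · exact ⟨.a, rfl⟩
    · exact ⟨.b, rfl⟩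
    · exact ⟨.c, rfl⟩
    · exact ⟨.d, rfl⟩
    · exact ⟨.e, rfl⟩
  hnrm := by
    intro x
    cases x
    · exact hn_a
    · exact hn_b
    · exact hn_c
    · exact hn_d
    · exact hn_e
  hexp := by intro x y; cases x <;> cases y <;> decide +kernel

/-- the relators of the covering group in list form -/
abbrev relWords : List (List (Gen × Bool)) := coverWords cover.R cover.gens cover.norms

end Cfsg.Agent.Lib.Helper28.G24CovDefJ
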