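import Cfsg.Agent.Lib.Helper28.G2Rep
import Cfsg.Agent.Lib.Helper28.TCG24W0Link
set_option autoImplicit false
set_option maxRecDepth 100000
set_option maxHeartbeats 0

/-!
# Six involutions of `G₂(4)` satisfying the relations of the generators `a, …, f` of the presented Suzuki group
-/

namespace Cfsg.Agent.Lib.Helper28.G2Data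
open Cfsg.Agent.Lib.Helper28.U6F4 Cfsg.Agent.Lib.Helper28.G2F4 Cfsg.Agent.Lib.Helper28.G2Rep Cfsg.Lie

/-- the root element `x_0(1)` -/
def x_0_1 : M := [[1, 0, 0, 0, 0, 0, 0, 0, 0, 0, 0, 0, 0, 1], [0, 1, 0, 0, 0, 0, 0, 0, 0, 0, 0, 0, 0, 0], [0, 1, 1, 0, 0, 0, 0, 0, 0, 0, 0, 0, 0, 1], [0, 0, 0, 1, 0, 0, 0, 0, 1, 0, 0, 0, 0, 0], [0, 0, 0, 0, 1, 0, 0, 0, 0, 0, 1, 0, 0, 0], [0, 0, 0, 0, 0, 1, 0, 0, 0, 0, 0, 1, 0, 0], [0, 0, 0, 0, 0, 0, 1, 0, 0, 0, 0, 0, 0, 0], [0, 0, 0, 0, 0, 0, 0, 1, 0, 0, 0, 0, 1, 0], [0, 0, 0, 0, 0, 0, 0, 0, 1, 0, 0, 0, 0, 0], [0, 0, 0, 0, 0, 0, 0, 0, 0, 1, 0, 0, 0, 0], [0, 0, 0, 0, 0, 0, 0, 0, 0, 0, 1, 0, 0, 0], [0, 0,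 0, 0, 0, 0, 0, 0, 0, 0, 0, 1, 0, 0], [0, 0, 0, 0, 0, 0, 0, 0, 0, 0, 0, 0, 1, 0], [0, 0, 0, 0, 0, 0, 0, 0, 0, 0, 0, 0, 0, 1]]
theorem dec_x_0_1 : dec14 x_0_1 = X14 (0 : Fin 12) (toF4 1) := by decide +kernel
theorem sq_x_0_1 : mulL x_0_1 x_0_1 = ONE14 := by decide +kernel
theorem rep_x_0_1 : Rep x_0_1 := rep_root _ _ _ dec_x_0_1 sq_x_0_1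

/-- the root element `x_0(ω)` -/
def x_0_2 : M := [[1, 0, 0, 0, 0, 0, 0, 0, 0, 0, 0, 0, 0, 2], [0, 1, 0, 0, 0, 0, 0, 0, 0, 0, 0, 0, 0, 0], [0, 2, 1, 0, 0, 0, 0, 0, 0, 0, 0, 0, 0, 3], [0, 0, 0, 1, 0, 0, 0, 0, 2, 0, 0, 0, 0, 0], [0, 0, 0, 0, 1, 0, 0, 0, 0, 0, 2, 0, 0, 0], [0, 0, 0, 0, 0, 1, 0, 0, 0, 0, 0, 2, 0, 0], [0, 0, 0, 0, 0, 0, 1, 0, 0, 0, 0, 0, 0, 0], [0, 0, 0, 0, 0, 0, 0, 1, 0, 0, 0, 0, 2, 0], [0, 0, 0, 0, 0, 0, 0, 0, 1, 0, 0, 0, 0, 0], [0, 0, 0, 0, 0, 0, 0, 0, 0, 1, 0, 0, 0, 0], [0, 0, 0, 0, 0, 0, 0, 0, 0, 0, 1, 0, 0, 0], [0, 0, 0, 0, 0, 0, 0, 0, 0, 0, 0, 1, 0, 0], [0, 0, 0, 0, 0, 0, 0, 0, 0, 0, 0, 0, 1, 0], [0, 0, 0, 0, 0, 0, 0,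 0, 0, 0, 0, 0, 0, 1]]
theorem dec_x_0_2 : dec14 x_0_2 = X14 (0 : Fin 12) (toF4 2) := by decide +kernel
theorem sq_x_0_2 : mulL x_0_2 x_0_2 = ONE14 := by decide +kernel
theorem rep_x_0_2 : Rep x_0_2 := rep_root _ _ _ dec_x_0_2 sq_x_0_2

/-- the root element `x_1(1)` -/
def x_1_1 : M := [[1, 0, 0, 0, 0, 0, 0, 0, 0, 0, 0, 0, 1, 0], [0, 1, 0, 0, 0, 0, 0, 0, 0, 0, 0, 0, 1, 0], [0, 0, 1, 0, 0, 0, 0, 1, 0, 0, 0, 0, 0, 0], [1, 1, 0, 1, 0, 0, 0, 0, 0, 0, 0, 0, 1, 0], [0, 0, 0, 0, 1, 0, 0, 0, 0, 1, 0, 0, 0, 0], [0, 0, 0, 0, 0, 1, 0, 0, 0, 0, 0, 0, 0, 0], [0, 0, 0, 0, 0, 0, 1, 0, 0, 0, 0, 1, 0, 0], [0, 0, 0, 0, 0, 0, 0, 1, 0, 0, 0, 0, 0, 0], [0, 0,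 0, 0, 0, 0, 0, 0, 1, 0, 0, 0, 0, 1], [0, 0, 0, 0, 0, 0, 0, 0, 0, 1, 0, 0, 0, 0], [0, 0, 0, 0, 0, 0, 0, 0, 0, 0, 1, 0, 0, 0], [0, 0, 0, 0, 0, 0, 0, 0, 0, 0, 0, 1, 0, 0], [0, 0, 0, 0, 0, 0, 0, 0, 0, 0, 0, 0, 1, 0], [0, 0, 0, 0, 0, 0, 0, 0, 0, 0, 0, 0, 0, 1]]
theorem dec_x_1_1 : dec14 x_1_1 = X14 (1 : Fin 12) (toF4 1) := by decide +kernel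
theorem sq_x_1_1 : mulL x_1_1 x_1_1 = ONE14 := by decide +kernel
theorem rep_x_1_1 : Rep x_1_1 := rep_root _ _ _ dec_x_1_1 sq_x_1_1

/-- the root element `x_1(ω)` -/
def x_1_2 : M := [[1, 0, 0, 0, 0, 0, 0, 0, 0, 0, 0, 0, 2, 0], [0, 1, 0, 0, 0, 0, 0, 0, 0, 0, 0, 0, 2, 0], [0, 0, 1, 0, 0, 0, 0, 2, 0, 0, 0, 0, 0, 0], [2, 2, 0, 1, 0, 0, 0, 0, 0, 0, 0, 0, 3, 0], [0, 0, 0, 0, 1, 0, 0, 0, 0, 2, 0, 0, 0, 0], [0, 0, 0, 0, 0, 1, 0, 0, 0, 0, 0, 0, 0, 0], [0, 0, 0, 0, 0, 0, 1, 0, 0, 0, 0, 2, 0, 0], [0, 0, 0, 0, 0, 0, 0, 1, 0, 0, 0, 0, 0, 0], [0, 0, 0, 0, 0, 0, 0, 0, 1, 0, 0, 0, 0, 2], [0, 0, 0, 0, 0, 0, 0, 0, 0, 1, 0, 0, 0, 0], [0, 0, 0, 0, 0, 0, 0,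 0, 0, 0, 1, 0, 0, 0], [0, 0, 0, 0, 0, 0, 0, 0, 0, 0, 0, 1, 0, 0], [0, 0, 0, 0, 0, 0, 0, 0, 0, 0, 0, 0, 1, 0], [0, 0, 0, 0, 0, 0, 0, 0, 0, 0, 0, 0, 0, 1]]
theorem dec_x_1_2 : dec14 x_1_2 = X14 (1 : Fin 12) (toF4 2) := by decide +kernel
theorem sq_x_1_2 : mulL x_1_2 x_1_2 = ONE14 := by decide +kernel
theorem rep_x_1_2 : Rep x_1_2 := rep_root _ _ _ dec_x_1_2 sq_x_1_2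

/-- the root element `x_3(1)` -/
def x_3_1 : M := [[1, 0, 0, 0, 0, 0, 0, 0, 0, 0, 1, 0, 0, 0], [0, 1, 0, 0, 0, 0, 0, 0, 0, 0, 1, 0, 0, 0], [0, 0, 1, 0, 1, 0, 1, 0, 1, 0, 0, 0, 0, 0], [0, 0, 0, 1, 0, 0, 0, 0, 0, 0, 0, 0, 0, 0], [0, 0, 0, 0, 1, 0, 0, 0, 1, 0, 0, 0, 0, 0], [1, 1, 0, 0, 0, 1, 0, 0, 0, 0, 1, 0, 0, 0], [0, 0, 0, 0, 0, 0, 1, 0, 1, 0, 0, 0, 0, 0], [0, 0, 0, 0, 0, 0, 0, 1, 0, 1, 0, 1, 0, 1], [0, 0, 0, 0, 0, 0, 0, 0, 1, 0, 0, 0, 0, 0], [0, 0, 0, 0, 0, 0, 0, 0, 0, 1, 0, 0, 0, 1], [0, 0, 0, 0, 0, 0, 0, 0, 0, 0, 1, 0, 0, 0], [0, 0, 0, 0, 0, 0, 0, 0, 0, 0, 0, 1, 0, 1], [0, 0, 0, 0, 0, 0, 0, 0, 0, 0, 0, 0, 1, 0], [0, 0, 0, 0, 0, 0, 0,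 0, 0, 0, 0, 0, 0, 1]]
theorem dec_x_3_1 : dec14 x_3_1 = X14 (3 : Fin 12) (toF4 1) := by decide +kernel
theorem sq_x_3_1 : mulL x_3_1 x_3_1 = ONE14 := by decide +kernel
theorem rep_x_3_1 : Rep x_3_1 := rep_root _ _ _ dec_x_3_1 sq_x_3_1

/-- the root element `x_4(1)` -/
def x_4_1 : M := [[1, 0, 0, 0, 0, 0, 0, 0, 0, 1, 0, 0, 0, 0], [0, 1, 0, 0, 0, 0, 0, 0, 0, 0, 0, 0, 0, 0], [0, 0, 1, 0, 0, 0, 0, 0, 0, 0, 0, 0, 0, 0], [0, 0, 0, 1, 1, 1, 0, 1, 0, 0, 0, 0, 0, 0], [0, 0, 0, 0, 1, 0, 0, 1, 0, 0, 0, 0, 0, 0], [0, 0, 0, 0, 0, 1, 0, 1, 0, 0, 0, 0, 0, 0], [0, 1, 0, 0, 0, 0, 1, 0, 0, 1, 0, 0, 0, 0], [0, 0, 0, 0, 0, 0, 0, 1, 0, 0, 0, 0, 0, 0], [0, 0,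 0, 0, 0, 0, 0, 0, 1, 0, 1, 1, 1, 0], [0, 0, 0, 0, 0, 0, 0, 0, 0, 1, 0, 0, 0, 0], [0, 0, 0, 0, 0, 0, 0, 0, 0, 0, 1, 0, 1, 0], [0, 0, 0, 0, 0, 0, 0, 0, 0, 0, 0, 1, 1, 0], [0, 0, 0, 0, 0, 0, 0, 0, 0, 0, 0, 0, 1, 0], [0, 0, 0, 0, 0, 0, 0, 0, 0, 0, 0, 0, 0, 1]]
theorem dec_x_4_1 : dec14 x_4_1 = X14 (4 : Fin 12) (toF4 1) := by decide +kernel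
theorem sq_x_4_1 : mulL x_4_1 x_4_1 = ONE14 := by decide +kernel
theorem rep_x_4_1 : Rep x_4_1 := rep_root _ _ _ dec_x_4_1 sq_x_4_1

/-- the root element `x_5(1)` -/
def x_5_1 : M := [[1, 0, 0, 0, 0, 0, 0, 0, 0, 0, 0, 0, 0, 0], [0, 1, 0, 0, 0, 0, 0, 0, 1, 0, 0, 0, 0, 0], [0, 0, 1, 1, 0, 0, 0, 0, 0, 0, 0, 0, 0, 0], [0, 0, 0, 1, 0, 0, 0, 0, 0, 0, 0, 0, 0, 0], [0, 0, 0, 0, 1, 0, 0, 0, 0, 0, 0, 0, 0, 0], [0, 0, 0, 0, 0, 1, 1, 0, 0, 0, 0, 0, 0, 0], [0, 0, 0, 0, 0, 0, 1, 0, 0, 0, 0, 0, 0, 0], [1, 0, 0, 0, 0, 0, 0, 1, 1, 0, 0, 0, 0, 0], [0, 0, 0, 0, 0, 0, 0, 0, 1, 0, 0, 0, 0, 0], [0, 0, 0, 0, 0, 0, 0, 0, 0, 1, 1, 0, 0, 0], [0, 0, 0, 0, 0, 0, 0,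 0, 0, 0, 1, 0, 0, 0], [0, 0, 0, 0, 0, 0, 0, 0, 0, 0, 0, 1, 0, 0], [0, 0, 0, 0, 0, 0, 0, 0, 0, 0, 0, 0, 1, 1], [0, 0, 0, 0, 0, 0, 0, 0, 0, 0, 0, 0, 0, 1]]
theorem dec_x_5_1 : dec14 x_5_1 = X14 (5 : Fin 12) (toF4 1) := by decide +kernel
theorem sq_x_5_1 : mulL x_5_1 x_5_1 = ONE14 := by decide +kernel
theorem rep_x_5_1 : Rep x_5_1 := rep_root _ _ _ dec_x_5_1 sq_x_5_1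

/-- the root element `x_7(1)` -/
def x_7_1 : M := [[1, 0, 0, 0, 0, 0, 1, 0, 0, 0, 0, 0, 0, 0], [0, 1, 0, 0, 0, 0, 0, 0, 0, 0, 0, 0, 0, 0], [0, 0, 1, 0, 0, 0, 0, 0, 0, 0, 0, 0, 0, 0], [0, 0, 0, 1, 0, 0, 0, 0, 0, 0, 0, 0, 0, 0], [0, 0, 0, 1, 1, 0, 0, 0, 0, 0, 0, 0, 0, 0], [0, 0, 0, 1, 0, 1, 0, 0, 0, 0, 0, 0, 0, 0], [0, 0, 0, 0, 0, 0, 1, 0, 0, 0, 0, 0, 0, 0], [0, 0, 0, 1, 1, 1, 0, 1, 0, 0, 0, 0, 0, 0], [0, 0, 0, 0, 0, 0, 0, 0, 1, 0, 0, 0, 0, 0], [0, 1, 0, 0, 0, 0, 1, 0, 0, 1, 0, 0, 0, 0], [0, 0, 0, 0, 0, 0, 0, 0, 1, 0, 1, 0, 0, 0], [0, 0, 0, 0, 0, 0, 0, 0, 1, 0, 0, 1, 0, 0], [0, 0, 0, 0, 0, 0, 0, 0, 1, 0, 1, 1, 1, 0], [0, 0, 0, 0, 0, 0, 0,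 0, 0, 0, 0, 0, 0, 1]]
theorem dec_x_7_1 : dec14 x_7_1 = X14 (7 : Fin 12) (toF4 1) := by decide +kernel
theorem sq_x_7_1 : mulL x_7_1 x_7_1 = ONE14 := by decide +kernel
theorem rep_x_7_1 : Rep x_7_1 := rep_root _ _ _ dec_x_7_1 sq_x_7_1

/-- the root element `x_10(ω)` -/
def x_10_2 : M := [[1, 0, 0, 2, 0, 0, 0, 0, 0, 0, 0, 0, 0, 0], [0, 1, 0, 2, 0, 0, 0, 0, 0, 0, 0, 0, 0, 0], [0, 0, 1, 0, 0, 0, 0, 0, 0, 0, 0, 0, 0, 0], [0, 0, 0, 1, 0, 0, 0, 0, 0, 0, 0, 0, 0, 0], [0, 0, 0, 0, 1, 0, 0, 0, 0, 0, 0, 0, 0, 0], [0, 0, 0, 0, 0, 1, 0, 0, 0, 0, 0, 0, 0, 0], [0, 0, 0, 0, 0, 0, 1, 0, 0, 0, 0, 0, 0, 0], [0, 0, 2, 0, 0, 0, 0, 1, 0, 0, 0, 0, 0, 0], [0,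 0, 0, 0, 0, 0, 0, 0, 1, 0, 0, 0, 0, 0], [0, 0, 0, 0, 2, 0, 0, 0, 0, 1, 0, 0, 0, 0], [0, 0, 0, 0, 0, 0, 0, 0, 0, 0, 1, 0, 0, 0], [0, 0, 0, 0, 0, 0, 2, 0, 0, 0, 0, 1, 0, 0], [2, 2, 0, 3, 0, 0, 0, 0, 0, 0, 0, 0, 1, 0], [0, 0, 0, 0, 0, 0, 0, 0, 2, 0, 0, 0, 0, 1]]
theorem dec_x_10_2 : dec14 x_10_2 = X14 (10 : Fin 12) (toF4 2) := by decide +kernel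
theorem sq_x_10_2 : mulL x_10_2 x_10_2 = ONE14 := by decide +kernel
theorem rep_x_10_2 : Rep x_10_2 := rep_root _ _ _ dec_x_10_2 sq_x_10_2

/-- the root element `x_11(1)` -/
def x_11_1 : M := [[1, 0, 1, 0, 0, 0, 0, 0, 0, 0, 0, 0, 0, 0], [0, 1, 0, 0, 0, 0, 0, 0, 0, 0, 0, 0, 0, 0], [0, 0, 1, 0, 0, 0, 0, 0, 0, 0, 0, 0, 0, 0], [0, 0, 0, 1, 0, 0, 0, 0, 0, 0, 0, 0, 0, 0], [0, 0, 0, 0, 1, 0, 0, 0, 0, 0, 0, 0, 0, 0], [0, 0, 0, 0, 0, 1, 0, 0, 0, 0, 0, 0, 0, 0], [0, 0, 0, 0, 0, 0, 1, 0, 0, 0, 0, 0, 0, 0], [0, 0, 0, 0, 0, 0, 0, 1, 0, 0, 0, 0, 0, 0], [0, 0, 0, 1, 0, 0, 0, 0, 1, 0, 0, 0, 0, 0], [0, 0, 0, 0, 0, 0, 0, 0, 0, 1, 0, 0, 0, 0], [0, 0, 0, 0,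 1, 0, 0, 0, 0, 0, 1, 0, 0, 0], [0, 0, 0, 0, 0, 1, 0, 0, 0, 0, 0, 1, 0, 0], [0, 0, 0, 0, 0, 0, 0, 1, 0, 0, 0, 0, 1, 0], [0, 1, 1, 0, 0, 0, 0, 0, 0, 0, 0, 0, 0, 1]]
theorem dec_x_11_1 : dec14 x_11_1 = X14 (11 : Fin 12) (toF4 1) := by decide +kernel
theorem sq_x_11_1 : mulL x_11_1 x_11_1 = ONE14 := by decide +kernel
theorem rep_x_11_1 : Rep x_11_1 := rep_root _ _ _ dec_x_11_1 sq_x_11_1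

/-- the root element `x_11(ω)` -/
def x_11_2 : M := [[1, 0, 2, 0, 0, 0, 0, 0, 0, 0, 0, 0, 0, 0], [0, 1, 0, 0, 0, 0, 0, 0, 0, 0, 0, 0, 0, 0], [0, 0, 1, 0, 0, 0, 0, 0, 0, 0, 0, 0, 0, 0], [0, 0, 0, 1, 0, 0, 0, 0, 0, 0, 0, 0, 0, 0], [0, 0, 0, 0, 1, 0, 0, 0, 0, 0, 0, 0, 0, 0], [0, 0, 0, 0, 0, 1, 0, 0, 0, 0, 0, 0, 0, 0], [0, 0, 0, 0, 0, 0, 1, 0, 0, 0, 0, 0, 0, 0], [0, 0, 0, 0, 0, 0, 0, 1, 0, 0, 0, 0, 0, 0], [0, 0, 0, 2, 0, 0, 0, 0, 1, 0, 0, 0, 0, 0], [0, 0, 0, 0, 0, 0, 0, 0, 0, 1, 0, 0, 0, 0], [0, 0, 0, 0, 2, 0, 0, 0, 0, 0, 1, 0, 0, 0], [0, 0, 0, 0, 0, 2, 0, 0, 0, 0, 0, 1, 0, 0], [0, 0, 0, 0, 0, 0, 0, 2, 0, 0, 0, 0, 1, 0], [0, 2, 3, 0, 0, 0,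 0, 0, 0, 0, 0, 0, 0, 1]]
theorem dec_x_11_2 : dec14 x_11_2 = X14 (11 : Fin 12) (toF4 2) := by decide +kernel
theorem sq_x_11_2 : mulL x_11_2 x_11_2 = ONE14 := by decide +kernel
theorem rep_x_11_2 : Rep x_11_2 := rep_root _ _ _ dec_x_11_2 sq_x_11_2

/-- the image of the generator `a` -/
def gA : M := [[1, 0, 1, 0, 0, 0, 0, 0, 0, 0, 0, 0, 0, 0], [0, 1, 0, 0, 0, 0, 0, 0, 0, 0, 0, 0, 0, 0], [0, 0, 1, 0, 0, 0, 0, 0, 0, 0, 0, 0, 0, 0], [0, 0, 0, 1, 0, 0, 0, 0, 0, 0, 0, 0, 0, 0], [0, 0, 0, 0, 1, 0, 0, 0, 0, 0, 0, 0, 0, 0], [0, 0, 0, 0, 0, 1, 0, 0, 0, 0, 0, 0, 0, 0], [0, 0, 0, 0, 0, 0, 1, 0, 0, 0, 0, 0, 0, 0], [0, 0, 0, 0, 0, 0, 0, 1, 0, 0, 0,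 0, 0, 0], [0, 0, 0, 1, 0, 0, 0, 0, 1, 0, 0, 0, 0, 0], [0, 0, 0, 0, 0, 0, 0, 0, 0, 1, 0, 0, 0, 0], [0, 0, 0, 0, 1, 0, 0, 0, 0, 0, 1, 0, 0, 0], [0, 0, 0, 0, 0, 1, 0, 0, 0, 0, 0, 1, 0, 0], [0, 0, 0, 0, 0, 0, 0, 1, 0, 0, 0, 0, 1, 0], [0, 1, 1, 0, 0, 0, 0, 0, 0, 0, 0, 0, 0, 1]]
/-- its expression by root elements -/
def wA : List M := [x_11_1]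
/-- the partial products -/
def pA : List M := [[[1, 0, 1, 0, 0, 0, 0, 0, 0, 0, 0, 0, 0, 0], [0, 1, 0, 0, 0, 0, 0, 0, 0, 0, 0, 0, 0, 0], [0, 0, 1, 0, 0, 0, 0, 0, 0, 0, 0, 0, 0, 0], [0, 0, 0, 1, 0, 0, 0, 0, 0, 0, 0, 0, 0, 0], [0, 0, 0, 0, 1, 0, 0, 0, 0, 0, 0, 0, 0, 0], [0, 0, 0, 0, 0, 1, 0, 0, 0, 0, 0, 0, 0, 0], [0, 0, 0, 0, 0, 0, 1, 0, 0, 0, 0, 0, 0, 0], [0, 0, 0, 0, 0, 0, 0, 1, 0, 0, 0, 0, 0, 0], [0, 0, 0, 1, 0, 0, 0, 0, 1, 0, 0, 0, 0, 0], [0, 0, 0, 0, 0, 0, 0, 0, 0, 1, 0, 0, 0, 0], [0, 0, 0, 0, 1, 0, 0, 0, 0, 0, 1, 0, 0, 0], [0, 0, 0, 0, 0, 1, 0, 0, 0, 0, 0, 1, 0, 0], [0, 0, 0, 0, 0, 0, 0, 1, 0, 0, 0, 0, 1, 0], [0, 1, 1, 0, 0, 0, 0, 0,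 0, 0, 0, 0, 0, 1]]]
theorem chA : chkChain wA pA ONE14 = true := by decide +kernel
theorem lastA : lastOf pA ONE14 = gA := by decide +kernel
theorem rep_gA : Rep gA := by
  rw [← lastA]
  apply rep_chain wA pA ONE14 rep_one _ chA
  intro g hg
  simp only [wA, List.mem_cons, List.not_mem_nil, or_false] at hg
  rcases hg with rfl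
  all_goals first | exact rep_x_11_1

/-- the image of the generator `b` -/
def gB : M := [[1, 0, 1, 1, 0, 0, 1, 0, 0, 2, 2, 0, 0, 2], [3, 1, 2, 3, 3, 0, 2, 1, 2, 3, 1, 1, 0, 3], [3, 2, 1, 1, 0, 2, 2, 3, 1, 3, 3, 3, 0, 3], [0, 0, 2, 3, 2, 0, 2, 0, 2, 0, 0, 0, 0, 0], [1, 0, 2, 3, 3, 0, 2, 3, 1, 3, 1, 3, 0, 3], [1, 2, 3, 2, 2, 3, 1, 1, 1, 3, 3, 1, 0, 3], [3, 2, 2, 3, 2, 2, 1, 3, 3, 3, 3, 3, 0, 3], [2, 0, 2, 3, 3, 1, 3, 0, 2, 3, 1, 1, 2, 1], [1, 0, 2, 3, 2, 0, 2, 3, 0, 3, 1, 3, 0, 3], [2, 1, 1, 1, 0, 0, 1, 2, 3, 1, 1, 2, 2, 2], [0, 0, 0, 0, 1, 0, 0, 0, 1, 2, 3, 0, 0, 2], [3, 0, 1, 1, 1, 1, 0, 2, 3, 2, 2, 3, 2, 0], [3, 1, 1, 1, 1, 0, 1, 3,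 3, 3, 2, 3, 3, 1], [2, 1, 1, 1, 1, 0, 1, 2, 2, 2, 3, 2, 2, 1]]
/-- its expression by root elements -/
def wB : List M := [x_5_1, x_3_1, x_1_2, x_11_1, x_1_2, x_3_1, x_5_1]
/-- the partial products -/
def pB : List M := [[[1, 0, 0, 0, 0, 0, 0, 0, 0, 0, 0, 0, 0, 0], [0, 1, 0, 0, 0, 0, 0, 0, 1, 0, 0, 0, 0, 0], [0, 0, 1, 1, 0, 0, 0, 0, 0, 0, 0, 0, 0, 0], [0, 0, 0, 1, 0, 0, 0, 0, 0, 0, 0, 0, 0, 0], [0, 0, 0, 0, 1, 0, 0, 0, 0, 0, 0, 0, 0, 0], [0, 0, 0, 0, 0, 1, 1, 0, 0, 0, 0, 0, 0, 0], [0, 0, 0, 0, 0, 0, 1, 0, 0, 0, 0, 0, 0, 0], [1, 0, 0, 0, 0, 0, 0, 1, 1, 0, 0, 0, 0, 0], [0, 0, 0, 0, 0, 0, 0, 0, 1, 0, 0, 0, 0, 0], [0, 0, 0, 0, 0, 0, 0, 0, 0,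 1, 1, 0, 0, 0], [0, 0, 0, 0, 0, 0, 0, 0, 0, 0, 1, 0, 0, 0], [0, 0, 0, 0, 0, 0, 0, 0, 0, 0, 0, 1, 0, 0], [0, 0, 0, 0, 0, 0, 0, 0, 0, 0, 0, 0, 1, 1], [0, 0, 0, 0, 0, 0, 0, 0, 0, 0, 0, 0, 0, 1]],
  [[1, 0, 0, 0, 0, 0, 0, 0, 0, 0, 1, 0, 0, 0], [0, 1, 0, 0, 0, 0, 0, 0, 1, 0, 1, 0, 0, 0], [0, 0, 1, 1, 1, 0, 1, 0, 1, 0, 0, 0, 0, 0], [0, 0, 0, 1, 0, 0, 0, 0, 0, 0, 0, 0, 0, 0], [0, 0, 0, 0, 1, 0, 0, 0, 1, 0, 0, 0, 0, 0], [1, 1, 0, 0, 0, 1, 1, 0, 1, 0, 1, 0, 0, 0], [0, 0, 0, 0, 0, 0, 1, 0, 1, 0, 0, 0, 0, 0], [1, 0, 0, 0, 0, 0, 0, 1, 1, 1, 1, 1, 0, 1], [0, 0, 0, 0, 0, 0, 0, 0, 1, 0, 0, 0, 0, 0], [0, 0, 0, 0, 0, 0, 0, 0, 0, 1, 1, 0, 0, 1], [0, 0, 0,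 0, 0, 0, 0, 0, 0, 0, 1, 0, 0, 0], [0, 0, 0, 0, 0, 0, 0, 0, 0, 0, 0, 1, 0, 1], [0, 0, 0, 0, 0, 0, 0, 0, 0, 0, 0, 0, 1, 1], [0, 0, 0, 0, 0, 0, 0, 0, 0, 0, 0, 0, 0, 1]],
  [[1, 0, 0, 0, 0, 0, 0, 0, 0, 0, 1, 0, 2, 0], [0, 1, 0, 0, 0, 0, 0, 0, 1, 0, 1, 0, 2, 2], [2, 2, 1, 1, 1, 0, 1, 2, 1, 2, 0, 2, 3, 2], [2, 2, 0, 1, 0, 0, 0, 0, 0, 0, 0, 0, 3, 0], [0, 0, 0, 0, 1, 0, 0, 0, 1, 2, 0, 0, 0, 2], [1, 1, 0, 0, 0, 1, 1, 0, 1, 0, 1, 2, 0, 2], [0, 0, 0, 0, 0, 0, 1, 0, 1, 0, 0, 2, 0, 2], [1, 0, 0, 0, 0, 0, 0, 1, 1, 1, 1, 1, 2, 3], [0, 0, 0, 0, 0, 0, 0, 0, 1, 0, 0, 0, 0, 2], [0, 0, 0, 0, 0, 0, 0, 0, 0, 1, 1, 0, 0, 1], [0, 0, 0, 0, 0, 0, 0, 0, 0, 0, 1,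 0, 0, 0], [0, 0, 0, 0, 0, 0, 0, 0, 0, 0, 0, 1, 0, 1], [0, 0, 0, 0, 0, 0, 0, 0, 0, 0, 0, 0, 1, 1], [0, 0, 0, 0, 0, 0, 0, 0, 0, 0, 0, 0, 0, 1]],
  [[1, 0, 1, 0, 1, 0, 0, 2, 0, 0, 1, 0, 2, 0], [0, 3, 2, 1, 1, 0, 0, 2, 1, 0, 1, 0, 2, 2], [2, 0, 1, 0, 1, 2, 1, 1, 1, 2, 0, 2, 3, 2], [2, 2, 2, 1, 0, 0, 0, 3, 0, 0, 0, 0, 3, 0], [0, 2, 2, 1, 1, 0, 0, 0, 1, 2, 0, 0, 0, 2], [1, 3, 3, 1, 1, 3, 1, 0, 1, 0, 1, 2, 0, 2], [0, 2, 2, 1, 0, 2, 1, 0, 1, 0, 0, 2, 0, 2], [1, 3, 2, 1, 1, 1, 0, 3, 1, 1, 1, 1, 2, 3], [0, 2, 2, 1, 0, 0, 0, 0, 1, 0, 0, 0, 0, 2], [0, 1, 1, 0, 1, 0, 0, 0, 0, 1, 1, 0, 0, 1], [0, 0, 0, 0, 1, 0, 0, 0, 0, 0, 1, 0, 0, 0], [0, 1, 1, 0, 0,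 1, 0, 0, 0, 0, 0, 1, 0, 1], [0, 1, 1, 0, 0, 0, 0, 1, 0, 0, 0, 0, 1, 1], [0, 1, 1, 0, 0, 0, 0, 0, 0, 0, 0, 0, 0, 1]],
  [[1, 0, 1, 0, 1, 0, 0, 0, 0, 2, 1, 0, 0, 0], [2, 1, 2, 1, 1, 0, 0, 1, 1, 2, 1, 0, 0, 0], [2, 0, 1, 0, 1, 2, 1, 3, 1, 0, 0, 0, 0, 0], [0, 0, 2, 1, 0, 0, 0, 0, 0, 0, 0, 0, 0, 0], [2, 0, 2, 1, 1, 0, 0, 3, 1, 0, 0, 0, 0, 0], [3, 1, 3, 1, 1, 3, 1, 1, 1, 2, 1, 0, 0, 0], [2, 0, 2, 1, 0, 2, 1, 3, 1, 0, 0, 0, 0, 0], [3, 1, 2, 1, 1, 1, 0, 0, 1, 3, 1, 1, 2, 1], [2, 0, 2, 1, 0, 0, 0, 3, 1, 0, 0, 0, 0, 0], [0, 1, 1, 0, 1, 0, 0, 2, 0, 3, 1, 0, 2, 1], [0, 0, 0, 0, 1, 0, 0, 0, 0, 2, 1, 0, 0, 0], [0, 1, 1, 0, 0, 1, 0, 2, 0, 0, 0, 1, 2,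 1], [0, 1, 1, 0, 0, 0, 0, 3, 0, 0, 0, 0, 3, 1], [0, 1, 1, 0, 0, 0, 0, 2, 0, 0, 0, 0, 2, 1]],
  [[1, 0, 1, 0, 0, 0, 1, 0, 0, 2, 0, 0, 0, 2], [2, 1, 2, 1, 3, 0, 2, 1, 2, 3, 2, 1, 0, 3], [0, 2, 1, 0, 0, 2, 0, 3, 0, 3, 0, 3, 0, 3], [0, 0, 2, 1, 2, 0, 2, 0, 2, 0, 0, 0, 0, 0], [2, 0, 2, 1, 3, 0, 2, 3, 2, 3, 2, 3, 0, 3], [0, 2, 3, 1, 2, 3, 2, 1, 2, 3, 0, 1, 0, 3], [0, 2, 2, 1, 2, 2, 3, 3, 2, 3, 0, 3, 0, 3], [2, 0, 2, 1, 3, 1, 2, 0, 2, 3, 2, 1, 2, 3], [2, 0, 2, 1, 2, 0, 2, 3, 3, 3, 2, 3, 0, 3], [0, 1, 1, 0, 0, 0, 1, 2, 0, 1, 0, 2, 2, 0], [0, 0, 0, 0, 1, 0, 0, 0, 1, 2, 1, 0, 0, 2], [1, 0, 1, 0, 1, 1, 1, 2, 1, 2, 0, 3, 2, 2], [0, 1, 1, 0, 1, 0, 1,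 3, 1, 3, 1, 3, 3, 2], [0, 1, 1, 0, 1, 0, 1, 2, 1, 2, 1, 2, 2, 3]],
  [[1, 0, 1, 1, 0, 0, 1, 0, 0, 2, 2, 0, 0, 2], [3, 1, 2, 3, 3, 0, 2, 1, 2, 3, 1, 1, 0, 3], [3, 2, 1, 1, 0, 2, 2, 3, 1, 3, 3, 3, 0, 3], [0, 0, 2, 3, 2, 0, 2, 0, 2, 0, 0, 0, 0, 0], [1, 0, 2, 3, 3, 0, 2, 3, 1, 3, 1, 3, 0, 3], [1, 2, 3, 2, 2, 3, 1, 1, 1, 3, 3, 1, 0, 3], [3, 2, 2, 3, 2, 2, 1, 3, 3, 3, 3, 3, 0, 3], [2, 0, 2, 3, 3, 1, 3, 0, 2, 3, 1, 1, 2, 1], [1, 0, 2, 3, 2, 0, 2, 3, 0, 3, 1, 3, 0, 3], [2, 1, 1, 1, 0, 0, 1, 2, 3, 1, 1, 2, 2, 2], [0, 0, 0, 0, 1, 0, 0, 0, 1, 2, 3, 0, 0, 2], [3, 0, 1, 1, 1, 1, 0, 2, 3, 2, 2, 3, 2, 0], [3, 1, 1, 1, 1, 0, 1, 3, 3, 3, 2, 3, 3, 1], [2,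 1, 1, 1, 1, 0, 1, 2, 2, 2, 3, 2, 2, 1]]]
theorem chB : chkChain wB pB ONE14 = true := by decide +kernel
theorem lastB : lastOf pB ONE14 = gB := by decide +kernel
theorem rep_gB : Rep gB := by
  rw [← lastB]
  apply rep_chain wB pB ONE14 rep_one _ chB
  intro g hg
  simp only [wB, List.mem_cons, List.not_mem_nil, or_false] at hg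
  rcases hg with rfl | rfl | rfl | rfl | rfl | rfl | rfl
  all_goals first | exact rep_x_1_2 | exact rep_x_3_1 | exact rep_x_5_1 | exact rep_x_11_1

/-- the image of the generator `c` -/
def gC : M := [[1, 0, 1, 0, 0, 0, 0, 0, 0, 0, 0, 0, 0, 0], [0, 1, 0, 0, 0, 0, 0, 1, 0, 0, 0, 0, 0, 0], [0, 0, 1, 0, 0, 0, 0, 0, 0, 0, 0, 0, 0, 0], [0, 0, 1, 1, 0, 0, 0, 0, 0, 0, 0, 0, 0, 0], [0, 0, 0, 0, 1, 0, 0, 0, 0, 0, 0, 0, 0, 0], [0, 0, 0, 0, 0, 1, 0, 0, 0, 0, 0, 0, 0, 0], [0, 0, 0, 0, 0, 1, 1, 0, 0, 0, 0, 0, 0, 0], [0, 0, 0, 0, 0, 0, 0, 1, 0, 0, 0, 0, 0, 0], [1, 0, 1, 1, 0, 0, 0, 1, 1, 0, 0, 0, 0, 0], [0, 0, 0, 0, 0, 0, 0, 0, 0, 1, 0, 0, 0, 0], [0,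 0, 0, 0, 1, 0, 0, 0, 0, 1, 1, 0, 0, 0], [0, 0, 0, 0, 0, 1, 0, 0, 0, 0, 0, 1, 0, 0], [0, 0, 0, 0, 0, 0, 0, 1, 0, 0, 0, 0, 1, 0], [0, 1, 1, 0, 0, 0, 0, 1, 0, 0, 0, 0, 1, 1]]
/-- its expression by root elements -/
def wC : List M := [x_1_1, x_11_1, x_1_1]
/-- the partial products -/
def pC : List M := [[[1, 0, 0, 0, 0, 0, 0, 0, 0, 0, 0, 0, 1, 0], [0, 1, 0, 0, 0, 0, 0, 0, 0, 0, 0, 0, 1, 0], [0, 0, 1, 0, 0, 0, 0, 1, 0, 0, 0, 0, 0, 0], [1, 1, 0, 1, 0, 0, 0, 0, 0, 0, 0, 0, 1, 0], [0, 0, 0, 0, 1, 0, 0, 0, 0, 1, 0, 0, 0, 0], [0, 0, 0, 0, 0, 1, 0, 0, 0, 0, 0, 0, 0, 0], [0, 0, 0, 0, 0, 0, 1, 0, 0, 0, 0, 1, 0, 0], [0, 0, 0, 0, 0, 0, 0, 1, 0, 0, 0,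 0, 0, 0], [0, 0, 0, 0, 0, 0, 0, 0, 1, 0, 0, 0, 0, 1], [0, 0, 0, 0, 0, 0, 0, 0, 0, 1, 0, 0, 0, 0], [0, 0, 0, 0, 0, 0, 0, 0, 0, 0, 1, 0, 0, 0], [0, 0, 0, 0, 0, 0, 0, 0, 0, 0, 0, 1, 0, 0], [0, 0, 0, 0, 0, 0, 0, 0, 0, 0, 0, 0, 1, 0], [0, 0, 0, 0, 0, 0, 0, 0, 0, 0, 0, 0, 0, 1]],
  [[1, 0, 1, 0, 0, 0, 0, 1, 0, 0, 0, 0, 1, 0], [0, 1, 0, 0, 0, 0, 0, 1, 0, 0, 0, 0, 1, 0], [0, 0, 1, 0, 0, 0, 0, 1, 0, 0, 0, 0, 0, 0], [1, 1, 1, 1, 0, 0, 0, 1, 0, 0, 0, 0, 1, 0], [0, 0, 0, 0, 1, 0, 0, 0, 0, 1, 0, 0, 0, 0], [0, 0, 0, 0, 0, 1, 0, 0, 0, 0, 0, 0, 0, 0], [0, 0, 0, 0, 0, 1, 1, 0, 0, 0, 0, 1, 0, 0], [0, 0, 0, 0, 0, 0, 0, 1, 0, 0, 0, 0, 0, 0], [0, 1, 1, 1, 0,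 0, 0, 0, 1, 0, 0, 0, 0, 1], [0, 0, 0, 0, 0, 0, 0, 0, 0, 1, 0, 0, 0, 0], [0, 0, 0, 0, 1, 0, 0, 0, 0, 0, 1, 0, 0, 0], [0, 0, 0, 0, 0, 1, 0, 0, 0, 0, 0, 1, 0, 0], [0, 0, 0, 0, 0, 0, 0, 1, 0, 0, 0, 0, 1, 0], [0, 1, 1, 0, 0, 0, 0, 0, 0, 0, 0, 0, 0, 1]],
  [[1, 0, 1, 0, 0, 0, 0, 0, 0, 0, 0, 0, 0, 0], [0, 1, 0, 0, 0, 0, 0, 1, 0, 0, 0, 0, 0, 0], [0, 0, 1, 0, 0, 0, 0, 0, 0, 0, 0, 0, 0, 0], [0, 0, 1, 1, 0, 0, 0, 0, 0, 0, 0, 0, 0, 0], [0, 0, 0, 0, 1, 0, 0, 0, 0, 0, 0, 0, 0, 0], [0, 0, 0, 0, 0, 1, 0, 0, 0, 0, 0, 0, 0, 0], [0, 0, 0, 0, 0, 1, 1, 0, 0, 0, 0, 0, 0, 0], [0, 0, 0, 0, 0, 0, 0, 1, 0, 0, 0, 0, 0, 0], [1, 0, 1, 1, 0, 0, 0, 1, 1, 0, 0, 0, 0,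 0], [0, 0, 0, 0, 0, 0, 0, 0, 0, 1, 0, 0, 0, 0], [0, 0, 0, 0, 1, 0, 0, 0, 0, 1, 1, 0, 0, 0], [0, 0, 0, 0, 0, 1, 0, 0, 0, 0, 0, 1, 0, 0], [0, 0, 0, 0, 0, 0, 0, 1, 0, 0, 0, 0, 1, 0], [0, 1, 1, 0, 0, 0, 0, 1, 0, 0, 0, 0, 1, 1]]]
theorem chC : chkChain wC pC ONE14 = true := by decide +kernel
theorem lastC : lastOf pC ONE14 = gC := by decide +kernel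
theorem rep_gC : Rep gC := by
  rw [← lastC]
  apply rep_chain wC pC ONE14 rep_one _ chC
  intro g hg
  simp only [wC, List.mem_cons, List.not_mem_nil, or_false] at hg
  rcases hg with rfl | rfl | rfl
  all_goals first | exact rep_x_1_1 | exact rep_x_11_1

/-- the image of the generator `d` -/
def gD : M := [[1, 0, 1, 0, 0, 0, 1, 0, 0, 0, 0, 0, 0, 0], [0, 1, 0, 0, 0, 0, 0, 0, 0, 0, 0, 0, 0, 0], [0, 0, 1, 0, 0, 0, 0, 0, 0, 0, 0, 0, 0, 0], [0, 0, 0, 1, 0, 0, 0, 0, 0, 0, 0, 0, 0, 0], [0, 0, 0, 1, 1, 0, 0, 0, 0, 0, 0, 0, 0, 0], [0, 0, 0, 1, 0, 1, 0, 0, 0, 0, 0, 0, 0, 0], [0, 0, 0, 0, 0, 0, 1, 0, 0, 0, 0, 0, 0, 0], [0, 0, 0, 1, 1, 1, 0, 1, 0,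 0, 0, 0, 0, 0], [0, 0, 0, 1, 0, 0, 0, 0, 1, 0, 0, 0, 0, 0], [0, 1, 0, 0, 0, 0, 1, 0, 0, 1, 0, 0, 0, 0], [0, 0, 0, 1, 1, 0, 0, 0, 1, 0, 1, 0, 0, 0], [0, 0, 0, 1, 0, 1, 0, 0, 1, 0, 0, 1, 0, 0], [0, 0, 0, 1, 1, 1, 0, 1, 1, 0, 1, 1, 1, 0], [0, 1, 1, 0, 0, 0, 0, 0, 0, 0, 0, 0, 0, 1]]
/-- its expression by root elements -/
def wD : List M := [x_11_1, x_7_1]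
/-- the partial products -/
def pD : List M := [[[1, 0, 1, 0, 0, 0, 0, 0, 0, 0, 0, 0, 0, 0], [0, 1, 0, 0, 0, 0, 0, 0, 0, 0, 0, 0, 0, 0], [0, 0, 1, 0, 0, 0, 0, 0, 0, 0, 0, 0, 0, 0], [0, 0, 0, 1, 0, 0, 0, 0, 0, 0, 0, 0, 0, 0], [0, 0, 0, 0, 1, 0, 0, 0, 0, 0, 0, 0, 0, 0], [0, 0, 0, 0, 0, 1, 0, 0, 0, 0, 0, 0, 0, 0], [0, 0, 0, 0, 0, 0, 1, 0, 0, 0, 0, 0, 0, 0], [0, 0, 0, 0, 0, 0, 0, 1, 0, 0, 0, 0, 0, 0], [0, 0, 0, 1, 0, 0, 0, 0, 1, 0, 0, 0, 0, 0], [0, 0, 0, 0, 0, 0, 0, 0, 0, 1, 0, 0, 0, 0], [0, 0, 0, 0, 1, 0, 0, 0, 0, 0, 1, 0, 0, 0], [0, 0, 0, 0, 0, 1, 0, 0, 0, 0, 0, 1, 0, 0], [0, 0, 0, 0, 0, 0, 0, 1, 0, 0, 0, 0, 1, 0], [0, 1, 1, 0, 0, 0, 0, 0,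 0, 0, 0, 0, 0, 1]],
  [[1, 0, 1, 0, 0, 0, 1, 0, 0, 0, 0, 0, 0, 0], [0, 1, 0, 0, 0, 0, 0, 0, 0, 0, 0, 0, 0, 0], [0, 0, 1, 0, 0, 0, 0, 0, 0, 0, 0, 0, 0, 0], [0, 0, 0, 1, 0, 0, 0, 0, 0, 0, 0, 0, 0, 0], [0, 0, 0, 1, 1, 0, 0, 0, 0, 0, 0, 0, 0, 0], [0, 0, 0, 1, 0, 1, 0, 0, 0, 0, 0, 0, 0, 0], [0, 0, 0, 0, 0, 0, 1, 0, 0, 0, 0, 0, 0, 0], [0, 0, 0, 1, 1, 1, 0, 1, 0, 0, 0, 0, 0, 0], [0, 0, 0, 1, 0, 0, 0, 0, 1, 0, 0, 0, 0, 0], [0, 1, 0, 0, 0, 0, 1, 0, 0, 1, 0, 0, 0, 0], [0, 0, 0, 1, 1, 0, 0, 0, 1, 0, 1, 0, 0, 0], [0, 0, 0, 1, 0, 1, 0, 0, 1, 0, 0, 1, 0, 0], [0, 0, 0, 1, 1, 1, 0, 1, 1, 0, 1, 1, 1, 0], [0, 1, 1, 0, 0, 0, 0, 0, 0, 0, 0, 0, 0, 1]]]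
theorem chD : chkChain wD pD ONE14 = true := by decide +kernel
theorem lastD : lastOf pD ONE14 = gD := by decide +kernel
theorem rep_gD : Rep gD := by
  rw [← lastD]
  apply rep_chain wD pD ONE14 rep_one _ chD
  intro g hg
  simp only [wD, List.mem_cons, List.not_mem_nil, or_false] at hg
  rcases hg with rfl | rfl
  all_goals first | exact rep_x_7_1 | exact rep_x_11_1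

/-- the image of the generator `e` -/
def gE : M := [[1, 0, 2, 0, 0, 2, 0, 2, 0, 1, 0, 0, 0, 0], [0, 1, 3, 0, 2, 2, 0, 2, 0, 0, 0, 0, 0, 0], [0, 0, 1, 0, 0, 0, 0, 0, 0, 0, 0, 0, 0, 0], [0, 0, 2, 1, 1, 1, 0, 1, 0, 0, 0, 0, 0, 0], [0, 0, 2, 0, 1, 0, 0, 1, 0, 0, 0, 0, 0, 0], [0, 0, 2, 0, 0, 1, 0, 1, 0, 0, 0, 0, 0, 0], [0, 1, 0, 2, 2, 0, 1, 0, 0, 1, 0, 0, 0, 0], [0, 0, 0, 0, 0, 0, 0, 1, 0, 0, 0, 0, 0, 0], [2, 2, 2, 2, 1, 1, 2, 1, 1, 0, 1, 1, 1, 0], [0, 0, 3, 0, 0, 0, 0, 2, 0, 1, 0, 0, 0, 0], [2, 2, 2, 3, 1, 0, 0, 1, 0, 0, 1, 0, 1, 0], [2, 0, 2, 0, 3, 1, 0, 1, 0, 2, 0, 1, 1, 0], [0, 0, 1, 0, 0, 3, 0, 2, 0, 2, 0, 0, 1, 0], [3, 2, 2, 1, 2, 2,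 3, 2, 0, 0, 2, 2, 2, 1]]
/-- its expression by root elements -/
def wE : List M := [x_10_2, x_7_1, x_4_1, x_11_1, x_7_1, x_4_1, x_7_1, x_10_2]
/-- the partial products -/
def pE : List M := [[[1, 0, 0, 2, 0, 0, 0, 0, 0, 0, 0, 0, 0, 0], [0, 1, 0, 2, 0, 0, 0, 0, 0, 0, 0, 0, 0, 0], [0, 0, 1, 0, 0, 0, 0, 0, 0, 0, 0, 0, 0, 0], [0, 0, 0, 1, 0, 0, 0, 0, 0, 0, 0, 0, 0, 0], [0, 0, 0, 0, 1, 0, 0, 0, 0, 0, 0, 0, 0, 0], [0, 0, 0, 0, 0, 1, 0, 0, 0, 0, 0, 0, 0, 0], [0, 0, 0, 0, 0, 0, 1, 0, 0, 0, 0, 0, 0, 0], [0, 0, 2, 0, 0, 0, 0, 1, 0, 0, 0, 0, 0, 0], [0, 0, 0, 0, 0, 0, 0, 0, 1, 0, 0, 0, 0, 0], [0, 0, 0, 0, 2, 0, 0, 0, 0, 1, 0, 0, 0, 0], [0, 0, 0, 0,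 0, 0, 0, 0, 0, 0, 1, 0, 0, 0], [0, 0, 0, 0, 0, 0, 2, 0, 0, 0, 0, 1, 0, 0], [2, 2, 0, 3, 0, 0, 0, 0, 0, 0, 0, 0, 1, 0], [0, 0, 0, 0, 0, 0, 0, 0, 2, 0, 0, 0, 0, 1]],
  [[1, 0, 0, 2, 0, 0, 1, 0, 0, 0, 0, 0, 0, 0], [0, 1, 0, 2, 0, 0, 0, 0, 0, 0, 0, 0, 0, 0], [0, 0, 1, 0, 0, 0, 0, 0, 0, 0, 0, 0, 0, 0], [0, 0, 0, 1, 0, 0, 0, 0, 0, 0, 0, 0, 0, 0], [0, 0, 0, 1, 1, 0, 0, 0, 0, 0, 0, 0, 0, 0], [0, 0, 0, 1, 0, 1, 0, 0, 0, 0, 0, 0, 0, 0], [0, 0, 0, 0, 0, 0, 1, 0, 0, 0, 0, 0, 0, 0], [0, 0, 2, 1, 1, 1, 0, 1, 0, 0, 0, 0, 0, 0], [0, 0, 0, 0, 0, 0, 0, 0, 1, 0, 0, 0, 0, 0], [0, 1, 0, 2, 2, 0, 1, 0, 0, 1, 0, 0, 0, 0], [0, 0, 0, 0, 0, 0, 0, 0, 1, 0, 1, 0,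 0, 0], [0, 0, 0, 0, 0, 0, 2, 0, 1, 0, 0, 1, 0, 0], [2, 2, 0, 3, 0, 0, 2, 0, 1, 0, 1, 1, 1, 0], [0, 0, 0, 0, 0, 0, 0, 0, 2, 0, 0, 0, 0, 1]],
  [[1, 1, 0, 2, 2, 2, 1, 2, 0, 0, 0, 0, 0, 0], [0, 1, 0, 2, 2, 2, 0, 2, 0, 0, 0, 0, 0, 0], [0, 0, 1, 0, 0, 0, 0, 0, 0, 0, 0, 0, 0, 0], [0, 0, 0, 1, 1, 1, 0, 1, 0, 0, 0, 0, 0, 0], [0, 0, 0, 1, 0, 1, 0, 0, 0, 0, 0, 0, 0, 0], [0, 0, 0, 1, 1, 0, 0, 0, 0, 0, 0, 0, 0, 0], [0, 1, 0, 0, 0, 0, 1, 0, 0, 1, 0, 0, 0, 0], [0, 0, 2, 1, 0, 0, 0, 0, 0, 0, 0, 0, 0, 0], [0, 0, 0, 0, 0, 0, 0, 0, 1, 0, 1, 1, 1, 0], [0, 0, 0, 2, 0, 2, 1, 0, 0, 0, 0, 0, 0, 0], [0, 0, 0, 0, 0, 0, 0, 0, 1, 0, 0, 1, 0, 0], [0, 2, 0, 0, 0, 0,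 2, 0, 1, 2, 1, 0, 0, 0], [2, 0, 0, 3, 3, 3, 2, 3, 1, 0, 0, 0, 0, 0], [0, 0, 0, 0, 0, 0, 0, 0, 2, 0, 2, 2, 2, 1]],
  [[1, 1, 1, 2, 2, 2, 1, 2, 0, 0, 0, 0, 0, 0], [0, 1, 0, 2, 2, 2, 0, 2, 0, 0, 0, 0, 0, 0], [0, 0, 1, 0, 0, 0, 0, 0, 0, 0, 0, 0, 0, 0], [0, 0, 0, 1, 1, 1, 0, 1, 0, 0, 0, 0, 0, 0], [0, 0, 0, 1, 0, 1, 0, 0, 0, 0, 0, 0, 0, 0], [0, 0, 0, 1, 1, 0, 0, 0, 0, 0, 0, 0, 0, 0], [0, 1, 0, 0, 0, 0, 1, 0, 0, 1, 0, 0, 0, 0], [0, 0, 2, 1, 0, 0, 0, 0, 0, 0, 0, 0, 0, 0], [0, 0, 0, 1, 1, 1, 0, 1, 1, 0, 1, 1, 1, 0], [0, 0, 0, 2, 0, 2, 1, 0, 0, 0, 0, 0, 0, 0], [0, 0, 0, 1, 0, 1, 0, 0, 1, 0, 0, 1, 0, 0], [0, 2, 0, 1, 1, 0, 2, 0, 1, 2, 1, 0, 0, 0],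 [2, 0, 2, 2, 3, 3, 2, 3, 1, 0, 0, 0, 0, 0], [0, 1, 1, 2, 2, 2, 0, 2, 2, 0, 2, 2, 2, 1]],
  [[1, 1, 1, 0, 0, 0, 0, 2, 0, 0, 0, 0, 0, 0], [0, 1, 0, 0, 0, 0, 0, 2, 0, 0, 0, 0, 0, 0], [0, 0, 1, 0, 0, 0, 0, 0, 0, 0, 0, 0, 0, 0], [0, 0, 0, 0, 0, 0, 0, 1, 0, 0, 0, 0, 0, 0], [0, 0, 0, 0, 0, 1, 0, 0, 0, 0, 0, 0, 0, 0], [0, 0, 0, 0, 1, 0, 0, 0, 0, 0, 0, 0, 0, 0], [0, 0, 0, 0, 0, 0, 0, 0, 0, 1, 0, 0, 0, 0], [0, 0, 2, 1, 0, 0, 0, 0, 0, 0, 0, 0, 0, 0], [0, 0, 0, 0, 0, 0, 0, 1, 0, 0, 0, 0, 1, 0], [0, 0, 0, 0, 0, 2, 1, 0, 0, 0, 0, 0, 0, 0], [0, 0, 0, 0, 0, 1, 0, 0, 0, 0, 0, 1, 0, 0], [0, 0, 0, 0, 1, 0, 0, 0, 0, 2, 1, 0, 0, 0], [2, 0, 2, 1, 0, 0, 0, 3,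 1, 0, 0, 0, 0, 0], [0, 1, 1, 0, 0, 0, 0, 2, 0, 0, 0, 0, 2, 1]],
  [[1, 1, 1, 0, 0, 0, 0, 2, 0, 1, 0, 0, 0, 0], [0, 1, 0, 0, 0, 0, 0, 2, 0, 0, 0, 0, 0, 0], [0, 0, 1, 0, 0, 0, 0, 0, 0, 0, 0, 0, 0, 0], [0, 0, 0, 0, 0, 0, 0, 1, 0, 0, 0, 0, 0, 0], [0, 0, 0, 0, 0, 1, 0, 1, 0, 0, 0, 0, 0, 0], [0, 0, 0, 0, 1, 0, 0, 1, 0, 0, 0, 0, 0, 0], [0, 0, 0, 0, 0, 0, 0, 0, 0, 1, 0, 0, 0, 0], [0, 0, 2, 1, 1, 1, 0, 1, 0, 0, 0, 0, 0, 0], [0, 0, 0, 0, 0, 0, 0, 1, 0, 0, 0, 0, 1, 0], [0, 1, 0, 0, 0, 2, 1, 2, 0, 1, 0, 0, 0, 0], [0, 0, 0, 0, 0, 1, 0, 1, 0, 0, 0, 1, 1, 0], [0, 0, 0, 0, 1, 0, 0, 1, 0, 2, 1, 0, 1, 0], [2, 0, 2, 1, 1, 1, 0, 2, 1, 2, 1, 1, 1, 0], [0, 1,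 1, 0, 0, 0, 0, 2, 0, 0, 0, 0, 2, 1]],
  [[1, 0, 1, 2, 2, 2, 0, 2, 0, 1, 0, 0, 0, 0], [0, 1, 0, 2, 2, 2, 0, 2, 0, 0, 0, 0, 0, 0], [0, 0, 1, 0, 0, 0, 0, 0, 0, 0, 0, 0, 0, 0], [0, 0, 0, 1, 1, 1, 0, 1, 0, 0, 0, 0, 0, 0], [0, 0, 0, 0, 1, 0, 0, 1, 0, 0, 0, 0, 0, 0], [0, 0, 0, 0, 0, 1, 0, 1, 0, 0, 0, 0, 0, 0], [0, 1, 0, 0, 0, 0, 1, 0, 0, 1, 0, 0, 0, 0], [0, 0, 2, 0, 0, 0, 0, 1, 0, 0, 0, 0, 0, 0], [0, 0, 0, 1, 1, 1, 0, 1, 1, 0, 1, 1, 1, 0], [0, 0, 0, 0, 2, 0, 0, 2, 0, 1, 0, 0, 0, 0], [0, 0, 0, 0, 1, 0, 0, 1, 0, 0, 1, 0, 1, 0], [0, 2, 0, 0, 0, 1, 2, 1, 0, 2, 0, 1, 1, 0], [2, 2, 2, 3, 3, 3, 0, 2, 0, 2, 0, 0, 1, 0], [0, 1, 1, 2, 2, 2, 0, 2, 2, 0,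 2, 2, 2, 1]],
  [[1, 0, 2, 0, 0, 2, 0, 2, 0, 1, 0, 0, 0, 0], [0, 1, 3, 0, 2, 2, 0, 2, 0, 0, 0, 0, 0, 0], [0, 0, 1, 0, 0, 0, 0, 0, 0, 0, 0, 0, 0, 0], [0, 0, 2, 1, 1, 1, 0, 1, 0, 0, 0, 0, 0, 0], [0, 0, 2, 0, 1, 0, 0, 1, 0, 0, 0, 0, 0, 0], [0, 0, 2, 0, 0, 1, 0, 1, 0, 0, 0, 0, 0, 0], [0, 1, 0, 2, 2, 0, 1, 0, 0, 1, 0, 0, 0, 0], [0, 0, 0, 0, 0, 0, 0, 1, 0, 0, 0, 0, 0, 0], [2, 2, 2, 2, 1, 1, 2, 1, 1, 0, 1, 1, 1, 0], [0, 0, 3, 0, 0, 0, 0, 2, 0, 1, 0, 0, 0, 0], [2, 2, 2, 3, 1, 0, 0, 1, 0, 0, 1, 0, 1, 0], [2, 0, 2, 0, 3, 1, 0, 1, 0, 2, 0, 1, 1, 0], [0, 0, 1, 0, 0, 3, 0, 2, 0, 2, 0, 0, 1, 0], [3, 2, 2, 1, 2, 2, 3, 2, 0, 0, 2, 2, 2, 1]]]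
theorem chE : chkChain wE pE ONE14 = true := by decide +kernel
theorem lastE : lastOf pE ONE14 = gE := by decide +kernel
theorem rep_gE : Rep gE := by
  rw [← lastE]
  apply rep_chain wE pE ONE14 rep_one _ chE
  intro g hg
  simp only [wE, List.mem_cons, List.not_mem_nil, or_false] at hg
  rcases hg with rfl | rfl | rfl | rfl | rfl | rfl | rfl | rfl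
  all_goals first | exact rep_x_4_1 | exact rep_x_7_1 | exact rep_x_10_2 | exact rep_x_11_1

/-- the image of the generator `f` -/
def gF : M := [[1, 0, 3, 0, 0, 0, 0, 0, 0, 0, 0, 0, 0, 0], [0, 1, 0, 0, 0, 0, 0, 0, 0, 0, 0, 0, 0, 0], [0, 0, 1, 0, 0, 0, 0, 0, 0, 0, 0, 0, 0, 0], [0, 0, 0, 1, 0, 0, 0, 0, 0, 0, 0, 0, 0, 0], [0, 0, 0, 0, 1, 0, 0, 0, 0, 0, 0, 0, 0, 0], [0, 0, 0, 0, 0, 1, 0, 0, 0, 0, 0, 0, 0, 0], [0, 0, 0, 0, 0, 0, 1, 0, 0, 0, 0, 0, 0, 0], [0, 0, 0, 0, 0, 0, 0, 1, 0, 0, 0, 0, 0, 0], [0, 0, 0, 3, 0, 0, 0, 0, 1, 0, 0, 0, 0, 0], [0, 0, 0, 0, 0, 0, 0, 0, 0, 1, 0, 0, 0, 0], [0, 0, 0, 0, 3, 0, 0, 0, 0, 0, 1, 0, 0, 0], [0, 0, 0, 0, 0,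 3, 0, 0, 0, 0, 0, 1, 0, 0], [0, 0, 0, 0, 0, 0, 0, 3, 0, 0, 0, 0, 1, 0], [0, 3, 2, 0, 0, 0, 0, 0, 0, 0, 0, 0, 0, 1]]
/-- its expression by root elements -/
def wF : List M := [x_0_1, x_11_2, x_0_2, x_11_1, x_0_2, x_11_2, x_0_1]
/-- the partial products -/
def pF : List M := [[[1, 0, 0, 0, 0, 0, 0, 0, 0, 0, 0, 0, 0, 1], [0, 1, 0, 0, 0, 0, 0, 0, 0, 0, 0, 0, 0, 0], [0, 1, 1, 0, 0, 0, 0, 0, 0, 0, 0, 0, 0, 1], [0, 0, 0, 1, 0, 0, 0, 0, 1, 0, 0, 0, 0, 0], [0, 0, 0, 0, 1, 0, 0, 0, 0, 0, 1, 0, 0, 0], [0, 0, 0, 0, 0, 1, 0, 0, 0, 0, 0, 1, 0, 0], [0, 0, 0, 0, 0, 0, 1, 0, 0, 0, 0, 0, 0, 0], [0, 0, 0, 0, 0, 0, 0, 1, 0, 0, 0, 0, 1, 0], [0, 0, 0, 0, 0,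 0, 0, 0, 1, 0, 0, 0, 0, 0], [0, 0, 0, 0, 0, 0, 0, 0, 0, 1, 0, 0, 0, 0], [0, 0, 0, 0, 0, 0, 0, 0, 0, 0, 1, 0, 0, 0], [0, 0, 0, 0, 0, 0, 0, 0, 0, 0, 0, 1, 0, 0], [0, 0, 0, 0, 0, 0, 0, 0, 0, 0, 0, 0, 1, 0], [0, 0, 0, 0, 0, 0, 0, 0, 0, 0, 0, 0, 0, 1]],
  [[1, 2, 1, 0, 0, 0, 0, 0, 0, 0, 0, 0, 0, 1], [0, 1, 0, 0, 0, 0, 0, 0, 0, 0, 0, 0, 0, 0], [0, 3, 2, 0, 0, 0, 0, 0, 0, 0, 0, 0, 0, 1], [0, 0, 0, 3, 0, 0, 0, 0, 1, 0, 0, 0, 0, 0], [0, 0, 0, 0, 3, 0, 0, 0, 0, 0, 1, 0, 0, 0], [0, 0, 0, 0, 0, 3, 0, 0, 0, 0, 0, 1, 0, 0], [0, 0, 0, 0, 0, 0, 1, 0, 0, 0, 0, 0, 0, 0], [0, 0, 0, 0, 0, 0, 0, 3, 0, 0, 0, 0, 1, 0], [0, 0, 0, 2, 0, 0, 0, 0, 1, 0, 0, 0, 0,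 0], [0, 0, 0, 0, 0, 0, 0, 0, 0, 1, 0, 0, 0, 0], [0, 0, 0, 0, 2, 0, 0, 0, 0, 0, 1, 0, 0, 0], [0, 0, 0, 0, 0, 2, 0, 0, 0, 0, 0, 1, 0, 0], [0, 0, 0, 0, 0, 0, 0, 2, 0, 0, 0, 0, 1, 0], [0, 2, 3, 0, 0, 0, 0, 0, 0, 0, 0, 0, 0, 1]],
  [[1, 0, 1, 0, 0, 0, 0, 0, 0, 0, 0, 0, 0, 0], [0, 1, 0, 0, 0, 0, 0, 0, 0, 0, 0, 0, 0, 0], [0, 0, 2, 0, 0, 0, 0, 0, 0, 0, 0, 0, 0, 0], [0, 0, 0, 3, 0, 0, 0, 0, 0, 0, 0, 0, 0, 0], [0, 0, 0, 0, 3, 0, 0, 0, 0, 0, 0, 0, 0, 0], [0, 0, 0, 0, 0, 3, 0, 0, 0, 0, 0, 0, 0, 0], [0, 0, 0, 0, 0, 0, 1, 0, 0, 0, 0, 0, 0, 0], [0, 0, 0, 0, 0, 0, 0, 3, 0, 0, 0, 0, 0, 0], [0, 0, 0, 2, 0, 0, 0, 0, 2, 0, 0, 0, 0, 0], [0, 0, 0, 0, 0, 0, 0,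 0, 0, 1, 0, 0, 0, 0], [0, 0, 0, 0, 2, 0, 0, 0, 0, 0, 2, 0, 0, 0], [0, 0, 0, 0, 0, 2, 0, 0, 0, 0, 0, 2, 0, 0], [0, 0, 0, 0, 0, 0, 0, 2, 0, 0, 0, 0, 2, 0], [0, 3, 3, 0, 0, 0, 0, 0, 0, 0, 0, 0, 0, 3]],
  [[1, 0, 0, 0, 0, 0, 0, 0, 0, 0, 0, 0, 0, 0], [0, 1, 0, 0, 0, 0, 0, 0, 0, 0, 0, 0, 0, 0], [0, 0, 2, 0, 0, 0, 0, 0, 0, 0, 0, 0, 0, 0], [0, 0, 0, 3, 0, 0, 0, 0, 0, 0, 0, 0, 0, 0], [0, 0, 0, 0, 3, 0, 0, 0, 0, 0, 0, 0, 0, 0], [0, 0, 0, 0, 0, 3, 0, 0, 0, 0, 0, 0, 0, 0], [0, 0, 0, 0, 0, 0, 1, 0, 0, 0, 0, 0, 0, 0], [0, 0, 0, 0, 0, 0, 0, 3, 0, 0, 0, 0, 0, 0], [0, 0, 0, 0, 0, 0, 0, 0, 2, 0, 0, 0, 0, 0], [0, 0, 0, 0, 0, 0, 0, 0, 0, 1, 0, 0, 0, 0], [0,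 0, 0, 0, 0, 0, 0, 0, 0, 0, 2, 0, 0, 0], [0, 0, 0, 0, 0, 0, 0, 0, 0, 0, 0, 2, 0, 0], [0, 0, 0, 0, 0, 0, 0, 0, 0, 0, 0, 0, 2, 0], [0, 0, 0, 0, 0, 0, 0, 0, 0, 0, 0, 0, 0, 3]],
  [[1, 0, 0, 0, 0, 0, 0, 0, 0, 0, 0, 0, 0, 2], [0, 1, 0, 0, 0, 0, 0, 0, 0, 0, 0, 0, 0, 0], [0, 3, 2, 0, 0, 0, 0, 0, 0, 0, 0, 0, 0, 1], [0, 0, 0, 3, 0, 0, 0, 0, 1, 0, 0, 0, 0, 0], [0, 0, 0, 0, 3, 0, 0, 0, 0, 0, 1, 0, 0, 0], [0, 0, 0, 0, 0, 3, 0, 0, 0, 0, 0, 1, 0, 0], [0, 0, 0, 0, 0, 0, 1, 0, 0, 0, 0, 0, 0, 0], [0, 0, 0, 0, 0, 0, 0, 3, 0, 0, 0, 0, 1, 0], [0, 0, 0, 0, 0, 0, 0, 0, 2, 0, 0, 0, 0, 0], [0, 0, 0, 0, 0, 0, 0, 0, 0, 1, 0, 0, 0, 0], [0, 0, 0, 0, 0, 0, 0, 0, 0,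 0, 2, 0, 0, 0], [0, 0, 0, 0, 0, 0, 0, 0, 0, 0, 0, 2, 0, 0], [0, 0, 0, 0, 0, 0, 0, 0, 0, 0, 0, 0, 2, 0], [0, 0, 0, 0, 0, 0, 0, 0, 0, 0, 0, 0, 0, 3]],
  [[1, 3, 3, 0, 0, 0, 0, 0, 0, 0, 0, 0, 0, 2], [0, 1, 0, 0, 0, 0, 0, 0, 0, 0, 0, 0, 0, 0], [0, 1, 1, 0, 0, 0, 0, 0, 0, 0, 0, 0, 0, 1], [0, 0, 0, 1, 0, 0, 0, 0, 1, 0, 0, 0, 0, 0], [0, 0, 0, 0, 1, 0, 0, 0, 0, 0, 1, 0, 0, 0], [0, 0, 0, 0, 0, 1, 0, 0, 0, 0, 0, 1, 0, 0], [0, 0, 0, 0, 0, 0, 1, 0, 0, 0, 0, 0, 0, 0], [0, 0, 0, 0, 0, 0, 0, 1, 0, 0, 0, 0, 1, 0], [0, 0, 0, 3, 0, 0, 0, 0, 2, 0, 0, 0, 0, 0], [0, 0, 0, 0, 0, 0, 0, 0, 0, 1, 0, 0, 0, 0], [0, 0, 0, 0, 3, 0, 0, 0, 0, 0, 2, 0, 0, 0], [0, 0, 0,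 0, 0, 3, 0, 0, 0, 0, 0, 2, 0, 0], [0, 0, 0, 0, 0, 0, 0, 3, 0, 0, 0, 0, 2, 0], [0, 1, 2, 0, 0, 0, 0, 0, 0, 0, 0, 0, 0, 3]],
  [[1, 0, 3, 0, 0, 0, 0, 0, 0, 0, 0, 0, 0, 0], [0, 1, 0, 0, 0, 0, 0, 0, 0, 0, 0, 0, 0, 0], [0, 0, 1, 0, 0, 0, 0, 0, 0, 0, 0, 0, 0, 0], [0, 0, 0, 1, 0, 0, 0, 0, 0, 0, 0, 0, 0, 0], [0, 0, 0, 0, 1, 0, 0, 0, 0, 0, 0, 0, 0, 0], [0, 0, 0, 0, 0, 1, 0, 0, 0, 0, 0, 0, 0, 0], [0, 0, 0, 0, 0, 0, 1, 0, 0, 0, 0, 0, 0, 0], [0, 0, 0, 0, 0, 0, 0, 1, 0, 0, 0, 0, 0, 0], [0, 0, 0, 3, 0, 0, 0, 0, 1, 0, 0, 0, 0, 0], [0, 0, 0, 0, 0, 0, 0, 0, 0, 1, 0, 0, 0, 0], [0, 0, 0, 0, 3, 0, 0, 0, 0, 0, 1, 0, 0, 0], [0, 0, 0, 0, 0, 3, 0, 0, 0, 0, 0,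 1, 0, 0], [0, 0, 0, 0, 0, 0, 0, 3, 0, 0, 0, 0, 1, 0], [0, 3, 2, 0, 0, 0, 0, 0, 0, 0, 0, 0, 0, 1]]]
theorem chF : chkChain wF pF ONE14 = true := by decide +kernel
theorem lastF : lastOf pF ONE14 = gF := by decide +kernel
theorem rep_gF : Rep gF := by
  rw [← lastF]
  apply rep_chain wF pF ONE14 rep_one _ chF
  intro g hg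
  simp only [wF, List.mem_cons, List.not_mem_nil, or_false] at hg
  rcases hg with rfl | rfl | rfl | rfl | rfl | rfl | rfl
  all_goals first | exact rep_x_0_1 | exact rep_x_0_2 | exact rep_x_11_1 | exact rep_x_11_2

/-- the coded matrices of the generators -/
def gcode : Cfsg.Agent.Lib.Helper28.TCG24W0Def.Gen → M
  | .a => gA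
  | .b => gB
  | .c => gC
  | .d => gD
  | .e => gE
  | .f => gF

theorem rep_gcode (x : Cfsg.Agent.Lib.Helper28.TCG24W0Def.Gen) : Rep (gcode x) := by
  cases x
  · exact rep_gA
  · exact rep_gB
  · exact rep_gC
  · exact rep_gD
  · exact rep_gE
  · exact rep_gF

theorem sq_gcode : ∀ x : Cfsg.Agent.Lib.Helper28.TCG24W0Def.Gen, mulL (gcode x) (gcode x) = ONE14 := by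
  intro x
  cases x <;> decide +kernel

theorem gA_ne : dec14 gA ≠ 1 := by decide +kernel

/-- the relators with their partial products -/
def relCert : List (List (Cfsg.Agent.Lib.Helper28.TCG24W0Def.Gen × Bool) × List M) := [
  ([(.a, true), (.a, true)],
   [[[1, 0, 1, 0, 0, 0, 0, 0, 0, 0, 0, 0, 0, 0], [0, 1, 0, 0, 0, 0, 0, 0, 0, 0, 0, 0, 0, 0], [0, 0, 1, 0, 0, 0, 0, 0, 0, 0, 0, 0, 0, 0], [0, 0, 0, 1, 0, 0, 0, 0, 0, 0, 0, 0, 0, 0], [0, 0, 0, 0, 1, 0, 0, 0, 0, 0, 0, 0, 0, 0], [0, 0, 0, 0, 0, 1, 0, 0, 0, 0, 0, 0, 0, 0], [0, 0, 0, 0, 0, 0, 1, 0, 0, 0, 0, 0, 0, 0], [0, 0, 0, 0, 0, 0, 0, 1, 0, 0, 0, 0, 0, 0], [0, 0, 0, 1, 0, 0, 0, 0, 1, 0,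 0, 0, 0, 0], [0, 0, 0, 0, 0, 0, 0, 0, 0, 1, 0, 0, 0, 0], [0, 0, 0, 0, 1, 0, 0, 0, 0, 0, 1, 0, 0, 0], [0, 0, 0, 0, 0, 1, 0, 0, 0, 0, 0, 1, 0, 0], [0, 0, 0, 0, 0, 0, 0, 1, 0, 0, 0, 0, 1, 0], [0, 1, 1, 0, 0, 0, 0, 0, 0, 0, 0, 0, 0, 1]],
    [[1, 0, 0, 0, 0, 0, 0, 0, 0, 0, 0, 0, 0, 0], [0, 1, 0, 0, 0, 0, 0, 0, 0, 0, 0, 0, 0, 0], [0, 0, 1, 0, 0, 0, 0, 0, 0, 0, 0, 0, 0, 0], [0, 0, 0, 1, 0, 0, 0, 0, 0, 0, 0, 0, 0, 0], [0, 0, 0, 0, 1, 0, 0, 0, 0, 0, 0, 0, 0, 0], [0, 0, 0, 0, 0, 1, 0, 0, 0, 0, 0, 0, 0, 0], [0, 0, 0, 0, 0, 0, 1, 0, 0, 0, 0, 0, 0, 0], [0, 0, 0, 0, 0, 0, 0, 1, 0, 0, 0, 0, 0, 0], [0, 0, 0, 0, 0, 0, 0, 0, 1, 0, 0, 0, 0, 0], [0, 0, 0,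 0, 0, 0, 0, 0, 0, 1, 0, 0, 0, 0], [0, 0, 0, 0, 0, 0, 0, 0, 0, 0, 1, 0, 0, 0], [0, 0, 0, 0, 0, 0, 0, 0, 0, 0, 0, 1, 0, 0], [0, 0, 0, 0, 0, 0, 0, 0, 0, 0, 0, 0, 1, 0], [0, 0, 0, 0, 0, 0, 0, 0, 0, 0, 0, 0, 0, 1]]]),
  ([(.a, true), (.b, true), (.a, true), (.b, true), (.a, true), (.b, true), (.a, true), (.b, true), (.a, true), (.b, true)],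
   [[[1, 0, 1, 0, 0, 0, 0, 0, 0, 0, 0, 0, 0, 0], [0, 1, 0, 0, 0, 0, 0, 0, 0, 0, 0, 0, 0, 0], [0, 0, 1, 0, 0, 0, 0, 0, 0, 0, 0, 0, 0, 0], [0, 0, 0, 1, 0, 0, 0, 0, 0, 0, 0, 0, 0, 0], [0, 0, 0, 0, 1, 0, 0, 0, 0, 0, 0, 0, 0, 0], [0, 0, 0, 0, 0, 1, 0, 0, 0, 0, 0, 0, 0, 0], [0, 0, 0, 0, 0, 0, 1, 0, 0, 0, 0, 0, 0, 0], [0, 0, 0, 0, 0, 0, 0, 1, 0, 0, 0, 0, 0, 0], [0, 0, 0, 1, 0, 0, 0, 0, 1, 0, 0, 0, 0, 0], [0, 0, 0, 0, 0, 0, 0, 0, 0, 1, 0, 0, 0, 0], [0, 0, 0, 0, 1, 0, 0, 0, 0, 0, 1, 0, 0, 0], [0, 0, 0, 0, 0, 1, 0, 0, 0, 0, 0, 1, 0, 0], [0, 0, 0, 0, 0, 0, 0, 1, 0, 0, 0, 0, 1, 0], [0, 1, 1, 0, 0, 0, 0, 0, 0, 0, 0, 0, 0, 1]],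
    [[2, 2, 0, 0, 0, 2, 3, 3, 1, 1, 1, 3, 0, 1], [3, 1, 2, 3, 3, 0, 2, 1, 2, 3, 1, 1, 0, 3], [3, 2, 1, 1, 0, 2, 2, 3, 1, 3, 3, 3, 0, 3], [0, 0, 2, 3, 2, 0, 2, 0, 2, 0, 0, 0, 0, 0], [1, 0, 2, 3, 3, 0, 2, 3, 1, 3, 1, 3, 0, 3], [1, 2, 3, 2, 2, 3, 1, 1, 1, 3, 3, 1, 0, 3], [3, 2, 2, 3, 2, 2, 1, 3, 3, 3, 3, 3, 0, 3], [2, 0, 2, 3, 3, 1, 3, 0, 2, 3, 1, 1, 2, 1], [1, 0, 0, 0, 0, 0, 0, 3, 2, 3, 1, 3, 0, 3], [2, 1, 1, 1, 0, 0, 1, 2, 3, 1, 1, 2, 2, 2], [1, 0, 2, 3, 2, 0, 2, 3, 0, 1, 2, 3, 0, 1], [2, 2, 2, 3, 3, 2, 1, 3, 2, 1, 1, 2, 2, 3], [1, 1, 3, 2, 2, 1, 2, 3, 1, 0, 3, 2, 1, 0], [2, 2, 2, 3, 2, 2, 1, 0, 1, 2, 1, 0, 2, 1]],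
    [[2, 3, 3, 1, 1, 1, 3, 3, 1, 1, 1, 3, 0, 1], [3, 2, 2, 1, 2, 1, 2, 1, 2, 3, 1, 1, 0, 3], [3, 1, 1, 0, 3, 1, 2, 3, 1, 3, 3, 3, 0, 3], [0, 0, 2, 1, 2, 0, 2, 0, 2, 0, 0, 0, 0, 0], [1, 3, 0, 2, 2, 3, 2, 3, 1, 3, 1, 3, 0, 3], [1, 1, 1, 3, 1, 2, 1, 1, 1, 3, 3, 1, 0, 3], [3, 1, 2, 0, 1, 1, 1, 3, 3, 3, 3, 3, 0, 3], [2, 1, 1, 1, 2, 0, 3, 2, 2, 3, 1, 1, 2, 1], [1, 3, 2, 2, 1, 3, 0, 3, 2, 3, 1, 3, 0, 3], [2, 3, 1, 2, 1, 2, 1, 0, 3, 1, 1, 2, 2, 2], [1, 1, 2, 3, 0, 3, 2, 3, 0, 1, 2, 3, 0, 1], [2, 1, 3, 1, 2, 0, 1, 1, 2, 1, 1, 2, 2, 3], [1, 1, 2, 3, 1, 3, 2, 2, 1, 0, 3, 2, 1, 0], [2, 3, 1, 2, 3, 2, 1, 2, 1, 2, 1, 0, 2, 1]],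
    [[2, 1, 2, 1, 3, 3, 0, 3, 1, 0, 0, 3, 0, 0], [2, 0, 3, 2, 0, 3, 1, 1, 2, 2, 1, 1, 0, 2], [2, 2, 1, 2, 3, 2, 1, 2, 3, 2, 2, 2, 0, 2], [0, 0, 3, 0, 3, 0, 3, 0, 3, 0, 0, 0, 0, 0], [1, 1, 1, 1, 3, 1, 1, 2, 3, 2, 1, 2, 0, 2], [1, 2, 3, 3, 0, 1, 0, 1, 3, 2, 2, 1, 0, 2], [2, 2, 3, 3, 0, 2, 3, 2, 0, 2, 2, 2, 0, 2], [2, 2, 0, 1, 0, 0, 2, 0, 1, 0, 3, 3, 3, 3], [1, 1, 0, 2, 3, 1, 0, 2, 3, 2, 1, 2, 0, 2], [1, 1, 2, 2, 1, 3, 3, 3, 2, 3, 0, 1, 3, 1], [2, 0, 3, 3, 2, 2, 2, 3, 3, 0, 0, 3, 0, 0], [1, 2, 3, 3, 0, 0, 1, 1, 3, 2, 2, 2, 3, 1], [0, 1, 1, 0, 0, 2, 0, 2, 0, 3, 0, 2, 3, 1], [3, 1, 3, 1, 3, 3, 2, 0, 1, 3, 0, 2, 3, 1]],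
    [[2, 1, 0, 0, 3, 0, 0, 3, 1, 0, 0, 3, 0, 0], [2, 2, 3, 0, 1, 2, 1, 1, 2, 2, 1, 1, 0, 2], [2, 0, 1, 1, 1, 0, 1, 2, 3, 2, 2, 2, 0, 2], [0, 0, 3, 3, 3, 0, 3, 0, 3, 0, 0, 0, 0, 0], [1, 3, 2, 2, 2, 3, 1, 2, 3, 2, 1, 2, 0, 2], [1, 0, 0, 0, 2, 0, 0, 1, 3, 2, 2, 1, 0, 2], [2, 0, 3, 3, 2, 0, 3, 2, 0, 2, 2, 2, 0, 2], [2, 1, 1, 0, 3, 3, 2, 3, 1, 0, 3, 3, 3, 3], [1, 3, 3, 1, 2, 3, 0, 2, 3, 2, 1, 2, 0, 2], [1, 0, 2, 0, 1, 2, 3, 0, 2, 3, 0, 1, 3, 1], [2, 0, 1, 0, 2, 1, 2, 3, 3, 0, 0, 3, 0, 0], [1, 3, 3, 0, 2, 2, 1, 2, 3, 2, 2, 2, 3, 1], [0, 0, 0, 0, 0, 0, 0, 1, 0, 3, 0, 2, 3, 1], [3, 0, 1, 0, 3, 1, 2, 3, 1, 3, 0, 2, 3, 1]],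
    [[0, 1, 1, 1, 2, 0, 1, 1, 2, 2, 2, 1, 0, 2], [2, 2, 3, 0, 1, 2, 1, 1, 2, 2, 1, 1, 0, 2], [2, 0, 1, 1, 1, 0, 1, 2, 3, 2, 2, 2, 0, 2], [0, 0, 3, 3, 3, 0, 3, 0, 3, 0, 0, 0, 0, 0], [1, 3, 2, 2, 2, 3, 1, 2, 3, 2, 1, 2, 0, 2], [1, 0, 0, 0, 2, 0, 0, 1, 3, 2, 2, 1, 0, 2], [2, 0, 3, 3, 2, 0, 3, 2, 0, 2, 2, 2, 0, 2], [2, 1, 1, 0, 3, 3, 2, 3, 1, 0, 3, 3, 3, 3], [1, 3, 0, 2, 1, 3, 3, 2, 0, 2, 1, 2, 0, 2], [1, 0, 2, 0, 1, 2, 3, 0, 2, 3, 0, 1, 3, 1], [3, 3, 3, 2, 0, 2, 3, 1, 0, 2, 1, 1, 0, 2], [0, 3, 3, 0, 0, 2, 1, 3, 0, 0, 0, 3, 3, 3], [2, 1, 1, 0, 3, 3, 2, 2, 1, 3, 3, 1, 0, 2], [3, 2, 3, 1, 3, 3, 2, 0, 0, 3, 3, 1, 3, 1]],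
    [[0, 3, 3, 3, 0, 1, 1, 1, 2, 2, 2, 1, 0, 2], [2, 0, 3, 2, 0, 3, 1, 1, 2, 2, 1, 1, 0, 2], [2, 2, 1, 2, 3, 2, 1, 2, 3, 2, 2, 2, 0, 2], [0, 0, 3, 0, 3, 0, 3, 0, 3, 0, 0, 0, 0, 0], [1, 1, 1, 1, 3, 1, 1, 2, 3, 2, 1, 2, 0, 2], [1, 2, 3, 3, 0, 1, 0, 1, 3, 2, 2, 1, 0, 2], [2, 2, 3, 3, 0, 2, 3, 2, 0, 2, 2, 2, 0, 2], [2, 2, 0, 1, 0, 0, 2, 0, 1, 0, 3, 3, 3, 3], [1, 1, 3, 2, 0, 1, 3, 2, 0, 2, 1, 2, 0, 2], [1, 1, 2, 2, 1, 3, 3, 3, 2, 3, 0, 1, 3, 1], [3, 1, 2, 2, 1, 3, 3, 1, 0, 2, 1, 1, 0, 2], [0, 0, 0, 0, 0, 1, 1, 0, 0, 0, 0, 3, 3, 3], [2, 3, 1, 1, 0, 2, 2, 2, 1, 3, 3, 1, 0, 2], [3, 3, 1, 1, 0, 2, 2, 3, 0, 3, 3, 1, 3, 1]],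
    [[1, 2, 2, 1, 2, 0, 1, 0, 0, 2, 2, 0, 0, 2], [3, 2, 2, 1, 2, 1, 2, 1, 2, 3, 1, 1, 0, 3], [3, 1, 1, 0, 3, 1, 2, 3, 1, 3, 3, 3, 0, 3], [0, 0, 2, 1, 2, 0, 2, 0, 2, 0, 0, 0, 0, 0], [1, 3, 0, 2, 2, 3, 2, 3, 1, 3, 1, 3, 0, 3], [1, 1, 1, 3, 1, 2, 1, 1, 1, 3, 3, 1, 0, 3], [3, 1, 2, 0, 1, 1, 1, 3, 3, 3, 3, 3, 0, 3], [2, 1, 1, 1, 2, 0, 3, 2, 2, 3, 1, 1, 2, 1], [1, 3, 0, 3, 3, 3, 2, 3, 0, 3, 1, 3, 0, 3], [2, 3, 1, 2, 1, 2, 1, 0, 3, 1, 1, 2, 2, 2], [0, 2, 2, 1, 2, 0, 0, 0, 1, 2, 3, 0, 0, 2], [3, 0, 2, 2, 3, 2, 0, 0, 3, 2, 2, 3, 2, 0], [3, 0, 3, 2, 3, 3, 1, 0, 3, 3, 2, 3, 3, 1], [2, 0, 2, 3, 2, 2, 1, 0, 2, 2, 3, 2, 2, 1]],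
    [[1, 0, 1, 1, 0, 0, 1, 0, 0, 2, 2, 0, 0, 2], [3, 1, 2, 3, 3, 0, 2, 1, 2, 3, 1, 1, 0, 3], [3, 2, 1, 1, 0, 2, 2, 3, 1, 3, 3, 3, 0, 3], [0, 0, 2, 3, 2, 0, 2, 0, 2, 0, 0, 0, 0, 0], [1, 0, 2, 3, 3, 0, 2, 3, 1, 3, 1, 3, 0, 3], [1, 2, 3, 2, 2, 3, 1, 1, 1, 3, 3, 1, 0, 3], [3, 2, 2, 3, 2, 2, 1, 3, 3, 3, 3, 3, 0, 3], [2, 0, 2, 3, 3, 1, 3, 0, 2, 3, 1, 1, 2, 1], [1, 0, 2, 3, 2, 0, 2, 3, 0, 3, 1, 3, 0, 3], [2, 1, 1, 1, 0, 0, 1, 2, 3, 1, 1, 2, 2, 2], [0, 0, 0, 0, 1, 0, 0, 0, 1, 2, 3, 0, 0, 2], [3, 0, 1, 1, 1, 1, 0, 2, 3, 2, 2, 3, 2, 0], [3, 1, 1, 1, 1, 0, 1, 3, 3, 3, 2, 3, 3, 1], [2, 1, 1, 1, 1, 0, 1, 2, 2, 2, 3, 2, 2, 1]],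
    [[1, 0, 0, 0, 0, 0, 0, 0, 0, 0, 0, 0, 0, 0], [0, 1, 0, 0, 0, 0, 0, 0, 0, 0, 0, 0, 0, 0], [0, 0, 1, 0, 0, 0, 0, 0, 0, 0, 0, 0, 0, 0], [0, 0, 0, 1, 0, 0, 0, 0, 0, 0, 0, 0, 0, 0], [0, 0, 0, 0, 1, 0, 0, 0, 0, 0, 0, 0, 0, 0], [0, 0, 0, 0, 0, 1, 0, 0, 0, 0, 0, 0, 0, 0], [0, 0, 0, 0, 0, 0, 1, 0, 0, 0, 0, 0, 0, 0], [0, 0, 0, 0, 0, 0, 0, 1, 0, 0, 0, 0, 0, 0], [0, 0, 0, 0, 0, 0, 0, 0, 1, 0, 0, 0, 0, 0], [0, 0, 0, 0, 0, 0, 0, 0, 0, 1, 0, 0, 0, 0], [0, 0, 0, 0, 0, 0, 0, 0, 0, 0, 1, 0, 0, 0], [0, 0, 0, 0, 0, 0, 0, 0, 0, 0, 0, 1, 0, 0], [0, 0, 0, 0, 0, 0, 0, 0, 0, 0, 0, 0, 1, 0], [0, 0, 0, 0, 0, 0, 0, 0, 0, 0, 0, 0, 0, 1]]]),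
  ([(.a, true), (.c, true), (.a, true), (.c, true)],
   [[[1, 0, 1, 0, 0, 0, 0, 0, 0, 0, 0, 0, 0, 0], [0, 1, 0, 0, 0, 0, 0, 0, 0, 0, 0, 0, 0, 0], [0, 0, 1, 0, 0, 0, 0, 0, 0, 0, 0, 0, 0, 0], [0, 0, 0, 1, 0, 0, 0, 0, 0, 0, 0, 0, 0, 0], [0, 0, 0, 0, 1, 0, 0, 0, 0, 0, 0, 0, 0, 0], [0, 0, 0, 0, 0, 1, 0, 0, 0, 0, 0, 0, 0, 0], [0, 0, 0, 0, 0, 0, 1, 0, 0, 0, 0, 0, 0, 0], [0, 0, 0, 0, 0, 0, 0, 1, 0, 0, 0, 0, 0, 0], [0, 0, 0, 1, 0, 0, 0, 0, 1, 0, 0, 0, 0, 0], [0, 0, 0, 0, 0, 0, 0, 0, 0, 1, 0, 0, 0, 0], [0, 0, 0, 0, 1, 0, 0, 0, 0, 0, 1, 0, 0, 0], [0, 0, 0, 0, 0, 1, 0, 0, 0, 0, 0, 1, 0, 0], [0, 0, 0, 0, 0, 0, 0, 1, 0, 0, 0, 0, 1, 0], [0, 1, 1, 0, 0,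 0, 0, 0, 0, 0, 0, 0, 0, 1]],
    [[1, 0, 0, 0, 0, 0, 0, 0, 0, 0, 0, 0, 0, 0], [0, 1, 0, 0, 0, 0, 0, 1, 0, 0, 0, 0, 0, 0], [0, 0, 1, 0, 0, 0, 0, 0, 0, 0, 0, 0, 0, 0], [0, 0, 1, 1, 0, 0, 0, 0, 0, 0, 0, 0, 0, 0], [0, 0, 0, 0, 1, 0, 0, 0, 0, 0, 0, 0, 0, 0], [0, 0, 0, 0, 0, 1, 0, 0, 0, 0, 0, 0, 0, 0], [0, 0, 0, 0, 0, 1, 1, 0, 0, 0, 0, 0, 0, 0], [0, 0, 0, 0, 0, 0, 0, 1, 0, 0, 0, 0, 0, 0], [1, 0, 0, 0, 0, 0, 0, 1, 1, 0, 0, 0, 0, 0], [0, 0, 0, 0, 0, 0, 0, 0, 0, 1, 0, 0, 0, 0], [0, 0, 0, 0, 0, 0, 0, 0, 0, 1, 1, 0, 0, 0], [0, 0, 0, 0, 0, 0, 0, 0, 0, 0, 0, 1, 0, 0], [0, 0, 0, 0, 0, 0, 0, 0, 0, 0, 0, 0, 1, 0], [0, 0, 0, 0, 0, 0, 0, 0, 0, 0, 0, 0, 1,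 1]],
    [[1, 0, 1, 0, 0, 0, 0, 0, 0, 0, 0, 0, 0, 0], [0, 1, 0, 0, 0, 0, 0, 1, 0, 0, 0, 0, 0, 0], [0, 0, 1, 0, 0, 0, 0, 0, 0, 0, 0, 0, 0, 0], [0, 0, 1, 1, 0, 0, 0, 0, 0, 0, 0, 0, 0, 0], [0, 0, 0, 0, 1, 0, 0, 0, 0, 0, 0, 0, 0, 0], [0, 0, 0, 0, 0, 1, 0, 0, 0, 0, 0, 0, 0, 0], [0, 0, 0, 0, 0, 1, 1, 0, 0, 0, 0, 0, 0, 0], [0, 0, 0, 0, 0, 0, 0, 1, 0, 0, 0, 0, 0, 0], [1, 0, 1, 1, 0, 0, 0, 1, 1, 0, 0, 0, 0, 0], [0, 0, 0, 0, 0, 0, 0, 0, 0, 1, 0, 0, 0, 0], [0, 0, 0, 0, 1, 0, 0, 0, 0, 1, 1, 0, 0, 0], [0, 0, 0, 0, 0, 1, 0, 0, 0, 0, 0, 1, 0, 0], [0, 0, 0, 0, 0, 0, 0, 1, 0, 0, 0, 0, 1, 0], [0, 1, 1, 0, 0, 0, 0, 1, 0, 0, 0, 0, 1, 1]],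
    [[1, 0, 0, 0, 0, 0, 0, 0, 0, 0, 0, 0, 0, 0], [0, 1, 0, 0, 0, 0, 0, 0, 0, 0, 0, 0, 0, 0], [0, 0, 1, 0, 0, 0, 0, 0, 0, 0, 0, 0, 0, 0], [0, 0, 0, 1, 0, 0, 0, 0, 0, 0, 0, 0, 0, 0], [0, 0, 0, 0, 1, 0, 0, 0, 0, 0, 0, 0, 0, 0], [0, 0, 0, 0, 0, 1, 0, 0, 0, 0, 0, 0, 0, 0], [0, 0, 0, 0, 0, 0, 1, 0, 0, 0, 0, 0, 0, 0], [0, 0, 0, 0, 0, 0, 0, 1, 0, 0, 0, 0, 0, 0], [0, 0, 0, 0, 0, 0, 0, 0, 1, 0, 0, 0, 0, 0], [0, 0, 0, 0, 0, 0, 0, 0, 0, 1, 0, 0, 0, 0], [0, 0, 0, 0, 0, 0, 0, 0, 0, 0, 1, 0, 0, 0], [0, 0, 0, 0, 0, 0, 0, 0, 0, 0, 0, 1, 0, 0], [0, 0, 0, 0, 0, 0, 0, 0, 0, 0, 0, 0, 1, 0], [0, 0, 0, 0, 0, 0, 0, 0, 0, 0, 0, 0, 0, 1]]]),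
  ([(.a, true), (.d, true), (.a, true), (.d, true)],
   [[[1, 0, 1, 0, 0, 0, 0, 0, 0, 0, 0, 0, 0, 0], [0, 1, 0, 0, 0, 0, 0, 0, 0, 0, 0, 0, 0, 0], [0, 0, 1, 0, 0, 0, 0, 0, 0, 0, 0, 0, 0, 0], [0, 0, 0, 1, 0, 0, 0, 0, 0, 0, 0, 0, 0, 0], [0, 0, 0, 0, 1, 0, 0, 0, 0, 0, 0, 0, 0, 0], [0, 0, 0, 0, 0, 1, 0, 0, 0, 0, 0, 0, 0, 0], [0, 0, 0, 0, 0, 0, 1, 0, 0, 0, 0, 0, 0, 0], [0, 0, 0, 0, 0, 0, 0, 1, 0, 0, 0, 0, 0, 0], [0, 0, 0, 1, 0, 0, 0, 0, 1, 0, 0, 0, 0, 0], [0, 0, 0, 0, 0, 0, 0, 0, 0, 1, 0, 0, 0, 0], [0, 0, 0, 0, 1, 0, 0, 0, 0, 0, 1, 0, 0, 0], [0, 0, 0, 0, 0, 1, 0, 0, 0, 0, 0, 1, 0, 0], [0, 0, 0, 0, 0, 0, 0, 1, 0, 0, 0, 0, 1, 0], [0, 1, 1, 0, 0,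 0, 0, 0, 0, 0, 0, 0, 0, 1]],
    [[1, 0, 0, 0, 0, 0, 1, 0, 0, 0, 0, 0, 0, 0], [0, 1, 0, 0, 0, 0, 0, 0, 0, 0, 0, 0, 0, 0], [0, 0, 1, 0, 0, 0, 0, 0, 0, 0, 0, 0, 0, 0], [0, 0, 0, 1, 0, 0, 0, 0, 0, 0, 0, 0, 0, 0], [0, 0, 0, 1, 1, 0, 0, 0, 0, 0, 0, 0, 0, 0], [0, 0, 0, 1, 0, 1, 0, 0, 0, 0, 0, 0, 0, 0], [0, 0, 0, 0, 0, 0, 1, 0, 0, 0, 0, 0, 0, 0], [0, 0, 0, 1, 1, 1, 0, 1, 0, 0, 0, 0, 0, 0], [0, 0, 0, 0, 0, 0, 0, 0, 1, 0, 0, 0, 0, 0], [0, 1, 0, 0, 0, 0, 1, 0, 0, 1, 0, 0, 0, 0], [0, 0, 0, 0, 0, 0, 0, 0, 1, 0, 1, 0, 0, 0], [0, 0, 0, 0, 0, 0, 0, 0, 1, 0, 0, 1, 0, 0], [0, 0, 0, 0, 0, 0, 0, 0, 1, 0, 1, 1, 1, 0], [0, 0, 0, 0, 0, 0, 0, 0, 0, 0, 0, 0, 0,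 1]],
    [[1, 0, 1, 0, 0, 0, 1, 0, 0, 0, 0, 0, 0, 0], [0, 1, 0, 0, 0, 0, 0, 0, 0, 0, 0, 0, 0, 0], [0, 0, 1, 0, 0, 0, 0, 0, 0, 0, 0, 0, 0, 0], [0, 0, 0, 1, 0, 0, 0, 0, 0, 0, 0, 0, 0, 0], [0, 0, 0, 1, 1, 0, 0, 0, 0, 0, 0, 0, 0, 0], [0, 0, 0, 1, 0, 1, 0, 0, 0, 0, 0, 0, 0, 0], [0, 0, 0, 0, 0, 0, 1, 0, 0, 0, 0, 0, 0, 0], [0, 0, 0, 1, 1, 1, 0, 1, 0, 0, 0, 0, 0, 0], [0, 0, 0, 1, 0, 0, 0, 0, 1, 0, 0, 0, 0, 0], [0, 1, 0, 0, 0, 0, 1, 0, 0, 1, 0, 0, 0, 0], [0, 0, 0, 1, 1, 0, 0, 0, 1, 0, 1, 0, 0, 0], [0, 0, 0, 1, 0, 1, 0, 0, 1, 0, 0, 1, 0, 0], [0, 0, 0, 1, 1, 1, 0, 1, 1, 0, 1, 1, 1, 0], [0, 1, 1, 0, 0, 0, 0, 0, 0, 0, 0, 0, 0, 1]],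
    [[1, 0, 0, 0, 0, 0, 0, 0, 0, 0, 0, 0, 0, 0], [0, 1, 0, 0, 0, 0, 0, 0, 0, 0, 0, 0, 0, 0], [0, 0, 1, 0, 0, 0, 0, 0, 0, 0, 0, 0, 0, 0], [0, 0, 0, 1, 0, 0, 0, 0, 0, 0, 0, 0, 0, 0], [0, 0, 0, 0, 1, 0, 0, 0, 0, 0, 0, 0, 0, 0], [0, 0, 0, 0, 0, 1, 0, 0, 0, 0, 0, 0, 0, 0], [0, 0, 0, 0, 0, 0, 1, 0, 0, 0, 0, 0, 0, 0], [0, 0, 0, 0, 0, 0, 0, 1, 0, 0, 0, 0, 0, 0], [0, 0, 0, 0, 0, 0, 0, 0, 1, 0, 0, 0, 0, 0], [0, 0, 0, 0, 0, 0, 0, 0, 0, 1, 0, 0, 0, 0], [0, 0, 0, 0, 0, 0, 0, 0, 0, 0, 1, 0, 0, 0], [0, 0, 0, 0, 0, 0, 0, 0, 0, 0, 0, 1, 0, 0], [0, 0, 0, 0, 0, 0, 0, 0, 0, 0, 0, 0, 1, 0], [0, 0, 0, 0, 0, 0, 0, 0, 0, 0, 0, 0, 0, 1]]]),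
  ([(.a, true), (.e, true), (.a, true), (.e, true)],
   [[[1, 0, 1, 0, 0, 0, 0, 0, 0, 0, 0, 0, 0, 0], [0, 1, 0, 0, 0, 0, 0, 0, 0, 0, 0, 0, 0, 0], [0, 0, 1, 0, 0, 0, 0, 0, 0, 0, 0, 0, 0, 0], [0, 0, 0, 1, 0, 0, 0, 0, 0, 0, 0, 0, 0, 0], [0, 0, 0, 0, 1, 0, 0, 0, 0, 0, 0, 0, 0, 0], [0, 0, 0, 0, 0, 1, 0, 0, 0, 0, 0, 0, 0, 0], [0, 0, 0, 0, 0, 0, 1, 0, 0, 0, 0, 0, 0, 0], [0, 0, 0, 0, 0, 0, 0, 1, 0, 0, 0, 0, 0, 0], [0, 0, 0, 1, 0, 0, 0, 0, 1, 0, 0, 0, 0, 0], [0, 0, 0, 0, 0, 0, 0, 0, 0, 1, 0, 0, 0, 0], [0, 0, 0, 0, 1, 0, 0, 0, 0, 0, 1, 0, 0, 0], [0, 0, 0, 0, 0, 1, 0, 0, 0, 0, 0, 1, 0, 0], [0, 0, 0, 0, 0, 0, 0, 1, 0, 0, 0, 0, 1, 0], [0, 1, 1, 0, 0,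 0, 0, 0, 0, 0, 0, 0, 0, 1]],
    [[1, 0, 3, 0, 0, 2, 0, 2, 0, 1, 0, 0, 0, 0], [0, 1, 3, 0, 2, 2, 0, 2, 0, 0, 0, 0, 0, 0], [0, 0, 1, 0, 0, 0, 0, 0, 0, 0, 0, 0, 0, 0], [0, 0, 2, 1, 1, 1, 0, 1, 0, 0, 0, 0, 0, 0], [0, 0, 2, 0, 1, 0, 0, 1, 0, 0, 0, 0, 0, 0], [0, 0, 2, 0, 0, 1, 0, 1, 0, 0, 0, 0, 0, 0], [0, 1, 0, 2, 2, 0, 1, 0, 0, 1, 0, 0, 0, 0], [0, 0, 0, 0, 0, 0, 0, 1, 0, 0, 0, 0, 0, 0], [2, 2, 0, 3, 0, 0, 2, 0, 1, 0, 1, 1, 1, 0], [0, 0, 3, 0, 0, 0, 0, 2, 0, 1, 0, 0, 0, 0], [2, 2, 0, 3, 0, 0, 0, 0, 0, 0, 1, 0, 1, 0], [2, 0, 0, 0, 3, 0, 0, 0, 0, 2, 0, 1, 1, 0], [0, 0, 1, 0, 0, 3, 0, 3, 0, 2, 0, 0, 1, 0], [3, 3, 0, 1, 0, 0, 3, 0, 0, 0, 2, 2, 2,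 1]],
    [[1, 0, 2, 0, 0, 2, 0, 2, 0, 1, 0, 0, 0, 0], [0, 1, 3, 0, 2, 2, 0, 2, 0, 0, 0, 0, 0, 0], [0, 0, 1, 0, 0, 0, 0, 0, 0, 0, 0, 0, 0, 0], [0, 0, 2, 1, 1, 1, 0, 1, 0, 0, 0, 0, 0, 0], [0, 0, 2, 0, 1, 0, 0, 1, 0, 0, 0, 0, 0, 0], [0, 0, 2, 0, 0, 1, 0, 1, 0, 0, 0, 0, 0, 0], [0, 1, 0, 2, 2, 0, 1, 0, 0, 1, 0, 0, 0, 0], [0, 0, 0, 0, 0, 0, 0, 1, 0, 0, 0, 0, 0, 0], [2, 2, 2, 2, 1, 1, 2, 1, 1, 0, 1, 1, 1, 0], [0, 0, 3, 0, 0, 0, 0, 2, 0, 1, 0, 0, 0, 0], [2, 2, 2, 3, 1, 0, 0, 1, 0, 0, 1, 0, 1, 0], [2, 0, 2, 0, 3, 1, 0, 1, 0, 2, 0, 1, 1, 0], [0, 0, 1, 0, 0, 3, 0, 2, 0, 2, 0, 0, 1, 0], [3, 2, 2, 1, 2, 2, 3, 2, 0, 0, 2, 2, 2, 1]],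
    [[1, 0, 0, 0, 0, 0, 0, 0, 0, 0, 0, 0, 0, 0], [0, 1, 0, 0, 0, 0, 0, 0, 0, 0, 0, 0, 0, 0], [0, 0, 1, 0, 0, 0, 0, 0, 0, 0, 0, 0, 0, 0], [0, 0, 0, 1, 0, 0, 0, 0, 0, 0, 0, 0, 0, 0], [0, 0, 0, 0, 1, 0, 0, 0, 0, 0, 0, 0, 0, 0], [0, 0, 0, 0, 0, 1, 0, 0, 0, 0, 0, 0, 0, 0], [0, 0, 0, 0, 0, 0, 1, 0, 0, 0, 0, 0, 0, 0], [0, 0, 0, 0, 0, 0, 0, 1, 0, 0, 0, 0, 0, 0], [0, 0, 0, 0, 0, 0, 0, 0, 1, 0, 0, 0, 0, 0], [0, 0, 0, 0, 0, 0, 0, 0, 0, 1, 0, 0, 0, 0], [0, 0, 0, 0, 0, 0, 0, 0, 0, 0, 1, 0, 0, 0], [0, 0, 0, 0, 0, 0, 0, 0, 0, 0, 0, 1, 0, 0], [0, 0, 0, 0, 0, 0, 0, 0, 0, 0, 0, 0, 1, 0], [0, 0, 0, 0, 0, 0, 0, 0, 0, 0, 0, 0, 0, 1]]]),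
  ([(.a, true), (.f, true), (.a, true), (.f, true)],
   [[[1, 0, 1, 0, 0, 0, 0, 0, 0, 0, 0, 0, 0, 0], [0, 1, 0, 0, 0, 0, 0, 0, 0, 0, 0, 0, 0, 0], [0, 0, 1, 0, 0, 0, 0, 0, 0, 0, 0, 0, 0, 0], [0, 0, 0, 1, 0, 0, 0, 0, 0, 0, 0, 0, 0, 0], [0, 0, 0, 0, 1, 0, 0, 0, 0, 0, 0, 0, 0, 0], [0, 0, 0, 0, 0, 1, 0, 0, 0, 0, 0, 0, 0, 0], [0, 0, 0, 0, 0, 0, 1, 0, 0, 0, 0, 0, 0, 0], [0, 0, 0, 0, 0, 0, 0, 1, 0, 0, 0, 0, 0, 0], [0, 0, 0, 1, 0, 0, 0, 0, 1, 0, 0, 0, 0, 0], [0, 0, 0, 0, 0, 0, 0, 0, 0, 1, 0, 0, 0, 0], [0, 0, 0, 0, 1, 0, 0, 0, 0, 0, 1, 0, 0, 0], [0, 0, 0, 0, 0, 1, 0, 0, 0, 0, 0, 1, 0, 0], [0, 0, 0, 0, 0, 0, 0, 1, 0, 0, 0, 0, 1, 0], [0, 1, 1, 0, 0,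 0, 0, 0, 0, 0, 0, 0, 0, 1]],
    [[1, 0, 2, 0, 0, 0, 0, 0, 0, 0, 0, 0, 0, 0], [0, 1, 0, 0, 0, 0, 0, 0, 0, 0, 0, 0, 0, 0], [0, 0, 1, 0, 0, 0, 0, 0, 0, 0, 0, 0, 0, 0], [0, 0, 0, 1, 0, 0, 0, 0, 0, 0, 0, 0, 0, 0], [0, 0, 0, 0, 1, 0, 0, 0, 0, 0, 0, 0, 0, 0], [0, 0, 0, 0, 0, 1, 0, 0, 0, 0, 0, 0, 0, 0], [0, 0, 0, 0, 0, 0, 1, 0, 0, 0, 0, 0, 0, 0], [0, 0, 0, 0, 0, 0, 0, 1, 0, 0, 0, 0, 0, 0], [0, 0, 0, 2, 0, 0, 0, 0, 1, 0, 0, 0, 0, 0], [0, 0, 0, 0, 0, 0, 0, 0, 0, 1, 0, 0, 0, 0], [0, 0, 0, 0, 2, 0, 0, 0, 0, 0, 1, 0, 0, 0], [0, 0, 0, 0, 0, 2, 0, 0, 0, 0, 0, 1, 0, 0], [0, 0, 0, 0, 0, 0, 0, 2, 0, 0, 0, 0, 1, 0], [0, 2, 3, 0, 0, 0, 0, 0, 0, 0, 0, 0, 0,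 1]],
    [[1, 0, 3, 0, 0, 0, 0, 0, 0, 0, 0, 0, 0, 0], [0, 1, 0, 0, 0, 0, 0, 0, 0, 0, 0, 0, 0, 0], [0, 0, 1, 0, 0, 0, 0, 0, 0, 0, 0, 0, 0, 0], [0, 0, 0, 1, 0, 0, 0, 0, 0, 0, 0, 0, 0, 0], [0, 0, 0, 0, 1, 0, 0, 0, 0, 0, 0, 0, 0, 0], [0, 0, 0, 0, 0, 1, 0, 0, 0, 0, 0, 0, 0, 0], [0, 0, 0, 0, 0, 0, 1, 0, 0, 0, 0, 0, 0, 0], [0, 0, 0, 0, 0, 0, 0, 1, 0, 0, 0, 0, 0, 0], [0, 0, 0, 3, 0, 0, 0, 0, 1, 0, 0, 0, 0, 0], [0, 0, 0, 0, 0, 0, 0, 0, 0, 1, 0, 0, 0, 0], [0, 0, 0, 0, 3, 0, 0, 0, 0, 0, 1, 0, 0, 0], [0, 0, 0, 0, 0, 3, 0, 0, 0, 0, 0, 1, 0, 0], [0, 0, 0, 0, 0, 0, 0, 3, 0, 0, 0, 0, 1, 0], [0, 3, 2, 0, 0, 0, 0, 0, 0, 0, 0, 0, 0, 1]],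
    [[1, 0, 0, 0, 0, 0, 0, 0, 0, 0, 0, 0, 0, 0], [0, 1, 0, 0, 0, 0, 0, 0, 0, 0, 0, 0, 0, 0], [0, 0, 1, 0, 0, 0, 0, 0, 0, 0, 0, 0, 0, 0], [0, 0, 0, 1, 0, 0, 0, 0, 0, 0, 0, 0, 0, 0], [0, 0, 0, 0, 1, 0, 0, 0, 0, 0, 0, 0, 0, 0], [0, 0, 0, 0, 0, 1, 0, 0, 0, 0, 0, 0, 0, 0], [0, 0, 0, 0, 0, 0, 1, 0, 0, 0, 0, 0, 0, 0], [0, 0, 0, 0, 0, 0, 0, 1, 0, 0, 0, 0, 0, 0], [0, 0, 0, 0, 0, 0, 0, 0, 1, 0, 0, 0, 0, 0], [0, 0, 0, 0, 0, 0, 0, 0, 0, 1, 0, 0, 0, 0], [0, 0, 0, 0, 0, 0, 0, 0, 0, 0, 1, 0, 0, 0], [0, 0, 0, 0, 0, 0, 0, 0, 0, 0, 0, 1, 0, 0], [0, 0, 0, 0, 0, 0, 0, 0, 0, 0, 0, 0, 1, 0], [0, 0, 0, 0, 0, 0, 0, 0, 0, 0, 0, 0, 0, 1]]]),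
  ([(.b, true), (.a, true), (.b, true), (.a, true), (.b, true), (.a, true), (.b, true), (.a, true), (.b, true), (.a, true)],
   [[[1, 0, 1, 1, 0, 0, 1, 0, 0, 2, 2, 0, 0, 2], [3, 1, 2, 3, 3, 0, 2, 1, 2, 3, 1, 1, 0, 3], [3, 2, 1, 1, 0, 2, 2, 3, 1, 3, 3, 3, 0, 3], [0, 0, 2, 3, 2, 0, 2, 0, 2, 0, 0, 0, 0, 0], [1, 0, 2, 3, 3, 0, 2, 3, 1, 3, 1, 3, 0, 3], [1, 2, 3, 2, 2, 3, 1, 1, 1, 3, 3, 1, 0, 3], [3, 2, 2, 3, 2, 2, 1, 3, 3, 3, 3, 3, 0, 3], [2, 0, 2, 3, 3, 1, 3, 0, 2, 3, 1, 1, 2, 1], [1, 0, 2, 3, 2, 0, 2, 3, 0, 3, 1, 3, 0, 3], [2, 1, 1, 1, 0, 0, 1, 2, 3, 1, 1, 2, 2, 2], [0, 0, 0, 0, 1, 0, 0, 0, 1, 2, 3, 0, 0, 2], [3, 0, 1, 1, 1, 1, 0, 2, 3, 2,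 2, 3, 2, 0], [3, 1, 1, 1, 1, 0, 1, 3, 3, 3, 2, 3, 3, 1], [2, 1, 1, 1, 1, 0, 1, 2, 2, 2, 3, 2, 2, 1]],
    [[1, 2, 2, 1, 2, 0, 1, 0, 0, 2, 2, 0, 0, 2], [3, 2, 2, 1, 2, 1, 2, 1, 2, 3, 1, 1, 0, 3], [3, 1, 1, 0, 3, 1, 2, 3, 1, 3, 3, 3, 0, 3], [0, 0, 2, 1, 2, 0, 2, 0, 2, 0, 0, 0, 0, 0], [1, 3, 0, 2, 2, 3, 2, 3, 1, 3, 1, 3, 0, 3], [1, 1, 1, 3, 1, 2, 1, 1, 1, 3, 3, 1, 0, 3], [3, 1, 2, 0, 1, 1, 1, 3, 3, 3, 3, 3, 0, 3], [2, 1, 1, 1, 2, 0, 3, 2, 2, 3, 1, 1, 2, 1], [1, 3, 0, 3, 3, 3, 2, 3, 0, 3, 1, 3, 0, 3], [2, 3, 1, 2, 1, 2, 1, 0, 3, 1, 1, 2, 2, 2], [0, 2, 2, 1, 2, 0, 0, 0, 1, 2, 3, 0, 0, 2], [3, 0, 2, 2, 3, 2, 0, 0, 3, 2, 2, 3, 2, 0], [3, 0, 3,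 2, 3, 3, 1, 0, 3, 3, 2, 3, 3, 1], [2, 0, 2, 3, 2, 2, 1, 0, 2, 2, 3, 2, 2, 1]],
    [[0, 3, 3, 3, 0, 1, 1, 1, 2, 2, 2, 1, 0, 2], [2, 0, 3, 2, 0, 3, 1, 1, 2, 2, 1, 1, 0, 2], [2, 2, 1, 2, 3, 2, 1, 2, 3, 2, 2, 2, 0, 2], [0, 0, 3, 0, 3, 0, 3, 0, 3, 0, 0, 0, 0, 0], [1, 1, 1, 1, 3, 1, 1, 2, 3, 2, 1, 2, 0, 2], [1, 2, 3, 3, 0, 1, 0, 1, 3, 2, 2, 1, 0, 2], [2, 2, 3, 3, 0, 2, 3, 2, 0, 2, 2, 2, 0, 2], [2, 2, 0, 1, 0, 0, 2, 0, 1, 0, 3, 3, 3, 3], [1, 1, 3, 2, 0, 1, 3, 2, 0, 2, 1, 2, 0, 2], [1, 1, 2, 2, 1, 3, 3, 3, 2, 3, 0, 1, 3, 1], [3, 1, 2, 2, 1, 3, 3, 1, 0, 2, 1, 1, 0, 2], [0, 0, 0, 0, 0, 1, 1, 0, 0, 0, 0, 3, 3, 3], [2, 3, 1, 1, 0, 2, 2, 2, 1, 3, 3,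 1, 0, 2], [3, 3, 1, 1, 0, 2, 2, 3, 0, 3, 3, 1, 3, 1]],
    [[0, 1, 1, 1, 2, 0, 1, 1, 2, 2, 2, 1, 0, 2], [2, 2, 3, 0, 1, 2, 1, 1, 2, 2, 1, 1, 0, 2], [2, 0, 1, 1, 1, 0, 1, 2, 3, 2, 2, 2, 0, 2], [0, 0, 3, 3, 3, 0, 3, 0, 3, 0, 0, 0, 0, 0], [1, 3, 2, 2, 2, 3, 1, 2, 3, 2, 1, 2, 0, 2], [1, 0, 0, 0, 2, 0, 0, 1, 3, 2, 2, 1, 0, 2], [2, 0, 3, 3, 2, 0, 3, 2, 0, 2, 2, 2, 0, 2], [2, 1, 1, 0, 3, 3, 2, 3, 1, 0, 3, 3, 3, 3], [1, 3, 0, 2, 1, 3, 3, 2, 0, 2, 1, 2, 0, 2], [1, 0, 2, 0, 1, 2, 3, 0, 2, 3, 0, 1, 3, 1], [3, 3, 3, 2, 0, 2, 3, 1, 0, 2, 1, 1, 0, 2], [0, 3, 3, 0, 0, 2, 1, 3, 0, 0, 0, 3, 3, 3], [2, 1, 1, 0, 3, 3, 2, 2, 1, 3, 3, 1, 0, 2], [3, 2, 3, 1,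 3, 3, 2, 0, 0, 3, 3, 1, 3, 1]],
    [[2, 1, 0, 0, 3, 0, 0, 3, 1, 0, 0, 3, 0, 0], [2, 2, 3, 0, 1, 2, 1, 1, 2, 2, 1, 1, 0, 2], [2, 0, 1, 1, 1, 0, 1, 2, 3, 2, 2, 2, 0, 2], [0, 0, 3, 3, 3, 0, 3, 0, 3, 0, 0, 0, 0, 0], [1, 3, 2, 2, 2, 3, 1, 2, 3, 2, 1, 2, 0, 2], [1, 0, 0, 0, 2, 0, 0, 1, 3, 2, 2, 1, 0, 2], [2, 0, 3, 3, 2, 0, 3, 2, 0, 2, 2, 2, 0, 2], [2, 1, 1, 0, 3, 3, 2, 3, 1, 0, 3, 3, 3, 3], [1, 3, 3, 1, 2, 3, 0, 2, 3, 2, 1, 2, 0, 2], [1, 0, 2, 0, 1, 2, 3, 0, 2, 3, 0, 1, 3, 1], [2, 0, 1, 0, 2, 1, 2, 3, 3, 0, 0, 3, 0, 0], [1, 3, 3, 0, 2, 2, 1, 2, 3, 2, 2, 2, 3, 1], [0, 0, 0, 0, 0, 0, 0, 1, 0, 3, 0, 2, 3, 1], [3, 0, 1, 0, 3, 1, 2, 3, 1, 3, 0, 2,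 3, 1]],
    [[2, 1, 2, 1, 3, 3, 0, 3, 1, 0, 0, 3, 0, 0], [2, 0, 3, 2, 0, 3, 1, 1, 2, 2, 1, 1, 0, 2], [2, 2, 1, 2, 3, 2, 1, 2, 3, 2, 2, 2, 0, 2], [0, 0, 3, 0, 3, 0, 3, 0, 3, 0, 0, 0, 0, 0], [1, 1, 1, 1, 3, 1, 1, 2, 3, 2, 1, 2, 0, 2], [1, 2, 3, 3, 0, 1, 0, 1, 3, 2, 2, 1, 0, 2], [2, 2, 3, 3, 0, 2, 3, 2, 0, 2, 2, 2, 0, 2], [2, 2, 0, 1, 0, 0, 2, 0, 1, 0, 3, 3, 3, 3], [1, 1, 0, 2, 3, 1, 0, 2, 3, 2, 1, 2, 0, 2], [1, 1, 2, 2, 1, 3, 3, 3, 2, 3, 0, 1, 3, 1], [2, 0, 3, 3, 2, 2, 2, 3, 3, 0, 0, 3, 0, 0], [1, 2, 3, 3, 0, 0, 1, 1, 3, 2, 2, 2, 3, 1], [0, 1, 1, 0, 0, 2, 0, 2, 0, 3, 0, 2, 3, 1], [3, 1, 3, 1, 3, 3, 2, 0, 1, 3, 0, 2, 3, 1]],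
    [[2, 3, 3, 1, 1, 1, 3, 3, 1, 1, 1, 3, 0, 1], [3, 2, 2, 1, 2, 1, 2, 1, 2, 3, 1, 1, 0, 3], [3, 1, 1, 0, 3, 1, 2, 3, 1, 3, 3, 3, 0, 3], [0, 0, 2, 1, 2, 0, 2, 0, 2, 0, 0, 0, 0, 0], [1, 3, 0, 2, 2, 3, 2, 3, 1, 3, 1, 3, 0, 3], [1, 1, 1, 3, 1, 2, 1, 1, 1, 3, 3, 1, 0, 3], [3, 1, 2, 0, 1, 1, 1, 3, 3, 3, 3, 3, 0, 3], [2, 1, 1, 1, 2, 0, 3, 2, 2, 3, 1, 1, 2, 1], [1, 3, 2, 2, 1, 3, 0, 3, 2, 3, 1, 3, 0, 3], [2, 3, 1, 2, 1, 2, 1, 0, 3, 1, 1, 2, 2, 2], [1, 1, 2, 3, 0, 3, 2, 3, 0, 1, 2, 3, 0, 1], [2, 1, 3, 1, 2, 0, 1, 1, 2, 1, 1, 2, 2, 3], [1, 1, 2, 3, 1, 3, 2, 2, 1, 0, 3, 2, 1, 0], [2, 3, 1, 2, 3, 2, 1, 2, 1, 2, 1, 0, 2, 1]],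
    [[2, 2, 0, 0, 0, 2, 3, 3, 1, 1, 1, 3, 0, 1], [3, 1, 2, 3, 3, 0, 2, 1, 2, 3, 1, 1, 0, 3], [3, 2, 1, 1, 0, 2, 2, 3, 1, 3, 3, 3, 0, 3], [0, 0, 2, 3, 2, 0, 2, 0, 2, 0, 0, 0, 0, 0], [1, 0, 2, 3, 3, 0, 2, 3, 1, 3, 1, 3, 0, 3], [1, 2, 3, 2, 2, 3, 1, 1, 1, 3, 3, 1, 0, 3], [3, 2, 2, 3, 2, 2, 1, 3, 3, 3, 3, 3, 0, 3], [2, 0, 2, 3, 3, 1, 3, 0, 2, 3, 1, 1, 2, 1], [1, 0, 0, 0, 0, 0, 0, 3, 2, 3, 1, 3, 0, 3], [2, 1, 1, 1, 0, 0, 1, 2, 3, 1, 1, 2, 2, 2], [1, 0, 2, 3, 2, 0, 2, 3, 0, 1, 2, 3, 0, 1], [2, 2, 2, 3, 3, 2, 1, 3, 2, 1, 1, 2, 2, 3], [1, 1, 3, 2, 2, 1, 2, 3, 1, 0, 3, 2, 1, 0], [2, 2, 2, 3, 2, 2, 1, 0, 1, 2, 1, 0, 2, 1]],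
    [[1, 0, 1, 0, 0, 0, 0, 0, 0, 0, 0, 0, 0, 0], [0, 1, 0, 0, 0, 0, 0, 0, 0, 0, 0, 0, 0, 0], [0, 0, 1, 0, 0, 0, 0, 0, 0, 0, 0, 0, 0, 0], [0, 0, 0, 1, 0, 0, 0, 0, 0, 0, 0, 0, 0, 0], [0, 0, 0, 0, 1, 0, 0, 0, 0, 0, 0, 0, 0, 0], [0, 0, 0, 0, 0, 1, 0, 0, 0, 0, 0, 0, 0, 0], [0, 0, 0, 0, 0, 0, 1, 0, 0, 0, 0, 0, 0, 0], [0, 0, 0, 0, 0, 0, 0, 1, 0, 0, 0, 0, 0, 0], [0, 0, 0, 1, 0, 0, 0, 0, 1, 0, 0, 0, 0, 0], [0, 0, 0, 0, 0, 0, 0, 0, 0, 1, 0, 0, 0, 0], [0, 0, 0, 0, 1, 0, 0, 0, 0, 0, 1, 0, 0, 0], [0, 0, 0, 0, 0, 1, 0, 0, 0, 0, 0, 1, 0, 0], [0, 0, 0, 0, 0, 0, 0, 1, 0, 0, 0, 0, 1, 0], [0, 1, 1, 0, 0, 0, 0, 0, 0, 0, 0, 0, 0, 1]],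
    [[1, 0, 0, 0, 0, 0, 0, 0, 0, 0, 0, 0, 0, 0], [0, 1, 0, 0, 0, 0, 0, 0, 0, 0, 0, 0, 0, 0], [0, 0, 1, 0, 0, 0, 0, 0, 0, 0, 0, 0, 0, 0], [0, 0, 0, 1, 0, 0, 0, 0, 0, 0, 0, 0, 0, 0], [0, 0, 0, 0, 1, 0, 0, 0, 0, 0, 0, 0, 0, 0], [0, 0, 0, 0, 0, 1, 0, 0, 0, 0, 0, 0, 0, 0], [0, 0, 0, 0, 0, 0, 1, 0, 0, 0, 0, 0, 0, 0], [0, 0, 0, 0, 0, 0, 0, 1, 0, 0, 0, 0, 0, 0], [0, 0, 0, 0, 0, 0, 0, 0, 1, 0, 0, 0, 0, 0], [0, 0, 0, 0, 0, 0, 0, 0, 0, 1, 0, 0, 0, 0], [0, 0, 0, 0, 0, 0, 0, 0, 0, 0, 1, 0, 0, 0], [0, 0, 0, 0, 0, 0, 0, 0, 0, 0, 0, 1, 0, 0], [0, 0, 0, 0, 0, 0, 0, 0, 0, 0, 0, 0, 1, 0], [0, 0, 0, 0, 0, 0, 0, 0, 0, 0, 0, 0, 0, 1]]]),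
  ([(.b, true), (.b, true)],
   [[[1, 0, 1, 1, 0, 0, 1, 0, 0, 2, 2, 0, 0, 2], [3, 1, 2, 3, 3, 0, 2, 1, 2, 3, 1, 1, 0, 3], [3, 2, 1, 1, 0, 2, 2, 3, 1, 3, 3, 3, 0, 3], [0, 0, 2, 3, 2, 0, 2, 0, 2, 0, 0, 0, 0, 0], [1, 0, 2, 3, 3, 0, 2, 3, 1, 3, 1, 3, 0, 3], [1, 2, 3, 2, 2, 3, 1, 1, 1, 3, 3, 1, 0, 3], [3, 2, 2, 3, 2, 2, 1, 3, 3, 3, 3, 3, 0, 3], [2, 0, 2, 3, 3, 1, 3, 0, 2, 3, 1, 1, 2, 1], [1, 0, 2, 3, 2, 0, 2, 3, 0, 3, 1, 3, 0, 3], [2, 1, 1, 1, 0, 0, 1, 2, 3, 1, 1, 2, 2, 2], [0, 0, 0, 0, 1, 0, 0, 0, 1, 2, 3, 0, 0, 2], [3, 0, 1, 1, 1, 1, 0, 2, 3, 2, 2, 3, 2, 0], [3, 1, 1, 1, 1, 0, 1, 3, 3, 3, 2, 3, 3, 1], [2, 1, 1, 1, 1, 0, 1, 2, 2, 2, 3, 2, 2,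 1]],
    [[1, 0, 0, 0, 0, 0, 0, 0, 0, 0, 0, 0, 0, 0], [0, 1, 0, 0, 0, 0, 0, 0, 0, 0, 0, 0, 0, 0], [0, 0, 1, 0, 0, 0, 0, 0, 0, 0, 0, 0, 0, 0], [0, 0, 0, 1, 0, 0, 0, 0, 0, 0, 0, 0, 0, 0], [0, 0, 0, 0, 1, 0, 0, 0, 0, 0, 0, 0, 0, 0], [0, 0, 0, 0, 0, 1, 0, 0, 0, 0, 0, 0, 0, 0], [0, 0, 0, 0, 0, 0, 1, 0, 0, 0, 0, 0, 0, 0], [0, 0, 0, 0, 0, 0, 0, 1, 0, 0, 0, 0, 0, 0], [0, 0, 0, 0, 0, 0, 0, 0, 1, 0, 0, 0, 0, 0], [0, 0, 0, 0, 0, 0, 0, 0, 0, 1, 0, 0, 0, 0], [0, 0, 0, 0, 0, 0, 0, 0, 0, 0, 1, 0, 0, 0], [0, 0, 0, 0, 0, 0, 0, 0, 0, 0, 0, 1, 0, 0], [0, 0, 0, 0, 0, 0, 0, 0, 0, 0, 0, 0, 1, 0], [0, 0, 0, 0, 0, 0, 0, 0, 0, 0, 0, 0, 0, 1]]]),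
  ([(.b, true), (.c, true), (.b, true), (.c, true), (.b, true), (.c, true)],
   [[[1, 0, 1, 1, 0, 0, 1, 0, 0, 2, 2, 0, 0, 2], [3, 1, 2, 3, 3, 0, 2, 1, 2, 3, 1, 1, 0, 3], [3, 2, 1, 1, 0, 2, 2, 3, 1, 3, 3, 3, 0, 3], [0, 0, 2, 3, 2, 0, 2, 0, 2, 0, 0, 0, 0, 0], [1, 0, 2, 3, 3, 0, 2, 3, 1, 3, 1, 3, 0, 3], [1, 2, 3, 2, 2, 3, 1, 1, 1, 3, 3, 1, 0, 3], [3, 2, 2, 3, 2, 2, 1, 3, 3, 3, 3, 3, 0, 3], [2, 0, 2, 3, 3, 1, 3, 0, 2, 3, 1, 1, 2, 1], [1, 0, 2, 3, 2, 0, 2, 3, 0, 3, 1, 3, 0, 3], [2, 1, 1, 1, 0, 0, 1, 2, 3, 1, 1, 2, 2, 2], [0, 0, 0, 0, 1, 0, 0, 0, 1, 2, 3, 0, 0, 2], [3, 0, 1, 1, 1, 1, 0, 2, 3, 2, 2, 3, 2, 0], [3, 1, 1, 1, 1, 0, 1, 3, 3, 3, 2,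 3, 3, 1], [2, 1, 1, 1, 1, 0, 1, 2, 2, 2, 3, 2, 2, 1]],
    [[1, 2, 3, 1, 2, 1, 1, 2, 0, 0, 2, 0, 2, 2], [1, 2, 3, 1, 2, 3, 2, 1, 2, 2, 1, 1, 3, 3], [2, 1, 1, 0, 3, 3, 2, 3, 1, 0, 3, 3, 3, 3], [2, 0, 3, 1, 2, 2, 2, 2, 2, 0, 0, 0, 0, 0], [0, 3, 2, 2, 2, 1, 2, 1, 1, 2, 1, 3, 3, 3], [0, 1, 2, 3, 1, 3, 1, 1, 1, 0, 3, 1, 3, 3], [0, 1, 2, 0, 1, 0, 1, 1, 3, 0, 3, 3, 3, 3], [0, 1, 0, 1, 2, 3, 3, 1, 2, 2, 1, 1, 3, 1], [1, 3, 3, 3, 3, 1, 2, 0, 0, 2, 1, 3, 3, 3], [1, 3, 3, 2, 1, 3, 1, 0, 3, 0, 1, 2, 0, 2], [1, 2, 3, 1, 2, 0, 0, 3, 1, 1, 3, 0, 2, 2], [0, 0, 0, 2, 3, 2, 0, 3, 3, 0, 2, 3, 2, 0], [0, 0, 1, 2, 3, 2, 1, 3, 3, 1, 2, 3, 2, 1], [0, 0, 1, 3,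 2, 3, 1, 2, 2, 1, 3, 2, 3, 1]],
    [[3, 3, 2, 1, 1, 2, 3, 1, 1, 0, 1, 3, 1, 1], [1, 3, 3, 0, 0, 0, 1, 0, 0, 0, 0, 0, 0, 2], [2, 1, 1, 0, 3, 3, 2, 3, 1, 0, 3, 3, 3, 3], [0, 1, 2, 1, 1, 1, 0, 1, 3, 0, 3, 3, 3, 3], [0, 3, 2, 2, 2, 1, 2, 1, 1, 2, 1, 3, 3, 3], [0, 1, 2, 3, 1, 3, 1, 1, 1, 0, 3, 1, 3, 3], [0, 0, 0, 3, 0, 3, 0, 0, 2, 0, 0, 2, 0, 0], [0, 1, 0, 1, 2, 3, 3, 1, 2, 2, 1, 1, 3, 1], [0, 1, 2, 2, 2, 2, 0, 2, 1, 0, 1, 1, 1, 3], [1, 3, 3, 2, 1, 3, 1, 0, 3, 0, 1, 2, 0, 2], [0, 2, 2, 1, 1, 2, 3, 2, 3, 3, 3, 1, 1, 3], [0, 1, 2, 1, 2, 1, 1, 2, 2, 0, 1, 2, 1, 3], [0, 1, 1, 3, 1, 1, 2, 2, 1, 3, 3, 2, 1, 0], [3, 2, 2, 1, 2, 2, 3, 2, 0, 0, 2, 2,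 2, 1]],
    [[2, 2, 0, 0, 0, 2, 3, 3, 1, 1, 1, 3, 0, 1], [1, 1, 0, 0, 0, 1, 1, 1, 0, 0, 0, 0, 2, 2], [3, 2, 1, 1, 0, 2, 2, 3, 1, 3, 3, 3, 0, 3], [3, 2, 3, 2, 2, 2, 0, 3, 3, 3, 3, 3, 0, 3], [1, 0, 2, 3, 3, 0, 2, 3, 1, 3, 1, 3, 0, 3], [1, 2, 3, 2, 2, 3, 1, 1, 1, 3, 3, 1, 0, 3], [2, 0, 1, 1, 0, 1, 0, 2, 2, 0, 0, 2, 0, 0], [2, 0, 2, 3, 3, 1, 3, 0, 2, 3, 1, 1, 2, 1], [1, 2, 2, 3, 3, 3, 0, 0, 1, 1, 1, 1, 2, 3], [2, 1, 1, 1, 0, 0, 1, 2, 3, 1, 1, 2, 2, 2], [3, 1, 3, 2, 2, 0, 3, 1, 3, 0, 3, 1, 2, 3], [2, 2, 2, 3, 3, 2, 1, 3, 2, 1, 1, 2, 2, 3], [1, 1, 3, 2, 2, 1, 2, 3, 1, 0, 3, 2, 1, 0], [3, 3, 1, 1, 0, 3, 3, 3, 0, 2, 2, 2, 3, 1]],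
    [[1, 0, 1, 0, 0, 0, 0, 0, 0, 0, 0, 0, 0, 0], [0, 1, 0, 0, 0, 0, 0, 1, 0, 0, 0, 0, 0, 0], [0, 0, 1, 0, 0, 0, 0, 0, 0, 0, 0, 0, 0, 0], [0, 0, 1, 1, 0, 0, 0, 0, 0, 0, 0, 0, 0, 0], [0, 0, 0, 0, 1, 0, 0, 0, 0, 0, 0, 0, 0, 0], [0, 0, 0, 0, 0, 1, 0, 0, 0, 0, 0, 0, 0, 0], [0, 0, 0, 0, 0, 1, 1, 0, 0, 0, 0, 0, 0, 0], [0, 0, 0, 0, 0, 0, 0, 1, 0, 0, 0, 0, 0, 0], [1, 0, 1, 1, 0, 0, 0, 1, 1, 0, 0, 0, 0, 0], [0, 0, 0, 0, 0, 0, 0, 0, 0, 1, 0, 0, 0, 0], [0, 0, 0, 0, 1, 0, 0, 0, 0, 1, 1, 0, 0, 0], [0, 0, 0, 0, 0, 1, 0, 0, 0, 0, 0, 1, 0, 0], [0, 0, 0, 0, 0, 0, 0, 1, 0, 0, 0, 0, 1, 0], [0, 1, 1, 0, 0, 0, 0, 1, 0, 0, 0, 0, 1, 1]],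
    [[1, 0, 0, 0, 0, 0, 0, 0, 0, 0, 0, 0, 0, 0], [0, 1, 0, 0, 0, 0, 0, 0, 0, 0, 0, 0, 0, 0], [0, 0, 1, 0, 0, 0, 0, 0, 0, 0, 0, 0, 0, 0], [0, 0, 0, 1, 0, 0, 0, 0, 0, 0, 0, 0, 0, 0], [0, 0, 0, 0, 1, 0, 0, 0, 0, 0, 0, 0, 0, 0], [0, 0, 0, 0, 0, 1, 0, 0, 0, 0, 0, 0, 0, 0], [0, 0, 0, 0, 0, 0, 1, 0, 0, 0, 0, 0, 0, 0], [0, 0, 0, 0, 0, 0, 0, 1, 0, 0, 0, 0, 0, 0], [0, 0, 0, 0, 0, 0, 0, 0, 1, 0, 0, 0, 0, 0], [0, 0, 0, 0, 0, 0, 0, 0, 0, 1, 0, 0, 0, 0], [0, 0, 0, 0, 0, 0, 0, 0, 0, 0, 1, 0, 0, 0], [0, 0, 0, 0, 0, 0, 0, 0, 0, 0, 0, 1, 0, 0], [0, 0, 0, 0, 0, 0, 0, 0, 0, 0, 0, 0, 1, 0], [0, 0, 0, 0, 0, 0, 0, 0, 0, 0, 0, 0, 0, 1]]]),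
  ([(.b, true), (.d, true), (.b, true), (.d, true)],
   [[[1, 0, 1, 1, 0, 0, 1, 0, 0, 2, 2, 0, 0, 2], [3, 1, 2, 3, 3, 0, 2, 1, 2, 3, 1, 1, 0, 3], [3, 2, 1, 1, 0, 2, 2, 3, 1, 3, 3, 3, 0, 3], [0, 0, 2, 3, 2, 0, 2, 0, 2, 0, 0, 0, 0, 0], [1, 0, 2, 3, 3, 0, 2, 3, 1, 3, 1, 3, 0, 3], [1, 2, 3, 2, 2, 3, 1, 1, 1, 3, 3, 1, 0, 3], [3, 2, 2, 3, 2, 2, 1, 3, 3, 3, 3, 3, 0, 3], [2, 0, 2, 3, 3, 1, 3, 0, 2, 3, 1, 1, 2, 1], [1, 0, 2, 3, 2, 0, 2, 3, 0, 3, 1, 3, 0, 3], [2, 1, 1, 1, 0, 0, 1, 2, 3, 1, 1, 2, 2, 2], [0, 0, 0, 0, 1, 0, 0, 0, 1, 2, 3, 0, 0, 2], [3, 0, 1, 1, 1, 1, 0, 2, 3, 2, 2, 3, 2, 0], [3, 1, 1, 1, 1, 0, 1, 3, 3, 3, 2, 3, 3, 1], [2, 1, 1, 1, 1,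 0, 1, 2, 2, 2, 3, 2, 2, 1]],
    [[1, 0, 2, 3, 2, 0, 2, 0, 2, 2, 2, 0, 0, 2], [3, 1, 2, 3, 3, 0, 2, 1, 2, 3, 1, 1, 0, 3], [3, 2, 1, 1, 0, 2, 2, 3, 1, 3, 3, 3, 0, 3], [0, 0, 2, 3, 2, 0, 2, 0, 2, 0, 0, 0, 0, 0], [1, 0, 0, 0, 1, 0, 0, 3, 3, 3, 1, 3, 0, 3], [1, 2, 1, 1, 0, 3, 3, 1, 3, 3, 3, 1, 0, 3], [3, 2, 2, 3, 2, 2, 1, 3, 3, 3, 3, 3, 0, 3], [2, 2, 1, 1, 0, 2, 2, 2, 0, 3, 3, 3, 2, 1], [1, 0, 0, 0, 0, 0, 0, 3, 2, 3, 1, 3, 0, 3], [2, 2, 1, 1, 1, 2, 2, 0, 2, 1, 3, 0, 2, 2], [0, 0, 2, 3, 2, 0, 2, 0, 2, 2, 3, 0, 0, 2], [3, 2, 2, 3, 3, 2, 1, 0, 0, 2, 0, 1, 2, 0], [3, 3, 3, 2, 3, 3, 1, 0, 1, 3, 1, 0, 3, 1], [2, 2, 2, 3, 2, 2, 1, 0, 1, 2, 1, 0, 2,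 1]],
    [[1, 0, 1, 0, 0, 0, 1, 0, 0, 0, 0, 0, 0, 0], [0, 1, 0, 0, 0, 0, 0, 0, 0, 0, 0, 0, 0, 0], [0, 0, 1, 0, 0, 0, 0, 0, 0, 0, 0, 0, 0, 0], [0, 0, 0, 1, 0, 0, 0, 0, 0, 0, 0, 0, 0, 0], [0, 0, 0, 1, 1, 0, 0, 0, 0, 0, 0, 0, 0, 0], [0, 0, 0, 1, 0, 1, 0, 0, 0, 0, 0, 0, 0, 0], [0, 0, 0, 0, 0, 0, 1, 0, 0, 0, 0, 0, 0, 0], [0, 0, 0, 1, 1, 1, 0, 1, 0, 0, 0, 0, 0, 0], [0, 0, 0, 1, 0, 0, 0, 0, 1, 0, 0, 0, 0, 0], [0, 1, 0, 0, 0, 0, 1, 0, 0, 1, 0, 0, 0, 0], [0, 0, 0, 1, 1, 0, 0, 0, 1, 0, 1, 0, 0, 0], [0, 0, 0, 1, 0, 1, 0, 0, 1, 0, 0, 1, 0, 0], [0, 0, 0, 1, 1, 1, 0, 1, 1, 0, 1, 1, 1, 0], [0, 1, 1, 0, 0, 0, 0, 0, 0, 0, 0, 0, 0, 1]],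
    [[1, 0, 0, 0, 0, 0, 0, 0, 0, 0, 0, 0, 0, 0], [0, 1, 0, 0, 0, 0, 0, 0, 0, 0, 0, 0, 0, 0], [0, 0, 1, 0, 0, 0, 0, 0, 0, 0, 0, 0, 0, 0], [0, 0, 0, 1, 0, 0, 0, 0, 0, 0, 0, 0, 0, 0], [0, 0, 0, 0, 1, 0, 0, 0, 0, 0, 0, 0, 0, 0], [0, 0, 0, 0, 0, 1, 0, 0, 0, 0, 0, 0, 0, 0], [0, 0, 0, 0, 0, 0, 1, 0, 0, 0, 0, 0, 0, 0], [0, 0, 0, 0, 0, 0, 0, 1, 0, 0, 0, 0, 0, 0], [0, 0, 0, 0, 0, 0, 0, 0, 1, 0, 0, 0, 0, 0], [0, 0, 0, 0, 0, 0, 0, 0, 0, 1, 0, 0, 0, 0], [0, 0, 0, 0, 0, 0, 0, 0, 0, 0, 1, 0, 0, 0], [0, 0, 0, 0, 0, 0, 0, 0, 0, 0, 0, 1, 0, 0], [0, 0, 0, 0, 0, 0, 0, 0, 0, 0, 0, 0, 1, 0], [0, 0, 0, 0, 0, 0, 0, 0, 0, 0, 0, 0, 0, 1]]]),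
  ([(.b, true), (.e, true), (.b, true), (.e, true)],
   [[[1, 0, 1, 1, 0, 0, 1, 0, 0, 2, 2, 0, 0, 2], [3, 1, 2, 3, 3, 0, 2, 1, 2, 3, 1, 1, 0, 3], [3, 2, 1, 1, 0, 2, 2, 3, 1, 3, 3, 3, 0, 3], [0, 0, 2, 3, 2, 0, 2, 0, 2, 0, 0, 0, 0, 0], [1, 0, 2, 3, 3, 0, 2, 3, 1, 3, 1, 3, 0, 3], [1, 2, 3, 2, 2, 3, 1, 1, 1, 3, 3, 1, 0, 3], [3, 2, 2, 3, 2, 2, 1, 3, 3, 3, 3, 3, 0, 3], [2, 0, 2, 3, 3, 1, 3, 0, 2, 3, 1, 1, 2, 1], [1, 0, 2, 3, 2, 0, 2, 3, 0, 3, 1, 3, 0, 3], [2, 1, 1, 1, 0, 0, 1, 2, 3, 1, 1, 2, 2, 2], [0, 0, 0, 0, 1, 0, 0, 0, 1, 2, 3, 0, 0, 2], [3, 0, 1, 1, 1, 1, 0, 2, 3, 2, 2, 3, 2, 0], [3, 1, 1, 1, 1, 0, 1, 3, 3, 3, 2, 3, 3, 1], [2, 1, 1, 1, 1,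 0, 1, 2, 2, 2, 3, 2, 2, 1]],
    [[3, 1, 0, 0, 2, 0, 0, 1, 0, 2, 1, 3, 1, 2], [2, 3, 0, 3, 0, 2, 3, 0, 2, 0, 2, 2, 3, 3], [3, 2, 1, 1, 0, 2, 2, 3, 1, 3, 3, 3, 0, 3], [3, 1, 3, 3, 0, 1, 1, 3, 2, 2, 2, 2, 2, 0], [2, 3, 2, 2, 0, 2, 2, 2, 1, 1, 1, 3, 2, 3], [2, 1, 3, 3, 1, 1, 1, 0, 1, 1, 3, 1, 2, 3], [0, 2, 1, 1, 3, 2, 2, 1, 3, 0, 1, 1, 2, 3], [2, 0, 2, 3, 3, 1, 3, 0, 2, 3, 1, 1, 2, 1], [0, 1, 2, 0, 0, 3, 0, 2, 0, 1, 0, 2, 3, 3], [3, 0, 1, 3, 1, 3, 1, 0, 3, 2, 1, 2, 1, 2], [2, 0, 3, 2, 0, 2, 3, 3, 1, 2, 1, 2, 1, 2], [0, 2, 2, 1, 3, 0, 1, 0, 3, 3, 1, 0, 0, 0], [3, 0, 3, 2, 1, 2, 3, 0, 3, 1, 3, 2, 3, 1], [0, 0, 1, 3, 2, 3, 1, 2, 2, 1, 3, 2, 3,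 1]],
    [[1, 0, 2, 0, 0, 2, 0, 2, 0, 1, 0, 0, 0, 0], [0, 1, 3, 0, 2, 2, 0, 2, 0, 0, 0, 0, 0, 0], [0, 0, 1, 0, 0, 0, 0, 0, 0, 0, 0, 0, 0, 0], [0, 0, 2, 1, 1, 1, 0, 1, 0, 0, 0, 0, 0, 0], [0, 0, 2, 0, 1, 0, 0, 1, 0, 0, 0, 0, 0, 0], [0, 0, 2, 0, 0, 1, 0, 1, 0, 0, 0, 0, 0, 0], [0, 1, 0, 2, 2, 0, 1, 0, 0, 1, 0, 0, 0, 0], [0, 0, 0, 0, 0, 0, 0, 1, 0, 0, 0, 0, 0, 0], [2, 2, 2, 2, 1, 1, 2, 1, 1, 0, 1, 1, 1, 0], [0, 0, 3, 0, 0, 0, 0, 2, 0, 1, 0, 0, 0, 0], [2, 2, 2, 3, 1, 0, 0, 1, 0, 0, 1, 0, 1, 0], [2, 0, 2, 0, 3, 1, 0, 1, 0, 2, 0, 1, 1, 0], [0, 0, 1, 0, 0, 3, 0, 2, 0, 2, 0, 0, 1, 0], [3, 2, 2, 1, 2, 2, 3, 2, 0, 0, 2, 2, 2, 1]],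
    [[1, 0, 0, 0, 0, 0, 0, 0, 0, 0, 0, 0, 0, 0], [0, 1, 0, 0, 0, 0, 0, 0, 0, 0, 0, 0, 0, 0], [0, 0, 1, 0, 0, 0, 0, 0, 0, 0, 0, 0, 0, 0], [0, 0, 0, 1, 0, 0, 0, 0, 0, 0, 0, 0, 0, 0], [0, 0, 0, 0, 1, 0, 0, 0, 0, 0, 0, 0, 0, 0], [0, 0, 0, 0, 0, 1, 0, 0, 0, 0, 0, 0, 0, 0], [0, 0, 0, 0, 0, 0, 1, 0, 0, 0, 0, 0, 0, 0], [0, 0, 0, 0, 0, 0, 0, 1, 0, 0, 0, 0, 0, 0], [0, 0, 0, 0, 0, 0, 0, 0, 1, 0, 0, 0, 0, 0], [0, 0, 0, 0, 0, 0, 0, 0, 0, 1, 0, 0, 0, 0], [0, 0, 0, 0, 0, 0, 0, 0, 0, 0, 1, 0, 0, 0], [0, 0, 0, 0, 0, 0, 0, 0, 0, 0, 0, 1, 0, 0], [0, 0, 0, 0, 0, 0, 0, 0, 0, 0, 0, 0, 1, 0], [0, 0, 0, 0, 0, 0, 0, 0, 0, 0, 0, 0, 0, 1]]]),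
  ([(.b, true), (.f, true), (.b, true), (.f, true), (.b, true), (.f, true)],
   [[[1, 0, 1, 1, 0, 0, 1, 0, 0, 2, 2, 0, 0, 2], [3, 1, 2, 3, 3, 0, 2, 1, 2, 3, 1, 1, 0, 3], [3, 2, 1, 1, 0, 2, 2, 3, 1, 3, 3, 3, 0, 3], [0, 0, 2, 3, 2, 0, 2, 0, 2, 0, 0, 0, 0, 0], [1, 0, 2, 3, 3, 0, 2, 3, 1, 3, 1, 3, 0, 3], [1, 2, 3, 2, 2, 3, 1, 1, 1, 3, 3, 1, 0, 3], [3, 2, 2, 3, 2, 2, 1, 3, 3, 3, 3, 3, 0, 3], [2, 0, 2, 3, 3, 1, 3, 0, 2, 3, 1, 1, 2, 1], [1, 0, 2, 3, 2, 0, 2, 3, 0, 3, 1, 3, 0, 3], [2, 1, 1, 1, 0, 0, 1, 2, 3, 1, 1, 2, 2, 2], [0, 0, 0, 0, 1, 0, 0, 0, 1, 2, 3, 0, 0, 2], [3, 0, 1, 1, 1, 1, 0, 2, 3, 2, 2, 3, 2, 0], [3, 1, 1, 1, 1, 0, 1, 3, 3, 3, 2,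 3, 3, 1], [2, 1, 1, 1, 1, 0, 1, 2, 2, 2, 3, 2, 2, 1]],
    [[1, 1, 1, 1, 1, 0, 1, 0, 0, 2, 2, 0, 0, 2], [3, 3, 1, 2, 0, 3, 2, 1, 2, 3, 1, 1, 0, 3], [3, 0, 2, 2, 2, 0, 2, 3, 1, 3, 3, 3, 0, 3], [0, 0, 2, 2, 2, 0, 2, 0, 2, 0, 0, 0, 0, 0], [1, 2, 0, 0, 0, 2, 2, 3, 1, 3, 1, 3, 0, 3], [1, 0, 1, 1, 0, 0, 1, 1, 1, 3, 3, 1, 0, 3], [3, 0, 1, 1, 0, 0, 1, 3, 3, 3, 3, 3, 0, 3], [2, 3, 1, 2, 0, 2, 3, 1, 2, 3, 1, 1, 2, 1], [1, 2, 0, 3, 1, 2, 2, 3, 0, 3, 1, 3, 0, 3], [2, 0, 3, 3, 3, 1, 1, 3, 3, 1, 1, 2, 2, 2], [0, 1, 3, 3, 3, 0, 0, 0, 1, 2, 3, 0, 0, 2], [3, 0, 3, 3, 0, 3, 0, 3, 3, 2, 2, 3, 2, 0], [3, 2, 1, 3, 0, 2, 1, 1, 3, 3, 2, 3, 3, 1], [2, 2, 2, 0,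 3, 1, 1, 3, 2, 2, 3, 2, 2, 1]],
    [[3, 1, 0, 0, 0, 0, 0, 2, 3, 0, 0, 2, 0, 0], [3, 3, 1, 2, 0, 3, 2, 1, 2, 3, 1, 1, 0, 3], [3, 0, 2, 2, 2, 0, 2, 3, 1, 3, 3, 3, 0, 3], [0, 0, 2, 2, 2, 0, 2, 0, 2, 0, 0, 0, 0, 0], [1, 2, 0, 0, 0, 2, 2, 3, 1, 3, 1, 3, 0, 3], [1, 0, 1, 1, 0, 0, 1, 1, 1, 3, 3, 1, 0, 3], [3, 0, 1, 1, 0, 0, 1, 3, 3, 3, 3, 3, 0, 3], [2, 3, 1, 2, 0, 2, 3, 1, 2, 3, 1, 1, 2, 1], [1, 2, 1, 2, 0, 2, 3, 3, 1, 3, 1, 3, 0, 3], [2, 0, 3, 3, 3, 1, 1, 3, 3, 1, 1, 2, 2, 2], [3, 0, 3, 3, 3, 1, 1, 2, 2, 0, 0, 2, 0, 0], [0, 0, 0, 0, 0, 3, 3, 0, 0, 0, 0, 0, 2, 2], [2, 0, 2, 2, 0, 3, 3, 2, 2, 1, 1, 0, 2, 2], [1, 0, 2, 2, 0, 3, 3, 1, 1, 1, 1, 0,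 2, 2]],
    [[3, 1, 2, 2, 0, 1, 0, 2, 3, 0, 0, 2, 0, 0], [3, 1, 2, 3, 3, 0, 2, 1, 2, 3, 1, 1, 0, 3], [3, 2, 1, 1, 0, 2, 2, 3, 1, 3, 3, 3, 0, 3], [0, 0, 2, 3, 2, 0, 2, 0, 2, 0, 0, 0, 0, 0], [1, 0, 2, 3, 3, 0, 2, 3, 1, 3, 1, 3, 0, 3], [1, 2, 3, 2, 2, 3, 1, 1, 1, 3, 3, 1, 0, 3], [3, 2, 2, 3, 2, 2, 1, 3, 3, 3, 3, 3, 0, 3], [2, 0, 2, 3, 3, 1, 3, 0, 2, 3, 1, 1, 2, 1], [1, 0, 3, 1, 3, 0, 3, 3, 1, 3, 1, 3, 0, 3], [2, 1, 1, 1, 0, 0, 1, 2, 3, 1, 1, 2, 2, 2], [3, 0, 1, 2, 3, 0, 1, 2, 2, 0, 0, 2, 0, 0], [0, 1, 3, 0, 0, 3, 3, 1, 0, 0, 0, 0, 2, 2], [2, 1, 0, 3, 3, 3, 3, 3, 2, 1, 1, 0, 2, 2], [1, 1, 2, 1, 3, 3, 3, 0, 1, 1, 1, 0, 2, 2]],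
    [[1, 0, 3, 0, 0, 0, 0, 0, 0, 0, 0, 0, 0, 0], [0, 1, 0, 0, 0, 0, 0, 0, 0, 0, 0, 0, 0, 0], [0, 0, 1, 0, 0, 0, 0, 0, 0, 0, 0, 0, 0, 0], [0, 0, 0, 1, 0, 0, 0, 0, 0, 0, 0, 0, 0, 0], [0, 0, 0, 0, 1, 0, 0, 0, 0, 0, 0, 0, 0, 0], [0, 0, 0, 0, 0, 1, 0, 0, 0, 0, 0, 0, 0, 0], [0, 0, 0, 0, 0, 0, 1, 0, 0, 0, 0, 0, 0, 0], [0, 0, 0, 0, 0, 0, 0, 1, 0, 0, 0, 0, 0, 0], [0, 0, 0, 3, 0, 0, 0, 0, 1, 0, 0, 0, 0, 0], [0, 0, 0, 0, 0, 0, 0, 0, 0, 1, 0, 0, 0, 0], [0, 0, 0, 0, 3, 0, 0, 0, 0, 0, 1, 0, 0, 0], [0, 0, 0, 0, 0, 3, 0, 0, 0, 0, 0, 1, 0, 0], [0, 0, 0, 0, 0, 0, 0, 3, 0, 0, 0, 0, 1, 0], [0, 3, 2, 0, 0, 0, 0, 0, 0, 0, 0, 0, 0, 1]],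
    [[1, 0, 0, 0, 0, 0, 0, 0, 0, 0, 0, 0, 0, 0], [0, 1, 0, 0, 0, 0, 0, 0, 0, 0, 0, 0, 0, 0], [0, 0, 1, 0, 0, 0, 0, 0, 0, 0, 0, 0, 0, 0], [0, 0, 0, 1, 0, 0, 0, 0, 0, 0, 0, 0, 0, 0], [0, 0, 0, 0, 1, 0, 0, 0, 0, 0, 0, 0, 0, 0], [0, 0, 0, 0, 0, 1, 0, 0, 0, 0, 0, 0, 0, 0], [0, 0, 0, 0, 0, 0, 1, 0, 0, 0, 0, 0, 0, 0], [0, 0, 0, 0, 0, 0, 0, 1, 0, 0, 0, 0, 0, 0], [0, 0, 0, 0, 0, 0, 0, 0, 1, 0, 0, 0, 0, 0], [0, 0, 0, 0, 0, 0, 0, 0, 0, 1, 0, 0, 0, 0], [0, 0, 0, 0, 0, 0, 0, 0, 0, 0, 1, 0, 0, 0], [0, 0, 0, 0, 0, 0, 0, 0, 0, 0, 0, 1, 0, 0], [0, 0, 0, 0, 0, 0, 0, 0, 0, 0, 0, 0, 1, 0], [0, 0, 0, 0, 0, 0, 0, 0, 0, 0, 0, 0, 0, 1]]]),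
  ([(.c, true), (.a, true), (.c, true), (.a, true)],
   [[[1, 0, 1, 0, 0, 0, 0, 0, 0, 0, 0, 0, 0, 0], [0, 1, 0, 0, 0, 0, 0, 1, 0, 0, 0, 0, 0, 0], [0, 0, 1, 0, 0, 0, 0, 0, 0, 0, 0, 0, 0, 0], [0, 0, 1, 1, 0, 0, 0, 0, 0, 0, 0, 0, 0, 0], [0, 0, 0, 0, 1, 0, 0, 0, 0, 0, 0, 0, 0, 0], [0, 0, 0, 0, 0, 1, 0, 0, 0, 0, 0, 0, 0, 0], [0, 0, 0, 0, 0, 1, 1, 0, 0, 0, 0, 0, 0, 0], [0, 0, 0, 0, 0, 0, 0, 1, 0, 0, 0, 0, 0, 0], [1, 0, 1, 1, 0, 0, 0, 1, 1, 0, 0, 0, 0, 0], [0, 0, 0, 0, 0, 0, 0, 0, 0, 1, 0, 0, 0, 0], [0, 0, 0, 0, 1, 0, 0, 0, 0, 1, 1, 0, 0, 0], [0, 0, 0, 0, 0, 1, 0, 0, 0, 0, 0, 1, 0, 0], [0, 0, 0, 0, 0, 0, 0, 1, 0, 0, 0, 0, 1, 0], [0, 1, 1, 0, 0,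 0, 0, 1, 0, 0, 0, 0, 1, 1]],
    [[1, 0, 0, 0, 0, 0, 0, 0, 0, 0, 0, 0, 0, 0], [0, 1, 0, 0, 0, 0, 0, 1, 0, 0, 0, 0, 0, 0], [0, 0, 1, 0, 0, 0, 0, 0, 0, 0, 0, 0, 0, 0], [0, 0, 1, 1, 0, 0, 0, 0, 0, 0, 0, 0, 0, 0], [0, 0, 0, 0, 1, 0, 0, 0, 0, 0, 0, 0, 0, 0], [0, 0, 0, 0, 0, 1, 0, 0, 0, 0, 0, 0, 0, 0], [0, 0, 0, 0, 0, 1, 1, 0, 0, 0, 0, 0, 0, 0], [0, 0, 0, 0, 0, 0, 0, 1, 0, 0, 0, 0, 0, 0], [1, 0, 0, 0, 0, 0, 0, 1, 1, 0, 0, 0, 0, 0], [0, 0, 0, 0, 0, 0, 0, 0, 0, 1, 0, 0, 0, 0], [0, 0, 0, 0, 0, 0, 0, 0, 0, 1, 1, 0, 0, 0], [0, 0, 0, 0, 0, 0, 0, 0, 0, 0, 0, 1, 0, 0], [0, 0, 0, 0, 0, 0, 0, 0, 0, 0, 0, 0, 1, 0], [0, 0, 0, 0, 0, 0, 0, 0, 0, 0, 0, 0, 1,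 1]],
    [[1, 0, 1, 0, 0, 0, 0, 0, 0, 0, 0, 0, 0, 0], [0, 1, 0, 0, 0, 0, 0, 0, 0, 0, 0, 0, 0, 0], [0, 0, 1, 0, 0, 0, 0, 0, 0, 0, 0, 0, 0, 0], [0, 0, 0, 1, 0, 0, 0, 0, 0, 0, 0, 0, 0, 0], [0, 0, 0, 0, 1, 0, 0, 0, 0, 0, 0, 0, 0, 0], [0, 0, 0, 0, 0, 1, 0, 0, 0, 0, 0, 0, 0, 0], [0, 0, 0, 0, 0, 0, 1, 0, 0, 0, 0, 0, 0, 0], [0, 0, 0, 0, 0, 0, 0, 1, 0, 0, 0, 0, 0, 0], [0, 0, 0, 1, 0, 0, 0, 0, 1, 0, 0, 0, 0, 0], [0, 0, 0, 0, 0, 0, 0, 0, 0, 1, 0, 0, 0, 0], [0, 0, 0, 0, 1, 0, 0, 0, 0, 0, 1, 0, 0, 0], [0, 0, 0, 0, 0, 1, 0, 0, 0, 0, 0, 1, 0, 0], [0, 0, 0, 0, 0, 0, 0, 1, 0, 0, 0, 0, 1, 0], [0, 1, 1, 0, 0, 0, 0, 0, 0, 0, 0, 0, 0, 1]],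
    [[1, 0, 0, 0, 0, 0, 0, 0, 0, 0, 0, 0, 0, 0], [0, 1, 0, 0, 0, 0, 0, 0, 0, 0, 0, 0, 0, 0], [0, 0, 1, 0, 0, 0, 0, 0, 0, 0, 0, 0, 0, 0], [0, 0, 0, 1, 0, 0, 0, 0, 0, 0, 0, 0, 0, 0], [0, 0, 0, 0, 1, 0, 0, 0, 0, 0, 0, 0, 0, 0], [0, 0, 0, 0, 0, 1, 0, 0, 0, 0, 0, 0, 0, 0], [0, 0, 0, 0, 0, 0, 1, 0, 0, 0, 0, 0, 0, 0], [0, 0, 0, 0, 0, 0, 0, 1, 0, 0, 0, 0, 0, 0], [0, 0, 0, 0, 0, 0, 0, 0, 1, 0, 0, 0, 0, 0], [0, 0, 0, 0, 0, 0, 0, 0, 0, 1, 0, 0, 0, 0], [0, 0, 0, 0, 0, 0, 0, 0, 0, 0, 1, 0, 0, 0], [0, 0, 0, 0, 0, 0, 0, 0, 0, 0, 0, 1, 0, 0], [0, 0, 0, 0, 0, 0, 0, 0, 0, 0, 0, 0, 1, 0], [0, 0, 0, 0, 0, 0, 0, 0, 0, 0, 0, 0, 0, 1]]]),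
  ([(.c, true), (.b, true), (.c, true), (.b, true), (.c, true), (.b, true)],
   [[[1, 0, 1, 0, 0, 0, 0, 0, 0, 0, 0, 0, 0, 0], [0, 1, 0, 0, 0, 0, 0, 1, 0, 0, 0, 0, 0, 0], [0, 0, 1, 0, 0, 0, 0, 0, 0, 0, 0, 0, 0, 0], [0, 0, 1, 1, 0, 0, 0, 0, 0, 0, 0, 0, 0, 0], [0, 0, 0, 0, 1, 0, 0, 0, 0, 0, 0, 0, 0, 0], [0, 0, 0, 0, 0, 1, 0, 0, 0, 0, 0, 0, 0, 0], [0, 0, 0, 0, 0, 1, 1, 0, 0, 0, 0, 0, 0, 0], [0, 0, 0, 0, 0, 0, 0, 1, 0, 0, 0, 0, 0, 0], [1, 0, 1, 1, 0, 0, 0, 1, 1, 0, 0, 0, 0, 0], [0, 0, 0, 0, 0, 0, 0, 0, 0, 1, 0, 0, 0, 0], [0, 0, 0, 0, 1, 0, 0, 0, 0, 1, 1, 0, 0, 0], [0, 0, 0, 0, 0, 1, 0, 0, 0, 0, 0, 1, 0, 0], [0, 0, 0, 0, 0, 0, 0, 1, 0, 0, 0,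 0, 1, 0], [0, 1, 1, 0, 0, 0, 0, 1, 0, 0, 0, 0, 1, 1]],
    [[2, 2, 0, 0, 0, 2, 3, 3, 1, 1, 1, 3, 0, 1], [1, 1, 0, 0, 0, 1, 1, 1, 0, 0, 0, 0, 2, 2], [3, 2, 1, 1, 0, 2, 2, 3, 1, 3, 3, 3, 0, 3], [3, 2, 3, 2, 2, 2, 0, 3, 3, 3, 3, 3, 0, 3], [1, 0, 2, 3, 3, 0, 2, 3, 1, 3, 1, 3, 0, 3], [1, 2, 3, 2, 2, 3, 1, 1, 1, 3, 3, 1, 0, 3], [2, 0, 1, 1, 0, 1, 0, 2, 2, 0, 0, 2, 0, 0], [2, 0, 2, 3, 3, 1, 3, 0, 2, 3, 1, 1, 2, 1], [1, 2, 2, 3, 3, 3, 0, 0, 1, 1, 1, 1, 2, 3], [2, 1, 1, 1, 0, 0, 1, 2, 3, 1, 1, 2, 2, 2], [3, 1, 3, 2, 2, 0, 3, 1, 3, 0, 3, 1, 2, 3], [2, 2, 2, 3, 3, 2, 1, 3, 2, 1, 1, 2, 2, 3], [1, 1, 3, 2, 2, 1, 2, 3, 1, 0, 3, 2, 1, 0], [3, 3, 1, 1,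 0, 3, 3, 3, 0, 2, 2, 2, 3, 1]],
    [[3, 3, 2, 1, 1, 2, 3, 1, 1, 0, 1, 3, 1, 1], [1, 3, 3, 0, 0, 0, 1, 0, 0, 0, 0, 0, 0, 2], [2, 1, 1, 0, 3, 3, 2, 3, 1, 0, 3, 3, 3, 3], [0, 1, 2, 1, 1, 1, 0, 1, 3, 0, 3, 3, 3, 3], [0, 3, 2, 2, 2, 1, 2, 1, 1, 2, 1, 3, 3, 3], [0, 1, 2, 3, 1, 3, 1, 1, 1, 0, 3, 1, 3, 3], [0, 0, 0, 3, 0, 3, 0, 0, 2, 0, 0, 2, 0, 0], [0, 1, 0, 1, 2, 3, 3, 1, 2, 2, 1, 1, 3, 1], [0, 1, 2, 2, 2, 2, 0, 2, 1, 0, 1, 1, 1, 3], [1, 3, 3, 2, 1, 3, 1, 0, 3, 0, 1, 2, 0, 2], [0, 2, 2, 1, 1, 2, 3, 2, 3, 3, 3, 1, 1, 3], [0, 1, 2, 1, 2, 1, 1, 2, 2, 0, 1, 2, 1, 3], [0, 1, 1, 3, 1, 1, 2, 2, 1, 3, 3, 2, 1, 0], [3, 2, 2, 1, 2, 2, 3, 2, 0, 0, 2, 2,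 2, 1]],
    [[1, 2, 3, 1, 2, 1, 1, 2, 0, 0, 2, 0, 2, 2], [1, 2, 3, 1, 2, 3, 2, 1, 2, 2, 1, 1, 3, 3], [2, 1, 1, 0, 3, 3, 2, 3, 1, 0, 3, 3, 3, 3], [2, 0, 3, 1, 2, 2, 2, 2, 2, 0, 0, 0, 0, 0], [0, 3, 2, 2, 2, 1, 2, 1, 1, 2, 1, 3, 3, 3], [0, 1, 2, 3, 1, 3, 1, 1, 1, 0, 3, 1, 3, 3], [0, 1, 2, 0, 1, 0, 1, 1, 3, 0, 3, 3, 3, 3], [0, 1, 0, 1, 2, 3, 3, 1, 2, 2, 1, 1, 3, 1], [1, 3, 3, 3, 3, 1, 2, 0, 0, 2, 1, 3, 3, 3], [1, 3, 3, 2, 1, 3, 1, 0, 3, 0, 1, 2, 0, 2], [1, 2, 3, 1, 2, 0, 0, 3, 1, 1, 3, 0, 2, 2], [0, 0, 0, 2, 3, 2, 0, 3, 3, 0, 2, 3, 2, 0], [0, 0, 1, 2, 3, 2, 1, 3, 3, 1, 2, 3, 2, 1], [0, 0, 1, 3, 2, 3, 1, 2, 2, 1, 3, 2, 3, 1]],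
    [[1, 0, 1, 1, 0, 0, 1, 0, 0, 2, 2, 0, 0, 2], [3, 1, 2, 3, 3, 0, 2, 1, 2, 3, 1, 1, 0, 3], [3, 2, 1, 1, 0, 2, 2, 3, 1, 3, 3, 3, 0, 3], [0, 0, 2, 3, 2, 0, 2, 0, 2, 0, 0, 0, 0, 0], [1, 0, 2, 3, 3, 0, 2, 3, 1, 3, 1, 3, 0, 3], [1, 2, 3, 2, 2, 3, 1, 1, 1, 3, 3, 1, 0, 3], [3, 2, 2, 3, 2, 2, 1, 3, 3, 3, 3, 3, 0, 3], [2, 0, 2, 3, 3, 1, 3, 0, 2, 3, 1, 1, 2, 1], [1, 0, 2, 3, 2, 0, 2, 3, 0, 3, 1, 3, 0, 3], [2, 1, 1, 1, 0, 0, 1, 2, 3, 1, 1, 2, 2, 2], [0, 0, 0, 0, 1, 0, 0, 0, 1, 2, 3, 0, 0, 2], [3, 0, 1, 1, 1, 1, 0, 2, 3, 2, 2, 3, 2, 0], [3, 1, 1, 1, 1, 0, 1, 3, 3, 3, 2, 3, 3, 1], [2, 1, 1, 1, 1, 0, 1, 2, 2, 2, 3, 2, 2, 1]],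
    [[1, 0, 0, 0, 0, 0, 0, 0, 0, 0, 0, 0, 0, 0], [0, 1, 0, 0, 0, 0, 0, 0, 0, 0, 0, 0, 0, 0], [0, 0, 1, 0, 0, 0, 0, 0, 0, 0, 0, 0, 0, 0], [0, 0, 0, 1, 0, 0, 0, 0, 0, 0, 0, 0, 0, 0], [0, 0, 0, 0, 1, 0, 0, 0, 0, 0, 0, 0, 0, 0], [0, 0, 0, 0, 0, 1, 0, 0, 0, 0, 0, 0, 0, 0], [0, 0, 0, 0, 0, 0, 1, 0, 0, 0, 0, 0, 0, 0], [0, 0, 0, 0, 0, 0, 0, 1, 0, 0, 0, 0, 0, 0], [0, 0, 0, 0, 0, 0, 0, 0, 1, 0, 0, 0, 0, 0], [0, 0, 0, 0, 0, 0, 0, 0, 0, 1, 0, 0, 0, 0], [0, 0, 0, 0, 0, 0, 0, 0, 0, 0, 1, 0, 0, 0], [0, 0, 0, 0, 0, 0, 0, 0, 0, 0, 0, 1, 0, 0], [0, 0, 0, 0, 0, 0, 0, 0, 0, 0, 0, 0, 1, 0], [0, 0, 0, 0, 0, 0, 0, 0, 0, 0, 0, 0, 0, 1]]]),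
  ([(.c, true), (.c, true)],
   [[[1, 0, 1, 0, 0, 0, 0, 0, 0, 0, 0, 0, 0, 0], [0, 1, 0, 0, 0, 0, 0, 1, 0, 0, 0, 0, 0, 0], [0, 0, 1, 0, 0, 0, 0, 0, 0, 0, 0, 0, 0, 0], [0, 0, 1, 1, 0, 0, 0, 0, 0, 0, 0, 0, 0, 0], [0, 0, 0, 0, 1, 0, 0, 0, 0, 0, 0, 0, 0, 0], [0, 0, 0, 0, 0, 1, 0, 0, 0, 0, 0, 0, 0, 0], [0, 0, 0, 0, 0, 1, 1, 0, 0, 0, 0, 0, 0, 0], [0, 0, 0, 0, 0, 0, 0, 1, 0, 0, 0, 0, 0, 0], [1, 0, 1, 1, 0, 0, 0, 1, 1, 0, 0, 0, 0, 0], [0, 0, 0, 0, 0, 0, 0, 0, 0, 1, 0, 0, 0, 0], [0, 0, 0, 0, 1, 0, 0, 0, 0, 1, 1, 0, 0, 0], [0, 0, 0, 0, 0, 1, 0, 0, 0, 0, 0, 1, 0, 0], [0, 0, 0, 0, 0, 0, 0, 1, 0, 0, 0, 0, 1, 0], [0, 1, 1, 0, 0, 0, 0, 1, 0, 0, 0, 0, 1,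 1]],
    [[1, 0, 0, 0, 0, 0, 0, 0, 0, 0, 0, 0, 0, 0], [0, 1, 0, 0, 0, 0, 0, 0, 0, 0, 0, 0, 0, 0], [0, 0, 1, 0, 0, 0, 0, 0, 0, 0, 0, 0, 0, 0], [0, 0, 0, 1, 0, 0, 0, 0, 0, 0, 0, 0, 0, 0], [0, 0, 0, 0, 1, 0, 0, 0, 0, 0, 0, 0, 0, 0], [0, 0, 0, 0, 0, 1, 0, 0, 0, 0, 0, 0, 0, 0], [0, 0, 0, 0, 0, 0, 1, 0, 0, 0, 0, 0, 0, 0], [0, 0, 0, 0, 0, 0, 0, 1, 0, 0, 0, 0, 0, 0], [0, 0, 0, 0, 0, 0, 0, 0, 1, 0, 0, 0, 0, 0], [0, 0, 0, 0, 0, 0, 0, 0, 0, 1, 0, 0, 0, 0], [0, 0, 0, 0, 0, 0, 0, 0, 0, 0, 1, 0, 0, 0], [0, 0, 0, 0, 0, 0, 0, 0, 0, 0, 0, 1, 0, 0], [0, 0, 0, 0, 0, 0, 0, 0, 0, 0, 0, 0, 1, 0], [0, 0, 0, 0, 0, 0, 0, 0, 0, 0, 0, 0, 0, 1]]]),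
  ([(.c, true), (.d, true), (.c, true), (.d, true), (.c, true), (.d, true), (.c, true), (.d, true), (.c, true), (.d, true), (.c, true), (.d, true), (.c, true), (.d, true), (.c, true), (.d, true)],
   [[[1, 0, 1, 0, 0, 0, 0, 0, 0, 0, 0, 0, 0, 0], [0, 1, 0, 0, 0, 0, 0, 1, 0, 0, 0, 0, 0, 0], [0, 0, 1, 0, 0, 0, 0, 0, 0, 0, 0, 0, 0, 0], [0, 0, 1, 1, 0, 0, 0, 0, 0, 0, 0, 0, 0, 0], [0, 0, 0, 0, 1, 0, 0, 0, 0, 0, 0, 0, 0, 0], [0, 0, 0, 0, 0, 1, 0, 0, 0, 0, 0, 0, 0, 0], [0, 0, 0, 0, 0, 1, 1, 0, 0, 0, 0, 0, 0, 0], [0, 0, 0, 0, 0, 0, 0, 1, 0, 0, 0, 0, 0, 0], [1, 0, 1, 1, 0, 0, 0, 1, 1, 0, 0, 0, 0, 0], [0, 0, 0, 0, 0, 0, 0, 0, 0, 1, 0, 0, 0, 0], [0,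 0, 0, 0, 1, 0, 0, 0, 0, 1, 1, 0, 0, 0], [0, 0, 0, 0, 0, 1, 0, 0, 0, 0, 0, 1, 0, 0], [0, 0, 0, 0, 0, 0, 0, 1, 0, 0, 0, 0, 1, 0], [0, 1, 1, 0, 0, 0, 0, 1, 0, 0, 0, 0, 1, 1]],
    [[1, 0, 0, 0, 0, 0, 1, 0, 0, 0, 0, 0, 0, 0], [0, 1, 0, 1, 1, 1, 0, 1, 0, 0, 0, 0, 0, 0], [0, 0, 1, 0, 0, 0, 0, 0, 0, 0, 0, 0, 0, 0], [0, 0, 1, 1, 0, 0, 0, 0, 0, 0, 0, 0, 0, 0], [0, 0, 0, 1, 1, 0, 0, 0, 0, 0, 0, 0, 0, 0], [0, 0, 0, 1, 0, 1, 0, 0, 0, 0, 0, 0, 0, 0], [0, 0, 0, 1, 0, 1, 1, 0, 0, 0, 0, 0, 0, 0], [0, 0, 0, 1, 1, 1, 0, 1, 0, 0, 0, 0, 0, 0], [1, 0, 0, 1, 1, 1, 1, 1, 1, 0, 0, 0, 0, 0], [0, 1, 0, 0, 0, 0, 1, 0, 0, 1, 0, 0, 0, 0], [0, 1, 0, 0, 0, 0, 1, 0, 1,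 1, 1, 0, 0, 0], [0, 0, 0, 0, 0, 0, 0, 0, 1, 0, 0, 1, 0, 0], [0, 0, 0, 0, 0, 0, 0, 0, 1, 0, 1, 1, 1, 0], [0, 0, 0, 0, 0, 0, 0, 0, 1, 0, 1, 1, 1, 1]],
    [[1, 0, 1, 0, 0, 1, 1, 0, 0, 0, 0, 0, 0, 0], [0, 1, 1, 1, 1, 1, 0, 0, 0, 0, 0, 0, 0, 0], [0, 0, 1, 0, 0, 0, 0, 0, 0, 0, 0, 0, 0, 0], [0, 0, 0, 1, 0, 0, 0, 0, 0, 0, 0, 0, 0, 0], [0, 0, 1, 1, 1, 0, 0, 0, 0, 0, 0, 0, 0, 0], [0, 0, 1, 1, 0, 1, 0, 0, 0, 0, 0, 0, 0, 0], [0, 0, 1, 1, 0, 0, 1, 0, 0, 0, 0, 0, 0, 0], [0, 0, 1, 1, 1, 1, 0, 1, 0, 0, 0, 0, 0, 0], [0, 0, 1, 0, 1, 0, 1, 0, 1, 0, 0, 0, 0, 0], [0, 1, 0, 0, 0, 1, 1, 1, 0, 1, 0, 0, 0, 0], [1, 1, 1, 1, 1, 1, 1, 0, 1, 0, 1, 0, 0, 0], [1, 0,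 1, 1, 0, 1, 0, 1, 1, 0, 0, 1, 0, 0], [1, 0, 1, 1, 1, 1, 0, 0, 1, 1, 1, 1, 1, 0], [1, 1, 0, 1, 1, 1, 0, 1, 1, 1, 1, 1, 0, 1]],
    [[1, 0, 0, 1, 0, 1, 0, 0, 0, 0, 0, 0, 0, 0], [0, 1, 1, 1, 1, 1, 0, 0, 0, 0, 0, 0, 0, 0], [0, 0, 1, 0, 0, 0, 0, 0, 0, 0, 0, 0, 0, 0], [0, 0, 0, 1, 0, 0, 0, 0, 0, 0, 0, 0, 0, 0], [0, 0, 1, 0, 1, 0, 0, 0, 0, 0, 0, 0, 0, 0], [0, 0, 1, 0, 0, 1, 0, 0, 0, 0, 0, 0, 0, 0], [0, 0, 1, 1, 0, 0, 1, 0, 0, 0, 0, 0, 0, 0], [0, 0, 1, 0, 0, 0, 0, 1, 0, 0, 0, 0, 0, 0], [0, 0, 1, 0, 1, 0, 1, 0, 1, 0, 0, 0, 0, 0], [0, 0, 0, 0, 1, 0, 0, 1, 0, 1, 0, 0, 0, 0], [1, 1, 0, 1, 0, 1, 0, 0, 0, 0, 1, 0, 0, 0], [1, 0, 0, 1, 1, 1, 1, 1, 0, 0,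 0, 1, 0, 0], [1, 1, 0, 1, 1, 1, 0, 1, 0, 1, 0, 0, 1, 0], [1, 1, 0, 1, 1, 1, 0, 1, 1, 1, 1, 1, 0, 1]],
    [[1, 0, 0, 1, 0, 1, 0, 0, 0, 0, 0, 0, 0, 0], [0, 1, 0, 1, 1, 1, 0, 1, 0, 0, 0, 0, 0, 0], [0, 0, 1, 0, 0, 0, 0, 0, 0, 0, 0, 0, 0, 0], [0, 0, 1, 1, 0, 0, 0, 0, 0, 0, 0, 0, 0, 0], [0, 0, 1, 0, 1, 0, 0, 0, 0, 0, 0, 0, 0, 0], [0, 0, 1, 0, 0, 1, 0, 0, 0, 0, 0, 0, 0, 0], [0, 0, 0, 1, 0, 1, 1, 0, 0, 0, 0, 0, 0, 0], [0, 0, 1, 0, 0, 0, 0, 1, 0, 0, 0, 0, 0, 0], [1, 0, 0, 1, 1, 1, 1, 1, 1, 0, 0, 0, 0, 0], [0, 0, 0, 0, 1, 0, 0, 1, 0, 1, 0, 0, 0, 0], [1, 1, 0, 1, 1, 1, 0, 1, 0, 1, 1, 0, 0, 0], [1, 0, 0, 1, 1, 1, 1, 1, 0, 0, 0, 1, 0, 0], [1, 1, 0,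 1, 1, 1, 0, 1, 0, 1, 0, 0, 1, 0], [0, 0, 0, 0, 0, 0, 0, 0, 1, 0, 1, 1, 1, 1]],
    [[1, 0, 1, 0, 0, 1, 1, 0, 0, 0, 0, 0, 0, 0], [0, 1, 0, 0, 0, 0, 0, 1, 0, 0, 0, 0, 0, 0], [0, 0, 1, 0, 0, 0, 0, 0, 0, 0, 0, 0, 0, 0], [0, 0, 1, 1, 0, 0, 0, 0, 0, 0, 0, 0, 0, 0], [0, 0, 1, 1, 1, 0, 0, 0, 0, 0, 0, 0, 0, 0], [0, 0, 1, 1, 0, 1, 0, 0, 0, 0, 0, 0, 0, 0], [0, 0, 0, 0, 0, 1, 1, 0, 0, 0, 0, 0, 0, 0], [0, 0, 1, 1, 1, 1, 0, 1, 0, 0, 0, 0, 0, 0], [1, 0, 1, 1, 0, 0, 0, 1, 1, 0, 0, 0, 0, 0], [0, 1, 0, 0, 0, 1, 1, 1, 0, 1, 0, 0, 0, 0], [1, 0, 1, 1, 1, 0, 0, 1, 1, 1, 1, 0, 0, 0], [1, 0, 1, 1, 0, 1, 0, 1, 1, 0, 0, 1, 0, 0], [1, 0, 1, 1, 1, 1, 0, 0, 1, 1, 1,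 1, 1, 0], [0, 1, 1, 0, 0, 0, 0, 1, 0, 0, 0, 0, 1, 1]],
    [[1, 0, 0, 0, 0, 0, 1, 0, 0, 0, 0, 0, 0, 0], [0, 1, 0, 0, 0, 0, 0, 0, 0, 0, 0, 0, 0, 0], [0, 0, 1, 0, 0, 0, 0, 0, 0, 0, 0, 0, 0, 0], [0, 0, 0, 1, 0, 0, 0, 0, 0, 0, 0, 0, 0, 0], [0, 0, 0, 1, 1, 0, 0, 0, 0, 0, 0, 0, 0, 0], [0, 0, 0, 1, 0, 1, 0, 0, 0, 0, 0, 0, 0, 0], [0, 0, 0, 0, 0, 0, 1, 0, 0, 0, 0, 0, 0, 0], [0, 0, 0, 1, 1, 1, 0, 1, 0, 0, 0, 0, 0, 0], [0, 0, 0, 0, 0, 0, 0, 0, 1, 0, 0, 0, 0, 0], [0, 1, 0, 0, 0, 0, 1, 0, 0, 1, 0, 0, 0, 0], [0, 0, 0, 0, 0, 0, 0, 0, 1, 0, 1, 0, 0, 0], [0, 0, 0, 0, 0, 0, 0, 0, 1, 0, 0, 1, 0, 0], [0, 0, 0, 0, 0, 0, 0, 0, 1, 0, 1, 1, 1, 0], [0, 0, 0, 0,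 0, 0, 0, 0, 0, 0, 0, 0, 0, 1]],
    [[1, 0, 1, 0, 0, 0, 0, 0, 0, 0, 0, 0, 0, 0], [0, 1, 0, 0, 0, 0, 0, 0, 0, 0, 0, 0, 0, 0], [0, 0, 1, 0, 0, 0, 0, 0, 0, 0, 0, 0, 0, 0], [0, 0, 0, 1, 0, 0, 0, 0, 0, 0, 0, 0, 0, 0], [0, 0, 0, 0, 1, 0, 0, 0, 0, 0, 0, 0, 0, 0], [0, 0, 0, 0, 0, 1, 0, 0, 0, 0, 0, 0, 0, 0], [0, 0, 0, 0, 0, 0, 1, 0, 0, 0, 0, 0, 0, 0], [0, 0, 0, 0, 0, 0, 0, 1, 0, 0, 0, 0, 0, 0], [0, 0, 0, 1, 0, 0, 0, 0, 1, 0, 0, 0, 0, 0], [0, 0, 0, 0, 0, 0, 0, 0, 0, 1, 0, 0, 0, 0], [0, 0, 0, 0, 1, 0, 0, 0, 0, 0, 1, 0, 0, 0], [0, 0, 0, 0, 0, 1, 0, 0, 0, 0, 0, 1, 0, 0], [0, 0, 0, 0, 0, 0, 0, 1, 0, 0, 0, 0, 1, 0], [0, 1, 1, 0, 0, 0, 0, 0, 0, 0, 0, 0,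 0, 1]],
    [[1, 0, 0, 0, 0, 0, 0, 0, 0, 0, 0, 0, 0, 0], [0, 1, 0, 0, 0, 0, 0, 1, 0, 0, 0, 0, 0, 0], [0, 0, 1, 0, 0, 0, 0, 0, 0, 0, 0, 0, 0, 0], [0, 0, 1, 1, 0, 0, 0, 0, 0, 0, 0, 0, 0, 0], [0, 0, 0, 0, 1, 0, 0, 0, 0, 0, 0, 0, 0, 0], [0, 0, 0, 0, 0, 1, 0, 0, 0, 0, 0, 0, 0, 0], [0, 0, 0, 0, 0, 1, 1, 0, 0, 0, 0, 0, 0, 0], [0, 0, 0, 0, 0, 0, 0, 1, 0, 0, 0, 0, 0, 0], [1, 0, 0, 0, 0, 0, 0, 1, 1, 0, 0, 0, 0, 0], [0, 0, 0, 0, 0, 0, 0, 0, 0, 1, 0, 0, 0, 0], [0, 0, 0, 0, 0, 0, 0, 0, 0, 1, 1, 0, 0, 0], [0, 0, 0, 0, 0, 0, 0, 0, 0, 0, 0, 1, 0, 0], [0, 0, 0, 0, 0, 0, 0, 0, 0, 0, 0, 0, 1, 0], [0, 0, 0, 0, 0, 0, 0, 0, 0, 0, 0, 0, 1, 1]],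
    [[1, 0, 1, 0, 0, 0, 1, 0, 0, 0, 0, 0, 0, 0], [0, 1, 0, 1, 1, 1, 0, 1, 0, 0, 0, 0, 0, 0], [0, 0, 1, 0, 0, 0, 0, 0, 0, 0, 0, 0, 0, 0], [0, 0, 1, 1, 0, 0, 0, 0, 0, 0, 0, 0, 0, 0], [0, 0, 0, 1, 1, 0, 0, 0, 0, 0, 0, 0, 0, 0], [0, 0, 0, 1, 0, 1, 0, 0, 0, 0, 0, 0, 0, 0], [0, 0, 0, 1, 0, 1, 1, 0, 0, 0, 0, 0, 0, 0], [0, 0, 0, 1, 1, 1, 0, 1, 0, 0, 0, 0, 0, 0], [1, 0, 1, 0, 1, 1, 1, 1, 1, 0, 0, 0, 0, 0], [0, 1, 0, 0, 0, 0, 1, 0, 0, 1, 0, 0, 0, 0], [0, 1, 0, 1, 1, 0, 1, 0, 1, 1, 1, 0, 0, 0], [0, 0, 0, 1, 0, 1, 0, 0, 1, 0, 0, 1, 0, 0], [0, 0, 0, 1, 1, 1, 0, 1, 1, 0, 1, 1, 1, 0], [0, 1, 1, 1, 1, 1, 0, 1, 1, 0, 1, 1, 1, 1]],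
    [[1, 0, 0, 0, 0, 1, 1, 0, 0, 0, 0, 0, 0, 0], [0, 1, 1, 1, 1, 1, 0, 0, 0, 0, 0, 0, 0, 0], [0, 0, 1, 0, 0, 0, 0, 0, 0, 0, 0, 0, 0, 0], [0, 0, 0, 1, 0, 0, 0, 0, 0, 0, 0, 0, 0, 0], [0, 0, 1, 1, 1, 0, 0, 0, 0, 0, 0, 0, 0, 0], [0, 0, 1, 1, 0, 1, 0, 0, 0, 0, 0, 0, 0, 0], [0, 0, 1, 1, 0, 0, 1, 0, 0, 0, 0, 0, 0, 0], [0, 0, 1, 1, 1, 1, 0, 1, 0, 0, 0, 0, 0, 0], [0, 0, 1, 1, 1, 0, 1, 0, 1, 0, 0, 0, 0, 0], [0, 1, 0, 0, 0, 1, 1, 1, 0, 1, 0, 0, 0, 0], [1, 1, 0, 0, 0, 1, 1, 0, 1, 0, 1, 0, 0, 0], [1, 0, 0, 0, 0, 0, 0, 1, 1, 0, 0, 1, 0, 0], [1, 0, 0, 0, 0, 0, 0, 1, 1, 1, 1, 1, 1, 0], [1, 0, 0, 0, 0, 0, 0, 1, 1, 1, 1, 1, 0, 1]],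
    [[1, 0, 1, 1, 0, 1, 0, 0, 0, 0, 0, 0, 0, 0], [0, 1, 1, 1, 1, 1, 0, 0, 0, 0, 0, 0, 0, 0], [0, 0, 1, 0, 0, 0, 0, 0, 0, 0, 0, 0, 0, 0], [0, 0, 0, 1, 0, 0, 0, 0, 0, 0, 0, 0, 0, 0], [0, 0, 1, 0, 1, 0, 0, 0, 0, 0, 0, 0, 0, 0], [0, 0, 1, 0, 0, 1, 0, 0, 0, 0, 0, 0, 0, 0], [0, 0, 1, 1, 0, 0, 1, 0, 0, 0, 0, 0, 0, 0], [0, 0, 1, 0, 0, 0, 0, 1, 0, 0, 0, 0, 0, 0], [0, 0, 1, 1, 1, 0, 1, 0, 1, 0, 0, 0, 0, 0], [0, 0, 0, 0, 1, 0, 0, 1, 0, 1, 0, 0, 0, 0], [1, 1, 1, 1, 1, 1, 0, 0, 0, 0, 1, 0, 0, 0], [1, 0, 1, 1, 1, 0, 1, 1, 0, 0, 0, 1, 0, 0], [1, 1, 1, 1, 1, 1, 0, 0, 0, 1, 0, 0, 1, 0], [1, 0, 0, 0, 0, 0, 0, 1, 1, 1, 1, 1, 0, 1]],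
    [[1, 0, 1, 1, 0, 1, 0, 0, 0, 0, 0, 0, 0, 0], [0, 1, 0, 1, 1, 1, 0, 1, 0, 0, 0, 0, 0, 0], [0, 0, 1, 0, 0, 0, 0, 0, 0, 0, 0, 0, 0, 0], [0, 0, 1, 1, 0, 0, 0, 0, 0, 0, 0, 0, 0, 0], [0, 0, 1, 0, 1, 0, 0, 0, 0, 0, 0, 0, 0, 0], [0, 0, 1, 0, 0, 1, 0, 0, 0, 0, 0, 0, 0, 0], [0, 0, 0, 1, 0, 1, 1, 0, 0, 0, 0, 0, 0, 0], [0, 0, 1, 0, 0, 0, 0, 1, 0, 0, 0, 0, 0, 0], [1, 0, 1, 0, 1, 1, 1, 1, 1, 0, 0, 0, 0, 0], [0, 0, 0, 0, 1, 0, 0, 1, 0, 1, 0, 0, 0, 0], [1, 1, 1, 1, 0, 1, 0, 1, 0, 1, 1, 0, 0, 0], [1, 0, 1, 1, 1, 0, 1, 1, 0, 0, 0, 1, 0, 0], [1, 1, 1, 1, 1, 1, 0, 0, 0, 1, 0, 0, 1, 0], [0, 1, 1, 1, 1, 1, 0, 1, 1, 0, 1, 1, 1, 1]],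
    [[1, 0, 0, 0, 0, 1, 1, 0, 0, 0, 0, 0, 0, 0], [0, 1, 0, 0, 0, 0, 0, 1, 0, 0, 0, 0, 0, 0], [0, 0, 1, 0, 0, 0, 0, 0, 0, 0, 0, 0, 0, 0], [0, 0, 1, 1, 0, 0, 0, 0, 0, 0, 0, 0, 0, 0], [0, 0, 1, 1, 1, 0, 0, 0, 0, 0, 0, 0, 0, 0], [0, 0, 1, 1, 0, 1, 0, 0, 0, 0, 0, 0, 0, 0], [0, 0, 0, 0, 0, 1, 1, 0, 0, 0, 0, 0, 0, 0], [0, 0, 1, 1, 1, 1, 0, 1, 0, 0, 0, 0, 0, 0], [1, 0, 0, 0, 0, 0, 0, 1, 1, 0, 0, 0, 0, 0], [0, 1, 0, 0, 0, 1, 1, 1, 0, 1, 0, 0, 0, 0], [1, 0, 0, 0, 0, 0, 0, 1, 1, 1, 1, 0, 0, 0], [1, 0, 0, 0, 0, 0, 0, 1, 1, 0, 0, 1, 0, 0], [1, 0, 0, 0, 0, 0, 0, 1, 1, 1, 1, 1, 1, 0], [0, 0, 0, 0, 0, 0, 0, 0, 0, 0, 0, 0, 1, 1]],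
    [[1, 0, 1, 0, 0, 0, 1, 0, 0, 0, 0, 0, 0, 0], [0, 1, 0, 0, 0, 0, 0, 0, 0, 0, 0, 0, 0, 0], [0, 0, 1, 0, 0, 0, 0, 0, 0, 0, 0, 0, 0, 0], [0, 0, 0, 1, 0, 0, 0, 0, 0, 0, 0, 0, 0, 0], [0, 0, 0, 1, 1, 0, 0, 0, 0, 0, 0, 0, 0, 0], [0, 0, 0, 1, 0, 1, 0, 0, 0, 0, 0, 0, 0, 0], [0, 0, 0, 0, 0, 0, 1, 0, 0, 0, 0, 0, 0, 0], [0, 0, 0, 1, 1, 1, 0, 1, 0, 0, 0, 0, 0, 0], [0, 0, 0, 1, 0, 0, 0, 0, 1, 0, 0, 0, 0, 0], [0, 1, 0, 0, 0, 0, 1, 0, 0, 1, 0, 0, 0, 0], [0, 0, 0, 1, 1, 0, 0, 0, 1, 0, 1, 0, 0, 0], [0, 0, 0, 1, 0, 1, 0, 0, 1, 0, 0, 1, 0, 0], [0, 0, 0, 1, 1, 1, 0, 1, 1, 0, 1, 1, 1, 0], [0, 1, 1, 0, 0, 0, 0, 0, 0, 0, 0, 0, 0, 1]],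
    [[1, 0, 0, 0, 0, 0, 0, 0, 0, 0, 0, 0, 0, 0], [0, 1, 0, 0, 0, 0, 0, 0, 0, 0, 0, 0, 0, 0], [0, 0, 1, 0, 0, 0, 0, 0, 0, 0, 0, 0, 0, 0], [0, 0, 0, 1, 0, 0, 0, 0, 0, 0, 0, 0, 0, 0], [0, 0, 0, 0, 1, 0, 0, 0, 0, 0, 0, 0, 0, 0], [0, 0, 0, 0, 0, 1, 0, 0, 0, 0, 0, 0, 0, 0], [0, 0, 0, 0, 0, 0, 1, 0, 0, 0, 0, 0, 0, 0], [0, 0, 0, 0, 0, 0, 0, 1, 0, 0, 0, 0, 0, 0], [0, 0, 0, 0, 0, 0, 0, 0, 1, 0, 0, 0, 0, 0], [0, 0, 0, 0, 0, 0, 0, 0, 0, 1, 0, 0, 0, 0], [0, 0, 0, 0, 0, 0, 0, 0, 0, 0, 1, 0, 0, 0], [0, 0, 0, 0, 0, 0, 0, 0, 0, 0, 0, 1, 0, 0], [0, 0, 0, 0, 0, 0, 0, 0, 0, 0, 0, 0, 1, 0], [0, 0, 0, 0, 0, 0, 0, 0, 0, 0, 0, 0, 0, 1]]]),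
  ([(.c, true), (.e, true), (.c, true), (.e, true)],
   [[[1, 0, 1, 0, 0, 0, 0, 0, 0, 0, 0, 0, 0, 0], [0, 1, 0, 0, 0, 0, 0, 1, 0, 0, 0, 0, 0, 0], [0, 0, 1, 0, 0, 0, 0, 0, 0, 0, 0, 0, 0, 0], [0, 0, 1, 1, 0, 0, 0, 0, 0, 0, 0, 0, 0, 0], [0, 0, 0, 0, 1, 0, 0, 0, 0, 0, 0, 0, 0, 0], [0, 0, 0, 0, 0, 1, 0, 0, 0, 0, 0, 0, 0, 0], [0, 0, 0, 0, 0, 1, 1, 0, 0, 0, 0, 0, 0, 0], [0, 0, 0, 0, 0, 0, 0, 1, 0, 0, 0, 0, 0, 0], [1, 0, 1, 1, 0, 0, 0, 1, 1, 0, 0, 0, 0, 0], [0, 0, 0, 0, 0, 0, 0, 0, 0, 1, 0, 0, 0, 0], [0, 0, 0, 0, 1, 0, 0, 0, 0, 1, 1, 0, 0, 0], [0, 0, 0, 0, 0, 1, 0, 0, 0, 0, 0, 1, 0, 0], [0, 0, 0, 0, 0, 0, 0, 1, 0, 0, 0, 0, 1, 0], [0, 1, 1, 0, 0,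 0, 0, 1, 0, 0, 0, 0, 1, 1]],
    [[1, 0, 3, 0, 0, 2, 0, 2, 0, 1, 0, 0, 0, 0], [0, 1, 3, 0, 2, 2, 0, 3, 0, 0, 0, 0, 0, 0], [0, 0, 1, 0, 0, 0, 0, 0, 0, 0, 0, 0, 0, 0], [0, 0, 3, 1, 1, 1, 0, 1, 0, 0, 0, 0, 0, 0], [0, 0, 2, 0, 1, 0, 0, 1, 0, 0, 0, 0, 0, 0], [0, 0, 2, 0, 0, 1, 0, 1, 0, 0, 0, 0, 0, 0], [0, 1, 2, 2, 2, 1, 1, 1, 0, 1, 0, 0, 0, 0], [0, 0, 0, 0, 0, 0, 0, 1, 0, 0, 0, 0, 0, 0], [3, 2, 3, 3, 0, 2, 2, 3, 1, 1, 1, 1, 1, 0], [0, 0, 3, 0, 0, 0, 0, 2, 0, 1, 0, 0, 0, 0], [2, 2, 3, 3, 0, 0, 0, 2, 0, 1, 1, 0, 1, 0], [2, 0, 0, 0, 3, 0, 0, 0, 0, 2, 0, 1, 1, 0], [0, 0, 1, 0, 0, 3, 0, 3, 0, 2, 0, 0, 1, 0], [3, 3, 1, 1, 0, 3, 3, 3, 0, 2, 2, 2, 3,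 1]],
    [[1, 0, 2, 0, 0, 2, 0, 2, 0, 1, 0, 0, 0, 0], [0, 1, 3, 0, 2, 2, 0, 2, 0, 0, 0, 0, 0, 0], [0, 0, 1, 0, 0, 0, 0, 0, 0, 0, 0, 0, 0, 0], [0, 0, 2, 1, 1, 1, 0, 1, 0, 0, 0, 0, 0, 0], [0, 0, 2, 0, 1, 0, 0, 1, 0, 0, 0, 0, 0, 0], [0, 0, 2, 0, 0, 1, 0, 1, 0, 0, 0, 0, 0, 0], [0, 1, 0, 2, 2, 0, 1, 0, 0, 1, 0, 0, 0, 0], [0, 0, 0, 0, 0, 0, 0, 1, 0, 0, 0, 0, 0, 0], [2, 2, 2, 2, 1, 1, 2, 1, 1, 0, 1, 1, 1, 0], [0, 0, 3, 0, 0, 0, 0, 2, 0, 1, 0, 0, 0, 0], [2, 2, 2, 3, 1, 0, 0, 1, 0, 0, 1, 0, 1, 0], [2, 0, 2, 0, 3, 1, 0, 1, 0, 2, 0, 1, 1, 0], [0, 0, 1, 0, 0, 3, 0, 2, 0, 2, 0, 0, 1, 0], [3, 2, 2, 1, 2, 2, 3, 2, 0, 0, 2, 2, 2, 1]],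
    [[1, 0, 0, 0, 0, 0, 0, 0, 0, 0, 0, 0, 0, 0], [0, 1, 0, 0, 0, 0, 0, 0, 0, 0, 0, 0, 0, 0], [0, 0, 1, 0, 0, 0, 0, 0, 0, 0, 0, 0, 0, 0], [0, 0, 0, 1, 0, 0, 0, 0, 0, 0, 0, 0, 0, 0], [0, 0, 0, 0, 1, 0, 0, 0, 0, 0, 0, 0, 0, 0], [0, 0, 0, 0, 0, 1, 0, 0, 0, 0, 0, 0, 0, 0], [0, 0, 0, 0, 0, 0, 1, 0, 0, 0, 0, 0, 0, 0], [0, 0, 0, 0, 0, 0, 0, 1, 0, 0, 0, 0, 0, 0], [0, 0, 0, 0, 0, 0, 0, 0, 1, 0, 0, 0, 0, 0], [0, 0, 0, 0, 0, 0, 0, 0, 0, 1, 0, 0, 0, 0], [0, 0, 0, 0, 0, 0, 0, 0, 0, 0, 1, 0, 0, 0], [0, 0, 0, 0, 0, 0, 0, 0, 0, 0, 0, 1, 0, 0], [0, 0, 0, 0, 0, 0, 0, 0, 0, 0, 0, 0, 1, 0], [0, 0, 0, 0, 0, 0, 0, 0, 0, 0, 0, 0, 0, 1]]]),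
  ([(.c, true), (.f, true), (.c, true), (.f, true)],
   [[[1, 0, 1, 0, 0, 0, 0, 0, 0, 0, 0, 0, 0, 0], [0, 1, 0, 0, 0, 0, 0, 1, 0, 0, 0, 0, 0, 0], [0, 0, 1, 0, 0, 0, 0, 0, 0, 0, 0, 0, 0, 0], [0, 0, 1, 1, 0, 0, 0, 0, 0, 0, 0, 0, 0, 0], [0, 0, 0, 0, 1, 0, 0, 0, 0, 0, 0, 0, 0, 0], [0, 0, 0, 0, 0, 1, 0, 0, 0, 0, 0, 0, 0, 0], [0, 0, 0, 0, 0, 1, 1, 0, 0, 0, 0, 0, 0, 0], [0, 0, 0, 0, 0, 0, 0, 1, 0, 0, 0, 0, 0, 0], [1, 0, 1, 1, 0, 0, 0, 1, 1, 0, 0, 0, 0, 0], [0, 0, 0, 0, 0, 0, 0, 0, 0, 1, 0, 0, 0, 0], [0, 0, 0, 0, 1, 0, 0, 0, 0, 1, 1, 0, 0, 0], [0, 0, 0, 0, 0, 1, 0, 0, 0, 0, 0, 1, 0, 0], [0, 0, 0, 0, 0, 0, 0, 1, 0, 0, 0, 0, 1, 0], [0, 1, 1, 0, 0,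 0, 0, 1, 0, 0, 0, 0, 1, 1]],
    [[1, 0, 2, 0, 0, 0, 0, 0, 0, 0, 0, 0, 0, 0], [0, 1, 0, 0, 0, 0, 0, 1, 0, 0, 0, 0, 0, 0], [0, 0, 1, 0, 0, 0, 0, 0, 0, 0, 0, 0, 0, 0], [0, 0, 1, 1, 0, 0, 0, 0, 0, 0, 0, 0, 0, 0], [0, 0, 0, 0, 1, 0, 0, 0, 0, 0, 0, 0, 0, 0], [0, 0, 0, 0, 0, 1, 0, 0, 0, 0, 0, 0, 0, 0], [0, 0, 0, 0, 0, 1, 1, 0, 0, 0, 0, 0, 0, 0], [0, 0, 0, 0, 0, 0, 0, 1, 0, 0, 0, 0, 0, 0], [1, 0, 2, 2, 0, 0, 0, 1, 1, 0, 0, 0, 0, 0], [0, 0, 0, 0, 0, 0, 0, 0, 0, 1, 0, 0, 0, 0], [0, 0, 0, 0, 2, 0, 0, 0, 0, 1, 1, 0, 0, 0], [0, 0, 0, 0, 0, 2, 0, 0, 0, 0, 0, 1, 0, 0], [0, 0, 0, 0, 0, 0, 0, 2, 0, 0, 0, 0, 1, 0], [0, 2, 3, 0, 0, 0, 0, 2, 0, 0, 0, 0, 1,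 1]],
    [[1, 0, 3, 0, 0, 0, 0, 0, 0, 0, 0, 0, 0, 0], [0, 1, 0, 0, 0, 0, 0, 0, 0, 0, 0, 0, 0, 0], [0, 0, 1, 0, 0, 0, 0, 0, 0, 0, 0, 0, 0, 0], [0, 0, 0, 1, 0, 0, 0, 0, 0, 0, 0, 0, 0, 0], [0, 0, 0, 0, 1, 0, 0, 0, 0, 0, 0, 0, 0, 0], [0, 0, 0, 0, 0, 1, 0, 0, 0, 0, 0, 0, 0, 0], [0, 0, 0, 0, 0, 0, 1, 0, 0, 0, 0, 0, 0, 0], [0, 0, 0, 0, 0, 0, 0, 1, 0, 0, 0, 0, 0, 0], [0, 0, 0, 3, 0, 0, 0, 0, 1, 0, 0, 0, 0, 0], [0, 0, 0, 0, 0, 0, 0, 0, 0, 1, 0, 0, 0, 0], [0, 0, 0, 0, 3, 0, 0, 0, 0, 0, 1, 0, 0, 0], [0, 0, 0, 0, 0, 3, 0, 0, 0, 0, 0, 1, 0, 0], [0, 0, 0, 0, 0, 0, 0, 3, 0, 0, 0, 0, 1, 0], [0, 3, 2, 0, 0, 0, 0, 0, 0, 0, 0, 0, 0, 1]],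
    [[1, 0, 0, 0, 0, 0, 0, 0, 0, 0, 0, 0, 0, 0], [0, 1, 0, 0, 0, 0, 0, 0, 0, 0, 0, 0, 0, 0], [0, 0, 1, 0, 0, 0, 0, 0, 0, 0, 0, 0, 0, 0], [0, 0, 0, 1, 0, 0, 0, 0, 0, 0, 0, 0, 0, 0], [0, 0, 0, 0, 1, 0, 0, 0, 0, 0, 0, 0, 0, 0], [0, 0, 0, 0, 0, 1, 0, 0, 0, 0, 0, 0, 0, 0], [0, 0, 0, 0, 0, 0, 1, 0, 0, 0, 0, 0, 0, 0], [0, 0, 0, 0, 0, 0, 0, 1, 0, 0, 0, 0, 0, 0], [0, 0, 0, 0, 0, 0, 0, 0, 1, 0, 0, 0, 0, 0], [0, 0, 0, 0, 0, 0, 0, 0, 0, 1, 0, 0, 0, 0], [0, 0, 0, 0, 0, 0, 0, 0, 0, 0, 1, 0, 0, 0], [0, 0, 0, 0, 0, 0, 0, 0, 0, 0, 0, 1, 0, 0], [0, 0, 0, 0, 0, 0, 0, 0, 0, 0, 0, 0, 1, 0], [0, 0, 0, 0, 0, 0, 0, 0, 0, 0, 0, 0, 0, 1]]]),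
  ([(.d, true), (.a, true), (.d, true), (.a, true)],
   [[[1, 0, 1, 0, 0, 0, 1, 0, 0, 0, 0, 0, 0, 0], [0, 1, 0, 0, 0, 0, 0, 0, 0, 0, 0, 0, 0, 0], [0, 0, 1, 0, 0, 0, 0, 0, 0, 0, 0, 0, 0, 0], [0, 0, 0, 1, 0, 0, 0, 0, 0, 0, 0, 0, 0, 0], [0, 0, 0, 1, 1, 0, 0, 0, 0, 0, 0, 0, 0, 0], [0, 0, 0, 1, 0, 1, 0, 0, 0, 0, 0, 0, 0, 0], [0, 0, 0, 0, 0, 0, 1, 0, 0, 0, 0, 0, 0, 0], [0, 0, 0, 1, 1, 1, 0, 1, 0, 0, 0, 0, 0, 0], [0, 0, 0, 1, 0, 0, 0, 0, 1, 0, 0, 0, 0, 0], [0, 1, 0, 0, 0, 0, 1, 0, 0, 1, 0, 0, 0, 0], [0, 0, 0, 1, 1, 0, 0, 0, 1, 0, 1, 0, 0, 0], [0, 0, 0, 1, 0, 1, 0, 0, 1, 0, 0, 1, 0, 0], [0, 0, 0, 1, 1, 1, 0, 1, 1, 0, 1, 1, 1, 0], [0, 1, 1, 0, 0,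 0, 0, 0, 0, 0, 0, 0, 0, 1]],
    [[1, 0, 0, 0, 0, 0, 1, 0, 0, 0, 0, 0, 0, 0], [0, 1, 0, 0, 0, 0, 0, 0, 0, 0, 0, 0, 0, 0], [0, 0, 1, 0, 0, 0, 0, 0, 0, 0, 0, 0, 0, 0], [0, 0, 0, 1, 0, 0, 0, 0, 0, 0, 0, 0, 0, 0], [0, 0, 0, 1, 1, 0, 0, 0, 0, 0, 0, 0, 0, 0], [0, 0, 0, 1, 0, 1, 0, 0, 0, 0, 0, 0, 0, 0], [0, 0, 0, 0, 0, 0, 1, 0, 0, 0, 0, 0, 0, 0], [0, 0, 0, 1, 1, 1, 0, 1, 0, 0, 0, 0, 0, 0], [0, 0, 0, 0, 0, 0, 0, 0, 1, 0, 0, 0, 0, 0], [0, 1, 0, 0, 0, 0, 1, 0, 0, 1, 0, 0, 0, 0], [0, 0, 0, 0, 0, 0, 0, 0, 1, 0, 1, 0, 0, 0], [0, 0, 0, 0, 0, 0, 0, 0, 1, 0, 0, 1, 0, 0], [0, 0, 0, 0, 0, 0, 0, 0, 1, 0, 1, 1, 1, 0], [0, 0, 0, 0, 0, 0, 0, 0, 0, 0, 0, 0, 0,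 1]],
    [[1, 0, 1, 0, 0, 0, 0, 0, 0, 0, 0, 0, 0, 0], [0, 1, 0, 0, 0, 0, 0, 0, 0, 0, 0, 0, 0, 0], [0, 0, 1, 0, 0, 0, 0, 0, 0, 0, 0, 0, 0, 0], [0, 0, 0, 1, 0, 0, 0, 0, 0, 0, 0, 0, 0, 0], [0, 0, 0, 0, 1, 0, 0, 0, 0, 0, 0, 0, 0, 0], [0, 0, 0, 0, 0, 1, 0, 0, 0, 0, 0, 0, 0, 0], [0, 0, 0, 0, 0, 0, 1, 0, 0, 0, 0, 0, 0, 0], [0, 0, 0, 0, 0, 0, 0, 1, 0, 0, 0, 0, 0, 0], [0, 0, 0, 1, 0, 0, 0, 0, 1, 0, 0, 0, 0, 0], [0, 0, 0, 0, 0, 0, 0, 0, 0, 1, 0, 0, 0, 0], [0, 0, 0, 0, 1, 0, 0, 0, 0, 0, 1, 0, 0, 0], [0, 0, 0, 0, 0, 1, 0, 0, 0, 0, 0, 1, 0, 0], [0, 0, 0, 0, 0, 0, 0, 1, 0, 0, 0, 0, 1, 0], [0, 1, 1, 0, 0, 0, 0, 0, 0, 0, 0, 0, 0, 1]],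
    [[1, 0, 0, 0, 0, 0, 0, 0, 0, 0, 0, 0, 0, 0], [0, 1, 0, 0, 0, 0, 0, 0, 0, 0, 0, 0, 0, 0], [0, 0, 1, 0, 0, 0, 0, 0, 0, 0, 0, 0, 0, 0], [0, 0, 0, 1, 0, 0, 0, 0, 0, 0, 0, 0, 0, 0], [0, 0, 0, 0, 1, 0, 0, 0, 0, 0, 0, 0, 0, 0], [0, 0, 0, 0, 0, 1, 0, 0, 0, 0, 0, 0, 0, 0], [0, 0, 0, 0, 0, 0, 1, 0, 0, 0, 0, 0, 0, 0], [0, 0, 0, 0, 0, 0, 0, 1, 0, 0, 0, 0, 0, 0], [0, 0, 0, 0, 0, 0, 0, 0, 1, 0, 0, 0, 0, 0], [0, 0, 0, 0, 0, 0, 0, 0, 0, 1, 0, 0, 0, 0], [0, 0, 0, 0, 0, 0, 0, 0, 0, 0, 1, 0, 0, 0], [0, 0, 0, 0, 0, 0, 0, 0, 0, 0, 0, 1, 0, 0], [0, 0, 0, 0, 0, 0, 0, 0, 0, 0, 0, 0, 1, 0], [0, 0, 0, 0, 0, 0, 0, 0, 0, 0, 0, 0, 0, 1]]]),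
  ([(.d, true), (.b, true), (.d, true), (.b, true)],
   [[[1, 0, 1, 0, 0, 0, 1, 0, 0, 0, 0, 0, 0, 0], [0, 1, 0, 0, 0, 0, 0, 0, 0, 0, 0, 0, 0, 0], [0, 0, 1, 0, 0, 0, 0, 0, 0, 0, 0, 0, 0, 0], [0, 0, 0, 1, 0, 0, 0, 0, 0, 0, 0, 0, 0, 0], [0, 0, 0, 1, 1, 0, 0, 0, 0, 0, 0, 0, 0, 0], [0, 0, 0, 1, 0, 1, 0, 0, 0, 0, 0, 0, 0, 0], [0, 0, 0, 0, 0, 0, 1, 0, 0, 0, 0, 0, 0, 0], [0, 0, 0, 1, 1, 1, 0, 1, 0, 0, 0, 0, 0, 0], [0, 0, 0, 1, 0, 0, 0, 0, 1, 0, 0, 0, 0, 0], [0, 1, 0, 0, 0, 0, 1, 0, 0, 1, 0, 0, 0, 0], [0, 0, 0, 1, 1, 0, 0, 0, 1, 0, 1, 0, 0, 0], [0, 0, 0, 1, 0, 1, 0, 0, 1, 0, 0, 1, 0, 0], [0, 0, 0, 1, 1, 1, 0, 1, 1, 0, 1, 1, 1, 0], [0, 1, 1, 0, 0,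 0, 0, 0, 0, 0, 0, 0, 0, 1]],
    [[1, 0, 2, 3, 2, 0, 2, 0, 2, 2, 2, 0, 0, 2], [3, 1, 2, 3, 3, 0, 2, 1, 2, 3, 1, 1, 0, 3], [3, 2, 1, 1, 0, 2, 2, 3, 1, 3, 3, 3, 0, 3], [0, 0, 2, 3, 2, 0, 2, 0, 2, 0, 0, 0, 0, 0], [1, 0, 0, 0, 1, 0, 0, 3, 3, 3, 1, 3, 0, 3], [1, 2, 1, 1, 0, 3, 3, 1, 3, 3, 3, 1, 0, 3], [3, 2, 2, 3, 2, 2, 1, 3, 3, 3, 3, 3, 0, 3], [2, 2, 1, 1, 0, 2, 2, 2, 0, 3, 3, 3, 2, 1], [1, 0, 0, 0, 0, 0, 0, 3, 2, 3, 1, 3, 0, 3], [2, 2, 1, 1, 1, 2, 2, 0, 2, 1, 3, 0, 2, 2], [0, 0, 2, 3, 2, 0, 2, 0, 2, 2, 3, 0, 0, 2], [3, 2, 2, 3, 3, 2, 1, 0, 0, 2, 0, 1, 2, 0], [3, 3, 3, 2, 3, 3, 1, 0, 1, 3, 1, 0, 3, 1], [2, 2, 2, 3, 2, 2, 1, 0, 1, 2, 1, 0, 2,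 1]],
    [[1, 0, 1, 1, 0, 0, 1, 0, 0, 2, 2, 0, 0, 2], [3, 1, 2, 3, 3, 0, 2, 1, 2, 3, 1, 1, 0, 3], [3, 2, 1, 1, 0, 2, 2, 3, 1, 3, 3, 3, 0, 3], [0, 0, 2, 3, 2, 0, 2, 0, 2, 0, 0, 0, 0, 0], [1, 0, 2, 3, 3, 0, 2, 3, 1, 3, 1, 3, 0, 3], [1, 2, 3, 2, 2, 3, 1, 1, 1, 3, 3, 1, 0, 3], [3, 2, 2, 3, 2, 2, 1, 3, 3, 3, 3, 3, 0, 3], [2, 0, 2, 3, 3, 1, 3, 0, 2, 3, 1, 1, 2, 1], [1, 0, 2, 3, 2, 0, 2, 3, 0, 3, 1, 3, 0, 3], [2, 1, 1, 1, 0, 0, 1, 2, 3, 1, 1, 2, 2, 2], [0, 0, 0, 0, 1, 0, 0, 0, 1, 2, 3, 0, 0, 2], [3, 0, 1, 1, 1, 1, 0, 2, 3, 2, 2, 3, 2, 0], [3, 1, 1, 1, 1, 0, 1, 3, 3, 3, 2, 3, 3, 1], [2, 1, 1, 1, 1, 0, 1, 2, 2, 2, 3, 2, 2, 1]],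
    [[1, 0, 0, 0, 0, 0, 0, 0, 0, 0, 0, 0, 0, 0], [0, 1, 0, 0, 0, 0, 0, 0, 0, 0, 0, 0, 0, 0], [0, 0, 1, 0, 0, 0, 0, 0, 0, 0, 0, 0, 0, 0], [0, 0, 0, 1, 0, 0, 0, 0, 0, 0, 0, 0, 0, 0], [0, 0, 0, 0, 1, 0, 0, 0, 0, 0, 0, 0, 0, 0], [0, 0, 0, 0, 0, 1, 0, 0, 0, 0, 0, 0, 0, 0], [0, 0, 0, 0, 0, 0, 1, 0, 0, 0, 0, 0, 0, 0], [0, 0, 0, 0, 0, 0, 0, 1, 0, 0, 0, 0, 0, 0], [0, 0, 0, 0, 0, 0, 0, 0, 1, 0, 0, 0, 0, 0], [0, 0, 0, 0, 0, 0, 0, 0, 0, 1, 0, 0, 0, 0], [0, 0, 0, 0, 0, 0, 0, 0, 0, 0, 1, 0, 0, 0], [0, 0, 0, 0, 0, 0, 0, 0, 0, 0, 0, 1, 0, 0], [0, 0, 0, 0, 0, 0, 0, 0, 0, 0, 0, 0, 1, 0], [0, 0, 0, 0, 0, 0, 0, 0, 0, 0, 0, 0, 0, 1]]]),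
  ([(.d, true), (.c, true), (.d, true), (.c, true), (.d, true), (.c, true), (.d, true), (.c, true), (.d, true), (.c, true), (.d, true), (.c, true), (.d, true), (.c, true), (.d, true), (.c, true)],
   [[[1, 0, 1, 0, 0, 0, 1, 0, 0, 0, 0, 0, 0, 0], [0, 1, 0, 0, 0, 0, 0, 0, 0, 0, 0, 0, 0, 0], [0, 0, 1, 0, 0, 0, 0, 0, 0, 0, 0, 0, 0, 0], [0, 0, 0, 1, 0, 0, 0, 0, 0, 0, 0, 0, 0, 0], [0, 0, 0, 1, 1, 0, 0, 0, 0, 0, 0, 0, 0, 0], [0, 0, 0, 1, 0, 1, 0, 0, 0, 0, 0, 0, 0, 0], [0, 0, 0, 0, 0, 0, 1, 0, 0, 0, 0, 0, 0, 0], [0, 0, 0, 1, 1, 1, 0, 1, 0, 0, 0, 0, 0, 0], [0, 0, 0, 1, 0, 0, 0, 0, 1, 0, 0, 0, 0, 0], [0, 1, 0, 0, 0, 0, 1, 0, 0, 1, 0, 0, 0, 0], [0,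 0, 0, 1, 1, 0, 0, 0, 1, 0, 1, 0, 0, 0], [0, 0, 0, 1, 0, 1, 0, 0, 1, 0, 0, 1, 0, 0], [0, 0, 0, 1, 1, 1, 0, 1, 1, 0, 1, 1, 1, 0], [0, 1, 1, 0, 0, 0, 0, 0, 0, 0, 0, 0, 0, 1]],
    [[1, 0, 0, 0, 0, 1, 1, 0, 0, 0, 0, 0, 0, 0], [0, 1, 0, 0, 0, 0, 0, 1, 0, 0, 0, 0, 0, 0], [0, 0, 1, 0, 0, 0, 0, 0, 0, 0, 0, 0, 0, 0], [0, 0, 1, 1, 0, 0, 0, 0, 0, 0, 0, 0, 0, 0], [0, 0, 1, 1, 1, 0, 0, 0, 0, 0, 0, 0, 0, 0], [0, 0, 1, 1, 0, 1, 0, 0, 0, 0, 0, 0, 0, 0], [0, 0, 0, 0, 0, 1, 1, 0, 0, 0, 0, 0, 0, 0], [0, 0, 1, 1, 1, 1, 0, 1, 0, 0, 0, 0, 0, 0], [1, 0, 0, 0, 0, 0, 0, 1, 1, 0, 0, 0, 0, 0], [0, 1, 0, 0, 0, 1, 1, 1, 0, 1, 0, 0, 0, 0], [1, 0, 0, 0, 0, 0, 0, 1, 1,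 1, 1, 0, 0, 0], [1, 0, 0, 0, 0, 0, 0, 1, 1, 0, 0, 1, 0, 0], [1, 0, 0, 0, 0, 0, 0, 1, 1, 1, 1, 1, 1, 0], [0, 0, 0, 0, 0, 0, 0, 0, 0, 0, 0, 0, 1, 1]],
    [[1, 0, 1, 1, 0, 1, 0, 0, 0, 0, 0, 0, 0, 0], [0, 1, 0, 1, 1, 1, 0, 1, 0, 0, 0, 0, 0, 0], [0, 0, 1, 0, 0, 0, 0, 0, 0, 0, 0, 0, 0, 0], [0, 0, 1, 1, 0, 0, 0, 0, 0, 0, 0, 0, 0, 0], [0, 0, 1, 0, 1, 0, 0, 0, 0, 0, 0, 0, 0, 0], [0, 0, 1, 0, 0, 1, 0, 0, 0, 0, 0, 0, 0, 0], [0, 0, 0, 1, 0, 1, 1, 0, 0, 0, 0, 0, 0, 0], [0, 0, 1, 0, 0, 0, 0, 1, 0, 0, 0, 0, 0, 0], [1, 0, 1, 0, 1, 1, 1, 1, 1, 0, 0, 0, 0, 0], [0, 0, 0, 0, 1, 0, 0, 1, 0, 1, 0, 0, 0, 0], [1, 1, 1, 1, 0, 1, 0, 1, 0, 1, 1, 0, 0, 0], [1, 0,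 1, 1, 1, 0, 1, 1, 0, 0, 0, 1, 0, 0], [1, 1, 1, 1, 1, 1, 0, 0, 0, 1, 0, 0, 1, 0], [0, 1, 1, 1, 1, 1, 0, 1, 1, 0, 1, 1, 1, 1]],
    [[1, 0, 1, 1, 0, 1, 0, 0, 0, 0, 0, 0, 0, 0], [0, 1, 1, 1, 1, 1, 0, 0, 0, 0, 0, 0, 0, 0], [0, 0, 1, 0, 0, 0, 0, 0, 0, 0, 0, 0, 0, 0], [0, 0, 0, 1, 0, 0, 0, 0, 0, 0, 0, 0, 0, 0], [0, 0, 1, 0, 1, 0, 0, 0, 0, 0, 0, 0, 0, 0], [0, 0, 1, 0, 0, 1, 0, 0, 0, 0, 0, 0, 0, 0], [0, 0, 1, 1, 0, 0, 1, 0, 0, 0, 0, 0, 0, 0], [0, 0, 1, 0, 0, 0, 0, 1, 0, 0, 0, 0, 0, 0], [0, 0, 1, 1, 1, 0, 1, 0, 1, 0, 0, 0, 0, 0], [0, 0, 0, 0, 1, 0, 0, 1, 0, 1, 0, 0, 0, 0], [1, 1, 1, 1, 1, 1, 0, 0, 0, 0, 1, 0, 0, 0], [1, 0, 1, 1, 1, 0, 1, 1, 0, 0,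 0, 1, 0, 0], [1, 1, 1, 1, 1, 1, 0, 0, 0, 1, 0, 0, 1, 0], [1, 0, 0, 0, 0, 0, 0, 1, 1, 1, 1, 1, 0, 1]],
    [[1, 0, 0, 0, 0, 1, 1, 0, 0, 0, 0, 0, 0, 0], [0, 1, 1, 1, 1, 1, 0, 0, 0, 0, 0, 0, 0, 0], [0, 0, 1, 0, 0, 0, 0, 0, 0, 0, 0, 0, 0, 0], [0, 0, 0, 1, 0, 0, 0, 0, 0, 0, 0, 0, 0, 0], [0, 0, 1, 1, 1, 0, 0, 0, 0, 0, 0, 0, 0, 0], [0, 0, 1, 1, 0, 1, 0, 0, 0, 0, 0, 0, 0, 0], [0, 0, 1, 1, 0, 0, 1, 0, 0, 0, 0, 0, 0, 0], [0, 0, 1, 1, 1, 1, 0, 1, 0, 0, 0, 0, 0, 0], [0, 0, 1, 1, 1, 0, 1, 0, 1, 0, 0, 0, 0, 0], [0, 1, 0, 0, 0, 1, 1, 1, 0, 1, 0, 0, 0, 0], [1, 1, 0, 0, 0, 1, 1, 0, 1, 0, 1, 0, 0, 0], [1, 0, 0, 0, 0, 0, 0, 1, 1, 0, 0, 1, 0, 0], [1, 0, 0,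 0, 0, 0, 0, 1, 1, 1, 1, 1, 1, 0], [1, 0, 0, 0, 0, 0, 0, 1, 1, 1, 1, 1, 0, 1]],
    [[1, 0, 1, 0, 0, 0, 1, 0, 0, 0, 0, 0, 0, 0], [0, 1, 0, 1, 1, 1, 0, 1, 0, 0, 0, 0, 0, 0], [0, 0, 1, 0, 0, 0, 0, 0, 0, 0, 0, 0, 0, 0], [0, 0, 1, 1, 0, 0, 0, 0, 0, 0, 0, 0, 0, 0], [0, 0, 0, 1, 1, 0, 0, 0, 0, 0, 0, 0, 0, 0], [0, 0, 0, 1, 0, 1, 0, 0, 0, 0, 0, 0, 0, 0], [0, 0, 0, 1, 0, 1, 1, 0, 0, 0, 0, 0, 0, 0], [0, 0, 0, 1, 1, 1, 0, 1, 0, 0, 0, 0, 0, 0], [1, 0, 1, 0, 1, 1, 1, 1, 1, 0, 0, 0, 0, 0], [0, 1, 0, 0, 0, 0, 1, 0, 0, 1, 0, 0, 0, 0], [0, 1, 0, 1, 1, 0, 1, 0, 1, 1, 1, 0, 0, 0], [0, 0, 0, 1, 0, 1, 0, 0, 1, 0, 0, 1, 0, 0], [0, 0, 0, 1, 1, 1, 0, 1, 1, 0, 1,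 1, 1, 0], [0, 1, 1, 1, 1, 1, 0, 1, 1, 0, 1, 1, 1, 1]],
    [[1, 0, 0, 0, 0, 0, 0, 0, 0, 0, 0, 0, 0, 0], [0, 1, 0, 0, 0, 0, 0, 1, 0, 0, 0, 0, 0, 0], [0, 0, 1, 0, 0, 0, 0, 0, 0, 0, 0, 0, 0, 0], [0, 0, 1, 1, 0, 0, 0, 0, 0, 0, 0, 0, 0, 0], [0, 0, 0, 0, 1, 0, 0, 0, 0, 0, 0, 0, 0, 0], [0, 0, 0, 0, 0, 1, 0, 0, 0, 0, 0, 0, 0, 0], [0, 0, 0, 0, 0, 1, 1, 0, 0, 0, 0, 0, 0, 0], [0, 0, 0, 0, 0, 0, 0, 1, 0, 0, 0, 0, 0, 0], [1, 0, 0, 0, 0, 0, 0, 1, 1, 0, 0, 0, 0, 0], [0, 0, 0, 0, 0, 0, 0, 0, 0, 1, 0, 0, 0, 0], [0, 0, 0, 0, 0, 0, 0, 0, 0, 1, 1, 0, 0, 0], [0, 0, 0, 0, 0, 0, 0, 0, 0, 0, 0, 1, 0, 0], [0, 0, 0, 0, 0, 0, 0, 0, 0, 0, 0, 0, 1, 0], [0, 0, 0, 0,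 0, 0, 0, 0, 0, 0, 0, 0, 1, 1]],
    [[1, 0, 1, 0, 0, 0, 0, 0, 0, 0, 0, 0, 0, 0], [0, 1, 0, 0, 0, 0, 0, 0, 0, 0, 0, 0, 0, 0], [0, 0, 1, 0, 0, 0, 0, 0, 0, 0, 0, 0, 0, 0], [0, 0, 0, 1, 0, 0, 0, 0, 0, 0, 0, 0, 0, 0], [0, 0, 0, 0, 1, 0, 0, 0, 0, 0, 0, 0, 0, 0], [0, 0, 0, 0, 0, 1, 0, 0, 0, 0, 0, 0, 0, 0], [0, 0, 0, 0, 0, 0, 1, 0, 0, 0, 0, 0, 0, 0], [0, 0, 0, 0, 0, 0, 0, 1, 0, 0, 0, 0, 0, 0], [0, 0, 0, 1, 0, 0, 0, 0, 1, 0, 0, 0, 0, 0], [0, 0, 0, 0, 0, 0, 0, 0, 0, 1, 0, 0, 0, 0], [0, 0, 0, 0, 1, 0, 0, 0, 0, 0, 1, 0, 0, 0], [0, 0, 0, 0, 0, 1, 0, 0, 0, 0, 0, 1, 0, 0], [0, 0, 0, 0, 0, 0, 0, 1, 0, 0, 0, 0, 1, 0], [0, 1, 1, 0, 0, 0, 0, 0, 0, 0, 0, 0,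 0, 1]],
    [[1, 0, 0, 0, 0, 0, 1, 0, 0, 0, 0, 0, 0, 0], [0, 1, 0, 0, 0, 0, 0, 0, 0, 0, 0, 0, 0, 0], [0, 0, 1, 0, 0, 0, 0, 0, 0, 0, 0, 0, 0, 0], [0, 0, 0, 1, 0, 0, 0, 0, 0, 0, 0, 0, 0, 0], [0, 0, 0, 1, 1, 0, 0, 0, 0, 0, 0, 0, 0, 0], [0, 0, 0, 1, 0, 1, 0, 0, 0, 0, 0, 0, 0, 0], [0, 0, 0, 0, 0, 0, 1, 0, 0, 0, 0, 0, 0, 0], [0, 0, 0, 1, 1, 1, 0, 1, 0, 0, 0, 0, 0, 0], [0, 0, 0, 0, 0, 0, 0, 0, 1, 0, 0, 0, 0, 0], [0, 1, 0, 0, 0, 0, 1, 0, 0, 1, 0, 0, 0, 0], [0, 0, 0, 0, 0, 0, 0, 0, 1, 0, 1, 0, 0, 0], [0, 0, 0, 0, 0, 0, 0, 0, 1, 0, 0, 1, 0, 0], [0, 0, 0, 0, 0, 0, 0, 0, 1, 0, 1, 1, 1, 0], [0, 0, 0, 0, 0, 0, 0, 0, 0, 0, 0, 0, 0, 1]],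
    [[1, 0, 1, 0, 0, 1, 1, 0, 0, 0, 0, 0, 0, 0], [0, 1, 0, 0, 0, 0, 0, 1, 0, 0, 0, 0, 0, 0], [0, 0, 1, 0, 0, 0, 0, 0, 0, 0, 0, 0, 0, 0], [0, 0, 1, 1, 0, 0, 0, 0, 0, 0, 0, 0, 0, 0], [0, 0, 1, 1, 1, 0, 0, 0, 0, 0, 0, 0, 0, 0], [0, 0, 1, 1, 0, 1, 0, 0, 0, 0, 0, 0, 0, 0], [0, 0, 0, 0, 0, 1, 1, 0, 0, 0, 0, 0, 0, 0], [0, 0, 1, 1, 1, 1, 0, 1, 0, 0, 0, 0, 0, 0], [1, 0, 1, 1, 0, 0, 0, 1, 1, 0, 0, 0, 0, 0], [0, 1, 0, 0, 0, 1, 1, 1, 0, 1, 0, 0, 0, 0], [1, 0, 1, 1, 1, 0, 0, 1, 1, 1, 1, 0, 0, 0], [1, 0, 1, 1, 0, 1, 0, 1, 1, 0, 0, 1, 0, 0], [1, 0, 1, 1, 1, 1, 0, 0, 1, 1, 1, 1, 1, 0], [0, 1, 1, 0, 0, 0, 0, 1, 0, 0, 0, 0, 1, 1]],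
    [[1, 0, 0, 1, 0, 1, 0, 0, 0, 0, 0, 0, 0, 0], [0, 1, 0, 1, 1, 1, 0, 1, 0, 0, 0, 0, 0, 0], [0, 0, 1, 0, 0, 0, 0, 0, 0, 0, 0, 0, 0, 0], [0, 0, 1, 1, 0, 0, 0, 0, 0, 0, 0, 0, 0, 0], [0, 0, 1, 0, 1, 0, 0, 0, 0, 0, 0, 0, 0, 0], [0, 0, 1, 0, 0, 1, 0, 0, 0, 0, 0, 0, 0, 0], [0, 0, 0, 1, 0, 1, 1, 0, 0, 0, 0, 0, 0, 0], [0, 0, 1, 0, 0, 0, 0, 1, 0, 0, 0, 0, 0, 0], [1, 0, 0, 1, 1, 1, 1, 1, 1, 0, 0, 0, 0, 0], [0, 0, 0, 0, 1, 0, 0, 1, 0, 1, 0, 0, 0, 0], [1, 1, 0, 1, 1, 1, 0, 1, 0, 1, 1, 0, 0, 0], [1, 0, 0, 1, 1, 1, 1, 1, 0, 0, 0, 1, 0, 0], [1, 1, 0, 1, 1, 1, 0, 1, 0, 1, 0, 0, 1, 0], [0, 0, 0, 0, 0, 0, 0, 0, 1, 0, 1, 1, 1, 1]],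
    [[1, 0, 0, 1, 0, 1, 0, 0, 0, 0, 0, 0, 0, 0], [0, 1, 1, 1, 1, 1, 0, 0, 0, 0, 0, 0, 0, 0], [0, 0, 1, 0, 0, 0, 0, 0, 0, 0, 0, 0, 0, 0], [0, 0, 0, 1, 0, 0, 0, 0, 0, 0, 0, 0, 0, 0], [0, 0, 1, 0, 1, 0, 0, 0, 0, 0, 0, 0, 0, 0], [0, 0, 1, 0, 0, 1, 0, 0, 0, 0, 0, 0, 0, 0], [0, 0, 1, 1, 0, 0, 1, 0, 0, 0, 0, 0, 0, 0], [0, 0, 1, 0, 0, 0, 0, 1, 0, 0, 0, 0, 0, 0], [0, 0, 1, 0, 1, 0, 1, 0, 1, 0, 0, 0, 0, 0], [0, 0, 0, 0, 1, 0, 0, 1, 0, 1, 0, 0, 0, 0], [1, 1, 0, 1, 0, 1, 0, 0, 0, 0, 1, 0, 0, 0], [1, 0, 0, 1, 1, 1, 1, 1, 0, 0, 0, 1, 0, 0], [1, 1, 0, 1, 1, 1, 0, 1, 0, 1, 0, 0, 1, 0], [1, 1, 0, 1, 1, 1, 0, 1, 1, 1, 1, 1, 0, 1]],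
    [[1, 0, 1, 0, 0, 1, 1, 0, 0, 0, 0, 0, 0, 0], [0, 1, 1, 1, 1, 1, 0, 0, 0, 0, 0, 0, 0, 0], [0, 0, 1, 0, 0, 0, 0, 0, 0, 0, 0, 0, 0, 0], [0, 0, 0, 1, 0, 0, 0, 0, 0, 0, 0, 0, 0, 0], [0, 0, 1, 1, 1, 0, 0, 0, 0, 0, 0, 0, 0, 0], [0, 0, 1, 1, 0, 1, 0, 0, 0, 0, 0, 0, 0, 0], [0, 0, 1, 1, 0, 0, 1, 0, 0, 0, 0, 0, 0, 0], [0, 0, 1, 1, 1, 1, 0, 1, 0, 0, 0, 0, 0, 0], [0, 0, 1, 0, 1, 0, 1, 0, 1, 0, 0, 0, 0, 0], [0, 1, 0, 0, 0, 1, 1, 1, 0, 1, 0, 0, 0, 0], [1, 1, 1, 1, 1, 1, 1, 0, 1, 0, 1, 0, 0, 0], [1, 0, 1, 1, 0, 1, 0, 1, 1, 0, 0, 1, 0, 0], [1, 0, 1, 1, 1, 1, 0, 0, 1, 1, 1, 1, 1, 0], [1, 1, 0, 1, 1, 1, 0, 1, 1, 1, 1, 1, 0, 1]],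
    [[1, 0, 0, 0, 0, 0, 1, 0, 0, 0, 0, 0, 0, 0], [0, 1, 0, 1, 1, 1, 0, 1, 0, 0, 0, 0, 0, 0], [0, 0, 1, 0, 0, 0, 0, 0, 0, 0, 0, 0, 0, 0], [0, 0, 1, 1, 0, 0, 0, 0, 0, 0, 0, 0, 0, 0], [0, 0, 0, 1, 1, 0, 0, 0, 0, 0, 0, 0, 0, 0], [0, 0, 0, 1, 0, 1, 0, 0, 0, 0, 0, 0, 0, 0], [0, 0, 0, 1, 0, 1, 1, 0, 0, 0, 0, 0, 0, 0], [0, 0, 0, 1, 1, 1, 0, 1, 0, 0, 0, 0, 0, 0], [1, 0, 0, 1, 1, 1, 1, 1, 1, 0, 0, 0, 0, 0], [0, 1, 0, 0, 0, 0, 1, 0, 0, 1, 0, 0, 0, 0], [0, 1, 0, 0, 0, 0, 1, 0, 1, 1, 1, 0, 0, 0], [0, 0, 0, 0, 0, 0, 0, 0, 1, 0, 0, 1, 0, 0], [0, 0, 0, 0, 0, 0, 0, 0, 1, 0, 1, 1, 1, 0], [0, 0, 0, 0, 0, 0, 0, 0, 1, 0, 1, 1, 1, 1]],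
    [[1, 0, 1, 0, 0, 0, 0, 0, 0, 0, 0, 0, 0, 0], [0, 1, 0, 0, 0, 0, 0, 1, 0, 0, 0, 0, 0, 0], [0, 0, 1, 0, 0, 0, 0, 0, 0, 0, 0, 0, 0, 0], [0, 0, 1, 1, 0, 0, 0, 0, 0, 0, 0, 0, 0, 0], [0, 0, 0, 0, 1, 0, 0, 0, 0, 0, 0, 0, 0, 0], [0, 0, 0, 0, 0, 1, 0, 0, 0, 0, 0, 0, 0, 0], [0, 0, 0, 0, 0, 1, 1, 0, 0, 0, 0, 0, 0, 0], [0, 0, 0, 0, 0, 0, 0, 1, 0, 0, 0, 0, 0, 0], [1, 0, 1, 1, 0, 0, 0, 1, 1, 0, 0, 0, 0, 0], [0, 0, 0, 0, 0, 0, 0, 0, 0, 1, 0, 0, 0, 0], [0, 0, 0, 0, 1, 0, 0, 0, 0, 1, 1, 0, 0, 0], [0, 0, 0, 0, 0, 1, 0, 0, 0, 0, 0, 1, 0, 0], [0, 0, 0, 0, 0, 0, 0, 1, 0, 0, 0, 0, 1, 0], [0, 1, 1, 0, 0, 0, 0, 1, 0, 0, 0, 0, 1, 1]],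
    [[1, 0, 0, 0, 0, 0, 0, 0, 0, 0, 0, 0, 0, 0], [0, 1, 0, 0, 0, 0, 0, 0, 0, 0, 0, 0, 0, 0], [0, 0, 1, 0, 0, 0, 0, 0, 0, 0, 0, 0, 0, 0], [0, 0, 0, 1, 0, 0, 0, 0, 0, 0, 0, 0, 0, 0], [0, 0, 0, 0, 1, 0, 0, 0, 0, 0, 0, 0, 0, 0], [0, 0, 0, 0, 0, 1, 0, 0, 0, 0, 0, 0, 0, 0], [0, 0, 0, 0, 0, 0, 1, 0, 0, 0, 0, 0, 0, 0], [0, 0, 0, 0, 0, 0, 0, 1, 0, 0, 0, 0, 0, 0], [0, 0, 0, 0, 0, 0, 0, 0, 1, 0, 0, 0, 0, 0], [0, 0, 0, 0, 0, 0, 0, 0, 0, 1, 0, 0, 0, 0], [0, 0, 0, 0, 0, 0, 0, 0, 0, 0, 1, 0, 0, 0], [0, 0, 0, 0, 0, 0, 0, 0, 0, 0, 0, 1, 0, 0], [0, 0, 0, 0, 0, 0, 0, 0, 0, 0, 0, 0, 1, 0], [0, 0, 0, 0, 0, 0, 0, 0, 0, 0, 0, 0, 0, 1]]]),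
  ([(.d, true), (.d, true)],
   [[[1, 0, 1, 0, 0, 0, 1, 0, 0, 0, 0, 0, 0, 0], [0, 1, 0, 0, 0, 0, 0, 0, 0, 0, 0, 0, 0, 0], [0, 0, 1, 0, 0, 0, 0, 0, 0, 0, 0, 0, 0, 0], [0, 0, 0, 1, 0, 0, 0, 0, 0, 0, 0, 0, 0, 0], [0, 0, 0, 1, 1, 0, 0, 0, 0, 0, 0, 0, 0, 0], [0, 0, 0, 1, 0, 1, 0, 0, 0, 0, 0, 0, 0, 0], [0, 0, 0, 0, 0, 0, 1, 0, 0, 0, 0, 0, 0, 0], [0, 0, 0, 1, 1, 1, 0, 1, 0, 0, 0, 0, 0, 0], [0, 0, 0, 1, 0, 0, 0, 0, 1, 0, 0, 0, 0, 0], [0, 1, 0, 0, 0, 0, 1, 0, 0, 1, 0, 0, 0, 0], [0, 0, 0, 1, 1, 0, 0, 0, 1, 0, 1, 0, 0, 0], [0, 0, 0, 1, 0, 1, 0, 0, 1, 0, 0, 1, 0, 0], [0, 0, 0, 1, 1, 1, 0, 1, 1, 0, 1, 1, 1, 0], [0, 1, 1, 0, 0, 0, 0, 0, 0, 0, 0, 0, 0,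 1]],
    [[1, 0, 0, 0, 0, 0, 0, 0, 0, 0, 0, 0, 0, 0], [0, 1, 0, 0, 0, 0, 0, 0, 0, 0, 0, 0, 0, 0], [0, 0, 1, 0, 0, 0, 0, 0, 0, 0, 0, 0, 0, 0], [0, 0, 0, 1, 0, 0, 0, 0, 0, 0, 0, 0, 0, 0], [0, 0, 0, 0, 1, 0, 0, 0, 0, 0, 0, 0, 0, 0], [0, 0, 0, 0, 0, 1, 0, 0, 0, 0, 0, 0, 0, 0], [0, 0, 0, 0, 0, 0, 1, 0, 0, 0, 0, 0, 0, 0], [0, 0, 0, 0, 0, 0, 0, 1, 0, 0, 0, 0, 0, 0], [0, 0, 0, 0, 0, 0, 0, 0, 1, 0, 0, 0, 0, 0], [0, 0, 0, 0, 0, 0, 0, 0, 0, 1, 0, 0, 0, 0], [0, 0, 0, 0, 0, 0, 0, 0, 0, 0, 1, 0, 0, 0], [0, 0, 0, 0, 0, 0, 0, 0, 0, 0, 0, 1, 0, 0], [0, 0, 0, 0, 0, 0, 0, 0, 0, 0, 0, 0, 1, 0], [0, 0, 0, 0, 0, 0, 0, 0, 0, 0, 0, 0, 0, 1]]]),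
  ([(.d, true), (.e, true), (.d, true), (.e, true), (.d, true), (.e, true)],
   [[[1, 0, 1, 0, 0, 0, 1, 0, 0, 0, 0, 0, 0, 0], [0, 1, 0, 0, 0, 0, 0, 0, 0, 0, 0, 0, 0, 0], [0, 0, 1, 0, 0, 0, 0, 0, 0, 0, 0, 0, 0, 0], [0, 0, 0, 1, 0, 0, 0, 0, 0, 0, 0, 0, 0, 0], [0, 0, 0, 1, 1, 0, 0, 0, 0, 0, 0, 0, 0, 0], [0, 0, 0, 1, 0, 1, 0, 0, 0, 0, 0, 0, 0, 0], [0, 0, 0, 0, 0, 0, 1, 0, 0, 0, 0, 0, 0, 0], [0, 0, 0, 1, 1, 1, 0, 1, 0, 0, 0, 0, 0, 0], [0, 0, 0, 1, 0, 0, 0, 0, 1, 0, 0, 0, 0, 0], [0, 1, 0, 0, 0, 0, 1, 0, 0, 1, 0, 0, 0, 0], [0, 0, 0, 1, 1, 0, 0, 0, 1, 0, 1, 0, 0, 0], [0, 0, 0, 1, 0, 1, 0, 0, 1, 0, 0, 1, 0, 0], [0, 0, 0, 1, 1, 1, 0, 1, 1, 0, 1,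 1, 1, 0], [0, 1, 1, 0, 0, 0, 0, 0, 0, 0, 0, 0, 0, 1]],
    [[1, 1, 3, 2, 2, 2, 1, 2, 0, 0, 0, 0, 0, 0], [0, 1, 3, 0, 2, 2, 0, 2, 0, 0, 0, 0, 0, 0], [0, 0, 1, 0, 0, 0, 0, 0, 0, 0, 0, 0, 0, 0], [0, 0, 2, 1, 1, 1, 0, 1, 0, 0, 0, 0, 0, 0], [0, 0, 0, 1, 0, 1, 0, 0, 0, 0, 0, 0, 0, 0], [0, 0, 0, 1, 1, 0, 0, 0, 0, 0, 0, 0, 0, 0], [0, 1, 0, 2, 2, 0, 1, 0, 0, 1, 0, 0, 0, 0], [0, 0, 2, 1, 0, 0, 0, 0, 0, 0, 0, 0, 0, 0], [2, 2, 0, 3, 0, 0, 2, 0, 1, 0, 1, 1, 1, 0], [0, 0, 0, 2, 0, 2, 1, 0, 0, 0, 0, 0, 0, 0], [0, 0, 0, 0, 0, 0, 2, 0, 1, 0, 0, 1, 0, 0], [0, 2, 0, 3, 3, 0, 2, 0, 1, 2, 1, 0, 0, 0], [2, 0, 1, 0, 3, 3, 2, 3, 1, 0, 0, 0, 0, 0], [3, 3, 0, 1,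 0, 0, 3, 0, 0, 0, 2, 2, 2, 1]],
    [[1, 1, 2, 0, 0, 0, 0, 2, 0, 0, 0, 0, 0, 0], [0, 1, 3, 2, 0, 0, 0, 2, 0, 0, 0, 0, 0, 0], [0, 0, 1, 0, 0, 0, 0, 0, 0, 0, 0, 0, 0, 0], [0, 0, 2, 0, 0, 0, 0, 1, 0, 0, 0, 0, 0, 0], [0, 0, 0, 0, 0, 1, 0, 0, 0, 0, 0, 0, 0, 0], [0, 0, 0, 0, 1, 0, 0, 0, 0, 0, 0, 0, 0, 0], [0, 0, 0, 0, 2, 0, 0, 0, 0, 1, 0, 0, 0, 0], [0, 0, 2, 1, 0, 0, 0, 0, 0, 0, 0, 0, 0, 0], [2, 2, 2, 3, 0, 0, 0, 1, 0, 0, 0, 0, 1, 0], [0, 0, 0, 0, 0, 2, 1, 0, 0, 0, 0, 0, 0, 0], [0, 0, 0, 0, 0, 1, 2, 0, 0, 0, 0, 1, 0, 0], [0, 0, 0, 0, 2, 0, 0, 0, 0, 2, 1, 0, 0, 0], [2, 0, 3, 2, 0, 0, 0, 3, 1, 0, 0, 0, 0, 0], [3, 2, 2, 3, 0, 0, 0, 2, 2, 0, 0, 0,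 2, 1]],
    [[1, 1, 3, 0, 2, 0, 0, 2, 0, 1, 0, 0, 0, 0], [0, 1, 3, 2, 0, 0, 0, 2, 0, 0, 0, 0, 0, 0], [0, 0, 1, 0, 0, 0, 0, 0, 0, 0, 0, 0, 0, 0], [0, 0, 2, 0, 0, 0, 0, 1, 0, 0, 0, 0, 0, 0], [0, 0, 2, 0, 0, 1, 0, 1, 0, 0, 0, 0, 0, 0], [0, 0, 2, 0, 1, 0, 0, 1, 0, 0, 0, 0, 0, 0], [0, 0, 0, 0, 2, 0, 0, 0, 0, 1, 0, 0, 0, 0], [0, 0, 0, 1, 1, 1, 0, 1, 0, 0, 0, 0, 0, 0], [2, 2, 0, 3, 0, 0, 0, 0, 0, 0, 0, 0, 1, 0], [0, 1, 3, 2, 2, 2, 1, 2, 0, 1, 0, 0, 0, 0], [2, 2, 0, 3, 0, 0, 2, 0, 0, 0, 0, 1, 1, 0], [2, 2, 0, 3, 3, 0, 0, 0, 0, 2, 1, 0, 1, 0], [0, 2, 1, 0, 3, 0, 2, 3, 1, 2, 1, 1, 1, 0], [3, 3, 0, 1, 0, 0, 0, 0, 2, 0, 0, 0, 2, 1]],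
    [[1, 0, 2, 0, 0, 2, 0, 2, 0, 1, 0, 0, 0, 0], [0, 1, 3, 0, 2, 2, 0, 2, 0, 0, 0, 0, 0, 0], [0, 0, 1, 0, 0, 0, 0, 0, 0, 0, 0, 0, 0, 0], [0, 0, 2, 1, 1, 1, 0, 1, 0, 0, 0, 0, 0, 0], [0, 0, 2, 0, 1, 0, 0, 1, 0, 0, 0, 0, 0, 0], [0, 0, 2, 0, 0, 1, 0, 1, 0, 0, 0, 0, 0, 0], [0, 1, 0, 2, 2, 0, 1, 0, 0, 1, 0, 0, 0, 0], [0, 0, 0, 0, 0, 0, 0, 1, 0, 0, 0, 0, 0, 0], [2, 2, 2, 2, 1, 1, 2, 1, 1, 0, 1, 1, 1, 0], [0, 0, 3, 0, 0, 0, 0, 2, 0, 1, 0, 0, 0, 0], [2, 2, 2, 3, 1, 0, 0, 1, 0, 0, 1, 0, 1, 0], [2, 0, 2, 0, 3, 1, 0, 1, 0, 2, 0, 1, 1, 0], [0, 0, 1, 0, 0, 3, 0, 2, 0, 2, 0, 0, 1, 0], [3, 2, 2, 1, 2, 2, 3, 2, 0, 0, 2, 2, 2, 1]],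
    [[1, 0, 0, 0, 0, 0, 0, 0, 0, 0, 0, 0, 0, 0], [0, 1, 0, 0, 0, 0, 0, 0, 0, 0, 0, 0, 0, 0], [0, 0, 1, 0, 0, 0, 0, 0, 0, 0, 0, 0, 0, 0], [0, 0, 0, 1, 0, 0, 0, 0, 0, 0, 0, 0, 0, 0], [0, 0, 0, 0, 1, 0, 0, 0, 0, 0, 0, 0, 0, 0], [0, 0, 0, 0, 0, 1, 0, 0, 0, 0, 0, 0, 0, 0], [0, 0, 0, 0, 0, 0, 1, 0, 0, 0, 0, 0, 0, 0], [0, 0, 0, 0, 0, 0, 0, 1, 0, 0, 0, 0, 0, 0], [0, 0, 0, 0, 0, 0, 0, 0, 1, 0, 0, 0, 0, 0], [0, 0, 0, 0, 0, 0, 0, 0, 0, 1, 0, 0, 0, 0], [0, 0, 0, 0, 0, 0, 0, 0, 0, 0, 1, 0, 0, 0], [0, 0, 0, 0, 0, 0, 0, 0, 0, 0, 0, 1, 0, 0], [0, 0, 0, 0, 0, 0, 0, 0, 0, 0, 0, 0, 1, 0], [0, 0, 0, 0, 0, 0, 0, 0, 0, 0, 0, 0, 0, 1]]]),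
  ([(.d, true), (.f, true), (.d, true), (.f, true)],
   [[[1, 0, 1, 0, 0, 0, 1, 0, 0, 0, 0, 0, 0, 0], [0, 1, 0, 0, 0, 0, 0, 0, 0, 0, 0, 0, 0, 0], [0, 0, 1, 0, 0, 0, 0, 0, 0, 0, 0, 0, 0, 0], [0, 0, 0, 1, 0, 0, 0, 0, 0, 0, 0, 0, 0, 0], [0, 0, 0, 1, 1, 0, 0, 0, 0, 0, 0, 0, 0, 0], [0, 0, 0, 1, 0, 1, 0, 0, 0, 0, 0, 0, 0, 0], [0, 0, 0, 0, 0, 0, 1, 0, 0, 0, 0, 0, 0, 0], [0, 0, 0, 1, 1, 1, 0, 1, 0, 0, 0, 0, 0, 0], [0, 0, 0, 1, 0, 0, 0, 0, 1, 0, 0, 0, 0, 0], [0, 1, 0, 0, 0, 0, 1, 0, 0, 1, 0, 0, 0, 0], [0, 0, 0, 1, 1, 0, 0, 0, 1, 0, 1, 0, 0, 0], [0, 0, 0, 1, 0, 1, 0, 0, 1, 0, 0, 1, 0, 0], [0, 0, 0, 1, 1, 1, 0, 1, 1, 0, 1, 1, 1, 0], [0, 1, 1, 0, 0,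 0, 0, 0, 0, 0, 0, 0, 0, 1]],
    [[1, 0, 2, 0, 0, 0, 1, 0, 0, 0, 0, 0, 0, 0], [0, 1, 0, 0, 0, 0, 0, 0, 0, 0, 0, 0, 0, 0], [0, 0, 1, 0, 0, 0, 0, 0, 0, 0, 0, 0, 0, 0], [0, 0, 0, 1, 0, 0, 0, 0, 0, 0, 0, 0, 0, 0], [0, 0, 0, 1, 1, 0, 0, 0, 0, 0, 0, 0, 0, 0], [0, 0, 0, 1, 0, 1, 0, 0, 0, 0, 0, 0, 0, 0], [0, 0, 0, 0, 0, 0, 1, 0, 0, 0, 0, 0, 0, 0], [0, 0, 0, 1, 1, 1, 0, 1, 0, 0, 0, 0, 0, 0], [0, 0, 0, 2, 0, 0, 0, 0, 1, 0, 0, 0, 0, 0], [0, 1, 0, 0, 0, 0, 1, 0, 0, 1, 0, 0, 0, 0], [0, 0, 0, 2, 2, 0, 0, 0, 1, 0, 1, 0, 0, 0], [0, 0, 0, 2, 0, 2, 0, 0, 1, 0, 0, 1, 0, 0], [0, 0, 0, 2, 2, 2, 0, 2, 1, 0, 1, 1, 1, 0], [0, 2, 3, 0, 0, 0, 0, 0, 0, 0, 0, 0, 0,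 1]],
    [[1, 0, 3, 0, 0, 0, 0, 0, 0, 0, 0, 0, 0, 0], [0, 1, 0, 0, 0, 0, 0, 0, 0, 0, 0, 0, 0, 0], [0, 0, 1, 0, 0, 0, 0, 0, 0, 0, 0, 0, 0, 0], [0, 0, 0, 1, 0, 0, 0, 0, 0, 0, 0, 0, 0, 0], [0, 0, 0, 0, 1, 0, 0, 0, 0, 0, 0, 0, 0, 0], [0, 0, 0, 0, 0, 1, 0, 0, 0, 0, 0, 0, 0, 0], [0, 0, 0, 0, 0, 0, 1, 0, 0, 0, 0, 0, 0, 0], [0, 0, 0, 0, 0, 0, 0, 1, 0, 0, 0, 0, 0, 0], [0, 0, 0, 3, 0, 0, 0, 0, 1, 0, 0, 0, 0, 0], [0, 0, 0, 0, 0, 0, 0, 0, 0, 1, 0, 0, 0, 0], [0, 0, 0, 0, 3, 0, 0, 0, 0, 0, 1, 0, 0, 0], [0, 0, 0, 0, 0, 3, 0, 0, 0, 0, 0, 1, 0, 0], [0, 0, 0, 0, 0, 0, 0, 3, 0, 0, 0, 0, 1, 0], [0, 3, 2, 0, 0, 0, 0, 0, 0, 0, 0, 0, 0, 1]],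
    [[1, 0, 0, 0, 0, 0, 0, 0, 0, 0, 0, 0, 0, 0], [0, 1, 0, 0, 0, 0, 0, 0, 0, 0, 0, 0, 0, 0], [0, 0, 1, 0, 0, 0, 0, 0, 0, 0, 0, 0, 0, 0], [0, 0, 0, 1, 0, 0, 0, 0, 0, 0, 0, 0, 0, 0], [0, 0, 0, 0, 1, 0, 0, 0, 0, 0, 0, 0, 0, 0], [0, 0, 0, 0, 0, 1, 0, 0, 0, 0, 0, 0, 0, 0], [0, 0, 0, 0, 0, 0, 1, 0, 0, 0, 0, 0, 0, 0], [0, 0, 0, 0, 0, 0, 0, 1, 0, 0, 0, 0, 0, 0], [0, 0, 0, 0, 0, 0, 0, 0, 1, 0, 0, 0, 0, 0], [0, 0, 0, 0, 0, 0, 0, 0, 0, 1, 0, 0, 0, 0], [0, 0, 0, 0, 0, 0, 0, 0, 0, 0, 1, 0, 0, 0], [0, 0, 0, 0, 0, 0, 0, 0, 0, 0, 0, 1, 0, 0], [0, 0, 0, 0, 0, 0, 0, 0, 0, 0, 0, 0, 1, 0], [0, 0, 0, 0, 0, 0, 0, 0, 0, 0, 0, 0, 0, 1]]]),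
  ([(.e, true), (.a, true), (.e, true), (.a, true)],
   [[[1, 0, 2, 0, 0, 2, 0, 2, 0, 1, 0, 0, 0, 0], [0, 1, 3, 0, 2, 2, 0, 2, 0, 0, 0, 0, 0, 0], [0, 0, 1, 0, 0, 0, 0, 0, 0, 0, 0, 0, 0, 0], [0, 0, 2, 1, 1, 1, 0, 1, 0, 0, 0, 0, 0, 0], [0, 0, 2, 0, 1, 0, 0, 1, 0, 0, 0, 0, 0, 0], [0, 0, 2, 0, 0, 1, 0, 1, 0, 0, 0, 0, 0, 0], [0, 1, 0, 2, 2, 0, 1, 0, 0, 1, 0, 0, 0, 0], [0, 0, 0, 0, 0, 0, 0, 1, 0, 0, 0, 0, 0, 0], [2, 2, 2, 2, 1, 1, 2, 1, 1, 0, 1, 1, 1, 0], [0, 0, 3, 0, 0, 0, 0, 2, 0, 1, 0, 0, 0, 0], [2, 2, 2, 3, 1, 0, 0, 1, 0, 0, 1, 0, 1, 0], [2, 0, 2, 0, 3, 1, 0, 1, 0, 2, 0, 1, 1, 0], [0, 0, 1, 0, 0, 3, 0, 2, 0, 2, 0, 0, 1, 0], [3, 2, 2, 1, 2,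 2, 3, 2, 0, 0, 2, 2, 2, 1]],
    [[1, 0, 3, 0, 0, 2, 0, 2, 0, 1, 0, 0, 0, 0], [0, 1, 3, 0, 2, 2, 0, 2, 0, 0, 0, 0, 0, 0], [0, 0, 1, 0, 0, 0, 0, 0, 0, 0, 0, 0, 0, 0], [0, 0, 2, 1, 1, 1, 0, 1, 0, 0, 0, 0, 0, 0], [0, 0, 2, 0, 1, 0, 0, 1, 0, 0, 0, 0, 0, 0], [0, 0, 2, 0, 0, 1, 0, 1, 0, 0, 0, 0, 0, 0], [0, 1, 0, 2, 2, 0, 1, 0, 0, 1, 0, 0, 0, 0], [0, 0, 0, 0, 0, 0, 0, 1, 0, 0, 0, 0, 0, 0], [2, 2, 0, 3, 0, 0, 2, 0, 1, 0, 1, 1, 1, 0], [0, 0, 3, 0, 0, 0, 0, 2, 0, 1, 0, 0, 0, 0], [2, 2, 0, 3, 0, 0, 0, 0, 0, 0, 1, 0, 1, 0], [2, 0, 0, 0, 3, 0, 0, 0, 0, 2, 0, 1, 1, 0], [0, 0, 1, 0, 0, 3, 0, 3, 0, 2, 0, 0, 1, 0], [3, 3, 0, 1, 0, 0, 3, 0, 0, 0, 2, 2, 2,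 1]],
    [[1, 0, 1, 0, 0, 0, 0, 0, 0, 0, 0, 0, 0, 0], [0, 1, 0, 0, 0, 0, 0, 0, 0, 0, 0, 0, 0, 0], [0, 0, 1, 0, 0, 0, 0, 0, 0, 0, 0, 0, 0, 0], [0, 0, 0, 1, 0, 0, 0, 0, 0, 0, 0, 0, 0, 0], [0, 0, 0, 0, 1, 0, 0, 0, 0, 0, 0, 0, 0, 0], [0, 0, 0, 0, 0, 1, 0, 0, 0, 0, 0, 0, 0, 0], [0, 0, 0, 0, 0, 0, 1, 0, 0, 0, 0, 0, 0, 0], [0, 0, 0, 0, 0, 0, 0, 1, 0, 0, 0, 0, 0, 0], [0, 0, 0, 1, 0, 0, 0, 0, 1, 0, 0, 0, 0, 0], [0, 0, 0, 0, 0, 0, 0, 0, 0, 1, 0, 0, 0, 0], [0, 0, 0, 0, 1, 0, 0, 0, 0, 0, 1, 0, 0, 0], [0, 0, 0, 0, 0, 1, 0, 0, 0, 0, 0, 1, 0, 0], [0, 0, 0, 0, 0, 0, 0, 1, 0, 0, 0, 0, 1, 0], [0, 1, 1, 0, 0, 0, 0, 0, 0, 0, 0, 0, 0, 1]],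
    [[1, 0, 0, 0, 0, 0, 0, 0, 0, 0, 0, 0, 0, 0], [0, 1, 0, 0, 0, 0, 0, 0, 0, 0, 0, 0, 0, 0], [0, 0, 1, 0, 0, 0, 0, 0, 0, 0, 0, 0, 0, 0], [0, 0, 0, 1, 0, 0, 0, 0, 0, 0, 0, 0, 0, 0], [0, 0, 0, 0, 1, 0, 0, 0, 0, 0, 0, 0, 0, 0], [0, 0, 0, 0, 0, 1, 0, 0, 0, 0, 0, 0, 0, 0], [0, 0, 0, 0, 0, 0, 1, 0, 0, 0, 0, 0, 0, 0], [0, 0, 0, 0, 0, 0, 0, 1, 0, 0, 0, 0, 0, 0], [0, 0, 0, 0, 0, 0, 0, 0, 1, 0, 0, 0, 0, 0], [0, 0, 0, 0, 0, 0, 0, 0, 0, 1, 0, 0, 0, 0], [0, 0, 0, 0, 0, 0, 0, 0, 0, 0, 1, 0, 0, 0], [0, 0, 0, 0, 0, 0, 0, 0, 0, 0, 0, 1, 0, 0], [0, 0, 0, 0, 0, 0, 0, 0, 0, 0, 0, 0, 1, 0], [0, 0, 0, 0, 0, 0, 0, 0, 0, 0, 0, 0, 0, 1]]]),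
  ([(.e, true), (.b, true), (.e, true), (.b, true)],
   [[[1, 0, 2, 0, 0, 2, 0, 2, 0, 1, 0, 0, 0, 0], [0, 1, 3, 0, 2, 2, 0, 2, 0, 0, 0, 0, 0, 0], [0, 0, 1, 0, 0, 0, 0, 0, 0, 0, 0, 0, 0, 0], [0, 0, 2, 1, 1, 1, 0, 1, 0, 0, 0, 0, 0, 0], [0, 0, 2, 0, 1, 0, 0, 1, 0, 0, 0, 0, 0, 0], [0, 0, 2, 0, 0, 1, 0, 1, 0, 0, 0, 0, 0, 0], [0, 1, 0, 2, 2, 0, 1, 0, 0, 1, 0, 0, 0, 0], [0, 0, 0, 0, 0, 0, 0, 1, 0, 0, 0, 0, 0, 0], [2, 2, 2, 2, 1, 1, 2, 1, 1, 0, 1, 1, 1, 0], [0, 0, 3, 0, 0, 0, 0, 2, 0, 1, 0, 0, 0, 0], [2, 2, 2, 3, 1, 0, 0, 1, 0, 0, 1, 0, 1, 0], [2, 0, 2, 0, 3, 1, 0, 1, 0, 2, 0, 1, 1, 0], [0, 0, 1, 0, 0, 3, 0, 2, 0, 2, 0, 0, 1, 0], [3, 2, 2, 1, 2,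 2, 3, 2, 0, 0, 2, 2, 2, 1]],
    [[3, 1, 0, 0, 2, 0, 0, 1, 0, 2, 1, 3, 1, 2], [2, 3, 0, 3, 0, 2, 3, 0, 2, 0, 2, 2, 3, 3], [3, 2, 1, 1, 0, 2, 2, 3, 1, 3, 3, 3, 0, 3], [3, 1, 3, 3, 0, 1, 1, 3, 2, 2, 2, 2, 2, 0], [2, 3, 2, 2, 0, 2, 2, 2, 1, 1, 1, 3, 2, 3], [2, 1, 3, 3, 1, 1, 1, 0, 1, 1, 3, 1, 2, 3], [0, 2, 1, 1, 3, 2, 2, 1, 3, 0, 1, 1, 2, 3], [2, 0, 2, 3, 3, 1, 3, 0, 2, 3, 1, 1, 2, 1], [0, 1, 2, 0, 0, 3, 0, 2, 0, 1, 0, 2, 3, 3], [3, 0, 1, 3, 1, 3, 1, 0, 3, 2, 1, 2, 1, 2], [2, 0, 3, 2, 0, 2, 3, 3, 1, 2, 1, 2, 1, 2], [0, 2, 2, 1, 3, 0, 1, 0, 3, 3, 1, 0, 0, 0], [3, 0, 3, 2, 1, 2, 3, 0, 3, 1, 3, 2, 3, 1], [0, 0, 1, 3, 2, 3, 1, 2, 2, 1, 3, 2, 3,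 1]],
    [[1, 0, 1, 1, 0, 0, 1, 0, 0, 2, 2, 0, 0, 2], [3, 1, 2, 3, 3, 0, 2, 1, 2, 3, 1, 1, 0, 3], [3, 2, 1, 1, 0, 2, 2, 3, 1, 3, 3, 3, 0, 3], [0, 0, 2, 3, 2, 0, 2, 0, 2, 0, 0, 0, 0, 0], [1, 0, 2, 3, 3, 0, 2, 3, 1, 3, 1, 3, 0, 3], [1, 2, 3, 2, 2, 3, 1, 1, 1, 3, 3, 1, 0, 3], [3, 2, 2, 3, 2, 2, 1, 3, 3, 3, 3, 3, 0, 3], [2, 0, 2, 3, 3, 1, 3, 0, 2, 3, 1, 1, 2, 1], [1, 0, 2, 3, 2, 0, 2, 3, 0, 3, 1, 3, 0, 3], [2, 1, 1, 1, 0, 0, 1, 2, 3, 1, 1, 2, 2, 2], [0, 0, 0, 0, 1, 0, 0, 0, 1, 2, 3, 0, 0, 2], [3, 0, 1, 1, 1, 1, 0, 2, 3, 2, 2, 3, 2, 0], [3, 1, 1, 1, 1, 0, 1, 3, 3, 3, 2, 3, 3, 1], [2, 1, 1, 1, 1, 0, 1, 2, 2, 2, 3, 2, 2, 1]],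
    [[1, 0, 0, 0, 0, 0, 0, 0, 0, 0, 0, 0, 0, 0], [0, 1, 0, 0, 0, 0, 0, 0, 0, 0, 0, 0, 0, 0], [0, 0, 1, 0, 0, 0, 0, 0, 0, 0, 0, 0, 0, 0], [0, 0, 0, 1, 0, 0, 0, 0, 0, 0, 0, 0, 0, 0], [0, 0, 0, 0, 1, 0, 0, 0, 0, 0, 0, 0, 0, 0], [0, 0, 0, 0, 0, 1, 0, 0, 0, 0, 0, 0, 0, 0], [0, 0, 0, 0, 0, 0, 1, 0, 0, 0, 0, 0, 0, 0], [0, 0, 0, 0, 0, 0, 0, 1, 0, 0, 0, 0, 0, 0], [0, 0, 0, 0, 0, 0, 0, 0, 1, 0, 0, 0, 0, 0], [0, 0, 0, 0, 0, 0, 0, 0, 0, 1, 0, 0, 0, 0], [0, 0, 0, 0, 0, 0, 0, 0, 0, 0, 1, 0, 0, 0], [0, 0, 0, 0, 0, 0, 0, 0, 0, 0, 0, 1, 0, 0], [0, 0, 0, 0, 0, 0, 0, 0, 0, 0, 0, 0, 1, 0], [0, 0, 0, 0, 0, 0, 0, 0, 0, 0, 0, 0, 0, 1]]]),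
  ([(.e, true), (.c, true), (.e, true), (.c, true)],
   [[[1, 0, 2, 0, 0, 2, 0, 2, 0, 1, 0, 0, 0, 0], [0, 1, 3, 0, 2, 2, 0, 2, 0, 0, 0, 0, 0, 0], [0, 0, 1, 0, 0, 0, 0, 0, 0, 0, 0, 0, 0, 0], [0, 0, 2, 1, 1, 1, 0, 1, 0, 0, 0, 0, 0, 0], [0, 0, 2, 0, 1, 0, 0, 1, 0, 0, 0, 0, 0, 0], [0, 0, 2, 0, 0, 1, 0, 1, 0, 0, 0, 0, 0, 0], [0, 1, 0, 2, 2, 0, 1, 0, 0, 1, 0, 0, 0, 0], [0, 0, 0, 0, 0, 0, 0, 1, 0, 0, 0, 0, 0, 0], [2, 2, 2, 2, 1, 1, 2, 1, 1, 0, 1, 1, 1, 0], [0, 0, 3, 0, 0, 0, 0, 2, 0, 1, 0, 0, 0, 0], [2, 2, 2, 3, 1, 0, 0, 1, 0, 0, 1, 0, 1, 0], [2, 0, 2, 0, 3, 1, 0, 1, 0, 2, 0, 1, 1, 0], [0, 0, 1, 0, 0, 3, 0, 2, 0, 2, 0, 0, 1, 0], [3, 2, 2, 1, 2,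 2, 3, 2, 0, 0, 2, 2, 2, 1]],
    [[1, 0, 3, 0, 0, 2, 0, 2, 0, 1, 0, 0, 0, 0], [0, 1, 3, 0, 2, 2, 0, 3, 0, 0, 0, 0, 0, 0], [0, 0, 1, 0, 0, 0, 0, 0, 0, 0, 0, 0, 0, 0], [0, 0, 3, 1, 1, 1, 0, 1, 0, 0, 0, 0, 0, 0], [0, 0, 2, 0, 1, 0, 0, 1, 0, 0, 0, 0, 0, 0], [0, 0, 2, 0, 0, 1, 0, 1, 0, 0, 0, 0, 0, 0], [0, 1, 2, 2, 2, 1, 1, 1, 0, 1, 0, 0, 0, 0], [0, 0, 0, 0, 0, 0, 0, 1, 0, 0, 0, 0, 0, 0], [3, 2, 3, 3, 0, 2, 2, 3, 1, 1, 1, 1, 1, 0], [0, 0, 3, 0, 0, 0, 0, 2, 0, 1, 0, 0, 0, 0], [2, 2, 3, 3, 0, 0, 0, 2, 0, 1, 1, 0, 1, 0], [2, 0, 0, 0, 3, 0, 0, 0, 0, 2, 0, 1, 1, 0], [0, 0, 1, 0, 0, 3, 0, 3, 0, 2, 0, 0, 1, 0], [3, 3, 1, 1, 0, 3, 3, 3, 0, 2, 2, 2, 3,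 1]],
    [[1, 0, 1, 0, 0, 0, 0, 0, 0, 0, 0, 0, 0, 0], [0, 1, 0, 0, 0, 0, 0, 1, 0, 0, 0, 0, 0, 0], [0, 0, 1, 0, 0, 0, 0, 0, 0, 0, 0, 0, 0, 0], [0, 0, 1, 1, 0, 0, 0, 0, 0, 0, 0, 0, 0, 0], [0, 0, 0, 0, 1, 0, 0, 0, 0, 0, 0, 0, 0, 0], [0, 0, 0, 0, 0, 1, 0, 0, 0, 0, 0, 0, 0, 0], [0, 0, 0, 0, 0, 1, 1, 0, 0, 0, 0, 0, 0, 0], [0, 0, 0, 0, 0, 0, 0, 1, 0, 0, 0, 0, 0, 0], [1, 0, 1, 1, 0, 0, 0, 1, 1, 0, 0, 0, 0, 0], [0, 0, 0, 0, 0, 0, 0, 0, 0, 1, 0, 0, 0, 0], [0, 0, 0, 0, 1, 0, 0, 0, 0, 1, 1, 0, 0, 0], [0, 0, 0, 0, 0, 1, 0, 0, 0, 0, 0, 1, 0, 0], [0, 0, 0, 0, 0, 0, 0, 1, 0, 0, 0, 0, 1, 0], [0, 1, 1, 0, 0, 0, 0, 1, 0, 0, 0, 0, 1, 1]],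
    [[1, 0, 0, 0, 0, 0, 0, 0, 0, 0, 0, 0, 0, 0], [0, 1, 0, 0, 0, 0, 0, 0, 0, 0, 0, 0, 0, 0], [0, 0, 1, 0, 0, 0, 0, 0, 0, 0, 0, 0, 0, 0], [0, 0, 0, 1, 0, 0, 0, 0, 0, 0, 0, 0, 0, 0], [0, 0, 0, 0, 1, 0, 0, 0, 0, 0, 0, 0, 0, 0], [0, 0, 0, 0, 0, 1, 0, 0, 0, 0, 0, 0, 0, 0], [0, 0, 0, 0, 0, 0, 1, 0, 0, 0, 0, 0, 0, 0], [0, 0, 0, 0, 0, 0, 0, 1, 0, 0, 0, 0, 0, 0], [0, 0, 0, 0, 0, 0, 0, 0, 1, 0, 0, 0, 0, 0], [0, 0, 0, 0, 0, 0, 0, 0, 0, 1, 0, 0, 0, 0], [0, 0, 0, 0, 0, 0, 0, 0, 0, 0, 1, 0, 0, 0], [0, 0, 0, 0, 0, 0, 0, 0, 0, 0, 0, 1, 0, 0], [0, 0, 0, 0, 0, 0, 0, 0, 0, 0, 0, 0, 1, 0], [0, 0, 0, 0, 0, 0, 0, 0, 0, 0, 0, 0, 0, 1]]]),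
  ([(.e, true), (.d, true), (.e, true), (.d, true), (.e, true), (.d, true)],
   [[[1, 0, 2, 0, 0, 2, 0, 2, 0, 1, 0, 0, 0, 0], [0, 1, 3, 0, 2, 2, 0, 2, 0, 0, 0, 0, 0, 0], [0, 0, 1, 0, 0, 0, 0, 0, 0, 0, 0, 0, 0, 0], [0, 0, 2, 1, 1, 1, 0, 1, 0, 0, 0, 0, 0, 0], [0, 0, 2, 0, 1, 0, 0, 1, 0, 0, 0, 0, 0, 0], [0, 0, 2, 0, 0, 1, 0, 1, 0, 0, 0, 0, 0, 0], [0, 1, 0, 2, 2, 0, 1, 0, 0, 1, 0, 0, 0, 0], [0, 0, 0, 0, 0, 0, 0, 1, 0, 0, 0, 0, 0, 0], [2, 2, 2, 2, 1, 1, 2, 1, 1, 0, 1, 1, 1, 0], [0, 0, 3, 0, 0, 0, 0, 2, 0, 1, 0, 0, 0, 0], [2, 2, 2, 3, 1, 0, 0, 1, 0, 0, 1, 0, 1, 0], [2, 0, 2, 0, 3, 1, 0, 1, 0, 2, 0, 1, 1, 0], [0, 0, 1, 0, 0, 3, 0, 2, 0, 2, 0,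 0, 1, 0], [3, 2, 2, 1, 2, 2, 3, 2, 0, 0, 2, 2, 2, 1]],
    [[1, 1, 3, 0, 2, 0, 0, 2, 0, 1, 0, 0, 0, 0], [0, 1, 3, 2, 0, 0, 0, 2, 0, 0, 0, 0, 0, 0], [0, 0, 1, 0, 0, 0, 0, 0, 0, 0, 0, 0, 0, 0], [0, 0, 2, 0, 0, 0, 0, 1, 0, 0, 0, 0, 0, 0], [0, 0, 2, 0, 0, 1, 0, 1, 0, 0, 0, 0, 0, 0], [0, 0, 2, 0, 1, 0, 0, 1, 0, 0, 0, 0, 0, 0], [0, 0, 0, 0, 2, 0, 0, 0, 0, 1, 0, 0, 0, 0], [0, 0, 0, 1, 1, 1, 0, 1, 0, 0, 0, 0, 0, 0], [2, 2, 0, 3, 0, 0, 0, 0, 0, 0, 0, 0, 1, 0], [0, 1, 3, 2, 2, 2, 1, 2, 0, 1, 0, 0, 0, 0], [2, 2, 0, 3, 0, 0, 2, 0, 0, 0, 0, 1, 1, 0], [2, 2, 0, 3, 3, 0, 0, 0, 0, 2, 1, 0, 1, 0], [0, 2, 1, 0, 3, 0, 2, 3, 1, 2, 1, 1, 1, 0], [3, 3, 0, 1,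 0, 0, 0, 0, 2, 0, 0, 0, 2, 1]],
    [[1, 1, 2, 0, 0, 0, 0, 2, 0, 0, 0, 0, 0, 0], [0, 1, 3, 2, 0, 0, 0, 2, 0, 0, 0, 0, 0, 0], [0, 0, 1, 0, 0, 0, 0, 0, 0, 0, 0, 0, 0, 0], [0, 0, 2, 0, 0, 0, 0, 1, 0, 0, 0, 0, 0, 0], [0, 0, 0, 0, 0, 1, 0, 0, 0, 0, 0, 0, 0, 0], [0, 0, 0, 0, 1, 0, 0, 0, 0, 0, 0, 0, 0, 0], [0, 0, 0, 0, 2, 0, 0, 0, 0, 1, 0, 0, 0, 0], [0, 0, 2, 1, 0, 0, 0, 0, 0, 0, 0, 0, 0, 0], [2, 2, 2, 3, 0, 0, 0, 1, 0, 0, 0, 0, 1, 0], [0, 0, 0, 0, 0, 2, 1, 0, 0, 0, 0, 0, 0, 0], [0, 0, 0, 0, 0, 1, 2, 0, 0, 0, 0, 1, 0, 0], [0, 0, 0, 0, 2, 0, 0, 0, 0, 2, 1, 0, 0, 0], [2, 0, 3, 2, 0, 0, 0, 3, 1, 0, 0, 0, 0, 0], [3, 2, 2, 3, 0, 0, 0, 2, 2, 0, 0, 0,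 2, 1]],
    [[1, 1, 3, 2, 2, 2, 1, 2, 0, 0, 0, 0, 0, 0], [0, 1, 3, 0, 2, 2, 0, 2, 0, 0, 0, 0, 0, 0], [0, 0, 1, 0, 0, 0, 0, 0, 0, 0, 0, 0, 0, 0], [0, 0, 2, 1, 1, 1, 0, 1, 0, 0, 0, 0, 0, 0], [0, 0, 0, 1, 0, 1, 0, 0, 0, 0, 0, 0, 0, 0], [0, 0, 0, 1, 1, 0, 0, 0, 0, 0, 0, 0, 0, 0], [0, 1, 0, 2, 2, 0, 1, 0, 0, 1, 0, 0, 0, 0], [0, 0, 2, 1, 0, 0, 0, 0, 0, 0, 0, 0, 0, 0], [2, 2, 0, 3, 0, 0, 2, 0, 1, 0, 1, 1, 1, 0], [0, 0, 0, 2, 0, 2, 1, 0, 0, 0, 0, 0, 0, 0], [0, 0, 0, 0, 0, 0, 2, 0, 1, 0, 0, 1, 0, 0], [0, 2, 0, 3, 3, 0, 2, 0, 1, 2, 1, 0, 0, 0], [2, 0, 1, 0, 3, 3, 2, 3, 1, 0, 0, 0, 0, 0], [3, 3, 0, 1, 0, 0, 3, 0, 0, 0, 2, 2, 2, 1]],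
    [[1, 0, 1, 0, 0, 0, 1, 0, 0, 0, 0, 0, 0, 0], [0, 1, 0, 0, 0, 0, 0, 0, 0, 0, 0, 0, 0, 0], [0, 0, 1, 0, 0, 0, 0, 0, 0, 0, 0, 0, 0, 0], [0, 0, 0, 1, 0, 0, 0, 0, 0, 0, 0, 0, 0, 0], [0, 0, 0, 1, 1, 0, 0, 0, 0, 0, 0, 0, 0, 0], [0, 0, 0, 1, 0, 1, 0, 0, 0, 0, 0, 0, 0, 0], [0, 0, 0, 0, 0, 0, 1, 0, 0, 0, 0, 0, 0, 0], [0, 0, 0, 1, 1, 1, 0, 1, 0, 0, 0, 0, 0, 0], [0, 0, 0, 1, 0, 0, 0, 0, 1, 0, 0, 0, 0, 0], [0, 1, 0, 0, 0, 0, 1, 0, 0, 1, 0, 0, 0, 0], [0, 0, 0, 1, 1, 0, 0, 0, 1, 0, 1, 0, 0, 0], [0, 0, 0, 1, 0, 1, 0, 0, 1, 0, 0, 1, 0, 0], [0, 0, 0, 1, 1, 1, 0, 1, 1, 0, 1, 1, 1, 0], [0, 1, 1, 0, 0, 0, 0, 0, 0, 0, 0, 0, 0, 1]],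
    [[1, 0, 0, 0, 0, 0, 0, 0, 0, 0, 0, 0, 0, 0], [0, 1, 0, 0, 0, 0, 0, 0, 0, 0, 0, 0, 0, 0], [0, 0, 1, 0, 0, 0, 0, 0, 0, 0, 0, 0, 0, 0], [0, 0, 0, 1, 0, 0, 0, 0, 0, 0, 0, 0, 0, 0], [0, 0, 0, 0, 1, 0, 0, 0, 0, 0, 0, 0, 0, 0], [0, 0, 0, 0, 0, 1, 0, 0, 0, 0, 0, 0, 0, 0], [0, 0, 0, 0, 0, 0, 1, 0, 0, 0, 0, 0, 0, 0], [0, 0, 0, 0, 0, 0, 0, 1, 0, 0, 0, 0, 0, 0], [0, 0, 0, 0, 0, 0, 0, 0, 1, 0, 0, 0, 0, 0], [0, 0, 0, 0, 0, 0, 0, 0, 0, 1, 0, 0, 0, 0], [0, 0, 0, 0, 0, 0, 0, 0, 0, 0, 1, 0, 0, 0], [0, 0, 0, 0, 0, 0, 0, 0, 0, 0, 0, 1, 0, 0], [0, 0, 0, 0, 0, 0, 0, 0, 0, 0, 0, 0, 1, 0], [0, 0, 0, 0, 0, 0, 0, 0, 0, 0, 0, 0, 0, 1]]]),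
  ([(.e, true), (.e, true)],
   [[[1, 0, 2, 0, 0, 2, 0, 2, 0, 1, 0, 0, 0, 0], [0, 1, 3, 0, 2, 2, 0, 2, 0, 0, 0, 0, 0, 0], [0, 0, 1, 0, 0, 0, 0, 0, 0, 0, 0, 0, 0, 0], [0, 0, 2, 1, 1, 1, 0, 1, 0, 0, 0, 0, 0, 0], [0, 0, 2, 0, 1, 0, 0, 1, 0, 0, 0, 0, 0, 0], [0, 0, 2, 0, 0, 1, 0, 1, 0, 0, 0, 0, 0, 0], [0, 1, 0, 2, 2, 0, 1, 0, 0, 1, 0, 0, 0, 0], [0, 0, 0, 0, 0, 0, 0, 1, 0, 0, 0, 0, 0, 0], [2, 2, 2, 2, 1, 1, 2, 1, 1, 0, 1, 1, 1, 0], [0, 0, 3, 0, 0, 0, 0, 2, 0, 1, 0, 0, 0, 0], [2, 2, 2, 3, 1, 0, 0, 1, 0, 0, 1, 0, 1, 0], [2, 0, 2, 0, 3, 1, 0, 1, 0, 2, 0, 1, 1, 0], [0, 0, 1, 0, 0, 3, 0, 2, 0, 2, 0, 0, 1, 0], [3, 2, 2, 1, 2, 2, 3, 2, 0, 0, 2, 2, 2,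 1]],
    [[1, 0, 0, 0, 0, 0, 0, 0, 0, 0, 0, 0, 0, 0], [0, 1, 0, 0, 0, 0, 0, 0, 0, 0, 0, 0, 0, 0], [0, 0, 1, 0, 0, 0, 0, 0, 0, 0, 0, 0, 0, 0], [0, 0, 0, 1, 0, 0, 0, 0, 0, 0, 0, 0, 0, 0], [0, 0, 0, 0, 1, 0, 0, 0, 0, 0, 0, 0, 0, 0], [0, 0, 0, 0, 0, 1, 0, 0, 0, 0, 0, 0, 0, 0], [0, 0, 0, 0, 0, 0, 1, 0, 0, 0, 0, 0, 0, 0], [0, 0, 0, 0, 0, 0, 0, 1, 0, 0, 0, 0, 0, 0], [0, 0, 0, 0, 0, 0, 0, 0, 1, 0, 0, 0, 0, 0], [0, 0, 0, 0, 0, 0, 0, 0, 0, 1, 0, 0, 0, 0], [0, 0, 0, 0, 0, 0, 0, 0, 0, 0, 1, 0, 0, 0], [0, 0, 0, 0, 0, 0, 0, 0, 0, 0, 0, 1, 0, 0], [0, 0, 0, 0, 0, 0, 0, 0, 0, 0, 0, 0, 1, 0], [0, 0, 0, 0, 0, 0, 0, 0, 0, 0, 0, 0, 0, 1]]]),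
  ([(.e, true), (.f, true), (.e, true), (.f, true)],
   [[[1, 0, 2, 0, 0, 2, 0, 2, 0, 1, 0, 0, 0, 0], [0, 1, 3, 0, 2, 2, 0, 2, 0, 0, 0, 0, 0, 0], [0, 0, 1, 0, 0, 0, 0, 0, 0, 0, 0, 0, 0, 0], [0, 0, 2, 1, 1, 1, 0, 1, 0, 0, 0, 0, 0, 0], [0, 0, 2, 0, 1, 0, 0, 1, 0, 0, 0, 0, 0, 0], [0, 0, 2, 0, 0, 1, 0, 1, 0, 0, 0, 0, 0, 0], [0, 1, 0, 2, 2, 0, 1, 0, 0, 1, 0, 0, 0, 0], [0, 0, 0, 0, 0, 0, 0, 1, 0, 0, 0, 0, 0, 0], [2, 2, 2, 2, 1, 1, 2, 1, 1, 0, 1, 1, 1, 0], [0, 0, 3, 0, 0, 0, 0, 2, 0, 1, 0, 0, 0, 0], [2, 2, 2, 3, 1, 0, 0, 1, 0, 0, 1, 0, 1, 0], [2, 0, 2, 0, 3, 1, 0, 1, 0, 2, 0, 1, 1, 0], [0, 0, 1, 0, 0, 3, 0, 2, 0, 2, 0, 0, 1, 0], [3, 2, 2, 1, 2,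 2, 3, 2, 0, 0, 2, 2, 2, 1]],
    [[1, 0, 1, 0, 0, 2, 0, 2, 0, 1, 0, 0, 0, 0], [0, 1, 3, 0, 2, 2, 0, 2, 0, 0, 0, 0, 0, 0], [0, 0, 1, 0, 0, 0, 0, 0, 0, 0, 0, 0, 0, 0], [0, 0, 2, 1, 1, 1, 0, 1, 0, 0, 0, 0, 0, 0], [0, 0, 2, 0, 1, 0, 0, 1, 0, 0, 0, 0, 0, 0], [0, 0, 2, 0, 0, 1, 0, 1, 0, 0, 0, 0, 0, 0], [0, 1, 0, 2, 2, 0, 1, 0, 0, 1, 0, 0, 0, 0], [0, 0, 0, 0, 0, 0, 0, 1, 0, 0, 0, 0, 0, 0], [2, 2, 3, 1, 2, 2, 2, 2, 1, 0, 1, 1, 1, 0], [0, 0, 3, 0, 0, 0, 0, 2, 0, 1, 0, 0, 0, 0], [2, 2, 3, 3, 2, 0, 0, 2, 0, 0, 1, 0, 1, 0], [2, 0, 3, 0, 3, 2, 0, 2, 0, 2, 0, 1, 1, 0], [0, 0, 1, 0, 0, 3, 0, 1, 0, 2, 0, 0, 1, 0], [3, 1, 2, 1, 3, 3, 3, 3, 0, 0, 2, 2, 2,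 1]],
    [[1, 0, 3, 0, 0, 0, 0, 0, 0, 0, 0, 0, 0, 0], [0, 1, 0, 0, 0, 0, 0, 0, 0, 0, 0, 0, 0, 0], [0, 0, 1, 0, 0, 0, 0, 0, 0, 0, 0, 0, 0, 0], [0, 0, 0, 1, 0, 0, 0, 0, 0, 0, 0, 0, 0, 0], [0, 0, 0, 0, 1, 0, 0, 0, 0, 0, 0, 0, 0, 0], [0, 0, 0, 0, 0, 1, 0, 0, 0, 0, 0, 0, 0, 0], [0, 0, 0, 0, 0, 0, 1, 0, 0, 0, 0, 0, 0, 0], [0, 0, 0, 0, 0, 0, 0, 1, 0, 0, 0, 0, 0, 0], [0, 0, 0, 3, 0, 0, 0, 0, 1, 0, 0, 0, 0, 0], [0, 0, 0, 0, 0, 0, 0, 0, 0, 1, 0, 0, 0, 0], [0, 0, 0, 0, 3, 0, 0, 0, 0, 0, 1, 0, 0, 0], [0, 0, 0, 0, 0, 3, 0, 0, 0, 0, 0, 1, 0, 0], [0, 0, 0, 0, 0, 0, 0, 3, 0, 0, 0, 0, 1, 0], [0, 3, 2, 0, 0, 0, 0, 0, 0, 0, 0, 0, 0, 1]],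
    [[1, 0, 0, 0, 0, 0, 0, 0, 0, 0, 0, 0, 0, 0], [0, 1, 0, 0, 0, 0, 0, 0, 0, 0, 0, 0, 0, 0], [0, 0, 1, 0, 0, 0, 0, 0, 0, 0, 0, 0, 0, 0], [0, 0, 0, 1, 0, 0, 0, 0, 0, 0, 0, 0, 0, 0], [0, 0, 0, 0, 1, 0, 0, 0, 0, 0, 0, 0, 0, 0], [0, 0, 0, 0, 0, 1, 0, 0, 0, 0, 0, 0, 0, 0], [0, 0, 0, 0, 0, 0, 1, 0, 0, 0, 0, 0, 0, 0], [0, 0, 0, 0, 0, 0, 0, 1, 0, 0, 0, 0, 0, 0], [0, 0, 0, 0, 0, 0, 0, 0, 1, 0, 0, 0, 0, 0], [0, 0, 0, 0, 0, 0, 0, 0, 0, 1, 0, 0, 0, 0], [0, 0, 0, 0, 0, 0, 0, 0, 0, 0, 1, 0, 0, 0], [0, 0, 0, 0, 0, 0, 0, 0, 0, 0, 0, 1, 0, 0], [0, 0, 0, 0, 0, 0, 0, 0, 0, 0, 0, 0, 1, 0], [0, 0, 0, 0, 0, 0, 0, 0, 0, 0, 0, 0, 0, 1]]]),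
  ([(.f, true), (.a, true), (.f, true), (.a, true)],
   [[[1, 0, 3, 0, 0, 0, 0, 0, 0, 0, 0, 0, 0, 0], [0, 1, 0, 0, 0, 0, 0, 0, 0, 0, 0, 0, 0, 0], [0, 0, 1, 0, 0, 0, 0, 0, 0, 0, 0, 0, 0, 0], [0, 0, 0, 1, 0, 0, 0, 0, 0, 0, 0, 0, 0, 0], [0, 0, 0, 0, 1, 0, 0, 0, 0, 0, 0, 0, 0, 0], [0, 0, 0, 0, 0, 1, 0, 0, 0, 0, 0, 0, 0, 0], [0, 0, 0, 0, 0, 0, 1, 0, 0, 0, 0, 0, 0, 0], [0, 0, 0, 0, 0, 0, 0, 1, 0, 0, 0, 0, 0, 0], [0, 0, 0, 3, 0, 0, 0, 0, 1, 0, 0, 0, 0, 0], [0, 0, 0, 0, 0, 0, 0, 0, 0, 1, 0, 0, 0, 0], [0, 0, 0, 0, 3, 0, 0, 0, 0, 0, 1, 0, 0, 0], [0, 0, 0, 0, 0, 3, 0, 0, 0, 0, 0, 1, 0, 0], [0, 0, 0, 0, 0, 0, 0, 3, 0, 0, 0, 0, 1, 0], [0, 3, 2, 0, 0,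 0, 0, 0, 0, 0, 0, 0, 0, 1]],
    [[1, 0, 2, 0, 0, 0, 0, 0, 0, 0, 0, 0, 0, 0], [0, 1, 0, 0, 0, 0, 0, 0, 0, 0, 0, 0, 0, 0], [0, 0, 1, 0, 0, 0, 0, 0, 0, 0, 0, 0, 0, 0], [0, 0, 0, 1, 0, 0, 0, 0, 0, 0, 0, 0, 0, 0], [0, 0, 0, 0, 1, 0, 0, 0, 0, 0, 0, 0, 0, 0], [0, 0, 0, 0, 0, 1, 0, 0, 0, 0, 0, 0, 0, 0], [0, 0, 0, 0, 0, 0, 1, 0, 0, 0, 0, 0, 0, 0], [0, 0, 0, 0, 0, 0, 0, 1, 0, 0, 0, 0, 0, 0], [0, 0, 0, 2, 0, 0, 0, 0, 1, 0, 0, 0, 0, 0], [0, 0, 0, 0, 0, 0, 0, 0, 0, 1, 0, 0, 0, 0], [0, 0, 0, 0, 2, 0, 0, 0, 0, 0, 1, 0, 0, 0], [0, 0, 0, 0, 0, 2, 0, 0, 0, 0, 0, 1, 0, 0], [0, 0, 0, 0, 0, 0, 0, 2, 0, 0, 0, 0, 1, 0], [0, 2, 3, 0, 0, 0, 0, 0, 0, 0, 0, 0, 0,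 1]],
    [[1, 0, 1, 0, 0, 0, 0, 0, 0, 0, 0, 0, 0, 0], [0, 1, 0, 0, 0, 0, 0, 0, 0, 0, 0, 0, 0, 0], [0, 0, 1, 0, 0, 0, 0, 0, 0, 0, 0, 0, 0, 0], [0, 0, 0, 1, 0, 0, 0, 0, 0, 0, 0, 0, 0, 0], [0, 0, 0, 0, 1, 0, 0, 0, 0, 0, 0, 0, 0, 0], [0, 0, 0, 0, 0, 1, 0, 0, 0, 0, 0, 0, 0, 0], [0, 0, 0, 0, 0, 0, 1, 0, 0, 0, 0, 0, 0, 0], [0, 0, 0, 0, 0, 0, 0, 1, 0, 0, 0, 0, 0, 0], [0, 0, 0, 1, 0, 0, 0, 0, 1, 0, 0, 0, 0, 0], [0, 0, 0, 0, 0, 0, 0, 0, 0, 1, 0, 0, 0, 0], [0, 0, 0, 0, 1, 0, 0, 0, 0, 0, 1, 0, 0, 0], [0, 0, 0, 0, 0, 1, 0, 0, 0, 0, 0, 1, 0, 0], [0, 0, 0, 0, 0, 0, 0, 1, 0, 0, 0, 0, 1, 0], [0, 1, 1, 0, 0, 0, 0, 0, 0, 0, 0, 0, 0, 1]],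
    [[1, 0, 0, 0, 0, 0, 0, 0, 0, 0, 0, 0, 0, 0], [0, 1, 0, 0, 0, 0, 0, 0, 0, 0, 0, 0, 0, 0], [0, 0, 1, 0, 0, 0, 0, 0, 0, 0, 0, 0, 0, 0], [0, 0, 0, 1, 0, 0, 0, 0, 0, 0, 0, 0, 0, 0], [0, 0, 0, 0, 1, 0, 0, 0, 0, 0, 0, 0, 0, 0], [0, 0, 0, 0, 0, 1, 0, 0, 0, 0, 0, 0, 0, 0], [0, 0, 0, 0, 0, 0, 1, 0, 0, 0, 0, 0, 0, 0], [0, 0, 0, 0, 0, 0, 0, 1, 0, 0, 0, 0, 0, 0], [0, 0, 0, 0, 0, 0, 0, 0, 1, 0, 0, 0, 0, 0], [0, 0, 0, 0, 0, 0, 0, 0, 0, 1, 0, 0, 0, 0], [0, 0, 0, 0, 0, 0, 0, 0, 0, 0, 1, 0, 0, 0], [0, 0, 0, 0, 0, 0, 0, 0, 0, 0, 0, 1, 0, 0], [0, 0, 0, 0, 0, 0, 0, 0, 0, 0, 0, 0, 1, 0], [0, 0, 0, 0, 0, 0, 0, 0, 0, 0, 0, 0, 0, 1]]]),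
  ([(.f, true), (.b, true), (.f, true), (.b, true), (.f, true), (.b, true)],
   [[[1, 0, 3, 0, 0, 0, 0, 0, 0, 0, 0, 0, 0, 0], [0, 1, 0, 0, 0, 0, 0, 0, 0, 0, 0, 0, 0, 0], [0, 0, 1, 0, 0, 0, 0, 0, 0, 0, 0, 0, 0, 0], [0, 0, 0, 1, 0, 0, 0, 0, 0, 0, 0, 0, 0, 0], [0, 0, 0, 0, 1, 0, 0, 0, 0, 0, 0, 0, 0, 0], [0, 0, 0, 0, 0, 1, 0, 0, 0, 0, 0, 0, 0, 0], [0, 0, 0, 0, 0, 0, 1, 0, 0, 0, 0, 0, 0, 0], [0, 0, 0, 0, 0, 0, 0, 1, 0, 0, 0, 0, 0, 0], [0, 0, 0, 3, 0, 0, 0, 0, 1, 0, 0, 0, 0, 0], [0, 0, 0, 0, 0, 0, 0, 0, 0, 1, 0, 0, 0, 0], [0, 0, 0, 0, 3, 0, 0, 0, 0, 0, 1, 0, 0, 0], [0, 0, 0, 0, 0, 3, 0, 0, 0, 0, 0, 1, 0, 0], [0, 0, 0, 0, 0, 0, 0, 3, 0, 0, 0,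 0, 1, 0], [0, 3, 2, 0, 0, 0, 0, 0, 0, 0, 0, 0, 0, 1]],
    [[3, 1, 2, 2, 0, 1, 0, 2, 3, 0, 0, 2, 0, 0], [3, 1, 2, 3, 3, 0, 2, 1, 2, 3, 1, 1, 0, 3], [3, 2, 1, 1, 0, 2, 2, 3, 1, 3, 3, 3, 0, 3], [0, 0, 2, 3, 2, 0, 2, 0, 2, 0, 0, 0, 0, 0], [1, 0, 2, 3, 3, 0, 2, 3, 1, 3, 1, 3, 0, 3], [1, 2, 3, 2, 2, 3, 1, 1, 1, 3, 3, 1, 0, 3], [3, 2, 2, 3, 2, 2, 1, 3, 3, 3, 3, 3, 0, 3], [2, 0, 2, 3, 3, 1, 3, 0, 2, 3, 1, 1, 2, 1], [1, 0, 3, 1, 3, 0, 3, 3, 1, 3, 1, 3, 0, 3], [2, 1, 1, 1, 0, 0, 1, 2, 3, 1, 1, 2, 2, 2], [3, 0, 1, 2, 3, 0, 1, 2, 2, 0, 0, 2, 0, 0], [0, 1, 3, 0, 0, 3, 3, 1, 0, 0, 0, 0, 2, 2], [2, 1, 0, 3, 3, 3, 3, 3, 2, 1, 1, 0, 2, 2], [1, 1, 2, 1,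 3, 3, 3, 0, 1, 1, 1, 0, 2, 2]],
    [[3, 1, 0, 0, 0, 0, 0, 2, 3, 0, 0, 2, 0, 0], [3, 3, 1, 2, 0, 3, 2, 1, 2, 3, 1, 1, 0, 3], [3, 0, 2, 2, 2, 0, 2, 3, 1, 3, 3, 3, 0, 3], [0, 0, 2, 2, 2, 0, 2, 0, 2, 0, 0, 0, 0, 0], [1, 2, 0, 0, 0, 2, 2, 3, 1, 3, 1, 3, 0, 3], [1, 0, 1, 1, 0, 0, 1, 1, 1, 3, 3, 1, 0, 3], [3, 0, 1, 1, 0, 0, 1, 3, 3, 3, 3, 3, 0, 3], [2, 3, 1, 2, 0, 2, 3, 1, 2, 3, 1, 1, 2, 1], [1, 2, 1, 2, 0, 2, 3, 3, 1, 3, 1, 3, 0, 3], [2, 0, 3, 3, 3, 1, 1, 3, 3, 1, 1, 2, 2, 2], [3, 0, 3, 3, 3, 1, 1, 2, 2, 0, 0, 2, 0, 0], [0, 0, 0, 0, 0, 3, 3, 0, 0, 0, 0, 0, 2, 2], [2, 0, 2, 2, 0, 3, 3, 2, 2, 1, 1, 0, 2, 2], [1, 0, 2, 2, 0, 3, 3, 1, 1, 1, 1, 0,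 2, 2]],
    [[1, 1, 1, 1, 1, 0, 1, 0, 0, 2, 2, 0, 0, 2], [3, 3, 1, 2, 0, 3, 2, 1, 2, 3, 1, 1, 0, 3], [3, 0, 2, 2, 2, 0, 2, 3, 1, 3, 3, 3, 0, 3], [0, 0, 2, 2, 2, 0, 2, 0, 2, 0, 0, 0, 0, 0], [1, 2, 0, 0, 0, 2, 2, 3, 1, 3, 1, 3, 0, 3], [1, 0, 1, 1, 0, 0, 1, 1, 1, 3, 3, 1, 0, 3], [3, 0, 1, 1, 0, 0, 1, 3, 3, 3, 3, 3, 0, 3], [2, 3, 1, 2, 0, 2, 3, 1, 2, 3, 1, 1, 2, 1], [1, 2, 0, 3, 1, 2, 2, 3, 0, 3, 1, 3, 0, 3], [2, 0, 3, 3, 3, 1, 1, 3, 3, 1, 1, 2, 2, 2], [0, 1, 3, 3, 3, 0, 0, 0, 1, 2, 3, 0, 0, 2], [3, 0, 3, 3, 0, 3, 0, 3, 3, 2, 2, 3, 2, 0], [3, 2, 1, 3, 0, 2, 1, 1, 3, 3, 2, 3, 3, 1], [2, 2, 2, 0, 3, 1, 1, 3, 2, 2, 3, 2, 2, 1]],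
    [[1, 0, 1, 1, 0, 0, 1, 0, 0, 2, 2, 0, 0, 2], [3, 1, 2, 3, 3, 0, 2, 1, 2, 3, 1, 1, 0, 3], [3, 2, 1, 1, 0, 2, 2, 3, 1, 3, 3, 3, 0, 3], [0, 0, 2, 3, 2, 0, 2, 0, 2, 0, 0, 0, 0, 0], [1, 0, 2, 3, 3, 0, 2, 3, 1, 3, 1, 3, 0, 3], [1, 2, 3, 2, 2, 3, 1, 1, 1, 3, 3, 1, 0, 3], [3, 2, 2, 3, 2, 2, 1, 3, 3, 3, 3, 3, 0, 3], [2, 0, 2, 3, 3, 1, 3, 0, 2, 3, 1, 1, 2, 1], [1, 0, 2, 3, 2, 0, 2, 3, 0, 3, 1, 3, 0, 3], [2, 1, 1, 1, 0, 0, 1, 2, 3, 1, 1, 2, 2, 2], [0, 0, 0, 0, 1, 0, 0, 0, 1, 2, 3, 0, 0, 2], [3, 0, 1, 1, 1, 1, 0, 2, 3, 2, 2, 3, 2, 0], [3, 1, 1, 1, 1, 0, 1, 3, 3, 3, 2, 3, 3, 1], [2, 1, 1, 1, 1, 0, 1, 2, 2, 2, 3, 2, 2, 1]],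
    [[1, 0, 0, 0, 0, 0, 0, 0, 0, 0, 0, 0, 0, 0], [0, 1, 0, 0, 0, 0, 0, 0, 0, 0, 0, 0, 0, 0], [0, 0, 1, 0, 0, 0, 0, 0, 0, 0, 0, 0, 0, 0], [0, 0, 0, 1, 0, 0, 0, 0, 0, 0, 0, 0, 0, 0], [0, 0, 0, 0, 1, 0, 0, 0, 0, 0, 0, 0, 0, 0], [0, 0, 0, 0, 0, 1, 0, 0, 0, 0, 0, 0, 0, 0], [0, 0, 0, 0, 0, 0, 1, 0, 0, 0, 0, 0, 0, 0], [0, 0, 0, 0, 0, 0, 0, 1, 0, 0, 0, 0, 0, 0], [0, 0, 0, 0, 0, 0, 0, 0, 1, 0, 0, 0, 0, 0], [0, 0, 0, 0, 0, 0, 0, 0, 0, 1, 0, 0, 0, 0], [0, 0, 0, 0, 0, 0, 0, 0, 0, 0, 1, 0, 0, 0], [0, 0, 0, 0, 0, 0, 0, 0, 0, 0, 0, 1, 0, 0], [0, 0, 0, 0, 0, 0, 0, 0, 0, 0, 0, 0, 1, 0], [0, 0, 0, 0, 0, 0, 0, 0, 0, 0, 0, 0, 0, 1]]]),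
  ([(.f, true), (.c, true), (.f, true), (.c, true)],
   [[[1, 0, 3, 0, 0, 0, 0, 0, 0, 0, 0, 0, 0, 0], [0, 1, 0, 0, 0, 0, 0, 0, 0, 0, 0, 0, 0, 0], [0, 0, 1, 0, 0, 0, 0, 0, 0, 0, 0, 0, 0, 0], [0, 0, 0, 1, 0, 0, 0, 0, 0, 0, 0, 0, 0, 0], [0, 0, 0, 0, 1, 0, 0, 0, 0, 0, 0, 0, 0, 0], [0, 0, 0, 0, 0, 1, 0, 0, 0, 0, 0, 0, 0, 0], [0, 0, 0, 0, 0, 0, 1, 0, 0, 0, 0, 0, 0, 0], [0, 0, 0, 0, 0, 0, 0, 1, 0, 0, 0, 0, 0, 0], [0, 0, 0, 3, 0, 0, 0, 0, 1, 0, 0, 0, 0, 0], [0, 0, 0, 0, 0, 0, 0, 0, 0, 1, 0, 0, 0, 0], [0, 0, 0, 0, 3, 0, 0, 0, 0, 0, 1, 0, 0, 0], [0, 0, 0, 0, 0, 3, 0, 0, 0, 0, 0, 1, 0, 0], [0, 0, 0, 0, 0, 0, 0, 3, 0, 0, 0, 0, 1, 0], [0, 3, 2, 0, 0,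 0, 0, 0, 0, 0, 0, 0, 0, 1]],
    [[1, 0, 2, 0, 0, 0, 0, 0, 0, 0, 0, 0, 0, 0], [0, 1, 0, 0, 0, 0, 0, 1, 0, 0, 0, 0, 0, 0], [0, 0, 1, 0, 0, 0, 0, 0, 0, 0, 0, 0, 0, 0], [0, 0, 1, 1, 0, 0, 0, 0, 0, 0, 0, 0, 0, 0], [0, 0, 0, 0, 1, 0, 0, 0, 0, 0, 0, 0, 0, 0], [0, 0, 0, 0, 0, 1, 0, 0, 0, 0, 0, 0, 0, 0], [0, 0, 0, 0, 0, 1, 1, 0, 0, 0, 0, 0, 0, 0], [0, 0, 0, 0, 0, 0, 0, 1, 0, 0, 0, 0, 0, 0], [1, 0, 2, 2, 0, 0, 0, 1, 1, 0, 0, 0, 0, 0], [0, 0, 0, 0, 0, 0, 0, 0, 0, 1, 0, 0, 0, 0], [0, 0, 0, 0, 2, 0, 0, 0, 0, 1, 1, 0, 0, 0], [0, 0, 0, 0, 0, 2, 0, 0, 0, 0, 0, 1, 0, 0], [0, 0, 0, 0, 0, 0, 0, 2, 0, 0, 0, 0, 1, 0], [0, 2, 3, 0, 0, 0, 0, 2, 0, 0, 0, 0, 1,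 1]],
    [[1, 0, 1, 0, 0, 0, 0, 0, 0, 0, 0, 0, 0, 0], [0, 1, 0, 0, 0, 0, 0, 1, 0, 0, 0, 0, 0, 0], [0, 0, 1, 0, 0, 0, 0, 0, 0, 0, 0, 0, 0, 0], [0, 0, 1, 1, 0, 0, 0, 0, 0, 0, 0, 0, 0, 0], [0, 0, 0, 0, 1, 0, 0, 0, 0, 0, 0, 0, 0, 0], [0, 0, 0, 0, 0, 1, 0, 0, 0, 0, 0, 0, 0, 0], [0, 0, 0, 0, 0, 1, 1, 0, 0, 0, 0, 0, 0, 0], [0, 0, 0, 0, 0, 0, 0, 1, 0, 0, 0, 0, 0, 0], [1, 0, 1, 1, 0, 0, 0, 1, 1, 0, 0, 0, 0, 0], [0, 0, 0, 0, 0, 0, 0, 0, 0, 1, 0, 0, 0, 0], [0, 0, 0, 0, 1, 0, 0, 0, 0, 1, 1, 0, 0, 0], [0, 0, 0, 0, 0, 1, 0, 0, 0, 0, 0, 1, 0, 0], [0, 0, 0, 0, 0, 0, 0, 1, 0, 0, 0, 0, 1, 0], [0, 1, 1, 0, 0, 0, 0, 1, 0, 0, 0, 0, 1, 1]],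
    [[1, 0, 0, 0, 0, 0, 0, 0, 0, 0, 0, 0, 0, 0], [0, 1, 0, 0, 0, 0, 0, 0, 0, 0, 0, 0, 0, 0], [0, 0, 1, 0, 0, 0, 0, 0, 0, 0, 0, 0, 0, 0], [0, 0, 0, 1, 0, 0, 0, 0, 0, 0, 0, 0, 0, 0], [0, 0, 0, 0, 1, 0, 0, 0, 0, 0, 0, 0, 0, 0], [0, 0, 0, 0, 0, 1, 0, 0, 0, 0, 0, 0, 0, 0], [0, 0, 0, 0, 0, 0, 1, 0, 0, 0, 0, 0, 0, 0], [0, 0, 0, 0, 0, 0, 0, 1, 0, 0, 0, 0, 0, 0], [0, 0, 0, 0, 0, 0, 0, 0, 1, 0, 0, 0, 0, 0], [0, 0, 0, 0, 0, 0, 0, 0, 0, 1, 0, 0, 0, 0], [0, 0, 0, 0, 0, 0, 0, 0, 0, 0, 1, 0, 0, 0], [0, 0, 0, 0, 0, 0, 0, 0, 0, 0, 0, 1, 0, 0], [0, 0, 0, 0, 0, 0, 0, 0, 0, 0, 0, 0, 1, 0], [0, 0, 0, 0, 0, 0, 0, 0, 0, 0, 0, 0, 0, 1]]]),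
  ([(.f, true), (.d, true), (.f, true), (.d, true)],
   [[[1, 0, 3, 0, 0, 0, 0, 0, 0, 0, 0, 0, 0, 0], [0, 1, 0, 0, 0, 0, 0, 0, 0, 0, 0, 0, 0, 0], [0, 0, 1, 0, 0, 0, 0, 0, 0, 0, 0, 0, 0, 0], [0, 0, 0, 1, 0, 0, 0, 0, 0, 0, 0, 0, 0, 0], [0, 0, 0, 0, 1, 0, 0, 0, 0, 0, 0, 0, 0, 0], [0, 0, 0, 0, 0, 1, 0, 0, 0, 0, 0, 0, 0, 0], [0, 0, 0, 0, 0, 0, 1, 0, 0, 0, 0, 0, 0, 0], [0, 0, 0, 0, 0, 0, 0, 1, 0, 0, 0, 0, 0, 0], [0, 0, 0, 3, 0, 0, 0, 0, 1, 0, 0, 0, 0, 0], [0, 0, 0, 0, 0, 0, 0, 0, 0, 1, 0, 0, 0, 0], [0, 0, 0, 0, 3, 0, 0, 0, 0, 0, 1, 0, 0, 0], [0, 0, 0, 0, 0, 3, 0, 0, 0, 0, 0, 1, 0, 0], [0, 0, 0, 0, 0, 0, 0, 3, 0, 0, 0, 0, 1, 0], [0, 3, 2, 0, 0,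 0, 0, 0, 0, 0, 0, 0, 0, 1]],
    [[1, 0, 2, 0, 0, 0, 1, 0, 0, 0, 0, 0, 0, 0], [0, 1, 0, 0, 0, 0, 0, 0, 0, 0, 0, 0, 0, 0], [0, 0, 1, 0, 0, 0, 0, 0, 0, 0, 0, 0, 0, 0], [0, 0, 0, 1, 0, 0, 0, 0, 0, 0, 0, 0, 0, 0], [0, 0, 0, 1, 1, 0, 0, 0, 0, 0, 0, 0, 0, 0], [0, 0, 0, 1, 0, 1, 0, 0, 0, 0, 0, 0, 0, 0], [0, 0, 0, 0, 0, 0, 1, 0, 0, 0, 0, 0, 0, 0], [0, 0, 0, 1, 1, 1, 0, 1, 0, 0, 0, 0, 0, 0], [0, 0, 0, 2, 0, 0, 0, 0, 1, 0, 0, 0, 0, 0], [0, 1, 0, 0, 0, 0, 1, 0, 0, 1, 0, 0, 0, 0], [0, 0, 0, 2, 2, 0, 0, 0, 1, 0, 1, 0, 0, 0], [0, 0, 0, 2, 0, 2, 0, 0, 1, 0, 0, 1, 0, 0], [0, 0, 0, 2, 2, 2, 0, 2, 1, 0, 1, 1, 1, 0], [0, 2, 3, 0, 0, 0, 0, 0, 0, 0, 0, 0, 0,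 1]],
    [[1, 0, 1, 0, 0, 0, 1, 0, 0, 0, 0, 0, 0, 0], [0, 1, 0, 0, 0, 0, 0, 0, 0, 0, 0, 0, 0, 0], [0, 0, 1, 0, 0, 0, 0, 0, 0, 0, 0, 0, 0, 0], [0, 0, 0, 1, 0, 0, 0, 0, 0, 0, 0, 0, 0, 0], [0, 0, 0, 1, 1, 0, 0, 0, 0, 0, 0, 0, 0, 0], [0, 0, 0, 1, 0, 1, 0, 0, 0, 0, 0, 0, 0, 0], [0, 0, 0, 0, 0, 0, 1, 0, 0, 0, 0, 0, 0, 0], [0, 0, 0, 1, 1, 1, 0, 1, 0, 0, 0, 0, 0, 0], [0, 0, 0, 1, 0, 0, 0, 0, 1, 0, 0, 0, 0, 0], [0, 1, 0, 0, 0, 0, 1, 0, 0, 1, 0, 0, 0, 0], [0, 0, 0, 1, 1, 0, 0, 0, 1, 0, 1, 0, 0, 0], [0, 0, 0, 1, 0, 1, 0, 0, 1, 0, 0, 1, 0, 0], [0, 0, 0, 1, 1, 1, 0, 1, 1, 0, 1, 1, 1, 0], [0, 1, 1, 0, 0, 0, 0, 0, 0, 0, 0, 0, 0, 1]],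
    [[1, 0, 0, 0, 0, 0, 0, 0, 0, 0, 0, 0, 0, 0], [0, 1, 0, 0, 0, 0, 0, 0, 0, 0, 0, 0, 0, 0], [0, 0, 1, 0, 0, 0, 0, 0, 0, 0, 0, 0, 0, 0], [0, 0, 0, 1, 0, 0, 0, 0, 0, 0, 0, 0, 0, 0], [0, 0, 0, 0, 1, 0, 0, 0, 0, 0, 0, 0, 0, 0], [0, 0, 0, 0, 0, 1, 0, 0, 0, 0, 0, 0, 0, 0], [0, 0, 0, 0, 0, 0, 1, 0, 0, 0, 0, 0, 0, 0], [0, 0, 0, 0, 0, 0, 0, 1, 0, 0, 0, 0, 0, 0], [0, 0, 0, 0, 0, 0, 0, 0, 1, 0, 0, 0, 0, 0], [0, 0, 0, 0, 0, 0, 0, 0, 0, 1, 0, 0, 0, 0], [0, 0, 0, 0, 0, 0, 0, 0, 0, 0, 1, 0, 0, 0], [0, 0, 0, 0, 0, 0, 0, 0, 0, 0, 0, 1, 0, 0], [0, 0, 0, 0, 0, 0, 0, 0, 0, 0, 0, 0, 1, 0], [0, 0, 0, 0, 0, 0, 0, 0, 0, 0, 0, 0, 0, 1]]]),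
  ([(.f, true), (.e, true), (.f, true), (.e, true)],
   [[[1, 0, 3, 0, 0, 0, 0, 0, 0, 0, 0, 0, 0, 0], [0, 1, 0, 0, 0, 0, 0, 0, 0, 0, 0, 0, 0, 0], [0, 0, 1, 0, 0, 0, 0, 0, 0, 0, 0, 0, 0, 0], [0, 0, 0, 1, 0, 0, 0, 0, 0, 0, 0, 0, 0, 0], [0, 0, 0, 0, 1, 0, 0, 0, 0, 0, 0, 0, 0, 0], [0, 0, 0, 0, 0, 1, 0, 0, 0, 0, 0, 0, 0, 0], [0, 0, 0, 0, 0, 0, 1, 0, 0, 0, 0, 0, 0, 0], [0, 0, 0, 0, 0, 0, 0, 1, 0, 0, 0, 0, 0, 0], [0, 0, 0, 3, 0, 0, 0, 0, 1, 0, 0, 0, 0, 0], [0, 0, 0, 0, 0, 0, 0, 0, 0, 1, 0, 0, 0, 0], [0, 0, 0, 0, 3, 0, 0, 0, 0, 0, 1, 0, 0, 0], [0, 0, 0, 0, 0, 3, 0, 0, 0, 0, 0, 1, 0, 0], [0, 0, 0, 0, 0, 0, 0, 3, 0, 0, 0, 0, 1, 0], [0, 3, 2, 0, 0,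 0, 0, 0, 0, 0, 0, 0, 0, 1]],
    [[1, 0, 1, 0, 0, 2, 0, 2, 0, 1, 0, 0, 0, 0], [0, 1, 3, 0, 2, 2, 0, 2, 0, 0, 0, 0, 0, 0], [0, 0, 1, 0, 0, 0, 0, 0, 0, 0, 0, 0, 0, 0], [0, 0, 2, 1, 1, 1, 0, 1, 0, 0, 0, 0, 0, 0], [0, 0, 2, 0, 1, 0, 0, 1, 0, 0, 0, 0, 0, 0], [0, 0, 2, 0, 0, 1, 0, 1, 0, 0, 0, 0, 0, 0], [0, 1, 0, 2, 2, 0, 1, 0, 0, 1, 0, 0, 0, 0], [0, 0, 0, 0, 0, 0, 0, 1, 0, 0, 0, 0, 0, 0], [2, 2, 3, 1, 2, 2, 2, 2, 1, 0, 1, 1, 1, 0], [0, 0, 3, 0, 0, 0, 0, 2, 0, 1, 0, 0, 0, 0], [2, 2, 3, 3, 2, 0, 0, 2, 0, 0, 1, 0, 1, 0], [2, 0, 3, 0, 3, 2, 0, 2, 0, 2, 0, 1, 1, 0], [0, 0, 1, 0, 0, 3, 0, 1, 0, 2, 0, 0, 1, 0], [3, 1, 2, 1, 3, 3, 3, 3, 0, 0, 2, 2, 2,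 1]],
    [[1, 0, 2, 0, 0, 2, 0, 2, 0, 1, 0, 0, 0, 0], [0, 1, 3, 0, 2, 2, 0, 2, 0, 0, 0, 0, 0, 0], [0, 0, 1, 0, 0, 0, 0, 0, 0, 0, 0, 0, 0, 0], [0, 0, 2, 1, 1, 1, 0, 1, 0, 0, 0, 0, 0, 0], [0, 0, 2, 0, 1, 0, 0, 1, 0, 0, 0, 0, 0, 0], [0, 0, 2, 0, 0, 1, 0, 1, 0, 0, 0, 0, 0, 0], [0, 1, 0, 2, 2, 0, 1, 0, 0, 1, 0, 0, 0, 0], [0, 0, 0, 0, 0, 0, 0, 1, 0, 0, 0, 0, 0, 0], [2, 2, 2, 2, 1, 1, 2, 1, 1, 0, 1, 1, 1, 0], [0, 0, 3, 0, 0, 0, 0, 2, 0, 1, 0, 0, 0, 0], [2, 2, 2, 3, 1, 0, 0, 1, 0, 0, 1, 0, 1, 0], [2, 0, 2, 0, 3, 1, 0, 1, 0, 2, 0, 1, 1, 0], [0, 0, 1, 0, 0, 3, 0, 2, 0, 2, 0, 0, 1, 0], [3, 2, 2, 1, 2, 2, 3, 2, 0, 0, 2, 2, 2, 1]],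
    [[1, 0, 0, 0, 0, 0, 0, 0, 0, 0, 0, 0, 0, 0], [0, 1, 0, 0, 0, 0, 0, 0, 0, 0, 0, 0, 0, 0], [0, 0, 1, 0, 0, 0, 0, 0, 0, 0, 0, 0, 0, 0], [0, 0, 0, 1, 0, 0, 0, 0, 0, 0, 0, 0, 0, 0], [0, 0, 0, 0, 1, 0, 0, 0, 0, 0, 0, 0, 0, 0], [0, 0, 0, 0, 0, 1, 0, 0, 0, 0, 0, 0, 0, 0], [0, 0, 0, 0, 0, 0, 1, 0, 0, 0, 0, 0, 0, 0], [0, 0, 0, 0, 0, 0, 0, 1, 0, 0, 0, 0, 0, 0], [0, 0, 0, 0, 0, 0, 0, 0, 1, 0, 0, 0, 0, 0], [0, 0, 0, 0, 0, 0, 0, 0, 0, 1, 0, 0, 0, 0], [0, 0, 0, 0, 0, 0, 0, 0, 0, 0, 1, 0, 0, 0], [0, 0, 0, 0, 0, 0, 0, 0, 0, 0, 0, 1, 0, 0], [0, 0, 0, 0, 0, 0, 0, 0, 0, 0, 0, 0, 1, 0], [0, 0, 0, 0, 0, 0, 0, 0, 0, 0, 0, 0, 0, 1]]]),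
  ([(.f, true), (.f, true)],
   [[[1, 0, 3, 0, 0, 0, 0, 0, 0, 0, 0, 0, 0, 0], [0, 1, 0, 0, 0, 0, 0, 0, 0, 0, 0, 0, 0, 0], [0, 0, 1, 0, 0, 0, 0, 0, 0, 0, 0, 0, 0, 0], [0, 0, 0, 1, 0, 0, 0, 0, 0, 0, 0, 0, 0, 0], [0, 0, 0, 0, 1, 0, 0, 0, 0, 0, 0, 0, 0, 0], [0, 0, 0, 0, 0, 1, 0, 0, 0, 0, 0, 0, 0, 0], [0, 0, 0, 0, 0, 0, 1, 0, 0, 0, 0, 0, 0, 0], [0, 0, 0, 0, 0, 0, 0, 1, 0, 0, 0, 0, 0, 0], [0, 0, 0, 3, 0, 0, 0, 0, 1, 0, 0, 0, 0, 0], [0, 0, 0, 0, 0, 0, 0, 0, 0, 1, 0, 0, 0, 0], [0, 0, 0, 0, 3, 0, 0, 0, 0, 0, 1, 0, 0, 0], [0, 0, 0, 0, 0, 3, 0, 0, 0, 0, 0, 1, 0, 0], [0, 0, 0, 0, 0, 0, 0, 3, 0, 0, 0, 0, 1, 0], [0, 3, 2, 0, 0, 0, 0, 0, 0, 0, 0, 0, 0,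 1]],
    [[1, 0, 0, 0, 0, 0, 0, 0, 0, 0, 0, 0, 0, 0], [0, 1, 0, 0, 0, 0, 0, 0, 0, 0, 0, 0, 0, 0], [0, 0, 1, 0, 0, 0, 0, 0, 0, 0, 0, 0, 0, 0], [0, 0, 0, 1, 0, 0, 0, 0, 0, 0, 0, 0, 0, 0], [0, 0, 0, 0, 1, 0, 0, 0, 0, 0, 0, 0, 0, 0], [0, 0, 0, 0, 0, 1, 0, 0, 0, 0, 0, 0, 0, 0], [0, 0, 0, 0, 0, 0, 1, 0, 0, 0, 0, 0, 0, 0], [0, 0, 0, 0, 0, 0, 0, 1, 0, 0, 0, 0, 0, 0], [0, 0, 0, 0, 0, 0, 0, 0, 1, 0, 0, 0, 0, 0], [0, 0, 0, 0, 0, 0, 0, 0, 0, 1, 0, 0, 0, 0], [0, 0, 0, 0, 0, 0, 0, 0, 0, 0, 1, 0, 0, 0], [0, 0, 0, 0, 0, 0, 0, 0, 0, 0, 0, 1, 0, 0], [0, 0, 0, 0, 0, 0, 0, 0, 0, 0, 0, 0, 1, 0], [0, 0, 0, 0, 0, 0, 0, 0, 0, 0, 0, 0, 0, 1]]]),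
  ([(.a, true), (.d, false), (.c, false), (.d, false), (.c, false), (.d, false), (.c, false), (.d, false), (.c, false)],
   [[[1, 0, 1, 0, 0, 0, 0, 0, 0, 0, 0, 0, 0, 0], [0, 1, 0, 0, 0, 0, 0, 0, 0, 0, 0, 0, 0, 0], [0, 0, 1, 0, 0, 0, 0, 0, 0, 0, 0, 0, 0, 0], [0, 0, 0, 1, 0, 0, 0, 0, 0, 0, 0, 0, 0, 0], [0, 0, 0, 0, 1, 0, 0, 0, 0, 0, 0, 0, 0, 0], [0, 0, 0, 0, 0, 1, 0, 0, 0, 0, 0, 0, 0, 0], [0, 0, 0, 0, 0, 0, 1, 0, 0, 0, 0, 0, 0, 0], [0, 0, 0, 0, 0, 0, 0, 1, 0, 0, 0, 0, 0, 0], [0, 0, 0, 1, 0, 0, 0, 0, 1, 0, 0, 0, 0, 0], [0, 0, 0, 0, 0, 0, 0, 0, 0, 1, 0, 0, 0, 0], [0, 0, 0, 0, 1, 0, 0, 0, 0, 0, 1, 0, 0, 0], [0, 0, 0, 0, 0, 1, 0, 0, 0, 0, 0,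 1, 0, 0], [0, 0, 0, 0, 0, 0, 0, 1, 0, 0, 0, 0, 1, 0], [0, 1, 1, 0, 0, 0, 0, 0, 0, 0, 0, 0, 0, 1]],
    [[1, 0, 0, 0, 0, 0, 1, 0, 0, 0, 0, 0, 0, 0], [0, 1, 0, 0, 0, 0, 0, 0, 0, 0, 0, 0, 0, 0], [0, 0, 1, 0, 0, 0, 0, 0, 0, 0, 0, 0, 0, 0], [0, 0, 0, 1, 0, 0, 0, 0, 0, 0, 0, 0, 0, 0], [0, 0, 0, 1, 1, 0, 0, 0, 0, 0, 0, 0, 0, 0], [0, 0, 0, 1, 0, 1, 0, 0, 0, 0, 0, 0, 0, 0], [0, 0, 0, 0, 0, 0, 1, 0, 0, 0, 0, 0, 0, 0], [0, 0, 0, 1, 1, 1, 0, 1, 0, 0, 0, 0, 0, 0], [0, 0, 0, 0, 0, 0, 0, 0, 1, 0, 0, 0, 0, 0], [0, 1, 0, 0, 0, 0, 1, 0, 0, 1, 0, 0, 0, 0], [0, 0, 0, 0, 0, 0, 0, 0, 1, 0, 1, 0, 0, 0], [0, 0, 0, 0, 0, 0, 0, 0, 1, 0, 0, 1, 0, 0], [0, 0, 0, 0,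 0, 0, 0, 0, 1, 0, 1, 1, 1, 0], [0, 0, 0, 0, 0, 0, 0, 0, 0, 0, 0, 0, 0, 1]],
    [[1, 0, 1, 0, 0, 1, 1, 0, 0, 0, 0, 0, 0, 0], [0, 1, 0, 0, 0, 0, 0, 1, 0, 0, 0, 0, 0, 0], [0, 0, 1, 0, 0, 0, 0, 0, 0, 0, 0, 0, 0, 0], [0, 0, 1, 1, 0, 0, 0, 0, 0, 0, 0, 0, 0, 0], [0, 0, 1, 1, 1, 0, 0, 0, 0, 0, 0, 0, 0, 0], [0, 0, 1, 1, 0, 1, 0, 0, 0, 0, 0, 0, 0, 0], [0, 0, 0, 0, 0, 1, 1, 0, 0, 0, 0, 0, 0, 0], [0, 0, 1, 1, 1, 1, 0, 1, 0, 0, 0, 0, 0, 0], [1, 0, 1, 1, 0, 0, 0, 1, 1, 0, 0, 0, 0, 0], [0, 1, 0, 0, 0, 1, 1, 1, 0, 1, 0, 0, 0, 0], [1, 0, 1, 1, 1, 0, 0, 1, 1, 1, 1, 0, 0, 0], [1, 0, 1, 1, 0, 1, 0, 1, 1, 0, 0, 1, 0, 0], [1, 0, 1, 1, 1, 1, 0, 0, 1, 1, 1, 1,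 1, 0], [0, 1, 1, 0, 0, 0, 0, 1, 0, 0, 0, 0, 1, 1]],
    [[1, 0, 0, 1, 0, 1, 0, 0, 0, 0, 0, 0, 0, 0], [0, 1, 0, 1, 1, 1, 0, 1, 0, 0, 0, 0, 0, 0], [0, 0, 1, 0, 0, 0, 0, 0, 0, 0, 0, 0, 0, 0], [0, 0, 1, 1, 0, 0, 0, 0, 0, 0, 0, 0, 0, 0], [0, 0, 1, 0, 1, 0, 0, 0, 0, 0, 0, 0, 0, 0], [0, 0, 1, 0, 0, 1, 0, 0, 0, 0, 0, 0, 0, 0], [0, 0, 0, 1, 0, 1, 1, 0, 0, 0, 0, 0, 0, 0], [0, 0, 1, 0, 0, 0, 0, 1, 0, 0, 0, 0, 0, 0], [1, 0, 0, 1, 1, 1, 1, 1, 1, 0, 0, 0, 0, 0], [0, 0, 0, 0, 1, 0, 0, 1, 0, 1, 0, 0, 0, 0], [1, 1, 0, 1, 1, 1, 0, 1, 0, 1, 1, 0, 0, 0], [1, 0, 0, 1, 1, 1, 1, 1, 0, 0, 0, 1, 0, 0], [1, 1, 0, 1, 1, 1, 0, 1, 0, 1, 0, 0, 1, 0], [0, 0, 0, 0, 0,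 0, 0, 0, 1, 0, 1, 1, 1, 1]],
    [[1, 0, 0, 1, 0, 1, 0, 0, 0, 0, 0, 0, 0, 0], [0, 1, 1, 1, 1, 1, 0, 0, 0, 0, 0, 0, 0, 0], [0, 0, 1, 0, 0, 0, 0, 0, 0, 0, 0, 0, 0, 0], [0, 0, 0, 1, 0, 0, 0, 0, 0, 0, 0, 0, 0, 0], [0, 0, 1, 0, 1, 0, 0, 0, 0, 0, 0, 0, 0, 0], [0, 0, 1, 0, 0, 1, 0, 0, 0, 0, 0, 0, 0, 0], [0, 0, 1, 1, 0, 0, 1, 0, 0, 0, 0, 0, 0, 0], [0, 0, 1, 0, 0, 0, 0, 1, 0, 0, 0, 0, 0, 0], [0, 0, 1, 0, 1, 0, 1, 0, 1, 0, 0, 0, 0, 0], [0, 0, 0, 0, 1, 0, 0, 1, 0, 1, 0, 0, 0, 0], [1, 1, 0, 1, 0, 1, 0, 0, 0, 0, 1, 0, 0, 0], [1, 0, 0, 1, 1, 1, 1, 1, 0, 0, 0, 1, 0, 0], [1, 1, 0, 1, 1, 1, 0, 1, 0, 1, 0, 0, 1, 0], [1, 1, 0, 1, 1, 1, 0, 1, 1, 1, 1, 1, 0,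 1]],
    [[1, 0, 1, 0, 0, 1, 1, 0, 0, 0, 0, 0, 0, 0], [0, 1, 1, 1, 1, 1, 0, 0, 0, 0, 0, 0, 0, 0], [0, 0, 1, 0, 0, 0, 0, 0, 0, 0, 0, 0, 0, 0], [0, 0, 0, 1, 0, 0, 0, 0, 0, 0, 0, 0, 0, 0], [0, 0, 1, 1, 1, 0, 0, 0, 0, 0, 0, 0, 0, 0], [0, 0, 1, 1, 0, 1, 0, 0, 0, 0, 0, 0, 0, 0], [0, 0, 1, 1, 0, 0, 1, 0, 0, 0, 0, 0, 0, 0], [0, 0, 1, 1, 1, 1, 0, 1, 0, 0, 0, 0, 0, 0], [0, 0, 1, 0, 1, 0, 1, 0, 1, 0, 0, 0, 0, 0], [0, 1, 0, 0, 0, 1, 1, 1, 0, 1, 0, 0, 0, 0], [1, 1, 1, 1, 1, 1, 1, 0, 1, 0, 1, 0, 0, 0], [1, 0, 1, 1, 0, 1, 0, 1, 1, 0, 0, 1, 0, 0], [1, 0, 1, 1, 1, 1, 0, 0, 1, 1, 1, 1, 1, 0], [1, 1, 0, 1, 1, 1, 0, 1, 1, 1, 1, 1, 0, 1]],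
    [[1, 0, 0, 0, 0, 0, 1, 0, 0, 0, 0, 0, 0, 0], [0, 1, 0, 1, 1, 1, 0, 1, 0, 0, 0, 0, 0, 0], [0, 0, 1, 0, 0, 0, 0, 0, 0, 0, 0, 0, 0, 0], [0, 0, 1, 1, 0, 0, 0, 0, 0, 0, 0, 0, 0, 0], [0, 0, 0, 1, 1, 0, 0, 0, 0, 0, 0, 0, 0, 0], [0, 0, 0, 1, 0, 1, 0, 0, 0, 0, 0, 0, 0, 0], [0, 0, 0, 1, 0, 1, 1, 0, 0, 0, 0, 0, 0, 0], [0, 0, 0, 1, 1, 1, 0, 1, 0, 0, 0, 0, 0, 0], [1, 0, 0, 1, 1, 1, 1, 1, 1, 0, 0, 0, 0, 0], [0, 1, 0, 0, 0, 0, 1, 0, 0, 1, 0, 0, 0, 0], [0, 1, 0, 0, 0, 0, 1, 0, 1, 1, 1, 0, 0, 0], [0, 0, 0, 0, 0, 0, 0, 0, 1, 0, 0, 1, 0, 0], [0, 0, 0, 0, 0, 0, 0, 0, 1, 0, 1, 1, 1, 0], [0, 0, 0, 0, 0, 0, 0, 0, 1, 0, 1, 1, 1, 1]],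
    [[1, 0, 1, 0, 0, 0, 0, 0, 0, 0, 0, 0, 0, 0], [0, 1, 0, 0, 0, 0, 0, 1, 0, 0, 0, 0, 0, 0], [0, 0, 1, 0, 0, 0, 0, 0, 0, 0, 0, 0, 0, 0], [0, 0, 1, 1, 0, 0, 0, 0, 0, 0, 0, 0, 0, 0], [0, 0, 0, 0, 1, 0, 0, 0, 0, 0, 0, 0, 0, 0], [0, 0, 0, 0, 0, 1, 0, 0, 0, 0, 0, 0, 0, 0], [0, 0, 0, 0, 0, 1, 1, 0, 0, 0, 0, 0, 0, 0], [0, 0, 0, 0, 0, 0, 0, 1, 0, 0, 0, 0, 0, 0], [1, 0, 1, 1, 0, 0, 0, 1, 1, 0, 0, 0, 0, 0], [0, 0, 0, 0, 0, 0, 0, 0, 0, 1, 0, 0, 0, 0], [0, 0, 0, 0, 1, 0, 0, 0, 0, 1, 1, 0, 0, 0], [0, 0, 0, 0, 0, 1, 0, 0, 0, 0, 0, 1, 0, 0], [0, 0, 0, 0, 0, 0, 0, 1, 0, 0, 0, 0, 1, 0], [0, 1, 1, 0, 0, 0, 0, 1, 0, 0, 0, 0, 1, 1]],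
    [[1, 0, 0, 0, 0, 0, 0, 0, 0, 0, 0, 0, 0, 0], [0, 1, 0, 0, 0, 0, 0, 0, 0, 0, 0, 0, 0, 0], [0, 0, 1, 0, 0, 0, 0, 0, 0, 0, 0, 0, 0, 0], [0, 0, 0, 1, 0, 0, 0, 0, 0, 0, 0, 0, 0, 0], [0, 0, 0, 0, 1, 0, 0, 0, 0, 0, 0, 0, 0, 0], [0, 0, 0, 0, 0, 1, 0, 0, 0, 0, 0, 0, 0, 0], [0, 0, 0, 0, 0, 0, 1, 0, 0, 0, 0, 0, 0, 0], [0, 0, 0, 0, 0, 0, 0, 1, 0, 0, 0, 0, 0, 0], [0, 0, 0, 0, 0, 0, 0, 0, 1, 0, 0, 0, 0, 0], [0, 0, 0, 0, 0, 0, 0, 0, 0, 1, 0, 0, 0, 0], [0, 0, 0, 0, 0, 0, 0, 0, 0, 0, 1, 0, 0, 0], [0, 0, 0, 0, 0, 0, 0, 0, 0, 0, 0, 1, 0, 0], [0, 0, 0, 0, 0, 0, 0, 0, 0, 0, 0, 0, 1, 0], [0, 0, 0, 0, 0, 0, 0, 0, 0, 0, 0, 0, 0, 1]]]),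
  ([(.a, true), (.b, true), (.c, true), (.f, true), (.a, true), (.b, true), (.c, true), (.f, true), (.a, true), (.b, true), (.c, true), (.f, true), (.a, true), (.b, true), (.c, true), (.f, true), (.a, true), (.b, true), (.c, true), (.f, true)],
   [[[1, 0, 1, 0, 0, 0, 0, 0, 0, 0, 0, 0, 0, 0], [0, 1, 0, 0, 0, 0, 0, 0, 0, 0, 0, 0, 0, 0], [0, 0, 1, 0, 0, 0, 0, 0, 0, 0, 0, 0, 0, 0], [0, 0, 0, 1, 0, 0, 0, 0, 0, 0, 0, 0, 0, 0], [0, 0, 0, 0, 1, 0, 0, 0, 0, 0, 0, 0, 0, 0], [0, 0, 0, 0, 0, 1, 0, 0, 0, 0, 0, 0, 0, 0], [0, 0, 0, 0, 0, 0, 1, 0, 0, 0, 0, 0, 0, 0], [0, 0, 0, 0, 0, 0, 0, 1, 0, 0, 0, 0, 0, 0], [0, 0, 0, 1, 0, 0, 0, 0, 1, 0, 0, 0, 0, 0],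 [0, 0, 0, 0, 0, 0, 0, 0, 0, 1, 0, 0, 0, 0], [0, 0, 0, 0, 1, 0, 0, 0, 0, 0, 1, 0, 0, 0], [0, 0, 0, 0, 0, 1, 0, 0, 0, 0, 0, 1, 0, 0], [0, 0, 0, 0, 0, 0, 0, 1, 0, 0, 0, 0, 1, 0], [0, 1, 1, 0, 0, 0, 0, 0, 0, 0, 0, 0, 0, 1]],
    [[2, 2, 0, 0, 0, 2, 3, 3, 1, 1, 1, 3, 0, 1], [3, 1, 2, 3, 3, 0, 2, 1, 2, 3, 1, 1, 0, 3], [3, 2, 1, 1, 0, 2, 2, 3, 1, 3, 3, 3, 0, 3], [0, 0, 2, 3, 2, 0, 2, 0, 2, 0, 0, 0, 0, 0], [1, 0, 2, 3, 3, 0, 2, 3, 1, 3, 1, 3, 0, 3], [1, 2, 3, 2, 2, 3, 1, 1, 1, 3, 3, 1, 0, 3], [3, 2, 2, 3, 2, 2, 1, 3, 3, 3, 3, 3, 0, 3], [2, 0, 2, 3, 3, 1, 3, 0, 2, 3, 1, 1, 2, 1], [1, 0, 0, 0, 0, 0, 0, 3, 2, 3, 1, 3, 0, 3], [2, 1, 1, 1, 0, 0, 1,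 2, 3, 1, 1, 2, 2, 2], [1, 0, 2, 3, 2, 0, 2, 3, 0, 1, 2, 3, 0, 1], [2, 2, 2, 3, 3, 2, 1, 3, 2, 1, 1, 2, 2, 3], [1, 1, 3, 2, 2, 1, 2, 3, 1, 0, 3, 2, 1, 0], [2, 2, 2, 3, 2, 2, 1, 0, 1, 2, 1, 0, 2, 1]],
    [[3, 3, 2, 1, 1, 2, 3, 1, 1, 0, 1, 3, 1, 1], [1, 2, 3, 1, 2, 3, 2, 1, 2, 2, 1, 1, 3, 3], [2, 1, 1, 0, 3, 3, 2, 3, 1, 0, 3, 3, 3, 3], [2, 0, 3, 1, 2, 2, 2, 2, 2, 0, 0, 0, 0, 0], [0, 3, 2, 2, 2, 1, 2, 1, 1, 2, 1, 3, 3, 3], [0, 1, 2, 3, 1, 3, 1, 1, 1, 0, 3, 1, 3, 3], [0, 1, 2, 0, 1, 0, 1, 1, 3, 0, 3, 3, 3, 3], [0, 1, 0, 1, 2, 3, 3, 1, 2, 2, 1, 1, 3, 1], [3, 3, 0, 2, 1, 3, 0, 2, 2, 2, 1, 3, 3, 3], [1, 3, 3, 2, 1, 3, 1, 0, 3, 0, 1, 2, 0, 2],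 [1, 1, 1, 3, 0, 1, 2, 2, 0, 3, 2, 3, 1, 1], [0, 1, 2, 1, 2, 1, 1, 2, 2, 0, 1, 2, 1, 3], [0, 1, 1, 3, 1, 1, 2, 2, 1, 3, 3, 2, 1, 0], [3, 3, 3, 2, 3, 3, 1, 0, 1, 3, 1, 0, 3, 1]],
    [[3, 0, 2, 2, 2, 0, 3, 2, 1, 0, 1, 3, 1, 1], [1, 0, 1, 0, 1, 0, 2, 3, 2, 2, 1, 1, 3, 3], [2, 3, 1, 3, 1, 1, 2, 1, 1, 0, 3, 3, 3, 3], [2, 0, 2, 0, 2, 2, 2, 2, 2, 0, 0, 0, 0, 0], [0, 1, 3, 1, 1, 3, 2, 3, 1, 2, 1, 3, 3, 3], [0, 3, 3, 0, 3, 0, 1, 3, 1, 0, 3, 1, 3, 3], [0, 3, 3, 2, 3, 2, 1, 3, 3, 0, 3, 3, 3, 3], [0, 2, 2, 0, 1, 0, 3, 3, 2, 2, 1, 1, 3, 1], [3, 1, 3, 3, 2, 1, 0, 0, 2, 2, 1, 3, 3, 3], [1, 2, 3, 0, 2, 2, 1, 0, 3, 0, 1, 2, 0, 2], [1, 2, 0, 3, 1, 3, 2,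 1, 0, 3, 2, 3, 1, 1], [0, 3, 3, 0, 1, 0, 1, 1, 2, 0, 1, 2, 1, 3], [0, 1, 1, 0, 3, 0, 2, 1, 1, 3, 3, 2, 1, 0], [3, 0, 3, 1, 0, 3, 1, 2, 1, 3, 1, 0, 3, 1]],
    [[3, 1, 0, 3, 3, 3, 3, 3, 1, 0, 1, 3, 1, 1], [1, 3, 3, 2, 0, 1, 2, 0, 2, 2, 1, 1, 3, 3], [2, 0, 0, 2, 2, 2, 2, 2, 1, 0, 3, 3, 3, 3], [2, 0, 0, 2, 2, 2, 2, 2, 2, 0, 0, 0, 0, 0], [0, 2, 0, 0, 0, 0, 2, 0, 1, 2, 1, 3, 3, 3], [0, 0, 0, 1, 0, 1, 1, 0, 1, 0, 3, 1, 3, 3], [0, 0, 0, 1, 0, 1, 1, 0, 3, 0, 3, 3, 3, 3], [0, 3, 3, 2, 0, 1, 3, 0, 2, 2, 1, 1, 3, 1], [3, 2, 3, 1, 3, 2, 0, 3, 2, 2, 1, 3, 3, 3], [1, 0, 0, 3, 3, 0, 1, 0, 3, 0, 1, 2, 0, 2], [1, 3, 0, 3, 3, 0, 2, 0, 0, 3, 2, 3, 1, 1],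 [0, 0, 0, 2, 0, 2, 1, 0, 2, 0, 1, 2, 1, 3], [0, 1, 1, 1, 0, 2, 2, 0, 1, 3, 3, 2, 1, 0], [3, 1, 1, 0, 1, 3, 1, 1, 1, 3, 1, 0, 3, 1]],
    [[1, 1, 2, 1, 2, 3, 1, 1, 2, 3, 2, 1, 1, 2], [0, 1, 0, 0, 3, 0, 0, 2, 1, 0, 3, 3, 2, 0], [0, 0, 2, 1, 1, 3, 1, 3, 3, 3, 2, 2, 1, 2], [2, 0, 0, 0, 0, 0, 0, 3, 1, 2, 1, 1, 3, 1], [3, 3, 3, 2, 2, 0, 1, 1, 3, 1, 1, 2, 1, 2], [3, 0, 0, 0, 2, 0, 0, 0, 3, 3, 2, 1, 1, 2], [0, 0, 1, 3, 3, 2, 3, 2, 2, 1, 3, 1, 2, 3], [1, 1, 1, 0, 3, 2, 2, 2, 1, 2, 3, 3, 1, 3], [0, 2, 2, 1, 1, 0, 3, 0, 3, 0, 1, 0, 0, 2], [0, 0, 2, 0, 1, 0, 3, 3, 2, 3, 0, 1, 0, 1], [3, 3, 3, 2, 3, 0, 1, 1, 1, 3, 1, 2, 1, 1], [0, 3, 3, 0, 0, 1, 1,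 1, 0, 0, 0, 3, 1, 3], [1, 1, 1, 0, 3, 2, 2, 3, 1, 1, 3, 1, 1, 2], [0, 1, 3, 1, 1, 3, 3, 3, 3, 2, 1, 2, 3, 0]],
    [[3, 3, 2, 3, 0, 3, 1, 1, 2, 1, 2, 1, 3, 2], [1, 1, 1, 1, 0, 3, 0, 0, 1, 3, 3, 3, 2, 0], [3, 2, 2, 2, 3, 0, 1, 3, 3, 1, 2, 2, 3, 2], [3, 1, 2, 1, 1, 1, 0, 0, 1, 3, 1, 1, 2, 1], [0, 1, 3, 1, 3, 3, 1, 2, 3, 0, 1, 2, 3, 2], [0, 2, 2, 3, 0, 1, 0, 0, 3, 1, 2, 1, 3, 2], [2, 3, 3, 1, 0, 0, 3, 1, 2, 2, 3, 1, 1, 3], [0, 2, 2, 1, 0, 3, 2, 0, 1, 1, 3, 3, 2, 3], [3, 0, 2, 2, 0, 3, 3, 3, 3, 1, 1, 0, 2, 2], [2, 1, 1, 2, 1, 2, 3, 0, 2, 3, 0, 1, 1, 1], [2, 2, 2, 3, 2, 3, 1, 3, 1, 2, 1, 2, 0, 1], [0, 0, 0, 0, 0, 3, 1, 0, 0, 0, 0, 3, 2, 3],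 [0, 3, 3, 1, 0, 1, 2, 0, 1, 2, 3, 1, 3, 2], [3, 1, 1, 2, 0, 2, 3, 2, 3, 3, 1, 2, 3, 0]],
    [[3, 2, 3, 2, 1, 0, 1, 3, 2, 1, 2, 1, 3, 2], [1, 1, 2, 2, 2, 1, 0, 1, 1, 3, 3, 3, 2, 0], [3, 3, 3, 0, 2, 1, 1, 1, 3, 1, 2, 2, 3, 2], [3, 2, 2, 2, 2, 2, 0, 1, 1, 3, 1, 1, 2, 1], [0, 0, 0, 3, 0, 2, 1, 0, 3, 0, 1, 2, 3, 2], [0, 3, 1, 1, 1, 2, 0, 2, 3, 1, 2, 1, 3, 2], [2, 1, 3, 0, 2, 3, 3, 2, 2, 2, 3, 1, 1, 3], [0, 0, 3, 2, 2, 1, 2, 1, 1, 1, 3, 3, 2, 3], [3, 1, 3, 0, 3, 3, 3, 2, 3, 1, 1, 0, 2, 2], [2, 2, 2, 3, 1, 1, 3, 3, 2, 3, 0, 1, 1, 1], [2, 1, 1, 0, 1, 2, 1, 3, 1, 2, 1, 2, 0, 1], [0, 2, 1, 0, 0, 1, 1, 1, 0, 0, 0, 3, 2, 3], [0, 2, 0, 2, 2, 2, 2,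 2, 1, 2, 3, 1, 3, 2], [3, 1, 3, 0, 3, 3, 3, 0, 3, 3, 1, 2, 3, 0]],
    [[3, 0, 2, 0, 3, 1, 1, 0, 2, 1, 2, 1, 3, 2], [1, 1, 3, 3, 1, 2, 0, 3, 1, 3, 3, 3, 2, 0], [3, 1, 2, 3, 0, 3, 1, 2, 3, 1, 2, 2, 3, 2], [3, 3, 0, 3, 3, 3, 0, 3, 1, 3, 1, 1, 2, 1], [0, 2, 2, 0, 1, 0, 1, 3, 3, 0, 1, 2, 3, 2], [0, 1, 3, 2, 3, 3, 0, 1, 3, 1, 2, 1, 3, 2], [2, 2, 2, 2, 1, 2, 3, 3, 2, 2, 3, 1, 1, 3], [0, 3, 0, 3, 1, 2, 2, 3, 1, 1, 3, 3, 2, 3], [3, 3, 2, 3, 2, 3, 3, 0, 3, 1, 1, 0, 2, 2], [2, 3, 1, 1, 1, 0, 3, 2, 2, 3, 0, 1, 1, 1], [2, 0, 2, 1, 0, 0, 1, 3, 1, 2, 1, 2, 0, 1], [0, 1, 2, 0, 0, 2, 1, 3, 0, 0, 0, 3, 2, 3], [0, 0, 2, 3, 1, 3, 2, 1, 1, 2, 3, 1, 3, 2],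 [3, 1, 0, 3, 2, 1, 3, 3, 3, 3, 1, 2, 3, 0]],
    [[1, 3, 3, 2, 3, 3, 2, 1, 0, 2, 3, 0, 1, 3], [1, 2, 3, 0, 0, 0, 2, 0, 0, 2, 0, 0, 0, 3], [3, 1, 2, 3, 0, 3, 1, 2, 3, 1, 2, 2, 3, 2], [0, 2, 2, 0, 3, 0, 1, 1, 2, 2, 3, 3, 1, 3], [0, 2, 2, 0, 1, 0, 1, 3, 3, 0, 1, 2, 3, 2], [0, 1, 3, 2, 3, 3, 0, 1, 3, 1, 2, 1, 3, 2], [2, 3, 1, 0, 2, 1, 3, 2, 1, 3, 1, 0, 2, 1], [0, 3, 0, 3, 1, 2, 2, 3, 1, 1, 3, 3, 2, 3], [0, 1, 1, 0, 2, 0, 3, 0, 1, 0, 2, 0, 0, 1], [2, 3, 1, 1, 1, 0, 3, 2, 2, 3, 0, 1, 1, 1], [0, 2, 2, 0, 2, 0, 1, 3, 1, 1, 2, 2, 3, 1], [0, 2, 0, 1, 2, 0, 1, 0, 2, 3, 1, 0, 0, 2], [0, 2, 2, 1, 2, 2, 3, 3, 2, 1, 1, 3, 2, 0], [1, 2, 3, 1, 3, 3, 2,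 1, 3, 2, 1, 0, 1, 3]],
    [[1, 0, 3, 2, 0, 1, 2, 0, 0, 1, 3, 0, 2, 3], [1, 1, 1, 0, 0, 2, 2, 1, 0, 2, 0, 0, 3, 3], [0, 3, 3, 0, 2, 0, 1, 1, 3, 3, 2, 2, 1, 2], [2, 1, 3, 2, 0, 2, 1, 3, 2, 1, 3, 3, 2, 3], [3, 0, 3, 3, 0, 3, 1, 3, 3, 1, 1, 2, 1, 2], [3, 3, 0, 1, 1, 2, 0, 2, 3, 3, 2, 1, 1, 2], [3, 2, 3, 1, 3, 2, 3, 3, 1, 2, 1, 0, 3, 1], [1, 0, 1, 2, 2, 3, 2, 0, 1, 2, 3, 3, 1, 3], [1, 0, 1, 1, 0, 3, 3, 1, 1, 2, 2, 0, 1, 1], [0, 2, 1, 3, 1, 2, 3, 3, 2, 3, 0, 1, 0, 1], [1, 3, 2, 1, 0, 3, 1, 2, 1, 3, 2, 2, 2, 1], [2, 0, 1, 3, 3, 1, 1, 2, 2, 2, 1, 0, 2, 2], [2, 2, 1, 3, 3, 2, 3, 1, 2, 0, 1, 3, 2, 0], [2, 1, 3, 2, 2, 1, 2, 2, 3, 3, 1, 0, 2, 3]],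
    [[1, 2, 1, 2, 2, 1, 2, 1, 0, 1, 3, 0, 2, 3], [1, 3, 3, 0, 0, 2, 2, 3, 0, 2, 0, 0, 3, 3], [0, 2, 0, 2, 3, 1, 1, 2, 3, 3, 2, 2, 1, 2], [2, 3, 3, 3, 2, 0, 1, 2, 2, 1, 3, 3, 2, 3], [3, 1, 2, 1, 3, 2, 1, 0, 3, 1, 1, 2, 1, 2], [3, 2, 1, 3, 0, 1, 0, 1, 3, 3, 2, 1, 1, 2], [3, 1, 3, 2, 0, 2, 3, 1, 1, 2, 1, 0, 3, 1], [1, 2, 3, 1, 0, 1, 2, 3, 1, 2, 3, 3, 1, 3], [1, 3, 0, 2, 1, 3, 3, 2, 1, 2, 2, 0, 1, 1], [0, 1, 3, 2, 1, 1, 3, 3, 2, 3, 0, 1, 0, 1], [1, 0, 3, 2, 1, 2, 1, 3, 1, 3, 2, 2, 2, 1], [2, 1, 3, 2, 0, 1, 1, 3, 2, 2, 1, 0, 2, 2], [2, 2, 0, 2, 0, 0, 3, 0, 2, 0, 1, 3, 2, 0], [2, 3, 3, 0, 1, 1, 2, 3, 3, 3, 1, 0, 2, 3]],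
    [[1, 1, 3, 2, 1, 1, 2, 3, 0, 1, 3, 0, 2, 3], [1, 0, 1, 0, 0, 2, 2, 0, 0, 2, 0, 0, 3, 3], [0, 0, 2, 1, 1, 3, 1, 3, 3, 3, 2, 2, 1, 2], [2, 0, 2, 1, 1, 3, 1, 0, 2, 1, 3, 3, 2, 3], [3, 3, 3, 2, 2, 0, 1, 1, 3, 1, 1, 2, 1, 2], [3, 0, 0, 0, 2, 0, 0, 0, 3, 3, 2, 1, 1, 2], [3, 0, 1, 3, 1, 2, 3, 2, 1, 2, 1, 0, 3, 1], [1, 1, 1, 0, 3, 2, 2, 2, 1, 2, 3, 3, 1, 3], [1, 2, 0, 3, 3, 3, 3, 3, 1, 2, 2, 0, 1, 1], [0, 0, 2, 0, 1, 0, 3, 3, 2, 3, 0, 1, 0, 1], [1, 1, 3, 3, 3, 0, 1, 1, 1, 3, 2, 2, 2, 1], [2, 3, 3, 0, 1, 1, 1, 1, 2, 2, 1, 0, 2, 2], [2, 2, 2, 0, 1, 3, 3, 2, 2, 0, 1, 3, 2, 0], [2, 0, 2, 3, 0, 1, 2, 1, 3, 3, 1, 0, 2, 3]],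
    [[2, 1, 0, 2, 2, 2, 2, 2, 2, 0, 3, 1, 3, 3], [1, 0, 0, 0, 0, 0, 1, 0, 0, 0, 0, 0, 0, 2], [2, 0, 0, 2, 2, 2, 2, 2, 1, 0, 3, 3, 3, 3], [0, 0, 0, 0, 0, 0, 0, 0, 3, 0, 3, 3, 3, 3], [0, 2, 0, 0, 0, 0, 2, 0, 1, 2, 1, 3, 3, 3], [0, 0, 0, 1, 0, 1, 1, 0, 1, 0, 3, 1, 3, 3], [0, 0, 0, 0, 0, 0, 0, 0, 2, 0, 0, 2, 0, 0], [0, 3, 3, 2, 0, 1, 3, 0, 2, 2, 1, 1, 3, 1], [0, 0, 0, 0, 0, 0, 0, 0, 3, 0, 3, 3, 3, 1], [1, 0, 0, 3, 3, 0, 1, 0, 3, 0, 1, 2, 0, 2], [0, 2, 0, 0, 0, 0, 2, 0, 0, 2, 0, 3, 3, 1], [0, 0, 0, 1, 0, 1, 2, 0, 1, 0, 3, 1, 3, 1], [0, 3, 3, 0, 0, 1, 0, 0, 0, 2, 0, 1, 3, 3], [3, 0, 0, 2, 2, 2, 3, 2, 2, 0, 3, 3, 3, 1]],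
    [[0, 2, 1, 0, 1, 1, 2, 1, 2, 3, 3, 1, 0, 3], [1, 2, 3, 0, 0, 1, 1, 2, 0, 0, 0, 0, 2, 2], [3, 3, 2, 3, 1, 3, 2, 3, 1, 3, 3, 3, 0, 3], [3, 3, 0, 3, 3, 3, 0, 3, 3, 3, 3, 3, 0, 3], [1, 1, 2, 1, 1, 1, 2, 3, 1, 3, 1, 3, 0, 3], [1, 3, 3, 0, 3, 1, 1, 1, 1, 3, 3, 1, 0, 3], [2, 0, 2, 2, 0, 2, 0, 2, 2, 0, 0, 2, 0, 0], [2, 2, 2, 0, 1, 3, 3, 3, 2, 3, 1, 1, 2, 1], [3, 1, 2, 3, 3, 3, 0, 1, 3, 3, 3, 3, 2, 1], [2, 2, 3, 0, 2, 3, 1, 1, 3, 1, 1, 2, 2, 2], [0, 3, 1, 0, 0, 1, 2, 0, 0, 2, 0, 3, 2, 1], [1, 1, 1, 0, 3, 2, 2, 3, 1, 3, 3, 1, 2, 1], [0, 0, 0, 0, 0, 0, 0, 3, 0, 2, 0, 1, 0, 3], [1, 1, 2, 0, 1, 2, 3, 2, 2, 3, 3, 3, 2, 1]],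
    [[0, 0, 0, 1, 3, 2, 2, 1, 2, 3, 3, 1, 0, 3], [1, 3, 3, 0, 0, 1, 1, 3, 0, 0, 0, 0, 2, 2], [3, 1, 1, 0, 3, 1, 2, 3, 1, 3, 3, 3, 0, 3], [3, 1, 3, 1, 1, 1, 0, 3, 3, 3, 3, 3, 0, 3], [1, 3, 0, 2, 2, 3, 2, 3, 1, 3, 1, 3, 0, 3], [1, 1, 1, 3, 1, 2, 1, 1, 1, 3, 3, 1, 0, 3], [2, 0, 3, 3, 0, 3, 0, 2, 2, 0, 0, 2, 0, 0], [2, 1, 1, 1, 2, 0, 3, 2, 2, 3, 1, 1, 2, 1], [3, 2, 2, 1, 1, 1, 0, 0, 3, 3, 3, 3, 2, 1], [2, 3, 1, 2, 1, 2, 1, 0, 3, 1, 1, 2, 2, 2], [0, 0, 3, 0, 0, 3, 2, 1, 0, 2, 0, 3, 2, 1], [1, 2, 0, 3, 1, 1, 2, 2, 1, 3, 3, 1, 2, 1], [0, 2, 1, 0, 0, 3, 0, 3, 0, 2, 0, 1, 0, 3], [1, 2, 3, 1, 3, 0, 3, 3, 2, 3, 3, 3, 2, 1]],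
    [[0, 3, 3, 3, 0, 3, 2, 1, 2, 3, 3, 1, 0, 3], [1, 1, 0, 0, 0, 1, 1, 1, 0, 0, 0, 0, 2, 2], [3, 2, 1, 1, 0, 2, 2, 3, 1, 3, 3, 3, 0, 3], [3, 2, 3, 2, 2, 2, 0, 3, 3, 3, 3, 3, 0, 3], [1, 0, 2, 3, 3, 0, 2, 3, 1, 3, 1, 3, 0, 3], [1, 2, 3, 2, 2, 3, 1, 1, 1, 3, 3, 1, 0, 3], [2, 0, 1, 1, 0, 1, 0, 2, 2, 0, 0, 2, 0, 0], [2, 0, 2, 3, 3, 1, 3, 0, 2, 3, 1, 1, 2, 1], [3, 3, 0, 2, 2, 2, 0, 2, 3, 3, 3, 3, 2, 1], [2, 1, 1, 1, 0, 0, 1, 2, 3, 1, 1, 2, 2, 2], [0, 1, 2, 0, 0, 0, 2, 3, 0, 2, 0, 3, 2, 1], [1, 3, 0, 2, 2, 0, 2, 0, 1, 3, 3, 1, 2, 1], [0, 1, 2, 0, 0, 2, 0, 3, 0, 2, 0, 1, 0, 3], [1, 3, 3, 3, 0, 3, 3, 1, 2, 3, 3, 3, 2, 1]],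
    [[1, 0, 2, 0, 0, 0, 0, 0, 0, 0, 0, 0, 0, 0], [0, 1, 0, 0, 0, 0, 0, 1, 0, 0, 0, 0, 0, 0], [0, 0, 1, 0, 0, 0, 0, 0, 0, 0, 0, 0, 0, 0], [0, 0, 1, 1, 0, 0, 0, 0, 0, 0, 0, 0, 0, 0], [0, 0, 0, 0, 1, 0, 0, 0, 0, 0, 0, 0, 0, 0], [0, 0, 0, 0, 0, 1, 0, 0, 0, 0, 0, 0, 0, 0], [0, 0, 0, 0, 0, 1, 1, 0, 0, 0, 0, 0, 0, 0], [0, 0, 0, 0, 0, 0, 0, 1, 0, 0, 0, 0, 0, 0], [1, 0, 2, 2, 0, 0, 0, 1, 1, 0, 0, 0, 0, 0], [0, 0, 0, 0, 0, 0, 0, 0, 0, 1, 0, 0, 0, 0], [0, 0, 0, 0, 2, 0, 0, 0, 0, 1, 1, 0, 0, 0], [0, 0, 0, 0, 0, 2, 0, 0, 0, 0, 0, 1, 0, 0], [0, 0, 0, 0, 0, 0, 0, 2, 0, 0, 0, 0, 1, 0], [0, 2, 3, 0, 0, 0, 0, 2, 0, 0, 0, 0, 1, 1]],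
    [[1, 0, 3, 0, 0, 0, 0, 0, 0, 0, 0, 0, 0, 0], [0, 1, 0, 0, 0, 0, 0, 0, 0, 0, 0, 0, 0, 0], [0, 0, 1, 0, 0, 0, 0, 0, 0, 0, 0, 0, 0, 0], [0, 0, 0, 1, 0, 0, 0, 0, 0, 0, 0, 0, 0, 0], [0, 0, 0, 0, 1, 0, 0, 0, 0, 0, 0, 0, 0, 0], [0, 0, 0, 0, 0, 1, 0, 0, 0, 0, 0, 0, 0, 0], [0, 0, 0, 0, 0, 0, 1, 0, 0, 0, 0, 0, 0, 0], [0, 0, 0, 0, 0, 0, 0, 1, 0, 0, 0, 0, 0, 0], [0, 0, 0, 3, 0, 0, 0, 0, 1, 0, 0, 0, 0, 0], [0, 0, 0, 0, 0, 0, 0, 0, 0, 1, 0, 0, 0, 0], [0, 0, 0, 0, 3, 0, 0, 0, 0, 0, 1, 0, 0, 0], [0, 0, 0, 0, 0, 3, 0, 0, 0, 0, 0, 1, 0, 0], [0, 0, 0, 0, 0, 0, 0, 3, 0, 0, 0, 0, 1, 0], [0, 3, 2, 0, 0, 0, 0, 0, 0, 0, 0, 0, 0, 1]],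
    [[1, 0, 0, 0, 0, 0, 0, 0, 0, 0, 0, 0, 0, 0], [0, 1, 0, 0, 0, 0, 0, 0, 0, 0, 0, 0, 0, 0], [0, 0, 1, 0, 0, 0, 0, 0, 0, 0, 0, 0, 0, 0], [0, 0, 0, 1, 0, 0, 0, 0, 0, 0, 0, 0, 0, 0], [0, 0, 0, 0, 1, 0, 0, 0, 0, 0, 0, 0, 0, 0], [0, 0, 0, 0, 0, 1, 0, 0, 0, 0, 0, 0, 0, 0], [0, 0, 0, 0, 0, 0, 1, 0, 0, 0, 0, 0, 0, 0], [0, 0, 0, 0, 0, 0, 0, 1, 0, 0, 0, 0, 0, 0], [0, 0, 0, 0, 0, 0, 0, 0, 1, 0, 0, 0, 0, 0], [0, 0, 0, 0, 0, 0, 0, 0, 0, 1, 0, 0, 0, 0], [0, 0, 0, 0, 0, 0, 0, 0, 0, 0, 1, 0, 0, 0], [0, 0, 0, 0, 0, 0, 0, 0, 0, 0, 0, 1, 0, 0], [0, 0, 0, 0, 0, 0, 0, 0, 0, 0, 0, 0, 1, 0], [0, 0, 0, 0, 0, 0, 0, 0, 0, 0, 0, 0, 0, 1]]]),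
  ([(.b, true), (.c, true), (.d, true), (.c, true), (.d, true), (.b, true), (.c, true), (.d, true), (.c, true), (.d, true), (.b, true), (.c, true), (.d, true), (.c, true), (.d, true), (.b, true), (.c, true), (.d, true), (.c, true), (.d, true), (.b, true), (.c, true), (.d, true), (.c, true), (.d, true), (.e, true), (.b, true), (.c, true), (.d, true), (.c, true), (.d, true), (.b, true), (.c, true), (.d, true), (.c, true), (.d, true), (.b, true), (.c, true), (.d, true), (.c, true), (.d, true), (.b, true), (.c, true), (.d, true), (.c, true), (.d, true), (.b, true), (.c, true), (.d, true), (.c, true), (.d, true), (.e, true), (.b, true), (.c,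 true), (.d, true), (.c, true), (.d, true), (.b, true), (.c, true), (.d, true), (.c, true), (.d, true), (.b, true), (.c, true), (.d, true), (.c, true), (.d, true), (.b, true), (.c, true), (.d, true), (.c, true), (.d, true), (.b, true), (.c, true), (.d, true), (.c, true), (.d, true), (.e, true)],
   [[[1, 0, 1, 1, 0, 0, 1, 0, 0, 2, 2, 0, 0, 2], [3, 1, 2, 3, 3, 0, 2, 1, 2, 3, 1, 1, 0, 3], [3, 2, 1, 1, 0, 2, 2, 3, 1, 3, 3, 3, 0, 3], [0, 0, 2, 3, 2, 0, 2, 0, 2, 0, 0, 0, 0, 0], [1, 0, 2, 3, 3, 0, 2, 3, 1, 3, 1, 3, 0, 3], [1, 2, 3, 2, 2, 3, 1, 1, 1, 3, 3, 1, 0, 3], [3, 2, 2, 3, 2, 2, 1, 3, 3, 3, 3, 3, 0, 3], [2, 0, 2, 3, 3, 1, 3, 0, 2, 3, 1, 1,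 2, 1], [1, 0, 2, 3, 2, 0, 2, 3, 0, 3, 1, 3, 0, 3], [2, 1, 1, 1, 0, 0, 1, 2, 3, 1, 1, 2, 2, 2], [0, 0, 0, 0, 1, 0, 0, 0, 1, 2, 3, 0, 0, 2], [3, 0, 1, 1, 1, 1, 0, 2, 3, 2, 2, 3, 2, 0], [3, 1, 1, 1, 1, 0, 1, 3, 3, 3, 2, 3, 3, 1], [2, 1, 1, 1, 1, 0, 1, 2, 2, 2, 3, 2, 2, 1]],
    [[1, 2, 3, 1, 2, 1, 1, 2, 0, 0, 2, 0, 2, 2], [1, 2, 3, 1, 2, 3, 2, 1, 2, 2, 1, 1, 3, 3], [2, 1, 1, 0, 3, 3, 2, 3, 1, 0, 3, 3, 3, 3], [2, 0, 3, 1, 2, 2, 2, 2, 2, 0, 0, 0, 0, 0], [0, 3, 2, 2, 2, 1, 2, 1, 1, 2, 1, 3, 3, 3], [0, 1, 2, 3, 1, 3, 1, 1, 1, 0, 3, 1, 3, 3], [0, 1, 2, 0, 1, 0, 1, 1, 3, 0, 3, 3, 3, 3], [0, 1, 0, 1, 2, 3, 3, 1, 2, 2, 1, 1, 3, 1], [1, 3, 3, 3, 3,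 1, 2, 0, 0, 2, 1, 3, 3, 3], [1, 3, 3, 2, 1, 3, 1, 0, 3, 0, 1, 2, 0, 2], [1, 2, 3, 1, 2, 0, 0, 3, 1, 1, 3, 0, 2, 2], [0, 0, 0, 2, 3, 2, 0, 3, 3, 0, 2, 3, 2, 0], [0, 0, 1, 2, 3, 2, 1, 3, 3, 1, 2, 3, 2, 1], [0, 0, 1, 3, 2, 3, 1, 2, 2, 1, 3, 2, 3, 1]],
    [[1, 0, 0, 0, 0, 1, 0, 0, 0, 0, 0, 2, 2, 2], [1, 3, 1, 0, 1, 0, 1, 2, 1, 2, 2, 2, 3, 3], [2, 2, 0, 1, 0, 0, 0, 0, 2, 0, 0, 0, 3, 3], [2, 0, 1, 1, 0, 0, 0, 2, 2, 0, 0, 0, 0, 0], [0, 2, 1, 0, 1, 0, 0, 2, 0, 2, 2, 0, 3, 3], [0, 2, 1, 0, 0, 0, 1, 2, 0, 0, 0, 2, 3, 3], [0, 2, 1, 0, 0, 1, 1, 2, 0, 0, 0, 0, 3, 3], [0, 2, 1, 0, 1, 0, 1, 2, 1, 2, 2, 2, 3, 1], [1, 2, 1, 0, 1, 1, 1, 3, 1, 2, 2, 0, 3,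 3], [1, 1, 0, 0, 0, 1, 0, 0, 0, 0, 1, 2, 0, 2], [1, 1, 0, 0, 0, 1, 0, 1, 0, 1, 1, 2, 2, 2], [0, 0, 0, 0, 0, 0, 0, 1, 0, 0, 0, 1, 2, 0], [0, 0, 0, 0, 0, 0, 0, 1, 0, 1, 0, 1, 2, 1], [0, 0, 0, 0, 0, 0, 0, 1, 0, 1, 0, 1, 3, 1]],
    [[1, 2, 3, 0, 0, 3, 0, 0, 0, 0, 0, 2, 0, 2], [0, 0, 2, 1, 3, 3, 1, 0, 1, 0, 2, 2, 0, 3], [0, 1, 2, 3, 0, 0, 0, 0, 2, 0, 0, 0, 0, 3], [0, 0, 0, 3, 0, 0, 0, 0, 2, 0, 0, 0, 0, 0], [0, 1, 2, 0, 3, 0, 0, 0, 0, 0, 2, 0, 0, 3], [0, 1, 2, 0, 0, 3, 1, 0, 0, 0, 0, 2, 0, 3], [0, 1, 2, 0, 0, 0, 1, 0, 0, 0, 0, 0, 0, 3], [1, 3, 1, 1, 3, 3, 1, 3, 1, 0, 2, 2, 2, 1], [0, 1, 2, 1, 3, 0, 1, 0, 1, 0, 2, 0, 0, 3], [1, 3, 3, 0, 1, 3,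 0, 3, 0, 1, 1, 2, 2, 2], [1, 3, 3, 0, 1, 3, 0, 0, 0, 0, 1, 2, 0, 2], [0, 0, 0, 0, 0, 1, 0, 3, 0, 0, 0, 1, 2, 0], [0, 1, 1, 0, 0, 1, 0, 2, 0, 1, 0, 1, 3, 1], [0, 1, 1, 0, 0, 1, 0, 3, 0, 1, 0, 1, 2, 1]],
    [[1, 0, 0, 1, 0, 1, 1, 0, 2, 0, 0, 2, 0, 2], [0, 3, 1, 0, 1, 1, 1, 0, 1, 0, 2, 2, 0, 3], [0, 2, 1, 1, 0, 0, 0, 0, 2, 0, 0, 0, 0, 3], [0, 0, 0, 1, 0, 0, 0, 0, 2, 0, 0, 0, 0, 0], [0, 2, 1, 1, 1, 0, 0, 0, 2, 0, 2, 0, 0, 3], [0, 2, 1, 1, 0, 1, 1, 0, 2, 0, 0, 2, 0, 3], [0, 2, 1, 0, 0, 0, 1, 0, 0, 0, 0, 0, 0, 3], [1, 2, 1, 1, 0, 0, 0, 1, 3, 0, 0, 0, 2, 1], [0, 2, 1, 1, 1, 0, 1, 0, 3, 0, 2, 0, 0, 3], [1, 0, 0, 0, 1, 0, 0, 1, 1, 1, 3, 0, 2, 2],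 [1, 1, 0, 1, 0, 1, 1, 0, 3, 0, 1, 2, 0, 2], [0, 0, 0, 1, 1, 1, 0, 1, 3, 0, 2, 3, 2, 0], [0, 1, 0, 1, 1, 1, 1, 1, 2, 1, 3, 2, 3, 1], [0, 1, 0, 1, 1, 1, 1, 1, 3, 1, 2, 3, 2, 1]],
    [[3, 2, 1, 2, 1, 3, 2, 3, 2, 3, 2, 1, 0, 1], [3, 2, 0, 3, 0, 1, 0, 0, 1, 0, 0, 2, 2, 1], [1, 3, 0, 1, 3, 2, 3, 1, 1, 2, 1, 1, 1, 0], [2, 0, 1, 2, 1, 0, 1, 1, 2, 1, 2, 1, 0, 1], [0, 3, 2, 2, 2, 2, 1, 2, 2, 2, 1, 2, 1, 0], [2, 3, 3, 2, 1, 1, 3, 0, 2, 1, 2, 2, 2, 0], [0, 1, 3, 0, 0, 0, 3, 3, 0, 0, 0, 3, 1, 2], [1, 3, 1, 0, 2, 3, 3, 0, 1, 2, 1, 1, 1, 0], [2, 1, 2, 2, 2, 0, 2, 2, 1, 2, 3, 2, 1, 0], [3, 1, 2, 3, 1, 1, 3, 0, 1, 3, 2, 1, 2, 0], [1, 3, 1, 2, 1, 3, 2,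 1, 1, 1, 1, 3, 0, 3], [2, 0, 1, 2, 2, 1, 1, 0, 1, 2, 3, 2, 2, 2], [3, 2, 3, 1, 1, 2, 1, 0, 0, 1, 1, 3, 3, 1], [2, 3, 1, 2, 2, 3, 2, 2, 1, 1, 3, 0, 2, 1]],
    [[1, 3, 3, 0, 3, 0, 2, 2, 2, 1, 2, 1, 1, 1], [2, 3, 0, 2, 0, 3, 0, 0, 1, 0, 0, 2, 3, 1], [0, 3, 1, 0, 2, 0, 3, 2, 1, 3, 1, 1, 1, 0], [0, 1, 2, 0, 3, 0, 1, 2, 2, 3, 2, 1, 1, 1], [2, 3, 2, 0, 3, 1, 1, 2, 2, 3, 1, 2, 1, 0], [0, 3, 1, 0, 3, 0, 3, 3, 2, 3, 2, 2, 2, 0], [0, 3, 1, 0, 0, 0, 3, 1, 0, 0, 0, 3, 3, 2], [0, 3, 1, 1, 3, 1, 3, 3, 1, 3, 1, 1, 1, 0], [3, 1, 3, 3, 1, 0, 2, 3, 1, 1, 3, 2, 1, 0], [2, 1, 3, 2, 3, 3, 3, 2, 1, 1, 2, 1, 2, 0], [0, 0, 0, 3, 0, 2, 2, 0, 1, 0, 1, 3, 3, 3],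 [3, 2, 2, 3, 1, 2, 1, 1, 1, 1, 3, 2, 0, 2], [3, 3, 0, 1, 0, 0, 1, 0, 0, 0, 1, 3, 2, 1], [3, 2, 1, 3, 1, 1, 2, 3, 1, 2, 3, 0, 3, 1]],
    [[1, 3, 3, 1, 2, 2, 2, 3, 0, 1, 3, 0, 1, 1], [2, 2, 3, 1, 3, 2, 2, 3, 0, 0, 3, 1, 3, 1], [0, 0, 1, 0, 0, 2, 0, 3, 0, 3, 0, 0, 1, 0], [0, 3, 3, 1, 2, 2, 2, 3, 0, 3, 3, 0, 1, 1], [2, 0, 0, 0, 1, 0, 0, 3, 0, 3, 0, 3, 1, 0], [0, 0, 1, 0, 0, 3, 0, 1, 0, 3, 0, 0, 2, 0], [0, 1, 3, 1, 2, 1, 3, 2, 0, 0, 3, 0, 3, 2], [0, 0, 1, 0, 0, 2, 0, 2, 0, 3, 0, 0, 1, 0], [3, 0, 0, 0, 0, 0, 0, 2, 1, 1, 2, 3, 1, 0], [2, 0, 1, 0, 1, 2, 0, 0, 0, 1, 0, 3, 2, 0], [0, 3, 3, 1, 2, 2, 2, 3, 0, 0, 2, 0, 3, 3], [3, 1, 3, 1, 3, 1, 3,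 1, 0, 1, 3, 2, 0, 2], [3, 2, 2, 1, 3, 1, 2, 2, 0, 0, 3, 1, 2, 1], [3, 1, 3, 1, 2, 1, 3, 0, 1, 2, 0, 3, 3, 1]],
    [[1, 2, 2, 1, 1, 0, 2, 0, 0, 2, 3, 0, 0, 1], [2, 3, 1, 1, 0, 1, 2, 3, 0, 3, 3, 1, 2, 1], [0, 0, 1, 0, 0, 2, 0, 2, 0, 3, 0, 0, 1, 0], [0, 2, 3, 1, 1, 0, 2, 0, 0, 0, 3, 0, 0, 1], [2, 0, 2, 0, 1, 3, 0, 2, 0, 3, 0, 3, 1, 0], [0, 0, 1, 0, 0, 3, 0, 3, 0, 3, 0, 0, 2, 0], [0, 3, 0, 1, 1, 2, 3, 2, 0, 3, 3, 0, 1, 2], [0, 0, 1, 0, 0, 2, 0, 3, 0, 3, 0, 0, 1, 0], [2, 0, 2, 1, 2, 3, 0, 2, 1, 3, 2, 3, 1, 0], [2, 0, 3, 0, 1, 1, 0, 2, 0, 1, 0, 3, 2, 0], [0, 0, 1, 1, 0, 0, 2, 0, 0, 2, 2, 0, 0, 3], [3, 3, 3, 1, 0, 0, 3, 2, 0, 2, 3, 2, 2, 2],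 [3, 3, 1, 1, 0, 2, 2, 3, 0, 3, 3, 1, 3, 1], [2, 0, 1, 0, 2, 1, 3, 2, 1, 2, 0, 3, 2, 1]],
    [[1, 1, 2, 3, 2, 0, 1, 0, 3, 2, 3, 0, 0, 1], [2, 1, 2, 3, 2, 1, 3, 1, 0, 3, 1, 3, 2, 1], [0, 3, 1, 1, 3, 1, 3, 3, 1, 3, 1, 1, 1, 0], [0, 3, 2, 3, 2, 0, 2, 0, 3, 0, 3, 0, 0, 1], [2, 3, 0, 2, 2, 3, 1, 3, 2, 3, 1, 2, 1, 0], [0, 3, 1, 2, 1, 2, 3, 1, 2, 3, 2, 2, 2, 0], [0, 2, 2, 2, 1, 1, 0, 3, 2, 3, 2, 1, 1, 2], [0, 3, 1, 0, 2, 0, 3, 2, 1, 3, 1, 1, 1, 0], [2, 3, 0, 3, 3, 3, 1, 3, 1, 3, 3, 2, 1, 0], [2, 1, 1, 3, 1, 2, 3, 0, 1, 1, 2, 1, 2, 0], [0, 1, 2, 3, 2, 0, 0, 0, 2, 2, 2, 0, 0, 3], [3, 3, 2, 0, 3, 2, 2, 0, 3, 2, 1, 0, 2, 2], [3, 1, 3, 1, 3, 3, 2,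 0, 1, 3, 0, 2, 3, 1], [2, 3, 2, 1, 2, 2, 3, 0, 0, 2, 2, 1, 2, 1]],
    [[0, 3, 3, 1, 2, 1, 1, 1, 0, 1, 3, 1, 1, 3], [3, 1, 3, 0, 2, 3, 0, 1, 0, 1, 0, 3, 1, 0], [0, 0, 1, 0, 0, 2, 0, 2, 0, 3, 0, 0, 1, 0], [1, 2, 2, 1, 2, 0, 2, 2, 0, 2, 3, 2, 2, 1], [2, 2, 1, 1, 0, 1, 2, 2, 0, 3, 3, 3, 0, 1], [1, 2, 3, 1, 2, 1, 2, 1, 0, 1, 3, 2, 1, 1], [1, 3, 0, 1, 2, 2, 1, 3, 0, 1, 3, 1, 2, 3], [2, 2, 0, 1, 0, 0, 2, 0, 0, 0, 3, 3, 3, 1], [0, 2, 0, 3, 2, 1, 3, 3, 1, 1, 0, 2, 0, 3], [2, 2, 2, 1, 0, 3, 1, 3, 0, 1, 3, 2, 1, 3], [0, 3, 0, 2, 1, 3, 1, 2, 1, 2, 1, 2, 2, 1], [2, 2, 0, 3, 0, 1, 3, 0, 1, 0, 0, 0, 1, 3], [2, 3, 1, 2, 3, 2, 1, 2, 1, 2, 1, 0, 2, 1],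 [0, 3, 0, 1, 3, 2, 1, 1, 0, 2, 1, 0, 2, 1]],
    [[0, 0, 1, 1, 1, 1, 1, 0, 0, 2, 3, 1, 2, 3], [3, 1, 0, 0, 2, 0, 0, 1, 0, 1, 0, 3, 1, 0], [0, 0, 1, 0, 0, 2, 0, 3, 0, 3, 0, 0, 1, 0], [1, 3, 3, 1, 1, 0, 2, 3, 0, 1, 3, 2, 3, 1], [2, 3, 3, 1, 3, 0, 2, 1, 0, 0, 3, 3, 1, 1], [1, 3, 2, 1, 1, 1, 2, 3, 0, 2, 3, 2, 0, 1], [1, 0, 3, 1, 1, 2, 1, 1, 0, 2, 3, 1, 1, 3], [2, 3, 2, 1, 3, 1, 2, 0, 0, 3, 3, 3, 2, 1], [1, 1, 1, 2, 2, 0, 3, 3, 1, 1, 0, 2, 3, 3], [2, 1, 2, 1, 3, 0, 1, 3, 0, 2, 3, 2, 2, 3], [1, 2, 2, 3, 0, 0, 1, 3, 1, 3, 1, 2, 3, 1], [3, 1, 3, 2, 0, 2, 3, 1, 1, 0, 0, 0, 2, 3], [3, 2, 1, 3, 2, 3, 1, 3, 1, 3, 1, 0, 3, 1], [0, 2, 0, 1, 2, 3, 1,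 1, 0, 3, 1, 0, 3, 1]],
    [[0, 1, 2, 1, 0, 2, 3, 2, 0, 2, 1, 3, 2, 3], [3, 0, 3, 1, 2, 3, 2, 0, 2, 1, 1, 2, 1, 0], [0, 3, 1, 0, 2, 0, 3, 2, 1, 3, 1, 1, 1, 0], [1, 3, 3, 1, 2, 2, 2, 0, 2, 1, 0, 1, 3, 1], [2, 2, 0, 2, 0, 3, 0, 0, 1, 0, 2, 2, 1, 1], [1, 0, 2, 3, 1, 0, 1, 3, 1, 2, 3, 2, 0, 1], [1, 1, 1, 0, 2, 3, 2, 0, 3, 2, 2, 0, 1, 3], [2, 1, 1, 1, 2, 0, 3, 2, 2, 3, 1, 1, 2, 1], [1, 3, 3, 3, 2, 2, 3, 0, 0, 1, 3, 1, 3, 3], [2, 0, 3, 2, 1, 3, 1, 1, 3, 2, 1, 0, 2, 3], [1, 0, 2, 1, 1, 2, 3, 0, 1, 3, 2, 1, 3, 1], [3, 2, 3, 2, 3, 1, 0, 3, 3, 0, 2, 2, 2, 3], [3, 0, 3, 2, 3, 3, 1, 0, 3, 3, 2, 3, 3, 1], [0, 0, 1, 3, 1, 1, 2, 2, 2, 3, 2, 3, 3, 1]],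
    [[0, 2, 0, 1, 1, 2, 3, 2, 0, 3, 1, 3, 1, 3], [1, 0, 3, 3, 3, 3, 2, 3, 2, 0, 1, 2, 1, 0], [1, 3, 0, 1, 3, 2, 3, 1, 1, 2, 1, 1, 1, 0], [3, 2, 0, 3, 2, 1, 2, 3, 2, 1, 0, 1, 2, 1], [3, 3, 0, 3, 2, 1, 0, 3, 1, 2, 2, 2, 0, 1], [0, 1, 0, 2, 2, 3, 1, 3, 1, 1, 3, 2, 1, 1], [2, 2, 0, 3, 0, 1, 2, 0, 3, 0, 2, 0, 2, 3], [0, 0, 1, 3, 3, 2, 3, 2, 2, 2, 1, 1, 3, 1], [1, 0, 2, 3, 1, 0, 3, 3, 0, 2, 3, 1, 0, 3], [1, 3, 3, 1, 0, 2, 1, 3, 3, 3, 1, 0, 1, 3], [0, 1, 2, 0, 3, 0, 3, 3, 1, 1, 2, 1, 2, 1], [0, 1, 2, 1, 1, 3, 0, 3, 3, 2, 2, 2, 1, 3], [0, 1, 0, 1, 1, 1, 1, 1, 3, 1, 2, 3, 2, 1], [2, 1, 1, 1, 3, 0, 2, 2, 2, 1, 2, 3, 2, 1]],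
    [[0, 2, 3, 3, 3, 2, 0, 3, 3, 3, 0, 2, 1, 3], [1, 0, 2, 0, 0, 3, 3, 2, 0, 0, 0, 3, 1, 0], [1, 1, 1, 1, 2, 3, 0, 0, 0, 2, 0, 0, 1, 0], [3, 2, 2, 2, 3, 1, 0, 1, 1, 1, 2, 3, 2, 1], [3, 0, 2, 2, 3, 0, 1, 3, 1, 2, 2, 2, 0, 1], [0, 1, 1, 1, 3, 3, 0, 2, 1, 1, 2, 3, 1, 1], [2, 1, 1, 1, 0, 3, 0, 2, 3, 0, 0, 2, 2, 3], [0, 3, 0, 1, 3, 2, 1, 1, 1, 2, 2, 2, 3, 1], [1, 1, 0, 3, 1, 2, 0, 3, 2, 2, 3, 1, 0, 3], [1, 3, 1, 3, 3, 0, 3, 2, 3, 3, 0, 1, 1, 3], [0, 1, 3, 0, 0, 0, 2, 1, 0, 1, 0, 3, 2, 1], [0, 0, 1, 2, 1, 3, 2, 2, 2, 2, 3, 3, 1, 3], [0, 1, 1, 0, 0, 1, 0, 3, 0, 1, 0, 1, 2, 1], [2, 1, 2, 1, 1, 3, 1, 0, 1, 1, 0, 1, 2, 1]],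
    [[2, 1, 2, 2, 2, 1, 2, 2, 0, 2, 2, 3, 1, 2], [3, 2, 1, 3, 3, 1, 2, 2, 1, 0, 2, 3, 1, 0], [0, 1, 2, 3, 0, 0, 0, 0, 2, 0, 0, 0, 0, 3], [1, 1, 2, 0, 1, 2, 3, 3, 2, 0, 3, 1, 2, 0], [2, 2, 3, 1, 2, 0, 0, 1, 0, 0, 1, 0, 3, 0], [3, 3, 1, 2, 0, 1, 2, 2, 0, 0, 0, 3, 1, 0], [0, 3, 0, 2, 3, 0, 2, 0, 0, 1, 0, 0, 0, 0], [1, 2, 3, 1, 0, 0, 0, 3, 1, 0, 0, 0, 2, 2], [3, 3, 3, 3, 2, 3, 2, 1, 1, 0, 2, 3, 1, 0], [1, 1, 2, 3, 3, 0, 0, 3, 0, 3, 3, 0, 2, 0], [1, 1, 1, 3, 3, 0, 0, 2, 0, 0, 3, 0, 2, 0], [2, 0, 2, 0, 2, 2, 0, 3, 0, 3, 0, 2, 3, 0], [2, 3, 2, 1, 1, 3, 1, 0, 0, 1, 1, 2, 2, 1], [2, 3, 3, 1, 1, 2, 1, 3, 0, 0, 1, 2, 3, 1]],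
    [[2, 3, 0, 2, 0, 0, 2, 0, 0, 0, 2, 3, 3, 2], [2, 2, 0, 2, 1, 0, 2, 0, 1, 2, 2, 3, 1, 0], [2, 2, 0, 1, 0, 0, 0, 0, 2, 0, 0, 0, 3, 3], [3, 1, 1, 2, 2, 0, 3, 2, 2, 3, 3, 1, 2, 0], [2, 2, 0, 1, 3, 0, 0, 0, 0, 1, 1, 0, 3, 0], [3, 3, 0, 2, 0, 0, 2, 0, 0, 0, 0, 3, 1, 0], [0, 3, 2, 2, 3, 2, 2, 3, 0, 1, 0, 0, 0, 0], [0, 0, 0, 0, 0, 0, 0, 0, 1, 0, 0, 0, 0, 2], [2, 3, 2, 2, 0, 2, 2, 2, 1, 2, 2, 3, 1, 0], [1, 1, 0, 3, 0, 0, 0, 0, 0, 0, 3, 0, 2, 0], [1, 1, 3, 3, 0, 0, 0, 1, 0, 3, 3, 0, 2, 0], [2, 0, 0, 0, 2, 0, 0, 0, 0, 3, 0, 2, 3, 0], [2, 2, 0, 1, 0, 0, 1, 0, 0, 0, 1, 2, 3, 1], [2, 2, 1, 1, 0, 1, 1, 2, 0, 1, 1, 2, 2, 1]],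
    [[2, 1, 0, 0, 1, 0, 0, 3, 2, 0, 1, 0, 3, 2], [2, 0, 2, 2, 2, 2, 2, 1, 1, 2, 3, 2, 1, 0], [2, 1, 1, 0, 3, 3, 2, 3, 1, 0, 3, 3, 3, 3], [3, 2, 2, 0, 1, 1, 3, 0, 2, 3, 1, 3, 2, 0], [2, 3, 2, 0, 1, 3, 3, 3, 2, 1, 2, 3, 3, 0], [3, 3, 3, 0, 1, 2, 1, 1, 2, 0, 1, 2, 1, 0], [0, 2, 2, 0, 0, 1, 3, 3, 0, 1, 0, 0, 0, 0], [0, 2, 2, 1, 0, 0, 0, 0, 1, 0, 0, 0, 0, 2], [2, 1, 0, 3, 1, 2, 2, 3, 1, 2, 3, 2, 1, 0], [1, 1, 1, 2, 1, 2, 1, 2, 1, 0, 1, 2, 2, 0], [1, 2, 2, 3, 0, 3, 2, 3, 1, 3, 1, 2, 2, 0], [2, 3, 2, 3, 1, 1, 1, 3, 1, 3, 3, 1, 3, 0], [2, 3, 3, 1, 2, 1, 3, 3, 0, 0, 2, 1, 3, 1], [2, 2, 2, 3, 1, 3, 2, 0, 1, 1, 3, 0, 2, 1]],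
    [[0, 3, 2, 2, 0, 0, 0, 1, 2, 1, 1, 0, 1, 2], [3, 0, 3, 3, 1, 2, 2, 1, 1, 1, 3, 2, 1, 0], [3, 2, 1, 1, 0, 2, 2, 3, 1, 3, 3, 3, 0, 3], [1, 2, 3, 2, 0, 1, 3, 2, 2, 2, 1, 3, 2, 0], [0, 3, 2, 2, 3, 3, 3, 1, 2, 3, 2, 3, 3, 0], [1, 3, 2, 2, 0, 1, 1, 1, 2, 1, 1, 2, 1, 0], [0, 2, 2, 0, 0, 2, 3, 1, 0, 1, 0, 0, 0, 0], [1, 0, 0, 0, 0, 0, 0, 1, 1, 0, 0, 0, 2, 2], [3, 1, 0, 2, 2, 2, 2, 2, 1, 1, 3, 2, 1, 0], [0, 1, 3, 3, 0, 1, 1, 0, 1, 1, 1, 2, 2, 0], [0, 2, 1, 2, 1, 3, 2, 2, 1, 2, 1, 2, 2, 0], [3, 3, 2, 2, 2, 1, 1, 2, 1, 0, 3, 1, 3, 0], [2, 2, 1, 1, 0, 3, 3, 2, 0, 2, 2, 1, 2, 1], [3, 3, 3, 2, 2, 1, 2, 0, 1, 2, 3, 0, 3, 1]],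
    [[0, 0, 0, 1, 1, 0, 1, 0, 2, 1, 0, 1, 1, 2], [3, 1, 0, 0, 2, 0, 0, 0, 1, 1, 2, 3, 1, 0], [3, 2, 1, 1, 0, 2, 2, 3, 1, 3, 3, 3, 0, 3], [1, 0, 2, 3, 1, 2, 0, 0, 2, 2, 3, 1, 2, 0], [0, 0, 2, 3, 3, 2, 0, 2, 0, 3, 1, 0, 3, 0], [1, 2, 3, 2, 1, 3, 1, 0, 0, 1, 0, 3, 1, 0], [0, 3, 2, 3, 1, 3, 2, 1, 0, 1, 0, 0, 0, 0], [1, 2, 3, 2, 3, 3, 1, 3, 3, 0, 2, 2, 2, 2], [3, 0, 3, 1, 2, 3, 0, 3, 1, 1, 2, 3, 1, 0], [0, 0, 3, 2, 3, 1, 0, 2, 0, 1, 3, 0, 2, 0], [0, 0, 1, 2, 0, 1, 0, 0, 0, 2, 3, 0, 2, 0], [3, 3, 1, 3, 0, 1, 2, 1, 0, 0, 0, 2, 3, 0], [2, 1, 2, 1, 2, 2, 3, 0, 1, 2, 0, 3, 2, 1], [3, 0, 1, 0, 2, 2, 3, 3, 1, 2, 0, 3, 3, 1]],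
    [[1, 0, 2, 1, 2, 3, 0, 1, 0, 2, 0, 0, 0, 0], [0, 1, 3, 1, 0, 3, 0, 3, 0, 0, 0, 0, 0, 0], [0, 0, 1, 0, 0, 0, 0, 0, 0, 0, 0, 0, 0, 0], [0, 0, 3, 1, 2, 3, 0, 1, 0, 0, 0, 0, 0, 0], [0, 0, 0, 0, 3, 0, 0, 2, 0, 0, 0, 0, 0, 0], [0, 0, 3, 0, 0, 2, 0, 3, 0, 0, 0, 0, 0, 0], [0, 3, 2, 3, 1, 3, 2, 1, 0, 1, 0, 0, 0, 0], [0, 0, 1, 0, 0, 0, 0, 1, 0, 0, 0, 0, 0, 0], [3, 0, 3, 1, 2, 3, 0, 3, 1, 1, 2, 3, 1, 0], [0, 0, 2, 0, 3, 0, 0, 2, 0, 3, 0, 0, 0, 0], [0, 0, 1, 2, 0, 1, 0, 0, 0, 2, 3, 0, 2, 0], [3, 3, 1, 3, 0, 1, 2, 1, 0, 0, 0, 2, 3, 0], [1, 1, 3, 1, 0, 0, 0, 3, 0, 0, 0, 0, 1, 0], [3, 0, 1, 0, 2, 2, 3, 3, 1, 2, 0, 3, 3, 1]],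
    [[1, 0, 2, 1, 2, 3, 0, 1, 0, 2, 0, 0, 0, 0], [0, 1, 2, 1, 0, 3, 0, 2, 0, 0, 0, 0, 0, 0], [0, 0, 1, 0, 0, 0, 0, 0, 0, 0, 0, 0, 0, 0], [0, 0, 2, 1, 2, 3, 0, 1, 0, 0, 0, 0, 0, 0], [0, 0, 0, 0, 3, 0, 0, 2, 0, 0, 0, 0, 0, 0], [0, 0, 3, 0, 0, 2, 0, 3, 0, 0, 0, 0, 0, 0], [0, 3, 1, 3, 1, 1, 2, 2, 0, 1, 0, 0, 0, 0], [0, 0, 1, 0, 0, 0, 0, 1, 0, 0, 0, 0, 0, 0], [2, 0, 0, 0, 0, 0, 0, 3, 1, 3, 2, 3, 1, 0], [0, 0, 2, 0, 3, 0, 0, 2, 0, 3, 0, 0, 0, 0], [0, 0, 3, 2, 3, 1, 0, 2, 0, 1, 3, 0, 2, 0], [3, 3, 1, 3, 0, 1, 2, 1, 0, 0, 0, 2, 3, 0], [1, 1, 3, 1, 0, 0, 0, 3, 0, 0, 0, 0, 1, 0], [2, 1, 2, 1, 2, 2, 3, 0, 1, 2, 0, 3, 2, 1]],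
    [[1, 2, 3, 1, 3, 2, 3, 1, 0, 2, 0, 0, 0, 0], [0, 1, 2, 0, 2, 1, 0, 2, 0, 0, 0, 0, 0, 0], [0, 0, 1, 0, 0, 0, 0, 0, 0, 0, 0, 0, 0, 0], [0, 0, 2, 1, 3, 2, 0, 1, 0, 0, 0, 0, 0, 0], [0, 0, 0, 1, 1, 2, 0, 2, 0, 0, 0, 0, 0, 0], [0, 0, 3, 1, 3, 1, 0, 3, 0, 0, 0, 0, 0, 0], [0, 2, 1, 1, 3, 3, 3, 2, 0, 1, 0, 0, 0, 0], [0, 0, 1, 1, 1, 1, 0, 1, 0, 0, 0, 0, 0, 0], [2, 3, 2, 2, 0, 1, 1, 2, 1, 3, 3, 2, 1, 0], [0, 3, 2, 1, 1, 2, 3, 2, 0, 3, 0, 0, 0, 0], [0, 1, 3, 3, 0, 1, 1, 0, 1, 1, 1, 2, 2, 0], [3, 3, 2, 2, 2, 1, 1, 2, 1, 0, 3, 1, 3, 0], [1, 1, 2, 3, 2, 2, 1, 2, 1, 0, 1, 1, 1, 0], [2, 2, 1, 1, 0, 3, 3, 2, 0, 2, 2, 1, 2, 1]],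
    [[1, 2, 3, 1, 3, 1, 3, 3, 0, 2, 0, 0, 0, 0], [0, 1, 2, 0, 2, 1, 0, 3, 0, 0, 0, 0, 0, 0], [0, 0, 1, 0, 0, 0, 0, 0, 0, 0, 0, 0, 0, 0], [0, 0, 3, 1, 3, 2, 0, 1, 0, 0, 0, 0, 0, 0], [0, 0, 1, 1, 1, 2, 0, 2, 0, 0, 0, 0, 0, 0], [0, 0, 2, 1, 3, 1, 0, 3, 0, 0, 0, 0, 0, 0], [0, 2, 0, 1, 3, 0, 3, 0, 0, 1, 0, 0, 0, 0], [0, 0, 0, 1, 1, 1, 0, 1, 0, 0, 0, 0, 0, 0], [3, 3, 3, 3, 3, 2, 1, 1, 1, 0, 3, 2, 1, 0], [0, 3, 3, 1, 1, 1, 3, 1, 0, 3, 0, 0, 0, 0], [1, 1, 1, 2, 1, 2, 1, 2, 1, 0, 1, 2, 2, 0], [2, 3, 2, 3, 1, 1, 1, 3, 1, 3, 3, 1, 3, 0], [0, 1, 1, 2, 3, 2, 1, 3, 1, 1, 1, 1, 1, 0], [2, 3, 3, 1, 2, 1, 3, 3, 0, 0, 2, 1, 3, 1]],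
    [[1, 0, 2, 0, 0, 2, 0, 3, 0, 2, 0, 0, 0, 0], [0, 1, 2, 0, 1, 2, 0, 3, 0, 0, 0, 0, 0, 0], [0, 0, 1, 0, 0, 0, 0, 0, 0, 0, 0, 0, 0, 0], [0, 0, 3, 1, 2, 3, 0, 1, 0, 0, 0, 0, 0, 0], [0, 0, 1, 0, 3, 0, 0, 2, 0, 0, 0, 0, 0, 0], [0, 0, 2, 0, 0, 2, 0, 3, 0, 0, 0, 0, 0, 0], [0, 3, 0, 2, 3, 0, 2, 0, 0, 1, 0, 0, 0, 0], [0, 0, 0, 0, 0, 0, 0, 1, 0, 0, 0, 0, 0, 0], [3, 3, 0, 2, 0, 0, 2, 0, 1, 0, 2, 3, 1, 0], [0, 0, 3, 0, 0, 0, 0, 1, 0, 3, 0, 0, 0, 0], [1, 1, 0, 3, 0, 0, 0, 0, 0, 0, 3, 0, 2, 0], [2, 0, 0, 0, 2, 0, 0, 0, 0, 3, 0, 2, 3, 0], [0, 0, 1, 0, 0, 1, 0, 2, 0, 1, 0, 0, 1, 0], [2, 2, 0, 1, 0, 0, 1, 0, 0, 0, 1, 2, 3, 1]],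
    [[1, 0, 2, 0, 0, 0, 0, 0, 0, 3, 0, 0, 0, 0], [0, 1, 0, 0, 3, 0, 0, 2, 0, 0, 0, 0, 0, 0], [0, 0, 1, 0, 0, 0, 0, 0, 0, 0, 0, 0, 0, 0], [0, 0, 3, 1, 3, 2, 0, 1, 0, 0, 0, 0, 0, 0], [0, 0, 0, 0, 3, 0, 0, 1, 0, 0, 0, 0, 0, 0], [0, 0, 1, 0, 0, 2, 0, 1, 0, 0, 0, 0, 0, 0], [0, 1, 3, 1, 3, 3, 2, 2, 0, 3, 0, 0, 0, 0], [0, 0, 0, 0, 0, 0, 0, 1, 0, 0, 0, 0, 0, 0], [3, 0, 1, 2, 1, 3, 0, 0, 1, 2, 3, 2, 1, 0], [0, 0, 1, 0, 0, 0, 0, 0, 0, 3, 0, 0, 0, 0], [0, 0, 3, 1, 2, 2, 0, 3, 0, 2, 3, 0, 1, 0], [1, 0, 2, 0, 3, 3, 0, 3, 0, 3, 0, 2, 1, 0], [0, 0, 1, 0, 0, 2, 0, 3, 0, 3, 0, 0, 1, 0], [0, 3, 0, 1, 2, 3, 2, 1, 0, 1, 3, 0, 2, 1]],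
    [[1, 0, 0, 0, 0, 3, 1, 0, 0, 0, 0, 0, 1, 2], [3, 1, 0, 0, 0, 2, 2, 3, 2, 0, 0, 1, 3, 3], [3, 2, 1, 1, 0, 2, 2, 3, 1, 3, 3, 3, 0, 3], [1, 2, 3, 2, 0, 1, 3, 2, 2, 2, 1, 3, 2, 0], [1, 0, 3, 1, 1, 1, 2, 2, 1, 1, 2, 3, 2, 3], [3, 1, 2, 1, 0, 2, 3, 1, 1, 1, 3, 0, 2, 3], [2, 1, 3, 3, 0, 2, 3, 2, 3, 2, 2, 0, 2, 3], [2, 0, 2, 3, 3, 1, 3, 0, 2, 3, 1, 1, 2, 1], [2, 0, 2, 3, 3, 2, 2, 3, 0, 3, 1, 1, 3, 3], [2, 1, 2, 2, 0, 2, 1, 2, 3, 0, 0, 2, 1, 2], [3, 1, 1, 3, 0, 3, 3, 1, 1, 0, 0, 2, 1, 2], [2, 0, 1, 2, 2, 0, 0, 1, 3, 2, 3, 0, 0, 0], [2, 3, 3, 2, 0, 0, 0, 3, 3, 0, 0, 0, 3, 1], [1, 3, 1, 1, 0, 0, 0, 1, 2, 0, 0, 0, 3, 1]],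
    [[1, 2, 3, 0, 0, 2, 1, 3, 0, 0, 0, 0, 3, 2], [1, 2, 2, 2, 0, 1, 2, 0, 2, 0, 0, 1, 0, 3], [2, 1, 1, 0, 3, 3, 2, 3, 1, 0, 3, 3, 3, 3], [3, 2, 2, 0, 1, 1, 3, 0, 2, 3, 1, 3, 2, 0], [0, 3, 1, 0, 3, 0, 2, 2, 1, 3, 2, 3, 1, 3], [2, 2, 2, 0, 3, 1, 3, 0, 1, 2, 3, 0, 1, 3], [1, 2, 2, 0, 2, 1, 3, 1, 3, 0, 2, 0, 1, 3], [0, 1, 0, 1, 2, 3, 3, 1, 2, 2, 1, 1, 3, 1], [2, 3, 0, 3, 2, 1, 2, 3, 0, 2, 1, 1, 0, 3], [1, 3, 3, 1, 0, 1, 1, 3, 3, 0, 0, 2, 3, 2], [2, 3, 2, 2, 0, 2, 3, 2, 1, 0, 0, 2, 3, 2], [1, 0, 2, 1, 1, 0, 0, 2, 3, 1, 3, 0, 0, 0], [1, 2, 1, 1, 0, 0, 0, 1, 3, 0, 0, 0, 2, 1], [3, 2, 2, 3, 0, 0, 0, 2, 2, 0, 0, 0, 2, 1]],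
    [[1, 0, 0, 2, 0, 2, 0, 0, 3, 0, 3, 3, 3, 2], [1, 1, 0, 0, 0, 0, 3, 0, 3, 0, 0, 1, 0, 3], [2, 2, 0, 1, 0, 0, 0, 0, 2, 0, 0, 0, 3, 3], [3, 1, 1, 2, 2, 0, 3, 2, 2, 3, 3, 1, 2, 0], [0, 3, 2, 0, 2, 0, 1, 3, 1, 3, 3, 2, 1, 3], [2, 3, 3, 1, 1, 0, 3, 1, 3, 2, 2, 1, 1, 3], [1, 1, 0, 2, 0, 1, 2, 0, 0, 0, 3, 1, 1, 3], [0, 2, 1, 0, 1, 0, 1, 2, 1, 2, 2, 2, 3, 1], [2, 2, 1, 3, 0, 3, 2, 3, 0, 2, 1, 1, 0, 3], [1, 1, 0, 1, 0, 3, 0, 0, 2, 0, 3, 1, 3, 2], [2, 1, 2, 2, 1, 1, 1, 1, 0, 0, 3, 1, 3, 2], [1, 1, 3, 2, 0, 2, 0, 2, 0, 1, 3, 0, 0, 0], [1, 3, 1, 1, 3, 3, 1, 3, 1, 0, 2, 2, 2, 1], [3, 3, 0, 1, 0, 0, 3, 0, 0, 0, 2, 2, 2, 1]],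
    [[2, 2, 2, 1, 3, 1, 0, 2, 3, 3, 3, 3, 1, 2], [2, 2, 1, 3, 0, 2, 3, 1, 3, 0, 0, 1, 3, 3], [0, 1, 2, 3, 0, 0, 0, 0, 2, 0, 0, 0, 0, 3], [1, 1, 2, 0, 1, 2, 3, 3, 2, 0, 3, 1, 2, 0], [1, 0, 0, 1, 1, 3, 1, 3, 1, 0, 3, 2, 2, 3], [1, 0, 0, 2, 3, 2, 3, 3, 3, 0, 2, 1, 2, 3], [1, 2, 0, 2, 3, 2, 2, 3, 0, 3, 3, 1, 2, 3], [1, 3, 1, 1, 3, 3, 1, 3, 1, 0, 2, 2, 2, 1], [2, 1, 3, 3, 1, 0, 2, 2, 0, 3, 1, 1, 3, 3], [3, 3, 0, 3, 3, 2, 0, 2, 2, 3, 3, 1, 1, 2], [2, 3, 0, 2, 2, 1, 1, 1, 0, 3, 3, 1, 1, 2], [1, 1, 0, 2, 3, 2, 0, 3, 0, 2, 3, 0, 0, 0], [0, 2, 1, 0, 1, 0, 1, 2, 1, 2, 2, 2, 3, 1], [3, 2, 3, 1, 2, 1, 3, 0, 0, 2, 2, 2, 3, 1]],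
    [[2, 3, 2, 3, 3, 1, 1, 3, 2, 3, 2, 2, 1, 2], [2, 1, 0, 1, 2, 1, 1, 2, 1, 0, 3, 2, 3, 3], [0, 2, 1, 1, 0, 0, 0, 0, 2, 0, 0, 0, 0, 3], [1, 1, 3, 2, 3, 2, 2, 1, 2, 0, 1, 3, 2, 0], [1, 3, 2, 2, 3, 0, 0, 1, 2, 0, 1, 0, 2, 3], [1, 3, 2, 2, 0, 2, 2, 1, 2, 0, 0, 3, 2, 3], [1, 2, 2, 0, 1, 2, 0, 1, 0, 3, 1, 3, 2, 3], [1, 2, 1, 1, 0, 0, 0, 1, 3, 0, 0, 0, 2, 1], [2, 1, 2, 3, 1, 0, 3, 1, 3, 3, 2, 2, 3, 3], [3, 2, 1, 1, 3, 0, 0, 3, 1, 3, 2, 0, 1, 2], [2, 2, 0, 3, 1, 0, 0, 0, 3, 3, 2, 0, 1, 2], [1, 3, 1, 3, 3, 1, 3, 3, 3, 2, 3, 0, 0, 0], [0, 1, 0, 1, 2, 3, 3, 1, 2, 2, 1, 1, 3, 1], [3, 1, 1, 1, 3, 0, 2, 3, 3, 2, 1, 1, 3, 1]],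
    [[3, 0, 0, 2, 3, 3, 1, 1, 3, 2, 1, 0, 3, 1], [1, 1, 3, 2, 2, 1, 2, 1, 2, 2, 1, 1, 3, 1], [1, 3, 0, 1, 3, 2, 3, 1, 1, 2, 1, 1, 1, 0], [3, 2, 0, 3, 2, 1, 2, 3, 2, 1, 0, 1, 2, 1], [1, 1, 0, 1, 3, 2, 0, 1, 0, 3, 2, 0, 2, 0], [3, 1, 0, 2, 3, 3, 1, 1, 3, 2, 3, 3, 3, 0], [3, 0, 0, 0, 1, 0, 0, 2, 1, 3, 0, 0, 2, 3], [1, 3, 1, 0, 2, 3, 3, 0, 1, 2, 1, 1, 1, 0], [1, 0, 2, 0, 2, 1, 2, 2, 2, 1, 0, 1, 3, 1], [3, 0, 1, 3, 0, 1, 1, 1, 2, 0, 0, 2, 0, 0], [0, 2, 3, 0, 3, 0, 3, 2, 3, 3, 2, 2, 1, 2], [1, 0, 1, 0, 2, 3, 1, 0, 2, 3, 0, 3, 2, 3], [0, 1, 0, 1, 2, 3, 3, 1, 2, 2, 1, 1, 3, 1], [3, 0, 1, 0, 1, 3, 1, 2, 1, 0, 0, 0, 0, 0]],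
    [[0, 1, 3, 1, 2, 2, 1, 0, 3, 3, 1, 0, 2, 1], [3, 0, 3, 0, 3, 2, 2, 0, 2, 3, 1, 1, 2, 1], [0, 3, 1, 0, 2, 0, 3, 2, 1, 3, 1, 1, 1, 0], [1, 3, 3, 1, 2, 2, 2, 0, 2, 1, 0, 1, 3, 1], [1, 1, 0, 1, 1, 2, 0, 2, 0, 1, 2, 0, 2, 0], [0, 1, 2, 1, 0, 1, 1, 0, 3, 1, 3, 3, 3, 0], [2, 3, 1, 1, 1, 0, 0, 2, 1, 3, 0, 0, 1, 3], [0, 3, 1, 1, 3, 1, 3, 3, 1, 3, 1, 1, 1, 0], [3, 1, 0, 2, 2, 2, 2, 2, 2, 1, 0, 1, 2, 1], [1, 0, 3, 1, 0, 2, 1, 3, 2, 0, 0, 2, 0, 0], [3, 0, 2, 3, 1, 1, 3, 0, 3, 1, 2, 2, 3, 2], [3, 3, 1, 2, 2, 1, 1, 3, 2, 3, 0, 3, 1, 3], [2, 0, 2, 3, 3, 1, 3, 0, 2, 3, 1, 1, 2, 1], [2, 0, 3, 1, 1, 2, 1, 3, 1, 0, 0, 0, 0, 0]],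
    [[0, 3, 2, 1, 1, 0, 2, 2, 0, 3, 3, 2, 2, 1], [3, 2, 1, 1, 0, 1, 2, 2, 0, 3, 3, 3, 2, 1], [0, 0, 1, 0, 0, 2, 0, 3, 0, 3, 0, 0, 1, 0], [1, 3, 3, 1, 1, 0, 2, 3, 0, 1, 3, 2, 3, 1], [1, 0, 1, 0, 3, 2, 0, 0, 0, 1, 0, 2, 2, 0], [0, 0, 2, 0, 0, 1, 0, 3, 0, 1, 0, 0, 3, 0], [2, 3, 0, 2, 2, 3, 1, 3, 0, 3, 1, 1, 1, 3], [0, 0, 1, 0, 0, 2, 0, 2, 0, 3, 0, 0, 1, 0], [3, 1, 2, 1, 2, 3, 0, 0, 1, 1, 2, 3, 2, 1], [1, 0, 2, 0, 3, 3, 0, 3, 0, 0, 0, 2, 0, 0], [3, 3, 3, 3, 0, 0, 1, 3, 0, 1, 1, 1, 3, 2], [3, 3, 1, 2, 0, 0, 1, 2, 0, 3, 1, 2, 1, 3], [2, 2, 1, 1, 0, 2, 2, 2, 0, 3, 3, 3, 2, 1], [2, 0, 1, 0, 2, 1, 3, 3, 1, 0, 0, 0, 0, 0]],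
    [[0, 2, 2, 1, 2, 0, 2, 2, 0, 0, 3, 2, 3, 1], [3, 3, 2, 1, 3, 0, 2, 3, 0, 0, 3, 3, 3, 1], [0, 0, 1, 0, 0, 2, 0, 2, 0, 3, 0, 0, 1, 0], [1, 2, 2, 1, 2, 0, 2, 2, 0, 2, 3, 2, 2, 1], [1, 0, 0, 0, 3, 0, 0, 2, 0, 1, 0, 2, 2, 0], [0, 0, 2, 0, 0, 1, 0, 0, 0, 1, 0, 0, 3, 0], [2, 0, 3, 2, 3, 3, 1, 2, 0, 2, 1, 1, 2, 3], [0, 0, 1, 0, 0, 2, 0, 3, 0, 3, 0, 0, 1, 0], [2, 0, 0, 0, 0, 0, 0, 3, 1, 3, 2, 3, 3, 1], [1, 0, 3, 0, 3, 1, 0, 3, 0, 0, 0, 2, 0, 0], [3, 1, 1, 3, 1, 0, 1, 1, 0, 0, 1, 1, 1, 2], [3, 0, 3, 2, 1, 3, 1, 3, 0, 2, 1, 2, 2, 3], [2, 3, 3, 1, 3, 3, 2, 3, 0, 0, 3, 3, 3, 1], [3, 0, 2, 1, 2, 2, 3, 2, 1, 0, 0, 0, 0, 0]],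
    [[0, 3, 3, 3, 0, 3, 2, 1, 2, 0, 0, 1, 3, 1], [3, 2, 0, 2, 0, 3, 1, 0, 3, 0, 0, 0, 3, 1], [0, 3, 1, 1, 3, 1, 3, 3, 1, 3, 1, 1, 1, 0], [1, 1, 2, 2, 1, 2, 1, 0, 3, 2, 1, 0, 2, 1], [1, 1, 1, 1, 3, 2, 0, 0, 0, 1, 2, 0, 2, 0], [0, 1, 2, 2, 3, 2, 1, 3, 3, 1, 3, 3, 3, 0], [2, 1, 2, 2, 2, 2, 1, 0, 2, 2, 3, 3, 2, 3], [0, 3, 1, 0, 2, 0, 3, 2, 1, 3, 1, 1, 1, 0], [2, 2, 3, 0, 2, 3, 1, 0, 3, 3, 1, 0, 3, 1], [1, 0, 2, 3, 0, 0, 1, 3, 2, 0, 0, 2, 0, 0], [3, 3, 0, 2, 0, 1, 2, 0, 1, 0, 0, 0, 1, 2], [3, 1, 3, 2, 1, 0, 0, 1, 1, 2, 3, 0, 2, 3], [2, 2, 0, 1, 0, 0, 0, 0, 3, 0, 0, 0, 3, 1], [3, 0, 1, 2, 0, 0, 0, 2, 1, 0, 0, 0, 0, 0]],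
    [[1, 2, 0, 2, 2, 0, 2, 0, 0, 3, 1, 0, 0, 1], [1, 3, 0, 1, 2, 0, 2, 0, 0, 3, 3, 0, 0, 1], [0, 0, 1, 0, 0, 2, 0, 2, 0, 3, 0, 0, 1, 0], [0, 2, 3, 1, 1, 0, 2, 0, 0, 0, 3, 0, 0, 1], [3, 3, 3, 2, 0, 3, 3, 1, 0, 2, 1, 1, 3, 2], [0, 1, 0, 3, 3, 0, 1, 0, 0, 1, 2, 0, 0, 3], [0, 0, 2, 2, 2, 3, 0, 3, 0, 1, 1, 0, 2, 0], [2, 2, 0, 1, 0, 0, 2, 0, 0, 0, 3, 3, 3, 1], [1, 1, 1, 0, 1, 1, 1, 2, 1, 3, 1, 2, 1, 3], [1, 1, 0, 3, 0, 0, 3, 0, 0, 0, 2, 1, 2, 2], [0, 1, 0, 3, 1, 0, 3, 0, 2, 2, 2, 0, 0, 1], [3, 3, 0, 2, 0, 0, 3, 0, 3, 0, 2, 1, 1, 2], [0, 0, 0, 0, 0, 0, 0, 0, 1, 0, 0, 0, 0, 2], [2, 2, 0, 1, 0, 0, 1, 0, 1, 0, 1, 2, 3, 3]],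
    [[1, 3, 2, 2, 3, 2, 2, 3, 0, 2, 1, 0, 1, 1], [1, 2, 1, 1, 1, 2, 2, 2, 0, 0, 3, 0, 1, 1], [0, 0, 1, 0, 0, 2, 0, 3, 0, 3, 0, 0, 1, 0], [0, 3, 3, 1, 2, 2, 2, 3, 0, 3, 3, 0, 1, 1], [3, 1, 0, 2, 1, 1, 3, 3, 0, 3, 1, 1, 1, 2], [0, 2, 0, 3, 1, 1, 1, 2, 0, 3, 2, 0, 3, 3], [0, 0, 0, 2, 3, 3, 0, 1, 0, 0, 1, 0, 2, 0], [2, 3, 2, 1, 3, 1, 2, 0, 0, 3, 3, 3, 2, 1], [0, 2, 2, 1, 0, 2, 1, 0, 1, 2, 1, 2, 2, 3], [1, 3, 0, 3, 2, 2, 3, 1, 0, 2, 2, 1, 0, 2], [2, 0, 0, 1, 3, 3, 3, 2, 2, 0, 2, 0, 1, 1], [0, 1, 0, 1, 2, 2, 3, 3, 3, 2, 2, 1, 3, 2], [1, 2, 3, 1, 0, 0, 0, 3, 1, 0, 0, 0, 2, 2], [3, 1, 1, 0, 1, 3, 1, 3, 1, 1, 1, 2, 0, 3]],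
    [[1, 0, 2, 0, 0, 0, 1, 2, 0, 2, 0, 1, 1, 1], [1, 3, 1, 2, 1, 1, 3, 3, 2, 0, 2, 1, 1, 1], [0, 3, 1, 0, 2, 0, 3, 2, 1, 3, 1, 1, 1, 0], [0, 1, 2, 0, 3, 0, 1, 2, 2, 3, 2, 1, 1, 1], [3, 0, 1, 0, 2, 2, 3, 2, 1, 3, 0, 0, 1, 2], [0, 2, 3, 0, 2, 0, 2, 1, 1, 3, 1, 3, 3, 3], [0, 0, 0, 0, 1, 0, 0, 3, 3, 0, 3, 2, 2, 0], [2, 1, 1, 1, 2, 0, 3, 2, 2, 3, 1, 1, 2, 1], [0, 3, 1, 3, 3, 2, 3, 2, 0, 2, 3, 0, 2, 3], [1, 3, 3, 1, 1, 2, 0, 1, 3, 2, 2, 1, 0, 2], [2, 1, 3, 2, 2, 0, 1, 3, 1, 0, 3, 1, 1, 1], [0, 1, 2, 1, 0, 3, 1, 0, 3, 2, 1, 2, 3, 2], [1, 0, 0, 1, 1, 1, 1, 1, 3, 0, 2, 2, 2, 2], [3, 3, 1, 3, 3, 2, 3, 3, 2, 1, 1, 2, 0, 3]],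
    [[1, 1, 2, 0, 0, 0, 1, 2, 0, 2, 0, 1, 0, 1], [3, 2, 1, 0, 3, 3, 3, 2, 2, 2, 2, 1, 0, 1], [1, 3, 0, 1, 3, 2, 3, 1, 1, 2, 1, 1, 1, 0], [2, 0, 1, 2, 1, 0, 1, 1, 2, 1, 2, 1, 0, 1], [2, 2, 1, 1, 2, 1, 3, 0, 1, 3, 0, 0, 3, 2], [1, 1, 1, 1, 3, 1, 2, 2, 1, 2, 1, 3, 0, 3], [3, 0, 3, 3, 2, 2, 0, 2, 3, 3, 3, 2, 2, 0], [0, 0, 1, 3, 3, 2, 3, 2, 2, 2, 1, 1, 3, 1], [0, 0, 1, 3, 0, 1, 3, 0, 0, 1, 3, 0, 1, 3], [2, 1, 2, 2, 3, 3, 0, 3, 3, 0, 2, 1, 2, 2], [3, 0, 3, 3, 1, 0, 1, 3, 1, 3, 3, 1, 0, 1], [3, 3, 2, 2, 1, 0, 1, 3, 3, 3, 1, 2, 1, 2], [2, 2, 1, 2, 3, 2, 1, 2, 3, 2, 2, 2, 0, 2], [1, 0, 0, 1, 2, 3, 3, 1, 2, 0, 1, 2, 3, 3]],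
    [[1, 2, 2, 3, 2, 3, 2, 2, 1, 2, 0, 1, 0, 1], [3, 1, 3, 3, 3, 0, 2, 2, 1, 2, 2, 1, 0, 1], [1, 1, 1, 1, 2, 3, 0, 0, 0, 2, 0, 0, 1, 0], [2, 0, 2, 3, 2, 0, 2, 1, 1, 1, 2, 1, 0, 1], [2, 3, 1, 0, 1, 2, 2, 3, 2, 3, 3, 3, 3, 2], [1, 0, 3, 2, 0, 0, 1, 2, 3, 2, 1, 3, 0, 3], [3, 3, 0, 1, 1, 0, 0, 0, 0, 3, 1, 0, 2, 0], [0, 3, 0, 1, 3, 2, 1, 1, 1, 2, 2, 2, 3, 1], [0, 2, 2, 0, 2, 0, 2, 1, 2, 1, 2, 1, 1, 3], [2, 3, 2, 3, 0, 3, 2, 1, 2, 0, 0, 3, 2, 2], [3, 2, 1, 2, 1, 2, 1, 3, 3, 3, 3, 1, 0, 1], [3, 2, 3, 1, 2, 0, 1, 2, 1, 3, 0, 3, 1, 2], [2, 2, 1, 2, 3, 2, 1, 2, 3, 2, 2, 2, 0, 2], [1, 3, 2, 3, 1, 3, 2, 2, 2, 0, 2, 1, 3, 3]],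
    [[1, 0, 0, 1, 0, 1, 2, 0, 3, 0, 0, 3, 0, 3], [0, 0, 2, 2, 2, 1, 2, 0, 3, 0, 1, 3, 0, 3], [0, 1, 2, 3, 0, 0, 0, 0, 2, 0, 0, 0, 0, 3], [0, 0, 0, 3, 0, 0, 0, 0, 2, 0, 0, 0, 0, 0], [0, 3, 1, 2, 1, 0, 0, 0, 1, 0, 3, 0, 0, 2], [0, 2, 3, 1, 0, 2, 3, 0, 3, 0, 0, 1, 0, 1], [0, 2, 3, 0, 0, 0, 3, 0, 0, 0, 0, 0, 0, 1], [1, 2, 3, 1, 0, 0, 0, 3, 1, 0, 0, 0, 2, 2], [0, 1, 2, 3, 2, 0, 2, 0, 0, 0, 1, 0, 0, 3], [3, 2, 3, 1, 2, 0, 0, 2, 2, 2, 2, 0, 1, 3], [3, 3, 0, 2, 0, 3, 1, 0, 0, 0, 3, 2, 0, 2], [0, 1, 2, 1, 3, 2, 2, 1, 0, 0, 2, 0, 3, 3], [3, 1, 1, 0, 3, 1, 2, 3, 1, 3, 3, 3, 0, 3], [0, 2, 1, 1, 3, 1, 3, 3, 0, 3, 2, 0, 2, 1]],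
    [[2, 3, 0, 2, 0, 0, 2, 0, 3, 0, 0, 3, 3, 3], [3, 3, 0, 1, 3, 0, 2, 0, 3, 1, 1, 3, 3, 3], [2, 2, 0, 1, 0, 0, 0, 0, 2, 0, 0, 0, 3, 3], [2, 0, 1, 1, 0, 0, 0, 2, 2, 0, 0, 0, 0, 0], [1, 1, 0, 3, 2, 0, 0, 0, 1, 3, 3, 0, 2, 2], [3, 3, 0, 2, 0, 0, 3, 0, 3, 0, 0, 1, 1, 1], [0, 3, 2, 0, 0, 3, 3, 3, 0, 0, 0, 0, 1, 1], [0, 0, 0, 0, 0, 0, 0, 0, 1, 0, 0, 0, 0, 2], [0, 2, 2, 3, 3, 2, 2, 2, 0, 1, 1, 0, 3, 3], [1, 1, 0, 3, 0, 0, 0, 0, 2, 0, 2, 0, 2, 3], [3, 1, 3, 2, 3, 0, 1, 1, 0, 3, 3, 2, 2, 2], [0, 2, 0, 1, 1, 0, 2, 0, 0, 2, 2, 0, 0, 3], [2, 2, 0, 1, 0, 0, 2, 0, 1, 0, 3, 3, 3, 3], [0, 3, 1, 1, 1, 2, 3, 2, 0, 1, 2, 0, 3, 1]],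
    [[2, 0, 1, 1, 3, 0, 0, 3, 3, 0, 3, 0, 3, 3], [3, 1, 0, 0, 1, 0, 0, 3, 2, 1, 2, 0, 3, 3], [2, 1, 1, 0, 3, 3, 2, 3, 1, 0, 3, 3, 3, 3], [2, 0, 3, 1, 2, 2, 2, 2, 2, 0, 0, 0, 0, 0], [1, 0, 3, 1, 3, 2, 2, 2, 0, 3, 1, 2, 2, 2], [3, 2, 2, 1, 1, 0, 0, 1, 3, 0, 1, 0, 1, 1], [0, 2, 3, 1, 2, 1, 3, 2, 1, 0, 1, 1, 1, 1], [0, 2, 2, 1, 0, 0, 0, 0, 1, 0, 0, 0, 0, 2], [0, 0, 1, 2, 3, 3, 3, 1, 2, 1, 2, 3, 3, 3], [1, 2, 2, 1, 0, 2, 1, 2, 2, 0, 0, 2, 2, 3], [3, 0, 2, 3, 3, 1, 1, 3, 3, 3, 1, 0, 2, 2], [0, 3, 3, 2, 3, 0, 0, 0, 2, 2, 2, 0, 0, 3], [2, 1, 1, 3, 0, 0, 0, 3, 2, 0, 0, 0, 3, 3], [0, 3, 0, 1, 2, 3, 2, 1, 1, 1, 1, 3, 3, 1]],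
    [[1, 3, 2, 2, 0, 0, 0, 0, 3, 3, 3, 0, 0, 3], [1, 2, 2, 2, 3, 0, 0, 0, 2, 3, 2, 0, 0, 3], [3, 2, 1, 1, 0, 2, 2, 3, 1, 3, 3, 3, 0, 3], [0, 0, 2, 3, 2, 0, 2, 0, 2, 0, 0, 0, 0, 0], [1, 2, 1, 1, 2, 2, 2, 2, 0, 2, 1, 2, 0, 2], [0, 3, 2, 2, 0, 0, 0, 0, 3, 1, 1, 0, 0, 1], [1, 3, 2, 0, 3, 3, 3, 1, 1, 1, 1, 1, 0, 1], [1, 0, 0, 0, 0, 0, 0, 1, 1, 0, 0, 0, 2, 2], [2, 3, 2, 0, 1, 3, 3, 3, 2, 3, 2, 3, 0, 3], [3, 1, 3, 3, 0, 1, 1, 3, 2, 0, 0, 2, 1, 3], [0, 2, 3, 0, 2, 0, 1, 0, 3, 2, 1, 0, 0, 2], [2, 0, 0, 0, 1, 0, 0, 2, 2, 0, 2, 0, 3, 3], [0, 2, 1, 1, 0, 0, 0, 0, 2, 0, 0, 0, 0, 3], [1, 2, 1, 0, 3, 2, 2, 1, 1, 0, 1, 3, 2, 1]],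
    [[1, 3, 0, 2, 3, 0, 2, 0, 0, 3, 3, 0, 0, 3], [1, 2, 0, 1, 1, 0, 2, 0, 0, 3, 2, 0, 0, 3], [3, 2, 1, 1, 0, 2, 2, 3, 1, 3, 3, 3, 0, 3], [0, 0, 2, 3, 2, 0, 2, 0, 2, 0, 0, 0, 0, 0], [1, 2, 2, 0, 1, 2, 1, 2, 3, 2, 1, 2, 0, 2], [0, 3, 3, 0, 1, 0, 1, 0, 2, 1, 1, 0, 0, 1], [1, 3, 2, 0, 3, 3, 3, 1, 1, 1, 1, 1, 0, 1], [1, 2, 3, 2, 3, 3, 1, 3, 3, 0, 2, 2, 2, 2], [2, 3, 3, 2, 0, 3, 2, 3, 3, 3, 2, 3, 0, 3], [3, 2, 3, 0, 2, 1, 2, 2, 1, 0, 1, 3, 1, 3], [0, 2, 1, 0, 3, 0, 3, 0, 2, 2, 1, 0, 0, 2], [2, 3, 1, 0, 2, 1, 2, 1, 3, 0, 1, 3, 3, 3], [0, 1, 2, 3, 0, 0, 0, 0, 2, 0, 0, 0, 0, 3], [1, 3, 1, 1, 1, 2, 3, 3, 1, 0, 3, 1, 2, 1]],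
    [[1, 0, 1, 1, 0, 3, 0, 0, 0, 0, 0, 0, 0, 0], [0, 1, 1, 1, 2, 3, 0, 0, 0, 0, 0, 0, 0, 0], [0, 0, 1, 0, 0, 0, 0, 0, 0, 0, 0, 0, 0, 0], [0, 0, 0, 1, 0, 0, 0, 0, 0, 0, 0, 0, 0, 0], [0, 0, 1, 0, 2, 0, 0, 0, 0, 0, 0, 0, 0, 0], [0, 0, 1, 0, 0, 3, 0, 0, 0, 0, 0, 0, 0, 0], [0, 0, 1, 1, 0, 0, 3, 0, 0, 0, 0, 0, 0, 0], [0, 0, 1, 0, 0, 0, 0, 1, 0, 0, 0, 0, 0, 0], [0, 0, 1, 1, 2, 0, 3, 0, 1, 0, 0, 0, 0, 0], [0, 0, 0, 0, 2, 0, 0, 1, 0, 2, 0, 0, 0, 0], [1, 1, 1, 1, 2, 3, 0, 0, 0, 0, 2, 0, 0, 0], [1, 0, 1, 1, 2, 0, 3, 1, 0, 0, 0, 3, 0, 0], [1, 1, 1, 1, 2, 3, 0, 0, 0, 2, 0, 0, 1, 0], [1, 0, 0, 0, 0, 0, 0, 1, 1, 2, 2, 3, 0, 1]],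
    [[1, 0, 1, 1, 0, 3, 0, 0, 0, 0, 0, 0, 0, 0], [0, 1, 0, 1, 2, 3, 0, 1, 0, 0, 0, 0, 0, 0], [0, 0, 1, 0, 0, 0, 0, 0, 0, 0, 0, 0, 0, 0], [0, 0, 1, 1, 0, 0, 0, 0, 0, 0, 0, 0, 0, 0], [0, 0, 1, 0, 2, 0, 0, 0, 0, 0, 0, 0, 0, 0], [0, 0, 1, 0, 0, 3, 0, 0, 0, 0, 0, 0, 0, 0], [0, 0, 0, 1, 0, 3, 3, 0, 0, 0, 0, 0, 0, 0], [0, 0, 1, 0, 0, 0, 0, 1, 0, 0, 0, 0, 0, 0], [1, 0, 1, 0, 2, 3, 3, 1, 1, 0, 0, 0, 0, 0], [0, 0, 0, 0, 2, 0, 0, 1, 0, 2, 0, 0, 0, 0], [1, 1, 1, 1, 0, 3, 0, 1, 0, 2, 2, 0, 0, 0], [1, 0, 1, 1, 2, 0, 3, 1, 0, 0, 0, 3, 0, 0], [1, 1, 1, 1, 2, 3, 0, 0, 0, 2, 0, 0, 1, 0], [0, 1, 1, 1, 2, 3, 0, 1, 1, 0, 2, 3, 1, 1]],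
    [[1, 0, 0, 2, 0, 3, 1, 0, 0, 0, 0, 0, 0, 0], [0, 1, 0, 1, 3, 2, 0, 1, 0, 0, 0, 0, 0, 0], [0, 0, 1, 0, 0, 0, 0, 0, 0, 0, 0, 0, 0, 0], [0, 0, 1, 1, 0, 0, 0, 0, 0, 0, 0, 0, 0, 0], [0, 0, 1, 2, 2, 0, 0, 0, 0, 0, 0, 0, 0, 0], [0, 0, 1, 3, 0, 3, 0, 0, 0, 0, 0, 0, 0, 0], [0, 0, 0, 2, 0, 3, 3, 0, 0, 0, 0, 0, 0, 0], [0, 0, 1, 1, 1, 1, 0, 1, 0, 0, 0, 0, 0, 0], [1, 0, 0, 1, 3, 2, 2, 1, 1, 0, 0, 0, 0, 0], [0, 2, 0, 3, 3, 1, 2, 1, 0, 2, 0, 0, 0, 0], [1, 3, 0, 1, 3, 2, 3, 1, 2, 2, 2, 0, 0, 0], [1, 0, 0, 1, 3, 2, 2, 1, 3, 0, 0, 3, 0, 0], [1, 3, 0, 1, 3, 2, 3, 1, 1, 2, 1, 1, 1, 0], [0, 0, 0, 0, 0, 0, 0, 0, 1, 0, 3, 2, 1, 1]],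
    [[1, 0, 3, 2, 0, 2, 1, 0, 0, 0, 0, 0, 0, 0], [0, 1, 1, 1, 3, 2, 0, 0, 0, 0, 0, 0, 0, 0], [0, 0, 1, 0, 0, 0, 0, 0, 0, 0, 0, 0, 0, 0], [0, 0, 0, 1, 0, 0, 0, 0, 0, 0, 0, 0, 0, 0], [0, 0, 3, 2, 2, 0, 0, 0, 0, 0, 0, 0, 0, 0], [0, 0, 2, 3, 0, 3, 0, 0, 0, 0, 0, 0, 0, 0], [0, 0, 2, 2, 0, 0, 3, 0, 0, 0, 0, 0, 0, 0], [0, 0, 0, 1, 1, 1, 0, 1, 0, 0, 0, 0, 0, 0], [0, 0, 1, 0, 3, 0, 2, 0, 1, 0, 0, 0, 0, 0], [0, 2, 3, 3, 3, 3, 2, 3, 0, 2, 0, 0, 0, 0], [3, 3, 2, 3, 1, 1, 3, 0, 2, 0, 2, 0, 0, 0], [2, 0, 3, 2, 3, 3, 2, 2, 3, 0, 0, 3, 0, 0], [0, 3, 1, 0, 2, 0, 3, 2, 1, 3, 1, 1, 1, 0], [1, 1, 0, 1, 3, 2, 0, 1, 1, 3, 3, 2, 0, 1]],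
    [[1, 0, 2, 0, 0, 2, 0, 0, 0, 0, 0, 0, 0, 0], [0, 1, 1, 0, 3, 2, 0, 0, 0, 0, 0, 0, 0, 0], [0, 0, 1, 0, 0, 0, 0, 0, 0, 0, 0, 0, 0, 0], [0, 0, 0, 1, 0, 0, 0, 0, 0, 0, 0, 0, 0, 0], [0, 0, 3, 0, 2, 0, 0, 0, 0, 0, 0, 0, 0, 0], [0, 0, 2, 0, 0, 3, 0, 0, 0, 0, 0, 0, 0, 0], [0, 0, 2, 2, 0, 0, 3, 0, 0, 0, 0, 0, 0, 0], [0, 0, 0, 0, 0, 0, 0, 1, 0, 0, 0, 0, 0, 0], [0, 0, 1, 2, 3, 0, 2, 0, 1, 0, 0, 0, 0, 0], [0, 0, 3, 0, 0, 0, 0, 3, 0, 2, 0, 0, 0, 0], [3, 3, 1, 3, 3, 1, 0, 0, 0, 0, 2, 0, 0, 0], [2, 0, 1, 0, 1, 2, 0, 2, 0, 0, 0, 3, 0, 0], [0, 0, 1, 0, 0, 2, 0, 3, 0, 3, 0, 0, 1, 0], [1, 3, 0, 1, 1, 1, 2, 1, 0, 3, 3, 2, 0, 1]],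
    [[1, 0, 3, 0, 0, 0, 0, 0, 0, 1, 0, 0, 0, 0], [0, 1, 0, 0, 1, 0, 0, 3, 0, 0, 0, 0, 0, 0], [0, 0, 1, 0, 0, 0, 0, 0, 0, 0, 0, 0, 0, 0], [0, 0, 2, 1, 1, 1, 0, 1, 0, 0, 0, 0, 0, 0], [0, 0, 0, 0, 2, 0, 0, 2, 0, 0, 0, 0, 0, 0], [0, 0, 3, 0, 0, 3, 0, 3, 0, 0, 0, 0, 0, 0], [0, 3, 1, 3, 3, 2, 3, 2, 0, 3, 0, 0, 0, 0], [0, 0, 0, 0, 0, 0, 0, 1, 0, 0, 0, 0, 0, 0], [2, 0, 1, 3, 3, 3, 0, 0, 1, 2, 1, 1, 1, 0], [0, 0, 2, 0, 0, 0, 0, 0, 0, 2, 0, 0, 0, 0], [0, 0, 3, 2, 3, 2, 0, 3, 0, 3, 2, 0, 2, 0], [3, 0, 2, 0, 3, 2, 0, 1, 0, 3, 0, 3, 3, 0], [0, 0, 1, 0, 0, 1, 0, 2, 0, 1, 0, 0, 1, 0], [0, 2, 0, 1, 2, 3, 1, 1, 0, 3, 1, 0, 3, 1]],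
    [[1, 0, 3, 3, 0, 1, 1, 0, 0, 1, 1, 0, 2, 2], [3, 1, 1, 2, 2, 3, 2, 2, 2, 2, 3, 1, 1, 3], [3, 2, 1, 1, 0, 2, 2, 3, 1, 3, 3, 3, 0, 3], [3, 1, 3, 3, 0, 1, 1, 3, 2, 2, 2, 2, 2, 0], [1, 0, 0, 0, 0, 2, 2, 1, 1, 0, 0, 3, 3, 3], [0, 0, 0, 0, 3, 0, 0, 1, 1, 2, 3, 2, 1, 3], [0, 0, 0, 0, 2, 0, 0, 3, 3, 2, 1, 1, 2, 3], [2, 0, 2, 3, 3, 1, 3, 0, 2, 3, 1, 1, 2, 1], [3, 0, 1, 3, 1, 1, 2, 3, 0, 2, 1, 2, 2, 3], [2, 1, 0, 0, 0, 3, 1, 2, 3, 3, 3, 2, 3, 2], [2, 3, 0, 0, 0, 3, 2, 2, 1, 2, 2, 1, 1, 2], [0, 0, 0, 0, 2, 0, 0, 3, 3, 0, 0, 1, 0, 0], [0, 0, 1, 2, 2, 3, 2, 3, 3, 3, 1, 1, 2, 1], [0, 0, 1, 3, 1, 1, 2, 2, 2, 3, 2, 3, 3, 1]],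
    [[1, 2, 3, 3, 1, 0, 1, 0, 0, 0, 1, 0, 0, 2], [1, 2, 1, 0, 1, 0, 2, 3, 2, 1, 3, 1, 2, 3], [2, 1, 1, 0, 3, 3, 2, 3, 1, 0, 3, 3, 3, 3], [1, 1, 1, 1, 2, 2, 1, 2, 2, 0, 2, 2, 2, 0], [0, 3, 3, 1, 0, 3, 2, 0, 1, 0, 0, 3, 0, 3], [1, 3, 2, 1, 0, 2, 0, 2, 1, 1, 3, 2, 2, 3], [3, 3, 0, 3, 3, 1, 0, 1, 3, 3, 1, 1, 1, 3], [0, 1, 0, 1, 2, 3, 3, 1, 2, 2, 1, 1, 3, 1], [3, 3, 2, 3, 0, 1, 2, 2, 0, 3, 1, 2, 1, 3], [1, 3, 3, 3, 3, 0, 1, 1, 3, 0, 3, 2, 1, 2], [3, 1, 1, 1, 2, 0, 2, 3, 1, 0, 2, 1, 3, 2], [3, 0, 3, 3, 2, 1, 0, 0, 3, 0, 0, 1, 0, 0], [3, 1, 1, 1, 3, 0, 2, 3, 3, 2, 1, 1, 3, 1], [2, 1, 1, 1, 3, 0, 2, 2, 2, 1, 2, 3, 2, 1]],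
    [[1, 0, 0, 3, 0, 0, 0, 0, 1, 0, 1, 0, 0, 2], [1, 0, 3, 0, 3, 0, 2, 1, 2, 1, 1, 3, 2, 3], [2, 2, 0, 1, 0, 0, 0, 0, 2, 0, 0, 0, 3, 3], [1, 1, 0, 3, 0, 0, 0, 0, 0, 0, 0, 0, 2, 0], [0, 0, 0, 0, 0, 0, 2, 0, 2, 0, 0, 3, 0, 3], [1, 1, 0, 3, 3, 0, 0, 0, 2, 1, 1, 0, 2, 3], [3, 3, 0, 2, 2, 0, 0, 0, 2, 3, 0, 0, 1, 3], [0, 2, 1, 0, 1, 0, 1, 2, 1, 2, 2, 2, 3, 1], [3, 3, 2, 2, 2, 0, 2, 3, 2, 3, 0, 3, 1, 3], [1, 1, 0, 2, 0, 2, 0, 0, 3, 0, 2, 3, 1, 2], [3, 3, 0, 1, 0, 1, 1, 0, 1, 0, 1, 2, 3, 2], [3, 0, 0, 2, 2, 0, 3, 0, 2, 0, 0, 1, 0, 0], [3, 2, 3, 1, 2, 1, 3, 0, 0, 2, 2, 2, 3, 1], [2, 1, 2, 1, 1, 3, 1, 0, 1, 1, 0, 1, 2, 1]],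
    [[0, 2, 1, 2, 1, 0, 0, 3, 1, 1, 1, 0, 2, 2], [3, 3, 3, 2, 2, 1, 2, 2, 2, 0, 1, 3, 1, 3], [0, 1, 2, 3, 0, 0, 0, 0, 2, 0, 0, 0, 0, 3], [1, 1, 2, 3, 0, 0, 0, 3, 0, 0, 0, 0, 2, 0], [2, 3, 1, 2, 0, 1, 2, 1, 2, 0, 0, 3, 3, 3], [3, 2, 3, 1, 2, 0, 0, 2, 2, 0, 1, 0, 1, 3], [1, 0, 0, 0, 2, 0, 0, 3, 2, 3, 0, 0, 2, 3], [1, 3, 1, 1, 3, 3, 1, 3, 1, 0, 2, 2, 2, 1], [1, 0, 2, 0, 2, 1, 2, 0, 2, 3, 0, 3, 2, 3], [2, 3, 2, 1, 2, 1, 0, 1, 3, 2, 2, 3, 3, 2], [2, 1, 1, 0, 1, 2, 1, 3, 1, 1, 1, 2, 1, 2], [1, 0, 3, 0, 2, 2, 3, 2, 2, 0, 0, 1, 0, 0], [3, 3, 0, 1, 0, 0, 3, 0, 0, 0, 2, 2, 2, 1], [3, 0, 1, 0, 1, 3, 1, 3, 1, 1, 0, 1, 3, 1]],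
    [[0, 1, 3, 2, 1, 1, 1, 1, 2, 1, 3, 2, 2, 2], [3, 0, 3, 2, 0, 1, 1, 3, 1, 0, 0, 2, 1, 3], [0, 2, 1, 1, 0, 0, 0, 0, 2, 0, 0, 0, 0, 3], [1, 1, 3, 2, 1, 1, 1, 1, 2, 0, 2, 2, 2, 0], [2, 0, 0, 0, 2, 0, 0, 2, 2, 0, 3, 0, 3, 3], [3, 1, 3, 3, 0, 3, 3, 3, 2, 0, 0, 1, 1, 3], [1, 0, 2, 1, 3, 1, 2, 1, 0, 3, 2, 2, 2, 3], [1, 2, 1, 1, 0, 0, 0, 1, 3, 0, 0, 0, 2, 1], [1, 0, 0, 0, 0, 0, 0, 2, 3, 3, 2, 1, 2, 3], [2, 3, 2, 2, 2, 0, 0, 2, 1, 2, 1, 0, 3, 2], [2, 2, 1, 3, 2, 2, 2, 2, 3, 1, 0, 3, 1, 2], [1, 0, 2, 1, 0, 1, 2, 2, 3, 0, 0, 1, 0, 0], [3, 2, 2, 3, 0, 0, 0, 2, 2, 0, 0, 0, 2, 1], [3, 0, 3, 2, 1, 2, 3, 0, 3, 1, 3, 2, 3, 1]],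
    [[3, 1, 3, 2, 2, 3, 3, 0, 0, 1, 3, 3, 1, 1], [0, 3, 1, 1, 3, 1, 3, 2, 0, 3, 2, 3, 0, 1], [1, 3, 0, 1, 3, 2, 3, 1, 1, 2, 1, 1, 1, 0], [3, 2, 1, 0, 1, 3, 1, 1, 1, 3, 2, 2, 0, 1], [2, 0, 1, 3, 0, 2, 3, 3, 1, 0, 0, 1, 0, 0], [1, 2, 1, 2, 0, 0, 2, 3, 1, 3, 1, 1, 1, 0], [1, 0, 2, 2, 3, 0, 3, 1, 0, 3, 3, 2, 0, 1], [1, 3, 1, 0, 2, 3, 3, 0, 1, 2, 1, 1, 1, 0], [3, 2, 0, 1, 2, 3, 3, 1, 0, 3, 2, 2, 0, 1], [3, 3, 3, 3, 3, 1, 0, 2, 0, 2, 1, 0, 1, 0], [1, 2, 3, 1, 1, 1, 3, 2, 0, 3, 2, 3, 0, 1], [3, 2, 2, 1, 2, 0, 3, 1, 0, 0, 2, 2, 1, 1], [1, 2, 0, 1, 1, 1, 3, 1, 0, 2, 2, 3, 0, 1], [0, 0, 1, 0, 0, 3, 0, 2, 0, 2, 0, 0, 1, 0]],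
    [[3, 0, 3, 2, 1, 3, 3, 1, 0, 2, 3, 3, 0, 1], [0, 2, 1, 1, 1, 1, 3, 0, 0, 1, 2, 3, 1, 1], [0, 3, 1, 0, 2, 0, 3, 2, 1, 3, 1, 1, 1, 0], [2, 3, 2, 1, 3, 0, 1, 3, 1, 1, 2, 2, 1, 1], [3, 0, 1, 2, 0, 0, 3, 2, 1, 0, 0, 1, 0, 0], [0, 2, 3, 3, 1, 3, 2, 1, 1, 2, 1, 1, 1, 0], [1, 1, 0, 2, 0, 1, 3, 0, 0, 0, 3, 2, 1, 1], [0, 3, 1, 1, 3, 1, 3, 3, 1, 3, 1, 1, 1, 0], [3, 3, 3, 1, 0, 2, 3, 2, 0, 1, 2, 2, 1, 1], [3, 3, 3, 3, 2, 1, 0, 0, 0, 3, 1, 0, 1, 0], [1, 3, 2, 1, 3, 1, 3, 1, 0, 1, 2, 3, 1, 1], [3, 3, 1, 1, 0, 1, 3, 3, 0, 2, 2, 2, 0, 1], [1, 3, 1, 1, 3, 1, 3, 2, 0, 0, 2, 3, 1, 1], [0, 0, 1, 0, 0, 3, 0, 3, 0, 2, 0, 0, 1, 0]],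
    [[3, 3, 1, 1, 3, 1, 2, 1, 0, 2, 3, 3, 0, 1], [0, 2, 0, 1, 2, 3, 2, 1, 0, 1, 3, 2, 1, 1], [0, 0, 1, 0, 0, 2, 0, 3, 0, 3, 0, 0, 1, 0], [2, 3, 1, 1, 3, 0, 2, 2, 0, 1, 3, 3, 1, 1], [3, 0, 2, 0, 2, 3, 0, 2, 0, 0, 0, 1, 0, 0], [0, 0, 3, 0, 0, 2, 0, 0, 0, 2, 0, 0, 1, 0], [1, 0, 0, 3, 2, 2, 2, 1, 0, 0, 2, 3, 1, 1], [0, 0, 1, 0, 0, 2, 0, 2, 0, 3, 0, 0, 1, 0], [3, 3, 1, 0, 1, 3, 1, 3, 1, 1, 3, 3, 1, 1], [3, 0, 0, 0, 2, 0, 0, 1, 0, 3, 0, 1, 1, 0], [1, 3, 2, 2, 1, 2, 3, 0, 0, 1, 3, 2, 1, 1], [3, 0, 3, 3, 1, 0, 2, 3, 0, 2, 2, 2, 0, 1], [1, 2, 1, 1, 2, 1, 2, 3, 0, 0, 3, 2, 1, 1], [0, 2, 1, 1, 2, 1, 2, 2, 1, 2, 1, 1, 1, 0]],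
    [[3, 2, 2, 1, 0, 0, 2, 3, 0, 1, 3, 3, 1, 1], [0, 3, 0, 1, 1, 3, 2, 3, 0, 2, 3, 2, 0, 1], [0, 0, 1, 0, 0, 2, 0, 2, 0, 3, 0, 0, 1, 0], [2, 2, 3, 1, 0, 1, 2, 1, 0, 2, 3, 3, 0, 1], [3, 0, 1, 0, 2, 2, 0, 2, 0, 0, 0, 1, 0, 0], [0, 0, 3, 0, 0, 2, 0, 1, 0, 2, 0, 0, 1, 0], [1, 1, 3, 3, 0, 3, 2, 1, 0, 2, 2, 3, 0, 1], [0, 0, 1, 0, 0, 2, 0, 3, 0, 3, 0, 0, 1, 0], [2, 2, 2, 1, 2, 1, 1, 1, 1, 2, 3, 3, 0, 1], [3, 0, 3, 0, 2, 1, 0, 0, 0, 3, 0, 1, 1, 0], [1, 2, 0, 2, 2, 3, 3, 3, 0, 2, 3, 2, 0, 1], [3, 1, 2, 3, 3, 0, 2, 2, 0, 0, 2, 2, 1, 1], [1, 3, 0, 1, 1, 1, 2, 1, 0, 3, 3, 2, 0, 1], [1, 2, 1, 0, 3, 2, 2, 0, 1, 3, 1, 1, 1, 0]],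
    [[3, 2, 0, 3, 1, 1, 0, 2, 1, 1, 2, 2, 1, 1], [0, 0, 1, 1, 1, 2, 0, 3, 1, 2, 3, 2, 0, 1], [0, 3, 1, 1, 3, 1, 3, 3, 1, 3, 1, 1, 1, 0], [2, 1, 0, 1, 2, 3, 2, 1, 0, 2, 3, 3, 0, 1], [3, 0, 2, 3, 0, 1, 3, 2, 1, 0, 0, 1, 0, 0], [0, 2, 3, 2, 0, 2, 2, 0, 1, 2, 1, 1, 1, 0], [1, 2, 3, 0, 3, 1, 1, 1, 1, 2, 2, 3, 0, 1], [0, 3, 1, 0, 2, 0, 3, 2, 1, 3, 1, 1, 1, 0], [2, 1, 1, 2, 0, 3, 1, 1, 1, 2, 3, 3, 0, 1], [3, 3, 0, 3, 3, 1, 0, 1, 0, 3, 1, 0, 1, 0], [1, 1, 0, 1, 2, 2, 0, 3, 1, 2, 3, 2, 0, 1], [3, 0, 0, 3, 2, 1, 1, 3, 1, 0, 3, 3, 1, 1], [1, 1, 0, 1, 3, 2, 0, 1, 1, 3, 3, 2, 0, 1], [1, 1, 0, 1, 3, 2, 0, 1, 0, 3, 0, 0, 1, 0]],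
    [[2, 1, 2, 0, 2, 3, 0, 3, 0, 2, 0, 3, 3, 0], [0, 2, 2, 2, 2, 2, 3, 3, 0, 2, 1, 2, 3, 2], [0, 0, 1, 0, 0, 2, 0, 2, 0, 3, 0, 0, 1, 0], [0, 0, 2, 0, 0, 3, 0, 2, 0, 1, 0, 0, 2, 0], [0, 0, 2, 0, 0, 2, 0, 3, 0, 1, 0, 0, 1, 0], [2, 0, 1, 0, 1, 2, 0, 2, 0, 1, 0, 3, 2, 0], [3, 0, 1, 0, 2, 2, 0, 3, 0, 1, 0, 1, 2, 0], [2, 2, 0, 1, 0, 0, 2, 0, 0, 0, 3, 3, 3, 1], [2, 3, 2, 3, 3, 0, 1, 1, 0, 2, 2, 3, 2, 3], [3, 3, 1, 2, 0, 2, 2, 2, 0, 3, 1, 3, 0, 1], [2, 1, 1, 3, 3, 0, 3, 3, 0, 2, 2, 2, 3, 2], [0, 0, 0, 3, 0, 1, 1, 0, 0, 0, 3, 0, 1, 1], [2, 0, 1, 0, 1, 2, 1, 2, 1, 1, 0, 1, 2, 1], [3, 0, 1, 1, 2, 0, 3, 3, 2, 1, 1, 2, 0, 3]],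
    [[2, 1, 0, 0, 2, 0, 0, 1, 0, 2, 0, 3, 3, 0], [0, 0, 2, 2, 3, 3, 3, 0, 0, 3, 1, 2, 1, 2], [0, 0, 1, 0, 0, 2, 0, 3, 0, 3, 0, 0, 1, 0], [0, 0, 2, 0, 0, 3, 0, 0, 0, 1, 0, 0, 2, 0], [0, 0, 2, 0, 0, 2, 0, 2, 0, 1, 0, 0, 1, 0], [2, 0, 3, 0, 1, 1, 0, 0, 0, 1, 0, 3, 2, 0], [3, 0, 2, 0, 2, 3, 0, 1, 0, 1, 0, 1, 2, 0], [2, 3, 2, 1, 3, 1, 2, 0, 0, 3, 3, 3, 2, 1], [2, 0, 0, 3, 1, 2, 1, 3, 0, 0, 2, 3, 1, 3], [3, 2, 1, 2, 1, 3, 2, 0, 0, 2, 1, 3, 1, 1], [2, 3, 2, 3, 1, 1, 3, 3, 0, 0, 2, 2, 1, 2], [0, 1, 2, 3, 3, 0, 1, 0, 0, 3, 3, 0, 0, 1], [3, 1, 3, 1, 1, 2, 1, 0, 1, 1, 0, 1, 3, 1], [1, 3, 2, 3, 3, 1, 3, 2, 2, 0, 1, 2, 3, 3]],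
    [[2, 3, 2, 3, 0, 1, 0, 2, 0, 2, 3, 0, 3, 0], [0, 1, 0, 0, 3, 0, 0, 1, 2, 3, 0, 3, 1, 2], [0, 3, 1, 0, 2, 0, 3, 2, 1, 3, 1, 1, 1, 0], [0, 1, 2, 1, 2, 1, 1, 2, 2, 1, 2, 2, 2, 0], [0, 1, 2, 1, 3, 1, 1, 3, 1, 1, 1, 1, 1, 0], [2, 1, 1, 1, 3, 0, 3, 2, 1, 1, 2, 1, 2, 0], [3, 1, 1, 3, 1, 1, 2, 3, 3, 1, 2, 3, 2, 0], [2, 1, 1, 1, 2, 0, 3, 2, 2, 3, 1, 1, 2, 1], [2, 3, 1, 3, 1, 3, 3, 2, 0, 0, 3, 2, 1, 3], [3, 1, 3, 3, 1, 1, 3, 1, 3, 2, 0, 2, 1, 1], [2, 1, 2, 1, 1, 1, 1, 2, 1, 0, 3, 3, 1, 2], [0, 3, 3, 3, 0, 0, 2, 0, 3, 3, 3, 0, 0, 1], [3, 1, 1, 1, 2, 0, 3, 3, 3, 1, 3, 2, 3, 1], [1, 0, 0, 1, 3, 2, 2, 1, 2, 0, 2, 1, 3, 3]],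
    [[2, 3, 3, 3, 3, 1, 0, 2, 0, 1, 3, 0, 3, 0], [2, 3, 0, 2, 3, 3, 0, 1, 2, 3, 0, 3, 3, 2], [1, 3, 0, 1, 3, 2, 3, 1, 1, 2, 1, 1, 1, 0], [2, 1, 1, 3, 0, 2, 1, 3, 2, 3, 2, 2, 2, 0], [1, 1, 2, 0, 2, 1, 1, 2, 1, 0, 1, 1, 1, 0], [3, 1, 3, 0, 1, 2, 3, 0, 1, 3, 2, 1, 2, 0], [0, 1, 2, 0, 3, 0, 2, 3, 3, 3, 2, 3, 2, 0], [0, 0, 1, 3, 3, 2, 3, 2, 2, 2, 1, 1, 3, 1], [2, 0, 3, 3, 2, 2, 3, 3, 0, 3, 3, 2, 2, 3], [0, 0, 1, 0, 1, 0, 3, 3, 3, 2, 0, 2, 0, 1], [3, 3, 2, 0, 2, 3, 1, 1, 1, 3, 3, 3, 3, 2], [3, 2, 2, 0, 3, 2, 2, 1, 3, 0, 3, 0, 1, 1], [0, 0, 1, 2, 1, 1, 3, 3, 3, 2, 3, 2, 2, 1], [3, 3, 1, 3, 1, 1, 2, 3, 2, 2, 2, 1, 0, 3]],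
    [[2, 2, 1, 3, 1, 0, 3, 1, 0, 1, 0, 3, 3, 0], [2, 2, 0, 1, 1, 2, 1, 2, 2, 3, 3, 0, 3, 2], [1, 1, 1, 1, 2, 3, 0, 0, 0, 2, 0, 0, 1, 0], [2, 2, 3, 2, 3, 1, 0, 1, 0, 3, 0, 0, 2, 0], [1, 1, 3, 1, 0, 3, 0, 3, 0, 0, 0, 0, 1, 0], [3, 2, 0, 3, 1, 1, 3, 2, 0, 3, 0, 3, 2, 0], [0, 2, 2, 0, 0, 2, 1, 1, 0, 3, 0, 1, 2, 0], [0, 3, 0, 1, 3, 2, 1, 1, 1, 2, 2, 2, 3, 1], [2, 0, 2, 3, 0, 1, 2, 1, 3, 3, 1, 0, 2, 3], [0, 3, 0, 3, 2, 1, 1, 3, 1, 2, 0, 2, 0, 1], [3, 2, 3, 2, 3, 2, 1, 2, 2, 3, 0, 0, 3, 2], [3, 3, 0, 1, 0, 2, 1, 0, 1, 0, 2, 1, 1, 1], [0, 3, 0, 1, 3, 2, 1, 1, 0, 2, 1, 0, 2, 1], [3, 2, 1, 1, 0, 3, 3, 3, 1, 2, 2, 1, 0, 3]],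
    [[3, 3, 1, 3, 1, 1, 2, 1, 1, 1, 1, 3, 3, 0], [2, 1, 0, 1, 1, 1, 2, 1, 2, 0, 3, 3, 3, 1], [0, 1, 2, 3, 0, 0, 0, 0, 2, 0, 0, 0, 0, 3], [1, 0, 0, 3, 3, 3, 1, 3, 0, 0, 2, 2, 2, 3], [1, 0, 0, 0, 3, 0, 0, 3, 2, 0, 2, 0, 2, 3], [1, 0, 0, 0, 0, 3, 1, 3, 2, 0, 0, 2, 2, 3], [0, 1, 0, 0, 0, 0, 1, 0, 2, 1, 2, 0, 0, 0], [1, 2, 3, 1, 0, 0, 0, 3, 1, 0, 0, 0, 2, 2], [3, 0, 0, 2, 2, 2, 3, 2, 2, 0, 3, 3, 3, 1], [2, 0, 0, 0, 1, 0, 0, 1, 3, 1, 1, 0, 3, 1], [3, 0, 0, 0, 2, 0, 0, 2, 1, 0, 3, 0, 3, 1], [3, 2, 0, 0, 0, 2, 1, 2, 2, 2, 3, 3, 3, 1], [2, 3, 2, 1, 2, 2, 3, 0, 0, 2, 2, 1, 2, 1], [1, 1, 3, 2, 3, 3, 1, 3, 1, 0, 1, 1, 1, 0]],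
    [[2, 3, 0, 2, 0, 0, 2, 0, 1, 0, 1, 3, 3, 0], [0, 0, 0, 3, 2, 0, 2, 0, 2, 3, 3, 3, 2, 1], [2, 2, 0, 1, 0, 0, 0, 0, 2, 0, 0, 0, 3, 3], [1, 3, 1, 3, 1, 0, 1, 2, 0, 2, 2, 2, 1, 3], [3, 3, 0, 2, 1, 0, 0, 0, 2, 2, 2, 0, 1, 3], [3, 3, 0, 2, 0, 0, 1, 0, 2, 0, 0, 2, 1, 3], [2, 1, 2, 2, 2, 1, 1, 3, 2, 3, 2, 0, 0, 0], [0, 0, 0, 0, 0, 0, 0, 0, 1, 0, 0, 0, 0, 2], [1, 1, 2, 0, 1, 2, 3, 2, 2, 3, 3, 3, 2, 1], [1, 1, 0, 3, 0, 0, 0, 0, 3, 0, 1, 0, 2, 1], [2, 1, 3, 1, 1, 0, 0, 1, 1, 3, 3, 0, 2, 1], [1, 3, 0, 2, 3, 0, 1, 0, 2, 1, 3, 3, 2, 1], [2, 2, 0, 1, 0, 0, 3, 0, 0, 0, 2, 1, 3, 1], [0, 1, 1, 3, 2, 3, 1, 2, 1, 1, 1, 1, 1, 0]],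
    [[2, 3, 2, 2, 2, 0, 0, 3, 0, 0, 2, 0, 3, 0], [0, 2, 1, 1, 3, 1, 1, 2, 0, 3, 1, 1, 2, 1], [2, 1, 1, 0, 3, 3, 2, 3, 1, 0, 3, 3, 3, 3], [1, 2, 3, 1, 0, 1, 2, 3, 1, 2, 3, 3, 1, 3], [3, 2, 0, 2, 2, 1, 1, 1, 1, 2, 3, 1, 1, 3], [3, 0, 0, 3, 1, 3, 2, 1, 1, 0, 1, 3, 1, 3], [2, 2, 0, 2, 3, 2, 0, 3, 0, 3, 2, 0, 0, 0], [0, 2, 2, 1, 0, 0, 0, 0, 1, 0, 0, 0, 0, 2], [1, 3, 2, 1, 2, 1, 1, 0, 0, 3, 1, 1, 2, 1], [1, 0, 0, 3, 3, 2, 1, 2, 0, 0, 3, 2, 2, 1], [2, 3, 0, 1, 1, 3, 1, 3, 0, 3, 1, 2, 2, 1], [1, 3, 0, 1, 2, 1, 1, 2, 0, 1, 1, 1, 2, 1], [2, 3, 3, 1, 1, 2, 1, 3, 0, 0, 1, 2, 3, 1], [0, 0, 1, 0, 0, 1, 0, 3, 0, 1, 0, 0, 1, 0]],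
    [[2, 3, 2, 2, 0, 0, 0, 3, 0, 2, 2, 0, 3, 0], [0, 3, 1, 1, 2, 1, 1, 3, 0, 2, 1, 1, 3, 1], [3, 2, 1, 1, 0, 2, 2, 3, 1, 3, 3, 3, 0, 3], [0, 1, 1, 0, 3, 0, 2, 2, 1, 1, 3, 3, 2, 3], [2, 1, 3, 3, 1, 1, 1, 0, 1, 1, 3, 1, 2, 3], [2, 3, 2, 2, 0, 2, 2, 2, 1, 1, 1, 3, 2, 3], [2, 2, 0, 2, 1, 2, 0, 1, 0, 1, 2, 0, 0, 0], [1, 0, 0, 0, 0, 0, 0, 1, 1, 0, 0, 0, 2, 2], [1, 2, 3, 1, 3, 1, 1, 0, 0, 2, 1, 1, 3, 1], [1, 1, 3, 3, 0, 1, 1, 1, 0, 3, 3, 2, 3, 1], [2, 2, 2, 1, 0, 0, 1, 3, 0, 2, 1, 2, 3, 1], [1, 2, 1, 1, 3, 1, 1, 2, 0, 0, 1, 1, 3, 1], [2, 2, 1, 1, 0, 1, 1, 2, 0, 1, 1, 2, 2, 1], [0, 0, 1, 0, 0, 1, 0, 2, 0, 1, 0, 0, 1, 0]],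
    [[2, 1, 0, 0, 2, 0, 0, 0, 1, 2, 1, 3, 3, 0], [0, 0, 0, 2, 3, 0, 3, 0, 3, 2, 2, 2, 3, 1], [3, 2, 1, 1, 0, 2, 2, 3, 1, 3, 3, 3, 0, 3], [0, 3, 2, 2, 0, 3, 3, 0, 3, 1, 1, 1, 2, 3], [2, 3, 2, 2, 0, 2, 2, 2, 1, 1, 1, 3, 2, 3], [2, 1, 3, 3, 1, 1, 1, 0, 1, 1, 3, 1, 2, 3], [2, 3, 2, 2, 2, 3, 3, 1, 2, 1, 2, 0, 0, 0], [1, 2, 3, 2, 3, 3, 1, 3, 3, 0, 2, 2, 2, 2], [1, 1, 3, 0, 1, 3, 2, 3, 3, 2, 2, 2, 3, 1], [1, 3, 3, 1, 1, 1, 3, 2, 2, 3, 0, 1, 3, 1], [2, 1, 1, 2, 1, 2, 1, 0, 0, 2, 2, 1, 3, 1], [1, 3, 1, 2, 3, 1, 0, 1, 3, 0, 2, 2, 3, 1], [2, 2, 2, 3, 1, 3, 2, 0, 1, 1, 3, 0, 2, 1], [0, 1, 1, 2, 3, 2, 1, 3, 1, 1, 1, 1, 1, 0]],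
    [[1, 0, 3, 1, 1, 3, 0, 3, 0, 1, 0, 0, 0, 0], [0, 1, 0, 1, 3, 3, 0, 2, 0, 0, 0, 0, 0, 0], [0, 0, 1, 0, 0, 0, 0, 0, 0, 0, 0, 0, 0, 0], [0, 0, 3, 1, 1, 1, 0, 1, 0, 0, 0, 0, 0, 0], [0, 0, 2, 0, 1, 0, 0, 1, 0, 0, 0, 0, 0, 0], [0, 0, 2, 0, 0, 1, 0, 1, 0, 0, 0, 0, 0, 0], [0, 1, 2, 2, 2, 1, 1, 1, 0, 1, 0, 0, 0, 0], [0, 0, 1, 0, 0, 0, 0, 1, 0, 0, 0, 0, 0, 0], [3, 2, 1, 0, 3, 1, 2, 0, 1, 1, 1, 1, 1, 0], [0, 0, 1, 0, 1, 0, 0, 3, 0, 1, 0, 0, 0, 0], [2, 2, 2, 3, 3, 0, 0, 1, 0, 1, 1, 0, 1, 0], [2, 1, 3, 2, 1, 2, 1, 2, 0, 3, 0, 1, 1, 0], [1, 1, 1, 1, 3, 2, 0, 0, 0, 3, 0, 0, 1, 0], [0, 2, 0, 1, 2, 3, 1, 1, 1, 3, 3, 3, 2, 1]],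
    [[1, 0, 3, 1, 1, 3, 0, 3, 0, 1, 0, 0, 0, 0], [0, 1, 1, 1, 3, 3, 0, 3, 0, 0, 0, 0, 0, 0], [0, 0, 1, 0, 0, 0, 0, 0, 0, 0, 0, 0, 0, 0], [0, 0, 2, 1, 1, 1, 0, 1, 0, 0, 0, 0, 0, 0], [0, 0, 2, 0, 1, 0, 0, 1, 0, 0, 0, 0, 0, 0], [0, 0, 2, 0, 0, 1, 0, 1, 0, 0, 0, 0, 0, 0], [0, 1, 0, 2, 2, 0, 1, 0, 0, 1, 0, 0, 0, 0], [0, 0, 1, 0, 0, 0, 0, 1, 0, 0, 0, 0, 0, 0], [2, 2, 3, 1, 2, 2, 2, 2, 1, 0, 1, 1, 1, 0], [0, 0, 1, 0, 1, 0, 0, 3, 0, 1, 0, 0, 0, 0], [2, 2, 3, 3, 2, 0, 0, 2, 0, 0, 1, 0, 1, 0], [2, 1, 3, 2, 1, 2, 1, 2, 0, 3, 0, 1, 1, 0], [1, 1, 1, 1, 3, 2, 0, 0, 0, 3, 0, 0, 1, 0], [1, 3, 1, 0, 1, 1, 1, 1, 1, 0, 3, 3, 3, 1]],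
    [[1, 1, 2, 0, 2, 0, 0, 3, 0, 1, 0, 0, 0, 0], [0, 1, 1, 2, 0, 0, 0, 3, 0, 0, 0, 0, 0, 0], [0, 0, 1, 0, 0, 0, 0, 0, 0, 0, 0, 0, 0, 0], [0, 0, 2, 0, 0, 0, 0, 1, 0, 0, 0, 0, 0, 0], [0, 0, 2, 0, 0, 1, 0, 1, 0, 0, 0, 0, 0, 0], [0, 0, 2, 0, 1, 0, 0, 1, 0, 0, 0, 0, 0, 0], [0, 0, 0, 0, 2, 0, 0, 0, 0, 1, 0, 0, 0, 0], [0, 0, 1, 1, 1, 1, 0, 1, 0, 0, 0, 0, 0, 0], [2, 2, 1, 3, 0, 0, 0, 3, 0, 0, 0, 0, 1, 0], [0, 1, 1, 2, 2, 3, 1, 3, 0, 1, 0, 0, 0, 0], [2, 2, 1, 3, 0, 3, 2, 3, 0, 0, 0, 1, 1, 0], [2, 2, 1, 3, 2, 0, 0, 3, 0, 3, 1, 0, 1, 0], [1, 2, 0, 1, 2, 3, 2, 1, 1, 3, 1, 1, 1, 0], [1, 2, 1, 3, 0, 0, 0, 2, 2, 0, 0, 0, 3, 1]],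
    [[1, 1, 3, 0, 2, 0, 0, 2, 0, 1, 0, 0, 0, 0], [0, 1, 3, 2, 0, 0, 0, 2, 0, 0, 0, 0, 0, 0], [0, 0, 1, 0, 0, 0, 0, 0, 0, 0, 0, 0, 0, 0], [0, 0, 2, 0, 0, 0, 0, 1, 0, 0, 0, 0, 0, 0], [0, 0, 2, 0, 0, 1, 0, 1, 0, 0, 0, 0, 0, 0], [0, 0, 2, 0, 1, 0, 0, 1, 0, 0, 0, 0, 0, 0], [0, 0, 0, 0, 2, 0, 0, 0, 0, 1, 0, 0, 0, 0], [0, 0, 0, 1, 1, 1, 0, 1, 0, 0, 0, 0, 0, 0], [2, 2, 0, 3, 0, 0, 0, 0, 0, 0, 0, 0, 1, 0], [0, 1, 3, 2, 2, 2, 1, 2, 0, 1, 0, 0, 0, 0], [2, 2, 0, 3, 0, 0, 2, 0, 0, 0, 0, 1, 1, 0], [2, 2, 0, 3, 3, 0, 0, 0, 0, 2, 1, 0, 1, 0], [0, 2, 1, 0, 3, 0, 2, 3, 1, 2, 1, 1, 1, 0], [3, 3, 0, 1, 0, 0, 0, 0, 2, 0, 0, 0, 2, 1]],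
    [[1, 0, 2, 0, 0, 2, 0, 2, 0, 1, 0, 0, 0, 0], [0, 1, 3, 0, 2, 2, 0, 2, 0, 0, 0, 0, 0, 0], [0, 0, 1, 0, 0, 0, 0, 0, 0, 0, 0, 0, 0, 0], [0, 0, 2, 1, 1, 1, 0, 1, 0, 0, 0, 0, 0, 0], [0, 0, 2, 0, 1, 0, 0, 1, 0, 0, 0, 0, 0, 0], [0, 0, 2, 0, 0, 1, 0, 1, 0, 0, 0, 0, 0, 0], [0, 1, 0, 2, 2, 0, 1, 0, 0, 1, 0, 0, 0, 0], [0, 0, 0, 0, 0, 0, 0, 1, 0, 0, 0, 0, 0, 0], [2, 2, 2, 2, 1, 1, 2, 1, 1, 0, 1, 1, 1, 0], [0, 0, 3, 0, 0, 0, 0, 2, 0, 1, 0, 0, 0, 0], [2, 2, 2, 3, 1, 0, 0, 1, 0, 0, 1, 0, 1, 0], [2, 0, 2, 0, 3, 1, 0, 1, 0, 2, 0, 1, 1, 0], [0, 0, 1, 0, 0, 3, 0, 2, 0, 2, 0, 0, 1, 0], [3, 2, 2, 1, 2, 2, 3, 2, 0, 0, 2, 2, 2, 1]],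
    [[1, 0, 0, 0, 0, 0, 0, 0, 0, 0, 0, 0, 0, 0], [0, 1, 0, 0, 0, 0, 0, 0, 0, 0, 0, 0, 0, 0], [0, 0, 1, 0, 0, 0, 0, 0, 0, 0, 0, 0, 0, 0], [0, 0, 0, 1, 0, 0, 0, 0, 0, 0, 0, 0, 0, 0], [0, 0, 0, 0, 1, 0, 0, 0, 0, 0, 0, 0, 0, 0], [0, 0, 0, 0, 0, 1, 0, 0, 0, 0, 0, 0, 0, 0], [0, 0, 0, 0, 0, 0, 1, 0, 0, 0, 0, 0, 0, 0], [0, 0, 0, 0, 0, 0, 0, 1, 0, 0, 0, 0, 0, 0], [0, 0, 0, 0, 0, 0, 0, 0, 1, 0, 0, 0, 0, 0], [0, 0, 0, 0, 0, 0, 0, 0, 0, 1, 0, 0, 0, 0], [0, 0, 0, 0, 0, 0, 0, 0, 0, 0, 1, 0, 0, 0], [0, 0, 0, 0, 0, 0, 0, 0, 0, 0, 0, 1, 0, 0], [0, 0, 0, 0, 0, 0, 0, 0, 0, 0, 0, 0, 1, 0], [0, 0, 0, 0, 0, 0, 0, 0, 0, 0, 0, 0, 0, 1]]]) ]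

theorem relCert_ok : ∀ c ∈ relCert, chkChain (c.1.map fun t => gcode t.1) c.2 ONE14 = true ∧ lastOf c.2 ONE14 = ONE14 := by
  decide +kernel

theorem relCert_all : ∀ L ∈ Cfsg.Agent.Lib.Helper28.TCG24W0Link.relWords, ∃ c ∈ relCert, c.1 = L := by decide +kernel

end Cfsg.Agent.Lib.Helper28.G2Data
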