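import Cfsg.Agent.Lib.Helper28.TCG24BTable
import Cfsg.Agent.Lib.Helper28.TCG24W0Table
set_option autoImplicit false
set_option maxRecDepth 100000
set_option maxHeartbeats 0

namespace Cfsg.Agent.Lib.Helper28.TCG24BChk7
open Cfsg.Agent.Lib.Helper28.TC2Upper Cfsg.Agent.Lib.Helper28.TC2Lower Cfsg.Agent.Lib.Helper28.TC2Orbit Cfsg.Agent.Lib.Helper28.TC2Range Cfsg.Agent.Lib.Helper28.TC2Bsgs Cfsg.Agent.Lib.Helper28.TCG24BTable

theorem hA4 : ∀ l ∈ A4, l < btable.k ∧ ∀ q ∈ ([4, 2, 1, 0] : List ℕ), btable.tau l q = q := by decide +kernel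
theorem conn5_0 : OrbData.connOKc orb5 btable 1 0 416 = true := by decide +kernel
theorem cnt5 : orb5.count 416 1 = 3 := by decide +kernel
theorem hgens5 : BT.all (fun s => decide (s ∈ A5.map fun l => [l])) orb5.gens = true := by decide +kernel
theorem hA5 : ∀ l ∈ A5, l < btable.k ∧ ∀ q ∈ ([7, 4, 2, 1, 0] : List ℕ), btable.tau l q = q := by decide +kernel

end Cfsg.Agent.Lib.Helper28.TCG24BChk7
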