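import Cfsg.Agent.Lib.Helper28.TCG24BChk0
import Cfsg.Agent.Lib.Helper28.TCG24BChk1
import Cfsg.Agent.Lib.Helper28.TCG24BChk2
import Cfsg.Agent.Lib.Helper28.TCG24BChk3
import Cfsg.Agent.Lib.Helper28.TCG24BChk4
import Cfsg.Agent.Lib.Helper28.TCG24BChk5
import Cfsg.Agent.Lib.Helper28.TCG24BChk6
import Cfsg.Agent.Lib.Helper28.TCG24BChk7
import Cfsg.Agent.Lib.Helper28.TCG24BChk8

set_option autoImplicit false
set_option maxRecDepth 100000

namespace Cfsg.Agent.Lib.Helper28.TCG24BMain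
open Cfsg.Agent.Lib.Helper28.TC2Upper Cfsg.Agent.Lib.Helper28.TC2Lower Cfsg.Agent.Lib.Helper28.TC2Orbit Cfsg.Agent.Lib.Helper28.TC2Range Cfsg.Agent.Lib.Helper28.TC2Bsgs Cfsg.Agent.Lib.Helper28.TCG24BTable

theorem hpermAll : ∀ p, p < btable.n → Table.permRow btable p = true := by
  intro p hp
  have hp' : p < 416 := hp
  exact (Table.permRange_iff btable 0 416).mp Cfsg.Agent.Lib.Helper28.TCG24BChk0.prm0 p (by omega) (by omega)

theorem hTB : btable.OK := Table.ok_of_rows btable Cfsg.Agent.Lib.Helper28.TCG24BChk8.hinvOK hpermAll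

theorem hagree : ∀ p, p < Cfsg.Agent.Lib.Helper28.TCG24W0Table.table.n → ∀ l, l < Cfsg.Agent.Lib.Helper28.TCG24W0Table.table.k →
    btable.tau l p = Cfsg.Agent.Lib.Helper28.TCG24W0Table.table.tau l p := by
  intro p hp
  have hp' : p < 416 := hp
  exact (agreeRange_iff _ btable 6 0 416).mp Cfsg.Agent.Lib.Helper28.TCG24BChk0.agr0 p (by omega) (by omega)

theorem hdef6 : ∀ p, p < btable.n → btable.walkT (defs.look 6) p = btable.tau 6 p := by
  intro p hp
  have hp' : p < 416 := hp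
  exact (defRange_iff defs 6 0 416).mp Cfsg.Agent.Lib.Helper28.TCG24BChk0.def6_0 p (by omega) (by omega)

theorem hdef7 : ∀ p, p < btable.n → btable.walkT (defs.look 7) p = btable.tau 7 p := by
  intro p hp
  have hp' : p < 416 := hp
  exact (defRange_iff defs 7 0 416).mp Cfsg.Agent.Lib.Helper28.TCG24BChk0.def7_0 p (by omega) (by omega)

theorem hdef8 : ∀ p, p < btable.n → btable.walkT (defs.look 8) p = btable.tau 8 p := by
  intro p hp
  have hp' : p < 416 := hp
  exact (defRange_iff defs 8 0 416).mp Cfsg.Agent.Lib.Helper28.TCG24BChk0.def8_0 p (by omega) (by omega)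

theorem hdef9 : ∀ p, p < btable.n → btable.walkT (defs.look 9) p = btable.tau 9 p := by
  intro p hp
  have hp' : p < 416 := hp
  exact (defRange_iff defs 9 0 416).mp Cfsg.Agent.Lib.Helper28.TCG24BChk1.def9_0 p (by omega) (by omega)

theorem hdef10 : ∀ p, p < btable.n → btable.walkT (defs.look 10) p = btable.tau 10 p := by
  intro p hp
  have hp' : p < 416 := hp
  exact (defRange_iff defs 10 0 416).mp Cfsg.Agent.Lib.Helper28.TCG24BChk1.def10_0 p (by omega) (by omega)

theorem hdef11 : ∀ p, p < btable.n → btable.walkT (defs.look 11) p = btable.tau 11 p := by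
  intro p hp
  have hp' : p < 416 := hp
  exact (defRange_iff defs 11 0 416).mp Cfsg.Agent.Lib.Helper28.TCG24BChk1.def11_0 p (by omega) (by omega)

theorem hdef12 : ∀ p, p < btable.n → btable.walkT (defs.look 12) p = btable.tau 12 p := by
  intro p hp
  have hp' : p < 416 := hp
  exact (defRange_iff defs 12 0 416).mp Cfsg.Agent.Lib.Helper28.TCG24BChk1.def12_0 p (by omega) (by omega)

theorem hdef13 : ∀ p, p < btable.n → btable.walkT (defs.look 13) p = btable.tau 13 p := by
  intro p hp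
  have hp' : p < 416 := hp
  exact (defRange_iff defs 13 0 416).mp Cfsg.Agent.Lib.Helper28.TCG24BChk1.def13_0 p (by omega) (by omega)

theorem hdef14 : ∀ p, p < btable.n → btable.walkT (defs.look 14) p = btable.tau 14 p := by
  intro p hp
  have hp' : p < 416 := hp
  exact (defRange_iff defs 14 0 416).mp Cfsg.Agent.Lib.Helper28.TCG24BChk2.def14_0 p (by omega) (by omega)

theorem hdef15 : ∀ p, p < btable.n → btable.walkT (defs.look 15) p = btable.tau 15 p := by
  intro p hp
  have hp' : p < 416 := hp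
  exact (defRange_iff defs 15 0 416).mp Cfsg.Agent.Lib.Helper28.TCG24BChk2.def15_0 p (by omega) (by omega)

theorem hdef16 : ∀ p, p < btable.n → btable.walkT (defs.look 16) p = btable.tau 16 p := by
  intro p hp
  have hp' : p < 416 := hp
  exact (defRange_iff defs 16 0 416).mp Cfsg.Agent.Lib.Helper28.TCG24BChk2.def16_0 p (by omega) (by omega)

theorem hdef17 : ∀ p, p < btable.n → btable.walkT (defs.look 17) p = btable.tau 17 p := by
  intro p hp
  have hp' : p < 416 := hp
  exact (defRange_iff defs 17 0 416).mp Cfsg.Agent.Lib.Helper28.TCG24BChk2.def17_0 p (by omega) (by omega)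

theorem hdef18 : ∀ p, p < btable.n → btable.walkT (defs.look 18) p = btable.tau 18 p := by
  intro p hp
  have hp' : p < 416 := hp
  exact (defRange_iff defs 18 0 416).mp Cfsg.Agent.Lib.Helper28.TCG24BChk2.def18_0 p (by omega) (by omega)

theorem hdef19 : ∀ p, p < btable.n → btable.walkT (defs.look 19) p = btable.tau 19 p := by
  intro p hp
  have hp' : p < 416 := hp
  exact (defRange_iff defs 19 0 416).mp Cfsg.Agent.Lib.Helper28.TCG24BChk3.def19_0 p (by omega) (by omega)

theorem hdef : ∀ e, 6 ≤ e → e < btable.k → ∀ p, p < btable.n → btable.walkT (defs.look e) p = btable.tau e p := by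
  intro e h1 h2 p hp
  have h2' : e < 20 := h2
  interval_cases e
  · exact hdef6 p hp
  · exact hdef7 p hp
  · exact hdef8 p hp
  · exact hdef9 p hp
  · exact hdef10 p hp
  · exact hdef11 p hp
  · exact hdef12 p hp
  · exact hdef13 p hp
  · exact hdef14 p hp
  · exact hdef15 p hp
  · exact hdef16 p hp
  · exact hdef17 p hp
  · exact hdef18 p hp
  · exact hdef19 p hp

theorem hΓ : ∀ l, l < btable.k → Table.sigma hTB l ∈ baseGroup hTB 6 :=
  sigma_mem_baseGroup hTB 6 defs Cfsg.Agent.Lib.Helper28.TCG24BChk8.dlt hdef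

theorem hconn0 : ∀ p, p < btable.n → orb0.oid p = 1 →
    (orb0.depth p = 0 ∧ orb0.roots.look 1 = p) ∨
    (orb0.depth p ≠ 0 ∧ orb0.parent p < btable.n ∧ orb0.oid (orb0.parent p) = 1 ∧
      orb0.depth (orb0.parent p) + 1 = orb0.depth p ∧
      btable.walkT (orb0.gens.look (orb0.gen p)) (orb0.parent p) = p) := by
  intro p hp
  have hp' : p < 416 := hp
  exact (OrbData.connOKc_iff orb0 btable 1 0 416).mp Cfsg.Agent.Lib.Helper28.TCG24BChk3.conn0_0 p (by omega) (by omega)

theorem lev0 : 416 * Nat.card (pstab (baseGroup hTB 6) (toFin btable.n [0])) ≤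
    Nat.card (pstab (baseGroup hTB 6) (toFin btable.n [])) :=
  level_boundN hTB _ [] A0 orb0 1 0 416 rfl (by decide) Cfsg.Agent.Lib.Helper28.TCG24BChk3.cnt0 hΓ Cfsg.Agent.Lib.Helper28.TCG24BChk3.hA0
    (BT.All_of_all (fun _ h => of_decide_eq_true h) _ Cfsg.Agent.Lib.Helper28.TCG24BChk3.hgens0) hconn0

theorem hconn1 : ∀ p, p < btable.n → orb1.oid p = 1 →
    (orb1.depth p = 0 ∧ orb1.roots.look 1 = p) ∨
    (orb1.depth p ≠ 0 ∧ orb1.parent p < btable.n ∧ orb1.oid (orb1.parent p) = 1 ∧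
      orb1.depth (orb1.parent p) + 1 = orb1.depth p ∧
      btable.walkT (orb1.gens.look (orb1.gen p)) (orb1.parent p) = p) := by
  intro p hp
  have hp' : p < 416 := hp
  exact (OrbData.connOKc_iff orb1 btable 1 0 416).mp Cfsg.Agent.Lib.Helper28.TCG24BChk4.conn1_0 p (by omega) (by omega)

theorem lev1 : 315 * Nat.card (pstab (baseGroup hTB 6) (toFin btable.n [1, 0])) ≤
    Nat.card (pstab (baseGroup hTB 6) (toFin btable.n [0])) :=
  level_boundN hTB _ [0] A1 orb1 1 1 315 rfl (by decide) Cfsg.Agent.Lib.Helper28.TCG24BChk4.cnt1 hΓ Cfsg.Agent.Lib.Helper28.TCG24BChk4.hA1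
    (BT.All_of_all (fun _ h => of_decide_eq_true h) _ Cfsg.Agent.Lib.Helper28.TCG24BChk4.hgens1) hconn1

theorem hconn2 : ∀ p, p < btable.n → orb2.oid p = 1 →
    (orb2.depth p = 0 ∧ orb2.roots.look 1 = p) ∨
    (orb2.depth p ≠ 0 ∧ orb2.parent p < btable.n ∧ orb2.oid (orb2.parent p) = 1 ∧
      orb2.depth (orb2.parent p) + 1 = orb2.depth p ∧
      btable.walkT (orb2.gens.look (orb2.gen p)) (orb2.parent p) = p) := by
  intro p hp
  have hp' : p < 416 := hp
  exact (OrbData.connOKc_iff orb2 btable 1 0 416).mp Cfsg.Agent.Lib.Helper28.TCG24BChk4.conn2_0 p (by omega) (by omega)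

theorem lev2 : 32 * Nat.card (pstab (baseGroup hTB 6) (toFin btable.n [2, 1, 0])) ≤
    Nat.card (pstab (baseGroup hTB 6) (toFin btable.n [1, 0])) :=
  level_boundN hTB _ [1, 0] A2 orb2 1 2 32 rfl (by decide) Cfsg.Agent.Lib.Helper28.TCG24BChk5.cnt2 hΓ Cfsg.Agent.Lib.Helper28.TCG24BChk5.hA2
    (BT.All_of_all (fun _ h => of_decide_eq_true h) _ Cfsg.Agent.Lib.Helper28.TCG24BChk5.hgens2) hconn2

theorem hconn3 : ∀ p, p < btable.n → orb3.oid p = 1 →
    (orb3.depth p = 0 ∧ orb3.roots.look 1 = p) ∨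
    (orb3.depth p ≠ 0 ∧ orb3.parent p < btable.n ∧ orb3.oid (orb3.parent p) = 1 ∧
      orb3.depth (orb3.parent p) + 1 = orb3.depth p ∧
      btable.walkT (orb3.gens.look (orb3.gen p)) (orb3.parent p) = p) := by
  intro p hp
  have hp' : p < 416 := hp
  exact (OrbData.connOKc_iff orb3 btable 1 0 416).mp Cfsg.Agent.Lib.Helper28.TCG24BChk5.conn3_0 p (by omega) (by omega)

theorem lev3 : 5 * Nat.card (pstab (baseGroup hTB 6) (toFin btable.n [4, 2, 1, 0])) ≤
    Nat.card (pstab (baseGroup hTB 6) (toFin btable.n [2, 1, 0])) :=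
  level_boundN hTB _ [2, 1, 0] A3 orb3 1 4 5 rfl (by decide) Cfsg.Agent.Lib.Helper28.TCG24BChk5.cnt3 hΓ Cfsg.Agent.Lib.Helper28.TCG24BChk6.hA3
    (BT.All_of_all (fun _ h => of_decide_eq_true h) _ Cfsg.Agent.Lib.Helper28.TCG24BChk6.hgens3) hconn3

theorem hconn4 : ∀ p, p < btable.n → orb4.oid p = 1 →
    (orb4.depth p = 0 ∧ orb4.roots.look 1 = p) ∨
    (orb4.depth p ≠ 0 ∧ orb4.parent p < btable.n ∧ orb4.oid (orb4.parent p) = 1 ∧
      orb4.depth (orb4.parent p) + 1 = orb4.depth p ∧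
      btable.walkT (orb4.gens.look (orb4.gen p)) (orb4.parent p) = p) := by
  intro p hp
  have hp' : p < 416 := hp
  exact (OrbData.connOKc_iff orb4 btable 1 0 416).mp Cfsg.Agent.Lib.Helper28.TCG24BChk6.conn4_0 p (by omega) (by omega)

theorem lev4 : 4 * Nat.card (pstab (baseGroup hTB 6) (toFin btable.n [7, 4, 2, 1, 0])) ≤
    Nat.card (pstab (baseGroup hTB 6) (toFin btable.n [4, 2, 1, 0])) :=
  level_boundN hTB _ [4, 2, 1, 0] A4 orb4 1 7 4 rfl (by decide) Cfsg.Agent.Lib.Helper28.TCG24BChk6.cnt4 hΓ Cfsg.Agent.Lib.Helper28.TCG24BChk7.hA4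
    (BT.All_of_all (fun _ h => of_decide_eq_true h) _ Cfsg.Agent.Lib.Helper28.TCG24BChk6.hgens4) hconn4

theorem hconn5 : ∀ p, p < btable.n → orb5.oid p = 1 →
    (orb5.depth p = 0 ∧ orb5.roots.look 1 = p) ∨
    (orb5.depth p ≠ 0 ∧ orb5.parent p < btable.n ∧ orb5.oid (orb5.parent p) = 1 ∧
      orb5.depth (orb5.parent p) + 1 = orb5.depth p ∧
      btable.walkT (orb5.gens.look (orb5.gen p)) (orb5.parent p) = p) := by
  intro p hp
  have hp' : p < 416 := hp
  exact (OrbData.connOKc_iff orb5 btable 1 0 416).mp Cfsg.Agent.Lib.Helper28.TCG24BChk7.conn5_0 p (by omega) (by omega)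

theorem lev5 : 3 * Nat.card (pstab (baseGroup hTB 6) (toFin btable.n [13, 7, 4, 2, 1, 0])) ≤
    Nat.card (pstab (baseGroup hTB 6) (toFin btable.n [7, 4, 2, 1, 0])) :=
  level_boundN hTB _ [7, 4, 2, 1, 0] A5 orb5 1 13 3 rfl (by decide) Cfsg.Agent.Lib.Helper28.TCG24BChk7.cnt5 hΓ Cfsg.Agent.Lib.Helper28.TCG24BChk7.hA5
    (BT.All_of_all (fun _ h => of_decide_eq_true h) _ Cfsg.Agent.Lib.Helper28.TCG24BChk7.hgens5) hconn5

/-- the order of the group generated by the letters of the coset table -/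
theorem card_base : 251596800 ≤ Nat.card (baseGroup hTB 6) := by
  have h : 416 * (315 * (32 * (5 * (4 * (3 * 1))))) ≤ Nat.card (pstab (baseGroup hTB 6) (toFin btable.n [])) :=
    chain_stepN lev0 (chain_stepN lev1 (chain_stepN lev2 (chain_stepN lev3 (chain_stepN lev4 (chain_stepN lev5 (one_le_card _ _))))))
  have e : (251596800 : ℕ) = 416 * (315 * (32 * (5 * (4 * (3 * 1))))) := by norm_num
  rw [e]
  exact h

end Cfsg.Agent.Lib.Helper28.TCG24BMain
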