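import Cfsg.Agent.Lib.Helper28.TC2Simple
import Cfsg.Agent.Lib.Helper28.TCG24W0Main
set_option autoImplicit false
set_option maxRecDepth 100000
set_option maxHeartbeats 0

namespace Cfsg.Agent.Lib.Helper28.TCG24FinalChk
open Cfsg.Agent.Lib.Helper28.TC2Upper Cfsg.Agent.Lib.Helper28.TC2Lower Cfsg.Agent.Lib.Helper28.TC2Orbit Cfsg.Agent.Lib.Helper28.TC2Glue Cfsg.Agent.Lib.Helper28.TC2Simple Cfsg.Agent.Lib.Helper28.TCG24W0Table Cfsg.Agent.Lib.Helper28.TCG24W0Link

/-- the element of order 13 -/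
def tWord : List (Cfsg.Agent.Lib.Helper28.TCG24W0Def.Gen × Bool) := [(.c, true), (.e, true), (.d, true), (.a, true), (.f, true), (.c, true), (.b, true), (.d, true)]
/-- the path of its power -/
def tPath : List ℕ := [3, 1, 2, 5, 0, 3, 4, 2, 3, 1, 2, 5, 0, 3, 4, 2, 3, 1, 2, 5, 0, 3, 4, 2, 3, 1, 2, 5, 0, 3, 4, 2, 3, 1, 2, 5, 0, 3, 4, 2, 3, 1, 2, 5, 0, 3, 4, 2, 3, 1, 2, 5, 0, 3, 4, 2, 3, 1, 2, 5, 0, 3, 4, 2, 3, 1, 2, 5, 0, 3, 4, 2, 3, 1, 2, 5, 0, 3, 4, 2, 3, 1, 2, 5, 0, 3, 4, 2, 3, 1, 2, 5, 0, 3, 4, 2, 3, 1, 2, 5, 0, 3, 4, 2]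
theorem tPath_eq : pathOf lw (List.replicate 13 tWord).flatten = tPath := by decide +kernel
/-- a coset of the second class -/
def yWord : List (Cfsg.Agent.Lib.Helper28.TCG24W0Def.Gen × Bool) := [(.f, true), (.b, true), (.c, true), (.d, true), (.c, true), (.b, true), (.f, true)]
/-- an element of the subgroup -/
def hWord : List (Cfsg.Agent.Lib.Helper28.TCG24W0Def.Gen × Bool) := [(.a, true)]
theorem hg0 : orbData.oid (table.walkT (pathOf lw [(.f, true)]) 0) = 1 := by decide +kernel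
theorem hy : orbData.oid (table.walkT (pathOf lw yWord) 0) = 2 := by decide +kernel
theorem hz : orbData.oid (table.walkT (pathOf lw (yWord ++ hWord ++ yWord)) 0) = 1 := by decide +kernel
theorem h00 : orbData.oid 0 = 0 := by decide +kernel
theorem tp0 : table.relOK [tPath] 0 416 = true := by decide +kernel
theorem cl0 : clsOK orbData 3 0 416 = true := by decide +kernel

theorem htfix : ∀ p, p < table.n → table.walkT tPath p = p := by
  intro p hp
  have hp' : p < 416 := hp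
  exact (Table.relOK_iff [tPath] 0 416).mp tp0 p (by omega) (by omega) _ (List.mem_singleton.mpr rfl)

theorem hclsAll : ∀ p, p < table.n → orbData.oid p < 3 := by
  intro p hp
  have hp' : p < 416 := hp
  exact (clsOK_iff orbData 3 0 416).mp cl0 p (by omega) (by omega)

end Cfsg.Agent.Lib.Helper28.TCG24FinalChk
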