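import Cfsg.Agent.S1059
import Cfsg.Agent.Lib.Helper28.TCG24Simple
import Cfsg.Agent.Lib.Helper28.G2Data
import Cfsg.Agent.Lib.Helper28.TC2Subst

set_option autoImplicit false
set_option maxRecDepth 100000
open Cfsg

/-!
# The presented group on a, …, f is the Chevalley group `G₂(F)` for every field `F` with four elements

The isomorphism with `G₂` over the model `F4` is the one of `S1679`; the transport along an isomorphism of
fields follows helper19's `B2Iso` (`xMat_map2`, `glE`, `group_map_glE`).
-/

namespace Cfsg.Agent.Lib.Helper28.G24Iso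
open Cfsg.Agent.Lib.Helper28.TC2Tower Cfsg.Agent.Lib.Helper28.TC2Glue Cfsg.Agent.Lib.Helper28.TC2Subst
open Cfsg.Agent.Lib.Helper28.U6F4 Cfsg.Agent.Lib.Helper28.G2F4 Cfsg.Agent.Lib.Helper28.G2Rep Cfsg.Agent.Lib.Helper28.G2Data
open Cfsg.Lie

/-- the generators of the presented `G₂(4)` -/
abbrev GenP : Type := Cfsg.Agent.Lib.Helper28.TCG24W0Def.Gen
/-- the group presented by the relators on a, …, f -/
abbrev P : Type := PresentedGroup Cfsg.Agent.Lib.Helper28.TCG24W0Link.rels

/-- the images of the generators in `G₂(4)` -/
noncomputable def fgen (x : GenP) : ↥G24 := Classical.choose (rep_gcode x)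

theorem mat_fgen (x : GenP) : mat (fgen x) = dec14 (gcode x) := Classical.choose_spec (rep_gcode x)

theorem fgen_sq (x : GenP) : fgen x * fgen x = 1 := by
  apply mat_injective
  rw [mat_mul, mat_fgen, ← dec14_mul, sq_gcode, dec14_one, mat_one]

theorem mat_list_prod (l : List ↥G24) : mat l.prod = (l.map mat).prod := by
  induction l with
  | nil => rfl
  | cons g l ih => rw [List.prod_cons, mat_mul, ih, List.map_cons, List.prod_cons]

/-- the value of a lift on a word, for generators sent to involutions -/
theorem lift_mk_invol {K : Type*} [Group K] (f : GenP → K) (hf : ∀ x, f x * f x = 1) (L : List (GenP × Bool)) :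
    FreeGroup.lift f (FreeGroup.mk L) = (L.map fun t => f t.1).prod := by
  induction L with
  | nil => rfl
  | cons t L ih =>
    have e : FreeGroup.mk (t :: L) = FreeGroup.mk [t] * FreeGroup.mk L := by
      rw [FreeGroup.mul_mk]; rfl
    rw [e, map_mul, ih, List.map_cons, List.prod_cons]
    congr 1
    obtain ⟨x, b⟩ := t
    cases b with
    | true => exact FreeGroup.lift_apply_of
    | false =>
      have e1 : FreeGroup.mk [(x, false)] = (FreeGroup.of x)⁻¹ := by
        show _ = (FreeGroup.mk [(x, true)])⁻¹
        rw [FreeGroup.inv_mk]; rfl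
      rw [e1, map_inv, FreeGroup.lift_apply_of]
      exact inv_eq_of_mul_eq_one_right (hf x)

theorem lift_rel (L : List (GenP × Bool)) (hL : L ∈ Cfsg.Agent.Lib.Helper28.TCG24W0Link.relWords) :
    FreeGroup.lift fgen (FreeGroup.mk L) = 1 := by
  rw [lift_mk_invol fgen fgen_sq]
  apply mat_injective
  rw [mat_list_prod, mat_one, List.map_map]
  obtain ⟨c, hc, rfl⟩ := relCert_all L hL
  obtain ⟨h1, h2⟩ := relCert_ok c hc
  have h3 := chkChain_sound _ _ _ h1
  rw [h2, dec14_one, one_mul, List.map_map] at h3
  rw [← h3]
  congr 1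
  apply List.map_congr_left
  intro t _
  exact mat_fgen t.1

/-- the presented group is `G₂` over the model of the field with four elements -/
theorem exists_iso_G24 : Nonempty (P ≃* ↥G24) := by
  obtain ⟨hsimpP, hcardP⟩ := Cfsg.Agent.Lib.Helper28.TCG24Simple.main
  have : IsSimpleGroup P := hsimpP
  have : Finite P := Nat.finite_of_card_ne_zero (by rw [hcardP]; norm_num)
  obtain ⟨π, hπ⟩ := exists_hom_of_words Cfsg.Agent.Lib.Helper28.TCG24W0Link.rels fgen Cfsg.Agent.Lib.Helper28.TCG24W0Link.relWords
    (fun r hr => (Cfsg.Agent.Lib.Helper28.TCG24W0Link.link.hrels r).mp hr) lift_rel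
  have hinjπ : Function.Injective π := by
    rw [← MonoidHom.ker_eq_bot_iff]
    rcases (inferInstance : π.ker.Normal).eq_bot_or_eq_top with h | h
    · exact h
    · exfalso
      have ha : (PresentedGroup.of .a : P) ∈ π.ker := by rw [h]; exact Subgroup.mem_top _
      rw [MonoidHom.mem_ker, hπ] at ha
      apply gA_ne
      have := mat_fgen .a
      rw [ha, mat_one] at this
      exact this.symm
  have hcardG : Nat.card ↥G24 = 251596800 := by
    have h : Nat.card ↥G24 = 4 ^ 6 * (4 ^ 2 - 1) * (4 ^ 6 - 1) :=
      Cfsg.Agent.S1059.result (F := F4) (q := 4) card_F4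
    rw [h]
    norm_num
  have hbijπ : Function.Bijective π := by
    have : Finite ↥G24 := Nat.finite_of_card_ne_zero (by rw [hcardG]; norm_num)
    rw [Nat.bijective_iff_injective_and_card]
    exact ⟨hinjπ, hcardP.trans hcardG.symm⟩
  exact ⟨MulEquiv.ofBijective π hbijπ⟩

/-! ### change of the field (after helper19's `B2Iso`) -/

theorem xMat_map2 (D : ChevalleyDatum) {F K : Type*} [Field F] [Field K] (f : F →+* K)
    (r : Fin D.nroots) (t : F) : (D.xMat F r t).map f = D.xMat K r (f t) := by
  ext row col
  unfold ChevalleyDatum.xMat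
  simp only [Matrix.map_apply, Matrix.of_apply]
  rcases col with i | s
  · rcases row with i' | u
    · simp only; split_ifs <;> simp
    · simp only; split_ifs <;> simp
  · by_cases hsr : s = r
    · rcases row with i' | u
      · simp [hsr]
      · simp only [hsr, if_true]; split_ifs <;> simp
    · by_cases hneg : s.val = D.negIdx.getD r.val 0
      · rcases row with i' | u
        · simp [hsr, hneg]
        · simp only [hsr, if_false, hneg, if_true]; split_ifs <;> simp
      · rcases row with i' | u
        · simp only [hsr, if_false, hneg]; simp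
        · simp only [hsr, if_false, hneg]
          rw [map_add, map_list_sum, List.map_map]
          congr 1
          · split_ifs <;> simp
          · congr 1
            apply List.map_congr_left
            intro km _
            simp

/-- the entrywise action of a field isomorphism on `GL`. -/
noncomputable def glE (n : Type*) [Fintype n] [DecidableEq n] {F K : Type*} [Field F] [Field K]
    (f : F ≃+* K) : GL n F ≃* GL n K :=
  Units.mapEquiv (RingEquiv.mapMatrix f).toMulEquiv

theorem glE_val (n : Type*) [Fintype n] [DecidableEq n] {F K : Type*} [Field F] [Field K]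
    (f : F ≃+* K) (g : GL n F) : ((glE n f g : GL n K) : Matrix n n K) = (g : Matrix n n F).map f :=
  rfl

theorem glE_symm_val (n : Type*) [Fintype n] [DecidableEq n] {F K : Type*} [Field F] [Field K]
    (f : F ≃+* K) (g : GL n K) :
    (((glE n f).symm g : GL n F) : Matrix n n F) = (g : Matrix n n K).map f.symm := rfl

theorem group_map_glE (D : ChevalleyDatum) {F K : Type*} [Field F] [Field K] (f : F ≃+* K) :
    (D.group F).map (glE D.Idx f).toMonoidHom = D.group K := by
  unfold ChevalleyDatum.group
  rw [MonoidHom.map_closure]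
  congr 1
  ext g
  simp only [Set.mem_image, Set.mem_ofPred_eq]
  constructor
  · rintro ⟨g', ⟨r, t, hg'⟩, rfl⟩
    refine ⟨r, f t, ?_⟩
    show ((glE D.Idx f g' : GL D.Idx K) : Matrix D.Idx D.Idx K) = _
    rw [glE_val, hg']
    exact xMat_map2 D (f : F →+* K) r t
  · rintro ⟨r, t, hg⟩
    refine ⟨(glE D.Idx f).symm g, ⟨r, f.symm t, ?_⟩, ?_⟩
    · rw [glE_symm_val, hg]
      exact xMat_map2 D (f.symm : K →+* F) r t
    · show glE D.Idx f ((glE D.Idx f).symm g) = g
      simp

/-- the presented group is `G₂(F)` for every field `F` with four elements -/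
theorem exists_iso_chev {F : Type*} [Field F] [Fintype F] (hF : Fintype.card F = 4) :
    Nonempty (P ≃* ↥(chevG2.group F)) := by
  obtain ⟨e0⟩ := exists_iso_G24
  let e : F4 ≃+* F := FiniteField.ringEquivOfCardEq (card_F4.trans hF.symm)
  have h := group_map_glE chevG2 e
  exact ⟨e0.trans (((glE chevG2.Idx e).subgroupMap (chevG2.group F4)).trans (MulEquiv.subgroupCongr h))⟩

end Cfsg.Agent.Lib.Helper28.G24Iso
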