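import Mathlib
set_option autoImplicit false

/-!
# Maximality of a two-point stabiliser from the sizes of its orbits

Let `H` be a subgroup of a group acting on `Fin n`, `q` a point, `K` the stabiliser of `q` in `H`.
If the `H`-orbit of `q` is the union of classes on each of which `K` is transitive, and no proper
union of classes containing `q` has a size dividing the size of the orbit, then `K` is covered by `H`.
-/

namespace Cfsg.Agent.Lib.Helper28.TC2Prim

variable {G : Type*} [Group G] {n : ℕ} [MulAction G (Fin n)]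

/-- the orbit of a point under a subgroup, as a set -/
def orb (L : Subgroup G) (q : Fin n) : Set (Fin n) := {p | ∃ l ∈ L, l • q = p}

theorem orb_eq (L : Subgroup G) (q : Fin n) : orb L q = MulAction.orbit ↥L q := by
  ext p
  constructor
  · rintro ⟨l, hl, rfl⟩
    exact ⟨⟨l, hl⟩, rfl⟩
  · rintro ⟨⟨l, hl⟩, rfl⟩
    exact ⟨l, hl, rfl⟩

/-- orbit–stabiliser for a subgroup between the two-point stabiliser and `H` -/
theorem ncard_orb (H L : Subgroup G) (q : Fin n) (hLH : L ≤ H) : (orb L q).ncard = (H ⊓ MulAction.stabilizer G q).relIndex L := by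
  rw [orb_eq, ← MulAction.index_stabilizer, Subgroup.relIndex]
  congr 1
  ext ⟨l, hl⟩
  rw [MulAction.mem_stabilizer_iff, Subgroup.mem_subgroupOf, Subgroup.mem_inf,
    MulAction.mem_stabilizer_iff]
  constructor
  · intro h
    exact ⟨hLH hl, h⟩
  · intro h
    exact h.2

/-- the size of a union of classes -/
theorem ncard_of_classes (cls : Fin n → ℕ) (m : ℕ) (cnt : ℕ → ℕ)
    (hcnt : ∀ j < m, {p : Fin n | cls p = j}.ncard = cnt j) (B : Set (Fin n))
    (hB1 : ∀ p ∈ B, cls p < m) (hB2 : ∀ p ∈ B, ∀ p', cls p' = cls p → p' ∈ B) :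
    ∃ J ∈ (Finset.range m).powerset, (∀ j, j ∈ J ↔ ∃ p ∈ B, cls p = j) ∧
      B.ncard = ∑ j ∈ J, cnt j := by
  classical
  refine ⟨(Finset.range m).filter (fun j => ∃ p ∈ B, cls p = j), ?_, ?_, ?_⟩
  · rw [Finset.mem_powerset]
    exact Finset.filter_subset _ _
  · intro j
    rw [Finset.mem_filter, Finset.mem_range]
    constructor
    · exact fun h => h.2
    · rintro ⟨p, hp, rfl⟩
      exact ⟨hB1 p hp, p, hp, rfl⟩
  · have hBf : B.ncard = (Finset.univ.filter (fun p => p ∈ B)).card := by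
      rw [← Set.ncard_coe_finset]
      congr 1
      ext p; simp
    rw [hBf]
    rw [Finset.card_eq_sum_card_fiberwise (f := cls)
      (t := (Finset.range m).filter (fun j => ∃ p ∈ B, cls p = j))]
    · apply Finset.sum_congr rfl
      intro j hj
      rw [Finset.mem_filter, Finset.mem_range] at hj
      obtain ⟨hjm, p0, hp0, hp0j⟩ := hj
      rw [← hcnt j hjm]
      have : {p : Fin n | cls p = j} =
          ↑((Finset.univ.filter (fun p => p ∈ B)).filter (fun p => cls p = j)) := by
        ext p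
        simp only [Set.mem_ofPred_eq, Finset.coe_filter, Finset.mem_filter, Finset.mem_univ, true_and]
        constructor
        · intro h
          exact ⟨hB2 p0 hp0 p (h.trans hp0j.symm), h⟩
        · exact fun h => h.2
      rw [this, Set.ncard_coe_finset]
    · intro p hp
      rw [Finset.mem_coe, Finset.mem_filter] at hp
      rw [Finset.mem_coe, Finset.mem_filter, Finset.mem_range]
      exact ⟨hB1 p hp.2, p, hp.2, rfl⟩

/-- the two-point stabiliser is covered by the one-point stabiliser -/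
theorem covBy_of_classes (H : Subgroup G) (q : Fin n) (cls : Fin n → ℕ) (m : ℕ) (cnt : ℕ → ℕ)
    (hK : ∀ p p', cls p = cls p' → ∃ k ∈ H ⊓ MulAction.stabilizer G q, k • p = p')
    (hΩ : ∀ p, (∃ h ∈ H, h • q = p) ↔ cls p < m)
    (hcnt : ∀ j < m, {p : Fin n | cls p = j}.ncard = cnt j)
    (hq : cls q = 0) (h0 : cnt 0 = 1) (hN : ∑ j ∈ Finset.range m, cnt j ≠ 1)
    (harith : ∀ J ∈ (Finset.range m).powerset, 0 ∈ J →
      (∑ j ∈ J, cnt j) ∣ (∑ j ∈ Finset.range m, cnt j) → J = {0} ∨ J = Finset.range m) :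
    (H ⊓ MulAction.stabilizer G q) ⋖ H := by
  classical
  set K := H ⊓ MulAction.stabilizer G q with hKdef
  have hKH : K ≤ H := inf_le_left
  have hm : 0 < m := by
    have := (hΩ q).mp ⟨1, H.one_mem, one_smul _ _⟩
    omega
  -- orbits of intermediate subgroups are unions of classes
  have hunion : ∀ L : Subgroup G, K ≤ L → L ≤ H →
      ∃ J ∈ (Finset.range m).powerset, 0 ∈ J ∧ K.relIndex L = ∑ j ∈ J, cnt j := by
    intro L hKL hLH
    have hB1 : ∀ p ∈ orb L q, cls p < m := by
      rintro p ⟨l, hl, rfl⟩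
      exact (hΩ _).mp ⟨l, hLH hl, rfl⟩
    have hB2 : ∀ p ∈ orb L q, ∀ p', cls p' = cls p → p' ∈ orb L q := by
      rintro p ⟨l, hl, rfl⟩ p' hp'
      obtain ⟨k, hk, rfl⟩ := hK _ _ hp'.symm
      exact ⟨k * l, L.mul_mem (hKL hk) hl, mul_smul _ _ _⟩
    obtain ⟨J, hJ, hJmem, hJcard⟩ := ncard_of_classes cls m cnt hcnt (orb L q) hB1 hB2
    refine ⟨J, hJ, ?_, ?_⟩
    · rw [hJmem]
      exact ⟨q, ⟨1, L.one_mem, one_smul _ _⟩, hq⟩
    · rw [← hJcard]
      exact (ncard_orb H L q hLH).symm
  -- the whole orbit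
  have hfull : K.relIndex H = ∑ j ∈ Finset.range m, cnt j := by
    rw [← ncard_orb H H q le_rfl]
    have hB1 : ∀ p ∈ orb H q, cls p < m := fun p hp => (hΩ p).mp hp
    have hB2 : ∀ p ∈ orb H q, ∀ p', cls p' = cls p → p' ∈ orb H q := by
      intro p hp p' hp'
      have : cls p' < m := by rw [hp']; exact hB1 p hp
      exact (hΩ p').mpr this
    obtain ⟨J, hJ, hJmem, hJcard⟩ := ncard_of_classes cls m cnt hcnt (orb H q) hB1 hB2
    rw [hJcard]
    rw [Finset.mem_powerset] at hJ
    apply Finset.sum_subset hJ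
    intro j hj hjJ
    rw [Finset.mem_range] at hj
    rw [← hcnt j hj]
    rw [Set.ncard_eq_zero, Set.eq_empty_iff_forall_notMem]
    intro p hp
    apply hjJ
    rw [hJmem]
    have hp' : cls p = j := hp
    exact ⟨p, (hΩ p).mpr (by rw [hp']; exact hj), hp'⟩
  have hNpos : 0 < ∑ j ∈ Finset.range m, cnt j := by
    have : cnt 0 ≤ ∑ j ∈ Finset.range m, cnt j :=
      Finset.single_le_sum (f := cnt) (fun _ _ => Nat.zero_le _) (Finset.mem_range.mpr hm)
    omega
  refine ⟨lt_of_le_of_ne hKH ?_, ?_⟩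
  · intro e
    have h1 : K.relIndex H = 1 := by rw [Subgroup.relIndex_eq_one, ← e]
    rw [hfull] at h1
    exact hN h1
  · intro L hKL hLH
    obtain ⟨J, hJ, hJ0, hJcard⟩ := hunion L hKL.le hLH.le
    have hmul := Subgroup.relIndex_mul_relIndex K L H hKL.le hLH.le
    rw [hfull, hJcard] at hmul
    rcases harith J hJ hJ0 ⟨_, hmul.symm⟩ with hJe | hJe
    · rw [hJe, Finset.sum_singleton, h0] at hJcard
      rw [Subgroup.relIndex_eq_one] at hJcard
      exact absurd hJcard (not_le_of_gt hKL)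
    · rw [hJe] at hmul
      have h1 : L.relIndex H = 1 := by
        have : (∑ j ∈ Finset.range m, cnt j) * L.relIndex H = (∑ j ∈ Finset.range m, cnt j) * 1 := by
          rw [hmul, mul_one]
        exact Nat.eq_of_mul_eq_mul_left hNpos this
      rw [Subgroup.relIndex_eq_one] at h1
      exact absurd h1 (not_le_of_gt hLH)

/-- conjugation by an element of `H` -/
theorem covBy_conj (H : Subgroup G) (q : Fin n) (h : G) (hh : h ∈ H)
    (hc : (H ⊓ MulAction.stabilizer G q) ⋖ H) :
    (H ⊓ MulAction.stabilizer G (h • q)) ⋖ H := by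
  have e1 : H.map (MulAut.conj h).toMonoidHom = H := by
    ext x
    rw [Subgroup.mem_map_equiv]
    constructor
    · intro hx
      have hx' : h⁻¹ * x * h ∈ H := by simpa [MulAut.conj_symm_apply] using hx
      have : x = h * (h⁻¹ * x * h) * h⁻¹ := by group
      rw [this]
      exact H.mul_mem (H.mul_mem hh hx') (H.inv_mem hh)
    · intro hx
      have : (MulAut.conj h).symm x = h⁻¹ * x * h := by simp [MulAut.conj_symm_apply]
      rw [this]
      exact H.mul_mem (H.mul_mem (H.inv_mem hh) hx) hh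
  have hsymm : ∀ x, (MulAut.conj h).symm x = h⁻¹ * x * h := by
    intro x; simp [MulAut.conj_symm_apply]
  have e1' : ∀ x, (MulAut.conj h).symm x ∈ H ↔ x ∈ H := by
    intro x
    rw [← Subgroup.mem_map_equiv, e1]
  have e2 : (H ⊓ MulAction.stabilizer G q).map (MulAut.conj h).toMonoidHom =
      H ⊓ MulAction.stabilizer G (h • q) := by
    ext x
    rw [Subgroup.mem_map_equiv, Subgroup.mem_inf, Subgroup.mem_inf, e1' x]
    apply and_congr Iff.rfl
    rw [hsymm, MulAction.mem_stabilizer_iff, MulAction.mem_stabilizer_iff, mul_smul, mul_smul,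
      inv_smul_eq_iff]
  have hc' := (apply_covBy_apply_iff (MulEquiv.mapSubgroup (MulAut.conj h))).mpr hc
  rw [MulEquiv.mapSubgroup_apply, MulEquiv.mapSubgroup_apply] at hc'
  have e1'' : Subgroup.map (↑(MulAut.conj h) : G →* G) H = H := e1
  have e2'' : Subgroup.map (↑(MulAut.conj h) : G →* G) (H ⊓ MulAction.stabilizer G q) =
      H ⊓ MulAction.stabilizer G (h • q) := e2
  rwa [e1'', e2''] at hc'

section Hom
variable {G : Type*} [Group G] {n : ℕ}

/-- the stabiliser of a point under a permutation representation -/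
def stab (φ : G →* Equiv.Perm (Fin n)) (q : Fin n) : Subgroup G :=
  (MulAction.stabilizer (Equiv.Perm (Fin n)) q).comap φ

theorem mem_stab (φ : G →* Equiv.Perm (Fin n)) (q : Fin n) (g : G) : g ∈ stab φ q ↔ φ g q = q := by
  unfold stab
  rw [Subgroup.mem_comap, MulAction.mem_stabilizer_iff]
  rfl

theorem stab_eq (φ : G →* Equiv.Perm (Fin n)) (q : Fin n) :
    stab φ q = @MulAction.stabilizer G (Fin n) _ (MulAction.compHom (Fin n) φ) q := by
  letI := MulAction.compHom (Fin n) φ
  ext g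
  rw [mem_stab, MulAction.mem_stabilizer_iff]
  rfl

/-- the two-point stabiliser is covered by the one-point stabiliser (version for a homomorphism) -/
theorem covBy_of_classes' (φ : G →* Equiv.Perm (Fin n)) (H : Subgroup G) (q : Fin n)
    (cls : Fin n → ℕ) (m : ℕ) (cnt : ℕ → ℕ)
    (hK : ∀ p p', cls p = cls p' → ∃ k ∈ H ⊓ stab φ q, φ k p = p')
    (hΩ : ∀ p, (∃ h ∈ H, φ h q = p) ↔ cls p < m)
    (hcnt : ∀ j < m, {p : Fin n | cls p = j}.ncard = cnt j)
    (hq : cls q = 0) (h0 : cnt 0 = 1) (hN : ∑ j ∈ Finset.range m, cnt j ≠ 1)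
    (harith : ∀ J ∈ (Finset.range m).powerset, 0 ∈ J →
      (∑ j ∈ J, cnt j) ∣ (∑ j ∈ Finset.range m, cnt j) → J = {0} ∨ J = Finset.range m) :
    (H ⊓ stab φ q) ⋖ H := by
  letI := MulAction.compHom (Fin n) φ
  rw [stab_eq]
  apply covBy_of_classes H q cls m cnt ?_ hΩ hcnt hq h0 hN harith
  intro p p' hpp
  obtain ⟨k, hk, e⟩ := hK p p' hpp
  rw [stab_eq] at hk
  exact ⟨k, hk, e⟩

theorem covBy_conj' (φ : G →* Equiv.Perm (Fin n)) (H : Subgroup G) (q : Fin n) (h : G) (hh : h ∈ H)
    (hc : (H ⊓ stab φ q) ⋖ H) : (H ⊓ stab φ (φ h q)) ⋖ H := by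
  letI := MulAction.compHom (Fin n) φ
  rw [stab_eq] at hc ⊢
  exact covBy_conj H q h hh hc

/-- the conjugate of a stabiliser -/
theorem map_conj_stab (φ : G →* Equiv.Perm (Fin n)) (q : Fin n) (y : G) :
    (stab φ q).map (MulAut.conj y).toMonoidHom = stab φ (φ y q) := by
  ext x
  rw [Subgroup.mem_map_equiv, mem_stab, mem_stab]
  have : (MulAut.conj y).symm x = y⁻¹ * x * y := by simp [MulAut.conj_symm_apply]
  rw [this, map_mul, map_mul, Equiv.Perm.mul_apply, Equiv.Perm.mul_apply, map_inv,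
    Equiv.Perm.inv_eq_iff_eq]

end Hom

end Cfsg.Agent.Lib.Helper28.TC2Prim
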