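import Cfsg.Agent.Lib.Helper28.TC2Simple
import Cfsg.Agent.Lib.Helper28.TC2Prim
set_option autoImplicit false

/-!
# Verified coset enumeration: maximality of two-point stabilisers
-/

namespace Cfsg.Agent.Lib.Helper28.TC2PrimGlue
open Cfsg.Agent.Lib.Helper28.TC2Upper Cfsg.Agent.Lib.Helper28.TC2Lower Cfsg.Agent.Lib.Helper28.TC2Glue
open Cfsg.Agent.Lib.Helper28.TC2Orbit Cfsg.Agent.Lib.Helper28.TC2GlueOrb Cfsg.Agent.Lib.Helper28.TC2Simple
open Cfsg.Agent.Lib.Helper28.TC2Prim

section Abstract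
variable {G : Type*} [Group G]

/-- the subgroup is the stabiliser of the point of its own coset -/
theorem sub_eq_stab (H : Subgroup G) {n : ℕ} (φ : G →* Equiv.Perm (Fin n))
    (f : G ⧸ H → Fin n) (hf : Function.Injective f) (hequiv : ∀ g q, f (g • q) = φ g (f q)) :
    H = stab φ (f (QuotientGroup.mk 1)) := by
  ext g
  rw [mem_stab, ← hequiv]
  constructor
  · intro hg
    congr 1
    show (QuotientGroup.mk (g * 1) : G ⧸ H) = QuotientGroup.mk 1
    rw [mul_one, QuotientGroup.eq]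
    simpa using H.inv_mem hg
  · intro hg
    have e := hf hg
    have e' : (QuotientGroup.mk (g * 1) : G ⧸ H) = QuotientGroup.mk 1 := e
    rw [mul_one, QuotientGroup.eq] at e'
    simpa using H.inv_mem e'

end Abstract

variable {α : Type} {rels S : Set (FreeGroup α)} {relWords subWords : List (List (α × Bool))}
  {lw : α × Bool → ℕ} {dec : ℕ → α × Bool} {D : Data} {T : Table}

theorem permGroup_le_range (hL : Link rels S relWords subWords lw dec D T) (hT : T.OK)
    (φ : PresentedGroup rels →* Equiv.Perm (Fin T.n))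
    (hφ : ∀ x, φ (PresentedGroup.of x) = Table.sigma hT (lw (x, true)))
    (subs : List (List ℕ)) (hlt : ∀ s ∈ subs, ∀ l ∈ s, l < T.k) :
    permGroup hT subs ≤ φ.range := by
  unfold permGroup
  rw [Subgroup.closure_le]
  rintro _ ⟨s, hs, rfl⟩
  have hs' := hlt s hs
  clear hs
  induction s with
  | nil => exact Subgroup.one_mem _
  | cons l ls ih =>
    show pathProd (Table.sigma hT) ls * Table.sigma hT l ∈ φ.range
    exact Subgroup.mul_mem _ (ih (fun x hx => hs' x (List.mem_cons_of_mem _ hx)))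
      (sigma_mem_range hL hT φ hφ l (hs' l List.mem_cons_self))

theorem permGroup_fix (hT : T.OK) (subs : List (List ℕ)) (hlt : ∀ s ∈ subs, ∀ l ∈ s, l < T.k)
    (q : Fin T.n) (hfix : ∀ s ∈ subs, T.walkT s q.val = q.val) :
    ∀ π ∈ permGroup hT subs, π q = q := by
  intro π hπ
  unfold permGroup at hπ
  induction hπ using Subgroup.closure_induction with
  | mem x hx =>
    obtain ⟨s, hs, rfl⟩ := hx
    apply Fin.ext
    rw [Table.pathProd_sigma_apply hT s (hlt s hs)]
    exact hfix s hs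
  | one => rfl
  | mul x y _ _ hx hy => rw [Equiv.Perm.mul_apply, hy, hx]
  | inv x _ hx => rw [Equiv.Perm.inv_eq_iff_eq]; exact hx.symm

/-- the stabiliser of a second point is covered by the subgroup, from the orbits of (a subgroup of)
the two-point stabiliser -/
theorem covBy_base (hL : Link rels S relWords subWords lw dec D T) (hT : T.OK) (hn : 0 < T.n)
    (φ : PresentedGroup rels →* Equiv.Perm (Fin T.n))
    (hφ : ∀ x, φ (PresentedGroup.of x) = Table.sigma hT (lw (x, true)))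
    (f : PresentedGroup rels ⧸ (Subgroup.closure S).map (PresentedGroup.mk rels) → Fin T.n)
    (hf : Function.Injective f) (hequiv : ∀ g q, f (g • q) = φ g (f q))
    (h0 : f (QuotientGroup.mk 1) = ⟨0, hn⟩)
    (O : OrbData) (subPaths : List (List ℕ)) (h1 : ∀ L ∈ subWords, pathOf lw L ∈ subPaths)
    (h2 : ∀ s ∈ subPaths, ∃ L ∈ subWords, s = pathOf lw L)
    (hclosed : ∀ p, p < T.n → ∀ s ∈ subPaths, O.oid (T.walkT s p) = O.oid p)
    (hgens : BT.All (fun s => s ∈ subPaths) O.gens)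
    (hconn : ∀ p, p < T.n →
      (O.depth p = 0 ∧ O.roots.look (O.oid p) = p) ∨
      (O.depth p ≠ 0 ∧ O.parent p < T.n ∧ O.oid (O.parent p) = O.oid p ∧
        O.depth (O.parent p) + 1 = O.depth p ∧ T.walkT (O.gens.look (O.gen p)) (O.parent p) = p))
    (OK : OrbData) (subsK : List (List ℕ)) (hltK : ∀ s ∈ subsK, ∀ l ∈ s, l < T.k)
    (hclosedK : ∀ p, p < T.n → ∀ s ∈ subsK, OK.oid (T.walkT s p) = OK.oid p)
    (hgensK : BT.All (fun s => s ∈ subsK) OK.gens)
    (hconnK : ∀ p, p < T.n →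
      (OK.depth p = 0 ∧ OK.roots.look (OK.oid p) = p) ∨
      (OK.depth p ≠ 0 ∧ OK.parent p < T.n ∧ OK.oid (OK.parent p) = OK.oid p ∧
        OK.depth (OK.parent p) + 1 = OK.depth p ∧ T.walkT (OK.gens.look (OK.gen p)) (OK.parent p) = p))
    (q : ℕ) (hq : q < T.n)
    (hfix0 : ∀ s ∈ subsK, T.walkT s 0 = 0) (hfixq : ∀ s ∈ subsK, T.walkT s q = q)
    (c m : ℕ) (hcompat : ∀ p, p < T.n → (O.oid p = c ↔ OK.oid p < m))
    (hoq : O.oid q = c) (hKq : OK.oid q = 0)
    (cnt : ℕ → ℕ) (hcnt : ∀ j, j < m → OK.count T.n j = cnt j) (hc0 : cnt 0 = 1)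
    (hN : ∑ j ∈ Finset.range m, cnt j ≠ 1)
    (harith : ∀ J ∈ (Finset.range m).powerset, 0 ∈ J →
      (∑ j ∈ J, cnt j) ∣ (∑ j ∈ Finset.range m, cnt j) → J = {0} ∨ J = Finset.range m) :
    ((Subgroup.closure S).map (PresentedGroup.mk rels) ⊓ stab φ ⟨q, hq⟩) ⋖
      (Subgroup.closure S).map (PresentedGroup.mk rels) := by
  have hHs := sub_eq_stab _ φ f hf hequiv
  rw [h0] at hHs
  have hlt : ∀ s ∈ subPaths, ∀ l ∈ s, l < T.k := by
    intro s hs l hl
    obtain ⟨L, _, rfl⟩ := h2 s hs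
    exact lt_of_mem_pathOf hL L l hl
  apply covBy_of_classes' φ _ ⟨q, hq⟩ (fun p => OK.oid p.val) m cnt
  · intro p p' hpp
    have hp' : p' ∈ {x : Fin T.n | OK.oid x.val = OK.oid p.val} := hpp.symm
    rw [← orbit_eq hT hltK hclosedK hgensK hconnK p] at hp'
    obtain ⟨π, hπ, e⟩ := hp'
    obtain ⟨k, rfl⟩ := permGroup_le_range hL hT φ hφ subsK hltK hπ
    refine ⟨k, ?_, e.symm⟩
    rw [Subgroup.mem_inf]
    constructor
    · rw [hHs, mem_stab]
      exact permGroup_fix hT subsK hltK ⟨0, hn⟩ hfix0 _ hπ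
    · rw [mem_stab]
      exact permGroup_fix hT subsK hltK ⟨q, hq⟩ hfixq _ hπ
  · intro p
    rw [← hcompat p.val p.2]
    constructor
    · rintro ⟨h, hh, rfl⟩
      have hπ : φ h ∈ permGroup hT subPaths := by
        rw [← map_eq_permGroup hL hT φ hφ subPaths h1 h2]
        exact Subgroup.mem_map_of_mem _ hh
      rw [oid_perm hT hlt hclosed (φ h) hπ ⟨q, hq⟩]
      exact hoq
    · intro hp
      obtain ⟨π, hπ, e⟩ := exists_perm_of_oid_eq hL hT φ hφ O subPaths h1 h2 hclosed hgens hconn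
        ⟨q, hq⟩ p (hoq.trans hp.symm)
      obtain ⟨h, hh, rfl⟩ := hπ
      exact ⟨h, hh, e⟩
  · intro j hj
    rw [← hcnt j hj]
    exact ncard_class OK T.n j
  · exact hKq
  · exact hc0
  · exact hN
  · exact harith

section Compat

/-- the classes with numbers below `m` make up the orbit with number `c` -/
noncomputable def compatOK (O OK : OrbData) (c m cnt : ℕ) : Bool :=
  allLoop (fun p => cond (Nat.beq (O.oid p) c) (Nat.blt (OK.oid p) m) (Nat.ble m (OK.oid p))) cnt

theorem compatOK_iff (O OK : OrbData) (c m cnt : ℕ) :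
    compatOK O OK c m cnt = true ↔ ∀ p, p < cnt → (O.oid p = c ↔ OK.oid p < m) := by
  unfold compatOK
  rw [allLoop_eq_true]
  apply forall_congr'
  intro p
  apply imp_congr Iff.rfl
  cases h : Nat.beq (O.oid p) c with
  | true =>
    rw [Data.nbeq_iff] at h
    simp only [cond_true, Nat.blt_eq, h, true_iff]
  | false =>
    have h' : O.oid p ≠ c := by
      intro e
      have := (Data.nbeq_iff _ _).mpr e
      rw [h] at this
      exact absurd this (by simp)
    simp only [cond_false, Nat.ble_eq, h', false_iff, not_lt]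

end Compat

end Cfsg.Agent.Lib.Helper28.TC2PrimGlue
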