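import Cfsg.Agent.Lib.Helper28.TCG24Simple
import Cfsg.Agent.Lib.Helper28.TC2PrimGlue
import Cfsg.Agent.Lib.Helper28.G24StabA
import Cfsg.Agent.Lib.Helper28.G24StabB

set_option autoImplicit false
set_option maxRecDepth 100000
open Cfsg

/-!
# The subgroup `J₂` of the presented `G₂(4)`: maximality, order, and the two-point stabilisers
-/

namespace Cfsg.Agent.Lib.Helper28.G24Max
open Cfsg.Agent.Lib.Helper28.TC2Upper Cfsg.Agent.Lib.Helper28.TC2Lower Cfsg.Agent.Lib.Helper28.TC2Orbit Cfsg.Agent.Lib.Helper28.TC2Glue Cfsg.Agent.Lib.Helper28.TC2GlueOrb Cfsg.Agent.Lib.Helper28.TC2Simple Cfsg.Agent.Lib.Helper28.TC2Prim Cfsg.Agent.Lib.Helper28.TC2PrimGlue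
open Cfsg.Agent.Lib.Helper28.TCG24W0Table Cfsg.Agent.Lib.Helper28.TCG24W0Link Cfsg.Agent.Lib.Helper28.TCG24W0Main Cfsg.Agent.Lib.Helper28.TCG24W0M Cfsg.Agent.Lib.Helper28.TCG24FinalChk

/-- the presented group -/
abbrev P : Type := PresentedGroup rels
/-- the subgroup generated by a, …, e -/
abbrev Hp : Subgroup P := (Subgroup.closure S).map (PresentedGroup.mk rels)

theorem hgensAll : BT.All (fun s => s ∈ subPaths) orbData.gens :=
  BT.All_of_all (fun _ h => of_decide_eq_true h) _ Cfsg.Agent.Lib.Helper28.TCG24W0M.hgens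

theorem card_P : Nat.card P = 251596800 := Cfsg.Agent.Lib.Helper28.TCG24Simple.main.2

theorem card_Hp : Nat.card Hp = 604800 := by
  have hidx : Hp.index = 416 := Cfsg.Agent.Lib.Helper28.TCG24W0Main.main.1
  have := Hp.index_mul_card
  rw [hidx, card_P] at this
  omega

theorem isCoatom_Hp : IsCoatom Hp := by
  obtain ⟨hidx, φ, hφ, f, hbij, hequiv, h0⟩ := Cfsg.Agent.Lib.Helper28.TCG24W0Main.main
  have hidx' : Hp.index = 416 := hidx
  have hne : Hp ≠ ⊤ := by
    intro e
    rw [e, Subgroup.index_top] at hidx'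
    norm_num at hidx'
  have hfm := f_mk link hT hn φ hφ f hequiv h0
  have hmax : ∀ K : Subgroup P, Hp ≤ K → K = Hp ∨ K = ⊤ := by
    apply max_of_rank3 _ φ f hbij.1 hequiv (fun q => orbData.oid q.val)
      (fun p q hpq => exists_perm_of_oid_eq link hT φ hφ orbData subPaths hsubmem hsubmem' hclosed hgensAll hconn p q hpq)
      (PresentedGroup.mk rels (FreeGroup.mk [(.f, true)])) (PresentedGroup.mk rels (FreeGroup.mk yWord))
      (PresentedGroup.mk rels (FreeGroup.mk hWord)) ?_ 1 2 ?_ ?_ ?_ ?_ ?_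
    · apply Subgroup.mem_map_of_mem
      have e : FreeGroup.mk hWord = FreeGroup.of (Cfsg.Agent.Lib.Helper28.TCG24W0Def.Gen.a) := rfl
      rw [e]
      exact Subgroup.subset_closure (by simp [S])
    · intro x hx
      exact cls_of_not_mem _ hn f hbij.1 h0 orbData hclsAll h00 cntc0 x hx
    · show orbData.oid (f _).val = 1
      rw [hfm]; exact hg0
    · show orbData.oid (f _).val = 2
      rw [hfm]; exact hy
    · show orbData.oid (f _).val = 1
      have e : PresentedGroup.mk rels (FreeGroup.mk yWord) * PresentedGroup.mk rels (FreeGroup.mk hWord) *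
          PresentedGroup.mk rels (FreeGroup.mk yWord) = PresentedGroup.mk rels (FreeGroup.mk (yWord ++ hWord ++ yWord)) := by
        rw [← map_mul, ← map_mul, FreeGroup.mul_mk, FreeGroup.mul_mk]
      rw [e, hfm]; exact hz
    · intro K hHK hg
      rw [eq_top_iff, ← PresentedGroup.closure_range_of, Subgroup.closure_le]
      rintro _ ⟨x, rfl⟩
      cases x
      · exact hHK (Subgroup.mem_map_of_mem _ (Subgroup.subset_closure (by simp [S])))
      · exact hHK (Subgroup.mem_map_of_mem _ (Subgroup.subset_closure (by simp [S])))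
      · exact hHK (Subgroup.mem_map_of_mem _ (Subgroup.subset_closure (by simp [S])))
      · exact hHK (Subgroup.mem_map_of_mem _ (Subgroup.subset_closure (by simp [S])))
      · exact hHK (Subgroup.mem_map_of_mem _ (Subgroup.subset_closure (by simp [S])))
      · exact hg
  refine ⟨hne, fun K hK => ?_⟩
  rcases hmax K hK.le with h | h
  · exact absurd h hK.ne'
  · exact h

section Stab
open Cfsg.Agent.Lib.Helper28.G24StabA in
theorem arithA : ∀ J ∈ (Finset.range m).powerset, 0 ∈ J →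
    (∑ j ∈ J, cntL.getD j 0) ∣ (∑ j ∈ Finset.range m, cntL.getD j 0) → J = {0} ∨ J = Finset.range m := by
  decide

open Cfsg.Agent.Lib.Helper28.G24StabB in
theorem arithB : ∀ J ∈ (Finset.range m).powerset, 0 ∈ J →
    (∑ j ∈ J, cntL.getD j 0) ∣ (∑ j ∈ Finset.range m, cntL.getD j 0) → J = {0} ∨ J = Finset.range m := by
  decide
end Stab

/-- every two-point stabiliser is a maximal subgroup of the one-point stabiliser -/
theorem covBy_inf_conj (y : P) (hy : y ∉ Hp) :
    (Hp ⊓ Hp.map (MulAut.conj y).toMonoidHom) ⋖ Hp := by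
  obtain ⟨hidx, φ, hφ, f, hbij, hequiv, h0⟩ := Cfsg.Agent.Lib.Helper28.TCG24W0Main.main
  have hHs : Hp = stab φ ⟨0, hn⟩ := by
    have := sub_eq_stab Hp φ f hbij.1 hequiv
    rwa [h0] at this
  have hfy : f (QuotientGroup.mk y) = φ y ⟨0, hn⟩ := by
    rw [← h0, ← hequiv]
    show _ = f (QuotientGroup.mk (y * 1))
    rw [mul_one]
  have hmap : Hp.map (MulAut.conj y).toMonoidHom = stab φ (f (QuotientGroup.mk y)) := by
    rw [hfy, ← map_conj_stab, ← hHs]
  rw [hmap]
  have hq1 : (1 : ℕ) < table.n := by decide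
  have hq38 : (38 : ℕ) < table.n := by decide
  have baseA : (Hp ⊓ stab φ ⟨1, hq1⟩) ⋖ Hp := by
    apply covBy_base link hT hn φ hφ f hbij.1 hequiv h0 orbData subPaths hsubmem hsubmem' hclosed hgensAll hconn
      Cfsg.Agent.Lib.Helper28.G24StabA.orbK Cfsg.Agent.Lib.Helper28.G24StabA.subsK ?_ ?_
      (BT.All_of_all (fun _ h => of_decide_eq_true h) _ Cfsg.Agent.Lib.Helper28.G24StabA.hgens) ?_ 1 hq1 ?_ ?_ 1
      Cfsg.Agent.Lib.Helper28.G24StabA.m ?_ Cfsg.Agent.Lib.Helper28.G24StabA.horbq Cfsg.Agent.Lib.Helper28.G24StabA.oidq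
      (fun j => Cfsg.Agent.Lib.Helper28.G24StabA.cntL.getD j 0) Cfsg.Agent.Lib.Helper28.G24StabA.cnts rfl (by decide) arithA
    · intro s hs l hl
      have := Cfsg.Agent.Lib.Helper28.G24StabA.hlt s hs l hl
      show l < 6
      omega
    · intro p hp
      have hp' : p < 416 := hp
      exact (Cfsg.Agent.Lib.Helper28.G24StabA.orbK.closedOK_iff table _ 0 416).mp Cfsg.Agent.Lib.Helper28.G24StabA.clo p (by omega) (by omega)
    · intro p hp
      have hp' : p < 416 := hp
      exact (Cfsg.Agent.Lib.Helper28.G24StabA.orbK.connOK_iff table 0 416).mp Cfsg.Agent.Lib.Helper28.G24StabA.conn p (by omega) (by omega)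
    · intro s hs
      exact (Table.relOK_iff _ 0 1).mp Cfsg.Agent.Lib.Helper28.G24StabA.fix0 0 (by omega) (by omega) s hs
    · intro s hs
      exact (Table.relOK_iff _ 1 1).mp Cfsg.Agent.Lib.Helper28.G24StabA.fixq 1 (by omega) (by omega) s hs
    · intro p hp
      exact (compatOK_iff _ _ _ _ _).mp Cfsg.Agent.Lib.Helper28.G24StabA.compat p hp
  have baseB : (Hp ⊓ stab φ ⟨38, hq38⟩) ⋖ Hp := by
    apply covBy_base link hT hn φ hφ f hbij.1 hequiv h0 orbData subPaths hsubmem hsubmem' hclosed hgensAll hconn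
      Cfsg.Agent.Lib.Helper28.G24StabB.orbK Cfsg.Agent.Lib.Helper28.G24StabB.subsK ?_ ?_
      (BT.All_of_all (fun _ h => of_decide_eq_true h) _ Cfsg.Agent.Lib.Helper28.G24StabB.hgens) ?_ 38 hq38 ?_ ?_ 2
      Cfsg.Agent.Lib.Helper28.G24StabB.m ?_ Cfsg.Agent.Lib.Helper28.G24StabB.horbq Cfsg.Agent.Lib.Helper28.G24StabB.oidq
      (fun j => Cfsg.Agent.Lib.Helper28.G24StabB.cntL.getD j 0) Cfsg.Agent.Lib.Helper28.G24StabB.cnts rfl (by decide) arithB
    · intro s hs l hl
      have := Cfsg.Agent.Lib.Helper28.G24StabB.hlt s hs l hl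
      show l < 6
      omega
    · intro p hp
      have hp' : p < 416 := hp
      exact (Cfsg.Agent.Lib.Helper28.G24StabB.orbK.closedOK_iff table _ 0 416).mp Cfsg.Agent.Lib.Helper28.G24StabB.clo p (by omega) (by omega)
    · intro p hp
      have hp' : p < 416 := hp
      exact (Cfsg.Agent.Lib.Helper28.G24StabB.orbK.connOK_iff table 0 416).mp Cfsg.Agent.Lib.Helper28.G24StabB.conn p (by omega) (by omega)
    · intro s hs
      exact (Table.relOK_iff _ 0 1).mp Cfsg.Agent.Lib.Helper28.G24StabB.fix0 0 (by omega) (by omega) s hs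
    · intro s hs
      exact (Table.relOK_iff _ 38 1).mp Cfsg.Agent.Lib.Helper28.G24StabB.fixq 38 (by omega) (by omega) s hs
    · intro p hp
      exact (compatOK_iff _ _ _ _ _).mp Cfsg.Agent.Lib.Helper28.G24StabB.compat p hp
  have horb := fun p q hpq => exists_perm_of_oid_eq link hT φ hφ orbData subPaths hsubmem hsubmem' hclosed hgensAll hconn p q hpq
  rcases cls_of_not_mem Hp hn f hbij.1 h0 orbData hclsAll h00 cntc0 y hy with h1 | h2
  · obtain ⟨π, ⟨h, hh, rfl⟩, e⟩ := horb ⟨1, hq1⟩ (f (QuotientGroup.mk y))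
      (Cfsg.Agent.Lib.Helper28.G24StabA.horbq.trans h1.symm)
    rw [← e]
    exact covBy_conj' φ Hp _ h hh baseA
  · obtain ⟨π, ⟨h, hh, rfl⟩, e⟩ := horb ⟨38, hq38⟩ (f (QuotientGroup.mk y))
      (Cfsg.Agent.Lib.Helper28.G24StabB.horbq.trans h2.symm)
    rw [← e]
    exact covBy_conj' φ Hp _ h hh baseB

end Cfsg.Agent.Lib.Helper28.G24Max
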