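import Cfsg.Agent.Lib.Helper28.TC2Tower
import Cfsg.Prelude.Def_SporadicB
set_option autoImplicit false

/-!
# Double covers inside presented groups

A subgroup of a presented group generated by a subset of the generators is compared with the group
presented by the relators on these generators, and with a further quotient.
-/

namespace Cfsg.Agent.Lib.Helper28.TC2Cover
open Cfsg.Agent.Lib.Helper28.TC2Tower

section Abstract
variable {H K : Type*} [Group H] [Group K]

/-- a normal subgroup of order 2 is central -/
theorem le_center_of_card_two (N : Subgroup H) [N.Normal] (h : Nat.card N = 2) :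
    N ≤ Subgroup.center H := by
  intro n hn
  rw [Subgroup.mem_center_iff]
  intro g
  by_cases h1 : n = 1
  · rw [h1, mul_one, one_mul]
  · have hc : g * n * g⁻¹ ∈ N := ‹N.Normal›.conj_mem n hn g
    have hne : g * n * g⁻¹ ≠ 1 := by
      intro e
      apply h1
      have : n = g⁻¹ * (g * n * g⁻¹) * g := by group
      rw [this, e]; group
    have key : ∀ a b : N, a ≠ 1 → b ≠ 1 → a = b := by
      intro a b ha hb
      obtain ⟨y, _, hy⟩ := (Nat.card_eq_two_iff' (1 : N)).mp h
      rw [hy a ha, hy b hb]
    have := key ⟨g * n * g⁻¹, hc⟩ ⟨n, hn⟩ (fun e => hne (congrArg Subtype.val e))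
      (fun e => h1 (congrArg Subtype.val e))
    have e : g * n * g⁻¹ = n := congrArg Subtype.val this
    calc g * n = g * n * g⁻¹ * g := by group
      _ = n * g := by rw [e]

/-- a criterion for non-split double covers -/
theorem isNonsplitDoubleCover_of_hom [Finite H] (π : H →* K) (hπ : Function.Surjective π)
    (hker : Nat.card π.ker = 2) (hK : Subgroup.center K = ⊥)
    (hperf : ∀ L : Subgroup H, L.index ≠ 2) : Cfsg.IsNonsplitDoubleCover H K := by
  have hle : π.ker ≤ Subgroup.center H := le_center_of_card_two π.ker hker
  have hge : Subgroup.center H ≤ π.ker := by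
    intro c hc
    rw [MonoidHom.mem_ker]
    have : π c ∈ Subgroup.center K := by
      rw [Subgroup.mem_center_iff]
      intro k
      obtain ⟨g, rfl⟩ := hπ k
      rw [← map_mul, ← map_mul, (Subgroup.mem_center_iff.mp hc) g]
    rw [hK] at this
    exact Subgroup.mem_bot.mp this
  have hZ : Subgroup.center H = π.ker := le_antisymm hge hle
  refine ⟨by rw [hZ]; exact hker, ?_, ?_⟩
  · exact ⟨(QuotientGroup.quotientMulEquivOfEq hZ).trans (QuotientGroup.quotientKerEquivOfSurjective π hπ)⟩
  · intro L hL
    have h1 := hL.card_mul_card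
    rw [hZ, hker] at h1
    have h2 := L.index_mul_card
    apply hperf L
    have hpos : 0 < Nat.card L := Nat.card_pos
    have : L.index * Nat.card L = 2 * Nat.card L := by rw [h2, h1]
    exact Nat.eq_of_mul_eq_mul_right hpos this

/-- the centre of a non-abelian finite simple group is trivial -/
theorem center_eq_bot_of_simple [Finite K] [IsSimpleGroup K] (h : ¬ (Nat.card K).Prime) :
    Subgroup.center K = ⊥ := by
  rcases Subgroup.Normal.eq_bot_or_eq_top (inferInstance : (Subgroup.center K).Normal) with h1 | h1
  · exact h1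
  · exfalso
    apply h
    letI : CommGroup K := Group.commGroupOfCenterEqTop h1
    exact IsSimpleGroup.prime_card

end Abstract

section Pres
variable {α β : Type}

/-- the homomorphism of a sub-presentation -/
theorem exists_hom_of_subpres (rels : Set (FreeGroup α)) (rels' : Set (FreeGroup β)) (ι : β → α)
    (hrel : ∀ r ∈ rels', FreeGroup.map ι r ∈ rels) :
    ∃ ψ : PresentedGroup rels' →* PresentedGroup rels,
      ∀ b, ψ (PresentedGroup.of b) = PresentedGroup.of (ι b) := by
  have key : FreeGroup.lift (fun b => (PresentedGroup.of (ι b) : PresentedGroup rels)) =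
      (PresentedGroup.mk rels).comp (FreeGroup.map ι) := by
    ext b
    simp [PresentedGroup.of]
  have h1 : ∀ r ∈ rels', FreeGroup.lift (fun b => (PresentedGroup.of (ι b) : PresentedGroup rels)) r = 1 := by
    intro r hr
    rw [key]
    exact PresentedGroup.one_of_mem (hrel r hr)
  exact ⟨PresentedGroup.toGroup h1, fun b => PresentedGroup.toGroup.of h1⟩

theorem range_of_subpres (rels : Set (FreeGroup α)) (rels' : Set (FreeGroup β)) (ι : β → α)
    (ψ : PresentedGroup rels' →* PresentedGroup rels)
    (hψ : ∀ b, ψ (PresentedGroup.of b) = PresentedGroup.of (ι b))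
    (S : Set (FreeGroup α)) (hS : ∀ s ∈ S, ∃ b, s = FreeGroup.of (ι b))
    (hS' : ∀ b, FreeGroup.of (ι b) ∈ S) :
    ψ.range = (Subgroup.closure S).map (PresentedGroup.mk rels) := by
  rw [MonoidHom.range_eq_map, ← PresentedGroup.closure_range_of, MonoidHom.map_closure,
    MonoidHom.map_closure]
  congr 1
  ext g
  simp only [Set.mem_image, Set.mem_range]
  constructor
  · rintro ⟨_, ⟨b, rfl⟩, rfl⟩
    exact ⟨FreeGroup.of (ι b), hS' b, (hψ b).symm⟩
  · rintro ⟨s, hs, rfl⟩
    obtain ⟨b, rfl⟩ := hS s hs
    exact ⟨PresentedGroup.of b, ⟨b, rfl⟩, hψ b⟩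

/-- a surjective homomorphism onto a further quotient, for another type of generators -/
theorem exists_surj_of_subpres (rels : Set (FreeGroup α)) (rels' : Set (FreeGroup β)) (ι : β → α)
    (hrel : ∀ r ∈ rels', FreeGroup.map ι r ∈ rels) (hι : Function.Surjective ι) :
    ∃ ψ : PresentedGroup rels' →* PresentedGroup rels, Function.Surjective ψ := by
  obtain ⟨ψ, hψ⟩ := exists_hom_of_subpres rels rels' ι hrel
  refine ⟨ψ, ?_⟩
  rw [← MonoidHom.range_eq_top, eq_top_iff, ← PresentedGroup.closure_range_of, Subgroup.closure_le]
  rintro _ ⟨a, rfl⟩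
  obtain ⟨b, rfl⟩ := hι a
  exact ⟨PresentedGroup.of b, hψ b⟩

end Pres

section Parity
variable {β : Type}

/-- weight of a word under a 0/1 assignment of the generators -/
def par (v : β → Bool) : List (β × Bool) → Bool
  | [] => false
  | xb :: L => xor (v xb.1) (par v L)

/-- a presented group whose relators force every homomorphism to a group of order 2 to be trivial has
no subgroup of index 2 -/
theorem no_index_two_of_parity (rels' : Set (FreeGroup β)) (relWords : List (List (β × Bool)))
    (hrels : ∀ L ∈ relWords, FreeGroup.mk L ∈ rels')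
    (hpar : ∀ v : β → Bool, (∀ L ∈ relWords, par v L = false) → ∀ x, v x = false)
    (L : Subgroup (PresentedGroup rels')) : L.index ≠ 2 := by
  classical
  intro h
  haveI : L.Normal := Subgroup.normal_of_index_eq_two h
  have hcard : Nat.card (PresentedGroup rels' ⧸ L) = 2 := by
    rw [← Subgroup.index_eq_card]; exact h
  obtain ⟨u, _, hu⟩ := (Nat.card_eq_two_iff' (1 : PresentedGroup rels' ⧸ L)).mp hcard
  have h2 : ∀ q : PresentedGroup rels' ⧸ L, q = 1 ∨ q = u := by
    intro q
    by_cases hq : q = 1
    · exact Or.inl hq
    · exact Or.inr (hu q hq)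
  have hu1 : u ≠ 1 := by
    intro e
    have h3 : ∀ q : PresentedGroup rels' ⧸ L, q = 1 := by
      intro q
      rcases h2 q with hq | hq
      · exact hq
      · rw [hq, e]
    haveI : Subsingleton (PresentedGroup rels' ⧸ L) := ⟨fun a b => by rw [h3 a, h3 b]⟩
    have := Nat.card_of_subsingleton (1 : PresentedGroup rels' ⧸ L)
    omega
  have huu : u * u = 1 := by
    rcases h2 (u * u) with hq | hq
    · exact hq
    · exfalso
      apply hu1
      have : u * u = u * 1 := by rw [hq, mul_one]
      exact mul_left_cancel this
  have hmul : ∀ a b : PresentedGroup rels' ⧸ L, a * b = 1 ↔ (a = 1 ↔ b = 1) := by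
    intro a b
    rcases h2 a with ha | ha <;> rcases h2 b with hb | hb <;> subst ha <;> subst hb
    · simp
    · simp [hu1]
    · simp [hu1]
    · simp [huu]
  have hinv : ∀ a : PresentedGroup rels' ⧸ L, a⁻¹ = 1 ↔ a = 1 := fun a => inv_eq_one
  let χ : PresentedGroup rels' →* PresentedGroup rels' ⧸ L := QuotientGroup.mk' L
  let v : β → Bool := fun x => decide (χ (PresentedGroup.of x) ≠ 1)
  have key : ∀ W : List (β × Bool), χ (PresentedGroup.mk rels' (FreeGroup.mk W)) = 1 ↔ par v W = false := by
    intro W
    induction W with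
    | nil =>
      have : (FreeGroup.mk ([] : List (β × Bool))) = 1 := rfl
      rw [this, map_one, map_one]
      simp [par]
    | cons xb W ih =>
      have e : FreeGroup.mk (xb :: W) = FreeGroup.mk [xb] * FreeGroup.mk W := by
        rw [FreeGroup.mul_mk]; rfl
      rw [e, map_mul, map_mul, hmul, ih]
      obtain ⟨x, b⟩ := xb
      have hx : χ (PresentedGroup.mk rels' (FreeGroup.mk [(x, b)])) = 1 ↔ v x = false := by
        cases b with
        | true =>
          show χ (PresentedGroup.of x) = 1 ↔ _
          simp [v]
        | false =>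
          have : PresentedGroup.mk rels' (FreeGroup.mk [(x, false)]) = (PresentedGroup.of x)⁻¹ := rfl
          rw [this, map_inv, hinv]
          simp [v]
      rw [hx]
      show _ ↔ xor (v x) (par v W) = false
      cases v x <;> cases par v W <;> simp
  have hv : ∀ W ∈ relWords, par v W = false := by
    intro W hW
    rw [← key]
    rw [PresentedGroup.one_of_mem (hrels W hW), map_one]
  have hall := hpar v hv
  have htop : L = ⊤ := by
    rw [eq_top_iff, ← PresentedGroup.closure_range_of, Subgroup.closure_le]
    rintro _ ⟨x, rfl⟩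
    have := hall x
    simp only [v, decide_eq_false_iff_not, not_not] at this
    exact (QuotientGroup.eq_one_iff _).mp this
  rw [htop, Subgroup.index_top] at h
  omega

end Parity

end Cfsg.Agent.Lib.Helper28.TC2Cover
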