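import Cfsg.Agent.Lib.Helper14.J2Link
import Cfsg.Agent.Lib.Helper28.G24J2Data
import Cfsg.Agent.Lib.Helper28.G24Max
import Cfsg.Agent.Lib.Helper28.TC2Cover
import Cfsg.Agent.Lib.Helper28.TC2Subst

set_option autoImplicit false
set_option maxRecDepth 100000
open Cfsg

/-!
# The subgroup generated by a, …, e in the presented `G₂(4)` is the Hall–Janko group

The presented group on a, …, e (of order at most 604800) is mapped onto helper14's permutation group `PJ`
on 315 points, which is isomorphic to `Cfsg.Spor.J2`.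
-/

namespace Cfsg.Agent.Lib.Helper28.G24J2
open Cfsg.Agent.Lib.Helper10.SW Cfsg.Agent.Lib.Helper14.J2 Cfsg.Agent.Lib.Helper28.G24J2Data
open Cfsg.Agent.Lib.Helper28.TC2Tower Cfsg.Agent.Lib.Helper28.TC2Cover Cfsg.Agent.Lib.Helper28.TC2Subst Cfsg.Agent.Lib.Helper28.TC2Simple
open Cfsg.Agent.Lib.Helper28.G24Max

attribute [local irreducible] perm

/-- the generators a, …, e -/
abbrev Gen1 : Type := Cfsg.Agent.Lib.Helper28.TCG24W1Def.Gen
/-- the presented group on a, …, e -/
abbrev PJ1 : Type := PresentedGroup Cfsg.Agent.Lib.Helper28.TCG24W1Link.rels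

/-- the packed permutations of the generators -/
def code : Gen1 → ℕ
  | .a => pa
  | .b => pb
  | .c => pc
  | .d => pd
  | .e => pe

theorem inv_ok : ∀ x : Gen1, InvOf 315 (code x) (code x) := by
  intro x
  cases x <;> decide +kernel

theorem valid_code (x : Gen1) : Valid 315 (code x) := valid_of_invOf (inv_ok x)

/-- the permutations of the generators -/
noncomputable def pgen (x : Gen1) : Equiv.Perm (Fin 315) := perm 315 (code x)

theorem pgen_sq (x : Gen1) : pgen x * pgen x = 1 := by
  have h := perm_inv_of_invOf (inv_ok x) (valid_code x)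
  unfold pgen
  rw [mul_eq_one_iff_eq_inv]
  exact h

/-- the value of a lift on a word, for generators sent to involutions -/
theorem lift_mk_invol {β : Type} {K : Type*} [Group K] (f : β → K) (hf : ∀ x, f x * f x = 1) (L : List (β × Bool)) :
    FreeGroup.lift f (FreeGroup.mk L) = (L.map fun t => f t.1).prod := by
  induction L with
  | nil => rfl
  | cons t L ih =>
    have e : FreeGroup.mk (t :: L) = FreeGroup.mk [t] * FreeGroup.mk L := by
      rw [FreeGroup.mul_mk]; rfl
    rw [e, map_mul, ih, List.map_cons, List.prod_cons]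
    congr 1
    obtain ⟨x, b⟩ := t
    cases b with
    | true => exact FreeGroup.lift_apply_of
    | false =>
      have e1 : FreeGroup.mk [(x, false)] = (FreeGroup.of x)⁻¹ := by
        show _ = (FreeGroup.mk [(x, true)])⁻¹
        rw [FreeGroup.inv_mk]; rfl
      rw [e1, map_inv, FreeGroup.lift_apply_of]
      exact inv_eq_of_mul_eq_one_right (hf x)

theorem prod_eq_prodL (L : List Gen1) : (L.map pgen).prod = prodL 315 (L.map code) := by
  unfold prodL
  rw [List.map_map]
  rfl

theorem valid_map_code (L : List Gen1) : ∀ c ∈ L.map code, Valid 315 c := by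
  intro c hc
  rw [List.mem_map] at hc
  obtain ⟨x, _, rfl⟩ := hc
  exact valid_code x

theorem rels_ok : ∀ L ∈ Cfsg.Agent.Lib.Helper28.TCG24W1Link.relWords, ∀ p < 315,
    evalL 315 ((L.map Prod.fst).map code) p = p := by
  decide +kernel

theorem lift_rel (L : List (Gen1 × Bool)) (hL : L ∈ Cfsg.Agent.Lib.Helper28.TCG24W1Link.relWords) :
    FreeGroup.lift pgen (FreeGroup.mk L) = 1 := by
  rw [lift_mk_invol pgen pgen_sq]
  have e : (L.map fun t => pgen t.1) = (L.map Prod.fst).map pgen := by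
    rw [List.map_map]; rfl
  rw [e, prod_eq_prodL]
  ext i
  rw [prodL_apply_val _ (valid_map_code _), rels_ok L hL i.val i.isLt]
  rfl

/-- a word for the generator `c0` of `PJ` -/
def gw0 : List Gen1 := [.a]
/-- a word for the generator `c1` of `PJ` -/
def gw1 : List Gen1 := [.a, .b, .c, .d, .e, .c, .d, .b, .c, .d, .e, .b, .c, .d, .c, .b, .a]
/-- a word for the generator `c2` of `PJ` -/
def gw2 : List Gen1 := [.d, .b, .a, .b, .c, .d, .b, .a, .b]
/-- a word for the generator `c3` of `PJ` -/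
def gw3 : List Gen1 := [.e, .d, .c, .d, .b, .c, .d, .a, .b, .c, .d, .e]

theorem words_ok : (∀ p < 315, evalL 315 (gw0.map code) p = ap 315 c0 p) ∧
    (∀ p < 315, evalL 315 (gw1.map code) p = ap 315 c1 p) ∧
    (∀ p < 315, evalL 315 (gw2.map code) p = ap 315 c2 p) ∧
    (∀ p < 315, evalL 315 (gw3.map code) p = ap 315 c3 p) := by
  decide +kernel

theorem perm_eq_prodL {c : ℕ} (hc : Valid 315 c) (L : List Gen1)
    (h : ∀ p < 315, evalL 315 (L.map code) p = ap 315 c p) : perm 315 c = prodL 315 (L.map code) := by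
  ext i
  rw [perm_apply_val hc, prodL_apply_val _ (valid_map_code _), h i.val i.isLt]

/-- the presented group on a, …, e is isomorphic to the permutation group `PJ` -/
theorem exists_iso_PJ : Nonempty (PJ1 ≃* ↥PJ) ∧ Nat.card PJ1 = 604800 := by
  obtain ⟨hfin, hle⟩ := Cfsg.Agent.Lib.Helper28.TCG24Tower.card1
  haveI : Finite PJ1 := hfin
  obtain ⟨ψ, hψ⟩ := exists_hom_of_words Cfsg.Agent.Lib.Helper28.TCG24W1Link.rels pgen
    Cfsg.Agent.Lib.Helper28.TCG24W1Link.relWords
    (fun r hr => (Cfsg.Agent.Lib.Helper28.TCG24W1Link.link.hrels r).mp hr) lift_rel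
  have hprod : ∀ L : List Gen1, prodL 315 (L.map code) ∈ ψ.range := by
    intro L
    rw [← prod_eq_prodL]
    apply Subgroup.list_prod_mem
    intro g hg
    rw [List.mem_map] at hg
    obtain ⟨x, _, rfl⟩ := hg
    exact ⟨PresentedGroup.of x, hψ x⟩
  have hPJ : PJ ≤ ψ.range := by
    rw [PJ_eq, grp_le_iff]
    intro c hc
    have hc' : c ∈ topGens := hc
    have hv := valid_top hc'
    simp only [List.mem_cons, List.not_mem_nil, or_false] at hc
    rcases hc with rfl | rfl | rfl | rfl
    · rw [perm_eq_prodL hv gw0 words_ok.1]; exact hprod _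
    · rw [perm_eq_prodL hv gw1 words_ok.2.1]; exact hprod _
    · rw [perm_eq_prodL hv gw2 words_ok.2.2.1]; exact hprod _
    · rw [perm_eq_prodL hv gw3 words_ok.2.2.2]; exact hprod _
  have hlow : 604800 ≤ Nat.card ψ.range := by
    rw [← card_PJ]
    exact Subgroup.card_le_of_le hPJ
  obtain ⟨hinj, hcard⟩ := injective_of_card_le ψ hle hlow
  refine ⟨?_, hcard⟩
  have hrange : ψ.range = PJ := by
    symm
    apply Subgroup.eq_of_le_of_card_ge hPJ
    rw [card_PJ, ← hcard]
    exact Nat.card_le_card_of_surjective ψ.rangeRestrict ψ.rangeRestrict_surjective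
  exact ⟨(MonoidHom.ofInjective hinj).trans (MulEquiv.subgroupCongr hrange)⟩

/-- the presented group on a, …, e is isomorphic to the subgroup of the presented `G₂(4)` -/
theorem exists_iso_Hp : Nonempty (PJ1 ≃* ↥Hp) := by
  obtain ⟨hfin, -⟩ := Cfsg.Agent.Lib.Helper28.TCG24Tower.card1
  haveI : Finite PJ1 := hfin
  have hcard1 := exists_iso_PJ.2
  have hrel := hrel_of_words Cfsg.Agent.Lib.Helper28.TCG24W0Link.rels Cfsg.Agent.Lib.Helper28.TCG24W1Link.rels
    Cfsg.Agent.Lib.Helper28.TCG24W1Def.up Cfsg.Agent.Lib.Helper28.TCG24W0Link.relWords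
    Cfsg.Agent.Lib.Helper28.TCG24W1Link.relWords
    Cfsg.Agent.Lib.Helper28.TCG24W0Link.link.hrels Cfsg.Agent.Lib.Helper28.TCG24W1Link.link.hrels
    Cfsg.Agent.Lib.Helper28.TCG24Tower.up0
  obtain ⟨ι, hι⟩ := exists_hom_of_subpres Cfsg.Agent.Lib.Helper28.TCG24W0Link.rels
    Cfsg.Agent.Lib.Helper28.TCG24W1Link.rels Cfsg.Agent.Lib.Helper28.TCG24W1Def.up hrel
  have hrange : ι.range = Hp := by
    apply range_of_subpres _ _ _ ι hι
    · intro s hs
      simp only [Cfsg.Agent.Lib.Helper28.TCG24W0Link.S, Set.mem_insert_iff, Set.mem_singleton_iff] at hs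
      rcases hs with rfl | rfl | rfl | rfl | rfl
      exacts [⟨.a, rfl⟩, ⟨.b, rfl⟩, ⟨.c, rfl⟩, ⟨.d, rfl⟩, ⟨.e, rfl⟩]
    · intro b
      cases b <;> simp [Cfsg.Agent.Lib.Helper28.TCG24W0Link.S, Cfsg.Agent.Lib.Helper28.TCG24W1Def.up]
  have hcardR : Nat.card ι.range = 604800 := by rw [hrange]; exact card_Hp
  have hinj : Function.Injective ι := by
    have hbij : Function.Bijective ι.rangeRestrict := by
      rw [Nat.bijective_iff_surjective_and_card]
      exact ⟨ι.rangeRestrict_surjective, hcard1.trans hcardR.symm⟩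
    intro a b hab
    exact hbij.1 (Subtype.ext hab)
  exact ⟨(MonoidHom.ofInjective hinj).trans (MulEquiv.subgroupCongr hrange)⟩

/-- the subgroup generated by a, …, e in the presented `G₂(4)` is the Hall–Janko group -/
theorem isoJ2_Hp : Cfsg.Spor.IsoJ2 ↥Hp := by
  obtain ⟨e1⟩ := exists_iso_Hp
  obtain ⟨e2⟩ := exists_iso_PJ.1
  exact ⟨(e1.symm.trans e2).trans j2Equiv.symm⟩

end Cfsg.Agent.Lib.Helper28.G24J2
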