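import Cfsg.Agent.Lib.Helper27.Schur5
set_option autoImplicit false

/-!
# Invariance of `HasSchurMultiplier` under isomorphisms between groups in different universes
-/

namespace Cfsg.Agent.Lib.Helper28.SchurUnivCongr

universe u v w

open Subgroup

/-- the kernel of the composition with an isomorphism -/
theorem ker_equiv_comp' {Γ G G' : Type*} [Group Γ] [Group G] [Group G'] (e : G ≃* G')
    (σ : Γ →* G) : (e.toMonoidHom.comp σ).ker = σ.ker := by
  ext x
  simp [MonoidHom.mem_ker]

/-- composition of a stem extension with an isomorphism -/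
theorem isStem_equiv_comp' {Γ G G' : Type*} [Group Γ] [Group G] [Group G'] (e : G ≃* G')
    (σ : Γ →* G) (hσ : Cfsg.IsStemExtension σ) : Cfsg.IsStemExtension (e.toMonoidHom.comp σ) := by
  refine ⟨e.surjective.comp hσ.1, ?_, ?_⟩
  · rw [ker_equiv_comp']; exact hσ.2.1
  · rw [ker_equiv_comp']; exact hσ.2.2

/-- precomposition of a stem extension with an isomorphism -/
theorem isStem_comp_equiv {Y Γ G : Type*} [Group Y] [Group Γ] [Group G] (ε : Y ≃* Γ) (σ : Γ →* G)
    (hσ : Cfsg.IsStemExtension σ) : Cfsg.IsStemExtension (σ.comp ε.toMonoidHom) := by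
  refine ⟨hσ.1.comp ε.surjective, ?_, ?_⟩
  · intro y hy
    have h1 : ε y ∈ σ.ker := hy
    have h2 := hσ.2.1 h1
    rw [mem_center_iff] at h2 ⊢
    intro z
    apply ε.injective
    rw [map_mul, map_mul]
    exact h2 (ε z)
  · intro y hy
    have h1 : ε y ∈ σ.ker := hy
    have h2 := hσ.2.2 h1
    have h3 : (commutator Γ).map ε.symm.toMonoidHom ≤ commutator Y := by
      rw [_root_.commutator_def, _root_.commutator_def, Subgroup.map_commutator]
      exact Subgroup.commutator_mono le_top le_top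
    have := h3 ⟨ε y, h2, rfl⟩
    simpa using this

/-- the kernel of the precomposition -/
noncomputable def kerCompEquiv {Y Γ G : Type*} [Group Y] [Group Γ] [Group G] (ε : Y ≃* Γ) (σ : Γ →* G) :
    (σ.comp ε.toMonoidHom).ker ≃* σ.ker where
  toFun := fun y => ⟨ε y.1, y.2⟩
  invFun := fun x => ⟨ε.symm x.1, by
    show σ (ε (ε.symm x.1)) = 1
    rw [MulEquiv.apply_symm_apply]; exact x.2⟩
  left_inv := fun y => Subtype.ext (by simp)
  right_inv := fun x => Subtype.ext (by simp)
  map_mul' := fun y z => Subtype.ext (by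
    show ε ((y * z : (σ.comp ε.toMonoidHom).ker) : Y) = ε y.1 * ε z.1
    rw [Subgroup.coe_mul, map_mul])

/-- `HasSchurMultiplier` is invariant under isomorphism of the group, also between universes -/
theorem hasSchurMultiplier_congr_univ {G : Type u} {G' : Type v} [Group G] [Group G'] [Finite G]
    (e : G ≃* G') {A : Type w} [CommGroup A] (h : Cfsg.HasSchurMultiplier G A) :
    Cfsg.HasSchurMultiplier G' A := by
  have h0 := h
  obtain ⟨⟨Γ, iΓ, fΓ, σ, hσ, ⟨f⟩⟩, -⟩ := h
  constructor
  · obtain ⟨Y, iY, ⟨ε⟩⟩ := Cfsg.Agent.Lib.Helper27.Schur.exists_mulEquiv_of_finite.{v} Γ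
    have hst : Cfsg.IsStemExtension (e.toMonoidHom.comp σ) :=
      isStem_equiv_comp' e σ hσ
    refine ⟨Y, iY, Finite.of_equiv _ ε.symm.toEquiv, (e.toMonoidHom.comp σ).comp ε.toMonoidHom,
      isStem_comp_equiv ε _ hst, ⟨?_⟩⟩
    exact ((kerCompEquiv ε (e.toMonoidHom.comp σ)).trans
      (MulEquiv.subgroupCongr (ker_equiv_comp' e σ))).trans f
  · intro Δ _ _ τ hτ
    have hτ' : Cfsg.IsStemExtension (e.symm.toMonoidHom.comp τ) :=
      isStem_equiv_comp' e.symm τ hτ
    obtain ⟨θ, hθ⟩ := Cfsg.Agent.Lib.Helper27.Schur.exists_surjective_of_hasSchurMultiplier h0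
      (e.symm.toMonoidHom.comp τ) hτ'.1 hτ'.2.1
    have hk : (e.symm.toMonoidHom.comp τ).ker ⊓ commutator Δ = τ.ker := by
      rw [inf_eq_left.mpr hτ'.2.2]
      exact ker_equiv_comp' e.symm τ
    refine ⟨(MulEquiv.subgroupCongr hk).toMonoidHom.comp θ, ?_⟩
    exact (MulEquiv.subgroupCongr hk).surjective.comp hθ

end Cfsg.Agent.Lib.Helper28.SchurUnivCongr
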