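import Cfsg.Agent.Lib.Helper28.TC2Upper
import Cfsg.Agent.Lib.Helper28.TCG24EDataC0
set_option autoImplicit false
set_option maxRecDepth 100000

namespace Cfsg.Agent.Lib.Helper28.TCG24EData
open Cfsg.Agent.Lib.Helper28.TC2Upper

/-- relators -/
def relT : BT (ℕ × List ℕ × List ℕ) := (BT.node 119 (BT.node 59 (BT.node 29 (BT.node 14 (BT.node 7 (BT.node 3 (BT.node 1 (BT.node 0 (BT.leaf (6, [1, 1, 1, 0, 0, 0], [1, 1, 1, 0, 0, 0])) (BT.leaf (6, [3, 1, 1, 2, 0, 0], [1, 1, 3, 0, 0, 2]))) (BT.node 2 (BT.leaf (6, [5, 1, 1, 4, 0, 0], [1, 1, 5, 0, 0, 4])) (BT.leaf (6, [7, 1, 1, 6, 0, 0], [1, 1, 7, 0, 0, 6])))) (BT.node 5 (BT.node 4 (BT.leaf (6, [9, 1, 1, 8, 0, 0], [1, 1, 9, 0, 0, 8])) (BT.leaf (6, [11,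 1, 1, 10, 0, 0], [1, 1, 11, 0, 0, 10]))) (BT.node 6 (BT.leaf (22, [1, 1, 3, 1, 3, 1, 3, 1, 3, 1, 3, 0, 2, 0, 2, 0, 2, 0, 2, 0, 2, 0], [1, 3, 1, 3, 1, 3, 1, 3, 1, 3, 1, 2, 0, 2, 0, 2, 0, 2, 0, 2, 0, 0])) (BT.leaf (22, [3, 1, 3, 1, 3, 1, 3, 1, 3, 1, 3, 2, 2, 0, 2, 0, 2, 0, 2, 0, 2, 0], [1, 3, 1, 3, 1, 3, 1, 3, 1, 3, 3, 2, 0, 2, 0, 2, 0, 2, 0, 2, 0, 2]))))) (BT.node 11 (BT.node 9 (BT.node 8 (BT.leaf (22, [5, 1, 3, 1, 3, 1, 3, 1, 3, 1, 3, 4, 2, 0, 2, 0, 2, 0, 2, 0, 2, 0], [1, 3, 1, 3, 1, 3, 1, 3, 1, 3, 5, 2, 0, 2, 0, 2, 0, 2, 0, 2, 0, 4])) (BT.leaf (22, [7, 1, 3, 1, 3, 1, 3, 1, 3, 1, 3, 6, 2, 0, 2, 0, 2, 0, 2, 0, 2, 0], [1, 3, 1, 3, 1, 3, 1, 3, 1, 3, 7, 2, 0, 2, 0, 2, 0, 2, 0, 2, 0, 6]))) (BT.node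 10 (BT.leaf (22, [9, 1, 3, 1, 3, 1, 3, 1, 3, 1, 3, 8, 2, 0, 2, 0, 2, 0, 2, 0, 2, 0], [1, 3, 1, 3, 1, 3, 1, 3, 1, 3, 9, 2, 0, 2, 0, 2, 0, 2, 0, 2, 0, 8])) (BT.leaf (22, [11, 1, 3, 1, 3, 1, 3, 1, 3, 1, 3, 10, 2, 0, 2, 0, 2, 0, 2, 0, 2, 0], [1, 3, 1, 3, 1, 3, 1, 3, 1, 3, 11, 2, 0, 2, 0, 2, 0, 2, 0, 2, 0, 10])))) (BT.node 13 (BT.node 12 (BT.leaf (10, [1, 1, 5, 1, 5, 0, 4, 0, 4, 0], [1, 5, 1, 5, 1, 4, 0, 4, 0, 0])) (BT.leaf (10, [3, 1, 5, 1, 5, 2, 4, 0, 4, 0], [1, 5, 1, 5, 3, 4, 0, 4, 0, 2]))) (BT.leaf (10, [5, 1, 5, 1, 5, 4, 4, 0, 4, 0], [1, 5, 1, 5, 5, 4, 0, 4, 0, 4]))))) (BT.node 22 (BT.node 18 (BT.node 16 (BT.node 15 (BT.leaf (10, [7, 1, 5, 1, 5, 6, 4, 0, 4, 0], [1, 5, 1, 5, 7, 4, 0, 4, 0, 6]))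 (BT.leaf (10, [9, 1, 5, 1, 5, 8, 4, 0, 4, 0], [1, 5, 1, 5, 9, 4, 0, 4, 0, 8]))) (BT.node 17 (BT.leaf (10, [11, 1, 5, 1, 5, 10, 4, 0, 4, 0], [1, 5, 1, 5, 11, 4, 0, 4, 0, 10])) (BT.leaf (10, [1, 1, 7, 1, 7, 0, 6, 0, 6, 0], [1, 7, 1, 7, 1, 6, 0, 6, 0, 0])))) (BT.node 20 (BT.node 19 (BT.leaf (10, [3, 1, 7, 1, 7, 2, 6, 0, 6, 0], [1, 7, 1, 7, 3, 6, 0, 6, 0, 2])) (BT.leaf (10, [5, 1, 7, 1, 7, 4, 6, 0, 6, 0], [1, 7, 1, 7, 5, 6, 0, 6, 0, 4]))) (BT.node 21 (BT.leaf (10, [7, 1, 7, 1, 7, 6, 6, 0, 6, 0], [1, 7, 1, 7, 7, 6, 0, 6, 0, 6])) (BT.leaf (10, [9, 1, 7, 1, 7, 8, 6, 0, 6, 0], [1, 7, 1, 7, 9, 6, 0, 6, 0, 8]))))) (BT.node 26 (BT.node 24 (BT.node 23 (BT.leaf (10, [11, 1, 7, 1, 7, 10, 6, 0, 6, 0], [1,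 7, 1, 7, 11, 6, 0, 6, 0, 10])) (BT.leaf (10, [1, 1, 9, 1, 9, 0, 8, 0, 8, 0], [1, 9, 1, 9, 1, 8, 0, 8, 0, 0]))) (BT.node 25 (BT.leaf (10, [3, 1, 9, 1, 9, 2, 8, 0, 8, 0], [1, 9, 1, 9, 3, 8, 0, 8, 0, 2])) (BT.leaf (10, [5, 1, 9, 1, 9, 4, 8, 0, 8, 0], [1, 9, 1, 9, 5, 8, 0, 8, 0, 4])))) (BT.node 28 (BT.node 27 (BT.leaf (10, [7, 1, 9, 1, 9, 6, 8, 0, 8, 0], [1, 9, 1, 9, 7, 8, 0, 8, 0, 6])) (BT.leaf (10, [9, 1, 9, 1, 9, 8, 8, 0, 8, 0], [1, 9, 1, 9, 9, 8, 0, 8, 0, 8]))) (BT.leaf (10, [11, 1, 9, 1, 9, 10, 8, 0, 8, 0], [1, 9, 1, 9, 11, 8, 0, 8, 0, 10])))))) (BT.node 44 (BT.node 37 (BT.node 33 (BT.node 31 (BT.node 30 (BT.leaf (10, [1, 1, 11, 1, 11, 0, 10, 0, 10, 0], [1, 11, 1, 11, 1, 10, 0, 10, 0, 0]))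 (BT.leaf (10, [3, 1, 11, 1, 11, 2, 10, 0, 10, 0], [1, 11, 1, 11, 3, 10, 0, 10, 0, 2]))) (BT.node 32 (BT.leaf (10, [5, 1, 11, 1, 11, 4, 10, 0, 10, 0], [1, 11, 1, 11, 5, 10, 0, 10, 0, 4])) (BT.leaf (10, [7, 1, 11, 1, 11, 6, 10, 0, 10, 0], [1, 11, 1, 11, 7, 10, 0, 10, 0, 6])))) (BT.node 35 (BT.node 34 (BT.leaf (10, [9, 1, 11, 1, 11, 8, 10, 0, 10, 0], [1, 11, 1, 11, 9, 10, 0, 10, 0, 8])) (BT.leaf (10, [11, 1, 11, 1, 11, 10, 10, 0, 10, 0], [1, 11, 1, 11, 11, 10, 0, 10, 0, 10]))) (BT.node 36 (BT.leaf (22, [1, 3, 1, 3, 1, 3, 1, 3, 1, 3, 1, 0, 0, 2, 0, 2, 0, 2, 0, 2, 0, 2], [3, 1, 3, 1, 3, 1, 3, 1, 3, 1, 1, 0, 2, 0, 2, 0, 2, 0, 2, 0, 2, 0])) (BT.leaf (22, [3, 3, 1, 3, 1, 3, 1, 3, 1, 3, 1, 2, 0, 2,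 0, 2, 0, 2, 0, 2, 0, 2], [3, 1, 3, 1, 3, 1, 3, 1, 3, 1, 3, 0, 2, 0, 2, 0, 2, 0, 2, 0, 2, 2]))))) (BT.node 41 (BT.node 39 (BT.node 38 (BT.leaf (22, [5, 3, 1, 3, 1, 3, 1, 3, 1, 3, 1, 4, 0, 2, 0, 2, 0, 2, 0, 2, 0, 2], [3, 1, 3, 1, 3, 1, 3, 1, 3, 1, 5, 0, 2, 0, 2, 0, 2, 0, 2, 0, 2, 4])) (BT.leaf (22, [7, 3, 1, 3, 1, 3, 1, 3, 1, 3, 1, 6, 0, 2, 0, 2, 0, 2, 0, 2, 0, 2], [3, 1, 3, 1, 3, 1, 3, 1, 3, 1, 7, 0, 2, 0, 2, 0, 2, 0, 2, 0, 2, 6]))) (BT.node 40 (BT.leaf (22, [9, 3, 1, 3, 1, 3, 1, 3, 1, 3, 1, 8, 0, 2, 0, 2, 0, 2, 0, 2, 0, 2], [3, 1, 3, 1, 3, 1, 3, 1, 3, 1, 9, 0, 2, 0, 2, 0, 2, 0, 2, 0, 2, 8])) (BT.leaf (22, [11, 3, 1, 3, 1, 3, 1, 3, 1, 3, 1, 10, 0, 2, 0, 2, 0, 2, 0, 2, 0, 2], [3, 1, 3, 1, 3,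 1, 3, 1, 3, 1, 11, 0, 2, 0, 2, 0, 2, 0, 2, 0, 2, 10])))) (BT.node 43 (BT.node 42 (BT.leaf (6, [1, 3, 3, 0, 2, 2], [3, 3, 1, 2, 2, 0])) (BT.leaf (6, [3, 3, 3, 2, 2, 2], [3, 3, 3, 2, 2, 2]))) (BT.leaf (6, [5, 3, 3, 4, 2, 2], [3, 3, 5, 2, 2, 4]))))) (BT.node 52 (BT.node 48 (BT.node 46 (BT.node 45 (BT.leaf (6, [7, 3, 3, 6, 2, 2], [3, 3, 7, 2, 2, 6])) (BT.leaf (6, [9, 3, 3, 8, 2, 2], [3, 3, 9, 2, 2, 8]))) (BT.node 47 (BT.leaf (6, [11, 3, 3, 10, 2, 2], [3, 3, 11, 2, 2, 10])) (BT.leaf (14, [1, 3, 5, 3, 5, 3, 5, 0, 4, 2, 4, 2, 4, 2], [3, 5, 3, 5, 3, 5, 1, 4, 2, 4, 2, 4, 2, 0])))) (BT.node 50 (BT.node 49 (BT.leaf (14, [3, 3, 5, 3, 5, 3, 5, 2, 4, 2, 4, 2, 4, 2], [3, 5, 3, 5, 3, 5, 3, 4, 2, 4, 2, 4, 2,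 2])) (BT.leaf (14, [5, 3, 5, 3, 5, 3, 5, 4, 4, 2, 4, 2, 4, 2], [3, 5, 3, 5, 3, 5, 5, 4, 2, 4, 2, 4, 2, 4]))) (BT.node 51 (BT.leaf (14, [7, 3, 5, 3, 5, 3, 5, 6, 4, 2, 4, 2, 4, 2], [3, 5, 3, 5, 3, 5, 7, 4, 2, 4, 2, 4, 2, 6])) (BT.leaf (14, [9, 3, 5, 3, 5, 3, 5, 8, 4, 2, 4, 2, 4, 2], [3, 5, 3, 5, 3, 5, 9, 4, 2, 4, 2, 4, 2, 8]))))) (BT.node 56 (BT.node 54 (BT.node 53 (BT.leaf (14, [11, 3, 5, 3, 5, 3, 5, 10, 4, 2, 4, 2, 4, 2], [3, 5, 3, 5, 3, 5, 11, 4, 2, 4, 2, 4, 2, 10])) (BT.leaf (10, [1, 3, 7, 3, 7, 0, 6, 2, 6, 2], [3, 7, 3, 7, 1, 6, 2, 6, 2, 0]))) (BT.node 55 (BT.leaf (10, [3, 3, 7, 3, 7, 2, 6, 2, 6, 2], [3, 7, 3, 7, 3, 6, 2, 6, 2, 2])) (BT.leaf (10, [5, 3, 7, 3, 7, 4, 6, 2, 6, 2], [3, 7, 3,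 7, 5, 6, 2, 6, 2, 4])))) (BT.node 58 (BT.node 57 (BT.leaf (10, [7, 3, 7, 3, 7, 6, 6, 2, 6, 2], [3, 7, 3, 7, 7, 6, 2, 6, 2, 6])) (BT.leaf (10, [9, 3, 7, 3, 7, 8, 6, 2, 6, 2], [3, 7, 3, 7, 9, 6, 2, 6, 2, 8]))) (BT.leaf (10, [11, 3, 7, 3, 7, 10, 6, 2, 6, 2], [3, 7, 3, 7, 11, 6, 2, 6, 2, 10]))))))) (BT.node 89 (BT.node 74 (BT.node 67 (BT.node 63 (BT.node 61 (BT.node 60 (BT.leaf (10, [1, 3, 9, 3, 9, 0, 8, 2, 8, 2], [3, 9, 3, 9, 1, 8, 2, 8, 2, 0])) (BT.leaf (10, [3, 3, 9, 3, 9, 2, 8, 2, 8, 2], [3, 9, 3, 9, 3, 8, 2, 8, 2, 2]))) (BT.node 62 (BT.leaf (10, [5, 3, 9, 3, 9, 4, 8, 2, 8, 2], [3, 9, 3, 9, 5, 8, 2, 8, 2, 4])) (BT.leaf (10, [7, 3, 9, 3, 9, 6, 8, 2, 8, 2], [3, 9, 3, 9, 7, 8, 2, 8, 2, 6]))))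 (BT.node 65 (BT.node 64 (BT.leaf (10, [9, 3, 9, 3, 9, 8, 8, 2, 8, 2], [3, 9, 3, 9, 9, 8, 2, 8, 2, 8])) (BT.leaf (10, [11, 3, 9, 3, 9, 10, 8, 2, 8, 2], [3, 9, 3, 9, 11, 8, 2, 8, 2, 10]))) (BT.node 66 (BT.leaf (14, [1, 3, 11, 3, 11, 3, 11, 0, 10, 2, 10, 2, 10, 2], [3, 11, 3, 11, 3, 11, 1, 10, 2, 10, 2, 10, 2, 0])) (BT.leaf (14, [3, 3, 11, 3, 11, 3, 11, 2, 10, 2, 10, 2, 10, 2], [3, 11, 3, 11, 3, 11, 3, 10, 2, 10, 2, 10, 2, 2]))))) (BT.node 71 (BT.node 69 (BT.node 68 (BT.leaf (14, [5, 3, 11, 3, 11, 3, 11, 4, 10, 2, 10, 2, 10, 2], [3, 11, 3, 11, 3, 11, 5, 10, 2, 10, 2, 10, 2, 4])) (BT.leaf (14, [7, 3, 11, 3, 11, 3, 11, 6, 10, 2, 10, 2, 10, 2], [3, 11, 3, 11, 3, 11, 7, 10, 2, 10, 2, 10, 2, 6])))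 (BT.node 70 (BT.leaf (14, [9, 3, 11, 3, 11, 3, 11, 8, 10, 2, 10, 2, 10, 2], [3, 11, 3, 11, 3, 11, 9, 10, 2, 10, 2, 10, 2, 8])) (BT.leaf (14, [11, 3, 11, 3, 11, 3, 11, 10, 10, 2, 10, 2, 10, 2], [3, 11, 3, 11, 3, 11, 11, 10, 2, 10, 2, 10, 2, 10])))) (BT.node 73 (BT.node 72 (BT.leaf (10, [1, 5, 1, 5, 1, 0, 0, 4, 0, 4], [5, 1, 5, 1, 1, 0, 4, 0, 4, 0])) (BT.leaf (10, [3, 5, 1, 5, 1, 2, 0, 4, 0, 4], [5, 1, 5, 1, 3, 0, 4, 0, 4, 2]))) (BT.leaf (10, [5, 5, 1, 5, 1, 4, 0, 4, 0, 4], [5, 1, 5, 1, 5, 0, 4, 0, 4, 4]))))) (BT.node 82 (BT.node 78 (BT.node 76 (BT.node 75 (BT.leaf (10, [7, 5, 1, 5, 1, 6, 0, 4, 0, 4], [5, 1, 5, 1, 7, 0, 4, 0, 4, 6])) (BT.leaf (10, [9, 5, 1, 5, 1, 8, 0, 4, 0, 4], [5, 1, 5, 1,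 9, 0, 4, 0, 4, 8]))) (BT.node 77 (BT.leaf (10, [11, 5, 1, 5, 1, 10, 0, 4, 0, 4], [5, 1, 5, 1, 11, 0, 4, 0, 4, 10])) (BT.leaf (14, [1, 5, 3, 5, 3, 5, 3, 0, 2, 4, 2, 4, 2, 4], [5, 3, 5, 3, 5, 3, 1, 2, 4, 2, 4, 2, 4, 0])))) (BT.node 80 (BT.node 79 (BT.leaf (14, [3, 5, 3, 5, 3, 5, 3, 2, 2, 4, 2, 4, 2, 4], [5, 3, 5, 3, 5, 3, 3, 2, 4, 2, 4, 2, 4, 2])) (BT.leaf (14, [5, 5, 3, 5, 3, 5, 3, 4, 2, 4, 2, 4, 2, 4], [5, 3, 5, 3, 5, 3, 5, 2, 4, 2, 4, 2, 4, 4]))) (BT.node 81 (BT.leaf (14, [7, 5, 3, 5, 3, 5, 3, 6, 2, 4, 2, 4, 2, 4], [5, 3, 5, 3, 5, 3, 7, 2, 4, 2, 4, 2, 4, 6])) (BT.leaf (14, [9, 5, 3, 5, 3, 5, 3, 8, 2, 4, 2, 4, 2, 4], [5, 3, 5, 3, 5, 3, 9, 2, 4, 2, 4, 2, 4, 8]))))) (BT.node 86 (BT.node 84 (BT.node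 83 (BT.leaf (14, [11, 5, 3, 5, 3, 5, 3, 10, 2, 4, 2, 4, 2, 4], [5, 3, 5, 3, 5, 3, 11, 2, 4, 2, 4, 2, 4, 10])) (BT.leaf (6, [1, 5, 5, 0, 4, 4], [5, 5, 1, 4, 4, 0]))) (BT.node 85 (BT.leaf (6, [3, 5, 5, 2, 4, 4], [5, 5, 3, 4, 4, 2])) (BT.leaf (6, [5, 5, 5, 4, 4, 4], [5, 5, 5, 4, 4, 4])))) (BT.node 88 (BT.node 87 (BT.leaf (6, [7, 5, 5, 6, 4, 4], [5, 5, 7, 4, 4, 6])) (BT.leaf (6, [9, 5, 5, 8, 4, 4], [5, 5, 9, 4, 4, 8]))) (BT.leaf (6, [11, 5, 5, 10, 4, 4], [5, 5, 11, 4, 4, 10])))))) (BT.node 104 (BT.node 97 (BT.node 93 (BT.node 91 (BT.node 90 (BT.leaf (34, [1, 5, 7, 5, 7, 5, 7, 5, 7, 5, 7, 5, 7, 5, 7, 5, 7, 0, 6, 4, 6, 4, 6, 4, 6, 4, 6, 4, 6, 4, 6, 4, 6, 4], [5, 7, 5, 7, 5, 7, 5, 7, 5, 7, 5, 7, 5,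 7, 5, 7, 1, 6, 4, 6, 4, 6, 4, 6, 4, 6, 4, 6, 4, 6, 4, 6, 4, 0])) (BT.leaf (34, [3, 5, 7, 5, 7, 5, 7, 5, 7, 5, 7, 5, 7, 5, 7, 5, 7, 2, 6, 4, 6, 4, 6, 4, 6, 4, 6, 4, 6, 4, 6, 4, 6, 4], [5, 7, 5, 7, 5, 7, 5, 7, 5, 7, 5, 7, 5, 7, 5, 7, 3, 6, 4, 6, 4, 6, 4, 6, 4, 6, 4, 6, 4, 6, 4, 6, 4, 2]))) (BT.node 92 (BT.leaf (34, [5, 5, 7, 5, 7, 5, 7, 5, 7, 5, 7, 5, 7, 5, 7, 5, 7, 4, 6, 4, 6, 4, 6, 4, 6, 4, 6, 4, 6, 4, 6, 4, 6, 4], [5, 7, 5, 7, 5, 7, 5, 7, 5, 7, 5, 7, 5, 7, 5, 7, 5, 6, 4, 6, 4, 6, 4, 6, 4, 6, 4, 6, 4, 6, 4, 6, 4, 4])) (BT.leaf (34, [7, 5, 7, 5, 7, 5, 7, 5, 7, 5, 7, 5, 7, 5, 7, 5, 7, 6, 6, 4, 6, 4, 6, 4, 6, 4, 6, 4, 6, 4, 6, 4, 6, 4], [5, 7, 5, 7, 5, 7, 5, 7, 5, 7, 5, 7, 5, 7, 5, 7, 7, 6, 4,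 6, 4, 6, 4, 6, 4, 6, 4, 6, 4, 6, 4, 6, 4, 6])))) (BT.node 95 (BT.node 94 (BT.leaf (34, [9, 5, 7, 5, 7, 5, 7, 5, 7, 5, 7, 5, 7, 5, 7, 5, 7, 8, 6, 4, 6, 4, 6, 4, 6, 4, 6, 4, 6, 4, 6, 4, 6, 4], [5, 7, 5, 7, 5, 7, 5, 7, 5, 7, 5, 7, 5, 7, 5, 7, 9, 6, 4, 6, 4, 6, 4, 6, 4, 6, 4, 6, 4, 6, 4, 6, 4, 8])) (BT.leaf (34, [11, 5, 7, 5, 7, 5, 7, 5, 7, 5, 7, 5, 7, 5, 7, 5, 7, 10, 6, 4, 6, 4, 6, 4, 6, 4, 6, 4, 6, 4, 6, 4, 6, 4], [5, 7, 5, 7, 5, 7, 5, 7, 5, 7, 5, 7, 5, 7, 5, 7, 11, 6, 4, 6, 4, 6, 4, 6, 4, 6, 4, 6, 4, 6, 4, 6, 4, 10]))) (BT.node 96 (BT.leaf (10, [1, 5, 9, 5, 9, 0, 8, 4, 8, 4], [5, 9, 5, 9, 1, 8, 4, 8, 4, 0])) (BT.leaf (10, [3, 5, 9, 5, 9, 2, 8, 4, 8, 4], [5, 9, 5, 9, 3, 8, 4, 8, 4, 2]))))) (BT.node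 101 (BT.node 99 (BT.node 98 (BT.leaf (10, [5, 5, 9, 5, 9, 4, 8, 4, 8, 4], [5, 9, 5, 9, 5, 8, 4, 8, 4, 4])) (BT.leaf (10, [7, 5, 9, 5, 9, 6, 8, 4, 8, 4], [5, 9, 5, 9, 7, 8, 4, 8, 4, 6]))) (BT.node 100 (BT.leaf (10, [9, 5, 9, 5, 9, 8, 8, 4, 8, 4], [5, 9, 5, 9, 9, 8, 4, 8, 4, 8])) (BT.leaf (10, [11, 5, 9, 5, 9, 10, 8, 4, 8, 4], [5, 9, 5, 9, 11, 8, 4, 8, 4, 10])))) (BT.node 103 (BT.node 102 (BT.leaf (10, [1, 5, 11, 5, 11, 0, 10, 4, 10, 4], [5, 11, 5, 11, 1, 10, 4, 10, 4, 0])) (BT.leaf (10, [3, 5, 11, 5, 11, 2, 10, 4, 10, 4], [5, 11, 5, 11, 3, 10, 4, 10, 4, 2]))) (BT.leaf (10, [5, 5, 11, 5, 11, 4, 10, 4, 10, 4], [5, 11, 5, 11, 5, 10, 4, 10, 4, 4]))))) (BT.node 112 (BT.node 108 (BT.node 106 (BT.node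 105 (BT.leaf (10, [7, 5, 11, 5, 11, 6, 10, 4, 10, 4], [5, 11, 5, 11, 7, 10, 4, 10, 4, 6])) (BT.leaf (10, [9, 5, 11, 5, 11, 8, 10, 4, 10, 4], [5, 11, 5, 11, 9, 10, 4, 10, 4, 8]))) (BT.node 107 (BT.leaf (10, [11, 5, 11, 5, 11, 10, 10, 4, 10, 4], [5, 11, 5, 11, 11, 10, 4, 10, 4, 10])) (BT.leaf (10, [1, 7, 1, 7, 1, 0, 0, 6, 0, 6], [7, 1, 7, 1, 1, 0, 6, 0, 6, 0])))) (BT.node 110 (BT.node 109 (BT.leaf (10, [3, 7, 1, 7, 1, 2, 0, 6, 0, 6], [7, 1, 7, 1, 3, 0, 6, 0, 6, 2])) (BT.leaf (10, [5, 7, 1, 7, 1, 4, 0, 6, 0, 6], [7, 1, 7, 1, 5, 0, 6, 0, 6, 4]))) (BT.node 111 (BT.leaf (10, [7, 7, 1, 7, 1, 6, 0, 6, 0, 6], [7, 1, 7, 1, 7, 0, 6, 0, 6, 6])) (BT.leaf (10, [9, 7, 1, 7, 1, 8, 0, 6, 0, 6], [7, 1, 7, 1,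 9, 0, 6, 0, 6, 8]))))) (BT.node 116 (BT.node 114 (BT.node 113 (BT.leaf (10, [11, 7, 1, 7, 1, 10, 0, 6, 0, 6], [7, 1, 7, 1, 11, 0, 6, 0, 6, 10])) (BT.leaf (10, [1, 7, 3, 7, 3, 0, 2, 6, 2, 6], [7, 3, 7, 3, 1, 2, 6, 2, 6, 0]))) (BT.node 115 (BT.leaf (10, [3, 7, 3, 7, 3, 2, 2, 6, 2, 6], [7, 3, 7, 3, 3, 2, 6, 2, 6, 2])) (BT.leaf (10, [5, 7, 3, 7, 3, 4, 2, 6, 2, 6], [7, 3, 7, 3, 5, 2, 6, 2, 6, 4])))) (BT.node 118 (BT.node 117 (BT.leaf (10, [7, 7, 3, 7, 3, 6, 2, 6, 2, 6], [7, 3, 7, 3, 7, 2, 6, 2, 6, 6])) (BT.leaf (10, [9, 7, 3, 7, 3, 8, 2, 6, 2, 6], [7, 3, 7, 3, 9, 2, 6, 2, 6, 8]))) (BT.leaf (10, [11, 7, 3, 7, 3, 10, 2, 6, 2, 6], [7, 3, 7, 3, 11, 2, 6, 2, 6, 10])))))))) (BT.node 179 (BT.node 149 (BT.node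 134 (BT.node 127 (BT.node 123 (BT.node 121 (BT.node 120 (BT.leaf (34, [1, 7, 5, 7, 5, 7, 5, 7, 5, 7, 5, 7, 5, 7, 5, 7, 5, 0, 4, 6, 4, 6, 4, 6, 4, 6, 4, 6, 4, 6, 4, 6, 4, 6], [7, 5, 7, 5, 7, 5, 7, 5, 7, 5, 7, 5, 7, 5, 7, 5, 1, 4, 6, 4, 6, 4, 6, 4, 6, 4, 6, 4, 6, 4, 6, 4, 6, 0])) (BT.leaf (34, [3, 7, 5, 7, 5, 7, 5, 7, 5, 7, 5, 7, 5, 7, 5, 7, 5, 2, 4, 6, 4, 6, 4, 6, 4, 6, 4, 6, 4, 6, 4, 6, 4, 6], [7, 5, 7, 5, 7, 5, 7, 5, 7, 5, 7, 5, 7, 5, 7, 5, 3, 4, 6, 4, 6, 4, 6, 4, 6, 4, 6, 4, 6, 4, 6, 4, 6, 2]))) (BT.node 122 (BT.leaf (34, [5, 7, 5, 7, 5, 7, 5, 7, 5, 7, 5, 7, 5, 7, 5, 7, 5, 4, 4, 6, 4, 6, 4, 6, 4, 6, 4, 6, 4, 6, 4, 6, 4, 6], [7, 5, 7, 5, 7, 5, 7, 5, 7, 5, 7, 5, 7, 5, 7, 5, 5, 4, 6, 4, 6, 4,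 6, 4, 6, 4, 6, 4, 6, 4, 6, 4, 6, 4])) (BT.leaf (34, [7, 7, 5, 7, 5, 7, 5, 7, 5, 7, 5, 7, 5, 7, 5, 7, 5, 6, 4, 6, 4, 6, 4, 6, 4, 6, 4, 6, 4, 6, 4, 6, 4, 6], [7, 5, 7, 5, 7, 5, 7, 5, 7, 5, 7, 5, 7, 5, 7, 5, 7, 4, 6, 4, 6, 4, 6, 4, 6, 4, 6, 4, 6, 4, 6, 4, 6, 6])))) (BT.node 125 (BT.node 124 (BT.leaf (34, [9, 7, 5, 7, 5, 7, 5, 7, 5, 7, 5, 7, 5, 7, 5, 7, 5, 8, 4, 6, 4, 6, 4, 6, 4, 6, 4, 6, 4, 6, 4, 6, 4, 6], [7, 5, 7, 5, 7, 5, 7, 5, 7, 5, 7, 5, 7, 5, 7, 5, 9, 4, 6, 4, 6, 4, 6, 4, 6, 4, 6, 4, 6, 4, 6, 4, 6, 8])) (BT.leaf (34, [11, 7, 5, 7, 5, 7, 5, 7, 5, 7, 5, 7, 5, 7, 5, 7, 5, 10, 4, 6, 4, 6, 4, 6, 4, 6, 4, 6, 4, 6, 4, 6, 4, 6], [7, 5, 7, 5, 7, 5, 7, 5, 7, 5, 7, 5, 7, 5, 7, 5, 11, 4, 6, 4, 6, 4,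 6, 4, 6, 4, 6, 4, 6, 4, 6, 4, 6, 10]))) (BT.node 126 (BT.leaf (6, [1, 7, 7, 0, 6, 6], [7, 7, 1, 6, 6, 0])) (BT.leaf (6, [3, 7, 7, 2, 6, 6], [7, 7, 3, 6, 6, 2]))))) (BT.node 131 (BT.node 129 (BT.node 128 (BT.leaf (6, [5, 7, 7, 4, 6, 6], [7, 7, 5, 6, 6, 4])) (BT.leaf (6, [7, 7, 7, 6, 6, 6], [7, 7, 7, 6, 6, 6]))) (BT.node 130 (BT.leaf (6, [9, 7, 7, 8, 6, 6], [7, 7, 9, 6, 6, 8])) (BT.leaf (6, [11, 7, 7, 10, 6, 6], [7, 7, 11, 6, 6, 10])))) (BT.node 133 (BT.node 132 (BT.leaf (14, [1, 7, 9, 7, 9, 7, 9, 0, 8, 6, 8, 6, 8, 6], [7, 9, 7, 9, 7, 9, 1, 8, 6, 8, 6, 8, 6, 0])) (BT.leaf (14, [3, 7, 9, 7, 9, 7, 9, 2, 8, 6, 8, 6, 8, 6], [7, 9, 7, 9, 7, 9, 3, 8, 6, 8, 6, 8, 6, 2]))) (BT.leaf (14, [5, 7, 9, 7,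 9, 7, 9, 4, 8, 6, 8, 6, 8, 6], [7, 9, 7, 9, 7, 9, 5, 8, 6, 8, 6, 8, 6, 4]))))) (BT.node 142 (BT.node 138 (BT.node 136 (BT.node 135 (BT.leaf (14, [7, 7, 9, 7, 9, 7, 9, 6, 8, 6, 8, 6, 8, 6], [7, 9, 7, 9, 7, 9, 7, 8, 6, 8, 6, 8, 6, 6])) (BT.leaf (14, [9, 7, 9, 7, 9, 7, 9, 8, 8, 6, 8, 6, 8, 6], [7, 9, 7, 9, 7, 9, 9, 8, 6, 8, 6, 8, 6, 8]))) (BT.node 137 (BT.leaf (14, [11, 7, 9, 7, 9, 7, 9, 10, 8, 6, 8, 6, 8, 6], [7, 9, 7, 9, 7, 9, 11, 8, 6, 8, 6, 8, 6, 10])) (BT.leaf (10, [1, 7, 11, 7, 11, 0, 10, 6, 10, 6], [7, 11, 7, 11, 1, 10, 6, 10, 6, 0])))) (BT.node 140 (BT.node 139 (BT.leaf (10, [3, 7, 11, 7, 11, 2, 10, 6, 10, 6], [7, 11, 7, 11, 3, 10, 6, 10, 6, 2])) (BT.leaf (10, [5, 7, 11, 7, 11, 4, 10,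 6, 10, 6], [7, 11, 7, 11, 5, 10, 6, 10, 6, 4]))) (BT.node 141 (BT.leaf (10, [7, 7, 11, 7, 11, 6, 10, 6, 10, 6], [7, 11, 7, 11, 7, 10, 6, 10, 6, 6])) (BT.leaf (10, [9, 7, 11, 7, 11, 8, 10, 6, 10, 6], [7, 11, 7, 11, 9, 10, 6, 10, 6, 8]))))) (BT.node 146 (BT.node 144 (BT.node 143 (BT.leaf (10, [11, 7, 11, 7, 11, 10, 10, 6, 10, 6], [7, 11, 7, 11, 11, 10, 6, 10, 6, 10])) (BT.leaf (10, [1, 9, 1, 9, 1, 0, 0, 8, 0, 8], [9, 1, 9, 1, 1, 0, 8, 0, 8, 0]))) (BT.node 145 (BT.leaf (10, [3, 9, 1, 9, 1, 2, 0, 8, 0, 8], [9, 1, 9, 1, 3, 0, 8, 0, 8, 2])) (BT.leaf (10, [5, 9, 1, 9, 1, 4, 0, 8, 0, 8], [9, 1, 9, 1, 5, 0, 8, 0, 8, 4])))) (BT.node 148 (BT.node 147 (BT.leaf (10, [7, 9, 1, 9, 1, 6, 0, 8, 0, 8], [9, 1,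 9, 1, 7, 0, 8, 0, 8, 6])) (BT.leaf (10, [9, 9, 1, 9, 1, 8, 0, 8, 0, 8], [9, 1, 9, 1, 9, 0, 8, 0, 8, 8]))) (BT.leaf (10, [11, 9, 1, 9, 1, 10, 0, 8, 0, 8], [9, 1, 9, 1, 11, 0, 8, 0, 8, 10])))))) (BT.node 164 (BT.node 157 (BT.node 153 (BT.node 151 (BT.node 150 (BT.leaf (10, [1, 9, 3, 9, 3, 0, 2, 8, 2, 8], [9, 3, 9, 3, 1, 2, 8, 2, 8, 0])) (BT.leaf (10, [3, 9, 3, 9, 3, 2, 2, 8, 2, 8], [9, 3, 9, 3, 3, 2, 8, 2, 8, 2]))) (BT.node 152 (BT.leaf (10, [5, 9, 3, 9, 3, 4, 2, 8, 2, 8], [9, 3, 9, 3, 5, 2, 8, 2, 8, 4])) (BT.leaf (10, [7, 9, 3, 9, 3, 6, 2, 8, 2, 8], [9, 3, 9, 3, 7, 2, 8, 2, 8, 6])))) (BT.node 155 (BT.node 154 (BT.leaf (10, [9, 9, 3, 9, 3, 8, 2, 8, 2, 8], [9, 3, 9, 3, 9, 2, 8, 2, 8, 8])) (BT.leaf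 (10, [11, 9, 3, 9, 3, 10, 2, 8, 2, 8], [9, 3, 9, 3, 11, 2, 8, 2, 8, 10]))) (BT.node 156 (BT.leaf (10, [1, 9, 5, 9, 5, 0, 4, 8, 4, 8], [9, 5, 9, 5, 1, 4, 8, 4, 8, 0])) (BT.leaf (10, [3, 9, 5, 9, 5, 2, 4, 8, 4, 8], [9, 5, 9, 5, 3, 4, 8, 4, 8, 2]))))) (BT.node 161 (BT.node 159 (BT.node 158 (BT.leaf (10, [5, 9, 5, 9, 5, 4, 4, 8, 4, 8], [9, 5, 9, 5, 5, 4, 8, 4, 8, 4])) (BT.leaf (10, [7, 9, 5, 9, 5, 6, 4, 8, 4, 8], [9, 5, 9, 5, 7, 4, 8, 4, 8, 6]))) (BT.node 160 (BT.leaf (10, [9, 9, 5, 9, 5, 8, 4, 8, 4, 8], [9, 5, 9, 5, 9, 4, 8, 4, 8, 8])) (BT.leaf (10, [11, 9, 5, 9, 5, 10, 4, 8, 4, 8], [9, 5, 9, 5, 11, 4, 8, 4, 8, 10])))) (BT.node 163 (BT.node 162 (BT.leaf (14, [1, 9, 7, 9, 7, 9, 7, 0, 6, 8, 6, 8,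 6, 8], [9, 7, 9, 7, 9, 7, 1, 6, 8, 6, 8, 6, 8, 0])) (BT.leaf (14, [3, 9, 7, 9, 7, 9, 7, 2, 6, 8, 6, 8, 6, 8], [9, 7, 9, 7, 9, 7, 3, 6, 8, 6, 8, 6, 8, 2]))) (BT.leaf (14, [5, 9, 7, 9, 7, 9, 7, 4, 6, 8, 6, 8, 6, 8], [9, 7, 9, 7, 9, 7, 5, 6, 8, 6, 8, 6, 8, 4]))))) (BT.node 172 (BT.node 168 (BT.node 166 (BT.node 165 (BT.leaf (14, [7, 9, 7, 9, 7, 9, 7, 6, 6, 8, 6, 8, 6, 8], [9, 7, 9, 7, 9, 7, 7, 6, 8, 6, 8, 6, 8, 6])) (BT.leaf (14, [9, 9, 7, 9, 7, 9, 7, 8, 6, 8, 6, 8, 6, 8], [9, 7, 9, 7, 9, 7, 9, 6, 8, 6, 8, 6, 8, 8]))) (BT.node 167 (BT.leaf (14, [11, 9, 7, 9, 7, 9, 7, 10, 6, 8, 6, 8, 6, 8], [9, 7, 9, 7, 9, 7, 11, 6, 8, 6, 8, 6, 8, 10])) (BT.leaf (6, [1, 9, 9, 0, 8, 8], [9, 9, 1, 8, 8, 0])))) (BT.node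 170 (BT.node 169 (BT.leaf (6, [3, 9, 9, 2, 8, 8], [9, 9, 3, 8, 8, 2])) (BT.leaf (6, [5, 9, 9, 4, 8, 8], [9, 9, 5, 8, 8, 4]))) (BT.node 171 (BT.leaf (6, [7, 9, 9, 6, 8, 8], [9, 9, 7, 8, 8, 6])) (BT.leaf (6, [9, 9, 9, 8, 8, 8], [9, 9, 9, 8, 8, 8]))))) (BT.node 176 (BT.node 174 (BT.node 173 (BT.leaf (6, [11, 9, 9, 10, 8, 8], [9, 9, 11, 8, 8, 10])) (BT.leaf (10, [1, 9, 11, 9, 11, 0, 10, 8, 10, 8], [9, 11, 9, 11, 1, 10, 8, 10, 8, 0]))) (BT.node 175 (BT.leaf (10, [3, 9, 11, 9, 11, 2, 10, 8, 10, 8], [9, 11, 9, 11, 3, 10, 8, 10, 8, 2])) (BT.leaf (10, [5, 9, 11, 9, 11, 4, 10, 8, 10, 8], [9, 11, 9, 11, 5, 10, 8, 10, 8, 4])))) (BT.node 178 (BT.node 177 (BT.leaf (10, [7, 9, 11, 9, 11, 6, 10, 8, 10, 8],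 [9, 11, 9, 11, 7, 10, 8, 10, 8, 6])) (BT.leaf (10, [9, 9, 11, 9, 11, 8, 10, 8, 10, 8], [9, 11, 9, 11, 9, 10, 8, 10, 8, 8]))) (BT.leaf (10, [11, 9, 11, 9, 11, 10, 10, 8, 10, 8], [9, 11, 9, 11, 11, 10, 8, 10, 8, 10]))))))) (BT.node 209 (BT.node 194 (BT.node 187 (BT.node 183 (BT.node 181 (BT.node 180 (BT.leaf (10, [1, 11, 1, 11, 1, 0, 0, 10, 0, 10], [11, 1, 11, 1, 1, 0, 10, 0, 10, 0])) (BT.leaf (10, [3, 11, 1, 11, 1, 2, 0, 10, 0, 10], [11, 1, 11, 1, 3, 0, 10, 0, 10, 2]))) (BT.node 182 (BT.leaf (10, [5, 11, 1, 11, 1, 4, 0, 10, 0, 10], [11, 1, 11, 1, 5, 0, 10, 0, 10, 4])) (BT.leaf (10, [7, 11, 1, 11, 1, 6, 0, 10, 0, 10], [11, 1, 11, 1, 7, 0, 10, 0, 10, 6])))) (BT.node 185 (BT.node 184 (BT.leaf (10,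 [9, 11, 1, 11, 1, 8, 0, 10, 0, 10], [11, 1, 11, 1, 9, 0, 10, 0, 10, 8])) (BT.leaf (10, [11, 11, 1, 11, 1, 10, 0, 10, 0, 10], [11, 1, 11, 1, 11, 0, 10, 0, 10, 10]))) (BT.node 186 (BT.leaf (14, [1, 11, 3, 11, 3, 11, 3, 0, 2, 10, 2, 10, 2, 10], [11, 3, 11, 3, 11, 3, 1, 2, 10, 2, 10, 2, 10, 0])) (BT.leaf (14, [3, 11, 3, 11, 3, 11, 3, 2, 2, 10, 2, 10, 2, 10], [11, 3, 11, 3, 11, 3, 3, 2, 10, 2, 10, 2, 10, 2]))))) (BT.node 191 (BT.node 189 (BT.node 188 (BT.leaf (14, [5, 11, 3, 11, 3, 11, 3, 4, 2, 10, 2, 10, 2, 10], [11, 3, 11, 3, 11, 3, 5, 2, 10, 2, 10, 2, 10, 4])) (BT.leaf (14, [7, 11, 3, 11, 3, 11, 3, 6, 2, 10, 2, 10, 2, 10], [11, 3, 11, 3, 11, 3, 7, 2, 10, 2, 10, 2, 10, 6]))) (BT.node 190 (BT.leaf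 (14, [9, 11, 3, 11, 3, 11, 3, 8, 2, 10, 2, 10, 2, 10], [11, 3, 11, 3, 11, 3, 9, 2, 10, 2, 10, 2, 10, 8])) (BT.leaf (14, [11, 11, 3, 11, 3, 11, 3, 10, 2, 10, 2, 10, 2, 10], [11, 3, 11, 3, 11, 3, 11, 2, 10, 2, 10, 2, 10, 10])))) (BT.node 193 (BT.node 192 (BT.leaf (10, [1, 11, 5, 11, 5, 0, 4, 10, 4, 10], [11, 5, 11, 5, 1, 4, 10, 4, 10, 0])) (BT.leaf (10, [3, 11, 5, 11, 5, 2, 4, 10, 4, 10], [11, 5, 11, 5, 3, 4, 10, 4, 10, 2]))) (BT.leaf (10, [5, 11, 5, 11, 5, 4, 4, 10, 4, 10], [11, 5, 11, 5, 5, 4, 10, 4, 10, 4]))))) (BT.node 202 (BT.node 198 (BT.node 196 (BT.node 195 (BT.leaf (10, [7, 11, 5, 11, 5, 6, 4, 10, 4, 10], [11, 5, 11, 5, 7, 4, 10, 4, 10, 6])) (BT.leaf (10, [9, 11, 5, 11, 5, 8, 4, 10,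 4, 10], [11, 5, 11, 5, 9, 4, 10, 4, 10, 8]))) (BT.node 197 (BT.leaf (10, [11, 11, 5, 11, 5, 10, 4, 10, 4, 10], [11, 5, 11, 5, 11, 4, 10, 4, 10, 10])) (BT.leaf (10, [1, 11, 7, 11, 7, 0, 6, 10, 6, 10], [11, 7, 11, 7, 1, 6, 10, 6, 10, 0])))) (BT.node 200 (BT.node 199 (BT.leaf (10, [3, 11, 7, 11, 7, 2, 6, 10, 6, 10], [11, 7, 11, 7, 3, 6, 10, 6, 10, 2])) (BT.leaf (10, [5, 11, 7, 11, 7, 4, 6, 10, 6, 10], [11, 7, 11, 7, 5, 6, 10, 6, 10, 4]))) (BT.node 201 (BT.leaf (10, [7, 11, 7, 11, 7, 6, 6, 10, 6, 10], [11, 7, 11, 7, 7, 6, 10, 6, 10, 6])) (BT.leaf (10, [9, 11, 7, 11, 7, 8, 6, 10, 6, 10], [11, 7, 11, 7, 9, 6, 10, 6, 10, 8]))))) (BT.node 206 (BT.node 204 (BT.node 203 (BT.leaf (10, [11, 11, 7, 11,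 7, 10, 6, 10, 6, 10], [11, 7, 11, 7, 11, 6, 10, 6, 10, 10])) (BT.leaf (10, [1, 11, 9, 11, 9, 0, 8, 10, 8, 10], [11, 9, 11, 9, 1, 8, 10, 8, 10, 0]))) (BT.node 205 (BT.leaf (10, [3, 11, 9, 11, 9, 2, 8, 10, 8, 10], [11, 9, 11, 9, 3, 8, 10, 8, 10, 2])) (BT.leaf (10, [5, 11, 9, 11, 9, 4, 8, 10, 8, 10], [11, 9, 11, 9, 5, 8, 10, 8, 10, 4])))) (BT.node 208 (BT.node 207 (BT.leaf (10, [7, 11, 9, 11, 9, 6, 8, 10, 8, 10], [11, 9, 11, 9, 7, 8, 10, 8, 10, 6])) (BT.leaf (10, [9, 11, 9, 11, 9, 8, 8, 10, 8, 10], [11, 9, 11, 9, 9, 8, 10, 8, 10, 8]))) (BT.leaf (10, [11, 11, 9, 11, 9, 10, 8, 10, 8, 10], [11, 9, 11, 9, 11, 8, 10, 8, 10, 10])))))) (BT.node 224 (BT.node 217 (BT.node 213 (BT.node 211 (BT.node 210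 (BT.leaf (6, [1, 11, 11, 0, 10, 10], [11, 11, 1, 10, 10, 0])) (BT.leaf (6, [3, 11, 11, 2, 10, 10], [11, 11, 3, 10, 10, 2]))) (BT.node 212 (BT.leaf (6, [5, 11, 11, 4, 10, 10], [11, 11, 5, 10, 10, 4])) (BT.leaf (6, [7, 11, 11, 6, 10, 10], [11, 11, 7, 10, 10, 6])))) (BT.node 215 (BT.node 214 (BT.leaf (6, [9, 11, 11, 8, 10, 10], [11, 11, 9, 10, 10, 8])) (BT.leaf (6, [11, 11, 11, 10, 10, 10], [11, 11, 11, 10, 10, 10]))) (BT.node 216 (BT.leaf (20, [1, 1, 6, 4, 6, 4, 6, 4, 6, 4, 0, 5, 7, 5, 7, 5, 7, 5, 7, 0], [1, 6, 4, 6, 4, 6, 4, 6, 4, 1, 5, 7, 5, 7, 5, 7, 5, 7, 0, 0])) (BT.leaf (20, [3, 1, 6, 4, 6, 4, 6, 4, 6, 4, 2, 5, 7, 5, 7, 5, 7, 5, 7, 0], [1, 6, 4, 6, 4, 6, 4, 6, 4, 3, 5, 7, 5, 7, 5, 7, 5,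 7, 0, 2]))))) (BT.node 221 (BT.node 219 (BT.node 218 (BT.leaf (20, [5, 1, 6, 4, 6, 4, 6, 4, 6, 4, 4, 5, 7, 5, 7, 5, 7, 5, 7, 0], [1, 6, 4, 6, 4, 6, 4, 6, 4, 5, 5, 7, 5, 7, 5, 7, 5, 7, 0, 4])) (BT.leaf (20, [7, 1, 6, 4, 6, 4, 6, 4, 6, 4, 6, 5, 7, 5, 7, 5, 7, 5, 7, 0], [1, 6, 4, 6, 4, 6, 4, 6, 4, 7, 5, 7, 5, 7, 5, 7, 5, 7, 0, 6]))) (BT.node 220 (BT.leaf (20, [9, 1, 6, 4, 6, 4, 6, 4, 6, 4, 8, 5, 7, 5, 7, 5, 7, 5, 7, 0], [1, 6, 4, 6, 4, 6, 4, 6, 4, 9, 5, 7, 5, 7, 5, 7, 5, 7, 0, 8])) (BT.leaf (20, [11, 1, 6, 4, 6, 4, 6, 4, 6, 4, 10, 5, 7, 5, 7, 5, 7, 5, 7, 0], [1, 6, 4, 6, 4, 6, 4, 6, 4, 11, 5, 7, 5, 7, 5, 7, 5, 7, 0, 10])))) (BT.node 223 (BT.node 222 (BT.leaf (42, [1, 1, 3, 5, 11, 1, 3, 5, 11,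 1, 3, 5, 11, 1, 3, 5, 11, 1, 3, 5, 11, 0, 10, 4, 2, 0, 10, 4, 2, 0, 10, 4, 2, 0, 10, 4, 2, 0, 10, 4, 2, 0], [1, 3, 5, 11, 1, 3, 5, 11, 1, 3, 5, 11, 1, 3, 5, 11, 1, 3, 5, 11, 1, 10, 4, 2, 0, 10, 4, 2, 0, 10, 4, 2, 0, 10, 4, 2, 0, 10, 4, 2, 0, 0])) (BT.leaf (42, [3, 1, 3, 5, 11, 1, 3, 5, 11, 1, 3, 5, 11, 1, 3, 5, 11, 1, 3, 5, 11, 2, 10, 4, 2, 0, 10, 4, 2, 0, 10, 4, 2, 0, 10, 4, 2, 0, 10, 4, 2, 0], [1, 3, 5, 11, 1, 3, 5, 11, 1, 3, 5, 11, 1, 3, 5, 11, 1, 3, 5, 11, 3, 10, 4, 2, 0, 10, 4, 2, 0, 10, 4, 2, 0, 10, 4, 2, 0, 10, 4, 2, 0, 2]))) (BT.leaf (42, [5, 1, 3, 5, 11, 1, 3, 5, 11, 1, 3, 5, 11, 1, 3, 5, 11, 1, 3, 5, 11, 4, 10, 4, 2, 0, 10, 4, 2, 0, 10, 4, 2, 0, 10, 4, 2, 0, 10, 4, 2, 0], [1, 3, 5,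 11, 1, 3, 5, 11, 1, 3, 5, 11, 1, 3, 5, 11, 1, 3, 5, 11, 5, 10, 4, 2, 0, 10, 4, 2, 0, 10, 4, 2, 0, 10, 4, 2, 0, 10, 4, 2, 0, 4]))))) (BT.node 232 (BT.node 228 (BT.node 226 (BT.node 225 (BT.leaf (42, [7, 1, 3, 5, 11, 1, 3, 5, 11, 1, 3, 5, 11, 1, 3, 5, 11, 1, 3, 5, 11, 6, 10, 4, 2, 0, 10, 4, 2, 0, 10, 4, 2, 0, 10, 4, 2, 0, 10, 4, 2, 0], [1, 3, 5, 11, 1, 3, 5, 11, 1, 3, 5, 11, 1, 3, 5, 11, 1, 3, 5, 11, 7, 10, 4, 2, 0, 10, 4, 2, 0, 10, 4, 2, 0, 10, 4, 2, 0, 10, 4, 2, 0, 6])) (BT.leaf (42, [9, 1, 3, 5, 11, 1, 3, 5, 11, 1, 3, 5, 11, 1, 3, 5, 11, 1, 3, 5, 11, 8, 10, 4, 2, 0, 10, 4, 2, 0, 10, 4, 2, 0, 10, 4, 2, 0, 10, 4, 2, 0], [1, 3, 5, 11, 1, 3, 5, 11, 1, 3, 5, 11, 1, 3, 5, 11, 1, 3, 5, 11, 9, 10,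 4, 2, 0, 10, 4, 2, 0, 10, 4, 2, 0, 10, 4, 2, 0, 10, 4, 2, 0, 8]))) (BT.node 227 (BT.leaf (42, [11, 1, 3, 5, 11, 1, 3, 5, 11, 1, 3, 5, 11, 1, 3, 5, 11, 1, 3, 5, 11, 10, 10, 4, 2, 0, 10, 4, 2, 0, 10, 4, 2, 0, 10, 4, 2, 0, 10, 4, 2, 0], [1, 3, 5, 11, 1, 3, 5, 11, 1, 3, 5, 11, 1, 3, 5, 11, 1, 3, 5, 11, 11, 10, 4, 2, 0, 10, 4, 2, 0, 10, 4, 2, 0, 10, 4, 2, 0, 10, 4, 2, 0, 10])) (BT.leaf (158, [1, 3, 5, 7, 5, 7, 3, 5, 7, 5, 7, 3, 5, 7, 5, 7, 3, 5, 7, 5, 7, 3, 5, 7, 5, 7, 9, 3, 5, 7, 5, 7, 3, 5, 7, 5, 7, 3, 5, 7, 5, 7, 3, 5, 7, 5, 7, 3, 5, 7, 5, 7, 9, 3, 5, 7, 5, 7, 3, 5, 7, 5, 7, 3, 5, 7, 5, 7, 3, 5, 7, 5, 7, 3, 5, 7, 5, 7, 9, 0, 8, 6, 4, 6, 4, 2, 6, 4, 6, 4, 2, 6, 4, 6, 4, 2, 6, 4, 6, 4, 2, 6, 4,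 6, 4, 2, 8, 6, 4, 6, 4, 2, 6, 4, 6, 4, 2, 6, 4, 6, 4, 2, 6, 4, 6, 4, 2, 6, 4, 6, 4, 2, 8, 6, 4, 6, 4, 2, 6, 4, 6, 4, 2, 6, 4, 6, 4, 2, 6, 4, 6, 4, 2, 6, 4, 6, 4, 2], [3, 5, 7, 5, 7, 3, 5, 7, 5, 7, 3, 5, 7, 5, 7, 3, 5, 7, 5, 7, 3, 5, 7, 5, 7, 9, 3, 5, 7, 5, 7, 3, 5, 7, 5, 7, 3, 5, 7, 5, 7, 3, 5, 7, 5, 7, 3, 5, 7, 5, 7, 9, 3, 5, 7, 5, 7, 3, 5, 7, 5, 7, 3, 5, 7, 5, 7, 3, 5, 7, 5, 7, 3, 5, 7, 5, 7, 9, 1, 8, 6, 4, 6, 4, 2, 6, 4, 6, 4, 2, 6, 4, 6, 4, 2, 6, 4, 6, 4, 2, 6, 4, 6, 4, 2, 8, 6, 4, 6, 4, 2, 6, 4, 6, 4, 2, 6, 4, 6, 4, 2, 6, 4, 6, 4, 2, 6, 4, 6, 4, 2, 8, 6, 4, 6, 4, 2, 6, 4, 6, 4, 2, 6, 4, 6, 4, 2, 6, 4, 6, 4, 2, 6, 4, 6, 4, 2, 0])))) (BT.node 230 (BT.node 229 (BT.leaf (158, [3, 3, 5, 7,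 5, 7, 3, 5, 7, 5, 7, 3, 5, 7, 5, 7, 3, 5, 7, 5, 7, 3, 5, 7, 5, 7, 9, 3, 5, 7, 5, 7, 3, 5, 7, 5, 7, 3, 5, 7, 5, 7, 3, 5, 7, 5, 7, 3, 5, 7, 5, 7, 9, 3, 5, 7, 5, 7, 3, 5, 7, 5, 7, 3, 5, 7, 5, 7, 3, 5, 7, 5, 7, 3, 5, 7, 5, 7, 9, 2, 8, 6, 4, 6, 4, 2, 6, 4, 6, 4, 2, 6, 4, 6, 4, 2, 6, 4, 6, 4, 2, 6, 4, 6, 4, 2, 8, 6, 4, 6, 4, 2, 6, 4, 6, 4, 2, 6, 4, 6, 4, 2, 6, 4, 6, 4, 2, 6, 4, 6, 4, 2, 8, 6, 4, 6, 4, 2, 6, 4, 6, 4, 2, 6, 4, 6, 4, 2, 6, 4, 6, 4, 2, 6, 4, 6, 4, 2], [3, 5, 7, 5, 7, 3, 5, 7, 5, 7, 3, 5, 7, 5, 7, 3, 5, 7, 5, 7, 3, 5, 7, 5, 7, 9, 3, 5, 7, 5, 7, 3, 5, 7, 5, 7, 3, 5, 7, 5, 7, 3, 5, 7, 5, 7, 3, 5, 7, 5, 7, 9, 3, 5, 7, 5, 7, 3, 5, 7, 5, 7, 3, 5, 7, 5, 7, 3, 5, 7, 5, 7, 3, 5, 7, 5, 7, 9, 3,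 8, 6, 4, 6, 4, 2, 6, 4, 6, 4, 2, 6, 4, 6, 4, 2, 6, 4, 6, 4, 2, 6, 4, 6, 4, 2, 8, 6, 4, 6, 4, 2, 6, 4, 6, 4, 2, 6, 4, 6, 4, 2, 6, 4, 6, 4, 2, 6, 4, 6, 4, 2, 8, 6, 4, 6, 4, 2, 6, 4, 6, 4, 2, 6, 4, 6, 4, 2, 6, 4, 6, 4, 2, 6, 4, 6, 4, 2, 2])) (BT.leaf (158, [5, 3, 5, 7, 5, 7, 3, 5, 7, 5, 7, 3, 5, 7, 5, 7, 3, 5, 7, 5, 7, 3, 5, 7, 5, 7, 9, 3, 5, 7, 5, 7, 3, 5, 7, 5, 7, 3, 5, 7, 5, 7, 3, 5, 7, 5, 7, 3, 5, 7, 5, 7, 9, 3, 5, 7, 5, 7, 3, 5, 7, 5, 7, 3, 5, 7, 5, 7, 3, 5, 7, 5, 7, 3, 5, 7, 5, 7, 9, 4, 8, 6, 4, 6, 4, 2, 6, 4, 6, 4, 2, 6, 4, 6, 4, 2, 6, 4, 6, 4, 2, 6, 4, 6, 4, 2, 8, 6, 4, 6, 4, 2, 6, 4, 6, 4, 2, 6, 4, 6, 4, 2, 6, 4, 6, 4, 2, 6, 4, 6, 4, 2, 8, 6, 4, 6, 4, 2, 6, 4, 6, 4, 2, 6, 4, 6, 4, 2,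 6, 4, 6, 4, 2, 6, 4, 6, 4, 2], [3, 5, 7, 5, 7, 3, 5, 7, 5, 7, 3, 5, 7, 5, 7, 3, 5, 7, 5, 7, 3, 5, 7, 5, 7, 9, 3, 5, 7, 5, 7, 3, 5, 7, 5, 7, 3, 5, 7, 5, 7, 3, 5, 7, 5, 7, 3, 5, 7, 5, 7, 9, 3, 5, 7, 5, 7, 3, 5, 7, 5, 7, 3, 5, 7, 5, 7, 3, 5, 7, 5, 7, 3, 5, 7, 5, 7, 9, 5, 8, 6, 4, 6, 4, 2, 6, 4, 6, 4, 2, 6, 4, 6, 4, 2, 6, 4, 6, 4, 2, 6, 4, 6, 4, 2, 8, 6, 4, 6, 4, 2, 6, 4, 6, 4, 2, 6, 4, 6, 4, 2, 6, 4, 6, 4, 2, 6, 4, 6, 4, 2, 8, 6, 4, 6, 4, 2, 6, 4, 6, 4, 2, 6, 4, 6, 4, 2, 6, 4, 6, 4, 2, 6, 4, 6, 4, 2, 4]))) (BT.node 231 (BT.leaf (158, [7, 3, 5, 7, 5, 7, 3, 5, 7, 5, 7, 3, 5, 7, 5, 7, 3, 5, 7, 5, 7, 3, 5, 7, 5, 7, 9, 3, 5, 7, 5, 7, 3, 5, 7, 5, 7, 3, 5, 7, 5, 7, 3, 5, 7, 5, 7, 3, 5, 7, 5, 7, 9, 3,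 5, 7, 5, 7, 3, 5, 7, 5, 7, 3, 5, 7, 5, 7, 3, 5, 7, 5, 7, 3, 5, 7, 5, 7, 9, 6, 8, 6, 4, 6, 4, 2, 6, 4, 6, 4, 2, 6, 4, 6, 4, 2, 6, 4, 6, 4, 2, 6, 4, 6, 4, 2, 8, 6, 4, 6, 4, 2, 6, 4, 6, 4, 2, 6, 4, 6, 4, 2, 6, 4, 6, 4, 2, 6, 4, 6, 4, 2, 8, 6, 4, 6, 4, 2, 6, 4, 6, 4, 2, 6, 4, 6, 4, 2, 6, 4, 6, 4, 2, 6, 4, 6, 4, 2], [3, 5, 7, 5, 7, 3, 5, 7, 5, 7, 3, 5, 7, 5, 7, 3, 5, 7, 5, 7, 3, 5, 7, 5, 7, 9, 3, 5, 7, 5, 7, 3, 5, 7, 5, 7, 3, 5, 7, 5, 7, 3, 5, 7, 5, 7, 3, 5, 7, 5, 7, 9, 3, 5, 7, 5, 7, 3, 5, 7, 5, 7, 3, 5, 7, 5, 7, 3, 5, 7, 5, 7, 3, 5, 7, 5, 7, 9, 7, 8, 6, 4, 6, 4, 2, 6, 4, 6, 4, 2, 6, 4, 6, 4, 2, 6, 4, 6, 4, 2, 6, 4, 6, 4, 2, 8, 6, 4, 6, 4, 2, 6, 4, 6, 4, 2, 6, 4, 6, 4, 2, 6, 4, 6, 4, 2, 6, 4, 6,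 4, 2, 8, 6, 4, 6, 4, 2, 6, 4, 6, 4, 2, 6, 4, 6, 4, 2, 6, 4, 6, 4, 2, 6, 4, 6, 4, 2, 6])) (BT.leaf (158, [9, 3, 5, 7, 5, 7, 3, 5, 7, 5, 7, 3, 5, 7, 5, 7, 3, 5, 7, 5, 7, 3, 5, 7, 5, 7, 9, 3, 5, 7, 5, 7, 3, 5, 7, 5, 7, 3, 5, 7, 5, 7, 3, 5, 7, 5, 7, 3, 5, 7, 5, 7, 9, 3, 5, 7, 5, 7, 3, 5, 7, 5, 7, 3, 5, 7, 5, 7, 3, 5, 7, 5, 7, 3, 5, 7, 5, 7, 9, 8, 8, 6, 4, 6, 4, 2, 6, 4, 6, 4, 2, 6, 4, 6, 4, 2, 6, 4, 6, 4, 2, 6, 4, 6, 4, 2, 8, 6, 4, 6, 4, 2, 6, 4, 6, 4, 2, 6, 4, 6, 4, 2, 6, 4, 6, 4, 2, 6, 4, 6, 4, 2, 8, 6, 4, 6, 4, 2, 6, 4, 6, 4, 2, 6, 4, 6, 4, 2, 6, 4, 6, 4, 2, 6, 4, 6, 4, 2], [3, 5, 7, 5, 7, 3, 5, 7, 5, 7, 3, 5, 7, 5, 7, 3, 5, 7, 5, 7, 3, 5, 7, 5, 7, 9, 3, 5, 7, 5, 7, 3, 5, 7, 5, 7, 3, 5, 7, 5,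 7, 3, 5, 7, 5, 7, 3, 5, 7, 5, 7, 9, 3, 5, 7, 5, 7, 3, 5, 7, 5, 7, 3, 5, 7, 5, 7, 3, 5, 7, 5, 7, 3, 5, 7, 5, 7, 9, 9, 8, 6, 4, 6, 4, 2, 6, 4, 6, 4, 2, 6, 4, 6, 4, 2, 6, 4, 6, 4, 2, 6, 4, 6, 4, 2, 8, 6, 4, 6, 4, 2, 6, 4, 6, 4, 2, 6, 4, 6, 4, 2, 6, 4, 6, 4, 2, 6, 4, 6, 4, 2, 8, 6, 4, 6, 4, 2, 6, 4, 6, 4, 2, 6, 4, 6, 4, 2, 6, 4, 6, 4, 2, 6, 4, 6, 4, 2, 8]))))) (BT.node 236 (BT.node 234 (BT.node 233 (BT.leaf (158, [11, 3, 5, 7, 5, 7, 3, 5, 7, 5, 7, 3, 5, 7, 5, 7, 3, 5, 7, 5, 7, 3, 5, 7, 5, 7, 9, 3, 5, 7, 5, 7, 3, 5, 7, 5, 7, 3, 5, 7, 5, 7, 3, 5, 7, 5, 7, 3, 5, 7, 5, 7, 9, 3, 5, 7, 5, 7, 3, 5, 7, 5, 7, 3, 5, 7, 5, 7, 3, 5, 7, 5, 7, 3, 5, 7, 5, 7, 9, 10, 8, 6, 4, 6, 4, 2, 6, 4, 6, 4, 2, 6, 4, 6, 4,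 2, 6, 4, 6, 4, 2, 6, 4, 6, 4, 2, 8, 6, 4, 6, 4, 2, 6, 4, 6, 4, 2, 6, 4, 6, 4, 2, 6, 4, 6, 4, 2, 6, 4, 6, 4, 2, 8, 6, 4, 6, 4, 2, 6, 4, 6, 4, 2, 6, 4, 6, 4, 2, 6, 4, 6, 4, 2, 6, 4, 6, 4, 2], [3, 5, 7, 5, 7, 3, 5, 7, 5, 7, 3, 5, 7, 5, 7, 3, 5, 7, 5, 7, 3, 5, 7, 5, 7, 9, 3, 5, 7, 5, 7, 3, 5, 7, 5, 7, 3, 5, 7, 5, 7, 3, 5, 7, 5, 7, 3, 5, 7, 5, 7, 9, 3, 5, 7, 5, 7, 3, 5, 7, 5, 7, 3, 5, 7, 5, 7, 3, 5, 7, 5, 7, 3, 5, 7, 5, 7, 9, 11, 8, 6, 4, 6, 4, 2, 6, 4, 6, 4, 2, 6, 4, 6, 4, 2, 6, 4, 6, 4, 2, 6, 4, 6, 4, 2, 8, 6, 4, 6, 4, 2, 6, 4, 6, 4, 2, 6, 4, 6, 4, 2, 6, 4, 6, 4, 2, 6, 4, 6, 4, 2, 8, 6, 4, 6, 4, 2, 6, 4, 6, 4, 2, 6, 4, 6, 4, 2, 6, 4, 6, 4, 2, 6, 4, 6, 4, 2, 10])) (BT.leaf (17, [6, 6, 6, 6, 4,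 4, 4, 4, 5, 7, 5, 7, 5, 7, 5, 7, 0], [1, 6, 4, 6, 4, 6, 4, 6, 4, 5, 5, 5, 5, 7, 7, 7, 7]))) (BT.node 235 (BT.leaf (35, [3, 3, 3, 3, 1, 6, 4, 6, 4, 6, 4, 6, 4, 5, 5, 5, 5, 7, 7, 7, 7, 1, 1, 1, 1, 2, 0, 2, 0, 2, 0, 2, 0, 2, 0], [1, 3, 1, 3, 1, 3, 1, 3, 1, 3, 0, 0, 0, 0, 6, 6, 6, 6, 4, 4, 4, 4, 5, 7, 5, 7, 5, 7, 5, 7, 0, 2, 2, 2, 2])) (BT.leaf (45, [5, 5, 1, 3, 1, 3, 1, 3, 1, 3, 1, 3, 0, 0, 0, 0, 6, 6, 6, 6, 4, 4, 4, 4, 5, 7, 5, 7, 5, 7, 5, 7, 0, 2, 2, 2, 2, 3, 3, 4, 2, 4, 2, 4, 2], [3, 5, 3, 5, 3, 5, 2, 2, 3, 3, 3, 3, 1, 6, 4, 6, 4, 6, 4, 6, 4, 5, 5, 5, 5, 7, 7, 7, 7, 1, 1, 1, 1, 2, 0, 2, 0, 2, 0, 2, 0, 2, 0, 4, 4])))) (BT.node 238 (BT.node 237 (BT.leaf (199, [3, 5, 7, 5, 7, 3, 5, 7, 5, 7, 3,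 5, 7, 5, 7, 3, 5, 7, 5, 7, 3, 5, 7, 5, 7, 9, 3, 5, 7, 5, 7, 3, 5, 7, 5, 7, 3, 5, 7, 5, 7, 3, 5, 7, 5, 7, 3, 5, 7, 5, 7, 9, 3, 5, 7, 5, 7, 3, 5, 7, 5, 7, 3, 5, 7, 5, 7, 3, 5, 7, 5, 7, 3, 5, 7, 5, 7, 9, 2, 2, 2, 2, 2, 2, 2, 2, 2, 2, 2, 2, 2, 2, 3, 3, 3, 3, 1, 6, 4, 6, 4, 6, 4, 6, 4, 5, 5, 5, 5, 7, 7, 7, 7, 1, 1, 1, 1, 2, 0, 2, 0, 2, 0, 2, 0, 2, 0, 4, 4, 4, 4, 4, 4, 4, 4, 4, 4, 4, 4, 4, 4, 4, 4, 4, 4, 4, 4, 4, 4, 4, 4, 4, 4, 4, 4, 4, 4, 6, 6, 6, 6, 6, 6, 6, 6, 6, 6, 6, 6, 6, 6, 6, 6, 6, 6, 6, 6, 6, 6, 6, 6, 6, 6, 6, 6, 6, 6, 8, 8, 9, 9, 7, 7, 8, 6, 8, 6, 8, 6], [7, 9, 7, 9, 7, 9, 6, 6, 8, 8, 9, 9, 7, 7, 7, 7, 7, 7, 7, 7, 7, 7, 7, 7, 7, 7, 7, 7, 7, 7, 7, 7, 7, 7, 7, 7, 7, 7, 7, 7, 7, 7, 5, 5, 5,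 5, 5, 5, 5, 5, 5, 5, 5, 5, 5, 5, 5, 5, 5, 5, 5, 5, 5, 5, 5, 5, 5, 5, 5, 5, 5, 5, 1, 3, 1, 3, 1, 3, 1, 3, 1, 3, 0, 0, 0, 0, 6, 6, 6, 6, 4, 4, 4, 4, 5, 7, 5, 7, 5, 7, 5, 7, 0, 2, 2, 2, 2, 3, 3, 3, 3, 3, 3, 3, 3, 3, 3, 3, 3, 3, 3, 8, 6, 4, 6, 4, 2, 6, 4, 6, 4, 2, 6, 4, 6, 4, 2, 6, 4, 6, 4, 2, 6, 4, 6, 4, 2, 8, 6, 4, 6, 4, 2, 6, 4, 6, 4, 2, 6, 4, 6, 4, 2, 6, 4, 6, 4, 2, 6, 4, 6, 4, 2, 8, 6, 4, 6, 4, 2, 6, 4, 6, 4, 2, 6, 4, 6, 4, 2, 6, 4, 6, 4, 2, 6, 4, 6, 4, 2])) (BT.leaf (189, [9, 9, 7, 7, 7, 7, 7, 7, 7, 7, 7, 7, 7, 7, 7, 7, 7, 7, 7, 7, 7, 7, 7, 7, 7, 7, 7, 7, 7, 7, 7, 7, 5, 5, 5, 5, 5, 5, 5, 5, 5, 5, 5, 5, 5, 5, 5, 5, 5, 5, 5, 5, 5, 5, 5, 5, 5, 5, 5, 5, 5, 5, 1, 3, 1, 3, 1, 3, 1, 3, 1, 3, 0,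 0, 0, 0, 6, 6, 6, 6, 4, 4, 4, 4, 5, 7, 5, 7, 5, 7, 5, 7, 0, 2, 2, 2, 2, 3, 3, 3, 3, 3, 3, 3, 3, 3, 3, 3, 3, 3, 3, 8, 6, 4, 6, 4, 2, 6, 4, 6, 4, 2, 6, 4, 6, 4, 2, 6, 4, 6, 4, 2, 6, 4, 6, 4, 2, 8, 6, 4, 6, 4, 2, 6, 4, 6, 4, 2, 6, 4, 6, 4, 2, 6, 4, 6, 4, 2, 6, 4, 6, 4, 2, 8, 6, 4, 6, 4, 2, 6, 4, 6, 4, 2, 6, 4, 6, 4, 2, 6, 4, 6, 4, 2, 6, 4, 6, 4, 2], [3, 5, 7, 5, 7, 3, 5, 7, 5, 7, 3, 5, 7, 5, 7, 3, 5, 7, 5, 7, 3, 5, 7, 5, 7, 9, 3, 5, 7, 5, 7, 3, 5, 7, 5, 7, 3, 5, 7, 5, 7, 3, 5, 7, 5, 7, 3, 5, 7, 5, 7, 9, 3, 5, 7, 5, 7, 3, 5, 7, 5, 7, 3, 5, 7, 5, 7, 3, 5, 7, 5, 7, 3, 5, 7, 5, 7, 9, 2, 2, 2, 2, 2, 2, 2, 2, 2, 2, 2, 2, 2, 2, 3, 3, 3, 3, 1, 6, 4, 6, 4, 6, 4, 6, 4, 5, 5, 5, 5, 7, 7, 7, 7, 1, 1, 1, 1,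 2, 0, 2, 0, 2, 0, 2, 0, 2, 0, 4, 4, 4, 4, 4, 4, 4, 4, 4, 4, 4, 4, 4, 4, 4, 4, 4, 4, 4, 4, 4, 4, 4, 4, 4, 4, 4, 4, 4, 4, 6, 6, 6, 6, 6, 6, 6, 6, 6, 6, 6, 6, 6, 6, 6, 6, 6, 6, 6, 6, 6, 6, 6, 6, 6, 6, 6, 6, 6, 6, 8, 8]))) (BT.leaf (45, [11, 11, 1, 3, 1, 3, 1, 3, 1, 3, 1, 3, 0, 0, 0, 0, 6, 6, 6, 6, 4, 4, 4, 4, 5, 7, 5, 7, 5, 7, 5, 7, 0, 2, 2, 2, 2, 3, 3, 10, 2, 10, 2, 10, 2], [3, 11, 3, 11, 3, 11, 2, 2, 3, 3, 3, 3, 1, 6, 4, 6, 4, 6, 4, 6, 4, 5, 5, 5, 5, 7, 7, 7, 7, 1, 1, 1, 1, 2, 0, 2, 0, 2, 0, 2, 0, 2, 0, 10, 10])))))))))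
/-- subgroup generators -/
def subT : BT (ℕ × List ℕ × List ℕ) := (BT.node 2 (BT.node 1 (BT.node 0 (BT.leaf (1, [0], [1])) (BT.leaf (1, [2], [3]))) (BT.leaf (1, [4], [5]))) (BT.node 3 (BT.leaf (1, [6], [7])) (BT.leaf (1, [8], [9]))))
/-- fact chunks -/
def colET : BT ℕ := (BT.node 51 (BT.node 25 (BT.node 12 (BT.node 6 (BT.node 3 (BT.node 1 (BT.node 0 (BT.leaf cE0) (BT.leaf cE1)) (BT.node 2 (BT.leaf cE2) (BT.leaf cE3))) (BT.node 5 (BT.node 4 (BT.leaf cE4) (BT.leaf cE5)) (BT.leaf cE6))) (BT.node 9 (BT.node 8 (BT.node 7 (BT.leaf cE7) (BT.leaf cE8)) (BT.leaf cE9)) (BT.node 11 (BT.node 10 (BT.leaf cE10) (BT.leaf cE11)) (BT.leaf cE12)))) (BT.node 19 (BT.node 16 (BT.node 14 (BT.node 13 (BT.leaf cE13)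 (BT.leaf cE14)) (BT.node 15 (BT.leaf cE15) (BT.leaf cE16))) (BT.node 18 (BT.node 17 (BT.leaf cE17) (BT.leaf cE18)) (BT.leaf cE19))) (BT.node 22 (BT.node 21 (BT.node 20 (BT.leaf cE20) (BT.leaf cE21)) (BT.leaf cE22)) (BT.node 24 (BT.node 23 (BT.leaf cE23) (BT.leaf cE24)) (BT.leaf cE25))))) (BT.node 38 (BT.node 32 (BT.node 29 (BT.node 27 (BT.node 26 (BT.leaf cE26) (BT.leaf cE27)) (BT.node 28 (BT.leaf cE28) (BT.leaf cE29))) (BT.node 31 (BT.node 30 (BT.leaf cE30) (BT.leaf cE31)) (BT.leaf cE32))) (BT.node 35 (BT.node 34 (BT.node 33 (BT.leaf cE33) (BT.leaf cE34)) (BT.leaf cE35)) (BT.node 37 (BT.node 36 (BT.leaf cE36) (BT.leaf cE37)) (BT.leaf cE38)))) (BT.node 45 (BT.node 42 (BT.node 40 (BT.node 39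 (BT.leaf cE39) (BT.leaf cE40)) (BT.node 41 (BT.leaf cE41) (BT.leaf cE42))) (BT.node 44 (BT.node 43 (BT.leaf cE43) (BT.leaf cE44)) (BT.leaf cE45))) (BT.node 48 (BT.node 47 (BT.node 46 (BT.leaf cE46) (BT.leaf cE47)) (BT.leaf cE48)) (BT.node 50 (BT.node 49 (BT.leaf cE49) (BT.leaf cE50)) (BT.leaf cE51)))))) (BT.node 77 (BT.node 64 (BT.node 58 (BT.node 55 (BT.node 53 (BT.node 52 (BT.leaf cE52) (BT.leaf cE53)) (BT.node 54 (BT.leaf cE54) (BT.leaf cE55))) (BT.node 57 (BT.node 56 (BT.leaf cE56) (BT.leaf cE57)) (BT.leaf cE58))) (BT.node 61 (BT.node 60 (BT.node 59 (BT.leaf cE59) (BT.leaf cE60)) (BT.leaf cE61)) (BT.node 63 (BT.node 62 (BT.leaf cE62) (BT.leaf cE63)) (BT.leaf cE64)))) (BT.node 71 (BT.node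 68 (BT.node 66 (BT.node 65 (BT.leaf cE65) (BT.leaf cE66)) (BT.node 67 (BT.leaf cE67) (BT.leaf cE68))) (BT.node 70 (BT.node 69 (BT.leaf cE69) (BT.leaf cE70)) (BT.leaf cE71))) (BT.node 74 (BT.node 73 (BT.node 72 (BT.leaf cE72) (BT.leaf cE73)) (BT.leaf cE74)) (BT.node 76 (BT.node 75 (BT.leaf cE75) (BT.leaf cE76)) (BT.leaf cE77))))) (BT.node 90 (BT.node 84 (BT.node 81 (BT.node 79 (BT.node 78 (BT.leaf cE78) (BT.leaf cE79)) (BT.node 80 (BT.leaf cE80) (BT.leaf cE81))) (BT.node 83 (BT.node 82 (BT.leaf cE82) (BT.leaf cE83)) (BT.leaf cE84))) (BT.node 87 (BT.node 86 (BT.node 85 (BT.leaf cE85) (BT.leaf cE86)) (BT.leaf cE87)) (BT.node 89 (BT.node 88 (BT.leaf cE88) (BT.leaf cE89)) (BT.leaf cE90)))) (BT.node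 97 (BT.node 94 (BT.node 92 (BT.node 91 (BT.leaf cE91) (BT.leaf cE92)) (BT.node 93 (BT.leaf cE93) (BT.leaf cE94))) (BT.node 96 (BT.node 95 (BT.leaf cE95) (BT.leaf cE96)) (BT.leaf cE97))) (BT.node 100 (BT.node 99 (BT.node 98 (BT.leaf cE98) (BT.leaf cE99)) (BT.leaf cE100)) (BT.node 102 (BT.node 101 (BT.leaf cE101) (BT.leaf cE102)) (BT.leaf cE103)))))))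
/-- justification chunks -/
def colJT : BT ℕ := (BT.node 51 (BT.node 25 (BT.node 12 (BT.node 6 (BT.node 3 (BT.node 1 (BT.node 0 (BT.leaf cJ0) (BT.leaf cJ1)) (BT.node 2 (BT.leaf cJ2) (BT.leaf cJ3))) (BT.node 5 (BT.node 4 (BT.leaf cJ4) (BT.leaf cJ5)) (BT.leaf cJ6))) (BT.node 9 (BT.node 8 (BT.node 7 (BT.leaf cJ7) (BT.leaf cJ8)) (BT.leaf cJ9)) (BT.node 11 (BT.node 10 (BT.leaf cJ10) (BT.leaf cJ11)) (BT.leaf cJ12)))) (BT.node 19 (BT.node 16 (BT.node 14 (BT.node 13 (BT.leaf cJ13) (BT.leaf cJ14)) (BT.node 15 (BT.leaf cJ15) (BT.leaf cJ16))) (BT.node 18 (BT.node 17 (BT.leaf cJ17) (BT.leaf cJ18)) (BT.leaf cJ19))) (BT.node 22 (BT.node 21 (BT.node 20 (BT.leaf cJ20) (BT.leaf cJ21)) (BT.leaf cJ22)) (BT.node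 24 (BT.node 23 (BT.leaf cJ23) (BT.leaf cJ24)) (BT.leaf cJ25))))) (BT.node 38 (BT.node 32 (BT.node 29 (BT.node 27 (BT.node 26 (BT.leaf cJ26) (BT.leaf cJ27)) (BT.node 28 (BT.leaf cJ28) (BT.leaf cJ29))) (BT.node 31 (BT.node 30 (BT.leaf cJ30) (BT.leaf cJ31)) (BT.leaf cJ32))) (BT.node 35 (BT.node 34 (BT.node 33 (BT.leaf cJ33) (BT.leaf cJ34)) (BT.leaf cJ35)) (BT.node 37 (BT.node 36 (BT.leaf cJ36) (BT.leaf cJ37)) (BT.leaf cJ38)))) (BT.node 45 (BT.node 42 (BT.node 40 (BT.node 39 (BT.leaf cJ39) (BT.leaf cJ40)) (BT.node 41 (BT.leaf cJ41) (BT.leaf cJ42))) (BT.node 44 (BT.node 43 (BT.leaf cJ43) (BT.leaf cJ44)) (BT.leaf cJ45))) (BT.node 48 (BT.node 47 (BT.node 46 (BT.leaf cJ46) (BT.leaf cJ47)) (BT.leaf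 cJ48)) (BT.node 50 (BT.node 49 (BT.leaf cJ49) (BT.leaf cJ50)) (BT.leaf cJ51)))))) (BT.node 77 (BT.node 64 (BT.node 58 (BT.node 55 (BT.node 53 (BT.node 52 (BT.leaf cJ52) (BT.leaf cJ53)) (BT.node 54 (BT.leaf cJ54) (BT.leaf cJ55))) (BT.node 57 (BT.node 56 (BT.leaf cJ56) (BT.leaf cJ57)) (BT.leaf cJ58))) (BT.node 61 (BT.node 60 (BT.node 59 (BT.leaf cJ59) (BT.leaf cJ60)) (BT.leaf cJ61)) (BT.node 63 (BT.node 62 (BT.leaf cJ62) (BT.leaf cJ63)) (BT.leaf cJ64)))) (BT.node 71 (BT.node 68 (BT.node 66 (BT.node 65 (BT.leaf cJ65) (BT.leaf cJ66)) (BT.node 67 (BT.leaf cJ67) (BT.leaf cJ68))) (BT.node 70 (BT.node 69 (BT.leaf cJ69) (BT.leaf cJ70)) (BT.leaf cJ71))) (BT.node 74 (BT.node 73 (BT.node 72 (BT.leaf cJ72)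 (BT.leaf cJ73)) (BT.leaf cJ74)) (BT.node 76 (BT.node 75 (BT.leaf cJ75) (BT.leaf cJ76)) (BT.leaf cJ77))))) (BT.node 90 (BT.node 84 (BT.node 81 (BT.node 79 (BT.node 78 (BT.leaf cJ78) (BT.leaf cJ79)) (BT.node 80 (BT.leaf cJ80) (BT.leaf cJ81))) (BT.node 83 (BT.node 82 (BT.leaf cJ82) (BT.leaf cJ83)) (BT.leaf cJ84))) (BT.node 87 (BT.node 86 (BT.node 85 (BT.leaf cJ85) (BT.leaf cJ86)) (BT.leaf cJ87)) (BT.node 89 (BT.node 88 (BT.leaf cJ88) (BT.leaf cJ89)) (BT.leaf cJ90)))) (BT.node 97 (BT.node 94 (BT.node 92 (BT.node 91 (BT.leaf cJ91) (BT.leaf cJ92)) (BT.node 93 (BT.leaf cJ93) (BT.leaf cJ94))) (BT.node 96 (BT.node 95 (BT.leaf cJ95) (BT.leaf cJ96)) (BT.leaf cJ97))) (BT.node 100 (BT.node 99 (BT.node 98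 (BT.leaf cJ98) (BT.leaf cJ99)) (BT.leaf cJ100)) (BT.node 102 (BT.node 101 (BT.leaf cJ101) (BT.leaf cJ102)) (BT.leaf cJ103)))))))
/-- parent chunks -/
def parCT : BT ℕ := (BT.node 3 (BT.node 1 (BT.node 0 (BT.leaf cP0) (BT.leaf cP1)) (BT.node 2 (BT.leaf cP2) (BT.leaf cP3))) (BT.node 5 (BT.node 4 (BT.leaf cP4) (BT.leaf cP5)) (BT.node 6 (BT.leaf cP6) (BT.leaf cP7))))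
/-- the certificate -/
def data : Data where
  k := 12
  N := 3697
  W := 27
  MW := 134217728
  B := 4096
  CH := 512
  NCH := 8
  colE := colET
  JW := 64
  MJ := 18446744073709551616
  A := 1048576
  colJ := colJT
  PW := 21
  MP := 2097152
  parC := parCT
  inv := (BT.node 6 (BT.node 3 (BT.node 1 (BT.node 0 (BT.leaf 1) (BT.leaf 0)) (BT.node 2 (BT.leaf 3) (BT.leaf 2))) (BT.node 5 (BT.node 4 (BT.leaf 5) (BT.leaf 4)) (BT.leaf 7))) (BT.node 9 (BT.node 8 (BT.node 7 (BT.leaf 6) (BT.leaf 9)) (BT.leaf 8)) (BT.node 11 (BT.node 10 (BT.leaf 11) (BT.leaf 10)) (BT.leaf 12))))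
  rel := relT
  sub := subT
  fuel := 64

end Cfsg.Agent.Lib.Helper28.TCG24EData
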