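import Cfsg.Agent.Lib.Helper28.TCG24FTable
set_option autoImplicit false
set_option maxRecDepth 100000
set_option maxHeartbeats 0

namespace Cfsg.Agent.Lib.Helper28.TCG24FL2
open Cfsg.Agent.Lib.Helper28.TC2Upper Cfsg.Agent.Lib.Helper28.TC2Lower Cfsg.Agent.Lib.Helper28.TCG24FTable

theorem rel8 : table.relOK chkPaths 2696 337 = true := by decide +kernel
theorem rel9 : table.relOK chkPaths 3033 337 = true := by decide +kernel
theorem rel10 : table.relOK chkPaths 3370 337 = true := by decide +kernel
theorem rel11 : table.relOK chkPaths 3707 337 = true := by decide +kernel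

end Cfsg.Agent.Lib.Helper28.TCG24FL2
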