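import Cfsg.Agent.Lib.Helper28.TCG24FTable
import Cfsg.Agent.Lib.Helper28.TCG24FL1
set_option autoImplicit false
set_option maxRecDepth 100000
set_option maxHeartbeats 0

namespace Cfsg.Agent.Lib.Helper28.TCG24FL4
open Cfsg.Agent.Lib.Helper28.TC2Upper Cfsg.Agent.Lib.Helper28.TC2Lower Cfsg.Agent.Lib.Helper28.TCG24FTable

theorem rel16 : table.relOK chkPaths 5392 337 = true := by decide +kernel
theorem rel17 : table.relOK chkPaths 5729 337 = true := by decide +kernel
theorem rel18 : table.relOK chkPaths 6066 337 = true := by decide +kernel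
theorem rel19 : table.relOK chkPaths 6403 337 = true := by decide +kernel

end Cfsg.Agent.Lib.Helper28.TCG24FL4
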