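import Cfsg.Agent.Lib.Helper28.TC2Hom
import Cfsg.Agent.Lib.Helper28.TC2Range
import Cfsg.Agent.Lib.Helper28.G24CovDef
import Cfsg.Agent.Lib.Helper28.TCG24FTable
import Cfsg.Agent.Lib.Helper28.TCG24FP0
import Cfsg.Agent.Lib.Helper28.TCG24FL0
import Cfsg.Agent.Lib.Helper28.TCG24FL1
import Cfsg.Agent.Lib.Helper28.TCG24FL2
import Cfsg.Agent.Lib.Helper28.TCG24FL3
import Cfsg.Agent.Lib.Helper28.TCG24FL4
import Cfsg.Agent.Lib.Helper28.TCG24FL5

set_option autoImplicit false
set_option maxRecDepth 100000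

namespace Cfsg.Agent.Lib.Helper28.TCG24FHom
open Cfsg.Agent.Lib.Helper28.TC2Upper Cfsg.Agent.Lib.Helper28.TC2Lower Cfsg.Agent.Lib.Helper28.TC2Glue Cfsg.Agent.Lib.Helper28.TC2Range Cfsg.Agent.Lib.Helper28.TC2Hom Cfsg.Agent.Lib.Helper28.TCG24FTable

/-- all relators in list form -/
abbrev relWords : List (List (Cfsg.Agent.Lib.Helper28.TCG24W0Def.Gen × Bool)) := Cfsg.Agent.Lib.Helper28.G24CovDef.relWords

/-- the relators -/
abbrev rels : Set (FreeGroup Cfsg.Agent.Lib.Helper28.TCG24W0Def.Gen) := {r | ∃ L ∈ relWords, r = FreeGroup.mk L}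

/-- coding of the letters -/
def lw : Cfsg.Agent.Lib.Helper28.TCG24W0Def.Gen × Bool → ℕ
  | (.a, true) => 0
  | (.a, false) => 1
  | (.b, true) => 2
  | (.b, false) => 3
  | (.c, true) => 4
  | (.c, false) => 5
  | (.d, true) => 6
  | (.d, false) => 7
  | (.e, true) => 8
  | (.e, false) => 9
  | (.f, true) => 10
  | (.f, false) => 11

theorem hinvOK : table.invOK = true := by decide +kernel

theorem hpermAll : ∀ p, p < table.n → Table.permRow table p = true := by
  intro p hp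
  have hp' : p < 8064 := hp
  exact (Table.permRange_iff table 0 8064).mp Cfsg.Agent.Lib.Helper28.TCG24FP0.prm0 p (by omega) (by omega)

theorem hT : table.OK := Table.ok_of_rows table hinvOK hpermAll

theorem hchkT : ∀ P ∈ chkPaths, ∀ p, p < table.n → table.walkT P p = p := by
  intro P hm p hp
  have hp' : p < 8064 := hp
  rcases Nat.lt_or_ge p 337 with h0 | h0
  · exact (Table.relOK_iff chkPaths 0 337).mp Cfsg.Agent.Lib.Helper28.TCG24FL0.rel0 p (by omega) (by omega) _ hm
  rcases Nat.lt_or_ge p 674 with h1 | h1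
  · exact (Table.relOK_iff chkPaths 337 337).mp Cfsg.Agent.Lib.Helper28.TCG24FL0.rel1 p (by omega) (by omega) _ hm
  rcases Nat.lt_or_ge p 1011 with h2 | h2
  · exact (Table.relOK_iff chkPaths 674 337).mp Cfsg.Agent.Lib.Helper28.TCG24FL0.rel2 p (by omega) (by omega) _ hm
  rcases Nat.lt_or_ge p 1348 with h3 | h3
  · exact (Table.relOK_iff chkPaths 1011 337).mp Cfsg.Agent.Lib.Helper28.TCG24FL0.rel3 p (by omega) (by omega) _ hm
  rcases Nat.lt_or_ge p 1685 with h4 | h4
  · exact (Table.relOK_iff chkPaths 1348 337).mp Cfsg.Agent.Lib.Helper28.TCG24FL1.rel4 p (by omega) (by omega) _ hm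
  rcases Nat.lt_or_ge p 2022 with h5 | h5
  · exact (Table.relOK_iff chkPaths 1685 337).mp Cfsg.Agent.Lib.Helper28.TCG24FL1.rel5 p (by omega) (by omega) _ hm
  rcases Nat.lt_or_ge p 2359 with h6 | h6
  · exact (Table.relOK_iff chkPaths 2022 337).mp Cfsg.Agent.Lib.Helper28.TCG24FL1.rel6 p (by omega) (by omega) _ hm
  rcases Nat.lt_or_ge p 2696 with h7 | h7
  · exact (Table.relOK_iff chkPaths 2359 337).mp Cfsg.Agent.Lib.Helper28.TCG24FL1.rel7 p (by omega) (by omega) _ hm
  rcases Nat.lt_or_ge p 3033 with h8 | h8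
  · exact (Table.relOK_iff chkPaths 2696 337).mp Cfsg.Agent.Lib.Helper28.TCG24FL2.rel8 p (by omega) (by omega) _ hm
  rcases Nat.lt_or_ge p 3370 with h9 | h9
  · exact (Table.relOK_iff chkPaths 3033 337).mp Cfsg.Agent.Lib.Helper28.TCG24FL2.rel9 p (by omega) (by omega) _ hm
  rcases Nat.lt_or_ge p 3707 with h10 | h10
  · exact (Table.relOK_iff chkPaths 3370 337).mp Cfsg.Agent.Lib.Helper28.TCG24FL2.rel10 p (by omega) (by omega) _ hm
  rcases Nat.lt_or_ge p 4044 with h11 | h11
  · exact (Table.relOK_iff chkPaths 3707 337).mp Cfsg.Agent.Lib.Helper28.TCG24FL2.rel11 p (by omega) (by omega) _ hm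
  rcases Nat.lt_or_ge p 4381 with h12 | h12
  · exact (Table.relOK_iff chkPaths 4044 337).mp Cfsg.Agent.Lib.Helper28.TCG24FL3.rel12 p (by omega) (by omega) _ hm
  rcases Nat.lt_or_ge p 4718 with h13 | h13
  · exact (Table.relOK_iff chkPaths 4381 337).mp Cfsg.Agent.Lib.Helper28.TCG24FL3.rel13 p (by omega) (by omega) _ hm
  rcases Nat.lt_or_ge p 5055 with h14 | h14
  · exact (Table.relOK_iff chkPaths 4718 337).mp Cfsg.Agent.Lib.Helper28.TCG24FL3.rel14 p (by omega) (by omega) _ hm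
  rcases Nat.lt_or_ge p 5392 with h15 | h15
  · exact (Table.relOK_iff chkPaths 5055 337).mp Cfsg.Agent.Lib.Helper28.TCG24FL3.rel15 p (by omega) (by omega) _ hm
  rcases Nat.lt_or_ge p 5729 with h16 | h16
  · exact (Table.relOK_iff chkPaths 5392 337).mp Cfsg.Agent.Lib.Helper28.TCG24FL4.rel16 p (by omega) (by omega) _ hm
  rcases Nat.lt_or_ge p 6066 with h17 | h17
  · exact (Table.relOK_iff chkPaths 5729 337).mp Cfsg.Agent.Lib.Helper28.TCG24FL4.rel17 p (by omega) (by omega) _ hm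
  rcases Nat.lt_or_ge p 6403 with h18 | h18
  · exact (Table.relOK_iff chkPaths 6066 337).mp Cfsg.Agent.Lib.Helper28.TCG24FL4.rel18 p (by omega) (by omega) _ hm
  rcases Nat.lt_or_ge p 6740 with h19 | h19
  · exact (Table.relOK_iff chkPaths 6403 337).mp Cfsg.Agent.Lib.Helper28.TCG24FL4.rel19 p (by omega) (by omega) _ hm
  rcases Nat.lt_or_ge p 7077 with h20 | h20
  · exact (Table.relOK_iff chkPaths 6740 337).mp Cfsg.Agent.Lib.Helper28.TCG24FL5.rel20 p (by omega) (by omega) _ hm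
  rcases Nat.lt_or_ge p 7414 with h21 | h21
  · exact (Table.relOK_iff chkPaths 7077 337).mp Cfsg.Agent.Lib.Helper28.TCG24FL5.rel21 p (by omega) (by omega) _ hm
  rcases Nat.lt_or_ge p 7751 with h22 | h22
  · exact (Table.relOK_iff chkPaths 7414 337).mp Cfsg.Agent.Lib.Helper28.TCG24FL5.rel22 p (by omega) (by omega) _ hm
  exact (Table.relOK_iff chkPaths 7751 313).mp Cfsg.Agent.Lib.Helper28.TCG24FL5.rel23 p (by omega) (by omega) _ hm

theorem hrelmem : ∀ L ∈ relWords, pathOf lw L ∈ chkPaths := by decide +kernel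

theorem hrelT : ∀ L ∈ relWords, ∀ p, p < table.n → table.walkT (pathOf lw L) p = p :=
  fun L hL => hchkT _ (hrelmem L hL)

/-- the permutation representation -/
theorem main : ∃ φ : PresentedGroup rels →* Equiv.Perm (Fin table.n),
    ∀ (L : List (Cfsg.Agent.Lib.Helper28.TCG24W0Def.Gen × Bool)) (p : Fin table.n),
      (φ (PresentedGroup.mk rels (FreeGroup.mk L)) p).val = table.walkT (pathOf lw L) p.val :=
  hom_of_table rels relWords (fun _ h => h) lw table hT
    (by rintro ⟨x, b⟩; cases x <;> cases b <;> decide)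
    (by intro x; cases x <;> decide +kernel) hrelT

end Cfsg.Agent.Lib.Helper28.TCG24FHom
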