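import Cfsg.Agent.Lib.Helper3.Cover.Finite
import Cfsg.Agent.Lib.Helper28.G24CovDef
import Cfsg.Agent.Lib.Helper28.TCG24EMain
import Cfsg.Agent.Lib.Helper28.TCG24FHom
import Cfsg.Agent.Lib.Helper28.TC2Tower2
import Cfsg.Agent.Lib.Helper28.G24J2
import Cfsg.Agent.Lib.Helper28.G24Iso
import Cfsg.Agent.Lib.Helper28.G24Max
import Cfsg.Agent.Lib.Helper28.SchurUnivCongr

set_option autoImplicit false
set_option maxRecDepth 100000

/-!
# The Schur multiplier of `G₂(4)` has order 2

`P = ⟨a, …, f | R⟩ ≅ G₂(4)` (the presentation of `TCG24W0Link`), `⟨a, …, e⟩ ≅ J₂`.  The covering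
presentation `E` of `P` (helper3's `CoverData`) has order at most `416 * (2 * 604800)`: the subgroup
`⟨a, …, e⟩` of `E` is a quotient of the covering presentation of the presentation of `J₂`, whose order is at
most `2 * 604800` as the multiplier of `J₂` has order 2, and it has at most 416 cosets.  A relator of `P` is
not trivial in `E`: `E` acts on 8064 points (signed permutations of the 4032 cosets of `U₃(4)`).
-/

namespace Cfsg.Agent.Lib.Helper28.G24CovMain

open Cfsg Cfsg.Agent.Lib.Helper3.Cover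
open Cfsg.Agent.Lib.Helper28.TC2Upper Cfsg.Agent.Lib.Helper28.TC2Lower Cfsg.Agent.Lib.Helper28.TC2Glue
open Cfsg.Agent.Lib.Helper28.TC2Tower Cfsg.Agent.Lib.Helper28.TC2Tower2

/-- the covering data of the presentation of `G₂(4)` -/
abbrev DG : CoverData G24CovDef.Gen := G24CovDef.cover
/-- the covering data of the presentation of `J₂` -/
abbrev DJ : CoverData G24CovDefJ.Gen := G24CovDefJ.cover

/-! ### the presented groups -/

theorem hsubG1 : ∀ L ∈ G24CovDef.R, L ∈ TCG24W0Link.relWords := by decide +kernel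
theorem hsubG2 : ∀ L ∈ TCG24W0Link.relWords, L ∈ G24CovDef.R := by decide +kernel
theorem hsubJ1 : ∀ L ∈ G24CovDefJ.R, L ∈ TCG24W1Link.relWords := by decide +kernel
theorem hsubJ2 : ∀ L ∈ TCG24W1Link.relWords, L ∈ G24CovDefJ.R := by decide +kernel

theorem relSet_G : relSet G24CovDef.R = TCG24W0Link.rels := by
  ext r
  rw [TCG24W0Link.link.hrels r]
  constructor
  · rintro ⟨L, hL, rfl⟩; exact ⟨L, hsubG1 L hL, rfl⟩
  · rintro ⟨L, hL, rfl⟩; exact ⟨L, hsubG2 L hL, rfl⟩

theorem relSet_J : relSet G24CovDefJ.R = TCG24W1Link.rels := by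
  ext r
  rw [TCG24W1Link.link.hrels r]
  constructor
  · rintro ⟨L, hL, rfl⟩; exact ⟨L, hsubJ1 L hL, rfl⟩
  · rintro ⟨L, hL, rfl⟩; exact ⟨L, hsubJ2 L hL, rfl⟩

/-- the presented group of the covering data is the presented `G₂(4)` -/
noncomputable def isoPG : DG.P ≃* G24Iso.P :=
  QuotientGroup.quotientMulEquivOfEq (by rw [show relSet DG.R = TCG24W0Link.rels from relSet_G])

/-- the presented group of the covering data is the presented `J₂` -/
noncomputable def isoPJ : DJ.P ≃* G24J2.PJ1 :=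
  QuotientGroup.quotientMulEquivOfEq (by rw [show relSet DJ.R = TCG24W1Link.rels from relSet_J])

theorem cardPG : Finite DG.P ∧ Nat.card DG.P = 251596800 := by
  haveI : Finite G24Iso.P := TCG24Tower.card0.1
  refine ⟨Finite.of_equiv _ isoPG.symm.toEquiv, ?_⟩
  rw [Nat.card_congr isoPG.toEquiv]
  exact G24Max.card_P

theorem cardPJ : Finite DJ.P ∧ Nat.card DJ.P = 604800 := by
  haveI : Finite G24J2.PJ1 := TCG24Tower.card1.1
  refine ⟨Finite.of_equiv _ isoPJ.symm.toEquiv, ?_⟩
  rw [Nat.card_congr isoPJ.toEquiv]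
  exact G24J2.exists_iso_PJ.2

theorem isoJ : Nonempty (DJ.P ≃* Cfsg.Spor.J2) := by
  obtain ⟨e2⟩ := G24J2.exists_iso_PJ.1
  exact ⟨(isoPJ.trans e2).trans Cfsg.Agent.Lib.Helper14.J2.j2Equiv.symm⟩

/-! ### the order of the covering groups -/

theorem upE : ∀ L ∈ G24CovDefJ.relWords, upWord TCG24W1Def.up L ∈ G24CovDef.relWords := by
  decide +kernel

theorem hSE : ∀ s ∈ TCG24ELink.S, ∃ y, s = FreeGroup.of (TCG24W1Def.up y) := by
  intro s hs
  simp only [TCG24ELink.S, Set.mem_insert_iff, Set.mem_singleton_iff] at hs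
  rcases hs with rfl | rfl | rfl | rfl | rfl
  exacts [⟨.a, rfl⟩, ⟨.b, rfl⟩, ⟨.c, rfl⟩, ⟨.d, rfl⟩, ⟨.e, rfl⟩]

section
variable (hJ : Cfsg.HasCyclicSchurMultiplier Cfsg.Spor.J2 2)
include hJ

theorem cardEJ : Finite DJ.E ∧ Nat.card DJ.E ≤ 1209600 := by
  haveI := cardPJ.1
  obtain ⟨φ⟩ := isoJ
  refine ⟨DJ.finite_E, ?_⟩
  have h := DJ.card_E_le φ hJ
  rw [cardPJ.2] at h
  have e : Nat.card (Multiplicative (ZMod 2)) = 2 := by
    rw [Nat.card_eq_fintype_card]; rfl
  rw [e] at h
  exact h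

theorem cardEG' : Finite (PresentedGroup TCG24ELink.rels) ∧
    Nat.card (PresentedGroup TCG24ELink.rels) ≤ 416 * 1209600 := by
  haveI : Finite (PresentedGroup DJ.relsE) := (cardEJ hJ).1
  have hrel := hrel_of_words TCG24ELink.rels DJ.relsE TCG24W1Def.up TCG24ELink.relWords
    G24CovDefJ.relWords TCG24ELink.link.hrels (fun _ => Iff.rfl) upE
  obtain ⟨hfin, hle⟩ := card_le_of_subpres TCG24ELink.rels DJ.relsE TCG24W1Def.up hrel TCG24ELink.S hSE
  exact card_le_of_quot _ hfin TCG24EMain.mainU.1 TCG24EMain.mainU.2 (le_trans hle (cardEJ hJ).2)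

theorem cardEG : Finite DG.E ∧ Nat.card DG.E ≤ 416 * 1209600 := cardEG' hJ

end

/-! ### the kernel of the projection -/

/-- a relator of the group that is not trivial in the covering group -/
def rz : List (G24CovDef.Gen × Bool) := G24CovDef.R.getD 3 []

theorem rz_mem : rz ∈ G24CovDef.R := by decide +kernel

theorem walk_rz : TCG24FTable.table.walkT (pathOf TCG24FHom.lw rz) 0 = 1 := by decide +kernel

/-- the kernel of the projection is not trivial -/
theorem ker_ne_bot : ∃ z ∈ DG.proj.ker, z ≠ 1 := by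
  obtain ⟨φ, hφ⟩ := TCG24FHom.main
  refine ⟨PresentedGroup.mk DG.relsE (FreeGroup.mk rz), ?_, ?_⟩
  · rw [MonoidHom.mem_ker, DG.proj_mk]
    exact PresentedGroup.one_of_mem ⟨rz, rz_mem, rfl⟩
  · intro h
    have h1 := hφ rz ⟨0, by decide⟩
    have h2 : φ (PresentedGroup.mk TCG24FHom.rels (FreeGroup.mk rz)) = 1 := by
      have : PresentedGroup.mk TCG24FHom.rels (FreeGroup.mk rz) = 1 := h
      rw [this, map_one]
    rw [h2, walk_rz] at h1
    exact absurd h1 (by decide)

section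
variable (hJ : Cfsg.HasCyclicSchurMultiplier Cfsg.Spor.J2 2)
include hJ

theorem card_ker : Nat.card DG.proj.ker = 2 := by
  haveI := (cardEG hJ).1
  have h1 := DG.card_E
  rw [cardPG.2] at h1
  have h2 := (cardEG hJ).2
  have h3 : Nat.card DG.proj.ker ≤ 2 := by
    rw [h1] at h2
    have h5 : Nat.card ↥DG.proj.ker * 251596800 ≤ 2 * 251596800 := by
      calc Nat.card ↥DG.proj.ker * 251596800 ≤ 416 * 1209600 := h2
        _ = 2 * 251596800 := by norm_num
    exact Nat.le_of_mul_le_mul_right h5 (by norm_num)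
  have h4 : 1 < Nat.card DG.proj.ker := by
    obtain ⟨z, hz, hz1⟩ := ker_ne_bot
    rw [Finite.one_lt_card_iff_nontrivial]
    exact ⟨⟨⟨z, hz⟩, 1, fun h => hz1 (congrArg Subtype.val h)⟩⟩
  exact le_antisymm h3 h4

/-- the Schur multiplier of the presented `G₂(4)` is cyclic of order 2 -/
theorem schur_P : Cfsg.HasCyclicSchurMultiplier DG.P 2 := by
  haveI := (cardEG hJ).1
  haveI : Fact (Nat.Prime 2) := ⟨Nat.prime_two⟩
  have hc : IsCyclic DG.proj.ker := isCyclic_of_prime_card (card_ker hJ)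
  have e : Nat.card DG.proj.ker = Nat.card (Multiplicative (ZMod 2)) := by
    rw [card_ker hJ, Nat.card_eq_fintype_card]; rfl
  exact DG.hasSchurMultiplier (MulEquiv.refl _) (mulEquivOfCyclicCardEq e)

/-- the Schur multiplier of `G₂(F)`, `|F| = 4`, is cyclic of order 2 -/
theorem schur_chev {F : Type*} [Field F] [Fintype F] (hF : Fintype.card F = 4) :
    Cfsg.HasCyclicSchurMultiplier ↥(Cfsg.Lie.chevG2.group F) 2 := by
  obtain ⟨e⟩ := G24Iso.exists_iso_chev hF
  haveI := cardPG.1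
  exact SchurUnivCongr.hasSchurMultiplier_congr_univ (isoPG.trans e) (schur_P hJ)

end

end Cfsg.Agent.Lib.Helper28.G24CovMain
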