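import Cfsg.Agent.Lib.Helper28.G24J2
import Cfsg.Agent.Lib.Helper28.G24Iso

set_option autoImplicit false
open Cfsg

/-!
# `G₂(4)` acts extremely primitively on the cosets of `J₂`: transport to the Chevalley group
-/

namespace Cfsg.Agent.Lib.Helper28.G24Final

theorem isCoatom_subgroupOf {G : Type*} [Group G] {K H : Subgroup G} (h : K ⋖ H) :
    IsCoatom (K.subgroupOf H) := by
  have h1 : IsCoatom (⟨K, h.le⟩ : Set.Iic H) := (covBy_iff_coatom_Iic h.le).mp h
  let e : Subgroup ↥H ≃o Set.Iic H := Subgroup.MapSubtype.orderIso H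
  have := (OrderIso.isCoatom_iff e.symm ⟨K, h.le⟩).mpr h1
  exact this

/-- transport of a maximal subgroup with maximal two-point stabilisers along an isomorphism -/
theorem transport {P G J : Type*} [Group P] [Group G] [Group J] (e : P ≃* G) (Hp : Subgroup P)
    (h1 : IsCoatom Hp) (h2 : Nonempty (↥Hp ≃* J))
    (h3 : ∀ y, y ∉ Hp → (Hp ⊓ Hp.map (MulAut.conj y).toMonoidHom) ⋖ Hp) :
    ∃ H : Subgroup G, IsCoatom H ∧ Nonempty (↥H ≃* J) ∧
      ∀ x, x ∉ H → IsCoatom ((H ⊓ H.map (MulAut.conj x).toMonoidHom).subgroupOf H) := by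
  refine ⟨Hp.map e.toMonoidHom, ?_, ?_, ?_⟩
  · have := (OrderIso.isCoatom_iff (MulEquiv.mapSubgroup e) Hp).mpr h1
    rwa [MulEquiv.mapSubgroup_apply] at this
  · obtain ⟨e2⟩ := h2
    exact ⟨(e.subgroupMap Hp).symm.trans e2⟩
  · intro x hx
    apply isCoatom_subgroupOf
    have hy : e.symm x ∉ Hp := by
      intro h
      apply hx
      exact ⟨e.symm x, h, by simp⟩
    have hc := (apply_covBy_apply_iff (MulEquiv.mapSubgroup e)).mpr (h3 _ hy)
    rw [OrderIso.map_inf, MulEquiv.mapSubgroup_apply, MulEquiv.mapSubgroup_apply] at hc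
    have hm : (Hp.map (MulAut.conj (e.symm x)).toMonoidHom).map (↑e : P →* G) =
        (Hp.map e.toMonoidHom).map (MulAut.conj x).toMonoidHom := by
      rw [Subgroup.map_map, Subgroup.map_map]
      congr 1
      ext z
      simp [MulAut.conj_apply]
    rw [hm] at hc
    exact hc

end Cfsg.Agent.Lib.Helper28.G24Final
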