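import Cfsg.Agent.Lib.Helper28.U6F4
import Cfsg.Prelude.Def_ChevG2
set_option autoImplicit false

/-!
# Coded matrices of degree 14 over the field with four elements

A matrix is a list of rows, each a list of codes `0, 1, 2 = ω, 3 = ω²`.  The index set is that of the adjoint
module of type `G₂` of `Cfsg.Lie.chevG2`.
-/

namespace Cfsg.Agent.Lib.Helper28.G2F4
open Cfsg.Agent.Lib.Helper28.U6F4

/-- index set of the adjoint module of type `G₂` -/
abbrev I14 : Type := Fin 2 ⊕ Fin 12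

/-- position of an index -/
def pos14 : I14 → ℕ
  | Sum.inl i => i.val
  | Sum.inr u => 2 + u.val

theorem pos14_lt (i : I14) : pos14 i < 14 := by
  cases i with
  | inl i => have := i.2; show i.val < 14; omega
  | inr u => have := u.2; show 2 + u.val < 14; omega

/-- entry of a coded matrix -/
def ent (m : List (List ℕ)) (i j : ℕ) : ℕ := ((m.getD i []).getD j 0) % 4

theorem ent_lt (m : List (List ℕ)) (i j : ℕ) : ent m i j < 4 := Nat.mod_lt _ (by norm_num)

/-- decoding -/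
def dec14 (m : List (List ℕ)) : Matrix I14 I14 F4 :=
  Matrix.of fun i j => toF4 (ent m (pos14 i) (pos14 j))

/-- an entry of the product -/
def dot (a b : List (List ℕ)) (i j : ℕ) : ℕ :=
  mul4 (ent a i 0) (ent b 0 j) ^^^
    mul4 (ent a i 1) (ent b 1 j) ^^^
    mul4 (ent a i 2) (ent b 2 j) ^^^
    mul4 (ent a i 3) (ent b 3 j) ^^^
    mul4 (ent a i 4) (ent b 4 j) ^^^
    mul4 (ent a i 5) (ent b 5 j) ^^^
    mul4 (ent a i 6) (ent b 6 j) ^^^
    mul4 (ent a i 7) (ent b 7 j) ^^^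
    mul4 (ent a i 8) (ent b 8 j) ^^^
    mul4 (ent a i 9) (ent b 9 j) ^^^
    mul4 (ent a i 10) (ent b 10 j) ^^^
    mul4 (ent a i 11) (ent b 11 j) ^^^
    mul4 (ent a i 12) (ent b 12 j) ^^^
    mul4 (ent a i 13) (ent b 13 j)

/-- the product of coded matrices -/
def mulL (a b : List (List ℕ)) : List (List ℕ) :=
  (List.range 14).map fun i => (List.range 14).map fun j => dot a b i j

theorem toF4_dot (a b : List (List ℕ)) (i j : ℕ) :
    toF4 (dot a b i j) =
      toF4 (ent a i 0) * toF4 (ent b 0 j) +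
      toF4 (ent a i 1) * toF4 (ent b 1 j) +
      toF4 (ent a i 2) * toF4 (ent b 2 j) +
      toF4 (ent a i 3) * toF4 (ent b 3 j) +
      toF4 (ent a i 4) * toF4 (ent b 4 j) +
      toF4 (ent a i 5) * toF4 (ent b 5 j) +
      toF4 (ent a i 6) * toF4 (ent b 6 j) +
      toF4 (ent a i 7) * toF4 (ent b 7 j) +
      toF4 (ent a i 8) * toF4 (ent b 8 j) +
      toF4 (ent a i 9) * toF4 (ent b 9 j) +
      toF4 (ent a i 10) * toF4 (ent b 10 j) +
      toF4 (ent a i 11) * toF4 (ent b 11 j) +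
      toF4 (ent a i 12) * toF4 (ent b 12 j) +
      toF4 (ent a i 13) * toF4 (ent b 13 j) ∧ dot a b i j < 4 := by
  have tm : ∀ k, toF4 (mul4 (ent a i k) (ent b k j)) = toF4 (ent a i k) * toF4 (ent b k j) ∧
      mul4 (ent a i k) (ent b k j) < 4 := fun k => toF4_mul4' _ _ (ent_lt a i k) (ent_lt b k j)
  obtain ⟨x1, k1⟩ := toF4_xor' _ _ (tm 0).2 (tm 1).2
  obtain ⟨x2, k2⟩ := toF4_xor' _ _ k1 (tm 2).2
  obtain ⟨x3, k3⟩ := toF4_xor' _ _ k2 (tm 3).2
  obtain ⟨x4, k4⟩ := toF4_xor' _ _ k3 (tm 4).2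
  obtain ⟨x5, k5⟩ := toF4_xor' _ _ k4 (tm 5).2
  obtain ⟨x6, k6⟩ := toF4_xor' _ _ k5 (tm 6).2
  obtain ⟨x7, k7⟩ := toF4_xor' _ _ k6 (tm 7).2
  obtain ⟨x8, k8⟩ := toF4_xor' _ _ k7 (tm 8).2
  obtain ⟨x9, k9⟩ := toF4_xor' _ _ k8 (tm 9).2
  obtain ⟨x10, k10⟩ := toF4_xor' _ _ k9 (tm 10).2
  obtain ⟨x11, k11⟩ := toF4_xor' _ _ k10 (tm 11).2
  obtain ⟨x12, k12⟩ := toF4_xor' _ _ k11 (tm 12).2
  obtain ⟨x13, k13⟩ := toF4_xor' _ _ k12 (tm 13).2
  refine ⟨?_, k13⟩
  unfold dot
  rw [x13, x12, x11, x10, x9, x8, x7, x6, x5, x4, x3, x2, x1, (tm 0).1, (tm 1).1, (tm 2).1, (tm 3).1, (tm 4).1,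
    (tm 5).1, (tm 6).1, (tm 7).1, (tm 8).1, (tm 9).1, (tm 10).1, (tm 11).1, (tm 12).1, (tm 13).1]

theorem ent_mulL (a b : List (List ℕ)) (i j : ℕ) (hi : i < 14) (hj : j < 14) :
    ent (mulL a b) i j = dot a b i j := by
  unfold ent mulL
  have h1 : ((List.range 14).map fun i => (List.range 14).map fun j => dot a b i j).getD i [] =
      (List.range 14).map fun j => dot a b i j := by
    rw [List.getD_eq_getElem?_getD, List.getElem?_map, List.getElem?_range hi]
    rfl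
  rw [h1]
  have h2 : ((List.range 14).map fun j => dot a b i j).getD j 0 = dot a b i j := by
    rw [List.getD_eq_getElem?_getD, List.getElem?_map, List.getElem?_range hj]
    rfl
  rw [h2]
  exact Nat.mod_eq_of_lt (toF4_dot a b i j).2

theorem dec14_mul (a b : List (List ℕ)) : dec14 (mulL a b) = dec14 a * dec14 b := by
  ext i j
  rw [Matrix.mul_apply]
  simp only [dec14, Matrix.of_apply]
  rw [ent_mulL a b _ _ (pos14_lt i) (pos14_lt j), (toF4_dot a b _ _).1, Fintype.sum_sum_type, Fin.sum_univ_two]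
  simp only [Fin.sum_univ_succ, Fin.sum_univ_zero]
  simp only [pos14, Fin.val_zero, Fin.val_one, Fin.val_succ, Nat.reduceAdd, add_zero, zero_add]
  ring

/-- the identity -/
def ONE14 : List (List ℕ) :=
  (List.range 14).map fun i => (List.range 14).map fun j => if i = j then 1 else 0

theorem dec14_one : dec14 ONE14 = 1 := by
  decide +kernel

end Cfsg.Agent.Lib.Helper28.G2F4
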