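import Cfsg.Agent.Lib.Helper28.G2F4
set_option autoImplicit false

/-!
# Elements of `G₂(4)` given by coded matrices

`Rep c` says that the coded matrix `c` is the matrix of an element of the Chevalley group of type `G₂` over the
field with four elements.  Products are checked step by step against a list of partial products.
-/

namespace Cfsg.Agent.Lib.Helper28.G2Rep
open Cfsg.Agent.Lib.Helper28.U6F4 Cfsg.Agent.Lib.Helper28.G2F4 Cfsg.Lie

/-- coded matrices -/
abbrev M : Type := List (List ℕ)

/-- the Chevalley group of type `G₂` over the field with four elements -/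
abbrev G24 : Subgroup (GL I14 F4) := chevG2.group F4

/-- the matrix of an element -/
def mat (g : ↥G24) : Matrix I14 I14 F4 := ((g : GL I14 F4) : Matrix I14 I14 F4)

theorem mat_mul (g h : ↥G24) : mat (g * h) = mat g * mat h := rfl

theorem mat_one : mat (1 : ↥G24) = 1 := rfl

theorem mat_injective : Function.Injective mat := by
  intro g h e
  exact Subtype.ext (Units.ext e)

/-- the root elements with the index type unfolded -/
def X14 (r : Fin 12) (t : F4) : Matrix I14 I14 F4 := chevG2.xMat F4 r t

/-- the coded matrix belongs to an element of the group -/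
def Rep (c : M) : Prop := ∃ g : ↥G24, mat g = dec14 c

theorem rep_root (c : M) (r : Fin 12) (t : F4) (h1 : dec14 c = X14 r t)
    (h2 : mulL c c = ONE14) : Rep c := by
  have hsq : dec14 c * dec14 c = 1 := by rw [← dec14_mul, h2, dec14_one]
  let u : GL I14 F4 := ⟨dec14 c, dec14 c, hsq, hsq⟩
  have hu : u ∈ G24 := Subgroup.subset_closure ⟨r, t, h1⟩
  exact ⟨⟨u, hu⟩, rfl⟩

theorem rep_one : Rep ONE14 := ⟨1, by rw [mat_one, dec14_one]⟩

theorem rep_mul {c d : M} (hc : Rep c) (hd : Rep d) : Rep (mulL c d) := by
  obtain ⟨g, hg⟩ := hc
  obtain ⟨h, hh⟩ := hd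
  exact ⟨g * h, by rw [mat_mul, hg, hh, dec14_mul]⟩

/-- left-to-right product check: `cur * g₁ = p₁`, `p₁ * g₂ = p₂`, … -/
def chkChain : List M → List M → M → Bool
  | [], [], _ => true
  | g :: gs, p :: ps, cur => (mulL cur g == p) && chkChain gs ps p
  | _, _, _ => false

/-- the last partial product -/
def lastOf : List M → M → M
  | [], cur => cur
  | p :: ps, _ => lastOf ps p

theorem chkChain_sound : ∀ (gs ps : List M) (cur : M), chkChain gs ps cur = true →
    dec14 cur * (gs.map dec14).prod = dec14 (lastOf ps cur) := by
  intro gs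
  induction gs with
  | nil =>
    intro ps cur h
    cases ps with
    | nil => simp [lastOf]
    | cons p ps => simp [chkChain] at h
  | cons g gs ih =>
    intro ps cur h
    cases ps with
    | nil => simp [chkChain] at h
    | cons p ps =>
      unfold chkChain at h
      rw [Bool.and_eq_true, beq_iff_eq] at h
      rw [List.map_cons, List.prod_cons, ← mul_assoc, ← dec14_mul, h.1, ih ps p h.2]
      rfl

theorem rep_chain : ∀ (gs ps : List M) (cur : M), Rep cur → (∀ g ∈ gs, Rep g) →
    chkChain gs ps cur = true → Rep (lastOf ps cur) := by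
  intro gs
  induction gs with
  | nil =>
    intro ps cur hc _ h
    cases ps with
    | nil => exact hc
    | cons p ps => simp [chkChain] at h
  | cons g gs ih =>
    intro ps cur hc hg h
    cases ps with
    | nil => simp [chkChain] at h
    | cons p ps =>
      unfold chkChain at h
      rw [Bool.and_eq_true, beq_iff_eq] at h
      have hp : Rep p := by rw [← h.1]; exact rep_mul hc (hg g List.mem_cons_self)
      exact ih ps p hp (fun g' hg' => hg g' (List.mem_cons_of_mem _ hg')) h.2

end Cfsg.Agent.Lib.Helper28.G2Rep
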