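import Mathlib
import Cfsg.Prelude.Def_SporadicCombinatorics
import Cfsg.Agent.Lib.Helper28.M24Pairs
set_option autoImplicit false

/-! Transitivity of `M24` on dodecads (every dodecad is the symmetric difference of two octads meeting in two points). -/

namespace Cfsg.Agent.Lib.Helper28.M24Pairs
open Cfsg Cfsg.Agent.Lib.Helper28.GolayCode Cfsg.Agent.Lib.Helper28.StabLib
open scoped Pointwise

theorem exists_octads_of_dodecad (d : Finset GolayPt) (hd : d ∈ dodecads) :
    ∃ o ∈ octads, ∃ o' ∈ octads, (o ∩ o').card = 2 ∧ symmDiff o o' = d := by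
  obtain ⟨s, hsd, hs⟩ := Finset.exists_subset_card_eq (show 5 ≤ d.card by rw [hd.2]; norm_num)
  obtain ⟨o, ho, hso⟩ := exists_octad_of_five s hs
  have h5 : 5 ≤ (o ∩ d).card := by
    rw [← hs]
    exact Finset.card_le_card (Finset.subset_inter hso hsd)
  have h8 : (o ∩ d).card ≤ 8 := by
    rw [← ho.2]
    exact Finset.card_le_card Finset.inter_subset_left
  have hsup := symmDiff_mem_supports o d ho.1 hd.1
  have hc := card_symmDiff_add_two_mul o d
  rw [ho.2, hd.2] at hc
  have hcases := card_of_mem_supports _ hsup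
  have hk : (o ∩ d).card = 6 := by omega
  have hcard : (symmDiff o d).card = 8 := by omega
  refine ⟨o, ho, symmDiff o d, ⟨hsup, hcard⟩, ?_, symmDiff_symmDiff_cancel_left o d⟩
  have : o ∩ symmDiff o d = o \ d := by
    ext x
    simp only [Finset.mem_inter, Finset.mem_symmDiff, Finset.mem_sdiff]
    tauto
  rw [this]
  have := Finset.card_sdiff_add_card_inter o d
  rw [ho.2, hk] at this
  omega

/-- the base dodecad. -/
def D0 : ℕ := 0x827d8e

theorem D0_eq : bset D0 = symmDiff (bset O0) (bset rep2) := by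
  rw [← bset_xor]
  rfl

theorem dodecad_trans (d : Finset GolayPt) (hd : d ∈ dodecads) : ∃ g : M24, g • bset D0 = d := by
  obtain ⟨o, ho, o', ho', h2, hsd⟩ := exists_octads_of_dodecad d hd
  obtain ⟨g, h1, h2'⟩ := exists_map_pair2 o o' ho ho' h2
  refine ⟨g, ?_⟩
  rw [D0_eq, Finset.smul_finset_symmDiff, h1, h2', hsd]

theorem D0_mem : bset D0 ∈ dodecads := by
  rw [bset_mem_dodecads_iff D0 (by decide)]
  constructor <;> decide +kernel

end Cfsg.Agent.Lib.Helper28.M24Pairs
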