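import Cfsg.Agent.S5550
import Cfsg.Agent.Lib.Helper28.M24Dodecad
import Cfsg.Agent.Lib.Helper28.M24FactsProof
set_option autoImplicit false
open scoped Pointwise
open Cfsg

/-! # The invariant subspaces of the binary permutation module of `M24` -/

namespace Cfsg.Agent.Lib.Helper28.GolayModule
open Cfsg.Agent.Lib.Helper28.GolayCode Cfsg.Agent.Lib.Helper28.M24Pairs
  Cfsg.Agent.Lib.Helper28.M24OctadFix

/-- the action of a coordinate permutation on words. -/
abbrev act (σ : Equiv.Perm GolayPt) (w : GolayPt → ZMod 2) : GolayPt → ZMod 2 :=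
  fun p => w (σ.symm p)

/-- invariance under `M24`. -/
def Inv (W : Submodule (ZMod 2) (GolayPt → ZMod 2)) : Prop :=
  ∀ σ ∈ M24, ∀ w ∈ W, act σ w ∈ W

theorem act_add (σ : Equiv.Perm GolayPt) (a b : GolayPt → ZMod 2) :
    act σ (a + b) = act σ a + act σ b := rfl

theorem support_act (σ : Equiv.Perm GolayPt) (w : GolayPt → ZMod 2) :
    support₂ (act σ w) = σ • support₂ w := support_comp_symm σ w

theorem support_add' (a b : GolayPt → ZMod 2) :
    support₂ (a + b) = symmDiff (support₂ a) (support₂ b) := by
  rw [Cfsg.Agent.S5550.support_add, symmDiff_def, Finset.sup_eq_union]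

theorem add_self' (a : GolayPt → ZMod 2) : a + a = 0 := by
  funext p
  have : ∀ x : ZMod 2, x + x = 0 := by decide
  exact this _

/-- the support of `act σ w + w`. -/
theorem support_act_add (σ : Equiv.Perm GolayPt) (w : GolayPt → ZMod 2) :
    support₂ (act σ w + w) = symmDiff (σ • support₂ w) (support₂ w) := by
  rw [support_add', support_act]

theorem act_add_mem {W : Submodule (ZMod 2) (GolayPt → ZMod 2)} (hW : Inv W)
    {σ : Equiv.Perm GolayPt} (hσ : σ ∈ M24) {w : GolayPt → ZMod 2} (hw : w ∈ W) :
    act σ w + w ∈ W := W.add_mem (hW σ hσ w hw) hw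

/-! ### Words of weight two -/

theorem sum_eq_zero_of_mem {c : GolayPt → ZMod 2} (hc : c ∈ golayCode) : ∑ p, c p = 0 := by
  have h1 : ∑ p, c p = ((support₂ c).card : ZMod 2) := by
    rw [Finset.card_eq_sum_ones, Nat.cast_sum, support₂, Finset.sum_filter]
    apply Finset.sum_congr rfl
    intro p _
    have : ∀ x : ZMod 2, x = if x ≠ 0 then ((1 : ℕ) : ZMod 2) else 0 := by decide
    exact this _
  rw [h1]
  rcases weight_cases c hc with h | h | h | h | h <;> rw [h] <;> decide

theorem even_mem_of_two {W : Submodule (ZMod 2) (GolayPt → ZMod 2)} (hW : Inv W)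
    {w : GolayPt → ZMod 2} (hw : w ∈ W) (h2 : (support₂ w).card = 2)
    (x : GolayPt → ZMod 2) (hx : ∑ p, x p = 0) : x ∈ W := by
  classical
  obtain ⟨a0, b0, hab0, hsupp⟩ := Finset.card_eq_two.mp h2
  have hpair : ∀ a b : GolayPt, a ≠ b → (Pi.single a 1 + Pi.single b 1 : GolayPt → ZMod 2) ∈ W := by
    intro a b hab
    obtain ⟨σ, hσ, hmap⟩ := Cfsg.Agent.Lib.Helper3.Golay.exists_map_list [a0, b0] [a, b]
      (by simpa using hab0) (by simpa using hab) rfl (by norm_num)
    simp only [List.map_cons, List.map_nil, List.cons.injEq, and_true] at hmap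
    have : act σ w = Pi.single a 1 + Pi.single b 1 := by
      apply support_injective
      rw [support_act, hsupp]
      ext q
      rw [mem_smul_finset_perm]
      simp only [support₂, Finset.mem_insert, Finset.mem_singleton, Finset.mem_filter,
        Finset.mem_univ, true_and, Pi.add_apply, Pi.single_apply]
      have e1 : σ.symm q = a0 ↔ q = a := by
        rw [Equiv.symm_apply_eq, hmap.1]
      have e2 : σ.symm q = b0 ↔ q = b := by
        rw [Equiv.symm_apply_eq, hmap.2]
      rw [e1, e2]
      rcases eq_or_ne q a with rfl | h1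
      · have h2 : q ≠ b := hab
        simp [h2]
      · rcases eq_or_ne q b with rfl | h2
        · simp [h1]
        · simp [h1, h2]
    rw [← this]
    exact hW σ hσ w hw
  have hx' : x = ∑ p, x p • (Pi.single p 1 + Pi.single a0 1 : GolayPt → ZMod 2) := by
    funext q
    simp only [Finset.sum_apply, Pi.smul_apply, Pi.add_apply, smul_eq_mul, mul_add,
      Finset.sum_add_distrib, ← Finset.sum_mul, hx, zero_mul, add_zero, Pi.single_apply]
    simp
  rw [hx']
  apply W.sum_mem
  intro p _
  apply W.smul_mem
  by_cases h : p = a0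
  · rw [h, add_self']
    exact W.zero_mem
  · exact hpair p a0 h

/-! ### From an octad to the whole code -/

theorem gen_octad : ∀ j : Fin 12, gen j < 2 ^ 24 ∧ inCode (gen j) = true ∧ popc (gen j) = 8 := by
  decide +kernel

theorem code_le_of_octad {W : Submodule (ZMod 2) (GolayPt → ZMod 2)} (hW : Inv W)
    {c : GolayPt → ZMod 2} (hc : c ∈ W) (ho : support₂ c ∈ octads) : golayCode ≤ W := by
  rw [← span_range_G, Submodule.span_le]
  rintro _ ⟨j, rfl⟩
  obtain ⟨hlt, hin, hpop⟩ := gen_octad j
  have hj : bset (gen j) ∈ octads := (bset_mem_octads_iff _ hlt).mpr ⟨hin, hpop⟩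
  obtain ⟨g, hg⟩ := facts.octad_trans _ _ ho hj
  rw [M24_smul_def] at hg
  have : act (g : Equiv.Perm GolayPt) c = G j := by
    apply support_injective
    rw [support_act, hg]
    exact (support_wordOf _).symm
  rw [SetLike.mem_coe, ← this]
  exact hW _ g.2 c hc

/-! ### From a code word to an octad -/

def ρ4 : ℕ := 0x1a04c5d2f28820f6a4352a8d3258ee

def ρ8 : ℕ := 0x3be88ba661231ab144d228ed075540

theorem ρ4_props : inM24 ρ4 = true ∧ popc (applyMask ρ4 O0 ^^^ O0) = 8 := by decide +kernel

theorem ρ8_props : inM24 ρ8 = true ∧ popc (applyMask ρ8 D0 ^^^ D0) = 8 := by decide +kernel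

theorem sd8_of_base (m ρ : ℕ) (hρ : inM24 ρ = true) (h8 : popc (applyMask ρ m ^^^ m) = 8)
    (g : Equiv.Perm GolayPt) :
    (symmDiff ((g * permOf ρ * g⁻¹) • (g • bset m)) (g • bset m)).card = 8 := by
  rw [mul_smul, mul_smul, inv_smul_smul, ← Finset.smul_finset_symmDiff, Finset.card_smul_finset,
    permOf_smul_bset ρ (isPerm_of_inM24 _ hρ), ← bset_xor, card_bset, h8]

theorem exists_sd8_octad {o : Finset GolayPt} (ho : o ∈ octads) :
    ∃ σ ∈ M24, (symmDiff (σ • o) o).card = 8 := by
  obtain ⟨g, hg⟩ := facts.octad_trans _ _ O0_mem ho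
  rw [M24_smul_def] at hg
  refine ⟨g * permOf ρ4 * g⁻¹, M24.mul_mem (M24.mul_mem g.2 (permOf_mem_M24 _ ρ4_props.1))
    (M24.inv_mem g.2), ?_⟩
  rw [← hg]
  exact sd8_of_base O0 ρ4 ρ4_props.1 ρ4_props.2 g

theorem exists_sd8_dodecad {d : Finset GolayPt} (hd : d ∈ dodecads) :
    ∃ σ ∈ M24, (symmDiff (σ • d) d).card = 8 := by
  obtain ⟨g, hg⟩ := dodecad_trans d hd
  rw [M24_smul_def] at hg
  refine ⟨g * permOf ρ8 * g⁻¹, M24.mul_mem (M24.mul_mem g.2 (permOf_mem_M24 _ ρ8_props.1))
    (M24.inv_mem g.2), ?_⟩
  rw [← hg]
  exact sd8_of_base D0 ρ8 ρ8_props.1 ρ8_props.2 g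

theorem support_one_add (c : GolayPt → ZMod 2) : support₂ (1 + c) = Finset.univ \ support₂ c := by
  ext p
  simp only [support₂, Finset.mem_filter, Finset.mem_univ, true_and, Finset.mem_sdiff, Pi.add_apply,
    Pi.one_apply, ne_eq, not_not]
  have : ∀ x : ZMod 2, (¬ 1 + x = 0 ↔ x = 0) := by decide
  exact this _

theorem act_one_add (σ : Equiv.Perm GolayPt) (c : GolayPt → ZMod 2) :
    act σ (1 + c) + (1 + c) = act σ c + c := by
  funext p
  have : ∀ a b : ZMod 2, (1 + a) + (1 + b) = a + b := by decide
  exact this _ _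

/-- a code word other than `0`, `1` in an invariant subspace yields an octad word in it. -/
theorem exists_octad_word {W : Submodule (ZMod 2) (GolayPt → ZMod 2)} (hW : Inv W)
    {c : GolayPt → ZMod 2} (hc : c ∈ W) (hcC : c ∈ golayCode) (h0 : c ≠ 0) (h1 : c ≠ 1) :
    ∃ c' ∈ W, support₂ c' ∈ octads := by
  have key : ∃ σ ∈ M24, (support₂ (act σ c + c)).card = 8 := by
    rcases weight_cases c hcC with h | h | h | h | h
    · exact absurd ((support_eq_empty_iff c).mp (Finset.card_eq_zero.mp h)) h0
    · obtain ⟨σ, hσ, h8⟩ := exists_sd8_octad (o := support₂ c) ⟨⟨c, hcC, rfl⟩, h⟩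
      exact ⟨σ, hσ, by rw [support_act_add]; exact h8⟩
    · obtain ⟨σ, hσ, h8⟩ := exists_sd8_dodecad (d := support₂ c) ⟨⟨c, hcC, rfl⟩, h⟩
      exact ⟨σ, hσ, by rw [support_act_add]; exact h8⟩
    · have ho : support₂ (1 + c) ∈ octads := by
        refine ⟨⟨1 + c, golayCode.add_mem one_mem hcC, rfl⟩, ?_⟩
        rw [support_one_add, Cfsg.Agent.S5550.card_compl, h]
      obtain ⟨σ, hσ, h8⟩ := exists_sd8_octad ho
      exact ⟨σ, hσ, by rw [← act_one_add, support_act_add]; exact h8⟩
    · exfalso
      apply h1
      have : support₂ c = Finset.univ := Finset.eq_univ_of_card _ (by rw [h]; simp)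
      funext p
      have hp : p ∈ support₂ c := by rw [this]; exact Finset.mem_univ _
      simp only [support₂, Finset.mem_filter, Finset.mem_univ, true_and] at hp
      have : ∀ x : ZMod 2, x ≠ 0 → x = 1 := by decide
      exact this _ hp
  obtain ⟨σ, hσ, h8⟩ := key
  refine ⟨act σ c + c, act_add_mem hW hσ hc, ⟨_, ?_, rfl⟩, h8⟩
  exact golayCode.add_mem (Cfsg.Agent.S5550.perm_mem_code hσ hcC) hcC

theorem code_le_of_code_word {W : Submodule (ZMod 2) (GolayPt → ZMod 2)} (hW : Inv W)
    {c : GolayPt → ZMod 2} (hc : c ∈ W) (hcC : c ∈ golayCode) (h0 : c ≠ 0) (h1 : c ≠ 1) :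
    golayCode ≤ W := by
  obtain ⟨c', hc', ho⟩ := exists_octad_word hW hc hcC h0 h1
  exact code_le_of_octad hW hc' ho

/-! ### Small sets -/

theorem card_univ24 : (Finset.univ : Finset GolayPt).card = 24 := by simp

/-- a set of one to four points can be moved so as to change exactly two points. -/
theorem exists_two (V : Finset GolayPt) (h1 : 1 ≤ V.card) (h4 : V.card ≤ 4) :
    ∃ σ ∈ M24, (symmDiff (σ • V) V).card = 2 := by
  classical
  obtain ⟨a, ha⟩ := Finset.card_pos.mp h1
  obtain ⟨b, -, hb⟩ : ∃ b ∈ (Finset.univ : Finset GolayPt), b ∉ V :=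
    Finset.exists_mem_notMem_of_card_lt_card (by rw [card_univ24]; omega)
  have hbe : b ∉ V.erase a := fun h => hb (Finset.mem_of_mem_erase h)
  have hcard : (insert b (V.erase a)).card = V.card := by
    rw [Finset.card_insert_of_notMem hbe, Finset.card_erase_of_mem ha]
    omega
  obtain ⟨σ, hσ, hmap⟩ := Cfsg.Agent.Lib.Helper3.Golay.exists_map_finset V (insert b (V.erase a))
    hcard.symm (by omega)
  refine ⟨σ, hσ, ?_⟩
  rw [hmap]
  have hinter : insert b (V.erase a) ∩ V = V.erase a := by
    ext q
    simp only [Finset.mem_inter, Finset.mem_insert, Finset.mem_erase]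
    constructor
    · rintro ⟨h | h, hq⟩
      · exact absurd (h ▸ hq) hb
      · exact h
    · intro h
      exact ⟨Or.inr h, h.2⟩
  have := card_symmDiff_add_two_mul (insert b (V.erase a)) V
  rw [hinter, hcard, Finset.card_erase_of_mem ha] at this
  omega

theorem map_eq_self_imp {α : Type*} (f : α → α) (l : List α) (h : l.map f = l) :
    ∀ x ∈ l, f x = x := by
  have h' : l.map f = l.map id := by rw [h, List.map_id]
  exact List.map_eq_map_iff.mp h'

theorem act_eq_self_of_smul {σ : Equiv.Perm GolayPt} {x : GolayPt → ZMod 2}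
    (h : σ • support₂ x = support₂ x) : act σ x = x := by
  apply support_injective
  rw [support_act, h]

theorem support_one : support₂ (1 : GolayPt → ZMod 2) = Finset.univ := by
  ext p
  simp [support₂]

/-- an invariant subspace not inside `{0, 1}` contains the code. -/
theorem code_le {W : Submodule (ZMod 2) (GolayPt → ZMod 2)} (hW : Inv W)
    {w : GolayPt → ZMod 2} (hw : w ∈ W) (h0 : w ≠ 0) (h1 : w ≠ 1) : golayCode ≤ W := by
  classical
  obtain ⟨v, hv, hpop, hmem⟩ := exists_leader w
  have hV4 : (bset v).card ≤ 4 := by rw [card_bset]; exact hpop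
  have hw_eq : w = (w + wordOf v) + wordOf v := by
    rw [add_assoc, add_self', add_zero]
  generalize hc : w + wordOf v = c at hmem hw_eq
  by_cases hv0 : bset v = ∅
  · have : wordOf v = 0 := by
      rw [← support_eq_empty_iff, support_wordOf]
      exact hv0
    rw [this, add_zero] at hw_eq
    rw [← hw_eq] at hmem
    exact code_le_of_code_word hW hw hmem h0 h1
  · have hV1 : 1 ≤ (bset v).card := Finset.card_pos.mpr (Finset.nonempty_iff_ne_empty.mpr hv0)
    by_cases hc01 : c = 0 ∨ c = 1
    · obtain ⟨σ, hσ, h2⟩ := exists_two (bset v) hV1 hV4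
      have hfix : act σ c = c := by
        rcases hc01 with rfl | rfl <;> rfl
      have hx : act σ w + w = act σ (wordOf v) + wordOf v := by
        rw [hw_eq, act_add, hfix, add_add_add_comm, add_self', zero_add]
      have hxW : act σ (wordOf v) + wordOf v ∈ W := hx ▸ act_add_mem hW hσ hw
      have hcard : (support₂ (act σ (wordOf v) + wordOf v)).card = 2 := by
        rw [support_act_add, support_wordOf]
        exact h2
      intro c' hc'
      exact even_mem_of_two hW hxW hcard c' (sum_eq_zero_of_mem hc')
    · push Not at hc01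
      have hU8 : 8 ≤ (support₂ c).card := eight_le_weight c hmem hc01.1
      have hU16 : (support₂ c).card ≤ 16 := by
        rcases weight_cases c hmem with h | h | h | h | h
        · omega
        · omega
        · omega
        · omega
        · exfalso
          apply hc01.2
          have hs : support₂ c = Finset.univ := Finset.eq_univ_of_card _ (by rw [h]; simp)
          rw [← support_one] at hs
          exact support_injective hs
      obtain ⟨a, haU, haV⟩ : ∃ a ∈ support₂ c, a ∉ bset v :=
        Finset.exists_mem_notMem_of_card_lt_card (by omega)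
      obtain ⟨b, -, hb⟩ : ∃ b ∈ (Finset.univ : Finset GolayPt), b ∉ support₂ c ∪ bset v := by
        apply Finset.exists_mem_notMem_of_card_lt_card
        have := Finset.card_union_le (support₂ c) (bset v)
        rw [card_univ24]
        omega
      rw [Finset.mem_union, not_or] at hb
      obtain ⟨σ, hσ, hmap⟩ := Cfsg.Agent.Lib.Helper3.Golay.exists_map_list
        (a :: (bset v).toList) (b :: (bset v).toList)
        (List.nodup_cons.mpr ⟨by rwa [Finset.mem_toList], Finset.nodup_toList _⟩)
        (List.nodup_cons.mpr ⟨by rw [Finset.mem_toList]; exact hb.2, Finset.nodup_toList _⟩)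
        rfl (by simp only [List.length_cons, Finset.length_toList]; omega)
      simp only [List.map_cons, List.cons.injEq] at hmap
      have hfixV : ∀ x ∈ bset v, σ x = x := fun x hx =>
        map_eq_self_imp σ _ hmap.2 x (Finset.mem_toList.mpr hx)
      have hσV : σ • bset v = bset v := by
        ext q
        rw [mem_smul_finset_perm]
        constructor
        · intro h
          have := hfixV _ h
          rw [Equiv.apply_symm_apply] at this
          rw [this]
          exact h
        · intro h
          have := hfixV _ h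
          rw [← this, Equiv.symm_apply_apply]
          exact h
      have hfix : act σ (wordOf v) = wordOf v := by
        apply act_eq_self_of_smul
        rw [support_wordOf, hσV]
      have hx : act σ w + w = act σ c + c := by
        rw [hw_eq, act_add, hfix, add_add_add_comm, add_self', add_zero]
      have hxW : act σ c + c ∈ W := hx ▸ act_add_mem hW hσ hw
      have hxC : act σ c + c ∈ golayCode :=
        golayCode.add_mem (Cfsg.Agent.S5550.perm_mem_code hσ hmem) hmem
      have hsupp := support_act_add σ c
      apply code_le_of_code_word hW hxW hxC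
      · intro hz
        rw [hz] at hsupp
        have hbm : b ∈ symmDiff (σ • support₂ c) (support₂ c) := by
          rw [Finset.mem_symmDiff]
          left
          refine ⟨?_, hb.1⟩
          rw [← hmap.1]
          exact Finset.smul_mem_smul_finset haU
        rw [← hsupp, (support_eq_empty_iff 0).mpr rfl] at hbm
        exact Finset.notMem_empty _ hbm
      · intro hz
        rw [hz, support_one] at hsupp
        obtain ⟨v1, hv1⟩ := Finset.card_pos.mp hV1
        have hv1m : v1 ∈ symmDiff (σ • support₂ c) (support₂ c) := by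
          rw [← hsupp]; exact Finset.mem_univ _
        rw [Finset.mem_symmDiff, mem_smul_finset_perm] at hv1m
        have e : σ.symm v1 = v1 := by
          rw [Equiv.symm_apply_eq, hfixV v1 hv1]
        rw [e] at hv1m
        rcases hv1m with ⟨h, h'⟩ | ⟨h, h'⟩ <;> exact h' h

/-- an invariant subspace containing the code and not inside it contains all even words. -/
theorem even_mem_of_not_le {W : Submodule (ZMod 2) (GolayPt → ZMod 2)} (hW : Inv W)
    (hC : golayCode ≤ W) {w : GolayPt → ZMod 2} (hw : w ∈ W) (hwC : w ∉ golayCode)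
    (x : GolayPt → ZMod 2) (hx : ∑ p, x p = 0) : x ∈ W := by
  obtain ⟨v, hv, hpop, hmem⟩ := exists_leader w
  have hV4 : (bset v).card ≤ 4 := by rw [card_bset]; exact hpop
  have hvW : wordOf v ∈ W := by
    have := W.add_mem (hC hmem) hw
    rwa [add_comm w, add_assoc, add_self', add_zero] at this
  have hV1 : 1 ≤ (bset v).card := by
    apply Finset.card_pos.mpr
    rw [Finset.nonempty_iff_ne_empty]
    intro hv0
    have : wordOf v = 0 := by
      rw [← support_eq_empty_iff, support_wordOf]
      exact hv0
    rw [this, add_zero] at hmem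
    exact hwC hmem
  obtain ⟨σ, hσ, h2⟩ := exists_two (bset v) hV1 hV4
  have hcard : (support₂ (act σ (wordOf v) + wordOf v)).card = 2 := by
    rw [support_act_add, support_wordOf]
    exact h2
  exact even_mem_of_two hW (act_add_mem hW hσ hvW) hcard x hx

/-- the invariant subspaces of the permutation module. -/
theorem invariant_cases (W : Submodule (ZMod 2) (GolayPt → ZMod 2)) (hW : Inv W) :
    W = ⊥ ∨ W = Submodule.span (ZMod 2) {fun _ => (1 : ZMod 2)} ∨ W = golayCode ∨
      (W : Set (GolayPt → ZMod 2)) = {w | ∑ p, w p = 0} ∨ W = ⊤ := by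
  by_cases h1 : ∀ w ∈ W, w = 0 ∨ w = 1
  · by_cases h11 : (1 : GolayPt → ZMod 2) ∈ W
    · right; left
      apply le_antisymm
      · intro w hw
        rcases h1 w hw with rfl | rfl
        · exact Submodule.zero_mem _
        · exact Submodule.subset_span rfl
      · rw [Submodule.span_le, Set.singleton_subset_iff]
        exact h11
    · left
      rw [Submodule.eq_bot_iff]
      intro w hw
      rcases h1 w hw with rfl | rfl
      · rfl
      · exact absurd hw h11
  · push Not at h1
    obtain ⟨w, hw, hw0, hw1⟩ := h1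
    have hC := code_le hW hw hw0 hw1
    by_cases h2 : W ≤ golayCode
    · right; right; left
      exact le_antisymm h2 hC
    · obtain ⟨w', hw', hw'C⟩ := SetLike.not_le_iff_exists.mp h2
      have hE := even_mem_of_not_le hW hC hw' hw'C
      by_cases h3 : ∀ w ∈ W, ∑ p, w p = 0
      · right; right; right; left
        ext x
        exact ⟨h3 x, hE x⟩
      · right; right; right; right
        push Not at h3
        obtain ⟨w0, hw0W, hsum⟩ := h3
        rw [Submodule.eq_top_iff']
        intro x
        by_cases hx : ∑ p, x p = 0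
        · exact hE x hx
        · have hs : ∑ p, (x + w0) p = 0 := by
            simp only [Pi.add_apply, Finset.sum_add_distrib]
            have : ∀ a b : ZMod 2, a ≠ 0 → b ≠ 0 → a + b = 0 := by decide
            exact this _ _ hx hsum
          have := W.add_mem (hE _ hs) hw0W
          rwa [add_assoc, add_self', add_zero] at this

end Cfsg.Agent.Lib.Helper28.GolayModule
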