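import Mathlib
import Cfsg.Prelude.Def_Classical
import Cfsg.Agent.Lib.Helper28.BitOmega
set_option autoImplicit false

/-! Generated certificate for the vanishing of the first cohomology (minus1). -/

namespace Cfsg.Agent.Lib.Helper28.H1Minus1
open Cfsg.Agent.Lib.Helper28.BitMat Cfsg.Agent.Lib.Helper28.BitGroup Cfsg.Agent.Lib.Helper28.BitOmega

def data : Data where
  A1 := [11, 2, 8, 14]
  A1i := [7, 2, 14, 4]
  B1 := [11, 2, 14, 6]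
  B1i := [15, 2, 10, 12]
  A2 := [1, 2, 8, 4]
  A2i := [1, 2, 8, 4]
  B2 := [1, 7, 4, 13]
  B2i := [1, 7, 4, 13]
  prog := [
    .inv 0 [11, 2, 6, 8], .mul 0 2, .mul 0 3, .mul 1 3,
    .mul 1 5, .mul 1 0, .mul 1 7, .mul 8 3,
    .mul 0 9, .mul 8 10, .mul 8 8, .inv 10 [2, 15, 10, 6],
    .mul 13 12, .mul 14 3, .mul 14 15, .mul 1 8,
    .mul 12 17, .mul 7 18, .mul 13 19, .mul 20 3]
  bs := [1, 2, 4, 8]
  Ds := [
    [(1, 3), (2, 11), (7, 9), (11, 4), (15, 10)],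
    [(2, 3), (7, 5), (11, 6), (15, 21)],
    [(4, 3), (8, 16), (12, 15)],
    [(8, 3)]]
  S0 := [0, 14, 0, 15]
  S1 := [10, 0, 8, 0]
  rels := [
    ([0, 0], [0, 4, 0, 5], [0, 0, 0, 0]),
    ([1, 1, 1], [0, 0, 0, 0], [8, 2, 0, 0])]

theorem gens_ok : gensOK (idxMinus 1) (QNminus 1) data = true := by decide +kernel

theorem order_ok : orderOK (idxMinus 1) (QNminus 1) data = true := by decide +kernel

theorem coh_ok : cohOK (idxMinus 1) data = true := by decide +kernel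

theorem main : ∀ f : ↥(Cfsg.Omega (ZMod 2) (Cfsg.quadFormMinus 1 (ZMod 2) 1 1)) → ((Fin 1 ⊕ Fin 1) ⊕ Fin 2 → ZMod 2),
    (∀ g h : ↥(Cfsg.Omega (ZMod 2) (Cfsg.quadFormMinus 1 (ZMod 2) 1 1)), f (g * h) = f g +
      Matrix.mulVec (((g : ↥(Cfsg.isometryGroup (ZMod 2) (Cfsg.quadFormMinus 1 (ZMod 2) 1 1))) :
        Matrix.GeneralLinearGroup ((Fin 1 ⊕ Fin 1) ⊕ Fin 2) (ZMod 2)) : Matrix ((Fin 1 ⊕ Fin 1) ⊕ Fin 2) ((Fin 1 ⊕ Fin 1) ⊕ Fin 2) (ZMod 2)) (f h)) →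
    ∃ v : (Fin 1 ⊕ Fin 1) ⊕ Fin 2 → ZMod 2, ∀ g : ↥(Cfsg.Omega (ZMod 2) (Cfsg.quadFormMinus 1 (ZMod 2) 1 1)), f g =
      Matrix.mulVec (((g : ↥(Cfsg.isometryGroup (ZMod 2) (Cfsg.quadFormMinus 1 (ZMod 2) 1 1))) :
        Matrix.GeneralLinearGroup ((Fin 1 ⊕ Fin 1) ⊕ Fin 2) (ZMod 2)) : Matrix ((Fin 1 ⊕ Fin 1) ⊕ Fin 2) ((Fin 1 ⊕ Fin 1) ⊕ Fin 2) (ZMod 2)) v - v :=
  H1_vanishes (idxMinus 1) (Cfsg.quadFormMinus 1 (ZMod 2) 1 1) (QNminus 1) (hQminus 1) data gens_ok order_ok coh_ok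

end Cfsg.Agent.Lib.Helper28.H1Minus1
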