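import Mathlib
import Cfsg.Prelude.Def_Classical
import Cfsg.Agent.Lib.Helper28.BitOmega
set_option autoImplicit false

/-! Generated certificate for the vanishing of the first cohomology (minus2). -/

namespace Cfsg.Agent.Lib.Helper28.H1Minus2
open Cfsg.Agent.Lib.Helper28.BitMat Cfsg.Agent.Lib.Helper28.BitGroup Cfsg.Agent.Lib.Helper28.BitOmega

def data : Data where
  A1 := [46, 59, 55, 42, 36, 60]
  A1i := [53, 30, 9, 15, 63, 25]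
  B1 := [30, 9, 1, 3, 16, 49]
  B1i := [4, 12, 27, 6, 16, 52]
  A2 := [9, 62, 27, 23, 7, 47]
  A2i := [58, 29, 55, 59, 24, 11]
  B2 := [27, 29, 30, 23, 16, 63]
  B2i := [27, 29, 30, 23, 16, 63]
  prog := [
    .inv 0 [39, 58, 53, 61, 41, 5], .mul 0 2, .mul 0 3, .mul 0 4,
    .mul 0 5, .mul 0 6, .mul 0 7, .mul 0 8,
    .mul 0 9, .mul 0 10, .mul 1 3, .mul 1 4,
    .mul 1 5, .mul 1 6, .mul 1 7, .mul 1 8,
    .mul 1 9, .mul 1 11, .mul 0 12, .mul 1 13,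
    .mul 0 14, .mul 1 14, .mul 0 18, .mul 1 18,
    .mul 1 20, .mul 1 22, .mul 0 26, .mul 0 28,
    .mul 0 1, .mul 1 0, .mul 30 1, .inv 10 [37, 45, 46, 59, 13, 49],
    .mul 33 32, .mul 34 3, .mul 34 35, .mul 34 36,
    .mul 34 37, .mul 31 31, .inv 24 [15, 12, 43, 53, 19, 63], .mul 40 39,
    .mul 41 3, .mul 41 35, .mul 41 37, .mul 41 38,
    .mul 34 42, .mul 41 42, .mul 34 45, .mul 41 45,
    .mul 34 46, .mul 34 50, .mul 34 51, .mul 32 0,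
    .inv 26 [6, 4, 42, 43, 18, 50], .mul 54 53, .inv 50 [1, 2, 23, 42, 18, 33], .mul 56 55,
    .mul 57 3, .mul 57 58, .mul 57 59, .mul 57 60,
    .mul 30 32, .inv 11 [23, 42, 55, 12, 47, 11], .mul 63 62, .inv 49 [1, 58, 23, 27, 11, 35],
    .mul 65 64, .mul 66 3, .mul 66 67, .mul 31 30,
    .inv 5 [45, 43, 62, 3, 31, 18], .mul 70 69, .inv 36 [1, 43, 62, 58, 18, 24], .mul 72 71,
    .mul 73 3, .mul 62 32, .inv 18 [59, 6, 4, 30, 34, 54], .mul 76 75,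
    .inv 48 [1, 59, 61, 3, 34, 18], .mul 78 77, .mul 79 3, .mul 73 80]
  bs := [1, 4, 2, 8, 16, 32]
  Ds := [
    [(1, 3), (2, 8), (3, 23), (4, 20), (6, 14), (8, 21), (9, 19), (12, 26), (15, 17), (21, 29), (23, 4), (26, 13), (27, 18), (29, 22), (30, 24), (37, 5), (39, 11), (42, 9), (43, 6), (45, 10), (46, 15), (53, 12), (55, 16), (58, 7), (59, 28), (61, 25), (62, 27)],
    [(4, 3), (6, 52), (12, 36), (15, 48), (21, 50), (23, 46), (29, 51), (30, 45), (37, 35), (39, 38), (45, 42), (46, 44), (53, 43), (55, 49), (61, 47), (62, 37)],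
    [(2, 3), (8, 58), (26, 59), (42, 60), (58, 61)],
    [(8, 3), (26, 74), (42, 80), (58, 81)],
    [(16, 3), (32, 67), (48, 68)],
    [(32, 3)]]
  S0 := [19, 49, 8, 28, 56, 30]
  S1 := [0, 0, 0, 0, 0, 0]
  rels := [
    ([1, 1, 1, 1, 1], [0, 0, 0, 0, 0, 0], [62, 0, 0, 19, 0, 0]),
    ([0, 0, 1, 0, 1, 1, 0, 0, 1, 0, 1, 1], [0, 0, 0, 0, 0, 0], [5, 0, 0, 46, 0, 0]),
    ([0, 1, 1, 1, 0, 1, 1, 1, 0, 1, 1, 1, 0, 1, 1, 1], [0, 0, 0, 0, 0, 0], [0, 60, 0, 0, 0, 0]),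
    ([0, 0, 1, 1, 0, 0, 1, 1, 0, 0, 1, 1, 0, 0, 1, 1, 0, 0, 1, 1], [0, 0, 0, 0, 0, 0], [13, 0, 0, 0, 0, 0])]

theorem gens_ok : gensOK (idxMinus 2) (QNminus 2) data = true := by decide +kernel

theorem order_ok : orderOK (idxMinus 2) (QNminus 2) data = true := by decide +kernel

theorem coh_ok : cohOK (idxMinus 2) data = true := by decide +kernel

theorem main : ∀ f : ↥(Cfsg.Omega (ZMod 2) (Cfsg.quadFormMinus 2 (ZMod 2) 1 1)) → ((Fin 2 ⊕ Fin 2) ⊕ Fin 2 → ZMod 2),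
    (∀ g h : ↥(Cfsg.Omega (ZMod 2) (Cfsg.quadFormMinus 2 (ZMod 2) 1 1)), f (g * h) = f g +
      Matrix.mulVec (((g : ↥(Cfsg.isometryGroup (ZMod 2) (Cfsg.quadFormMinus 2 (ZMod 2) 1 1))) :
        Matrix.GeneralLinearGroup ((Fin 2 ⊕ Fin 2) ⊕ Fin 2) (ZMod 2)) : Matrix ((Fin 2 ⊕ Fin 2) ⊕ Fin 2) ((Fin 2 ⊕ Fin 2) ⊕ Fin 2) (ZMod 2)) (f h)) →
    ∃ v : (Fin 2 ⊕ Fin 2) ⊕ Fin 2 → ZMod 2, ∀ g : ↥(Cfsg.Omega (ZMod 2) (Cfsg.quadFormMinus 2 (ZMod 2) 1 1)), f g =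
      Matrix.mulVec (((g : ↥(Cfsg.isometryGroup (ZMod 2) (Cfsg.quadFormMinus 2 (ZMod 2) 1 1))) :
        Matrix.GeneralLinearGroup ((Fin 2 ⊕ Fin 2) ⊕ Fin 2) (ZMod 2)) : Matrix ((Fin 2 ⊕ Fin 2) ⊕ Fin 2) ((Fin 2 ⊕ Fin 2) ⊕ Fin 2) (ZMod 2)) v - v :=
  H1_vanishes (idxMinus 2) (Cfsg.quadFormMinus 2 (ZMod 2) 1 1) (QNminus 2) (hQminus 2) data gens_ok order_ok coh_ok

end Cfsg.Agent.Lib.Helper28.H1Minus2
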