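import Mathlib
import Cfsg.Prelude.Def_Classical
import Cfsg.Agent.Lib.Helper28.BitOmega
set_option autoImplicit false

/-! Generated certificate for the vanishing of the first cohomology (plus4). -/

namespace Cfsg.Agent.Lib.Helper28.H1Plus4
open Cfsg.Agent.Lib.Helper28.BitMat Cfsg.Agent.Lib.Helper28.BitGroup Cfsg.Agent.Lib.Helper28.BitOmega

def data : Data where
  A1 := [176, 105, 208, 183, 123, 48, 132, 144]
  A1i := [219, 179, 97, 220, 161, 129, 132, 33]
  B1 := [1, 231, 225, 102, 126, 171, 165, 11]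
  B1i := [1, 231, 225, 102, 126, 171, 165, 11]
  A2 := [93, 67, 243, 73, 250, 97, 28, 157]
  A2i := [93, 67, 243, 73, 250, 97, 28, 157]
  B2 := [1, 65, 105, 170, 125, 14, 161, 97]
  B2i := [1, 205, 105, 132, 125, 130, 3, 195]
  prog := [
    .inv 0 [26, 252, 190, 125, 126, 176, 250, 16], .mul 0 2, .mul 0 3, .mul 0 4,
    .mul 1 3, .mul 1 4, .mul 1 5, .mul 0 6,
    .mul 1 6, .mul 0 7, .mul 1 7, .mul 0 8,
    .mul 1 8, .mul 0 9, .mul 1 9, .mul 0 10,
    .mul 1 10, .mul 1 11, .mul 0 12, .mul 1 12,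
    .mul 0 13, .mul 1 13, .mul 0 14, .mul 1 14,
    .mul 1 15, .mul 0 16, .mul 1 16, .mul 0 17,
    .mul 1 17, .mul 0 18, .mul 1 18, .mul 0 19,
    .mul 1 19, .mul 1 20, .mul 0 21, .mul 1 21,
    .mul 0 22, .mul 0 23, .mul 1 23, .mul 0 24,
    .mul 1 24, .mul 1 25, .mul 0 26, .mul 1 26,
    .mul 1 27, .mul 0 28, .mul 1 28, .mul 0 29,
    .mul 1 30, .mul 1 31, .mul 0 32, .mul 1 32,
    .mul 0 33, .mul 1 33, .mul 1 34, .mul 0 35,
    .mul 1 35, .mul 0 36, .mul 1 36, .mul 0 37,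
    .mul 1 37, .mul 0 38, .mul 1 38, .mul 0 39,
    .mul 0 40, .mul 0 41, .mul 1 41, .mul 0 42,
    .mul 1 43, .mul 1 44, .mul 0 45, .mul 1 45,
    .mul 0 46, .mul 1 46, .mul 1 47, .mul 0 48,
    .mul 0 49, .mul 1 49, .mul 0 50, .mul 1 50,
    .mul 1 51, .mul 1 52, .mul 0 53, .mul 1 53,
    .mul 1 54, .mul 0 56, .mul 1 56, .mul 0 57,
    .mul 1 57, .mul 0 58, .mul 0 59, .mul 0 60,
    .mul 1 60, .mul 1 64, .mul 1 66, .mul 1 67,
    .mul 1 68, .mul 1 69, .mul 0 70, .mul 1 70,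
    .mul 1 71, .mul 0 74, .mul 1 74, .mul 0 75,
    .mul 1 75, .mul 0 76, .mul 0 79, .mul 1 81,
    .mul 0 85, .mul 1 85, .mul 0 86, .mul 1 87,
    .mul 0 89, .mul 1 90, .mul 0 91, .mul 1 91,
    .mul 0 93, .mul 0 94, .mul 1 94, .mul 1 95,
    .mul 0 96, .mul 1 99, .mul 0 100, .mul 0 101,
    .mul 1 101, .mul 1 102, .mul 1 105, .mul 0 108,
    .mul 1 108, .mul 0 109, .mul 1 111, .mul 1 112,
    .mul 0 113, .mul 1 115, .mul 1 116, .mul 0 122,
    .mul 0 1, .mul 1 0, .mul 139 1, .mul 139 139,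
    .mul 141 138, .mul 141 140, .mul 1 142, .mul 144 141,
    .inv 98 [206, 15, 55, 59, 60, 220, 97, 161], .mul 146 145, .mul 147 3, .mul 147 148,
    .mul 147 149, .mul 147 150, .mul 144 1, .inv 45 [213, 180, 85, 32, 13, 80, 157, 82],
    .mul 153 152, .mul 154 3, .mul 154 148, .mul 154 149,
    .mul 154 150, .mul 154 151, .mul 154 155, .mul 147 156,
    .mul 154 156, .mul 147 157, .mul 154 157, .mul 147 158,
    .mul 154 158, .mul 147 159, .mul 154 159, .mul 147 160,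
    .mul 154 160, .mul 147 161, .mul 154 161, .mul 147 162,
    .mul 154 162, .mul 147 163, .mul 147 164, .mul 154 164,
    .mul 147 165, .mul 147 166, .mul 154 166, .mul 154 167,
    .mul 154 168, .mul 147 169, .mul 154 169, .mul 147 170,
    .mul 154 172, .mul 147 173, .mul 154 173, .mul 147 175,
    .mul 154 175, .mul 147 176, .mul 154 176, .mul 154 177,
    .mul 154 179, .mul 147 180, .mul 147 181, .mul 154 181,
    .mul 154 182, .mul 154 183, .mul 147 186, .mul 154 187,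
    .mul 154 188, .mul 147 193, .mul 154 193, .mul 147 194,
    .mul 154 194, .mul 147 197, .mul 154 198, .mul 147 199,
    .mul 154 199, .mul 147 200, .mul 154 200, .mul 154 201,
    .mul 138 143, .inv 168 [1, 15, 5, 6, 245, 131, 110, 175], .mul 215 214, .mul 216 3,
    .mul 216 217, .mul 216 218, .mul 216 219, .mul 138 0,
    .mul 144 142, .inv 42 [33, 63, 26, 12, 195, 205, 204, 164], .mul 223 222, .inv 160 [1, 37, 207, 194, 159, 205, 102, 74],
    .mul 225 224, .inv 218 [1, 44, 224, 32, 16, 128, 4, 134], .mul 227 226, .mul 228 3,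
    .mul 228 229, .mul 228 230, .mul 145 214, .mul 146 232,
    .mul 215 233, .mul 234 3, .mul 234 217, .mul 234 218,
    .mul 234 219, .mul 234 220, .mul 216 235, .mul 216 237,
    .mul 234 237, .mul 216 238, .mul 234 238, .mul 216 239,
    .mul 234 239, .mul 234 240, .mul 216 241, .mul 234 241,
    .mul 216 242, .mul 216 243, .mul 234 243, .mul 216 244,
    .mul 234 245, .mul 216 247, .mul 234 249, .mul 216 250,
    .mul 234 250, .mul 234 251, .mul 216 254, .mul 234 257,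
    .mul 216 258, .mul 234 258, .mul 234 261, .mul 143 144,
    .inv 95 [159, 155, 33, 146, 243, 115, 6, 133], .mul 266 265, .inv 173 [1, 7, 132, 235, 180, 75, 225, 135], .mul 268 267,
    .inv 255 [1, 8, 96, 72, 16, 134, 74, 102], .mul 270 269, .mul 271 3, .mul 271 229,
    .mul 271 231, .mul 228 272, .mul 271 273, .mul 228 274,
    .mul 271 274, .mul 228 275, .mul 228 276, .mul 228 277,
    .mul 228 279, .mul 228 280, .mul 145 152, .inv 124 [237, 131, 133, 1, 2, 204, 193, 155],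
    .mul 285 284, .inv 179 [1, 32, 204, 193, 117, 194, 65, 105], .mul 287 286, .inv 247 [1, 74, 8, 102, 16, 14, 170, 10],
    .mul 289 288, .inv 282 [1, 2, 66, 130, 16, 110, 6, 8], .mul 291 290, .mul 292 3,
    .mul 152 265, .inv 20 [164, 243, 82, 10, 24, 66, 237, 118], .mul 295 294, .inv 149 [1, 164, 133, 36, 243, 74, 67, 73],
    .mul 297 296, .inv 280 [1, 2, 128, 64, 16, 96, 72, 134], .mul 299 298, .mul 300 3,
    .mul 300 293, .mul 292 301, .mul 292 302, .mul 300 302,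
    .mul 300 304, .mul 300 305, .mul 139 221, .inv 25 [159, 74, 225, 82, 243, 115, 215, 148],
    .mul 309 308, .inv 189 [1, 129, 103, 225, 217, 170, 64, 195], .mul 311 310, .inv 251 [1, 128, 32, 36, 16, 44, 102, 224],
    .mul 313 312, .inv 283 [1, 2, 64, 130, 16, 104, 6, 8], .mul 315 314, .inv 302 [1, 2, 8, 12, 16, 32, 204, 72],
    .mul 317 316, .mul 318 3, .mul 284 222, .inv 135 [225, 255, 237, 10, 183, 234, 65, 222],
    .mul 321 320, .inv 157 [1, 131, 40, 5, 112, 32, 133, 104], .mul 323 322, .inv 256 [1, 64, 66, 128, 16, 230, 224, 10],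
    .mul 325 324, .mul 291 326, .inv 293 [1, 2, 132, 204, 16, 32, 192, 128], .mul 328 327,
    .mul 329 3, .mul 329 319]
  bs := [1, 16, 2, 32, 4, 64, 8, 128]
  Ds := [
    [(1, 3), (2, 129), (3, 6), (4, 35), (5, 74), (6, 106), (7, 41), (8, 124), (9, 66), (10, 32), (11, 34), (12, 90), (13, 116), (14, 77), (15, 75), (16, 72), (18, 82), (20, 86), (22, 76), (24, 9), (26, 5), (28, 7), (30, 111), (32, 28), (33, 31), (36, 102), (37, 112), (40, 33), (41, 135), (44, 17), (45, 12), (48, 23), (51, 54), (52, 101), (55, 49), (56, 81), (59, 37), (60, 51), (63, 48), (64, 114), (65, 119), (66, 120), (67, 11), (72, 50), (73, 21), (74, 30), (75, 63), (80, 22), (82, 59), (85, 47), (87, 99), (88, 24), (90, 103), (93, 132), (95, 60), (96, 42), (97, 38), (102, 123), (103, 40), (104, 78), (105, 20), (110, 113), (111, 130), (112, 125), (115, 10), (117, 115), (118, 136), (120, 36), (123, 137), (125, 100), (126, 45), (128, 68), (129, 52), (130, 64), (131, 84),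 (132, 13), (133, 96), (134, 92), (135, 80), (144, 134), (146, 62), (148, 126), (150, 29), (153, 85), (155, 87), (157, 43), (159, 25), (160, 117), (161, 118), (164, 46), (165, 57), (170, 18), (171, 61), (174, 8), (175, 122), (176, 27), (179, 95), (180, 69), (183, 71), (185, 55), (186, 93), (189, 67), (190, 131), (192, 83), (193, 26), (194, 107), (195, 98), (204, 127), (205, 19), (206, 65), (207, 133), (208, 128), (210, 97), (213, 39), (215, 121), (217, 91), (219, 105), (220, 73), (222, 16), (224, 94), (225, 109), (230, 15), (231, 79), (234, 88), (235, 44), (236, 110), (237, 70), (240, 104), (243, 58), (245, 56), (246, 53), (249, 14), (250, 89), (252, 108), (255, 4)],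
    [(16, 3), (18, 155), (20, 211), (22, 148), (24, 164), (26, 183), (28, 159), (30, 178), (48, 192), (51, 156), (52, 206), (55, 187), (56, 196), (59, 177), (60, 191), (63, 198), (80, 188), (82, 185), (85, 213), (87, 170), (88, 204), (90, 199), (93, 149), (95, 175), (112, 195), (115, 160), (117, 172), (118, 186), (120, 180), (123, 168), (125, 184), (126, 182), (144, 200), (146, 165), (148, 210), (150, 163), (153, 162), (155, 174), (157, 179), (159, 197), (176, 193), (179, 212), (180, 157), (183, 166), (185, 209), (186, 205), (189, 176), (190, 173), (208, 169), (210, 151), (213, 190), (215, 203), (217, 201), (219, 194), (220, 202), (222, 161), (240, 208), (243, 150), (245, 207), (246, 158), (249, 189), (250, 171), (252, 167), (255, 181)],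
    [(2, 3), (4, 220), (6, 256), (8, 240), (10, 252), (12, 248), (14, 263), (32, 245), (36, 257), (40, 259), (44, 219), (64, 217), (66, 249), (72, 255), (74, 239), (96, 242), (102, 250), (104, 244), (110, 238), (128, 236), (130, 246), (132, 247), (134, 235), (160, 254), (164, 243), (170, 241), (174, 262), (192, 237), (194, 264), (204, 260), (206, 251), (224, 218), (230, 253), (234, 261), (236, 258)],
    [(32, 3), (36, 274), (40, 280), (44, 275), (96, 273), (102, 272), (104, 231), (110, 276), (160, 229), (164, 283), (170, 277), (174, 279), (224, 278), (230, 282), (234, 230), (236, 281)],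
    [(4, 3), (8, 306), (12, 302), (64, 303), (72, 304), (128, 305), (132, 293), (192, 301), (204, 307)],
    [(64, 3), (72, 330), (192, 331), (204, 319)],
    [(8, 3)],
    [(128, 3)]]
  S0 := [224, 74, 52, 0, 127, 0, 0, 0]
  S1 := [43, 0, 25, 111, 214, 0, 0, 0]
  rels := [
    ([0, 0, 0, 0, 0, 0], [168, 0, 64, 0, 0, 0, 0, 0], [2, 0, 160, 0, 0, 0, 0, 0]),
    ([1, 1, 1, 1, 1, 1, 1, 1, 1, 1, 1, 1, 1, 1, 1], [0, 0, 0, 0, 0, 0, 0, 0], [128, 194, 0, 0, 0, 0, 0, 0]),
    ([0, 1, 1, 0, 1, 1, 0, 1, 1, 0, 1, 1, 0, 1, 1, 0, 1, 1, 0, 1, 1], [0, 160, 0, 0, 0, 0, 0, 0], [0, 162, 0, 0, 160, 0, 0, 0]),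
    ([0, 0, 0, 1, 1, 0, 0, 0, 1, 1, 0, 0, 0, 1, 1, 0, 0, 0, 1, 1, 0, 0, 0, 1, 1, 0, 0, 0, 1, 1, 0, 0, 0, 1, 1], [0, 40, 0, 0, 0, 0, 0, 0], [0, 162, 0, 0, 0, 0, 0, 0]),
    ([0, 1, 1, 1, 1, 0, 1, 1, 1, 1, 0, 1, 1, 1, 1, 0, 1, 1, 1, 1, 0, 1, 1, 1, 1, 0, 1, 1, 1, 1, 0, 1, 1, 1, 1], [160, 0, 0, 0, 0, 0, 0, 0], [0, 0, 0, 0, 0, 0, 0, 0])]

theorem gens_ok : gensOK (idxPlus 4) (QNplus 4) data = true := by decide +kernel

theorem order_ok : orderOK (idxPlus 4) (QNplus 4) data = true := by decide +kernel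

theorem coh_ok : cohOK (idxPlus 4) data = true := by decide +kernel

theorem main : ∀ f : ↥(Cfsg.Omega (ZMod 2) (Cfsg.quadFormPlus 4 (ZMod 2))) → (Fin 4 ⊕ Fin 4 → ZMod 2),
    (∀ g h : ↥(Cfsg.Omega (ZMod 2) (Cfsg.quadFormPlus 4 (ZMod 2))), f (g * h) = f g +
      Matrix.mulVec (((g : ↥(Cfsg.isometryGroup (ZMod 2) (Cfsg.quadFormPlus 4 (ZMod 2)))) :
        Matrix.GeneralLinearGroup (Fin 4 ⊕ Fin 4) (ZMod 2)) : Matrix (Fin 4 ⊕ Fin 4) (Fin 4 ⊕ Fin 4) (ZMod 2)) (f h)) →
    ∃ v : Fin 4 ⊕ Fin 4 → ZMod 2, ∀ g : ↥(Cfsg.Omega (ZMod 2) (Cfsg.quadFormPlus 4 (ZMod 2))), f g =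
      Matrix.mulVec (((g : ↥(Cfsg.isometryGroup (ZMod 2) (Cfsg.quadFormPlus 4 (ZMod 2)))) :
        Matrix.GeneralLinearGroup (Fin 4 ⊕ Fin 4) (ZMod 2)) : Matrix (Fin 4 ⊕ Fin 4) (Fin 4 ⊕ Fin 4) (ZMod 2)) v - v :=
  H1_vanishes (idxPlus 4) (Cfsg.quadFormPlus 4 (ZMod 2)) (QNplus 4) (hQplus 4) data gens_ok order_ok coh_ok

end Cfsg.Agent.Lib.Helper28.H1Plus4
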