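import Cfsg.Agent.Lib.Helper28.HeptData
set_option autoImplicit false

/-!
Kernel-checked facts about the 77 blocks of the standard S(3, 6, 22) and its 352 heptads.
-/

open Cfsg

namespace Cfsg.Agent.Lib.Helper28.S4723
open Cfsg.Agent.Lib.Helper28.GolayCode Cfsg.Agent.Lib.Helper28.FinMask
open Cfsg.Agent.Lib.Helper28.Comb Cfsg.Agent.Lib.Helper28.Plane4Model
open Cfsg.Agent.Lib.Helper28.SteinerDerived

theorem E0masks_eq : E0masks = lineMasks.map (· + 2 ^ 21) ++
    (hypAll.filter (fun p => Nat.beq p.2 0)).map Prod.fst := by decide +kernel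

theorem mem_E0_iff {s : Finset (Fin 22)} : s ∈ E 0 ↔ ∃ m ∈ E0masks, s = fset 22 m := by
  rw [E0masks_eq]
  constructor
  · rintro (⟨m, hm, rfl⟩ | ⟨p, hp, hp0, rfl⟩)
    · exact ⟨m + 2 ^ 21, List.mem_append_left _ (List.mem_map.mpr ⟨m, hm, rfl⟩), rfl⟩
    · refine ⟨p.1, List.mem_append_right _ (List.mem_map.mpr ⟨p, ?_, rfl⟩), rfl⟩
      rw [List.mem_filter]
      exact ⟨hp, by rw [hp0]; rfl⟩
  · rintro ⟨m, hm, rfl⟩
    rcases List.mem_append.mp hm with h | h
    · obtain ⟨m', hm', rfl⟩ := List.mem_map.mp h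
      exact Or.inl ⟨m', hm', rfl⟩
    · obtain ⟨p, hp, rfl⟩ := List.mem_map.mp h
      rw [List.mem_filter] at hp
      exact Or.inr ⟨p, hp.1, Nat.eq_of_beq_eq_true hp.2, rfl⟩

theorem E0masks_lt : ∀ m ∈ E0masks, m < 2 ^ 22 := by decide +kernel

theorem byLow_spec : ∀ n : Fin 22, ∀ b ∈ byLow.getD n.val [], b ∈ E0masks ∧ 2 ^ n.val ∣ b := by
  decide +kernel

theorem byLow_length : byLow.length = 22 := by decide +kernel

theorem hept_lt : ∀ p ∈ heptAll, p.1 < 2 ^ 22 ∧ p.2 < 2 := by decide +kernel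

theorem hept_card : ∀ p ∈ heptAll, popcN 22 p.1 = 7 := by decide +kernel

theorem hept_inter_E0 : ∀ p ∈ heptAll, ∀ b ∈ E0masks, popcN 22 (p.1 &&& b) ≤ 3 := by
  decide +kernel

theorem hept_parity : ∀ p ∈ heptAll, ∀ q ∈ heptAll,
    (popcN 22 (p.1 &&& q.1) % 2 = 1 ↔ p.2 = q.2) := by decide +kernel

theorem hept_close : ∀ p ∈ heptAll, ∀ q ∈ heptAll,
    p.2 = q.2 → 4 ≤ popcN 22 (p.1 &&& q.1) → p = q := by decide +kernel

/-- admissible intersection sizes 0, 1, 3 -/
noncomputable def okInter (x : ℕ) : Bool :=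
  Nat.beq (popcN 22 x) 0 || Nat.beq (popcN 22 x) 1 || Nat.beq (popcN 22 x) 3

/-- test of a candidate: if it meets all blocks admissibly it is a listed heptad -/
noncomputable def heptTest (m : ℕ) : Bool :=
  !(E0masks.all fun b => okInter (Nat.land m b)) || (heptAll.map Prod.fst).contains m

/-- pruning on the blocks all of whose points are already decided -/
noncomputable def heptPrune (n acc : ℕ) : Bool :=
  (byLow.getD n []).any fun b => !okInter (Nat.land acc b)

set_option maxRecDepth 100000 in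
theorem hept_complete : allCombP heptPrune heptTest 22 7 0 = true := by decide +kernel

theorem heptPrune_sound : ∀ n acc, 2 ^ n ∣ acc → heptPrune n acc = true →
    ∀ s : Finset ℕ, (∀ i ∈ s, i < n) → heptTest (acc + ∑ i ∈ s, 2 ^ i) = true := by
  intro n acc hacc hp s hs
  unfold heptPrune at hp
  rw [List.any_eq_true] at hp
  obtain ⟨b, hb, hbad⟩ := hp
  by_cases hn : n < 22
  · obtain ⟨hbE, hbd⟩ := byLow_spec ⟨n, hn⟩ b hb
    unfold heptTest
    rw [Bool.or_eq_true]
    left
    rw [Bool.not_eq_true', List.all_eq_false]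
    refine ⟨b, hbE, ?_⟩
    rw [land_add_low hacc hbd (sum_two_pow_lt hs)]
    simpa using hbad
  · have : byLow.getD n [] = [] := by
      rw [List.getD_eq_default]; rw [byLow_length]; omega
    rw [this] at hb
    exact absurd hb List.not_mem_nil

theorem okInter_iff (a b : ℕ) : okInter (Nat.land a b) = true ↔
    (fset 22 a ∩ fset 22 b).card = 0 ∨ (fset 22 a ∩ fset 22 b).card = 1 ∨
      (fset 22 a ∩ fset 22 b).card = 3 := by
  rw [← fset_and, card_fset]
  unfold okInter
  rw [Bool.or_eq_true, Bool.or_eq_true, nat_beq_iff, nat_beq_iff, nat_beq_iff, or_assoc]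
  rfl

/-- every 7-set meeting all blocks in 0, 1 or 3 points is a listed heptad -/
theorem exists_heptad {K : Finset (Fin 22)} (hK : K.card = 7)
    (h : ∀ b ∈ E0masks, (K ∩ fset 22 b).card = 0 ∨ (K ∩ fset 22 b).card = 1 ∨
      (K ∩ fset 22 b).card = 3) : ∃ p ∈ heptAll, K = fset 22 p.1 := by
  obtain ⟨m, hm, rfl⟩ := forall_of_allCombP heptPrune_sound hept_complete K hK
  unfold heptTest at hm
  rw [Bool.or_eq_true] at hm
  rcases hm with hm | hm
  · exfalso
    rw [Bool.not_eq_true', List.all_eq_false] at hm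
    obtain ⟨b, hb, hbad⟩ := hm
    exact hbad ((okInter_iff m b).mpr (h b hb))
  · rw [List.contains_iff_mem, List.mem_map] at hm
    obtain ⟨p, hp, rfl⟩ := hm
    exact ⟨p, hp, rfl⟩

end Cfsg.Agent.Lib.Helper28.S4723
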