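import Mathlib
import Cfsg.Agent.Lib.Helper28.M23Gen

set_option autoImplicit false

/-! Generated certificates for the generation of `M23` by triples of prime orders. -/

namespace Cfsg.Agent.Lib.Helper28.M23GenCertA

open Cfsg Cfsg.Agent.Lib.Helper3.Golay Cfsg.Agent.Lib.Helper28.M23Gen

def x_2_5_11 : List ℕ := [2, 7, 0, 12, 10, 5, 6, 1, 13, 17, 4, 11, 3, 8, 22, 18, 16, 9, 15, 19, 20, 21, 14, 23]
def y_2_5_11 : List ℕ := [11, 9, 2, 16, 3, 19, 14, 7, 21, 10, 8, 6, 12, 18, 17, 22, 5, 0, 15, 4, 13, 1, 20, 23]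
def prog_2_5_11 : List Ins := [
  .mul 1 1, .mul 1 2, .mul 0 3, .mul 1 3, .mul 1 4, .mul 0 5, .mul 1 6, .mul 1 7, .mul 0 8, .mul 1 8,
  .mul 0 9, .mul 1 10, .mul 0 11, .mul 1 12, .mul 1 13, .mul 0 15, .mul 1 15, .mul 0 16, .mul 1 18, .mul 1 20,
  .mul 19 19, .inv 18, .mul 23 22, .mul 6 3, .inv 2, .mul 26 25, .mul 0 18, .mul 23 28, .mul 24 24, .mul 27 24,
  .mul 24 27, .mul 29 30, .mul 24 31, .mul 29 31, .mul 29 32, .mul 24 33, .mul 24 34, .mul 24 36, .mul 27 36, .mul 24 37,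
  .mul 24 38, .mul 29 40, .mul 24 41, .mul 24 42, .mul 29 42, .mul 24 43, .mul 29 24, .inv 27, .mul 49 48, .mul 43 34,
  .inv 44, .mul 52 51, .mul 24 29, .mul 50 50, .mul 53 50, .mul 54 50, .mul 53 53, .mul 50 54, .mul 53 54, .mul 54 54,
  .mul 54 55, .mul 50 56, .mul 54 56, .mul 53 57, .mul 50 58, .mul 54 58, .mul 53 61, .mul 54 62, .mul 50 64, .mul 50 65,
  .mul 57 55, .inv 58, .mul 73 72, .mul 61 61, .inv 68, .mul 76 75, .mul 67 63, .inv 60, .mul 79 78, .mul 77 74,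
  .mul 74 80, .mul 77 80, .mul 80 80, .mul 74 81, .mul 77 81, .mul 80 81, .mul 77 82, .mul 80 82, .mul 74 83, .mul 80 85,
  .mul 80 86, .mul 74 87, .mul 77 87, .mul 80 87, .mul 77 88, .mul 80 88, .mul 95 74, .inv 84, .mul 99 98, .mul 96 97,
  .inv 88, .mul 102 101, .mul 74 94, .mul 102 104, .mul 103 105, .mul 103 100, .mul 106 107, .mul 108 100, .inv 100, .mul 110 109,
  .mul 103 108, .inv 103, .mul 113 112, .mul 112 100, .mul 108 103, .mul 113 116, .mul 109 103, .mul 111 106, .mul 118 106, .mul 118 107,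
  .mul 118 108, .mul 118 111, .mul 118 115, .mul 118 117, .mul 118 119]
theorem cert_2_5_11 : certOK 2 5 11 x_2_5_11 y_2_5_11 prog_2_5_11 = true := by decide +kernel

def x_2_5_23 : List ℕ := [21, 17, 4, 3, 2, 7, 22, 5, 8, 9, 10, 15, 18, 14, 13, 11, 16, 1, 12, 19, 20, 0, 6, 23]
def y_2_5_23 : List ℕ := [7, 22, 18, 15, 14, 5, 19, 1, 16, 13, 0, 11, 2, 20, 3, 21, 9, 17, 6, 12, 8, 4, 10, 23]
def prog_2_5_23 : List Ins := [
  .mul 1 0, .mul 0 1, .mul 1 1, .mul 0 2, .mul 1 2, .mul 0 4, .mul 1 4, .mul 1 5, .mul 0 6, .mul 1 6,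
  .mul 0 8, .mul 1 8, .mul 0 9, .mul 1 10, .mul 1 11, .mul 1 12, .mul 1 15, .mul 0 16, .mul 1 18, .mul 1 20,
  .mul 11 2, .inv 17, .mul 23 22, .mul 15 8, .inv 12, .mul 26 25, .mul 17 15, .inv 10, .mul 29 28, .mul 24 24,
  .mul 27 24, .mul 30 24, .mul 27 27, .mul 24 30, .mul 24 31, .mul 27 31, .mul 30 31, .mul 24 32, .mul 24 33, .mul 27 34,
  .mul 24 35, .mul 27 35, .mul 24 36, .mul 24 37, .mul 27 37, .mul 24 43, .mul 30 43, .mul 30 47, .inv 47, .mul 50 49,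
  .mul 27 42, .inv 44, .mul 53 52, .mul 30 41, .inv 40, .mul 56 55, .mul 54 51, .mul 57 51, .mul 51 54, .mul 54 54,
  .mul 51 57, .mul 57 57, .mul 51 58, .mul 57 58, .mul 51 59, .mul 57 59, .mul 54 60, .mul 51 61, .mul 54 62, .mul 54 63,
  .mul 54 66, .mul 57 66, .mul 57 67, .mul 57 64, .inv 68, .mul 76 75, .mul 71 65, .inv 61, .mul 79 78, .mul 73 71,
  .mul 77 77, .mul 80 77, .mul 81 77, .mul 77 80, .mul 80 81, .mul 81 81, .mul 80 82, .mul 81 82, .mul 77 83, .mul 80 83,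
  .mul 80 84, .mul 77 85, .mul 77 86, .mul 80 86, .mul 80 87, .mul 81 94, .mul 91 91, .inv 90, .mul 99 98, .mul 95 88,
  .inv 89, .mul 102 101, .mul 93 77, .inv 92, .mul 105 104, .mul 100 103, .inv 103, .mul 108 107, .mul 107 106, .mul 106 106,
  .mul 108 111, .mul 110 106, .inv 106, .mul 114 113, .mul 103 106, .mul 110 109, .mul 112 109, .mul 115 109, .mul 116 109, .mul 116 110,
  .mul 116 112, .mul 116 115, .mul 116 117, .mul 116 118, .mul 116 119]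
theorem cert_2_5_23 : certOK 2 5 23 x_2_5_23 y_2_5_23 prog_2_5_23 = true := by decide +kernel

def x_2_7_7 : List ℕ := [18, 21, 20, 13, 4, 5, 15, 7, 9, 8, 10, 19, 12, 3, 14, 6, 22, 17, 0, 11, 2, 1, 16, 23]
def y_2_7_7 : List ℕ := [10, 9, 6, 21, 5, 16, 18, 11, 15, 17, 3, 14, 8, 13, 22, 7, 20, 0, 4, 19, 2, 1, 12, 23]
def prog_2_7_7 : List Ins := [
  .mul 1 0, .mul 1 1, .mul 1 2, .mul 0 3, .mul 1 3, .mul 1 4, .mul 0 6, .mul 0 7, .mul 1 7, .mul 1 8,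
  .mul 1 9, .mul 0 10, .mul 0 11, .mul 1 11, .mul 1 13, .mul 1 14, .mul 1 17, .mul 1 18, .mul 0 19, .mul 1 19,
  .mul 13 16, .inv 7, .mul 23 22, .mul 2 8, .inv 8, .mul 26 25, .mul 19 19, .inv 1, .mul 29 28, .mul 24 24,
  .mul 30 24, .mul 27 27, .mul 30 27, .mul 30 30, .mul 24 31, .mul 27 31, .mul 30 31, .mul 24 32, .mul 24 33, .mul 24 34,
  .mul 24 35, .mul 27 36, .mul 30 38, .mul 27 39, .mul 27 40, .mul 30 40, .mul 27 43, .mul 43 24, .inv 34, .mul 50 49,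
  .mul 32 30, .inv 33, .mul 53 52, .mul 24 30, .mul 50 55, .mul 51 51, .mul 54 51, .mul 56 51, .mul 51 54, .mul 51 56,
  .mul 54 56, .mul 56 56, .mul 51 57, .mul 56 57, .mul 51 58, .mul 54 58, .mul 51 59, .mul 56 59, .mul 56 60, .mul 51 62,
  .mul 56 65, .mul 51 67, .mul 61 65, .inv 65, .mul 75 74, .mul 62 66, .inv 69, .mul 78 77, .mul 54 69, .inv 61,
  .mul 81 80, .mul 79 76, .mul 82 76, .mul 79 79, .mul 82 79, .mul 76 82, .mul 82 82, .mul 76 83, .mul 79 84, .mul 82 84,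
  .mul 76 85, .mul 79 85, .mul 82 85, .mul 79 87, .mul 82 87, .mul 79 88, .mul 82 88, .mul 90 87, .inv 84, .mul 100 99,
  .mul 76 79, .inv 82, .mul 103 102, .mul 88 90, .inv 92, .mul 106 105, .mul 107 101, .mul 101 104, .inv 107, .mul 110 109,
  .mul 109 101, .mul 107 112, .mul 110 113, .mul 108 113, .mul 110 115, .mul 111 108, .mul 112 108, .mul 116 108, .mul 112 111, .mul 116 111,
  .mul 116 112, .mul 112 117, .mul 116 117, .mul 116 118, .mul 116 120, .mul 116 123]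
theorem cert_2_7_7 : certOK 2 7 7 x_2_7_7 y_2_7_7 prog_2_7_7 = true := by decide +kernel

def x_2_7_11 : List ℕ := [18, 21, 20, 13, 4, 5, 15, 7, 9, 8, 10, 19, 12, 3, 14, 6, 22, 17, 0, 11, 2, 1, 16, 23]
def y_2_7_11 : List ℕ := [9, 14, 12, 17, 3, 2, 13, 22, 16, 5, 1, 19, 7, 10, 20, 15, 11, 8, 6, 4, 18, 21, 0, 23]
def prog_2_7_11 : List Ins := [
  .mul 1 0, .mul 0 1, .mul 1 1, .mul 0 2, .mul 1 2, .mul 1 3, .mul 1 4, .mul 0 6, .mul 1 6, .mul 0 7,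
  .mul 1 7, .mul 0 8, .mul 1 8, .mul 1 9, .mul 1 10, .mul 0 12, .mul 1 14, .mul 0 16, .mul 1 16, .mul 1 17,
  .mul 21 0, .inv 6, .mul 23 22, .mul 1 12, .inv 17, .mul 26 25, .mul 1 18, .inv 11, .mul 29 28, .mul 24 24,
  .mul 27 24, .mul 30 24, .mul 24 27, .mul 30 27, .mul 27 30, .mul 30 30, .mul 27 31, .mul 30 31, .mul 30 32, .mul 24 33,
  .mul 24 34, .mul 24 35, .mul 27 35, .mul 24 37, .mul 27 41, .mul 30 43, .mul 30 44, .mul 24 32, .inv 30, .mul 50 49,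
  .mul 30 37, .inv 44, .mul 53 52, .mul 33 36, .mul 53 55, .mul 54 51, .mul 56 51, .mul 51 54, .mul 56 54, .mul 51 56,
  .mul 54 57, .mul 56 57, .mul 51 58, .mul 54 58, .mul 56 58, .mul 51 59, .mul 54 59, .mul 56 59, .mul 51 62, .mul 56 62,
  .mul 51 66, .mul 56 68, .mul 58 73, .inv 64, .mul 75 74, .mul 61 65, .inv 54, .mul 78 77, .mul 59 56, .inv 61,
  .mul 81 80, .mul 76 76, .mul 79 76, .mul 82 76, .mul 79 79, .mul 76 82, .mul 82 82, .mul 79 83, .mul 82 83, .mul 76 84,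
  .mul 79 84, .mul 82 84, .mul 82 85, .mul 79 88, .mul 76 89, .mul 82 89, .mul 82 96, .mul 82 79, .inv 86, .mul 100 99,
  .mul 95 98, .inv 82, .mul 103 102, .mul 99 94, .inv 87, .mul 106 105, .mul 101 101, .mul 107 101, .inv 101, .mul 110 109,
  .mul 104 107, .mul 104 109, .mul 110 113, .mul 108 109, .mul 101 115, .mul 110 116, .mul 107 115, .mul 112 111, .mul 114 111, .mul 118 111,
  .mul 114 112, .mul 118 112, .mul 118 114, .mul 114 119, .mul 118 119, .mul 118 120, .mul 118 122, .mul 118 125]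
theorem cert_2_7_11 : certOK 2 7 11 x_2_7_11 y_2_7_11 prog_2_7_11 = true := by decide +kernel

def x_2_7_23 : List ℕ := [13, 1, 10, 16, 8, 9, 22, 20, 4, 5, 2, 11, 12, 0, 14, 18, 3, 17, 15, 19, 7, 21, 6, 23]
def y_2_7_23 : List ℕ := [22, 12, 11, 21, 17, 5, 14, 8, 13, 16, 9, 6, 0, 4, 10, 1, 2, 18, 19, 7, 20, 15, 3, 23]
def prog_2_7_23 : List Ins := [
  .mul 1 0, .mul 0 1, .mul 1 1, .mul 0 2, .mul 1 2, .mul 1 3, .mul 0 4, .mul 1 4, .mul 1 6, .mul 1 7,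
  .mul 1 8, .mul 1 9, .mul 1 10, .mul 1 11, .mul 1 12, .mul 1 13, .mul 1 14, .mul 0 15, .mul 1 17, .mul 0 18,
  .mul 11 18, .inv 10, .mul 23 22, .mul 15 15, .inv 17, .mul 26 25, .mul 10 6, .inv 18, .mul 29 28, .mul 27 24,
  .mul 24 27, .mul 27 27, .mul 30 27, .mul 24 30, .mul 27 30, .mul 24 32, .mul 27 32, .mul 30 32, .mul 27 33, .mul 24 34,
  .mul 24 35, .mul 30 35, .mul 24 37, .mul 27 38, .mul 24 39, .mul 30 42, .mul 24 43, .mul 38 46, .mul 40 46, .inv 48,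
  .mul 51 50, .mul 42 50, .mul 51 53, .mul 52 49, .mul 54 49, .mul 49 52, .mul 52 52, .mul 54 54, .mul 49 55, .mul 52 55,
  .mul 54 55, .mul 49 56, .mul 52 56, .mul 49 57, .mul 54 57, .mul 49 58, .mul 52 58, .mul 49 59, .mul 52 63, .mul 49 64,
  .mul 54 62, .inv 64, .mul 73 72, .mul 71 65, .inv 58, .mul 76 75, .mul 70 64, .inv 69, .mul 79 78, .mul 74 74,
  .mul 77 74, .mul 80 74, .mul 74 77, .mul 77 77, .mul 80 77, .mul 80 80, .mul 77 81, .mul 80 81, .mul 74 82, .mul 74 84,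
  .mul 80 84, .mul 80 85, .mul 77 86, .mul 74 87, .mul 74 90, .mul 84 94, .inv 89, .mul 98 97, .mul 97 86, .inv 80,
  .mul 101 100, .mul 88 94, .inv 96, .mul 104 103, .mul 105 105, .inv 99, .mul 107 106, .mul 102 105, .mul 105 99, .mul 110 105,
  .inv 105, .mul 112 111, .mul 111 102, .mul 109 108, .mul 113 108, .mul 114 108, .mul 113 109, .mul 114 109, .mul 114 113, .mul 113 115,
  .mul 114 115, .mul 114 116, .mul 114 118, .mul 114 121]
theorem cert_2_7_23 : certOK 2 7 23 x_2_7_23 y_2_7_23 prog_2_7_23 = true := by decide +kernel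

def x_2_11_11 : List ℕ := [18, 21, 20, 13, 4, 5, 15, 7, 9, 8, 10, 19, 12, 3, 14, 6, 22, 17, 0, 11, 2, 1, 16, 23]
def y_2_11_11 : List ℕ := [4, 16, 11, 18, 6, 17, 7, 21, 14, 20, 15, 19, 10, 13, 5, 2, 3, 1, 22, 0, 8, 12, 9, 23]
def prog_2_11_11 : List Ins := [
  .mul 1 0, .mul 1 1, .mul 0 2, .mul 1 2, .mul 0 3, .mul 1 3, .mul 1 4, .mul 0 5, .mul 1 5, .mul 1 6,
  .mul 1 7, .mul 0 8, .mul 1 9, .mul 1 11, .mul 0 12, .mul 1 12, .mul 1 14, .mul 0 15, .mul 1 17, .mul 1 18,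
  .mul 7 16, .inv 0, .mul 23 22, .mul 20 18, .inv 2, .mul 26 25, .mul 13 10, .mul 23 28, .mul 24 24, .mul 29 24,
  .mul 24 27, .mul 27 27, .mul 24 29, .mul 27 29, .mul 29 29, .mul 24 30, .mul 29 30, .mul 27 31, .mul 29 31, .mul 24 33,
  .mul 29 33, .mul 29 34, .mul 29 35, .mul 24 36, .mul 27 36, .mul 24 39, .mul 43 24, .inv 40, .mul 49 48, .mul 47 35,
  .inv 24, .mul 52 51, .mul 27 32, .mul 52 54, .mul 50 50, .mul 53 50, .mul 55 50, .mul 50 53, .mul 55 53, .mul 53 55,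
  .mul 55 55, .mul 53 56, .mul 53 57, .mul 55 57, .mul 50 58, .mul 53 58, .mul 50 59, .mul 55 60, .mul 53 61, .mul 55 64,
  .mul 55 65, .mul 53 72, .inv 56, .mul 74 73, .mul 60 55, .inv 64, .mul 77 76, .mul 67 62, .inv 66, .mul 80 79,
  .mul 75 75, .mul 78 75, .mul 81 75, .mul 75 78, .mul 78 81, .mul 81 81, .mul 78 82, .mul 75 83, .mul 78 83, .mul 81 83,
  .mul 78 84, .mul 81 85, .mul 78 88, .mul 81 88, .mul 78 90, .mul 81 91, .mul 81 89, .inv 89, .mul 99 98, .mul 96 96,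
  .inv 83, .mul 102 101, .mul 89 90, .inv 95, .mul 105 104, .mul 106 103, .mul 107 103, .inv 103, .mul 109 108, .mul 106 107,
  .inv 100, .mul 112 111, .mul 100 103, .mul 110 107, .mul 113 107, .mul 114 107, .mul 113 110, .mul 114 110, .mul 114 113, .mul 113 115,
  .mul 114 115, .mul 114 116, .mul 114 118, .mul 114 121]
theorem cert_2_11_11 : certOK 2 11 11 x_2_11_11 y_2_11_11 prog_2_11_11 = true := by decide +kernel

def x_2_11_23 : List ℕ := [0, 21, 2, 12, 11, 10, 6, 19, 8, 18, 5, 4, 3, 14, 13, 15, 20, 17, 9, 7, 16, 1, 22, 23]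
def y_2_11_23 : List ℕ := [7, 18, 19, 22, 13, 4, 9, 15, 14, 17, 10, 0, 11, 20, 1, 16, 3, 12, 5, 8, 21, 2, 6, 23]
def prog_2_11_23 : List Ins := [
  .mul 0 1, .mul 1 1, .mul 1 2, .mul 1 3, .mul 1 4, .mul 0 5, .mul 1 5, .mul 0 6, .mul 1 6, .mul 1 7,
  .mul 0 8, .mul 1 8, .mul 1 10, .mul 1 11, .mul 1 12, .mul 1 13, .mul 0 14, .mul 1 14, .mul 0 16, .mul 1 18,
  .mul 0 19, .mul 7 21, .mul 4 19, .mul 15 20, .inv 19, .mul 26 25, .mul 23 23, .mul 23 24, .mul 24 24, .mul 27 24,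
  .mul 23 27, .mul 24 27, .mul 27 27, .mul 23 28, .mul 23 29, .mul 24 29, .mul 23 30, .mul 24 30, .mul 23 31, .mul 24 31,
  .mul 27 31, .mul 27 32, .mul 27 34, .mul 27 40, .mul 45 44, .inv 27, .mul 47 46, .mul 34 45, .mul 27 45, .inv 30,
  .mul 51 50, .mul 48 48, .mul 49 48, .mul 52 48, .mul 48 49, .mul 49 49, .mul 49 52, .mul 48 53, .mul 49 53, .mul 49 54,
  .mul 52 54, .mul 49 55, .mul 52 55, .mul 48 56, .mul 52 56, .mul 48 60, .mul 49 63, .mul 52 65, .mul 63 48, .inv 54,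
  .mul 71 70, .mul 48 61, .inv 63, .mul 74 73, .mul 68 58, .mul 75 72, .mul 75 75, .mul 76 75, .mul 72 76, .mul 75 76,
  .mul 76 76, .mul 75 77, .mul 72 78, .mul 75 78, .mul 75 81, .mul 76 81, .mul 76 83, .mul 75 85, .mul 75 86, .mul 75 87,
  .mul 75 88, .mul 78 84, .inv 92, .mul 94 93, .mul 76 84, .inv 86, .mul 97 96, .mul 84 77, .inv 87, .mul 100 99,
  .mul 95 95, .mul 98 95, .inv 102, .mul 104 103, .mul 102 101, .mul 104 106, .mul 101 106, .mul 104 108, .mul 102 98, .mul 107 105,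
  .mul 109 105, .mul 110 105, .mul 109 107, .mul 110 107, .mul 110 109, .mul 109 111, .mul 110 111, .mul 110 112, .mul 110 114, .mul 110 117]
theorem cert_2_11_23 : certOK 2 11 23 x_2_11_23 y_2_11_23 prog_2_11_23 = true := by decide +kernel

def x_2_23_23 : List ℕ := [12, 4, 3, 2, 1, 11, 6, 10, 13, 9, 7, 5, 0, 8, 22, 15, 16, 17, 18, 21, 20, 19, 14, 23]
def y_2_23_23 : List ℕ := [21, 7, 20, 18, 8, 15, 5, 3, 6, 2, 9, 22, 17, 4, 1, 16, 14, 11, 12, 0, 13, 10, 19, 23]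
def prog_2_23_23 : List Ins := [
  .mul 1 0, .mul 0 1, .mul 1 1, .mul 1 2, .mul 0 4, .mul 1 4, .mul 0 5, .mul 1 5, .mul 1 6, .mul 1 7,
  .mul 1 8, .mul 0 9, .mul 1 10, .mul 1 11, .mul 1 12, .mul 1 13, .mul 1 15, .mul 0 17, .mul 0 18, .mul 1 20,
  .mul 8 13, .inv 0, .mul 23 22, .mul 19 22, .inv 10, .mul 26 25, .mul 24 24, .mul 27 24, .mul 24 27, .mul 27 27,
  .mul 24 28, .mul 27 28, .mul 24 29, .mul 27 29, .mul 24 30, .mul 27 30, .mul 24 31, .mul 27 31, .mul 24 32, .mul 27 33,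
  .mul 24 34, .mul 27 34, .mul 27 35, .mul 24 36, .mul 24 39, .mul 40 43, .inv 28, .mul 48 47, .mul 35 31, .mul 49 49,
  .mul 50 49, .mul 49 50, .mul 50 50, .mul 49 51, .mul 50 51, .mul 49 52, .mul 50 52, .mul 49 53, .mul 49 54, .mul 49 55,
  .mul 49 57, .mul 50 57, .mul 50 61, .mul 49 62, .mul 49 63, .mul 49 64, .mul 50 64, .mul 60 49, .inv 50, .mul 70 69,
  .mul 58 69, .inv 56, .mul 73 72, .mul 49 51, .inv 55, .mul 76 75, .mul 72 61, .mul 76 78, .mul 71 71, .mul 74 71,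
  .mul 79 71, .mul 71 74, .mul 74 74, .mul 71 79, .mul 74 80, .mul 71 81, .mul 79 81, .mul 71 82, .mul 74 82, .mul 71 85,
  .mul 79 85, .mul 71 86, .mul 74 87, .mul 74 91, .mul 74 88, .inv 91, .mul 97 96, .mul 94 95, .mul 97 99, .mul 81 99,
  .inv 79, .mul 102 101, .mul 103 103, .mul 100 98, .mul 104 104, .inv 103, .mul 107 106, .mul 105 98, .mul 109 103, .mul 107 110,
  .mul 105 106, .mul 107 112, .mul 109 105, .mul 111 105, .mul 113 105, .mul 111 109, .mul 113 109, .mul 113 111, .mul 111 114, .mul 113 114,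
  .mul 113 115, .mul 113 117, .mul 113 120]
theorem cert_2_23_23 : certOK 2 23 23 x_2_23_23 y_2_23_23 prog_2_23_23 = true := by decide +kernel

def x_3_3_11 : List ℕ := [0, 2, 4, 5, 1, 11, 20, 18, 8, 15, 19, 3, 9, 13, 6, 12, 16, 10, 21, 17, 14, 7, 22, 23]
def y_3_3_11 : List ℕ := [5, 21, 20, 0, 4, 3, 6, 11, 14, 9, 8, 17, 18, 12, 10, 15, 1, 7, 13, 19, 22, 16, 2, 23]
def prog_3_3_11 : List Ins := [
  .mul 0 1, .mul 1 1, .mul 1 2, .mul 0 4, .mul 1 4, .mul 0 5, .mul 1 5, .mul 0 6, .mul 1 8, .mul 0 9,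
  .mul 1 9, .mul 0 10, .mul 1 11, .mul 1 12, .mul 0 13, .mul 1 14, .mul 0 15, .mul 1 16, .mul 0 17, .mul 0 18,
  .mul 0 20, .mul 16 20, .inv 5, .mul 24 23, .mul 20 7, .mul 4 0, .inv 4, .mul 28 27, .mul 25 25, .mul 26 25,
  .mul 25 26, .mul 29 26, .mul 25 29, .mul 26 29, .mul 25 30, .mul 26 30, .mul 25 31, .mul 26 31, .mul 29 31, .mul 25 32,
  .mul 26 33, .mul 25 37, .mul 26 37, .mul 25 38, .mul 26 39, .mul 25 42, .mul 44 29, .inv 32, .mul 49 48, .mul 25 43,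
  .inv 26, .mul 52 51, .mul 34 25, .inv 25, .mul 55 54, .mul 50 50, .mul 53 50, .mul 53 53, .mul 50 56, .mul 53 56,
  .mul 50 57, .mul 53 57, .mul 56 57, .mul 53 58, .mul 56 58, .mul 50 59, .mul 50 60, .mul 53 60, .mul 50 62, .mul 53 64,
  .mul 56 67, .mul 53 68, .mul 56 59, .mul 57 63, .inv 61, .mul 76 75, .mul 63 69, .inv 50, .mul 79 78, .mul 74 74,
  .mul 77 74, .mul 74 80, .mul 77 80, .mul 80 80, .mul 80 81, .mul 77 82, .mul 80 82, .mul 74 83, .mul 80 83, .mul 74 84,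
  .mul 80 84, .mul 74 86, .mul 80 86, .mul 74 88, .mul 80 90, .mul 80 93, .mul 90 95, .inv 83, .mul 99 98, .mul 74 96,
  .inv 88, .mul 102 101, .mul 97 74, .inv 90, .mul 105 104, .mul 94 94, .inv 87, .mul 108 107, .mul 109 103, .mul 100 110,
  .inv 100, .mul 112 111, .mul 111 100, .inv 109, .mul 115 114, .mul 100 109, .mul 114 100, .mul 114 109, .mul 112 119, .mul 117 109,
  .mul 115 121, .mul 116 110, .mul 118 110, .mul 122 110, .mul 122 116, .mul 122 117, .mul 122 118, .mul 122 120, .mul 122 123, .mul 122 124]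
theorem cert_3_3_11 : certOK 3 3 11 x_3_3_11 y_3_3_11 prog_3_3_11 = true := by decide +kernel

def x_3_3_23 : List ℕ := [0, 22, 16, 18, 1, 12, 10, 21, 3, 7, 19, 5, 11, 2, 14, 15, 13, 17, 8, 6, 20, 9, 4, 23]
def y_3_3_23 : List ℕ := [14, 1, 2, 19, 5, 20, 15, 8, 10, 9, 7, 6, 12, 3, 16, 11, 0, 18, 22, 13, 4, 21, 17, 23]
def prog_3_3_23 : List Ins := [
  .mul 1 1, .mul 0 2, .mul 0 3, .mul 1 3, .mul 0 5, .mul 1 5, .mul 0 6, .mul 1 6, .mul 0 7, .mul 1 8,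
  .mul 0 9, .mul 1 9, .mul 1 10, .mul 1 11, .mul 0 12, .mul 1 12, .mul 1 14, .mul 0 15, .mul 0 17, .mul 1 17,
  .mul 0 19, .mul 21 4, .mul 4 1, .mul 1 12, .inv 17, .mul 26 25, .mul 24 17, .inv 18, .mul 29 28, .mul 23 23,
  .mul 24 23, .mul 30 23, .mul 23 24, .mul 24 24, .mul 30 24, .mul 24 30, .mul 23 32, .mul 23 33, .mul 24 33, .mul 30 33,
  .mul 23 34, .mul 24 36, .mul 30 38, .mul 23 39, .mul 24 40, .mul 23 41, .mul 30 43, .mul 30 37, .inv 43, .mul 50 49,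
  .mul 39 45, .inv 38, .mul 53 52, .mul 41 24, .mul 50 55, .mul 51 51, .mul 54 51, .mul 56 51, .mul 51 56, .mul 54 56,
  .mul 56 56, .mul 51 57, .mul 56 57, .mul 51 58, .mul 54 58, .mul 56 58, .mul 51 59, .mul 54 61, .mul 56 61, .mul 54 62,
  .mul 56 63, .mul 51 65, .mul 56 66, .mul 67 58, .mul 71 51, .inv 64, .mul 77 76, .mul 75 63, .inv 67, .mul 80 79,
  .mul 78 75, .mul 81 75, .mul 75 78, .mul 78 78, .mul 81 78, .mul 75 81, .mul 81 81, .mul 75 82, .mul 75 83, .mul 81 83,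
  .mul 75 86, .mul 81 86, .mul 81 88, .mul 78 89, .mul 81 89, .mul 81 93, .mul 94 96, .inv 87, .mul 99 98, .mul 89 83,
  .inv 97, .mul 102 101, .mul 75 89, .inv 91, .mul 105 104, .mul 100 100, .mul 107 103, .mul 108 106, .mul 108 100, .inv 100,
  .mul 111 110, .mul 100 109, .mul 111 113, .mul 113 107, .mul 109 108, .mul 112 108, .mul 115 108, .mul 112 109, .mul 115 109, .mul 115 112,
  .mul 112 116, .mul 115 116, .mul 115 117, .mul 115 119, .mul 115 122]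
theorem cert_3_3_23 : certOK 3 3 23 x_3_3_23 y_3_3_23 prog_3_3_23 = true := by decide +kernel

end Cfsg.Agent.Lib.Helper28.M23GenCertA
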