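import Mathlib
import Cfsg.Agent.Lib.Helper28.M23Gen

set_option autoImplicit false

/-! Generated certificates for the generation of `M23` by triples of prime orders. -/

namespace Cfsg.Agent.Lib.Helper28.M23GenCertB

open Cfsg Cfsg.Agent.Lib.Helper3.Golay Cfsg.Agent.Lib.Helper28.M23Gen

def x_3_5_5 : List ℕ := [0, 1, 19, 10, 7, 5, 14, 8, 4, 13, 18, 11, 20, 21, 16, 15, 6, 12, 3, 22, 17, 9, 2, 23]
def y_3_5_5 : List ℕ := [15, 11, 3, 4, 8, 21, 7, 0, 19, 22, 6, 16, 12, 17, 5, 10, 9, 14, 18, 2, 20, 13, 1, 23]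
def prog_3_5_5 : List Ins := [
  .mul 1 1, .mul 0 2, .mul 1 2, .mul 0 3, .mul 0 4, .mul 1 4, .mul 1 5, .mul 0 6, .mul 1 6, .mul 0 7,
  .mul 1 9, .mul 1 10, .mul 1 11, .mul 0 12, .mul 1 12, .mul 1 14, .mul 1 15, .mul 1 16, .mul 0 18, .mul 1 19,
  .mul 0 20, .mul 19 8, .inv 9, .mul 24 23, .mul 5 13, .inv 22, .mul 27 26, .mul 20 18, .mul 27 29, .mul 25 25,
  .mul 30 25, .mul 25 28, .mul 28 28, .mul 30 28, .mul 25 30, .mul 28 30, .mul 30 30, .mul 28 31, .mul 25 32, .mul 28 32,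
  .mul 30 32, .mul 25 33, .mul 25 34, .mul 28 34, .mul 25 35, .mul 30 35, .mul 28 37, .mul 46 35, .inv 34, .mul 50 49,
  .mul 38 43, .inv 30, .mul 53 52, .mul 25 40, .inv 39, .mul 56 55, .mul 51 51, .mul 54 51, .mul 51 57, .mul 54 57,
  .mul 51 58, .mul 54 58, .mul 57 59, .mul 51 60, .mul 54 60, .mul 57 60, .mul 54 61, .mul 54 62, .mul 54 63, .mul 54 64,
  .mul 57 64, .mul 54 66, .mul 54 68, .mul 51 74, .mul 68 62, .mul 59 63, .inv 74, .mul 78 77, .mul 58 71, .inv 71,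
  .mul 81 80, .mul 76 76, .mul 82 76, .mul 76 82, .mul 76 83, .mul 82 83, .mul 76 84, .mul 79 84, .mul 76 85, .mul 82 85,
  .mul 76 86, .mul 76 87, .mul 76 89, .mul 79 90, .mul 76 91, .mul 76 93, .mul 76 95, .mul 79 97, .mul 88 99, .inv 94,
  .mul 101 100, .mul 79 100, .mul 101 103, .mul 97 88, .inv 87, .mul 106 105, .mul 102 102, .mul 107 102, .inv 102, .mul 110 109,
  .mul 102 108, .mul 107 104, .mul 110 113, .mul 113 108, .mul 109 102, .inv 108, .mul 117 116, .mul 114 111, .mul 115 111, .mul 118 111,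
  .mul 115 114, .mul 118 114, .mul 118 115, .mul 115 119, .mul 118 119, .mul 118 120, .mul 118 122, .mul 118 125]
theorem cert_3_5_5 : certOK 3 5 5 x_3_5_5 y_3_5_5 prog_3_5_5 = true := by decide +kernel

def x_3_5_7 : List ℕ := [0, 2, 4, 5, 1, 11, 20, 18, 8, 15, 19, 3, 9, 13, 6, 12, 16, 10, 21, 17, 14, 7, 22, 23]
def y_3_5_7 : List ℕ := [16, 17, 13, 11, 2, 15, 6, 7, 12, 14, 10, 19, 4, 8, 22, 1, 3, 21, 20, 0, 9, 5, 18, 23]
def prog_3_5_7 : List Ins := [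
  .mul 1 1, .mul 0 2, .mul 1 2, .mul 1 3, .mul 1 4, .mul 0 5, .mul 1 5, .mul 0 6, .mul 0 7, .mul 1 7,
  .mul 0 8, .mul 0 9, .mul 1 9, .mul 1 10, .mul 1 12, .mul 0 14, .mul 0 15, .mul 1 15, .mul 1 16, .mul 0 17,
  .mul 0 18, .mul 1 13, .inv 13, .mul 24 23, .mul 12 22, .inv 22, .mul 27 26, .mul 18 5, .inv 17, .mul 30 29,
  .mul 25 25, .mul 31 25, .mul 25 28, .mul 28 28, .mul 28 31, .mul 28 32, .mul 31 32, .mul 25 34, .mul 31 34, .mul 25 35,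
  .mul 31 35, .mul 25 36, .mul 31 36, .mul 28 37, .mul 28 38, .mul 25 39, .mul 28 39, .mul 25 41, .mul 31 45, .inv 48,
  .mul 51 50, .mul 38 35, .inv 49, .mul 54 53, .mul 28 34, .inv 38, .mul 57 56, .mul 52 52, .mul 55 52, .mul 58 52,
  .mul 58 55, .mul 55 58, .mul 52 59, .mul 55 59, .mul 58 59, .mul 58 60, .mul 52 61, .mul 52 62, .mul 58 62, .mul 58 63,
  .mul 55 64, .mul 52 66, .mul 52 68, .mul 55 70, .mul 52 67, .inv 67, .mul 77 76, .mul 65 74, .mul 55 63, .inv 61,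
  .mul 81 80, .mul 78 78, .mul 79 78, .mul 82 78, .mul 78 79, .mul 79 79, .mul 82 79, .mul 78 82, .mul 79 82, .mul 78 83,
  .mul 79 84, .mul 82 84, .mul 78 86, .mul 79 86, .mul 82 86, .mul 78 90, .mul 78 94, .mul 85 85, .inv 88, .mul 100 99,
  .mul 94 88, .inv 92, .mul 103 102, .mul 84 102, .mul 104 105, .mul 104 101, .inv 104, .mul 108 107, .mul 105 105, .mul 108 110,
  .mul 107 105, .mul 109 106, .mul 111 106, .mul 112 106, .mul 111 109, .mul 112 109, .mul 112 111, .mul 111 113, .mul 112 113, .mul 112 114,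
  .mul 112 116, .mul 112 119]
theorem cert_3_5_7 : certOK 3 5 7 x_3_5_7 y_3_5_7 prog_3_5_7 = true := by decide +kernel

def x_3_5_11 : List ℕ := [0, 11, 16, 2, 22, 9, 6, 15, 4, 13, 10, 21, 12, 5, 17, 18, 3, 19, 7, 14, 20, 1, 8, 23]
def y_3_5_11 : List ℕ := [5, 11, 2, 9, 4, 20, 1, 22, 13, 17, 21, 12, 16, 0, 3, 7, 6, 18, 14, 19, 8, 15, 10, 23]
def prog_3_5_11 : List Ins := [
  .mul 0 1, .mul 1 1, .mul 0 2, .mul 1 2, .mul 1 3, .mul 0 5, .mul 1 5, .mul 0 6, .mul 0 7, .mul 0 8,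
  .mul 0 9, .mul 1 10, .mul 0 11, .mul 1 12, .mul 0 13, .mul 1 15, .mul 0 16, .mul 0 17, .mul 1 18, .mul 0 19,
  .mul 1 21, .mul 8 22, .inv 5, .mul 24 23, .mul 12 5, .inv 18, .mul 27 26, .mul 22 20, .inv 19, .mul 30 29,
  .mul 25 25, .mul 31 25, .mul 25 28, .mul 31 28, .mul 25 31, .mul 28 31, .mul 25 32, .mul 28 32, .mul 31 32, .mul 25 33,
  .mul 28 33, .mul 31 33, .mul 31 34, .mul 28 36, .mul 31 37, .mul 31 38, .mul 25 41, .mul 31 41, .mul 28 34, .inv 38,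
  .mul 51 50, .mul 31 44, .inv 41, .mul 54 53, .mul 48 46, .inv 42, .mul 57 56, .mul 52 52, .mul 55 52, .mul 52 55,
  .mul 55 55, .mul 58 55, .mul 55 58, .mul 58 58, .mul 55 59, .mul 58 59, .mul 55 60, .mul 52 61, .mul 52 62, .mul 52 64,
  .mul 58 65, .mul 55 66, .mul 58 70, .mul 55 71, .mul 72 60, .inv 67, .mul 77 76, .mul 60 67, .mul 59 65, .mul 77 80,
  .mul 78 78, .mul 79 79, .mul 81 79, .mul 78 81, .mul 78 82, .mul 79 82, .mul 78 83, .mul 79 83, .mul 78 84, .mul 79 84,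
  .mul 78 85, .mul 78 86, .mul 78 87, .mul 79 88, .mul 81 88, .mul 81 92, .mul 79 81, .inv 85, .mul 99 98, .mul 90 93,
  .mul 99 101, .mul 83 78, .mul 99 103, .mul 104 102, .mul 105 102, .inv 102, .mul 107 106, .mul 100 102, .mul 106 102, .inv 100,
  .mul 111 110, .mul 108 105, .mul 109 105, .mul 112 105, .mul 109 108, .mul 112 108, .mul 112 109, .mul 109 113, .mul 112 113, .mul 112 114,
  .mul 112 116, .mul 112 119]
theorem cert_3_5_11 : certOK 3 5 11 x_3_5_11 y_3_5_11 prog_3_5_11 = true := by decide +kernel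

def x_3_5_23 : List ℕ := [0, 15, 2, 18, 14, 5, 17, 22, 13, 9, 1, 3, 7, 19, 16, 10, 4, 21, 11, 8, 20, 6, 12, 23]
def y_3_5_23 : List ℕ := [16, 22, 12, 18, 10, 0, 5, 6, 9, 2, 19, 1, 20, 13, 14, 21, 7, 17, 11, 15, 8, 4, 3, 23]
def prog_3_5_23 : List Ins := [
  .mul 0 1, .mul 1 1, .mul 0 2, .mul 1 2, .mul 0 3, .mul 1 3, .mul 0 5, .mul 1 5, .mul 0 6, .mul 1 6,
  .mul 0 7, .mul 1 7, .mul 0 8, .mul 0 9, .mul 1 10, .mul 0 11, .mul 0 12, .mul 0 15, .mul 1 15, .mul 0 17,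
  .mul 1 20, .mul 0 0, .mul 6 22, .inv 16, .mul 25 24, .mul 5 8, .mul 25 27, .mul 23 23, .mul 26 23, .mul 28 23,
  .mul 23 26, .mul 28 26, .mul 23 28, .mul 26 28, .mul 28 28, .mul 26 29, .mul 28 29, .mul 23 31, .mul 28 31, .mul 26 32,
  .mul 26 33, .mul 28 33, .mul 23 34, .mul 26 39, .mul 23 42, .mul 38 40, .inv 37, .mul 48 47, .mul 44 35, .inv 29,
  .mul 51 50, .mul 28 42, .inv 45, .mul 54 53, .mul 49 49, .mul 52 49, .mul 55 49, .mul 49 52, .mul 55 52, .mul 49 55,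
  .mul 52 55, .mul 55 55, .mul 55 56, .mul 49 57, .mul 52 58, .mul 55 58, .mul 49 60, .mul 52 61, .mul 49 62, .mul 55 67,
  .mul 49 68, .mul 60 70, .inv 63, .mul 74 73, .mul 67 56, .inv 65, .mul 77 76, .mul 55 72, .inv 69, .mul 80 79,
  .mul 78 75, .mul 81 75, .mul 75 78, .mul 78 78, .mul 81 78, .mul 75 81, .mul 81 81, .mul 75 82, .mul 78 82, .mul 75 83,
  .mul 78 83, .mul 81 84, .mul 75 85, .mul 75 86, .mul 81 86, .mul 75 92, .mul 93 78, .mul 87 89, .inv 84, .mul 100 99,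
  .mul 92 78, .mul 100 102, .mul 98 101, .mul 103 101, .inv 98, .mul 106 105, .mul 104 105, .mul 106 108, .mul 103 108, .mul 107 104,
  .mul 109 104, .mul 110 104, .mul 109 107, .mul 110 107, .mul 110 109, .mul 109 111, .mul 110 111, .mul 110 112, .mul 110 114, .mul 110 117]
theorem cert_3_5_23 : certOK 3 5 23 x_3_5_23 y_3_5_23 prog_3_5_23 = true := by decide +kernel

def x_3_7_7 : List ℕ := [5, 19, 1, 7, 4, 9, 22, 11, 8, 0, 10, 3, 21, 6, 20, 12, 14, 17, 18, 2, 16, 15, 13, 23]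
def y_3_7_7 : List ℕ := [18, 2, 3, 15, 17, 4, 19, 0, 7, 5, 9, 14, 12, 8, 1, 20, 16, 6, 21, 10, 11, 22, 13, 23]
def prog_3_7_7 : List Ins := [
  .mul 0 0, .mul 1 0, .mul 1 1, .mul 1 3, .mul 0 4, .mul 1 4, .mul 1 5, .mul 0 6, .mul 1 6, .mul 0 7,
  .mul 1 8, .mul 0 10, .mul 1 10, .mul 1 11, .mul 0 12, .mul 1 12, .mul 0 13, .mul 0 14, .mul 1 15, .mul 0 16,
  .mul 0 20, .inv 14, .mul 23 22, .mul 8 11, .inv 2, .mul 26 25, .mul 24 24, .mul 27 24, .mul 24 27, .mul 27 27,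
  .mul 24 28, .mul 27 28, .mul 27 29, .mul 24 30, .mul 27 30, .mul 27 31, .mul 24 32, .mul 27 32, .mul 24 34, .mul 27 34,
  .mul 24 35, .mul 24 37, .mul 27 37, .mul 27 39, .mul 27 44, .mul 24 33, .inv 36, .mul 48 47, .mul 34 46, .mul 49 49,
  .mul 50 49, .mul 49 50, .mul 49 51, .mul 50 51, .mul 49 52, .mul 50 52, .mul 49 53, .mul 50 53, .mul 49 54, .mul 50 55,
  .mul 50 56, .mul 50 58, .mul 49 59, .mul 50 59, .mul 50 63, .mul 50 64, .mul 50 66, .mul 68 62, .inv 54, .mul 70 69,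
  .mul 66 55, .inv 67, .mul 73 72, .mul 61 62, .inv 55, .mul 76 75, .mul 71 71, .mul 74 71, .mul 77 71, .mul 71 74,
  .mul 77 74, .mul 74 79, .mul 77 79, .mul 77 80, .mul 77 81, .mul 71 82, .mul 74 82, .mul 71 84, .mul 74 84, .mul 71 87,
  .mul 71 88, .mul 71 89, .mul 71 90, .mul 90 92, .inv 84, .mul 96 95, .mul 88 74, .inv 83, .mul 99 98, .mul 91 88,
  .mul 101 101, .mul 97 102, .inv 102, .mul 104 103, .mul 100 100, .mul 103 100, .mul 104 107, .mul 97 102, .mul 104 109, .mul 100 101,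
  .inv 101, .mul 112 111, .mul 109 102, .mul 112 114, .mul 108 105, .mul 113 105, .mul 115 105, .mul 113 108, .mul 115 108, .mul 115 113,
  .mul 113 116, .mul 115 116, .mul 115 117, .mul 115 119, .mul 115 122]
theorem cert_3_7_7 : certOK 3 7 7 x_3_7_7 y_3_7_7 prog_3_7_7 = true := by decide +kernel

def x_3_7_11 : List ℕ := [4, 1, 2, 3, 12, 18, 9, 7, 22, 17, 10, 16, 0, 5, 15, 19, 21, 6, 13, 14, 8, 11, 20, 23]
def y_3_7_11 : List ℕ := [16, 15, 21, 4, 8, 9, 18, 0, 13, 10, 14, 11, 22, 7, 19, 12, 3, 1, 17, 2, 20, 5, 6, 23]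
def prog_3_7_11 : List Ins := [
  .mul 0 0, .mul 1 0, .mul 0 1, .mul 1 1, .mul 1 2, .mul 1 3, .mul 0 4, .mul 1 4, .mul 0 6, .mul 1 6,
  .mul 1 7, .mul 0 9, .mul 1 9, .mul 1 13, .mul 1 14, .mul 1 15, .mul 1 16, .mul 1 17, .mul 1 18, .mul 1 20,
  .mul 0 5, .inv 5, .mul 23 22, .mul 14 18, .inv 21, .mul 26 25, .mul 8 5, .mul 24 24, .mul 27 24, .mul 28 24,
  .mul 27 27, .mul 27 28, .mul 28 28, .mul 28 29, .mul 24 31, .mul 28 31, .mul 28 32, .mul 24 33, .mul 27 33, .mul 28 33,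
  .mul 27 34, .mul 24 35, .mul 27 35, .mul 28 37, .mul 24 41, .mul 24 37, .inv 44, .mul 48 47, .mul 29 41, .inv 45,
  .mul 51 50, .mul 27 42, .inv 38, .mul 54 53, .mul 49 49, .mul 52 49, .mul 52 55, .mul 55 55, .mul 49 56, .mul 52 56,
  .mul 55 56, .mul 49 57, .mul 52 57, .mul 55 57, .mul 49 58, .mul 55 58, .mul 55 59, .mul 55 60, .mul 52 65, .mul 55 66,
  .mul 49 67, .mul 55 67, .mul 72 61, .inv 67, .mul 75 74, .mul 70 63, .mul 75 77, .mul 49 59, .mul 75 79, .mul 76 76,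
  .mul 78 76, .mul 80 76, .mul 76 78, .mul 78 78, .mul 76 80, .mul 80 80, .mul 76 81, .mul 80 81, .mul 76 82, .mul 78 82,
  .mul 76 83, .mul 78 83, .mul 80 85, .mul 76 87, .mul 80 87, .mul 78 96, .inv 92, .mul 98 97, .mul 80 83, .inv 86,
  .mul 101 100, .mul 92 83, .inv 88, .mul 104 103, .mul 102 99, .inv 105, .mul 107 106, .mul 105 99, .mul 99 102, .mul 107 110,
  .mul 105 102, .mul 109 108, .mul 111 108, .mul 112 108, .mul 111 109, .mul 112 109, .mul 112 111, .mul 111 113, .mul 112 113, .mul 112 114,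
  .mul 112 116, .mul 112 119]
theorem cert_3_7_11 : certOK 3 7 11 x_3_7_11 y_3_7_11 prog_3_7_11 = true := by decide +kernel

def x_3_7_23 : List ℕ := [4, 9, 2, 1, 15, 11, 20, 22, 18, 3, 8, 16, 12, 13, 14, 0, 5, 7, 10, 19, 21, 6, 17, 23]
def y_3_7_23 : List ℕ := [19, 16, 4, 13, 18, 12, 7, 3, 11, 21, 1, 22, 10, 8, 20, 15, 0, 17, 14, 5, 9, 2, 6, 23]
def prog_3_7_23 : List Ins := [
  .mul 0 0, .mul 1 0, .mul 1 1, .mul 0 3, .mul 1 3, .mul 0 4, .mul 1 4, .mul 0 5, .mul 1 5, .mul 1 6,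
  .mul 0 7, .mul 1 7, .mul 0 10, .mul 0 11, .mul 0 13, .mul 1 13, .mul 0 14, .mul 1 15, .mul 0 16, .mul 1 18,
  .mul 1 9, .inv 7, .mul 23 22, .mul 16 10, .inv 5, .mul 26 25, .mul 14 15, .inv 11, .mul 29 28, .mul 24 24,
  .mul 27 24, .mul 30 24, .mul 30 27, .mul 27 30, .mul 30 30, .mul 24 31, .mul 30 31, .mul 30 32, .mul 24 33, .mul 30 33,
  .mul 24 34, .mul 27 34, .mul 30 34, .mul 30 35, .mul 30 36, .mul 30 38, .mul 24 41, .mul 33 24, .inv 38, .mul 50 49,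
  .mul 45 32, .mul 50 52, .mul 47 35, .inv 36, .mul 55 54, .mul 31 40, .inv 39, .mul 58 57, .mul 53 53, .mul 56 53,
  .mul 59 53, .mul 53 56, .mul 56 56, .mul 53 59, .mul 59 59, .mul 56 60, .mul 59 60, .mul 53 61, .mul 56 61, .mul 53 63,
  .mul 56 63, .mul 53 64, .mul 56 64, .mul 56 66, .mul 56 74, .mul 53 67, .inv 67, .mul 78 77, .mul 73 65, .inv 75,
  .mul 81 80, .mul 75 63, .inv 71, .mul 84 83, .mul 79 79, .mul 82 79, .mul 85 79, .mul 79 82, .mul 85 82, .mul 85 85,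
  .mul 85 86, .mul 85 87, .mul 79 88, .mul 85 88, .mul 79 89, .mul 79 90, .mul 85 90, .mul 79 91, .mul 79 92, .mul 85 92,
  .mul 87 97, .inv 92, .mul 103 102, .mul 88 91, .inv 82, .mul 106 105, .mul 97 98, .inv 93, .mul 109 108, .mul 104 104,
  .inv 107, .mul 112 111, .mul 110 107, .mul 114 104, .inv 104, .mul 116 115, .mul 107 104, .mul 114 113, .mul 117 113, .mul 118 113,
  .mul 117 114, .mul 118 114, .mul 118 117, .mul 117 119, .mul 118 119, .mul 118 120, .mul 118 122, .mul 118 125]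
theorem cert_3_7_23 : certOK 3 7 23 x_3_7_23 y_3_7_23 prog_3_7_23 = true := by decide +kernel

def x_3_11_11 : List ℕ := [20, 13, 21, 15, 9, 4, 10, 1, 8, 5, 17, 11, 12, 7, 0, 18, 16, 6, 3, 19, 14, 22, 2, 23]
def y_3_11_11 : List ℕ := [10, 0, 13, 6, 7, 8, 17, 2, 14, 11, 20, 15, 22, 19, 3, 16, 4, 1, 5, 12, 18, 21, 9, 23]
def prog_3_11_11 : List Ins := [
  .mul 0 0, .mul 1 0, .mul 0 1, .mul 1 2, .mul 1 3, .mul 0 4, .mul 1 4, .mul 0 5, .mul 0 6, .mul 1 6,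
  .mul 0 8, .mul 1 9, .mul 0 10, .mul 1 10, .mul 1 12, .mul 1 14, .mul 1 15, .mul 1 16, .mul 0 18, .mul 1 19,
  .mul 19 20, .inv 2, .mul 23 22, .mul 3 11, .mul 23 25, .mul 1 8, .mul 24 24, .mul 26 24, .mul 27 24, .mul 24 26,
  .mul 26 26, .mul 27 26, .mul 26 28, .mul 26 29, .mul 27 29, .mul 24 30, .mul 24 31, .mul 27 31, .mul 27 33, .mul 24 34,
  .mul 26 34, .mul 26 35, .mul 26 39, .mul 27 40, .mul 39 26, .inv 41, .mul 47 46, .mul 35 30, .mul 38 31, .inv 30,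
  .mul 51 50, .mul 48 48, .mul 49 48, .mul 48 49, .mul 49 49, .mul 48 52, .mul 49 52, .mul 52 52, .mul 49 53, .mul 52 53,
  .mul 48 54, .mul 52 55, .mul 49 57, .mul 48 58, .mul 52 58, .mul 48 60, .mul 48 62, .mul 52 62, .mul 63 60, .inv 61,
  .mul 71 70, .mul 59 68, .inv 62, .mul 74 73, .mul 52 56, .inv 56, .mul 77 76, .mul 72 72, .mul 75 72, .mul 75 75,
  .mul 72 78, .mul 75 78, .mul 72 79, .mul 75 79, .mul 75 80, .mul 72 82, .mul 75 82, .mul 78 82, .mul 72 83, .mul 75 83,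
  .mul 78 83, .mul 72 86, .mul 78 89, .mul 91 84, .inv 80, .mul 96 95, .mul 85 91, .mul 72 82, .inv 87, .mul 100 99,
  .mul 91 92, .inv 79, .mul 103 102, .mul 104 104, .inv 97, .mul 106 105, .mul 104 97, .mul 108 105, .mul 106 109, .mul 108 98,
  .mul 106 111, .mul 98 109, .inv 104, .mul 114 113, .mul 110 107, .mul 112 107, .mul 115 107, .mul 112 110, .mul 115 110, .mul 115 112,
  .mul 112 116, .mul 115 116, .mul 115 117, .mul 115 119, .mul 115 122]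
theorem cert_3_11_11 : certOK 3 11 11 x_3_11_11 y_3_11_11 prog_3_11_11 = true := by decide +kernel

def x_3_11_23 : List ℕ := [0, 11, 16, 2, 22, 9, 6, 15, 4, 13, 10, 21, 12, 5, 17, 18, 3, 19, 7, 14, 20, 1, 8, 23]
def y_3_11_23 : List ℕ := [13, 0, 7, 17, 15, 5, 21, 22, 10, 20, 12, 19, 4, 2, 16, 14, 3, 6, 9, 18, 1, 8, 11, 23]
def prog_3_11_23 : List Ins := [
  .mul 0 1, .mul 1 1, .mul 0 2, .mul 0 3, .mul 1 3, .mul 1 4, .mul 0 5, .mul 0 6, .mul 1 6, .mul 1 7,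
  .mul 1 8, .mul 0 9, .mul 1 9, .mul 0 10, .mul 1 10, .mul 0 12, .mul 1 12, .mul 0 15, .mul 1 15, .mul 0 16,
  .mul 1 20, .mul 16 20, .inv 5, .mul 24 23, .mul 8 6, .inv 11, .mul 27 26, .mul 7 7, .inv 15, .mul 30 29,
  .mul 25 25, .mul 25 28, .mul 28 28, .mul 31 28, .mul 25 31, .mul 25 32, .mul 28 32, .mul 31 32, .mul 25 33, .mul 28 34,
  .mul 28 35, .mul 31 35, .mul 31 36, .mul 25 37, .mul 31 37, .mul 25 40, .mul 25 41, .mul 31 42, .mul 48 35, .mul 42 48,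
  .inv 40, .mul 52 51, .mul 47 31, .inv 37, .mul 55 54, .mul 50 53, .mul 53 53, .mul 56 53, .mul 50 56, .mul 53 56,
  .mul 50 57, .mul 56 57, .mul 50 58, .mul 53 58, .mul 50 59, .mul 53 59, .mul 56 59, .mul 53 61, .mul 50 62, .mul 50 63,
  .mul 50 64, .mul 50 65, .mul 53 66, .mul 72 73, .inv 74, .mul 76 75, .mul 63 65, .inv 73, .mul 79 78, .mul 75 53,
  .mul 77 77, .mul 80 77, .mul 81 77, .mul 77 80, .mul 80 80, .mul 80 82, .mul 80 83, .mul 81 83, .mul 77 84, .mul 80 84,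
  .mul 80 85, .mul 77 86, .mul 77 87, .mul 81 87, .mul 77 89, .mul 81 89, .mul 80 92, .mul 91 82, .inv 90, .mul 100 99,
  .mul 83 87, .inv 96, .mul 103 102, .mul 93 94, .inv 91, .mul 106 105, .mul 104 107, .mul 101 104, .inv 104, .mul 110 109,
  .mul 104 101, .mul 110 112, .mul 107 107, .mul 110 114, .mul 111 108, .mul 113 108, .mul 115 108, .mul 113 111, .mul 115 111, .mul 115 113,
  .mul 113 116, .mul 115 116, .mul 115 117, .mul 115 119, .mul 115 122]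
theorem cert_3_11_23 : certOK 3 11 23 x_3_11_23 y_3_11_23 prog_3_11_23 = true := by decide +kernel

def x_3_23_23 : List ℕ := [9, 16, 12, 3, 8, 5, 4, 2, 6, 22, 11, 19, 7, 13, 21, 1, 15, 17, 14, 10, 20, 18, 0, 23]
def y_3_23_23 : List ℕ := [9, 10, 6, 13, 16, 20, 15, 8, 3, 11, 18, 17, 7, 21, 12, 19, 22, 5, 2, 14, 1, 4, 0, 23]
def prog_3_23_23 : List Ins := [
  .mul 0 0, .mul 1 0, .mul 0 3, .mul 1 3, .mul 0 4, .mul 1 4, .mul 1 5, .mul 1 6, .mul 0 7, .mul 1 7,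
  .mul 1 8, .mul 1 9, .mul 1 10, .mul 0 11, .mul 1 12, .mul 1 13, .mul 0 14, .mul 1 14, .mul 1 17, .mul 1 18,
  .mul 1 21, .mul 3 15, .inv 17, .mul 24 23, .mul 8 8, .inv 6, .mul 27 26, .mul 10 18, .inv 3, .mul 30 29,
  .mul 25 25, .mul 31 25, .mul 28 28, .mul 31 28, .mul 25 32, .mul 28 32, .mul 31 32, .mul 25 33, .mul 25 34, .mul 28 34,
  .mul 31 34, .mul 25 35, .mul 28 35, .mul 31 36, .mul 25 38, .mul 28 39, .mul 28 40, .mul 28 41, .mul 31 48, .mul 45 25,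
  .inv 46, .mul 52 51, .mul 37 42, .inv 50, .mul 55 54, .mul 50 25, .inv 44, .mul 58 57, .mul 53 53, .mul 56 53,
  .mul 59 53, .mul 53 56, .mul 56 56, .mul 56 59, .mul 59 59, .mul 53 60, .mul 56 60, .mul 53 61, .mul 59 61, .mul 53 62,
  .mul 59 62, .mul 56 63, .mul 59 64, .mul 56 67, .mul 53 69, .mul 61 74, .mul 69 71, .inv 64, .mul 79 78, .mul 65 70,
  .mul 77 77, .mul 80 77, .mul 80 80, .mul 81 80, .mul 77 81, .mul 80 81, .mul 81 82, .mul 77 83, .mul 80 83, .mul 81 83,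
  .mul 77 85, .mul 81 85, .mul 80 87, .mul 80 89, .mul 77 90, .mul 80 90, .mul 80 90, .inv 97, .mul 99 98, .mul 82 84,
  .inv 77, .mul 102 101, .mul 86 91, .inv 91, .mul 105 104, .mul 104 97, .mul 102 107, .mul 108 103, .mul 106 103, .mul 103 106,
  .mul 106 106, .inv 103, .mul 113 112, .mul 103 108, .mul 110 109, .mul 111 109, .mul 115 109, .mul 111 110, .mul 115 110, .mul 115 111,
  .mul 111 116, .mul 115 116, .mul 115 117, .mul 115 119, .mul 115 122]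
theorem cert_3_23_23 : certOK 3 23 23 x_3_23_23 y_3_23_23 prog_3_23_23 = true := by decide +kernel

end Cfsg.Agent.Lib.Helper28.M23GenCertB
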