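import Mathlib
import Cfsg.Agent.Lib.Helper28.M23Gen

set_option autoImplicit false

/-! Generated certificates for the generation of `M23` by triples of prime orders. -/

namespace Cfsg.Agent.Lib.Helper28.M23GenCertC

open Cfsg Cfsg.Agent.Lib.Helper3.Golay Cfsg.Agent.Lib.Helper28.M23Gen

def x_5_5_5 : List ℕ := [19, 6, 8, 7, 21, 5, 3, 11, 20, 4, 18, 1, 12, 13, 22, 16, 17, 10, 15, 2, 0, 14, 9, 23]
def y_5_5_5 : List ℕ := [11, 1, 3, 22, 4, 14, 5, 7, 2, 17, 15, 21, 16, 19, 13, 9, 0, 18, 10, 6, 8, 12, 20, 23]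
def prog_5_5_5 : List Ins := [
  .mul 0 0, .mul 1 0, .mul 0 1, .mul 1 1, .mul 0 2, .mul 1 2, .mul 1 3, .mul 0 5, .mul 1 5, .mul 0 6,
  .mul 0 7, .mul 1 7, .mul 1 9, .mul 1 10, .mul 0 13, .mul 0 15, .mul 0 16, .mul 0 17, .mul 1 17, .mul 1 19,
  .mul 19 11, .inv 18, .mul 23 22, .mul 20 15, .inv 15, .mul 26 25, .mul 17 4, .inv 3, .mul 29 28, .mul 24 24,
  .mul 30 24, .mul 24 27, .mul 27 27, .mul 30 27, .mul 24 30, .mul 27 30, .mul 30 31, .mul 24 32, .mul 30 32, .mul 27 33,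
  .mul 30 33, .mul 27 34, .mul 24 36, .mul 27 36, .mul 30 36, .mul 27 40, .mul 30 40, .mul 45 30, .inv 27, .mul 50 49,
  .mul 43 33, .inv 39, .mul 53 52, .mul 42 44, .mul 54 51, .mul 55 51, .mul 51 54, .mul 55 54, .mul 51 56, .mul 54 56,
  .mul 55 56, .mul 51 57, .mul 55 57, .mul 55 59, .mul 54 60, .mul 55 60, .mul 51 61, .mul 55 61, .mul 54 62, .mul 55 62,
  .mul 51 63, .mul 51 66, .mul 68 61, .inv 54, .mul 75 74, .mul 54 66, .inv 72, .mul 78 77, .mul 58 61, .inv 67,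
  .mul 81 80, .mul 76 76, .mul 82 76, .mul 76 79, .mul 76 82, .mul 79 82, .mul 82 82, .mul 76 83, .mul 82 83, .mul 76 84,
  .mul 76 86, .mul 82 86, .mul 76 87, .mul 76 88, .mul 79 89, .mul 82 90, .mul 76 91, .mul 85 95, .inv 93, .mul 100 99,
  .mul 90 96, .inv 85, .mul 103 102, .mul 92 99, .inv 86, .mul 106 105, .mul 101 101, .inv 104, .mul 109 108, .mul 107 108,
  .inv 101, .mul 112 111, .mul 104 101, .mul 107 101, .mul 113 110, .mul 114 110, .mul 115 110, .mul 114 113, .mul 115 113, .mul 115 114,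
  .mul 114 116, .mul 115 116, .mul 115 117, .mul 115 119, .mul 115 122]
theorem cert_5_5_5 : certOK 5 5 5 x_5_5_5 y_5_5_5 prog_5_5_5 = true := by decide +kernel

def x_5_5_7 : List ℕ := [13, 16, 15, 3, 18, 5, 11, 22, 9, 10, 6, 8, 0, 4, 1, 19, 7, 20, 12, 17, 2, 21, 14, 23]
def y_5_5_7 : List ℕ := [12, 21, 2, 7, 5, 18, 17, 10, 22, 9, 6, 19, 16, 20, 14, 11, 1, 3, 8, 13, 15, 0, 4, 23]
def prog_5_5_7 : List Ins := [
  .mul 0 0, .mul 1 0, .mul 1 1, .mul 0 2, .mul 1 2, .mul 0 3, .mul 1 3, .mul 0 4, .mul 1 4, .mul 1 5,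
  .mul 0 8, .mul 1 8, .mul 0 9, .mul 1 9, .mul 1 10, .mul 0 11, .mul 0 12, .mul 0 14, .mul 0 15, .mul 1 18,
  .mul 10 15, .inv 21, .mul 23 22, .mul 9 16, .mul 16 14, .inv 11, .mul 27 26, .mul 24 24, .mul 25 24, .mul 28 24,
  .mul 24 25, .mul 25 25, .mul 28 25, .mul 24 28, .mul 25 28, .mul 28 28, .mul 24 30, .mul 24 31, .mul 25 31, .mul 28 32,
  .mul 25 33, .mul 28 34, .mul 28 35, .mul 24 36, .mul 25 36, .mul 31 31, .inv 24, .mul 48 47, .mul 42 45, .inv 45,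
  .mul 51 50, .mul 32 40, .inv 36, .mul 54 53, .mul 49 49, .mul 52 49, .mul 55 49, .mul 55 52, .mul 49 55, .mul 52 55,
  .mul 49 56, .mul 52 56, .mul 55 56, .mul 49 57, .mul 49 58, .mul 52 58, .mul 49 60, .mul 52 60, .mul 52 63, .mul 52 65,
  .mul 55 65, .mul 49 59, .inv 61, .mul 74 73, .mul 65 68, .inv 56, .mul 77 76, .mul 66 52, .mul 77 79, .mul 78 75,
  .mul 80 75, .mul 75 78, .mul 78 78, .mul 80 78, .mul 75 80, .mul 80 80, .mul 75 81, .mul 80 81, .mul 75 82, .mul 78 83,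
  .mul 75 84, .mul 75 85, .mul 78 87, .mul 78 90, .mul 78 91, .mul 90 96, .inv 91, .mul 98 97, .mul 95 80, .inv 81,
  .mul 101 100, .mul 81 81, .inv 92, .mul 104 103, .mul 99 102, .inv 99, .mul 107 106, .mul 99 105, .mul 99 105, .mul 102 99,
  .mul 107 111, .mul 105 111, .mul 109 108, .mul 112 108, .mul 113 108, .mul 112 109, .mul 113 109, .mul 113 112, .mul 112 114, .mul 113 114,
  .mul 113 115, .mul 113 117, .mul 113 120]
theorem cert_5_5_7 : certOK 5 5 7 x_5_5_7 y_5_5_7 prog_5_5_7 = true := by decide +kernel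

def x_5_5_11 : List ℕ := [0, 11, 18, 3, 7, 17, 4, 22, 1, 16, 20, 2, 12, 19, 6, 10, 5, 21, 8, 15, 13, 9, 14, 23]
def y_5_5_11 : List ℕ := [6, 2, 17, 18, 1, 5, 21, 16, 8, 7, 10, 15, 0, 20, 12, 9, 11, 19, 22, 4, 3, 14, 13, 23]
def prog_5_5_11 : List Ins := [
  .mul 0 1, .mul 1 1, .mul 0 2, .mul 1 2, .mul 0 3, .mul 1 3, .mul 0 4, .mul 1 4, .mul 0 5, .mul 1 5,
  .mul 1 7, .mul 1 8, .mul 0 9, .mul 1 10, .mul 0 11, .mul 1 11, .mul 0 13, .mul 1 13, .mul 0 15, .mul 0 16,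
  .mul 1 19, .mul 11 20, .inv 16, .mul 24 23, .mul 10 22, .inv 5, .mul 27 26, .mul 16 5, .inv 18, .mul 30 29,
  .mul 25 25, .mul 28 25, .mul 31 25, .mul 25 28, .mul 28 28, .mul 31 28, .mul 31 31, .mul 25 32, .mul 31 33, .mul 25 34,
  .mul 25 35, .mul 28 36, .mul 31 36, .mul 28 37, .mul 25 38, .mul 31 38, .mul 31 40, .mul 28 41, .mul 34 28, .inv 41,
  .mul 51 50, .mul 42 28, .inv 38, .mul 54 53, .mul 38 39, .inv 34, .mul 57 56, .mul 52 52, .mul 55 52, .mul 58 52,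
  .mul 52 55, .mul 55 55, .mul 58 55, .mul 52 58, .mul 55 58, .mul 52 59, .mul 52 60, .mul 58 62, .mul 52 64, .mul 52 65,
  .mul 58 68, .mul 52 70, .mul 55 70, .mul 58 71, .mul 58 70, .mul 59 58, .inv 71, .mul 78 77, .mul 70 66, .inv 64,
  .mul 81 80, .mul 66 73, .inv 62, .mul 84 83, .mul 76 76, .mul 82 76, .mul 76 82, .mul 82 82, .mul 85 82, .mul 76 85,
  .mul 76 86, .mul 85 86, .mul 76 87, .mul 82 87, .mul 85 87, .mul 76 88, .mul 85 88, .mul 82 92, .mul 85 93, .mul 76 99,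
  .mul 89 96, .mul 91 82, .inv 82, .mul 104 103, .mul 99 98, .inv 88, .mul 107 106, .mul 102 108, .mul 102 105, .mul 110 105,
  .inv 105, .mul 112 111, .mul 109 111, .mul 112 114, .mul 110 109, .mul 113 109, .mul 115 109, .mul 113 110, .mul 115 110, .mul 115 113,
  .mul 113 116, .mul 115 116, .mul 115 117, .mul 115 119, .mul 115 122]
theorem cert_5_5_11 : certOK 5 5 11 x_5_5_11 y_5_5_11 prog_5_5_11 = true := by decide +kernel

def x_5_5_23 : List ℕ := [2, 11, 9, 16, 13, 0, 6, 15, 7, 20, 18, 14, 1, 22, 19, 3, 8, 17, 4, 12, 5, 21, 10, 23]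
def y_5_5_23 : List ℕ := [12, 1, 5, 14, 8, 9, 11, 7, 21, 0, 19, 4, 2, 17, 15, 10, 13, 18, 20, 3, 16, 6, 22, 23]
def prog_5_5_23 : List Ins := [
  .mul 0 0, .mul 1 0, .mul 0 1, .mul 0 2, .mul 0 4, .mul 1 5, .mul 0 6, .mul 1 6, .mul 0 7, .mul 1 7,
  .mul 0 8, .mul 1 8, .mul 0 10, .mul 1 10, .mul 0 11, .mul 1 11, .mul 1 12, .mul 1 13, .mul 1 15, .mul 1 17,
  .mul 7 0, .inv 2, .mul 23 22, .mul 6 2, .mul 23 25, .mul 4 4, .inv 6, .mul 28 27, .mul 29 24, .mul 24 26,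
  .mul 26 26, .mul 24 29, .mul 26 29, .mul 29 29, .mul 24 30, .mul 29 30, .mul 26 31, .mul 24 32, .mul 29 34, .mul 26 36,
  .mul 29 36, .mul 26 38, .mul 26 40, .mul 29 40, .mul 29 41, .mul 24 42, .mul 26 39, .inv 42, .mul 49 48, .mul 43 29,
  .mul 49 51, .mul 36 36, .inv 38, .mul 54 53, .mul 50 50, .mul 55 50, .mul 50 52, .mul 55 52, .mul 50 55, .mul 52 55,
  .mul 55 55, .mul 52 56, .mul 52 57, .mul 55 57, .mul 50 58, .mul 50 60, .mul 55 60, .mul 50 61, .mul 50 62, .mul 52 62,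
  .mul 55 63, .mul 55 66, .inv 69, .mul 74 73, .mul 72 55, .mul 66 50, .inv 67, .mul 78 77, .mul 75 75, .mul 79 75,
  .mul 75 76, .mul 76 79, .mul 79 79, .mul 75 81, .mul 76 81, .mul 79 81, .mul 75 82, .mul 79 83, .mul 76 84, .mul 76 85,
  .mul 75 86, .mul 76 86, .mul 79 86, .mul 75 90, .mul 86 76, .inv 91, .mul 97 96, .mul 81 79, .inv 75, .mul 100 99,
  .mul 94 94, .inv 86, .mul 103 102, .mul 104 98, .mul 98 101, .mul 105 101, .inv 101, .mul 108 107, .mul 98 104, .mul 106 107,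
  .mul 108 111, .mul 106 105, .mul 109 105, .mul 112 105, .mul 109 106, .mul 112 106, .mul 112 109, .mul 109 113, .mul 112 113, .mul 112 114,
  .mul 112 116, .mul 112 119]
theorem cert_5_5_23 : certOK 5 5 23 x_5_5_23 y_5_5_23 prog_5_5_23 = true := by decide +kernel

def x_5_7_7 : List ℕ := [0, 22, 15, 5, 21, 13, 20, 7, 18, 2, 6, 4, 11, 1, 10, 8, 12, 14, 9, 19, 17, 16, 3, 23]
def y_5_7_7 : List ℕ := [2, 9, 18, 1, 4, 17, 20, 5, 15, 6, 0, 7, 19, 10, 21, 13, 16, 22, 8, 11, 14, 3, 12, 23]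
def prog_5_7_7 : List Ins := [
  .mul 0 1, .mul 1 1, .mul 0 2, .mul 1 2, .mul 0 3, .mul 0 5, .mul 1 5, .mul 1 6, .mul 0 7, .mul 0 9,
  .mul 0 10, .mul 1 10, .mul 0 11, .mul 1 11, .mul 0 12, .mul 0 13, .mul 1 13, .mul 1 15, .mul 0 17, .mul 1 17,
  .mul 0 19, .mul 8 3, .inv 2, .mul 24 23, .mul 16 10, .inv 21, .mul 27 26, .mul 21 9, .inv 19, .mul 30 29,
  .mul 28 25, .mul 25 28, .mul 28 28, .mul 31 28, .mul 25 31, .mul 28 31, .mul 31 31, .mul 31 32, .mul 31 33, .mul 25 34,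
  .mul 28 34, .mul 31 34, .mul 25 35, .mul 31 36, .mul 28 37, .mul 31 39, .mul 25 40, .mul 28 43, .mul 31 47, .mul 40 34,
  .inv 25, .mul 52 51, .mul 33 34, .inv 35, .mul 55 54, .mul 50 50, .mul 53 50, .mul 50 53, .mul 53 53, .mul 56 53,
  .mul 53 56, .mul 56 56, .mul 53 57, .mul 56 57, .mul 53 58, .mul 56 58, .mul 53 59, .mul 56 59, .mul 50 60, .mul 50 62,
  .mul 53 63, .mul 56 66, .mul 65 57, .mul 61 65, .inv 65, .mul 76 75, .mul 67 75, .inv 57, .mul 79 78, .mul 74 74,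
  .mul 77 74, .mul 74 77, .mul 80 77, .mul 74 80, .mul 80 80, .mul 74 81, .mul 77 81, .mul 74 82, .mul 77 82, .mul 80 82,
  .mul 80 84, .mul 77 85, .mul 80 85, .mul 74 89, .mul 80 91, .mul 81 95, .inv 82, .mul 98 97, .mul 77 77, .inv 74,
  .mul 101 100, .mul 92 93, .inv 77, .mul 104 103, .mul 89 89, .inv 92, .mul 107 106, .mul 108 105, .mul 105 105, .inv 108,
  .mul 111 110, .mul 105 102, .inv 105, .mul 114 113, .mul 108 105, .mul 113 108, .mul 112 109, .mul 115 109, .mul 117 109, .mul 115 112,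
  .mul 117 112, .mul 117 115, .mul 115 118, .mul 117 118, .mul 117 119, .mul 117 121, .mul 117 124]
theorem cert_5_7_7 : certOK 5 7 7 x_5_7_7 y_5_7_7 prog_5_7_7 = true := by decide +kernel

def x_5_7_11 : List ℕ := [9, 8, 0, 10, 13, 18, 6, 20, 4, 19, 14, 2, 21, 15, 5, 1, 16, 17, 3, 11, 22, 7, 12, 23]
def y_5_7_11 : List ℕ := [8, 6, 4, 19, 17, 0, 11, 22, 2, 10, 14, 13, 12, 3, 18, 15, 5, 16, 7, 21, 9, 1, 20, 23]
def prog_5_7_11 : List Ins := [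
  .mul 0 0, .mul 1 0, .mul 0 1, .mul 1 1, .mul 0 2, .mul 1 2, .mul 0 3, .mul 0 4, .mul 1 4, .mul 0 7,
  .mul 1 7, .mul 0 8, .mul 1 8, .mul 0 9, .mul 1 9, .mul 1 10, .mul 0 11, .mul 1 11, .mul 1 12, .mul 0 19,
  .mul 0 14, .inv 16, .mul 23 22, .mul 10 13, .inv 3, .mul 26 25, .mul 5 3, .inv 14, .mul 29 28, .mul 24 24,
  .mul 27 24, .mul 30 24, .mul 27 27, .mul 30 27, .mul 24 30, .mul 30 30, .mul 27 32, .mul 30 32, .mul 24 33, .mul 30 34,
  .mul 24 35, .mul 24 36, .mul 24 37, .mul 27 37, .mul 30 37, .mul 24 39, .mul 30 41, .mul 33 24, .inv 27, .mul 50 49,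
  .mul 37 40, .inv 36, .mul 53 52, .mul 40 47, .inv 32, .mul 56 55, .mul 51 51, .mul 54 51, .mul 57 51, .mul 51 54,
  .mul 54 54, .mul 51 57, .mul 54 57, .mul 57 57, .mul 51 58, .mul 54 58, .mul 54 59, .mul 57 60, .mul 54 61, .mul 54 62,
  .mul 57 62, .mul 51 63, .mul 54 65, .mul 60 64, .inv 73, .mul 76 75, .mul 71 69, .inv 57, .mul 79 78, .mul 69 75,
  .inv 64, .mul 82 81, .mul 80 77, .mul 83 77, .mul 80 80, .mul 83 80, .mul 77 83, .mul 80 83, .mul 83 83, .mul 77 84,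
  .mul 83 84, .mul 77 85, .mul 77 86, .mul 80 86, .mul 77 88, .mul 80 88, .mul 83 90, .mul 83 92, .mul 80 96, .mul 90 91,
  .inv 92, .mul 102 101, .mul 90 95, .inv 93, .mul 105 104, .mul 103 100, .inv 106, .mul 108 107, .mul 106 103, .mul 106 100,
  .mul 110 106, .mul 108 112, .mul 110 111, .mul 107 112, .inv 100, .mul 116 115, .mul 110 109, .mul 111 109, .mul 117 109, .mul 117 110,
  .mul 117 111, .mul 117 113, .mul 117 114, .mul 117 118, .mul 117 119]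
theorem cert_5_7_11 : certOK 5 7 11 x_5_7_11 y_5_7_11 prog_5_7_11 = true := by decide +kernel

def x_5_7_23 : List ℕ := [19, 8, 2, 5, 14, 20, 18, 7, 21, 10, 1, 16, 12, 3, 0, 4, 6, 13, 22, 15, 17, 9, 11, 23]
def y_5_7_23 : List ℕ := [11, 0, 16, 1, 3, 14, 7, 12, 10, 2, 17, 20, 13, 22, 6, 9, 8, 15, 18, 4, 19, 21, 5, 23]
def prog_5_7_23 : List Ins := [
  .mul 0 0, .mul 1 0, .mul 0 1, .mul 1 1, .mul 1 2, .mul 0 3, .mul 1 3, .mul 0 4, .mul 1 4, .mul 0 5,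
  .mul 0 6, .mul 1 6, .mul 0 8, .mul 1 8, .mul 0 9, .mul 1 9, .mul 0 10, .mul 0 11, .mul 0 16, .mul 1 17,
  .mul 14 3, .inv 17, .mul 23 22, .mul 5 22, .inv 19, .mul 26 25, .mul 21 12, .mul 24 24, .mul 27 24, .mul 28 24,
  .mul 24 27, .mul 27 27, .mul 28 27, .mul 24 28, .mul 27 28, .mul 24 29, .mul 27 29, .mul 28 29, .mul 28 30, .mul 24 31,
  .mul 28 31, .mul 27 32, .mul 28 33, .mul 27 35, .mul 27 36, .mul 40 27, .inv 41, .mul 48 47, .mul 31 37, .inv 44,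
  .mul 51 50, .mul 31 50, .inv 42, .mul 54 53, .mul 52 49, .mul 55 49, .mul 49 52, .mul 52 52, .mul 55 52, .mul 49 55,
  .mul 52 55, .mul 49 57, .mul 52 57, .mul 55 57, .mul 49 58, .mul 55 58, .mul 52 59, .mul 49 60, .mul 55 62, .mul 55 64,
  .mul 55 67, .mul 70 55, .inv 61, .mul 74 73, .mul 72 70, .inv 49, .mul 77 76, .mul 72 59, .inv 52, .mul 80 79,
  .mul 75 75, .mul 78 75, .mul 81 75, .mul 75 78, .mul 78 78, .mul 81 78, .mul 75 81, .mul 78 81, .mul 78 82, .mul 75 83,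
  .mul 81 83, .mul 75 86, .mul 75 88, .mul 81 88, .mul 78 89, .mul 78 90, .mul 95 75, .inv 97, .mul 99 98, .mul 94 75,
  .inv 95, .mul 102 101, .mul 91 81, .mul 99 104, .mul 103 103, .inv 100, .mul 107 106, .mul 100 100, .inv 103, .mul 110 109,
  .mul 105 105, .mul 107 112, .mul 112 109, .mul 111 108, .mul 113 108, .mul 114 108, .mul 113 111, .mul 114 111, .mul 114 113, .mul 113 115,
  .mul 114 115, .mul 114 116, .mul 114 118, .mul 114 121]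
theorem cert_5_7_23 : certOK 5 7 23 x_5_7_23 y_5_7_23 prog_5_7_23 = true := by decide +kernel

def x_5_11_11 : List ℕ := [3, 6, 18, 7, 4, 20, 21, 17, 8, 10, 16, 22, 12, 15, 13, 5, 2, 19, 9, 0, 14, 11, 1, 23]
def y_5_11_11 : List ℕ := [1, 19, 16, 22, 7, 17, 15, 9, 5, 14, 2, 12, 10, 11, 6, 20, 8, 3, 0, 4, 18, 21, 13, 23]
def prog_5_11_11 : List Ins := [
  .mul 0 0, .mul 1 0, .mul 0 1, .mul 1 1, .mul 0 2, .mul 1 2, .mul 1 3, .mul 0 4, .mul 1 4, .mul 1 5,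
  .mul 0 7, .mul 1 7, .mul 1 8, .mul 0 10, .mul 1 10, .mul 0 12, .mul 1 12, .mul 1 14, .mul 1 16, .mul 1 17,
  .mul 14 6, .inv 7, .mul 23 22, .mul 20 3, .mul 18 14, .inv 1, .mul 27 26, .mul 24 24, .mul 25 24, .mul 28 24,
  .mul 24 25, .mul 25 25, .mul 24 28, .mul 25 28, .mul 28 28, .mul 28 29, .mul 24 30, .mul 24 31, .mul 28 31, .mul 28 32,
  .mul 24 34, .mul 28 34, .mul 24 36, .mul 25 37, .mul 28 38, .mul 44 46, .inv 39, .mul 48 47, .mul 45 35, .inv 46,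
  .mul 51 50, .mul 46 28, .inv 45, .mul 54 53, .mul 52 49, .mul 55 49, .mul 49 52, .mul 52 52, .mul 55 52, .mul 49 55,
  .mul 52 55, .mul 55 55, .mul 49 57, .mul 52 57, .mul 55 57, .mul 49 58, .mul 55 58, .mul 52 60, .mul 49 61, .mul 52 63,
  .mul 55 63, .mul 66 49, .inv 58, .mul 74 73, .mul 49 64, .inv 60, .mul 77 76, .mul 71 61, .inv 65, .mul 80 79,
  .mul 75 75, .mul 78 75, .mul 81 75, .mul 75 78, .mul 75 82, .mul 78 82, .mul 81 82, .mul 75 83, .mul 75 84, .mul 78 84,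
  .mul 75 85, .mul 81 85, .mul 75 86, .mul 78 87, .mul 78 88, .mul 78 89, .mul 75 92, .mul 84 90, .inv 87, .mul 100 99,
  .mul 81 90, .mul 90 83, .mul 100 103, .mul 101 101, .mul 102 101, .inv 101, .mul 107 106, .mul 105 104, .inv 105, .mul 110 109,
  .mul 104 109, .mul 110 112, .mul 105 102, .mul 110 114, .mul 111 108, .mul 113 108, .mul 115 108, .mul 113 111, .mul 115 111, .mul 115 113,
  .mul 113 116, .mul 115 116, .mul 115 117, .mul 115 119, .mul 115 122]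
theorem cert_5_11_11 : certOK 5 11 11 x_5_11_11 y_5_11_11 prog_5_11_11 = true := by decide +kernel

def x_5_11_23 : List ℕ := [0, 17, 18, 8, 6, 5, 1, 13, 16, 4, 20, 22, 12, 21, 10, 7, 11, 9, 14, 15, 2, 19, 3, 23]
def y_5_11_23 : List ℕ := [14, 22, 5, 7, 4, 21, 11, 9, 12, 10, 15, 3, 19, 8, 1, 13, 18, 16, 20, 6, 0, 17, 2, 23]
def prog_5_11_23 : List Ins := [
  .mul 0 1, .mul 1 1, .mul 0 2, .mul 1 2, .mul 0 3, .mul 1 3, .mul 0 4, .mul 0 5, .mul 1 5, .mul 0 6,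
  .mul 1 6, .mul 0 7, .mul 0 8, .mul 1 8, .mul 0 10, .mul 1 10, .mul 0 11, .mul 0 12, .mul 0 16, .mul 1 17,
  .mul 0 18, .mul 4 12, .inv 2, .mul 24 23, .mul 21 23, .inv 10, .mul 27 26, .mul 12 23, .inv 6, .mul 30 29,
  .mul 25 25, .mul 28 25, .mul 31 25, .mul 25 28, .mul 28 28, .mul 31 28, .mul 25 31, .mul 31 31, .mul 28 32, .mul 31 32,
  .mul 25 34, .mul 28 34, .mul 31 36, .mul 31 37, .mul 25 39, .mul 28 39, .mul 28 43, .mul 31 45, .mul 25 42, .inv 34,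
  .mul 51 50, .mul 43 46, .inv 37, .mul 54 53, .mul 35 36, .mul 51 56, .mul 55 52, .mul 52 55, .mul 55 55, .mul 57 55,
  .mul 55 57, .mul 57 57, .mul 52 58, .mul 55 58, .mul 57 58, .mul 52 59, .mul 57 60, .mul 52 61, .mul 55 61, .mul 55 63,
  .mul 57 63, .mul 55 69, .mul 57 69, .mul 52 57, .mul 55 74, .inv 63, .mul 77 76, .mul 66 68, .inv 59, .mul 80 79,
  .mul 75 75, .mul 78 75, .mul 81 75, .mul 75 78, .mul 78 78, .mul 75 81, .mul 78 81, .mul 81 81, .mul 81 82, .mul 75 83,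
  .mul 75 84, .mul 78 84, .mul 81 89, .mul 78 90, .mul 81 91, .mul 81 92, .mul 87 81, .inv 81, .mul 99 98, .mul 86 78,
  .inv 92, .mul 102 101, .mul 101 87, .inv 84, .mul 105 104, .mul 103 106, .mul 100 106, .mul 106 100, .mul 108 106, .inv 106,
  .mul 111 110, .mul 109 110, .mul 111 113, .mul 103 100, .mul 111 115, .mul 108 107, .mul 109 107, .mul 112 107, .mul 116 107, .mul 116 108,
  .mul 116 109, .mul 116 112, .mul 116 117, .mul 116 118, .mul 116 119]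
theorem cert_5_11_23 : certOK 5 11 23 x_5_11_23 y_5_11_23 prog_5_11_23 = true := by decide +kernel

def x_5_23_23 : List ℕ := [22, 4, 6, 3, 17, 0, 8, 21, 19, 16, 15, 2, 9, 13, 14, 5, 18, 7, 20, 11, 12, 1, 10, 23]
def y_5_23_23 : List ℕ := [8, 9, 21, 13, 11, 19, 0, 4, 12, 20, 15, 10, 7, 16, 17, 5, 18, 6, 1, 2, 22, 3, 14, 23]
def prog_5_23_23 : List Ins := [
  .mul 0 0, .mul 1 0, .mul 0 1, .mul 1 1, .mul 0 2, .mul 1 3, .mul 0 4, .mul 1 4, .mul 0 5, .mul 1 5,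
  .mul 0 6, .mul 1 7, .mul 1 9, .mul 0 10, .mul 1 10, .mul 1 11, .mul 0 14, .mul 1 14, .mul 0 15, .mul 1 19,
  .mul 17 0, .mul 16 2, .inv 1, .mul 24 23, .mul 22 22, .mul 25 22, .mul 22 25, .mul 25 25, .mul 22 26, .mul 22 27,
  .mul 25 28, .mul 22 29, .mul 25 29, .mul 22 30, .mul 22 31, .mul 22 32, .mul 25 32, .mul 25 34, .mul 25 35, .mul 22 37,
  .mul 25 38, .mul 25 40, .mul 22 43, .mul 33 34, .inv 36, .mul 46 45, .mul 30 45, .inv 25, .mul 49 48, .mul 50 47,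
  .mul 50 50, .mul 47 51, .mul 47 52, .mul 50 52, .mul 50 53, .mul 50 54, .mul 47 55, .mul 47 56, .mul 50 56, .mul 50 57,
  .mul 50 58, .mul 50 59, .mul 47 60, .mul 50 60, .mul 50 61, .mul 50 62, .mul 47 67, .mul 60 61, .inv 56, .mul 70 69,
  .mul 64 60, .inv 50, .mul 73 72, .mul 60 58, .inv 47, .mul 76 75, .mul 71 71, .mul 71 74, .mul 74 74, .mul 77 78,
  .mul 71 79, .mul 74 79, .mul 71 80, .mul 74 80, .mul 77 80, .mul 71 81, .mul 74 81, .mul 71 82, .mul 71 83, .mul 74 83,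
  .mul 74 84, .mul 71 85, .mul 74 86, .mul 74 93, .mul 71 93, .inv 92, .mul 97 96, .mul 78 94, .inv 86, .mul 100 99,
  .mul 101 101, .mul 101 95, .inv 101, .mul 104 103, .mul 103 102, .mul 98 102, .inv 102, .mul 108 107, .mul 98 101, .mul 104 110,
  .mul 106 105, .mul 109 105, .mul 111 105, .mul 109 106, .mul 111 106, .mul 111 109, .mul 109 112, .mul 111 112, .mul 111 113, .mul 111 115,
  .mul 111 118]
theorem cert_5_23_23 : certOK 5 23 23 x_5_23_23 y_5_23_23 prog_5_23_23 = true := by decide +kernel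

end Cfsg.Agent.Lib.Helper28.M23GenCertC
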