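import Mathlib
import Cfsg.Agent.Lib.Helper28.M23Gen

set_option autoImplicit false

/-! Generated certificates for the generation of `M23` by triples of prime orders. -/

namespace Cfsg.Agent.Lib.Helper28.M23GenCertD

open Cfsg Cfsg.Agent.Lib.Helper3.Golay Cfsg.Agent.Lib.Helper28.M23Gen

def x_7_7_7 : List ℕ := [4, 2, 17, 15, 6, 5, 8, 10, 11, 7, 20, 3, 12, 16, 9, 0, 21, 13, 22, 1, 18, 19, 14, 23]
def y_7_7_7 : List ℕ := [4, 18, 13, 16, 17, 14, 8, 9, 19, 12, 0, 11, 21, 6, 7, 3, 10, 15, 2, 1, 5, 20, 22, 23]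
def prog_7_7_7 : List Ins := [
  .mul 0 0, .mul 1 0, .mul 0 2, .mul 0 3, .mul 1 3, .mul 0 4, .mul 1 4, .mul 0 5, .mul 1 6, .mul 0 8,
  .mul 0 9, .mul 1 9, .mul 0 11, .mul 1 11, .mul 1 12, .mul 0 15, .mul 1 16, .mul 0 17, .mul 0 19, .mul 1 19,
  .mul 1 20, .mul 16 18, .mul 22 3, .inv 13, .mul 25 24, .mul 13 20, .mul 23 23, .mul 27 23, .mul 23 26, .mul 26 26,
  .mul 27 26, .mul 23 28, .mul 23 29, .mul 26 29, .mul 27 29, .mul 23 30, .mul 23 31, .mul 27 31, .mul 23 32, .mul 23 33,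
  .mul 26 33, .mul 27 34, .mul 23 39, .mul 26 39, .mul 27 39, .mul 46 37, .inv 23, .mul 48 47, .mul 40 28, .inv 38,
  .mul 51 50, .mul 32 29, .mul 51 53, .mul 49 49, .mul 52 49, .mul 54 49, .mul 49 52, .mul 52 52, .mul 54 52, .mul 52 54,
  .mul 52 55, .mul 54 56, .mul 52 57, .mul 52 58, .mul 54 58, .mul 52 59, .mul 49 61, .mul 54 62, .mul 49 65, .mul 54 67,
  .mul 54 65, .mul 60 57, .inv 58, .mul 74 73, .mul 60 63, .inv 62, .mul 77 76, .mul 72 72, .mul 75 72, .mul 78 72,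
  .mul 72 75, .mul 75 75, .mul 78 78, .mul 75 79, .mul 78 79, .mul 75 80, .mul 72 82, .mul 78 82, .mul 78 83, .mul 75 84,
  .mul 78 84, .mul 72 88, .mul 75 88, .mul 81 92, .mul 81 85, .inv 82, .mul 97 96, .mul 75 91, .inv 79, .mul 100 99,
  .mul 95 101, .mul 98 101, .mul 98 98, .inv 101, .mul 105 104, .mul 102 101, .mul 105 107, .mul 98 103, .inv 95, .mul 110 109,
  .mul 103 102, .mul 108 102, .mul 111 102, .mul 108 103, .mul 111 103, .mul 111 108, .mul 108 112, .mul 111 112, .mul 111 113, .mul 111 115,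
  .mul 111 118]
theorem cert_7_7_7 : certOK 7 7 7 x_7_7_7 y_7_7_7 prog_7_7_7 = true := by decide +kernel

def x_7_7_11 : List ℕ := [22, 1, 7, 3, 10, 2, 15, 6, 12, 16, 21, 4, 18, 0, 20, 14, 17, 8, 19, 9, 5, 13, 11, 23]
def y_7_7_11 : List ℕ := [21, 6, 11, 4, 12, 8, 20, 5, 0, 7, 13, 3, 17, 15, 1, 14, 9, 22, 18, 19, 10, 16, 2, 23]
def prog_7_7_11 : List Ins := [
  .mul 0 0, .mul 1 0, .mul 0 1, .mul 1 1, .mul 0 2, .mul 1 2, .mul 0 3, .mul 1 4, .mul 0 5, .mul 1 5,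
  .mul 0 6, .mul 1 6, .mul 0 8, .mul 1 8, .mul 0 9, .mul 0 10, .mul 0 13, .mul 1 14, .mul 1 16, .mul 0 18,
  .mul 9 10, .inv 7, .mul 23 22, .mul 2 6, .inv 1, .mul 26 25, .mul 5 11, .inv 15, .mul 29 28, .mul 24 24,
  .mul 27 24, .mul 30 24, .mul 24 27, .mul 30 27, .mul 24 30, .mul 30 30, .mul 24 31, .mul 30 31, .mul 30 32, .mul 30 33,
  .mul 24 34, .mul 27 34, .mul 30 34, .mul 24 35, .mul 27 35, .mul 30 36, .mul 30 40, .mul 39 36, .inv 47, .mul 50 49,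
  .mul 32 44, .inv 48, .mul 53 52, .mul 49 49, .inv 33, .mul 56 55, .mul 54 51, .mul 57 51, .mul 51 54, .mul 57 54,
  .mul 51 57, .mul 54 57, .mul 51 58, .mul 54 58, .mul 54 59, .mul 54 60, .mul 54 61, .mul 54 62, .mul 57 63, .mul 57 65,
  .mul 51 66, .mul 57 69, .mul 57 71, .mul 59 66, .inv 68, .mul 76 75, .mul 63 69, .inv 71, .mul 79 78, .mul 71 64,
  .mul 77 77, .mul 80 77, .mul 81 77, .mul 77 80, .mul 80 80, .mul 81 80, .mul 77 82, .mul 80 82, .mul 81 82, .mul 77 83,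
  .mul 80 84, .mul 77 85, .mul 81 85, .mul 80 86, .mul 80 87, .mul 81 87, .mul 80 93, .mul 89 96, .inv 94, .mul 100 99,
  .mul 77 97, .inv 98, .mul 103 102, .mul 89 92, .inv 77, .mul 106 105, .mul 104 104, .inv 107, .mul 109 108, .mul 101 104,
  .mul 109 111, .mul 107 104, .mul 101 107, .mul 112 110, .mul 113 110, .mul 114 110, .mul 113 112, .mul 114 112, .mul 114 113, .mul 113 115,
  .mul 114 115, .mul 114 116, .mul 114 118, .mul 114 121]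
theorem cert_7_7_11 : certOK 7 7 11 x_7_7_11 y_7_7_11 prog_7_7_11 = true := by decide +kernel

def x_7_7_23 : List ℕ := [1, 20, 3, 5, 14, 13, 22, 7, 0, 17, 18, 11, 4, 6, 16, 12, 9, 15, 19, 8, 10, 2, 21, 23]
def y_7_7_23 : List ℕ := [0, 16, 3, 6, 21, 2, 8, 5, 18, 17, 4, 9, 1, 19, 12, 15, 13, 20, 7, 22, 10, 11, 14, 23]
def prog_7_7_23 : List Ins := [
  .mul 0 0, .mul 1 0, .mul 0 2, .mul 0 3, .mul 1 3, .mul 0 4, .mul 1 4, .mul 0 5, .mul 0 6, .mul 1 6,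
  .mul 1 7, .mul 0 8, .mul 1 8, .mul 0 9, .mul 0 10, .mul 1 10, .mul 1 12, .mul 1 13, .mul 0 14, .mul 1 14,
  .mul 0 20, .mul 18 3, .inv 3, .mul 24 23, .mul 17 21, .inv 15, .mul 27 26, .mul 11 16, .inv 9, .mul 30 29,
  .mul 25 25, .mul 28 25, .mul 31 25, .mul 25 28, .mul 28 28, .mul 25 31, .mul 28 31, .mul 31 31, .mul 28 32, .mul 31 32,
  .mul 25 33, .mul 28 33, .mul 31 33, .mul 28 34, .mul 31 34, .mul 25 36, .mul 28 36, .mul 25 41, .mul 39 33, .inv 32,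
  .mul 51 50, .mul 33 47, .inv 35, .mul 54 53, .mul 25 44, .mul 55 52, .mul 56 52, .mul 55 55, .mul 55 56, .mul 56 56,
  .mul 52 57, .mul 56 57, .mul 52 58, .mul 52 59, .mul 55 59, .mul 52 60, .mul 55 60, .mul 52 61, .mul 55 63, .mul 56 63,
  .mul 52 64, .mul 56 64, .mul 72 56, .inv 52, .mul 75 74, .mul 65 59, .inv 63, .mul 78 77, .mul 64 52, .inv 69,
  .mul 81 80, .mul 76 79, .mul 79 79, .mul 79 82, .mul 79 83, .mul 82 83, .mul 79 84, .mul 76 85, .mul 82 85, .mul 79 86,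
  .mul 79 87, .mul 79 88, .mul 82 88, .mul 79 90, .mul 79 91, .mul 82 92, .mul 79 96, .mul 79 97, .mul 96 87, .inv 79,
  .mul 101 100, .mul 84 83, .inv 91, .mul 104 103, .mul 90 88, .mul 92 82, .mul 104 107, .mul 106 102, .mul 102 102, .inv 106,
  .mul 111 110, .mul 108 106, .mul 113 106, .mul 111 114, .mul 112 109, .mul 113 109, .mul 115 109, .mul 113 112, .mul 115 112, .mul 115 113,
  .mul 113 116, .mul 115 116, .mul 115 117, .mul 115 119, .mul 115 122]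
theorem cert_7_7_23 : certOK 7 7 23 x_7_7_23 y_7_7_23 prog_7_7_23 = true := by decide +kernel

def x_7_11_11 : List ℕ := [20, 12, 2, 22, 7, 18, 0, 16, 8, 1, 4, 17, 14, 10, 15, 5, 11, 13, 9, 6, 21, 3, 19, 23]
def y_7_11_11 : List ℕ := [16, 10, 12, 11, 20, 17, 19, 5, 22, 9, 4, 13, 3, 14, 6, 2, 15, 8, 7, 0, 18, 1, 21, 23]
def prog_7_11_11 : List Ins := [
  .mul 0 0, .mul 1 0, .mul 0 1, .mul 1 1, .mul 0 2, .mul 1 2, .mul 0 3, .mul 1 3, .mul 0 4, .mul 1 4,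
  .mul 0 5, .mul 1 5, .mul 0 6, .mul 0 7, .mul 1 7, .mul 1 10, .mul 1 11, .mul 0 14, .mul 0 16, .mul 1 18,
  .mul 13 7, .inv 0, .mul 23 22, .mul 11 9, .inv 9, .mul 26 25, .mul 24 24, .mul 27 24, .mul 24 27, .mul 27 27,
  .mul 24 28, .mul 27 28, .mul 24 30, .mul 27 30, .mul 24 31, .mul 27 31, .mul 24 32, .mul 27 32, .mul 24 33, .mul 27 33,
  .mul 27 35, .mul 27 36, .mul 27 37, .mul 24 38, .mul 27 38, .mul 36 27, .inv 43, .mul 48 47, .mul 38 37, .mul 48 50,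
  .mul 49 49, .mul 51 49, .mul 49 51, .mul 49 52, .mul 51 52, .mul 49 53, .mul 51 53, .mul 49 54, .mul 49 55, .mul 51 55,
  .mul 49 58, .mul 49 61, .mul 51 61, .mul 49 63, .mul 51 63, .mul 49 64, .mul 49 65, .mul 51 65, .mul 55 64, .inv 58,
  .mul 71 70, .mul 53 57, .inv 54, .mul 74 73, .mul 72 72, .mul 75 72, .mul 72 75, .mul 75 75, .mul 72 76, .mul 75 76,
  .mul 72 77, .mul 75 77, .mul 72 78, .mul 75 79, .mul 72 80, .mul 72 81, .mul 75 83, .mul 72 84, .mul 75 84, .mul 75 87,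
  .mul 75 88, .mul 82 89, .inv 88, .mul 94 93, .mul 82 82, .mul 91 72, .inv 77, .mul 98 97, .mul 99 99, .mul 100 99,
  .mul 100 96, .inv 100, .mul 103 102, .mul 101 99, .inv 99, .mul 106 105, .mul 95 105, .mul 106 108, .mul 95 102, .mul 103 110,
  .mul 99 110, .mul 99 95, .mul 106 113, .mul 112 100, .mul 103 115, .mul 109 104, .mul 111 104, .mul 114 104, .mul 116 104, .mul 116 109,
  .mul 116 111, .mul 116 114, .mul 116 117, .mul 116 118, .mul 116 119]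
theorem cert_7_11_11 : certOK 7 11 11 x_7_11_11 y_7_11_11 prog_7_11_11 = true := by decide +kernel

def x_7_11_23 : List ℕ := [8, 4, 13, 9, 10, 1, 0, 17, 2, 22, 3, 6, 12, 21, 18, 19, 16, 20, 7, 14, 15, 11, 5, 23]
def y_7_11_23 : List ℕ := [17, 8, 22, 15, 21, 2, 9, 7, 11, 13, 1, 18, 19, 3, 0, 5, 10, 6, 20, 4, 12, 16, 14, 23]
def prog_7_11_23 : List Ins := [
  .mul 0 0, .mul 1 0, .mul 0 1, .mul 1 1, .mul 0 2, .mul 1 2, .mul 1 3, .mul 0 4, .mul 1 4, .mul 1 5,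
  .mul 0 6, .mul 1 6, .mul 0 7, .mul 1 7, .mul 0 8, .mul 0 9, .mul 1 12, .mul 0 14, .mul 1 17, .mul 1 18,
  .mul 17 2, .inv 20, .mul 23 22, .mul 16 20, .inv 2, .mul 26 25, .mul 10 15, .inv 3, .mul 29 28, .mul 24 24,
  .mul 30 24, .mul 24 27, .mul 24 30, .mul 30 30, .mul 24 31, .mul 27 31, .mul 30 31, .mul 27 32, .mul 30 32, .mul 30 34,
  .mul 24 35, .mul 27 35, .mul 24 36, .mul 24 37, .mul 30 37, .mul 24 38, .mul 24 41, .mul 38 32, .inv 41, .mul 50 49,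
  .mul 32 46, .inv 39, .mul 53 52, .mul 24 43, .inv 43, .mul 56 55, .mul 51 51, .mul 51 54, .mul 54 54, .mul 57 54,
  .mul 51 57, .mul 51 58, .mul 54 58, .mul 57 58, .mul 51 59, .mul 51 60, .mul 57 60, .mul 54 61, .mul 57 62, .mul 57 63,
  .mul 57 64, .mul 54 68, .mul 57 69, .mul 73 57, .inv 74, .mul 76 75, .mul 66 60, .mul 65 51, .inv 71, .mul 80 79,
  .mul 70 61, .mul 77 77, .mul 78 77, .mul 77 78, .mul 78 78, .mul 77 83, .mul 78 83, .mul 77 84, .mul 77 85, .mul 78 85,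
  .mul 82 85, .mul 77 86, .mul 77 87, .mul 82 88, .mul 77 89, .mul 78 90, .mul 78 93, .mul 82 93, .mul 84 83, .inv 83,
  .mul 101 100, .mul 90 88, .inv 88, .mul 104 103, .mul 92 82, .inv 92, .mul 107 106, .mul 105 102, .mul 102 102, .inv 105,
  .mul 111 110, .mul 108 105, .mul 113 105, .mul 111 114, .mul 112 109, .mul 113 109, .mul 115 109, .mul 113 112, .mul 115 112, .mul 115 113,
  .mul 113 116, .mul 115 116, .mul 115 117, .mul 115 119, .mul 115 122]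
theorem cert_7_11_23 : certOK 7 11 23 x_7_11_23 y_7_11_23 prog_7_11_23 = true := by decide +kernel

def x_7_23_23 : List ℕ := [20, 12, 2, 22, 7, 18, 0, 16, 8, 1, 4, 17, 14, 10, 15, 5, 11, 13, 9, 6, 21, 3, 19, 23]
def y_7_23_23 : List ℕ := [19, 3, 7, 18, 12, 13, 21, 9, 1, 4, 5, 15, 10, 8, 20, 2, 17, 6, 14, 11, 16, 22, 0, 23]
def prog_7_23_23 : List Ins := [
  .mul 0 0, .mul 1 0, .mul 0 1, .mul 1 1, .mul 0 2, .mul 1 2, .mul 1 3, .mul 1 5, .mul 1 6, .mul 0 8,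
  .mul 0 9, .mul 1 9, .mul 0 10, .mul 1 10, .mul 0 11, .mul 1 11, .mul 1 13, .mul 0 14, .mul 1 14, .mul 0 19,
  .mul 14 16, .inv 11, .mul 23 22, .mul 6 3, .mul 23 25, .mul 8 5, .inv 2, .mul 28 27, .mul 24 24, .mul 29 24,
  .mul 26 26, .mul 29 26, .mul 26 29, .mul 29 29, .mul 24 31, .mul 26 31, .mul 29 31, .mul 24 33, .mul 29 33, .mul 29 34,
  .mul 29 35, .mul 29 36, .mul 29 38, .mul 24 39, .mul 24 42, .mul 26 43, .mul 26 44, .inv 44, .mul 49 48, .mul 24 40,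
  .inv 42, .mul 52 51, .mul 40 26, .inv 39, .mul 55 54, .mul 50 50, .mul 53 50, .mul 56 50, .mul 50 53, .mul 53 53,
  .mul 50 56, .mul 56 56, .mul 50 57, .mul 53 57, .mul 56 57, .mul 50 58, .mul 53 58, .mul 50 60, .mul 50 61, .mul 53 62,
  .mul 56 62, .mul 56 64, .mul 71 50, .inv 59, .mul 75 74, .mul 70 63, .inv 69, .mul 78 77, .mul 74 67, .mul 76 76,
  .mul 79 76, .mul 80 76, .mul 79 79, .mul 80 79, .mul 76 81, .mul 79 81, .mul 79 82, .mul 80 82, .mul 80 83, .mul 76 84,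
  .mul 76 85, .mul 79 86, .mul 80 86, .mul 76 87, .mul 80 88, .mul 79 89, .mul 90 94, .inv 87, .mul 99 98, .mul 95 79,
  .inv 83, .mul 102 101, .mul 90 91, .mul 103 103, .mul 105 104, .mul 100 105, .inv 105, .mul 108 107, .mul 107 106, .mul 108 110,
  .mul 104 107, .mul 103 103, .mul 108 113, .mul 100 103, .inv 103, .mul 116 115, .mul 112 106, .mul 117 106, .mul 112 109, .mul 117 109,
  .mul 112 111, .mul 117 111, .mul 117 112, .mul 117 118, .mul 117 120, .mul 117 122]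
theorem cert_7_23_23 : certOK 7 23 23 x_7_23_23 y_7_23_23 prog_7_23_23 = true := by decide +kernel

def x_11_11_11 : List ℕ := [3, 8, 17, 7, 2, 0, 5, 4, 9, 10, 14, 1, 15, 13, 19, 21, 18, 12, 11, 20, 22, 6, 16, 23]
def y_11_11_11 : List ℕ := [18, 5, 22, 1, 19, 6, 15, 17, 12, 4, 14, 21, 10, 9, 0, 2, 16, 20, 11, 3, 8, 7, 13, 23]
def prog_11_11_11 : List Ins := [
  .mul 0 0, .mul 1 0, .mul 0 1, .mul 0 2, .mul 1 2, .mul 0 3, .mul 1 3, .mul 1 4, .mul 0 5, .mul 1 5,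
  .mul 0 6, .mul 1 6, .mul 0 7, .mul 1 8, .mul 1 10, .mul 0 12, .mul 1 12, .mul 0 16, .mul 1 16, .mul 0 18,
  .mul 4 3, .mul 2 15, .mul 13 21, .inv 12, .mul 25 24, .mul 22 22, .mul 23 22, .mul 26 22, .mul 23 23, .mul 22 26,
  .mul 23 27, .mul 26 27, .mul 22 28, .mul 22 29, .mul 23 29, .mul 23 30, .mul 26 30, .mul 22 31, .mul 23 31, .mul 22 32,
  .mul 26 32, .mul 22 34, .mul 26 37, .mul 41 32, .inv 30, .mul 46 45, .mul 22 42, .inv 44, .mul 49 48, .mul 42 23,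
  .inv 40, .mul 52 51, .mul 47 47, .mul 50 47, .mul 53 47, .mul 47 50, .mul 50 50, .mul 53 50, .mul 50 53, .mul 50 54,
  .mul 53 54, .mul 47 55, .mul 47 56, .mul 50 56, .mul 53 56, .mul 47 57, .mul 50 59, .mul 53 59, .mul 47 60, .mul 66 59,
  .inv 60, .mul 72 71, .mul 47 66, .inv 65, .mul 75 74, .mul 69 47, .inv 53, .mul 78 77, .mul 73 73, .mul 76 73,
  .mul 79 73, .mul 73 76, .mul 79 76, .mul 73 80, .mul 76 80, .mul 73 81, .mul 76 81, .mul 79 81, .mul 73 82, .mul 79 82,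
  .mul 73 83, .mul 73 86, .mul 76 86, .mul 73 90, .mul 73 91, .mul 91 92, .inv 96, .mul 98 97, .mul 73 94, .inv 84,
  .mul 101 100, .mul 90 87, .mul 98 103, .mul 104 99, .inv 102, .mul 106 105, .mul 104 102, .mul 102 99, .mul 109 99, .inv 99,
  .mul 111 110, .mul 108 107, .mul 109 107, .mul 112 107, .mul 109 108, .mul 112 108, .mul 112 109, .mul 109 113, .mul 112 113, .mul 112 114,
  .mul 112 116, .mul 112 119]
theorem cert_11_11_11 : certOK 11 11 11 x_11_11_11 y_11_11_11 prog_11_11_11 = true := by decide +kernel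

def x_11_11_23 : List ℕ := [16, 14, 21, 22, 6, 7, 15, 12, 9, 0, 3, 8, 11, 2, 5, 19, 17, 1, 18, 20, 13, 10, 4, 23]
def y_11_11_23 : List ℕ := [22, 3, 12, 11, 21, 2, 8, 6, 5, 10, 16, 19, 14, 0, 4, 13, 15, 17, 20, 9, 7, 18, 1, 23]
def prog_11_11_23 : List Ins := [
  .mul 0 0, .mul 1 0, .mul 0 1, .mul 1 1, .mul 0 3, .mul 1 3, .mul 0 4, .mul 1 4, .mul 0 5, .mul 1 5,
  .mul 0 6, .mul 1 6, .mul 0 7, .mul 1 8, .mul 0 9, .mul 1 9, .mul 0 10, .mul 1 11, .mul 1 12, .mul 1 14,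
  .mul 20 11, .inv 14, .mul 23 22, .mul 18 18, .inv 15, .mul 26 25, .mul 12 21, .inv 7, .mul 29 28, .mul 24 24,
  .mul 27 24, .mul 30 24, .mul 30 27, .mul 24 30, .mul 27 30, .mul 30 30, .mul 24 31, .mul 30 31, .mul 24 32, .mul 27 33,
  .mul 24 34, .mul 30 34, .mul 24 35, .mul 27 35, .mul 30 36, .mul 30 38, .mul 24 46, .mul 27 37, .inv 46, .mul 50 49,
  .mul 41 36, .inv 37, .mul 53 52, .mul 42 35, .mul 51 54, .mul 54 54, .mul 55 54, .mul 51 56, .mul 54 56, .mul 51 57,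
  .mul 55 57, .mul 51 58, .mul 54 58, .mul 51 59, .mul 54 59, .mul 51 61, .mul 54 61, .mul 51 62, .mul 54 62, .mul 54 63,
  .mul 55 63, .mul 55 64, .mul 54 71, .mul 51 74, .inv 64, .mul 76 75, .mul 65 70, .mul 67 59, .mul 76 79, .mul 77 77,
  .mul 78 77, .mul 80 77, .mul 77 78, .mul 80 78, .mul 78 80, .mul 80 80, .mul 78 81, .mul 77 82, .mul 77 83, .mul 78 83,
  .mul 80 83, .mul 78 84, .mul 78 86, .mul 78 87, .mul 77 90, .mul 78 95, .inv 81, .mul 98 97, .mul 96 96, .inv 93,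
  .mul 101 100, .mul 78 78, .mul 99 103, .inv 99, .mul 105 104, .mul 99 102, .mul 99 103, .mul 105 108, .mul 108 107, .mul 105 110,
  .mul 99 110, .inv 102, .mul 113 112, .mul 110 102, .mul 104 102, .mul 115 106, .mul 116 106, .mul 115 107, .mul 116 107, .mul 115 111,
  .mul 116 111, .mul 116 115, .mul 116 117, .mul 116 119, .mul 116 121]
theorem cert_11_11_23 : certOK 11 11 23 x_11_11_23 y_11_11_23 prog_11_11_23 = true := by decide +kernel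

def x_11_23_23 : List ℕ := [7, 19, 20, 9, 11, 5, 13, 18, 0, 8, 4, 22, 16, 10, 17, 14, 2, 1, 15, 3, 21, 6, 12, 23]
def y_11_23_23 : List ℕ := [11, 10, 14, 5, 15, 1, 0, 12, 4, 21, 6, 16, 19, 2, 20, 13, 18, 8, 22, 9, 7, 3, 17, 23]
def prog_11_23_23 : List Ins := [
  .mul 0 0, .mul 1 0, .mul 0 1, .mul 1 1, .mul 0 2, .mul 1 3, .mul 1 4, .mul 0 5, .mul 0 6, .mul 1 6,
  .mul 0 7, .mul 1 7, .mul 0 8, .mul 1 8, .mul 0 9, .mul 0 11, .mul 1 12, .mul 1 13, .mul 1 15, .mul 1 17,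
  .mul 21 11, .inv 10, .mul 23 22, .mul 22 10, .inv 2, .mul 26 25, .mul 12 19, .inv 4, .mul 29 28, .mul 24 24,
  .mul 27 24, .mul 24 27, .mul 27 27, .mul 30 27, .mul 27 31, .mul 30 31, .mul 27 32, .mul 30 32, .mul 24 33, .mul 30 33,
  .mul 30 34, .mul 24 35, .mul 27 35, .mul 30 35, .mul 24 36, .mul 24 37, .mul 27 39, .mul 24 43, .mul 35 44, .inv 36,
  .mul 51 50, .mul 42 31, .mul 53 46, .inv 43, .mul 55 54, .mul 52 52, .mul 53 52, .mul 52 53, .mul 56 53, .mul 52 56,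
  .mul 53 56, .mul 52 58, .mul 53 58, .mul 56 58, .mul 52 59, .mul 56 59, .mul 52 60, .mul 56 62, .mul 53 63, .mul 56 64,
  .mul 52 65, .mul 56 69, .mul 64 58, .inv 69, .mul 75 74, .mul 68 69, .inv 64, .mul 78 77, .mul 74 52, .inv 67,
  .mul 81 80, .mul 76 76, .mul 79 76, .mul 82 76, .mul 76 79, .mul 79 79, .mul 76 82, .mul 82 82, .mul 79 83, .mul 82 83,
  .mul 79 84, .mul 82 84, .mul 76 85, .mul 79 86, .mul 76 87, .mul 79 87, .mul 82 88, .mul 83 89, .inv 91, .mul 100 99,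
  .mul 83 79, .inv 90, .mul 103 102, .mul 79 97, .mul 100 105, .mul 104 101, .inv 104, .mul 108 107, .mul 106 107, .mul 104 101,
  .mul 108 111, .mul 111 111, .inv 106, .mul 114 113, .mul 104 113, .mul 110 109, .mul 115 109, .mul 116 109, .mul 115 110, .mul 116 110,
  .mul 116 115, .mul 115 117, .mul 116 117, .mul 116 118, .mul 116 120, .mul 116 123]
theorem cert_11_23_23 : certOK 11 23 23 x_11_23_23 y_11_23_23 prog_11_23_23 = true := by decide +kernel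

def x_23_23_23 : List ℕ := [11, 20, 15, 2, 6, 16, 14, 19, 21, 12, 0, 1, 18, 22, 8, 5, 10, 4, 7, 13, 17, 9, 3, 23]
def y_23_23_23 : List ℕ := [21, 6, 20, 7, 18, 12, 19, 16, 1, 15, 0, 9, 14, 2, 17, 13, 8, 22, 3, 5, 4, 11, 10, 23]
def prog_23_23_23 : List Ins := [
  .mul 0 0, .mul 1 0, .mul 0 2, .mul 1 2, .mul 0 3, .mul 1 3, .mul 0 4, .mul 1 4, .mul 0 5, .mul 1 5,
  .mul 0 6, .mul 0 7, .mul 1 7, .mul 1 8, .mul 0 10, .mul 0 12, .mul 1 12, .mul 0 13, .mul 1 14, .mul 1 15,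
  .mul 15 19, .inv 5, .mul 23 22, .mul 7 5, .inv 15, .mul 26 25, .mul 6 6, .inv 20, .mul 29 28, .mul 27 24,
  .mul 30 24, .mul 24 27, .mul 27 27, .mul 30 27, .mul 27 30, .mul 30 30, .mul 27 31, .mul 24 32, .mul 30 32, .mul 30 33,
  .mul 27 34, .mul 27 35, .mul 24 37, .mul 30 37, .mul 27 38, .mul 24 39, .mul 27 39, .mul 47 34, .inv 34, .mul 50 49,
  .mul 41 47, .inv 31, .mul 53 52, .mul 46 30, .inv 30, .mul 56 55, .mul 51 51, .mul 54 51, .mul 57 51, .mul 51 57,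
  .mul 54 57, .mul 57 57, .mul 51 58, .mul 54 58, .mul 54 59, .mul 54 60, .mul 57 60, .mul 54 62, .mul 51 63, .mul 51 64,
  .mul 57 65, .mul 51 66, .mul 51 70, .mul 72 73, .inv 64, .mul 76 75, .mul 63 65, .inv 66, .mul 79 78, .mul 75 54,
  .mul 77 77, .mul 80 77, .mul 81 77, .mul 77 80, .mul 80 80, .mul 81 80, .mul 77 81, .mul 81 81, .mul 77 82, .mul 80 82,
  .mul 80 83, .mul 80 84, .mul 81 84, .mul 81 87, .mul 81 88, .mul 80 90, .mul 90 81, .inv 93, .mul 99 98, .mul 82 86,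
  .inv 80, .mul 102 101, .mul 92 93, .mul 100 100, .mul 103 105, .mul 100 100, .inv 105, .mul 108 107, .mul 100 100, .mul 108 110,
  .mul 105 104, .mul 108 112, .mul 103 100, .mul 108 114, .mul 106 104, .mul 104 105, .mul 108 117, .mul 115 106, .mul 118 106, .mul 115 113,
  .mul 118 113, .mul 116 115, .mul 118 115, .mul 118 116, .mul 118 119, .mul 118 121, .mul 118 123]
theorem cert_23_23_23 : certOK 23 23 23 x_23_23_23 y_23_23_23 prog_23_23_23 = true := by decide +kernel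

end Cfsg.Agent.Lib.Helper28.M23GenCertD
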