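import Mathlib
set_option autoImplicit false
set_option linter.unusedSectionVars false

/-!
The inequality of Scott and Ree for two permutations `x`, `y` of a finite set and their product, in the
form: the numbers of cycles of `x`, `y` and `x * y` (as dimensions of the spaces of invariant rational
functions) add up to at most `|Ω| + 2 s`, where `s` is the size of a set meeting every orbit of the group
generated by `x` and `y`.  Also a lower bound for the number of cycles of an element of prime order in
terms of its number of fixed points.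
-/

namespace Cfsg.Agent.Lib.Helper28.ScottRee

open Module

variable {Ω : Type*} [Fintype Ω] [DecidableEq Ω]

/-- the operator `f ↦ f - f ∘ σ` on rational functions. -/
noncomputable def dOp (σ : Equiv.Perm Ω) : (Ω → ℚ) →ₗ[ℚ] (Ω → ℚ) :=
  LinearMap.id - LinearMap.funLeft ℚ ℚ σ

theorem dOp_apply (σ : Equiv.Perm Ω) (f : Ω → ℚ) (ω : Ω) : dOp σ f ω = f ω - f (σ ω) := by
  simp [dOp, LinearMap.funLeft_apply]

/-- the space of functions invariant under `σ`. -/
noncomputable def invSp (σ : Equiv.Perm Ω) : Submodule ℚ (Ω → ℚ) := LinearMap.ker (dOp σ)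

theorem mem_invSp {σ : Equiv.Perm Ω} {f : Ω → ℚ} : f ∈ invSp σ ↔ ∀ ω, f (σ ω) = f ω := by
  unfold invSp
  rw [LinearMap.mem_ker]
  constructor
  · intro h ω
    have := congrFun h ω
    rw [dOp_apply] at this
    simp only [Pi.zero_apply] at this
    linarith
  · intro h
    ext ω
    rw [dOp_apply, h ω]
    simp

theorem finrank_range_add (σ : Equiv.Perm Ω) :
    finrank ℚ (LinearMap.range (dOp σ)) + finrank ℚ (invSp σ) = Fintype.card Ω := by
  have := LinearMap.finrank_range_add_finrank_ker (dOp σ)
  rw [Module.finrank_fintype_fun_eq_card] at this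
  exact this

theorem invSp_inv (σ : Equiv.Perm Ω) : invSp σ⁻¹ = invSp σ := by
  ext f
  rw [mem_invSp, mem_invSp]
  constructor
  · intro h ω
    have := h (σ ω)
    rw [show σ⁻¹ (σ ω) = ω from σ.symm_apply_apply ω] at this
    exact this.symm
  · intro h ω
    have := h (σ⁻¹ ω)
    rw [show σ (σ⁻¹ ω) = ω from σ.apply_symm_apply ω] at this
    exact this.symm

/-- the characteristic function of a point. -/
noncomputable def eFn (ω : Ω) : Ω → ℚ := Pi.single ω 1

theorem dOp_eFn (σ : Equiv.Perm Ω) (ω : Ω) : dOp σ (eFn (σ ω)) = eFn (σ ω) - eFn ω := by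
  ext τ
  rw [dOp_apply]
  simp only [eFn, Pi.sub_apply, Pi.single_apply]
  by_cases h : τ = ω
  · subst h
    simp
  · have : σ τ ≠ σ ω := fun h' => h (σ.injective h')
    simp [h, this]

section main

variable (x y : Equiv.Perm Ω) (S : Finset Ω)
  (hS : ∀ P : Ω → Prop, (∀ s ∈ S, P s) → (∀ ω, P (x ω) ↔ P ω) → (∀ ω, P (y ω) ↔ P ω) → ∀ ω, P ω)

include hS in
theorem finrank_inf_le : finrank ℚ ↥(invSp x ⊓ invSp y) ≤ S.card := by
  let ρ : ↥(invSp x ⊓ invSp y) →ₗ[ℚ] (↥S → ℚ) :=
    (LinearMap.funLeft ℚ ℚ (fun s : ↥S => (s : Ω))).comp (invSp x ⊓ invSp y).subtype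
  have hinj : Function.Injective ρ := by
    rw [← LinearMap.ker_eq_bot, LinearMap.ker_eq_bot']
    intro f hf
    have hfx := mem_invSp.mp f.2.1
    have hfy := mem_invSp.mp f.2.2
    have h0 : ∀ ω, (f : Ω → ℚ) ω = 0 := by
      apply hS
      · intro s hs
        have := congrFun hf ⟨s, hs⟩
        simpa [ρ, LinearMap.funLeft_apply] using this
      · intro ω
        rw [hfx ω]
      · intro ω
        rw [hfy ω]
    ext ω
    exact h0 ω
  have := LinearMap.finrank_le_finrank_of_injective hinj
  rw [Module.finrank_fintype_fun_eq_card, Fintype.card_coe] at this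
  exact this

include hS in
theorem card_le_add_finrank_sup :
    Fintype.card Ω ≤ S.card + finrank ℚ ↥(LinearMap.range (dOp x) ⊔ LinearMap.range (dOp y)) := by
  classical
  set W := LinearMap.range (dOp x) ⊔ LinearMap.range (dOp y) with hW
  set E : Submodule ℚ (Ω → ℚ) := Submodule.span ℚ (↑(S.image eFn) : Set (Ω → ℚ)) with hE
  have hEcard : finrank ℚ ↥E ≤ S.card :=
    (finrank_span_finset_le_card (R := ℚ) (S.image eFn)).trans Finset.card_image_le
  have hmem : ∀ ω, eFn ω ∈ E ⊔ W := by
    apply hS
    · intro s hs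
      apply Submodule.mem_sup_left
      apply Submodule.subset_span
      exact Finset.mem_coe.mpr (Finset.mem_image_of_mem _ hs)
    · intro ω
      have h1 : eFn (x ω) - eFn ω ∈ E ⊔ W := by
        apply Submodule.mem_sup_right
        apply Submodule.mem_sup_left
        rw [← dOp_eFn]
        exact LinearMap.mem_range_self _ _
      constructor
      · intro h
        have := Submodule.sub_mem _ h h1
        simpa using this
      · intro h
        have := Submodule.add_mem _ h1 h
        simpa using this
    · intro ω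
      have h1 : eFn (y ω) - eFn ω ∈ E ⊔ W := by
        apply Submodule.mem_sup_right
        apply Submodule.mem_sup_right
        rw [← dOp_eFn]
        exact LinearMap.mem_range_self _ _
      constructor
      · intro h
        have := Submodule.sub_mem _ h h1
        simpa using this
      · intro h
        have := Submodule.add_mem _ h1 h
        simpa using this
  have htop : E ⊔ W = ⊤ := by
    rw [eq_top_iff]
    intro f _
    have : f = ∑ ω, f ω • eFn ω := by
      ext τ
      simp [eFn, Pi.single_apply]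
    rw [this]
    exact Submodule.sum_mem _ fun ω _ => Submodule.smul_mem _ _ (hmem ω)
  have h1 : finrank ℚ ↥(E ⊔ W) = Fintype.card Ω := by
    rw [htop, finrank_top, Module.finrank_fintype_fun_eq_card]
  have h2 := Submodule.finrank_add_le_finrank_add_finrank E W
  omega

theorem finrank_invSp_mul_le :
    finrank ℚ ↥(invSp (x * y)) ≤ finrank ℚ ↥(invSp x ⊓ invSp y) +
      finrank ℚ ↥(LinearMap.range (dOp x) ⊓ LinearMap.range (dOp y)) := by
  set T : ↥(invSp (x * y)) →ₗ[ℚ] (Ω → ℚ) := (dOp x).comp (invSp (x * y)).subtype with hT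
  have hrn := LinearMap.finrank_range_add_finrank_ker T
  have hrange : LinearMap.range T ≤ LinearMap.range (dOp x) ⊓ LinearMap.range (dOp y) := by
    rintro _ ⟨f, rfl⟩
    refine ⟨⟨(f : Ω → ℚ), rfl⟩, ?_⟩
    refine ⟨-(LinearMap.funLeft ℚ ℚ x (f : Ω → ℚ)), ?_⟩
    have hf := mem_invSp.mp f.2
    ext ω
    simp only [hT, LinearMap.comp_apply, Submodule.subtype_apply]
    rw [dOp_apply, dOp_apply]
    simp only [Pi.neg_apply, LinearMap.funLeft_apply]
    have := hf ω
    rw [Equiv.Perm.mul_apply] at this
    rw [this]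
    ring
  have hker : finrank ℚ ↥(LinearMap.ker T) ≤ finrank ℚ ↥(invSp x ⊓ invSp y) := by
    let ι : ↥(LinearMap.ker T) →ₗ[ℚ] ↥(invSp x ⊓ invSp y) :=
      LinearMap.codRestrict _ ((invSp (x * y)).subtype.comp (LinearMap.ker T).subtype) (by
        intro g
        have hg : dOp x (g : ↥(invSp (x * y))) = 0 := g.2
        have hgx : ((g : ↥(invSp (x * y))) : Ω → ℚ) ∈ invSp x := hg
        have hgxy := mem_invSp.mp (g : ↥(invSp (x * y))).2
        refine ⟨hgx, mem_invSp.mpr ?_⟩
        intro ω
        have h1 := mem_invSp.mp hgx (y ω)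
        have h2 := hgxy ω
        rw [Equiv.Perm.mul_apply] at h2
        simp only [LinearMap.comp_apply, Submodule.subtype_apply]
        rw [← h1, h2])
    have hinj : Function.Injective ι := by
      intro g g' h
      have := congrArg (fun z : ↥(invSp x ⊓ invSp y) => (z : Ω → ℚ)) h
      exact Subtype.ext (Subtype.ext this)
    exact LinearMap.finrank_le_finrank_of_injective hinj
  have := Submodule.finrank_mono hrange
  omega

include hS in
/-- the inequality of Scott and Ree. -/
theorem scott_ree :
    finrank ℚ ↥(invSp x) + finrank ℚ ↥(invSp y) + finrank ℚ ↥(invSp (x * y)) ≤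
      Fintype.card Ω + 2 * S.card := by
  have h1 := finrank_inf_le x y S hS
  have h2 := card_le_add_finrank_sup x y S hS
  have h3 := finrank_invSp_mul_le x y
  have h4 := Submodule.finrank_sup_add_finrank_inf_eq (LinearMap.range (dOp x)) (LinearMap.range (dOp y))
  have h5 := finrank_range_add x
  have h6 := finrank_range_add y
  omega

end main

section cycles

variable (σ : Equiv.Perm Ω)

/-- the number of fixed points. -/
def nFix (σ : Equiv.Perm Ω) : ℕ := (Finset.univ.filter fun ω => σ ω = ω).card

theorem card_orbits_le_finrank :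
    Nat.card (MulAction.orbitRel.Quotient (Subgroup.zpowers σ) Ω) ≤ finrank ℚ ↥(invSp σ) := by
  classical
  have : Fintype (MulAction.orbitRel.Quotient (Subgroup.zpowers σ) Ω) := Fintype.ofFinite _
  let π : Ω → MulAction.orbitRel.Quotient (Subgroup.zpowers σ) Ω := Quotient.mk''
  have hπ : Function.Surjective π := Quotient.mk''_surjective
  let Φ : (MulAction.orbitRel.Quotient (Subgroup.zpowers σ) Ω → ℚ) →ₗ[ℚ] ↥(invSp σ) :=
    LinearMap.codRestrict _ (LinearMap.funLeft ℚ ℚ π) (by
      intro φ
      rw [mem_invSp]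
      intro ω
      simp only [LinearMap.funLeft_apply]
      congr 1
      apply Quotient.sound'
      exact ⟨⟨σ, Subgroup.mem_zpowers σ⟩, rfl⟩)
  have hinj : Function.Injective Φ := by
    intro a b h
    have := congrArg Subtype.val h
    exact LinearMap.funLeft_injective_of_surjective ℚ ℚ π hπ this
  have := LinearMap.finrank_le_finrank_of_injective hinj
  rwa [Module.finrank_fintype_fun_eq_card, ← Nat.card_eq_fintype_card] at this

theorem smul_eq_of_fixed (a : ↥(Subgroup.zpowers σ)) {ω : Ω} (h : σ ω = ω) : a • ω = ω := by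
  obtain ⟨k, hk⟩ := Subgroup.mem_zpowers_iff.mp a.2
  show (a : Equiv.Perm Ω) ω = ω
  rw [← hk]
  exact Equiv.Perm.zpow_apply_eq_self_of_apply_eq_self h k

theorem card_add_le_orbits_mul (p : ℕ) (hσ : orderOf σ = p) :
    Fintype.card Ω + (p - 1) * nFix σ ≤
      Nat.card (MulAction.orbitRel.Quotient (Subgroup.zpowers σ) Ω) * p := by
  classical
  have : Fintype ↥(Subgroup.zpowers σ) := Fintype.ofFinite _
  have : Fintype (MulAction.orbitRel.Quotient (Subgroup.zpowers σ) Ω) := Fintype.ofFinite _
  have hB := MulAction.sum_card_fixedBy_eq_card_orbits_mul_card_group (Subgroup.zpowers σ) Ω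
  have hZ : Fintype.card ↥(Subgroup.zpowers σ) = p := by
    rw [← Nat.card_eq_fintype_card, Nat.card_zpowers, hσ]
  rw [hZ] at hB
  rw [Nat.card_eq_fintype_card, ← hB]
  have h1 : ∀ a : ↥(Subgroup.zpowers σ), nFix σ ≤ Fintype.card (MulAction.fixedBy Ω a) := by
    intro a
    rw [Fintype.card_subtype]
    apply Finset.card_le_card
    intro ω hω
    rw [Finset.mem_filter] at hω ⊢
    exact ⟨Finset.mem_univ _, smul_eq_of_fixed σ a hω.2⟩
  have h2 : Fintype.card (MulAction.fixedBy Ω (1 : ↥(Subgroup.zpowers σ))) = Fintype.card Ω := by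
    rw [Fintype.card_subtype]
    congr 1
    apply Finset.filter_true_of_mem
    intro ω _
    exact one_smul _ ω
  have h3 : ((Finset.univ : Finset ↥(Subgroup.zpowers σ)).erase 1).card = p - 1 := by
    rw [Finset.card_erase_of_mem (Finset.mem_univ _), Finset.card_univ, hZ]
  calc Fintype.card Ω + (p - 1) * nFix σ
      = Fintype.card (MulAction.fixedBy Ω (1 : ↥(Subgroup.zpowers σ))) +
          ∑ _a ∈ (Finset.univ : Finset ↥(Subgroup.zpowers σ)).erase 1, nFix σ := by
        rw [h2, Finset.sum_const, h3, smul_eq_mul]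
    _ ≤ Fintype.card (MulAction.fixedBy Ω (1 : ↥(Subgroup.zpowers σ))) +
          ∑ a ∈ (Finset.univ : Finset ↥(Subgroup.zpowers σ)).erase 1,
            Fintype.card (MulAction.fixedBy Ω a) := by
        apply Nat.add_le_add_left
        exact Finset.sum_le_sum fun a _ => h1 a
    _ = ∑ a : ↥(Subgroup.zpowers σ), Fintype.card (MulAction.fixedBy Ω a) :=
        Finset.add_sum_erase Finset.univ
          (fun a : ↥(Subgroup.zpowers σ) => Fintype.card (MulAction.fixedBy Ω a)) (Finset.mem_univ 1)

/-- the number of cycles of an element of order `p` with `nFix σ` fixed points is at least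
`(|Ω| + (p - 1) nFix σ) / p`. -/
theorem card_add_le_finrank_mul (p : ℕ) (hσ : orderOf σ = p) :
    Fintype.card Ω + (p - 1) * nFix σ ≤ finrank ℚ ↥(invSp σ) * p :=
  (card_add_le_orbits_mul σ p hσ).trans (Nat.mul_le_mul_right _ (card_orbits_le_finrank σ))

theorem card_modEq_nFix (p : ℕ) (hp : p.Prime) (hσ : orderOf σ = p) :
    Fintype.card Ω ≡ nFix σ [MOD p] := by
  classical
  have : Fact p.Prime := ⟨hp⟩
  have hZ : Nat.card ↥(Subgroup.zpowers σ) = p ^ 1 := by
    rw [Nat.card_zpowers, hσ, pow_one]
  have hP : IsPGroup p ↥(Subgroup.zpowers σ) := IsPGroup.of_card hZ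
  have h := hP.card_modEq_card_fixedPoints Ω
  have h2 : Nat.card (MulAction.fixedPoints ↥(Subgroup.zpowers σ) Ω) = nFix σ := by
    unfold nFix
    rw [← Fintype.card_subtype, ← Nat.card_eq_fintype_card]
    apply Nat.card_congr
    apply Equiv.subtypeEquivRight
    intro ω
    constructor
    · intro h
      exact h ⟨σ, Subgroup.mem_zpowers σ⟩
    · intro h a
      exact smul_eq_of_fixed σ a h
  rw [Nat.card_eq_fintype_card, h2] at h
  exact h

end cycles

end Cfsg.Agent.Lib.Helper28.ScottRee
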