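import Mathlib
import Cfsg.Prelude.Def_Spor_Mathieu
import Cfsg.Agent.Lib.Helper28.ScottRee
import Cfsg.Agent.Lib.Helper28.M24Classes
import Cfsg.Agent.Lib.Helper28.M23GenCertA

set_option autoImplicit false

/-!
The inequality of Scott and Ree for generating triples of `M23` acting on the 24 points (two orbits), and
lower bounds for the number of cycles of the elements of prime order of `M23`.
-/

namespace Cfsg.Agent.Lib.Helper28.M23Neg

open Cfsg Cfsg.Agent.Lib.Helper3.Golay Cfsg.Agent.Lib.Helper3.OutAut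
open Cfsg.Agent.Lib.Helper28.M23Gen Cfsg.Agent.Lib.Helper28.ScottRee Module

/-- `M23` is transitive on the 23 points other than `none`. -/
theorem exists_map_zero (ω : GolayPt) (hω : ω ≠ none) :
    ∃ g ∈ Cfsg.Spor.M23, g (some 0) = ω := by
  have h := M23GenCertA.cert_2_5_11
  unfold certOK at h
  simp only [Bool.and_eq_true] at h
  obtain ⟨⟨⟨⟨⟨⟨⟨⟨⟨⟨h1, h2⟩, h3⟩, h4⟩, -⟩, -⟩, -⟩, -⟩, -⟩, -⟩, h11⟩ := h
  obtain ⟨x, hxM, hxT⟩ := tblOK_sound h1
  obtain ⟨y, hyM, hyT⟩ := tblOK_sound h2
  have hx : x ∈ Cfsg.Spor.M23 := mem_M23.mpr ⟨hxM.1, fixes_none hxT (Nat.eq_of_beq_eq_true h3)⟩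
  have hy : y ∈ Cfsg.Spor.M23 := mem_M23.mpr ⟨hyM.1, fixes_none hyT (Nat.eq_of_beq_eq_true h4)⟩
  unfold genOK at h11
  have h12 := (allBelow_iff _ _).mp h11 1 (by norm_num)
  rw [show Nat.blt 1 1 = false from rfl, Bool.false_or] at h12
  have hmem : ω ∈ bitSet (Dmask 1) := by
    revert ω
    decide
  obtain ⟨σ, hσ, -, hmap⟩ := transOK_sound (sound_pair hxT hyT M23GenCertA.prog_2_5_11) baseL_lt h12 hmem
  exact ⟨σ, closure_pair_le hx hy hσ, hmap⟩

/-- every point can be reached from `none` or `some 0` with a generating pair of `M23`. -/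
theorem reach (x y : ↥Cfsg.Spor.M23) (hgen : Subgroup.closure {x, y} = ⊤) (P : GolayPt → Prop)
    (hS : ∀ s ∈ ({none, some 0} : Finset GolayPt), P s)
    (hx : ∀ ω, P ((x : Equiv.Perm GolayPt) ω) ↔ P ω)
    (hy : ∀ ω, P ((y : Equiv.Perm GolayPt) ω) ↔ P ω) : ∀ ω, P ω := by
  have key : ∀ g : ↥Cfsg.Spor.M23, ∀ ω, P ((g : Equiv.Perm GolayPt) ω) ↔ P ω := by
    intro g
    have hg : g ∈ Subgroup.closure {x, y} := by rw [hgen]; exact Subgroup.mem_top g
    induction hg using Subgroup.closure_induction with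
    | mem g hg =>
      simp only [Set.mem_insert_iff, Set.mem_singleton_iff] at hg
      rcases hg with rfl | rfl
      · exact hx
      · exact hy
    | one => intro ω; rfl
    | mul a b _ _ ha hb =>
      intro ω
      rw [Subgroup.coe_mul, Equiv.Perm.mul_apply, ha, hb]
    | inv a _ ha =>
      intro ω
      have := ha ((a : Equiv.Perm GolayPt)⁻¹ ω)
      rw [show (a : Equiv.Perm GolayPt) ((a : Equiv.Perm GolayPt)⁻¹ ω) = ω from
        (a : Equiv.Perm GolayPt).apply_symm_apply ω] at this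
      rw [Subgroup.coe_inv]
      exact this.symm
  intro ω
  by_cases hω : ω = none
  · subst hω
    exact hS _ (by simp)
  · obtain ⟨g, hg, rfl⟩ := exists_map_zero ω hω
    rw [key ⟨g, hg⟩]
    exact hS _ (by simp)

/-- the inequality of Scott and Ree for `M23`. -/
theorem scott_M23 (x y z : ↥Cfsg.Spor.M23) (hxyz : x * y * z = 1)
    (hgen : Subgroup.closure {x, y} = ⊤) :
    finrank ℚ ↥(invSp (x : Equiv.Perm GolayPt)) + finrank ℚ ↥(invSp (y : Equiv.Perm GolayPt)) +
      finrank ℚ ↥(invSp (z : Equiv.Perm GolayPt)) ≤ 28 := by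
  have h := scott_ree (x : Equiv.Perm GolayPt) (y : Equiv.Perm GolayPt) ({none, some 0} : Finset GolayPt)
    (fun P hS hx hy => reach x y hgen P hS hx hy)
  have hz : (z : Equiv.Perm GolayPt) = ((x : Equiv.Perm GolayPt) * (y : Equiv.Perm GolayPt))⁻¹ := by
    have : z = (x * y)⁻¹ := eq_inv_of_mul_eq_one_right hxyz
    rw [this]
    rfl
  rw [hz, invSp_inv]
  have hc : Fintype.card GolayPt = 24 := by decide
  have hs : ({none, some 0} : Finset GolayPt).card = 2 := by decide
  rw [hc, hs] at h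
  exact h

/-- every element of `M23` has a fixed point. -/
theorem one_le_nFix {g : Equiv.Perm GolayPt} (hg : g ∈ Cfsg.Spor.M23) : 1 ≤ nFix g := by
  unfold nFix
  rw [Nat.one_le_iff_ne_zero, Ne, Finset.card_eq_zero, ← Ne, ← Finset.nonempty_iff_ne_empty]
  exact ⟨none, Finset.mem_filter.mpr ⟨Finset.mem_univ _, (mem_M23.mp hg).2⟩⟩

theorem nFix_two {g : Equiv.Perm GolayPt} (hg : g ∈ Cfsg.Spor.M23) (h2 : orderOf g = 2) :
    nFix g = 8 := by
  have h1 : g ≠ 1 := by
    intro h
    rw [h, orderOf_one] at h2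
    omega
  have hpow : g ^ 2 = 1 := by rw [← h2]; exact pow_orderOf_eq_one g
  have h0 := one_le_nFix hg
  rcases Cfsg.Agent.Lib.Helper28.M24OctadFix.card_fixed_invol (mem_M23.mp hg).1 hpow h1 with h | h
  · exact h
  · unfold nFix at h0
    omega

theorem nFix_three {g : Equiv.Perm GolayPt} (hg : g ∈ Cfsg.Spor.M23) (h3 : orderOf g = 3) :
    nFix g = 6 := by
  have h1 : g ≠ 1 := by
    intro h
    rw [h, orderOf_one] at h3
    omega
  have hpow : g ^ 3 = 1 := by rw [← h3]; exact pow_orderOf_eq_one g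
  have h0 := one_le_nFix hg
  rcases Cfsg.Agent.Lib.Helper28.M24OctadFix.card_fixed_order3 (mem_M23.mp hg).1 hpow h1 with h | h
  · exact h
  · unfold nFix at h0
    omega

/-- the lower bound for the number of cycles of an element of prime order `p` of `M23`. -/
def cyc (p : ℕ) : ℕ := if p = 2 then 16 else if p = 3 then 12 else if p = 5 then 8 else
  if p = 7 then 6 else 1

theorem cyc_le {g : Equiv.Perm GolayPt} (hg : g ∈ Cfsg.Spor.M23) {p : ℕ} (hp : p.Prime)
    (hgp : orderOf g = p) : cyc p ≤ finrank ℚ ↥(invSp g) := by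
  have hc : Fintype.card GolayPt = 24 := by decide
  have h1 := card_add_le_finrank_mul g p hgp
  have h2 := card_modEq_nFix g p hp hgp
  have h0 := one_le_nFix hg
  rw [hc] at h1 h2
  unfold cyc
  split_ifs with e2 e3 e5 e7
  · subst e2
    rw [nFix_two hg hgp] at h1
    omega
  · subst e3
    rw [nFix_three hg hgp] at h1
    omega
  · subst e5
    have : nFix g % 5 = 4 := by
      have := h2
      unfold Nat.ModEq at this
      omega
    have : 4 ≤ nFix g := by omega
    have : 24 + 4 * 4 ≤ finrank ℚ ↥(invSp g) * 5 := by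
      refine le_trans ?_ h1
      have : 4 * 4 ≤ (5 - 1) * nFix g := by omega
      omega
    omega
  · subst e7
    have : nFix g % 7 = 3 := by
      have := h2
      unfold Nat.ModEq at this
      omega
    have : 3 ≤ nFix g := by omega
    have : 24 + 6 * 3 ≤ finrank ℚ ↥(invSp g) * 7 := by
      refine le_trans ?_ h1
      have : 6 * 3 ≤ (7 - 1) * nFix g := by omega
      omega
    omega
  · have hp0 : 0 < p := hp.pos
    by_contra hlt
    have : finrank ℚ ↥(invSp g) = 0 := by omega
    rw [this] at h1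
    omega

/-- the numerical consequence for generating triples of `M23`. -/
theorem cyc_sum_le (x y z : ↥Cfsg.Spor.M23) {p q r : ℕ} (hp : p.Prime) (hq : q.Prime) (hr : r.Prime)
    (hx : orderOf x = p) (hy : orderOf y = q) (hz : orderOf z = r) (hxyz : x * y * z = 1)
    (hgen : Subgroup.closure {x, y} = ⊤) : cyc p + cyc q + cyc r ≤ 28 := by
  have h := scott_M23 x y z hxyz hgen
  have h1 := cyc_le x.2 hp (by rw [← hx, Subgroup.orderOf_coe])
  have h2 := cyc_le y.2 hq (by rw [← hy, Subgroup.orderOf_coe])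
  have h3 := cyc_le z.2 hr (by rw [← hz, Subgroup.orderOf_coe])
  omega

end Cfsg.Agent.Lib.Helper28.M23Neg
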