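import Mathlib
import Cfsg.Prelude.Def_SporadicCombinatorics
import Cfsg.Agent.Lib.Helper28.M24FactsProof
set_option autoImplicit false

/-! `M24` is transitive on the `k`-subsets of the 24 points for `k ≤ 5`. -/

namespace Cfsg.Agent.Lib.Helper28.GolayCode
open Cfsg
open scoped Pointwise

theorem sets_trans (k : ℕ) (hk : k ≤ 5) (s t : Finset GolayPt) (hs : s.card = k) (ht : t.card = k) :
    ∃ σ ∈ M24, σ • s = t := by
  classical
  let e := s.equivFinOfCardEq hs
  let e' := t.equivFinOfCardEq ht
  obtain ⟨g, hg, h⟩ := Cfsg.Agent.Lib.Helper3.Golay.exists_map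
    (fun i => if h : i < k then (e.symm ⟨i, h⟩ : GolayPt) else none)
    (fun i => if h : i < k then (e'.symm ⟨i, h⟩ : GolayPt) else none) k hk
    (by
      intro i hi j hj h
      simp only [hi, hj, dif_pos] at h
      simpa using e.symm.injective (Subtype.ext h))
    (by
      intro i hi j hj h
      simp only [hi, hj, dif_pos] at h
      simpa using e'.symm.injective (Subtype.ext h))
  refine ⟨g, hg, ?_⟩
  apply Finset.eq_of_subset_of_card_le
  · intro q hq
    rw [Finset.mem_smul_finset] at hq
    obtain ⟨p, hp, rfl⟩ := hq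
    have hi := (e ⟨p, hp⟩).2
    have := h (e ⟨p, hp⟩).1 hi
    simp only [hi, dif_pos, Fin.eta, Equiv.symm_apply_apply] at this
    rw [Equiv.Perm.smul_def, this]
    exact (e'.symm (e ⟨p, hp⟩)).2
  · rw [Finset.card_smul_finset, hs, ht]

end Cfsg.Agent.Lib.Helper28.GolayCode
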