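import Mathlib
import Cfsg.Agent.Lib.Helper28.StabLib
set_option autoImplicit false

/-! Transport of orbit decompositions of a stabiliser along the ambient group. -/

namespace Cfsg.Agent.Lib.Helper28.StabLib
open scoped Pointwise

section
variable {G : Type*} [Group G] {Y X : Type*} [MulAction G Y] [MulAction G X]

theorem orbit_stabilizer_smul (B : Y) (g : G) (x : X) :
    MulAction.orbit ↥(MulAction.stabilizer G (g • B)) (g • x) =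
      (fun y => g • y) '' MulAction.orbit ↥(MulAction.stabilizer G B) x := by
  ext y
  rw [mem_orbit_subgroup_iff]
  constructor
  · rintro ⟨h, hh, rfl⟩
    refine ⟨(g⁻¹ * h * g) • x, ?_, ?_⟩
    · rw [mem_orbit_subgroup_iff]
      refine ⟨g⁻¹ * h * g, ?_, rfl⟩
      rw [MulAction.mem_stabilizer_iff] at hh ⊢
      rw [mul_smul, mul_smul, hh, inv_smul_smul]
    · simp [mul_smul]
  · rintro ⟨z, hz, rfl⟩
    rw [mem_orbit_subgroup_iff] at hz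
    obtain ⟨h, hh, rfl⟩ := hz
    refine ⟨g * h * g⁻¹, ?_, ?_⟩
    · rw [MulAction.mem_stabilizer_iff] at hh ⊢
      rw [mul_smul, mul_smul, inv_smul_smul, hh]
    · simp [mul_smul]

theorem ncard_orbit_stabilizer_smul (B : Y) (g : G) (x : X) :
    (MulAction.orbit ↥(MulAction.stabilizer G (g • B)) (g • x)).ncard =
      (MulAction.orbit ↥(MulAction.stabilizer G B) x).ncard := by
  rw [orbit_stabilizer_smul, Set.ncard_image_of_injective _ (MulAction.injective g)]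

theorem image_smul_eq_self (𝒳 : Set X) (h𝒳 : ∀ g : G, ∀ x ∈ 𝒳, g • x ∈ 𝒳) (g : G) :
    (fun y => g • y) '' 𝒳 = 𝒳 := by
  ext y
  constructor
  · rintro ⟨x, hx, rfl⟩
    exact h𝒳 g x hx
  · intro hy
    exact ⟨g⁻¹ • y, h𝒳 g⁻¹ y hy, smul_inv_smul g y⟩

/-- transport of a decomposition into three orbits. -/
theorem transport3 (𝒳 : Set X) (h𝒳 : ∀ g : G, ∀ x ∈ 𝒳, g • x ∈ 𝒳) (B : Y) (g : G) (n₁ n₂ n₃ : ℕ)
    (h : ∃ X₁ ∈ 𝒳, ∃ X₂ ∈ 𝒳, ∃ X₃ ∈ 𝒳,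
      (MulAction.orbit ↥(MulAction.stabilizer G B) X₁).ncard = n₁ ∧
      (MulAction.orbit ↥(MulAction.stabilizer G B) X₂).ncard = n₂ ∧
      (MulAction.orbit ↥(MulAction.stabilizer G B) X₃).ncard = n₃ ∧
      𝒳 = MulAction.orbit ↥(MulAction.stabilizer G B) X₁ ∪ MulAction.orbit ↥(MulAction.stabilizer G B) X₂ ∪
        MulAction.orbit ↥(MulAction.stabilizer G B) X₃) :
    ∃ X₁ ∈ 𝒳, ∃ X₂ ∈ 𝒳, ∃ X₃ ∈ 𝒳,
      (MulAction.orbit ↥(MulAction.stabilizer G (g • B)) X₁).ncard = n₁ ∧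
      (MulAction.orbit ↥(MulAction.stabilizer G (g • B)) X₂).ncard = n₂ ∧
      (MulAction.orbit ↥(MulAction.stabilizer G (g • B)) X₃).ncard = n₃ ∧
      𝒳 = MulAction.orbit ↥(MulAction.stabilizer G (g • B)) X₁ ∪
        MulAction.orbit ↥(MulAction.stabilizer G (g • B)) X₂ ∪
        MulAction.orbit ↥(MulAction.stabilizer G (g • B)) X₃ := by
  obtain ⟨X₁, h₁, X₂, h₂, X₃, h₃, c₁, c₂, c₃, hU⟩ := h
  refine ⟨g • X₁, h𝒳 g _ h₁, g • X₂, h𝒳 g _ h₂, g • X₃, h𝒳 g _ h₃, ?_, ?_, ?_, ?_⟩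
  · rw [ncard_orbit_stabilizer_smul, c₁]
  · rw [ncard_orbit_stabilizer_smul, c₂]
  · rw [ncard_orbit_stabilizer_smul, c₃]
  · rw [orbit_stabilizer_smul, orbit_stabilizer_smul, orbit_stabilizer_smul, ← Set.image_union,
      ← Set.image_union, ← hU, image_smul_eq_self 𝒳 h𝒳 g]

/-- transport of a decomposition into four orbits. -/
theorem transport4 (𝒳 : Set X) (h𝒳 : ∀ g : G, ∀ x ∈ 𝒳, g • x ∈ 𝒳) (B : Y) (g : G) (n₁ n₂ n₃ n₄ : ℕ)
    (h : ∃ X₁ ∈ 𝒳, ∃ X₂ ∈ 𝒳, ∃ X₃ ∈ 𝒳, ∃ X₄ ∈ 𝒳,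
      (MulAction.orbit ↥(MulAction.stabilizer G B) X₁).ncard = n₁ ∧
      (MulAction.orbit ↥(MulAction.stabilizer G B) X₂).ncard = n₂ ∧
      (MulAction.orbit ↥(MulAction.stabilizer G B) X₃).ncard = n₃ ∧
      (MulAction.orbit ↥(MulAction.stabilizer G B) X₄).ncard = n₄ ∧
      𝒳 = MulAction.orbit ↥(MulAction.stabilizer G B) X₁ ∪ MulAction.orbit ↥(MulAction.stabilizer G B) X₂ ∪
        MulAction.orbit ↥(MulAction.stabilizer G B) X₃ ∪ MulAction.orbit ↥(MulAction.stabilizer G B) X₄) :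
    ∃ X₁ ∈ 𝒳, ∃ X₂ ∈ 𝒳, ∃ X₃ ∈ 𝒳, ∃ X₄ ∈ 𝒳,
      (MulAction.orbit ↥(MulAction.stabilizer G (g • B)) X₁).ncard = n₁ ∧
      (MulAction.orbit ↥(MulAction.stabilizer G (g • B)) X₂).ncard = n₂ ∧
      (MulAction.orbit ↥(MulAction.stabilizer G (g • B)) X₃).ncard = n₃ ∧
      (MulAction.orbit ↥(MulAction.stabilizer G (g • B)) X₄).ncard = n₄ ∧
      𝒳 = MulAction.orbit ↥(MulAction.stabilizer G (g • B)) X₁ ∪
        MulAction.orbit ↥(MulAction.stabilizer G (g • B)) X₂ ∪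
        MulAction.orbit ↥(MulAction.stabilizer G (g • B)) X₃ ∪
        MulAction.orbit ↥(MulAction.stabilizer G (g • B)) X₄ := by
  obtain ⟨X₁, h₁, X₂, h₂, X₃, h₃, X₄, h₄, c₁, c₂, c₃, c₄, hU⟩ := h
  refine ⟨g • X₁, h𝒳 g _ h₁, g • X₂, h𝒳 g _ h₂, g • X₃, h𝒳 g _ h₃, g • X₄, h𝒳 g _ h₄, ?_, ?_, ?_, ?_, ?_⟩
  · rw [ncard_orbit_stabilizer_smul, c₁]
  · rw [ncard_orbit_stabilizer_smul, c₂]
  · rw [ncard_orbit_stabilizer_smul, c₃]
  · rw [ncard_orbit_stabilizer_smul, c₄]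
  · rw [orbit_stabilizer_smul, orbit_stabilizer_smul, orbit_stabilizer_smul, orbit_stabilizer_smul,
      ← Set.image_union, ← Set.image_union, ← Set.image_union, ← hU, image_smul_eq_self 𝒳 h𝒳 g]

end

end Cfsg.Agent.Lib.Helper28.StabLib
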