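import Cfsg.Agent.Lib.Helper28.M24Fam
import Cfsg.Agent.Lib.Helper3.Golay.Maximal
import Cfsg.Agent.Lib.Helper28.OrbitTransport
set_option autoImplicit false
open scoped Pointwise
open Cfsg

/-! # Maximality of the stabiliser of an enumerated family, from invariant classes -/

namespace Cfsg.Agent.Lib.Helper28.M24Fam
open Cfsg.Agent.Lib.Helper28.GolayCode

theorem exists_of_orbit_eq {H : Subgroup ↥M24} {rep : List ℕ} {cls : List (List ℕ)}
    (h : MulAction.orbit H (fam rep) = fam '' {l | l ∈ cls}) (l l' : List ℕ) (hl : l ∈ cls)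
    (hl' : l' ∈ cls) : ∃ g ∈ H, g • fam l = fam l' := by
  have h1 : fam l ∈ MulAction.orbit H (fam rep) := by rw [h]; exact ⟨l, hl, rfl⟩
  have h2 : fam l' ∈ MulAction.orbit H (fam rep) := by rw [h]; exact ⟨l', hl', rfl⟩
  obtain ⟨g1, hg1⟩ := h1
  obtain ⟨g2, hg2⟩ := h2
  refine ⟨(g2 : ↥M24) * (g1 : ↥M24)⁻¹, H.mul_mem g2.2 (H.inv_mem g1.2), ?_⟩
  rw [mul_smul, ← hg1]
  have e : ((g1 : ↥M24)⁻¹ • (g1 • fam rep)) = fam rep := inv_smul_smul (g1 : ↥M24) (fam rep)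
  rw [e]
  exact hg2

theorem isCoatom_stab_fam {φ : Finset GolayPt → ℕ} {φm : ℕ → ℕ} (hφb : ∀ m, φ (bset m) = φm m)
    {𝒳 : Set (Finset (Finset GolayPt))} {D : List (List ℕ)} (hD : FamData 𝒳 D)
    (lb : List ℕ) (hlb : lb ∈ D)
    (htrans : ∀ S ∈ 𝒳, ∃ g : ↥M24, g • fam lb = S)
    (vs : List ℕ) (code : ℕ → ℕ) (r : ℕ) (ns : List ℕ)
    (hcover : (D.all fun l => vs.any fun v => Nat.beq (invL φm lb l) v) = true)
    (hcode_inj : ∀ v ∈ vs, ∀ v' ∈ vs, code v = code v' → v = v')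
    (hcode_le : ∀ v ∈ vs, code v ≤ r)
    (hself : (D.all fun l => (Nat.beq (code (invL φm lb l)) 0) == (decide (l = lb))) = true)
    (hn : ((List.range (r + 1)).all fun i =>
      Nat.beq (D.filter fun l => Nat.beq (code (invL φm lb l)) i).length (ns.getD i 0)) = true)
    (horb : ∀ v ∈ vs, ∀ l ∈ clsF φm lb D v, ∀ l' ∈ clsF φm lb D v,
        ∃ h ∈ MulAction.stabilizer ↥M24 (fam lb), h • fam l = fam l')
    (harith : ∀ I ⊆ Finset.range (r + 1), 0 ∈ I → (∀ i ∈ I, ns.getD i 0 ≠ 0) →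
        (∑ i ∈ I, ns.getD i 0) ∣ D.length → I = {0} ∨ ∀ i ≤ r, ns.getD i 0 ≠ 0 → i ∈ I)
    (h2 : 2 ≤ D.length) :
    IsCoatom (MulAction.stabilizer ↥M24 (fam lb)) := by
  classical
  have hlbn : (lb.map bset).Nodup := hD.entry_nodup lb hlb
  have hinvl : ∀ l ∈ D, inv φ (fam lb) (fam l) = invL φm lb l := fun l hl =>
    inv_fam φ φm hφb lb l hlbn (hD.entry_nodup l hl)
  have hmemΩ : ∀ y, y ∈ (D.map fam).toFinset ↔ ∃ l ∈ D, fam l = y := by
    intro y
    rw [List.mem_toFinset, List.mem_map]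
  have hnodup : (D.map fam).Nodup := List.Nodup.map_on hD.inj hD.nodup
  have hcardΩ : (D.map fam).toFinset.card = D.length := by
    rw [List.toFinset_card_of_nodup hnodup, List.length_map]
  have hcov : ∀ l ∈ D, invL φm lb l ∈ vs := by
    intro l hl
    have := List.all_eq_true.mp hcover l hl
    rw [List.any_eq_true] at this
    obtain ⟨v, hv, hb⟩ := this
    rw [nat_beq_iff] at hb
    rw [hb]
    exact hv
  have hself' : ∀ l ∈ D, code (invL φm lb l) = 0 ↔ l = lb := by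
    intro l hl
    have := List.all_eq_true.mp hself l hl
    rw [beq_iff_eq] at this
    constructor
    · intro h
      have hb : Nat.beq (code (invL φm lb l)) 0 = true := (nat_beq_iff _ _).mpr h
      rw [hb] at this
      exact of_decide_eq_true this.symm
    · intro h
      have hb : decide (l = lb) = true := decide_eq_true h
      rw [hb] at this
      exact (nat_beq_iff _ _).mp this
  apply Cfsg.Agent.Lib.Helper3.Golay.isCoatom_stabilizer_of_suborbits (G := ↥M24) (fam lb)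
    (D.map fam).toFinset _ (fun y => code (inv φ (fam lb) y)) r (fun i => ns.getD i 0)
  · -- class zero
    intro y hy
    obtain ⟨l, hl, rfl⟩ := (hmemΩ y).mp hy
    show code (inv φ (fam lb) (fam l)) = 0 ↔ _
    rw [hinvl l hl, hself' l hl]
    constructor
    · intro h; rw [h]
    · intro h; exact hD.inj l hl lb hlb h
  · intro y hy
    obtain ⟨l, hl, rfl⟩ := (hmemΩ y).mp hy
    show code (inv φ (fam lb) (fam l)) ≤ r
    rw [hinvl l hl]
    exact hcode_le _ (hcov l hl)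
  · intro i hi
    have hni := List.all_eq_true.mp hn i (List.mem_range.mpr (by omega))
    rw [nat_beq_iff] at hni
    rw [← hni]
    have : (D.map fam).toFinset.filter (fun y => code (inv φ (fam lb) y) = i) =
        ((D.filter fun l => Nat.beq (code (invL φm lb l)) i).map fam).toFinset := by
      ext y
      rw [Finset.mem_filter, hmemΩ, List.mem_toFinset, List.mem_map]
      constructor
      · rintro ⟨⟨l, hl, rfl⟩, hc⟩
        rw [hinvl l hl] at hc
        exact ⟨l, List.mem_filter.mpr ⟨hl, (nat_beq_iff _ _).mpr hc⟩, rfl⟩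
      · rintro ⟨l, hl, rfl⟩
        rw [List.mem_filter, nat_beq_iff] at hl
        exact ⟨⟨l, hl.1, rfl⟩, by rw [hinvl l hl.1]; exact hl.2⟩
    rw [this, List.toFinset_card_of_nodup, List.length_map]
    apply List.Nodup.map_on _ (hD.nodup.filter _)
    intro a ha b hb h
    exact hD.inj a (List.mem_filter.mp ha).1 b (List.mem_filter.mp hb).1 h
  · intro y hy y' hy' hc
    obtain ⟨l, hl, rfl⟩ := (hmemΩ y).mp hy
    obtain ⟨l', hl', rfl⟩ := (hmemΩ y').mp hy'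
    simp only [hinvl l hl, hinvl l' hl'] at hc
    have hv := hcode_inj _ (hcov l hl) _ (hcov l' hl') hc
    exact horb _ (hcov l hl) l (List.mem_filter.mpr ⟨hl, (nat_beq_iff _ _).mpr rfl⟩) l'
      (List.mem_filter.mpr ⟨hl', (nat_beq_iff _ _).mpr hv.symm⟩)
  · rw [hcardΩ]
    exact harith
  · rw [hcardΩ]
    exact h2
  · intro y
    rw [hmemΩ]
    constructor
    · rintro ⟨l, hl, rfl⟩
      obtain ⟨g, hg⟩ := htrans _ (hD.sound l hl)
      exact ⟨g, hg⟩
    · rintro ⟨g, rfl⟩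
      have : (g : Equiv.Perm GolayPt) • fam lb ∈ 𝒳 := hD.closed _ g.2 _ (hD.sound lb hlb)
      obtain ⟨l, hl, h⟩ := hD.complete _ this
      exact ⟨l, hl, h.symm⟩

end Cfsg.Agent.Lib.Helper28.M24Fam

namespace Cfsg.Agent.Lib.Helper28.StabLib
open scoped Pointwise

section
variable {G : Type*} [Group G] {X : Type*} [MulAction G X]

theorem isCoatom_stabilizer_smul (B : X) (g : G) (h : IsCoatom (MulAction.stabilizer G B)) :
    IsCoatom (MulAction.stabilizer G (g • B)) := by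
  rw [MulAction.stabilizer_smul_eq_stabilizer_map_conj]
  exact ((MulAut.conj g).mapSubgroup.isCoatom_iff _).mpr h

theorem image_singleton_smul (B : X) (g : G) : (fun y => g • y) '' ({B} : Set X) = {g • B} :=
  Set.image_singleton

/-- transport of a decomposition into the base point and three orbits, with maximality. -/
theorem transport3c (𝒳 : Set X) (h𝒳 : ∀ g : G, ∀ x ∈ 𝒳, g • x ∈ 𝒳) (B : X) (g : G) (n₁ n₂ n₃ : ℕ)
    (h : ∃ X₁ ∈ 𝒳, ∃ X₂ ∈ 𝒳, ∃ X₃ ∈ 𝒳,
      (MulAction.orbit ↥(MulAction.stabilizer G B) X₁).ncard = n₁ ∧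
      (MulAction.orbit ↥(MulAction.stabilizer G B) X₂).ncard = n₂ ∧
      (MulAction.orbit ↥(MulAction.stabilizer G B) X₃).ncard = n₃ ∧
      𝒳 = {B} ∪ MulAction.orbit ↥(MulAction.stabilizer G B) X₁ ∪
        MulAction.orbit ↥(MulAction.stabilizer G B) X₂ ∪
        MulAction.orbit ↥(MulAction.stabilizer G B) X₃ ∧
      IsCoatom (MulAction.stabilizer G B)) :
    ∃ X₁ ∈ 𝒳, ∃ X₂ ∈ 𝒳, ∃ X₃ ∈ 𝒳,
      (MulAction.orbit ↥(MulAction.stabilizer G (g • B)) X₁).ncard = n₁ ∧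
      (MulAction.orbit ↥(MulAction.stabilizer G (g • B)) X₂).ncard = n₂ ∧
      (MulAction.orbit ↥(MulAction.stabilizer G (g • B)) X₃).ncard = n₃ ∧
      𝒳 = {g • B} ∪ MulAction.orbit ↥(MulAction.stabilizer G (g • B)) X₁ ∪
        MulAction.orbit ↥(MulAction.stabilizer G (g • B)) X₂ ∪
        MulAction.orbit ↥(MulAction.stabilizer G (g • B)) X₃ ∧
      IsCoatom (MulAction.stabilizer G (g • B)) := by
  obtain ⟨X₁, h₁, X₂, h₂, X₃, h₃, c₁, c₂, c₃, hU, hco⟩ := h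
  refine ⟨g • X₁, h𝒳 g _ h₁, g • X₂, h𝒳 g _ h₂, g • X₃, h𝒳 g _ h₃, ?_, ?_, ?_, ?_,
    isCoatom_stabilizer_smul B g hco⟩
  · rw [ncard_orbit_stabilizer_smul, c₁]
  · rw [ncard_orbit_stabilizer_smul, c₂]
  · rw [ncard_orbit_stabilizer_smul, c₃]
  · rw [orbit_stabilizer_smul, orbit_stabilizer_smul, orbit_stabilizer_smul,
      ← image_singleton_smul B g, ← Set.image_union, ← Set.image_union, ← Set.image_union, ← hU,
      image_smul_eq_self 𝒳 h𝒳 g]

/-- transport of a decomposition into the base point and four orbits, with maximality. -/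
theorem transport4c (𝒳 : Set X) (h𝒳 : ∀ g : G, ∀ x ∈ 𝒳, g • x ∈ 𝒳) (B : X) (g : G)
    (n₁ n₂ n₃ n₄ : ℕ)
    (h : ∃ X₁ ∈ 𝒳, ∃ X₂ ∈ 𝒳, ∃ X₃ ∈ 𝒳, ∃ X₄ ∈ 𝒳,
      (MulAction.orbit ↥(MulAction.stabilizer G B) X₁).ncard = n₁ ∧
      (MulAction.orbit ↥(MulAction.stabilizer G B) X₂).ncard = n₂ ∧
      (MulAction.orbit ↥(MulAction.stabilizer G B) X₃).ncard = n₃ ∧
      (MulAction.orbit ↥(MulAction.stabilizer G B) X₄).ncard = n₄ ∧
      𝒳 = {B} ∪ MulAction.orbit ↥(MulAction.stabilizer G B) X₁ ∪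
        MulAction.orbit ↥(MulAction.stabilizer G B) X₂ ∪
        MulAction.orbit ↥(MulAction.stabilizer G B) X₃ ∪
        MulAction.orbit ↥(MulAction.stabilizer G B) X₄ ∧
      IsCoatom (MulAction.stabilizer G B)) :
    ∃ X₁ ∈ 𝒳, ∃ X₂ ∈ 𝒳, ∃ X₃ ∈ 𝒳, ∃ X₄ ∈ 𝒳,
      (MulAction.orbit ↥(MulAction.stabilizer G (g • B)) X₁).ncard = n₁ ∧
      (MulAction.orbit ↥(MulAction.stabilizer G (g • B)) X₂).ncard = n₂ ∧
      (MulAction.orbit ↥(MulAction.stabilizer G (g • B)) X₃).ncard = n₃ ∧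
      (MulAction.orbit ↥(MulAction.stabilizer G (g • B)) X₄).ncard = n₄ ∧
      𝒳 = {g • B} ∪ MulAction.orbit ↥(MulAction.stabilizer G (g • B)) X₁ ∪
        MulAction.orbit ↥(MulAction.stabilizer G (g • B)) X₂ ∪
        MulAction.orbit ↥(MulAction.stabilizer G (g • B)) X₃ ∪
        MulAction.orbit ↥(MulAction.stabilizer G (g • B)) X₄ ∧
      IsCoatom (MulAction.stabilizer G (g • B)) := by
  obtain ⟨X₁, h₁, X₂, h₂, X₃, h₃, X₄, h₄, c₁, c₂, c₃, c₄, hU, hco⟩ := h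
  refine ⟨g • X₁, h𝒳 g _ h₁, g • X₂, h𝒳 g _ h₂, g • X₃, h𝒳 g _ h₃, g • X₄, h𝒳 g _ h₄,
    ?_, ?_, ?_, ?_, ?_, isCoatom_stabilizer_smul B g hco⟩
  · rw [ncard_orbit_stabilizer_smul, c₁]
  · rw [ncard_orbit_stabilizer_smul, c₂]
  · rw [ncard_orbit_stabilizer_smul, c₃]
  · rw [ncard_orbit_stabilizer_smul, c₄]
  · rw [orbit_stabilizer_smul, orbit_stabilizer_smul, orbit_stabilizer_smul, orbit_stabilizer_smul,
      ← image_singleton_smul B g, ← Set.image_union, ← Set.image_union, ← Set.image_union,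
      ← Set.image_union, ← hU, image_smul_eq_self 𝒳 h𝒳 g]

end

end Cfsg.Agent.Lib.Helper28.StabLib
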