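import Cfsg.Agent.Lib.Helper28.OctData
set_option autoImplicit false

/-!
Kernel-checked facts about the 253 blocks of the standard S(4, 7, 23) and the 506 octads.
-/

open Cfsg

namespace Cfsg.Agent.Lib.Helper28.S5824
open Cfsg.Agent.Lib.Helper28.GolayCode Cfsg.Agent.Lib.Helper28.FinMask
open Cfsg.Agent.Lib.Helper28.Comb Cfsg.Agent.Lib.Helper28.SteinerDerived
open Cfsg.Agent.Lib.Helper28.S4723

theorem F0masks_eq : F0masks = E0masks.map (· + 2 ^ 22) ++
    (heptAll.filter (fun p => Nat.beq p.2 0)).map Prod.fst := by decide +kernel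

theorem mem_F0_iff {s : Finset (Fin 23)} : s ∈ F 0 ↔ ∃ m ∈ F0masks, s = fset 23 m := by
  rw [F0masks_eq]
  constructor
  · rintro (⟨m, hm, rfl⟩ | ⟨p, hp, hp0, rfl⟩)
    · exact ⟨m + 2 ^ 22, List.mem_append_left _ (List.mem_map.mpr ⟨m, hm, rfl⟩), rfl⟩
    · refine ⟨p.1, List.mem_append_right _ (List.mem_map.mpr ⟨p, ?_, rfl⟩), rfl⟩
      rw [List.mem_filter]
      exact ⟨hp, by rw [hp0]; rfl⟩
  · rintro ⟨m, hm, rfl⟩
    rcases List.mem_append.mp hm with h | h
    · obtain ⟨m', hm', rfl⟩ := List.mem_map.mp h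
      exact Or.inl ⟨m', hm', rfl⟩
    · obtain ⟨p, hp, rfl⟩ := List.mem_map.mp h
      rw [List.mem_filter] at hp
      exact Or.inr ⟨p, hp.1, Nat.eq_of_beq_eq_true hp.2, rfl⟩

theorem F0masks_lt : ∀ m ∈ F0masks, m < 2 ^ 23 := by decide +kernel

theorem F0_inter : ∀ m ∈ F0masks, ∀ m' ∈ F0masks, m ≠ m' →
    (popcN 23 (m &&& m') = 1 ∨ popcN 23 (m &&& m') = 3) := by decide +kernel

theorem byLow_spec : ∀ n : Fin 23, ∀ b ∈ byLow.getD n.val [], b ∈ F0masks ∧ 2 ^ n.val ∣ b := by
  decide +kernel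

theorem byLow_length : byLow.length = 23 := by decide +kernel

theorem oct_lt : ∀ m ∈ octAll, m < 2 ^ 23 := by decide +kernel

theorem oct_card : ∀ m ∈ octAll, popcN 23 m = 8 := by decide +kernel

theorem oct_inter_F0 : ∀ m ∈ octAll, ∀ b ∈ F0masks, popcN 23 (m &&& b) ≤ 4 := by
  decide +kernel

theorem oct_close : ∀ m ∈ octAll, ∀ m' ∈ octAll, 5 ≤ popcN 23 (m &&& m') → m = m' := by
  decide +kernel

/-- admissible intersection sizes 0, 2, 4 -/
noncomputable def okInter (x : ℕ) : Bool :=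
  Nat.beq (popcN 23 x) 0 || Nat.beq (popcN 23 x) 2 || Nat.beq (popcN 23 x) 4

/-- test of a candidate: if it meets all blocks admissibly it is a listed octad -/
noncomputable def octTest (m : ℕ) : Bool :=
  !(F0masks.all fun b => okInter (Nat.land m b)) || octAll.contains m

/-- pruning on the blocks all of whose points are already decided -/
noncomputable def octPrune (n acc : ℕ) : Bool :=
  (byLow.getD n []).any fun b => !okInter (Nat.land acc b)

set_option maxRecDepth 100000 in
theorem oct_complete : allCombP octPrune octTest 23 8 0 = true := by decide +kernel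

theorem octPrune_sound : ∀ n acc, 2 ^ n ∣ acc → octPrune n acc = true →
    ∀ s : Finset ℕ, (∀ i ∈ s, i < n) → octTest (acc + ∑ i ∈ s, 2 ^ i) = true := by
  intro n acc hacc hp s hs
  unfold octPrune at hp
  rw [List.any_eq_true] at hp
  obtain ⟨b, hb, hbad⟩ := hp
  by_cases hn : n < 23
  · obtain ⟨hbE, hbd⟩ := byLow_spec ⟨n, hn⟩ b hb
    unfold octTest
    rw [Bool.or_eq_true]
    left
    rw [Bool.not_eq_true', List.all_eq_false]
    refine ⟨b, hbE, ?_⟩
    rw [land_add_low hacc hbd (sum_two_pow_lt hs)]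
    simpa using hbad
  · have : byLow.getD n [] = [] := by
      rw [List.getD_eq_default]; rw [byLow_length]; omega
    rw [this] at hb
    exact absurd hb List.not_mem_nil

theorem okInter_iff (a b : ℕ) : okInter (Nat.land a b) = true ↔
    (fset 23 a ∩ fset 23 b).card = 0 ∨ (fset 23 a ∩ fset 23 b).card = 2 ∨
      (fset 23 a ∩ fset 23 b).card = 4 := by
  rw [← fset_and, card_fset]
  unfold okInter
  rw [Bool.or_eq_true, Bool.or_eq_true, nat_beq_iff, nat_beq_iff, nat_beq_iff, or_assoc]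
  rfl

/-- every 8-set meeting all blocks in 0, 2 or 4 points is a listed octad -/
theorem exists_octad {K : Finset (Fin 23)} (hK : K.card = 8)
    (h : ∀ b ∈ F0masks, (K ∩ fset 23 b).card = 0 ∨ (K ∩ fset 23 b).card = 2 ∨
      (K ∩ fset 23 b).card = 4) : ∃ m ∈ octAll, K = fset 23 m := by
  obtain ⟨m, hm, rfl⟩ := forall_of_allCombP octPrune_sound oct_complete K hK
  unfold octTest at hm
  rw [Bool.or_eq_true] at hm
  rcases hm with hm | hm
  · exfalso
    rw [Bool.not_eq_true', List.all_eq_false] at hm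
    obtain ⟨b, hb, hbad⟩ := hm
    exact hbad ((okInter_iff m b).mpr (h b hb))
  · rw [List.contains_iff_mem] at hm
    exact ⟨m, hm, rfl⟩

end Cfsg.Agent.Lib.Helper28.S5824
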