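import Mathlib
import Cfsg.Prelude.Def_Spor_Mathieu
import Cfsg.Agent.Lib.Helper28.GolayCode
import Cfsg.Agent.Lib.Helper28.M24Basic

/-!
# The Parker-loop cocycle on the even part of the Golay code (helper28)

Basic word-level definitions used for the construction of the non-split extension
`2^11 · M23` (statement S2650): the inner product `ip`, the coordinate permutation action `pa`,
the subcode `C0` of Golay code words vanishing at the extra point, the cubic cocycle `ph`.
-/

set_option autoImplicit false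

open scoped Pointwise

namespace Cfsg.Agent.Lib.Helper28.PL
open Cfsg Cfsg.Agent.Lib.Helper28.GolayCode

/-- binary words of length 24 -/
abbrev V : Type := GolayPt → ZMod 2

theorem z2_mul_self (x : ZMod 2) : x * x = x := by revert x; decide

theorem z2_add_self (x : ZMod 2) : x + x = 0 := by revert x; decide

theorem v_add_self (v : V) : v + v = 0 := by
  funext p; exact z2_add_self (v p)

theorem v_mul_self (v : V) : v * v = v := by
  funext p; exact z2_mul_self (v p)

/-! ### inner product -/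

/-- the standard inner product of two binary words -/
def ip (v w : V) : ZMod 2 := ∑ p, v p * w p

theorem ip_comm (v w : V) : ip v w = ip w v := by
  unfold ip; exact Finset.sum_congr rfl fun p _ => mul_comm _ _

theorem ip_add_left (v v' w : V) : ip (v + v') w = ip v w + ip v' w := by
  unfold ip; rw [← Finset.sum_add_distrib]
  exact Finset.sum_congr rfl fun p _ => by rw [Pi.add_apply, add_mul]

theorem ip_add_right (v w w' : V) : ip v (w + w') = ip v w + ip v w' := by
  rw [ip_comm, ip_add_left, ip_comm w, ip_comm w']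

theorem ip_zero_left (w : V) : ip 0 w = 0 := by
  unfold ip; simp

theorem ip_zero_right (w : V) : ip w 0 = 0 := by
  unfold ip; simp

theorem ip_smul_left (a : ZMod 2) (v w : V) : ip (a • v) w = a * ip v w := by
  unfold ip; rw [Finset.mul_sum]
  exact Finset.sum_congr rfl fun p _ => by rw [Pi.smul_apply, smul_eq_mul, mul_assoc]

theorem ip_smul_right (a : ZMod 2) (v w : V) : ip v (a • w) = a * ip v w := by
  rw [ip_comm, ip_smul_left, ip_comm]

theorem ip_sum_left {ι : Type*} (s : Finset ι) (f : ι → V) (w : V) :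
    ip (∑ i ∈ s, f i) w = ∑ i ∈ s, ip (f i) w := by
  classical
  induction s using Finset.induction_on with
  | empty => simp [ip_zero_left]
  | insert a s ha ih => rw [Finset.sum_insert ha, Finset.sum_insert ha, ip_add_left, ih]

theorem ip_sum_right {ι : Type*} (s : Finset ι) (v : V) (f : ι → V) :
    ip v (∑ i ∈ s, f i) = ∑ i ∈ s, ip v (f i) := by
  rw [ip_comm, ip_sum_left]; exact Finset.sum_congr rfl fun i _ => ip_comm _ _

theorem ip_mul_left_eq (c d : V) : ip (c * d) c = ip (c * d) d := by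
  unfold ip
  refine Finset.sum_congr rfl fun p _ => ?_
  rw [Pi.mul_apply]
  have : ∀ a b : ZMod 2, a * b * a = a * b * b := by decide
  exact this _ _

theorem ip_single_left (p : GolayPt) (w : V) : ip (Pi.single p 1) w = w p := by
  unfold ip
  rw [Finset.sum_eq_single p]
  · rw [Pi.single_eq_same, one_mul]
  · intro q _ hq; rw [Pi.single_eq_of_ne hq, zero_mul]
  · intro h; exact absurd (Finset.mem_univ p) h

/-! ### permutation action -/

/-- the action of a permutation of the points on words: `w ↦ w ∘ σ⁻¹` -/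
def pa (σ : Equiv.Perm GolayPt) (w : V) : V := w ∘ ⇑σ⁻¹

theorem pa_apply (σ : Equiv.Perm GolayPt) (w : V) (p : GolayPt) : pa σ w p = w (σ⁻¹ p) := rfl

theorem pa_one (w : V) : pa 1 w = w := by
  funext p; rw [pa_apply, inv_one, Equiv.Perm.one_apply]

theorem pa_mul (σ τ : Equiv.Perm GolayPt) (w : V) : pa (σ * τ) w = pa σ (pa τ w) := by
  funext p; rw [pa_apply, pa_apply, pa_apply, mul_inv_rev, Equiv.Perm.mul_apply]

theorem pa_add (σ : Equiv.Perm GolayPt) (v w : V) : pa σ (v + w) = pa σ v + pa σ w := rfl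

theorem pa_zero (σ : Equiv.Perm GolayPt) : pa σ 0 = 0 := rfl

theorem pa_mul_pt (σ : Equiv.Perm GolayPt) (v w : V) : pa σ (v * w) = pa σ v * pa σ w := rfl

theorem pa_inv_pa (σ : Equiv.Perm GolayPt) (w : V) : pa σ⁻¹ (pa σ w) = w := by
  rw [← pa_mul, inv_mul_cancel, pa_one]

theorem pa_pa_inv (σ : Equiv.Perm GolayPt) (w : V) : pa σ (pa σ⁻¹ w) = w := by
  rw [← pa_mul, mul_inv_cancel, pa_one]

theorem ip_pa (σ : Equiv.Perm GolayPt) (v w : V) : ip (pa σ v) (pa σ w) = ip v w := by
  unfold ip
  exact Equiv.sum_comp σ⁻¹ (fun p => v p * w p)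

theorem ip_pa_left (σ : Equiv.Perm GolayPt) (v w : V) : ip (pa σ v) w = ip v (pa σ⁻¹ w) := by
  rw [← ip_pa σ⁻¹, pa_inv_pa]

theorem support_pa (σ : Equiv.Perm GolayPt) (w : V) : support₂ (pa σ w) = σ • support₂ w :=
  support_comp_symm σ w

theorem pa_mem_code {σ : Equiv.Perm GolayPt} (hσ : σ ∈ M24) {w : V} (hw : w ∈ golayCode) :
    pa σ w ∈ golayCode := by
  obtain ⟨w', hw', hs⟩ := (mem_M24_iff σ).mp hσ (support₂ w) ⟨w, hw, rfl⟩
  rw [← support_pa] at hs
  rw [← support_injective hs]; exact hw'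

/-! ### the subcode `C0` -/

/-- the Golay code words vanishing at the extra point -/
def C0 : Submodule (ZMod 2) V where
  carrier := {c | c ∈ golayCode ∧ c none = 0}
  add_mem' := by
    rintro a b ⟨ha, ha0⟩ ⟨hb, hb0⟩
    exact ⟨golayCode.add_mem ha hb, by rw [Pi.add_apply, ha0, hb0, add_zero]⟩
  zero_mem' := ⟨golayCode.zero_mem, rfl⟩
  smul_mem' := by
    rintro a b ⟨hb, hb0⟩
    exact ⟨golayCode.smul_mem a hb, by rw [Pi.smul_apply, hb0, smul_zero]⟩

theorem mem_C0 (c : V) : c ∈ C0 ↔ c ∈ golayCode ∧ c none = 0 := Iff.rfl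

theorem M23_le_M24 {σ : Equiv.Perm GolayPt} (hσ : σ ∈ Spor.M23) : σ ∈ M24 := hσ.1

theorem M23_none {σ : Equiv.Perm GolayPt} (hσ : σ ∈ Spor.M23) : σ none = none := hσ.2

theorem M23_inv_none {σ : Equiv.Perm GolayPt} (hσ : σ ∈ Spor.M23) : σ⁻¹ none = none := by
  rw [Equiv.Perm.inv_eq_iff_eq]; exact (M23_none hσ).symm

theorem pa_mem_C0 {σ : Equiv.Perm GolayPt} (hσ : σ ∈ Spor.M23) {c : V} (hc : c ∈ C0) :
    pa σ c ∈ C0 :=
  ⟨pa_mem_code (M23_le_M24 hσ) hc.1, by rw [pa_apply, M23_inv_none hσ]; exact hc.2⟩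

/-- pivot points of the first eleven basis words -/
def pv (i : Fin 11) : GolayPt := piv i.castSucc

/-- the first eleven basis words: a basis of `C0` -/
def bb (i : Fin 11) : V := G i.castSucc

theorem piv_last : piv (Fin.last 11) = none := by decide

theorem bb_pv (i j : Fin 11) : bb j (pv i) = if i = j then 1 else 0 := by
  unfold bb pv
  rw [G_piv]
  simp only [Fin.castSucc_inj]

theorem bb_none (i : Fin 11) : bb i none = 0 := by
  unfold bb
  rw [← piv_last, G_piv, if_neg]
  exact (Fin.castSucc_lt_last i).ne'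

theorem bb_mem_code (i : Fin 11) : bb i ∈ golayCode := G_mem _

theorem bb_mem_C0 (i : Fin 11) : bb i ∈ C0 := ⟨bb_mem_code i, bb_none i⟩

theorem C0_expand {c : V} (hc : c ∈ C0) : c = ∑ i : Fin 11, c (pv i) • bb i := by
  have h := (mem_iff c).mp hc.1
  unfold reenc at h
  rw [Fin.sum_univ_castSucc, piv_last, hc.2, zero_smul, add_zero] at h
  exact h.symm


/-! ### masks -/

theorem wordOf_and (a b : ℕ) : wordOf (a &&& b) = wordOf a * wordOf b := by
  funext p
  rw [Pi.mul_apply, wordOf_apply, wordOf_apply, wordOf_apply, Nat.testBit_and]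
  cases a.testBit (enc p) <;> cases b.testBit (enc p) <;> simp

theorem sum_wordOf (m : ℕ) : ∑ p, wordOf m p = ((popc m : ℕ) : ZMod 2) := by
  rw [← card_bset]
  unfold bset
  rw [Finset.card_filter, Nat.cast_sum]
  refine Finset.sum_congr rfl fun p _ => ?_
  rw [wordOf_apply]
  split_ifs <;> simp

theorem ip_wordOf (a b : ℕ) : ip (wordOf a) (wordOf b) = ((popc (a &&& b) : ℕ) : ZMod 2) := by
  rw [← sum_wordOf, wordOf_and]; rfl

theorem gen_orth : ∀ j k : Fin 12, (popc (gen j &&& gen k)) % 2 = 0 := by decide +kernel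

theorem ip_G (j k : Fin 12) : ip (G j) (G k) = 0 := by
  unfold G
  rw [ip_wordOf, ZMod.natCast_eq_zero_iff]
  exact Nat.dvd_of_mod_eq_zero (gen_orth j k)

/-- the Golay code is self-orthogonal -/
theorem ip_code {c d : V} (hc : c ∈ golayCode) (hd : d ∈ golayCode) : ip c d = 0 := by
  rw [← (mem_iff c).mp hc, ← (mem_iff d).mp hd]
  unfold reenc
  rw [ip_sum_left]
  refine Finset.sum_eq_zero fun j _ => ?_
  rw [ip_sum_right]
  refine Finset.sum_eq_zero fun k _ => ?_
  rw [ip_smul_left, ip_smul_right, ip_G, mul_zero, mul_zero]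

/-! ### a generic lemma on triangular sums -/

section Tri
variable {A : Type*} [AddCommGroup A] [Module (ZMod 2) A]

/-- indicator of `i < j` -/
def ee (i j : Fin 11) : ZMod 2 := if i < j then 1 else 0

theorem ee_tri (i j : Fin 11) : ee i j + ee j i + (if i = j then 1 else 0) = 1 := by
  unfold ee
  rcases lt_trichotomy i j with h | h | h
  · rw [if_pos h, if_neg (not_lt_of_gt h), if_neg h.ne]; simp
  · subst h; simp
  · rw [if_neg (not_lt_of_gt h), if_pos h, if_neg h.ne']; simp

/-- the strictly upper triangular part of the bilinear expression with matrix `M` -/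
def UU (M : Fin 11 → Fin 11 → A) (x y : Fin 11 → ZMod 2) : A :=
  ∑ i, ∑ j, (ee i j * (x i * y j)) • M i j

theorem UU_add_left (M : Fin 11 → Fin 11 → A) (x x' y : Fin 11 → ZMod 2) :
    UU M (x + x') y = UU M x y + UU M x' y := by
  unfold UU
  rw [← Finset.sum_add_distrib]
  refine Finset.sum_congr rfl fun i _ => ?_
  rw [← Finset.sum_add_distrib]
  refine Finset.sum_congr rfl fun j _ => ?_
  rw [← add_smul, Pi.add_apply]; congr 1; ring

theorem UU_add_right (M : Fin 11 → Fin 11 → A) (x y y' : Fin 11 → ZMod 2) :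
    UU M x (y + y') = UU M x y + UU M x y' := by
  unfold UU
  rw [← Finset.sum_add_distrib]
  refine Finset.sum_congr rfl fun i _ => ?_
  rw [← Finset.sum_add_distrib]
  refine Finset.sum_congr rfl fun j _ => ?_
  rw [← add_smul, Pi.add_apply]; congr 1; ring

theorem UU_quad (M : Fin 11 → Fin 11 → A) (x y : Fin 11 → ZMod 2) :
    UU M (x + y) (x + y) = UU M x x + UU M y y + (UU M x y + UU M y x) := by
  rw [UU_add_left, UU_add_right, UU_add_right]; abel

theorem full_split (M : Fin 11 → Fin 11 → A) (hM : ∀ i j, M i j = M j i)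
    (x y : Fin 11 → ZMod 2) :
    ∑ i, ∑ j, (x i * y j) • M i j = UU M x y + UU M y x + ∑ i, (x i * y i) • M i i := by
  have h3 : ∑ i, (x i * y i) • M i i
      = ∑ i, ∑ j, ((if i = j then 1 else 0) * (x i * y j)) • M i j := by
    refine Finset.sum_congr rfl fun i _ => ?_
    rw [Finset.sum_eq_single i]
    · rw [if_pos rfl, one_mul]
    · intro j _ hj; rw [if_neg hj.symm, zero_mul, zero_smul]
    · intro h; exact absurd (Finset.mem_univ i) h
  have h2 : UU M y x = ∑ i, ∑ j, (ee j i * (x i * y j)) • M i j := by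
    unfold UU
    rw [Finset.sum_comm]
    refine Finset.sum_congr rfl fun i _ => Finset.sum_congr rfl fun j _ => ?_
    rw [hM j i, mul_comm (y j)]
  rw [h3, h2]
  unfold UU
  rw [← Finset.sum_add_distrib, ← Finset.sum_add_distrib]
  refine Finset.sum_congr rfl fun i _ => ?_
  rw [← Finset.sum_add_distrib, ← Finset.sum_add_distrib]
  refine Finset.sum_congr rfl fun j _ => ?_
  rw [← add_smul, ← add_smul, ← add_mul, ← add_mul, ee_tri, one_mul]

end Tri


/-! ### the cocycle -/

/-- coordinates of a word with respect to the pivots of `C0` -/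
def xs (v : V) : Fin 11 → ZMod 2 := fun i => v (pv i)

theorem xs_add (v w : V) : xs (v + w) = xs v + xs w := rfl

theorem xs_apply (v : V) (i : Fin 11) : xs v i = v (pv i) := rfl

/-- masks of the linear part of the cocycle -/
def Tm : Fin 11 → ℕ := ![0x0, 0x0, 0x2000, 0x0, 0x0, 0x8000, 0x10000, 0x0, 0x0, 0x1000, 0x100000]

/-- the words of the linear part of the cocycle -/
def TT (i : Fin 11) : V := wordOf (Tm i)

/-- pointwise products of basis words -/
def BB (i j : Fin 11) : V := bb i * bb j

theorem BB_symm (i j : Fin 11) : BB i j = BB j i := mul_comm _ _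

theorem BB_self (i : Fin 11) : BB i i = bb i := v_mul_self _

/-- the word `t(v)` with `φ(v, d) = ⟨t(v), d⟩` -/
def tw (v : V) : V := ∑ i, xs v i • TT i + UU BB (xs v) (xs v)

/-- the cocycle -/
def ph (v d : V) : ZMod 2 := ip (tw v) d

theorem ph_add_right (v d d' : V) : ph v (d + d') = ph v d + ph v d' := ip_add_right _ _ _

theorem ph_zero_right (v : V) : ph v 0 = 0 := ip_zero_right _

theorem mul_expand {c c' : V} (hc : c ∈ C0) (hc' : c' ∈ C0) :
    c * c' = ∑ i, ∑ j, (xs c i * xs c' j) • BB i j := by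
  conv_lhs => rw [C0_expand hc, C0_expand hc']
  rw [Finset.sum_mul_sum]
  refine Finset.sum_congr rfl fun i _ => Finset.sum_congr rfl fun j _ => ?_
  rw [smul_mul_smul_comm]; rfl

theorem tw_add {c c' : V} (hc : c ∈ C0) (hc' : c' ∈ C0) :
    tw (c + c') = tw c + tw c' + c * c' + ∑ i, (xs c i * xs c' i) • bb i := by
  rw [mul_expand hc hc', full_split BB BB_symm]
  unfold tw
  rw [xs_add, UU_quad]
  have h1 : ∑ i, (xs c + xs c') i • TT i = ∑ i, xs c i • TT i + ∑ i, xs c' i • TT i := by
    rw [← Finset.sum_add_distrib]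
    exact Finset.sum_congr rfl fun i _ => by rw [Pi.add_apply, add_smul]
  have h2 : ∑ i, (xs c i * xs c' i) • BB i i = ∑ i, (xs c i * xs c' i) • bb i :=
    Finset.sum_congr rfl fun i _ => by rw [BB_self]
  rw [h1, h2]
  generalize (∑ i, (xs c i * xs c' i) • bb i) = z
  generalize UU BB (xs c) (xs c') = u1
  generalize UU BB (xs c') (xs c) = u2
  generalize UU BB (xs c) (xs c) = u3
  generalize UU BB (xs c') (xs c') = u4
  generalize ∑ i, xs c i • TT i = l1
  generalize ∑ i, xs c' i • TT i = l2
  have hz := v_add_self z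
  calc l1 + l2 + (u3 + u4 + (u1 + u2)) = l1 + u3 + (l2 + u4) + (u1 + u2) + 0 := by abel
    _ = l1 + u3 + (l2 + u4) + (u1 + u2) + (z + z) := by rw [hz]
    _ = _ := by abel

/-- `ph` is "quadratic" in the first variable, with polarisation the triple intersection form -/
theorem ph_add_left {c c' d : V} (hc : c ∈ C0) (hc' : c' ∈ C0) (hd : d ∈ golayCode) :
    ph (c + c') d = ph c d + ph c' d + ip (c * c') d := by
  unfold ph
  rw [tw_add hc hc', ip_add_left, ip_add_left, ip_add_left, ip_sum_left]
  have : ∑ i, ip ((xs c i * xs c' i) • bb i) d = 0 :=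
    Finset.sum_eq_zero fun i _ => by rw [ip_smul_left, ip_code (bb_mem_code i) hd, mul_zero]
  rw [this, add_zero]

/-- the diagonal of the cocycle -/
def FF (c : V) : ZMod 2 := ph c c

theorem ph_symm_eq {c d : V} (hc : c ∈ C0) (hd : d ∈ C0) :
    ph c d + ph d c = FF (c + d) + FF c + FF d := by
  unfold FF
  rw [ph_add_right, ph_add_left hc hd hc.1, ph_add_left hc hd hd.1, ip_mul_left_eq c d]
  generalize ph c c = a1
  generalize ph d c = a2
  generalize ph c d = a3
  generalize ph d d = a4
  generalize ip (c * d) d = a5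
  revert a1 a2 a3 a4 a5; decide

end Cfsg.Agent.Lib.Helper28.PL
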