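import Mathlib
import Cfsg.Agent.Lib.Helper28.PLBasic

/-!
# Parker-loop cocycle: evaluation on bit masks (helper28)
-/

set_option autoImplicit false

open scoped Pointwise

namespace Cfsg.Agent.Lib.Helper28.PL
open Cfsg Cfsg.Agent.Lib.Helper28.GolayCode

/-- xor of `f 0, …, f (n-1)` -/
noncomputable def xorLoop (f : ℕ → ℕ) (n : ℕ) : ℕ :=
  @Nat.rec (fun _ => ℕ) 0 (fun i acc => Nat.xor (f i) acc) n

theorem xorLoop_succ (f : ℕ → ℕ) (n : ℕ) : xorLoop f (n + 1) = f n ^^^ xorLoop f n := rfl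

theorem xorLoop_zero (f : ℕ → ℕ) : xorLoop f 0 = 0 := rfl

theorem wordOf_xorLoop (f : ℕ → ℕ) (n : ℕ) :
    wordOf (xorLoop f n) = ∑ i ∈ Finset.range n, wordOf (f i) := by
  induction n with
  | zero => rw [xorLoop_zero, wordOf_zero, Finset.range_zero, Finset.sum_empty]
  | succ n ih => rw [xorLoop_succ, wordOf_xor, ih, Finset.sum_range_succ, add_comm]

theorem wordOf_xorLoop_fin (f : ℕ → ℕ) (n : ℕ) :
    wordOf (xorLoop f n) = ∑ i : Fin n, wordOf (f i) := by
  rw [wordOf_xorLoop, Fin.sum_univ_eq_sum_range (fun i => wordOf (f i))]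

/-- the basis masks as a function on the naturals -/
def genN (i : ℕ) : ℕ :=
  [0x149f, 0x293e, 0x46e3, 0x8dc6, 0x10f13, 0x20ab9, 0x401ed, 0x803da, 0x1007b4, 0x200f68,
    0x400a4f, 0x800c75].getD i 0

/-- the linear-part masks as a function on the naturals -/
def TmN (i : ℕ) : ℕ :=
  [0x0, 0x0, 0x2000, 0x0, 0x0, 0x8000, 0x10000, 0x0, 0x0, 0x1000, 0x100000].getD i 0

theorem genN_eq : ∀ i : Fin 11, genN i = gen i.castSucc := by decide

theorem TmN_eq : ∀ i : Fin 11, TmN i = Tm i := by decide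

/-- indicator of `i < j` on the naturals -/
def eeN (i j : ℕ) : ℕ := bif Nat.blt i j then 1 else 0

theorem eeN_cast (i j : Fin 11) : ((eeN i j : ℕ) : ZMod 2) = ee i j := by
  unfold eeN ee
  by_cases h : i < j
  · have : Nat.blt i j = true := by rw [Nat.blt_eq]; exact h
    rw [this, if_pos h]; simp
  · have : Nat.blt i j = false := by
      rw [← Bool.not_eq_true, Nat.blt_eq]; exact h
    rw [this, if_neg h]; simp

theorem wordOf_01_mul (a g : ℕ) (ha : a = 0 ∨ a = 1) :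
    wordOf (Nat.mul a g) = ((a : ℕ) : ZMod 2) • wordOf g := by
  rcases ha with rfl | rfl
  · show wordOf (0 * g) = _; rw [zero_mul, wordOf_zero]; simp
  · show wordOf (1 * g) = _; rw [one_mul]; simp

theorem bitN_01 (m i : ℕ) : bitN m i = 0 ∨ bitN m i = 1 := by
  rw [bitN_eq]; split_ifs <;> simp

theorem eeN_01 (i j : ℕ) : eeN i j = 0 ∨ eeN i j = 1 := by
  unfold eeN; cases Nat.blt i j <;> simp

theorem mul_01 (a b : ℕ) (ha : a = 0 ∨ a = 1) (hb : b = 0 ∨ b = 1) :
    Nat.mul a b = 0 ∨ Nat.mul a b = 1 := by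
  rcases ha with rfl | rfl <;> rcases hb with rfl | rfl <;> simp

theorem bitN_cast (m k : ℕ) (hk : k < 24) : ((bitN m k : ℕ) : ZMod 2) = wordOf m (dec k) := by
  rw [wordOf_apply, enc_dec k hk, bitN_eq]
  split_ifs <;> simp

theorem xs_wordOf (m : ℕ) (i : Fin 11) : xs (wordOf m) i = ((bitN m (12 + i) : ℕ) : ZMod 2) := by
  rw [bitN_cast _ _ (by omega)]; rfl

/-- linear part of `tN` -/
noncomputable def tN1 (m : ℕ) : ℕ := xorLoop (fun i => Nat.mul (bitN m (12 + i)) (TmN i)) 11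

/-- inner loop of the quadratic part of `tN` -/
noncomputable def tN2i (m i : ℕ) : ℕ := xorLoop (fun j =>
      Nat.mul (Nat.mul (eeN i j) (Nat.mul (bitN m (12 + i)) (bitN m (12 + j))))
        (Nat.land (genN i) (genN j))) 11

/-- quadratic part of `tN` -/
noncomputable def tN2 (m : ℕ) : ℕ := xorLoop (tN2i m) 11

/-- the mask of `t(v)` for the word `v` with mask `m` -/
noncomputable def tN (m : ℕ) : ℕ := Nat.xor (tN1 m) (tN2 m)

theorem wordOf_tN1 (m : ℕ) : wordOf (tN1 m) = ∑ i, xs (wordOf m) i • TT i := by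
  unfold tN1
  rw [wordOf_xorLoop_fin]
  refine Finset.sum_congr rfl fun i _ => ?_
  rw [wordOf_01_mul _ _ (bitN_01 _ _), xs_wordOf, TmN_eq]; rfl

theorem wordOf_tN2i (m : ℕ) (i : Fin 11) :
    wordOf (tN2i m i) = ∑ j, (ee i j * (xs (wordOf m) i * xs (wordOf m) j)) • BB i j := by
  unfold tN2i
  rw [wordOf_xorLoop_fin]
  refine Finset.sum_congr rfl fun j _ => ?_
  rw [wordOf_01_mul _ _ (mul_01 _ _ (eeN_01 _ _) (mul_01 _ _ (bitN_01 _ _) (bitN_01 _ _)))]
  show ((eeN i j * (bitN m (12 + i) * bitN m (12 + j)) : ℕ) : ZMod 2) •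
      wordOf (genN i &&& genN j) = _
  rw [Nat.cast_mul, Nat.cast_mul, eeN_cast, ← xs_wordOf, ← xs_wordOf, wordOf_and, genN_eq,
    genN_eq]
  rfl

theorem wordOf_tN2 (m : ℕ) : wordOf (tN2 m) = UU BB (xs (wordOf m)) (xs (wordOf m)) := by
  unfold tN2 UU
  rw [wordOf_xorLoop_fin]
  exact Finset.sum_congr rfl fun i _ => wordOf_tN2i m i

theorem tw_wordOf (m : ℕ) : tw (wordOf m) = wordOf (tN m) := by
  unfold tN tw
  rw [wordOf_nat_xor, wordOf_tN1, wordOf_tN2]

/-- the cocycle on masks -/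
noncomputable def phiN (m d : ℕ) : ℕ := Nat.land (popc (Nat.land (tN m) d)) 1

theorem ph_wordOf (m d : ℕ) : ph (wordOf m) (wordOf d) = ((phiN m d : ℕ) : ZMod 2) := by
  unfold ph phiN
  rw [tw_wordOf, ip_wordOf]
  show _ = (((popc (tN m &&& d)) &&& 1 : ℕ) : ZMod 2)
  rw [Nat.and_one_is_mod, ZMod.natCast_mod]

/-- weight divided by four, modulo two -/
def wt4 (c : V) : ZMod 2 := (((support₂ c).card / 4 : ℕ) : ZMod 2)

theorem wt4_pa (σ : Equiv.Perm GolayPt) (c : V) : wt4 (pa σ c) = wt4 c := by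
  unfold wt4
  rw [support_pa, Finset.card_smul_finset]

theorem FF_check : allLoop (fun a => Nat.beq (phiN (encode a) (encode a))
    (Nat.land (Nat.shiftRight (popc (encode a)) 2) 1)) 2048 = true := by decide +kernel

theorem infoBits_lt_of_C0 {c : V} (hc : c ∈ C0) : infoBits c < 2048 := by
  show infoBits c < 2 ^ 11
  apply Nat.lt_pow_two_of_testBit
  intro i hi
  rcases Nat.eq_or_lt_of_le hi with h | h
  · subst h
    unfold infoBits
    rw [Nat.testBit_ofBits_lt _ _ (by norm_num : 11 < 12)]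
    have : piv ⟨11, by norm_num⟩ = none := by decide
    rw [this, hc.2]; decide
  · exact Nat.testBit_lt_two_pow (lt_of_lt_of_le (infoBits_lt c)
      (Nat.pow_le_pow_right (by norm_num) (by omega)))

/-- the diagonal of the cocycle is the weight divided by four -/
theorem FF_eq_wt4 {c : V} (hc : c ∈ C0) : FF c = wt4 c := by
  have ha := infoBits_lt_of_C0 hc
  have hce : c = wordOf (encode (infoBits c)) := by
    rw [← reenc_eq, (mem_iff c).mp hc.1]
  have h := (allLoop_eq_true _ _).mp FF_check _ ha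
  rw [nat_beq_iff] at h
  generalize infoBits c = a at *
  subst hce
  unfold FF wt4
  rw [ph_wordOf, h, support_wordOf, card_bset]
  show (((popc (encode a) >>> 2) &&& 1 : ℕ) : ZMod 2) = _
  rw [Nat.and_one_is_mod, ZMod.natCast_mod, Nat.shiftRight_eq_div_pow]

end Cfsg.Agent.Lib.Helper28.PL
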