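import Mathlib
import Cfsg.Agent.Lib.Helper28.PLNat

/-!
# The extension `2^11 · M23` from the Parker-loop cocycle (helper28)

`Ext` is the group of pairs `(π, q)`, `π ∈ M23`, `q : C0 → 𝔽₂` with
`q (c + d) + q c + q d = φ(c, d) + φ(π c, π d)`.
-/

set_option autoImplicit false

open scoped Pointwise

namespace Cfsg.Agent.Lib.Helper28.PL
open Cfsg Cfsg.Agent.Lib.Helper28.GolayCode

/-! ### the coboundary form `psi` -/

/-- `ψ_σ(c, d) = φ(c, d) + φ(σ c, σ d)` -/
def psi (σ : Equiv.Perm GolayPt) (c d : V) : ZMod 2 := ph c d + ph (pa σ c) (pa σ d)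

theorem psi_add_right (σ : Equiv.Perm GolayPt) (c d d' : V) :
    psi σ c (d + d') = psi σ c d + psi σ c d' := by
  unfold psi
  rw [pa_add, ph_add_right, ph_add_right]; abel

theorem psi_add_left {σ : Equiv.Perm GolayPt} (hσ : σ ∈ Spor.M23) {c c' d : V} (hc : c ∈ C0)
    (hc' : c' ∈ C0) (hd : d ∈ C0) : psi σ (c + c') d = psi σ c d + psi σ c' d := by
  unfold psi
  rw [pa_add, ph_add_left hc hc' hd.1,
    ph_add_left (pa_mem_C0 hσ hc) (pa_mem_C0 hσ hc') (pa_mem_C0 hσ hd).1, ← pa_mul_pt, ip_pa]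
  generalize ph c d = a1
  generalize ph c' d = a2
  generalize ip (c * c') d = a3
  generalize ph (pa σ c) (pa σ d) = a4
  generalize ph (pa σ c') (pa σ d) = a5
  revert a1 a2 a3 a4 a5; decide

theorem FF_pa {σ : Equiv.Perm GolayPt} (hσ : σ ∈ Spor.M23) {c : V} (hc : c ∈ C0) :
    FF (pa σ c) = FF c := by
  rw [FF_eq_wt4 (pa_mem_C0 hσ hc), FF_eq_wt4 hc, wt4_pa]

theorem psi_self {σ : Equiv.Perm GolayPt} (hσ : σ ∈ Spor.M23) {c : V} (hc : c ∈ C0) :
    psi σ c c = 0 := by
  show FF c + FF (pa σ c) = 0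
  rw [FF_pa hσ hc]; exact z2_add_self _

theorem psi_symm {σ : Equiv.Perm GolayPt} (hσ : σ ∈ Spor.M23) {c d : V} (hc : c ∈ C0)
    (hd : d ∈ C0) : psi σ c d = psi σ d c := by
  have h1 := ph_symm_eq hc hd
  have h2 := ph_symm_eq (pa_mem_C0 hσ hc) (pa_mem_C0 hσ hd)
  rw [← pa_add, FF_pa hσ (C0.add_mem hc hd), FF_pa hσ hc, FF_pa hσ hd] at h2
  unfold psi
  generalize ph c d = a1 at *
  generalize ph d c = a2 at *
  generalize ph (pa σ c) (pa σ d) = a3 at *
  generalize ph (pa σ d) (pa σ c) = a4 at *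
  generalize FF (c + d) = a5 at *
  generalize FF c = a6 at *
  generalize FF d = a7 at *
  revert a1 a2 a3 a4 a5 a6 a7; decide

/-! ### expansion of additive functions on `C0` -/

/-- basis elements of `C0` -/
def bC (i : Fin 11) : ↥C0 := ⟨bb i, bb_mem_C0 i⟩

theorem C0_expand' (c : ↥C0) : c = ∑ i, xs c.1 i • bC i := by
  apply Subtype.ext
  rw [Submodule.coe_sum]
  exact C0_expand c.2

theorem additive_expand (f : ↥C0 → ZMod 2) (hf : ∀ c d, f (c + d) = f c + f d) (c : ↥C0) :
    f c = ∑ i, xs c.1 i * f (bC i) := by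
  let fh : ↥C0 →+ ZMod 2 := AddMonoidHom.mk' f hf
  have hs : ∀ (a : ZMod 2) (x : ↥C0), fh (a • x) = a * fh x := by
    intro a x
    have : a = 0 ∨ a = 1 := by revert a; decide
    rcases this with rfl | rfl <;> simp
  show fh c = _
  conv_lhs => rw [C0_expand' c]
  rw [map_sum]
  exact Finset.sum_congr rfl fun i _ => hs _ _

/-! ### the action on `C0` -/

/-- the action of `M23` on `C0` -/
def actC (π : ↥Spor.M23) (c : ↥C0) : ↥C0 := ⟨pa π.1 c.1, pa_mem_C0 π.2 c.2⟩

theorem actC_val (π : ↥Spor.M23) (c : ↥C0) : (actC π c).1 = pa π.1 c.1 := rfl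

theorem actC_one (c : ↥C0) : actC 1 c = c := Subtype.ext (pa_one _)

theorem actC_mul (π π' : ↥Spor.M23) (c : ↥C0) : actC (π * π') c = actC π (actC π' c) :=
  Subtype.ext (pa_mul _ _ _)

theorem actC_add (π : ↥Spor.M23) (c d : ↥C0) : actC π (c + d) = actC π c + actC π d :=
  Subtype.ext (pa_add _ _ _)

theorem actC_zero (π : ↥Spor.M23) : actC π 0 = 0 := Subtype.ext (pa_zero _)

theorem actC_inv_actC (π : ↥Spor.M23) (c : ↥C0) : actC π⁻¹ (actC π c) = c := by
  rw [← actC_mul, inv_mul_cancel, actC_one]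

theorem actC_actC_inv (π : ↥Spor.M23) (c : ↥C0) : actC π (actC π⁻¹ c) = c := by
  rw [← actC_mul, mul_inv_cancel, actC_one]

/-! ### existence of a quadratic function with polarisation `psi` -/

/-- Gram matrix of `psi` on the basis -/
def psiM (σ : Equiv.Perm GolayPt) (i j : Fin 11) : ZMod 2 := psi σ (bb i) (bb j)

/-- the canonical quadratic function with polarisation `psi` -/
def qcan (σ : Equiv.Perm GolayPt) (c : ↥C0) : ZMod 2 := UU (psiM σ) (xs c.1) (xs c.1)

theorem exists_q {σ : Equiv.Perm GolayPt} (hσ : σ ∈ Spor.M23) :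
    ∃ q : ↥C0 → ZMod 2, ∀ c d : ↥C0, q (c + d) + q c + q d = psi σ c.1 d.1 := by
  have hM : ∀ i j, psiM σ i j = psiM σ j i :=
    fun i j => psi_symm hσ (bb_mem_C0 i) (bb_mem_C0 j)
  have hM0 : ∀ i, psiM σ i i = 0 := fun i => psi_self hσ (bb_mem_C0 i)
  refine ⟨qcan σ, fun c d => ?_⟩
  generalize hMM : psiM σ = M at hM hM0
  have hfull : psi σ c.1 d.1 = ∑ i, ∑ j, (xs c.1 i * xs d.1 j) • M i j := by
    rw [additive_expand (fun c' : ↥C0 => psi σ c'.1 d.1)
      (fun c₁ c₂ => psi_add_left hσ c₁.2 c₂.2 d.2) c]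
    refine Finset.sum_congr rfl fun i _ => ?_
    rw [additive_expand (fun d' : ↥C0 => psi σ (bC i).1 d'.1)
      (fun d₁ d₂ => psi_add_right σ _ d₁.1 d₂.1) d, Finset.mul_sum]
    refine Finset.sum_congr rfl fun j _ => ?_
    rw [smul_eq_mul, mul_assoc, ← hMM]; rfl
  have hsplit := full_split M hM (xs c.1) (xs d.1)
  have hz : ∑ i, (xs c.1 i * xs d.1 i) • M i i = 0 :=
    Finset.sum_eq_zero fun i _ => by rw [hM0, smul_zero]
  rw [hz, add_zero] at hsplit
  rw [hfull, hsplit]
  unfold qcan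
  rw [hMM]
  show UU M (xs (c.1 + d.1)) (xs (c.1 + d.1)) + _ + _ = _
  rw [xs_add, UU_quad]
  generalize UU M (xs c.1) (xs c.1) = a1
  generalize UU M (xs d.1) (xs d.1) = a2
  generalize UU M (xs c.1) (xs d.1) = a3
  generalize UU M (xs d.1) (xs c.1) = a4
  revert a1 a2 a3 a4; decide

/-! ### the group -/

/-- the extension group: pairs `(π, q)` -/
@[ext] structure Ext where
  /-- the permutation part -/
  p : ↥Spor.M23
  /-- the quadratic part -/
  q : ↥C0 → ZMod 2
  /-- compatibility with the cocycle -/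
  compat : ∀ c d : ↥C0, q (c + d) + q c + q d = psi p.1 c.1 d.1

namespace Ext

/-- multiplication -/
def mul' (a b : Ext) : Ext where
  p := a.p * b.p
  q := fun c => b.q c + a.q (actC b.p c)
  compat := by
    intro c d
    have h1 := b.compat c d
    have h2 := a.compat (actC b.p c) (actC b.p d)
    rw [← actC_add] at h2
    show _ = psi (a.p.1 * b.p.1) c.1 d.1
    unfold psi at *
    rw [pa_mul, pa_mul]
    rw [actC_val, actC_val] at h2
    generalize b.q (c + d) = a1 at *
    generalize b.q c = a2 at *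
    generalize b.q d = a3 at *
    generalize a.q (actC b.p (c + d)) = a4 at *
    generalize a.q (actC b.p c) = a5 at *
    generalize a.q (actC b.p d) = a6 at *
    generalize ph c.1 d.1 = a7 at *
    generalize ph (pa b.p.1 c.1) (pa b.p.1 d.1) = a8 at *
    generalize ph (pa a.p.1 (pa b.p.1 c.1)) (pa a.p.1 (pa b.p.1 d.1)) = a9 at *
    revert a1 a2 a3 a4 a5 a6 a7 a8 a9; decide +kernel

/-- identity -/
def one' : Ext where
  p := 1
  q := fun _ => 0
  compat := by
    intro c d
    show (0 : ZMod 2) + 0 + 0 = psi 1 c.1 d.1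
    unfold psi
    rw [pa_one, pa_one, z2_add_self (ph c.1 d.1)]
    simp

/-- inverse -/
def inv' (a : Ext) : Ext where
  p := a.p⁻¹
  q := fun c => a.q (actC a.p⁻¹ c)
  compat := by
    intro c d
    have h2 := a.compat (actC a.p⁻¹ c) (actC a.p⁻¹ d)
    rw [← actC_add] at h2
    rw [h2]
    show psi a.p.1 (pa a.p.1⁻¹ c.1) (pa a.p.1⁻¹ d.1) = psi a.p.1⁻¹ c.1 d.1
    unfold psi
    rw [pa_pa_inv, pa_pa_inv, add_comm]

instance : Mul Ext := ⟨mul'⟩
instance : One Ext := ⟨one'⟩
instance : Inv Ext := ⟨inv'⟩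

theorem mul_p (a b : Ext) : (a * b).p = a.p * b.p := rfl
theorem mul_q (a b : Ext) (c : ↥C0) : (a * b).q c = b.q c + a.q (actC b.p c) := rfl
theorem one_p : (1 : Ext).p = 1 := rfl
theorem one_q (c : ↥C0) : (1 : Ext).q c = 0 := rfl
theorem inv_p (a : Ext) : (a⁻¹).p = a.p⁻¹ := rfl
theorem inv_q (a : Ext) (c : ↥C0) : (a⁻¹).q c = a.q (actC a.p⁻¹ c) := rfl

instance : Group Ext :=
  Group.ofLeftAxioms
    (by
      intro a b c
      apply Ext.ext
      · simp only [mul_p, mul_assoc]
      · funext x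
        simp only [mul_q, mul_p, actC_mul, add_assoc])
    (by
      intro a
      apply Ext.ext
      · simp only [mul_p, one_p, one_mul]
      · funext x
        simp only [mul_q, one_q, add_zero])
    (by
      intro a
      apply Ext.ext
      · simp only [mul_p, inv_p, one_p, inv_mul_cancel]
      · funext x
        simp only [mul_q, inv_q, one_q, actC_inv_actC]
        exact z2_add_self _)

instance : Finite Ext :=
  Finite.of_injective (fun e : Ext => (e.p, e.q)) (by
    intro a b h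
    have h1 := congrArg Prod.fst h
    have h2 := congrArg Prod.snd h
    exact Ext.ext h1 h2)

/-- the projection onto `M23` -/
def proj : Ext →* ↥Spor.M23 where
  toFun := Ext.p
  map_one' := rfl
  map_mul' := fun _ _ => rfl

theorem proj_apply (a : Ext) : proj a = a.p := rfl

theorem proj_surjective : Function.Surjective proj := by
  intro π
  obtain ⟨q, hq⟩ := exists_q π.2
  exact ⟨⟨π, q, hq⟩, rfl⟩

theorem mem_ker (a : Ext) : a ∈ proj.ker ↔ a.p = 1 := MonoidHom.mem_ker

/-- the isomorphism of the quotient with `M23` -/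
noncomputable def quotEquiv : Ext ⧸ proj.ker ≃* ↥Spor.M23 :=
  QuotientGroup.quotientKerEquivOfSurjective proj proj_surjective

theorem quotEquiv_mk (a : Ext) : quotEquiv (QuotientGroup.mk a) = a.p := rfl

/-- additivity of the quadratic part of an element of the kernel -/
theorem q_add_of_ker {a : Ext} (ha : a.p = 1) (c d : ↥C0) : a.q (c + d) = a.q c + a.q d := by
  have h := a.compat c d
  rw [ha] at h
  have h0 : psi (1 : ↥Spor.M23).1 c.1 d.1 = 0 := by
    show psi 1 c.1 d.1 = 0
    unfold psi; rw [pa_one, pa_one]; exact z2_add_self _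
  rw [h0] at h
  generalize a.q (c + d) = a1 at *
  generalize a.q c = a2 at *
  generalize a.q d = a3 at *
  revert a1 a2 a3; decide

/-! ### the map `θ` -/

/-- the element `(1, ⟨w, ·⟩)` -/
def thetaFun (w : V) : Ext where
  p := 1
  q := fun c => ip w c.1
  compat := by
    intro c d
    show ip w (c.1 + d.1) + ip w c.1 + ip w d.1 = psi 1 c.1 d.1
    unfold psi
    rw [pa_one, pa_one, z2_add_self (ph c.1 d.1), ip_add_right]
    generalize ip w c.1 = a1
    generalize ip w d.1 = a2
    revert a1 a2; decide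

theorem thetaFun_p (w : V) : (thetaFun w).p = 1 := rfl
theorem thetaFun_q (w : V) (c : ↥C0) : (thetaFun w).q c = ip w c.1 := rfl

theorem thetaFun_mem (w : V) : thetaFun w ∈ proj.ker := (mem_ker _).mpr rfl

theorem thetaFun_add (w w' : V) : thetaFun (w + w') = thetaFun w * thetaFun w' := by
  apply Ext.ext
  · simp only [mul_p, thetaFun_p, one_mul]
  · funext c
    simp only [mul_q, thetaFun_q, thetaFun_p, actC_one, ip_add_left, add_comm]

/-- the homomorphism `θ` from words onto the kernel -/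
theorem theta_aux (w w' : V) :
    (⟨thetaFun (w + w'), thetaFun_mem _⟩ : ↥(proj.ker))
      = ⟨thetaFun w, thetaFun_mem w⟩ * ⟨thetaFun w', thetaFun_mem w'⟩ :=
  Subtype.ext (thetaFun_add w w')

noncomputable def theta : V →+ Additive ↥(proj.ker) :=
  AddMonoidHom.mk' (fun w => Additive.ofMul ⟨thetaFun w, thetaFun_mem w⟩)
    (fun w w' => congrArg Additive.ofMul (theta_aux w w'))

theorem theta_val (w : V) : ((theta w).toMul : Ext) = thetaFun w := rfl

theorem theta_surjective : Function.Surjective theta := by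
  intro n
  have hp : (n.toMul : Ext).p = 1 := (mem_ker _).mp n.toMul.2
  refine ⟨∑ i, (n.toMul : Ext).q (bC i) • Pi.single (pv i) 1, ?_⟩
  apply Additive.toMul.injective
  apply Subtype.ext
  rw [theta_val]
  apply Ext.ext
  · exact hp.symm
  · funext c
    rw [thetaFun_q, ip_sum_left, additive_expand (n.toMul : Ext).q (q_add_of_ker hp) c]
    refine Finset.sum_congr rfl fun i _ => ?_
    rw [ip_smul_left, ip_single_left, mul_comm]; rfl

theorem theta_eq_zero_iff (w : V) : theta w = 0 ↔ ∀ c : ↥C0, ip w c.1 = 0 := by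
  constructor
  · intro h c
    have h1 : ((theta w).toMul : Ext) = 1 := by rw [h]; rfl
    rw [theta_val] at h1
    have := congrArg (fun e : Ext => e.q c) h1
    exact this
  · intro h
    apply Additive.toMul.injective
    apply Subtype.ext
    rw [theta_val, toMul_zero, OneMemClass.coe_one]
    apply Ext.ext
    · rfl
    · funext c; exact h c

theorem theta_conj (g : Ext) (w : V) :
    thetaFun (pa g.p.1 w) = g * thetaFun w * g⁻¹ := by
  apply Ext.ext
  · simp only [mul_p, inv_p, thetaFun_p, mul_one, mul_inv_cancel]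
  · funext c
    simp only [mul_q, inv_q, inv_p, thetaFun_q, thetaFun_p, actC_one]
    rw [ip_pa_left]
    show _ = g.q (actC g.p⁻¹ c) + (ip w (pa (g.p⁻¹).1 c.1) + g.q (actC g.p⁻¹ c))
    have : ((g.p⁻¹ : ↥Spor.M23) : Equiv.Perm GolayPt) = (g.p.1)⁻¹ := rfl
    rw [this]
    generalize g.q (actC g.p⁻¹ c) = a1
    generalize ip w (pa (g.p.1)⁻¹ c.1) = a2
    revert a1 a2; decide

end Ext

end Cfsg.Agent.Lib.Helper28.PL
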