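import Mathlib
import Cfsg.Agent.Lib.Helper28.PLGroup

/-!
# The extension `Ext` of `M23` by the cocode module does not split (helper28)

A complement would contain lifts of five explicit elements of `M23`; the relations among these
elements give linear conditions on the quadratic parts of the lifts which are inconsistent.
-/

set_option autoImplicit false

open scoped Pointwise

namespace Cfsg.Agent.Lib.Helper28.PL
open Cfsg Cfsg.Agent.Lib.Helper28.GolayCode

/-! ### masks of words of `C0` -/

/-- kernel-checkable test that a mask is a word of `C0` -/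
def isC0N (m : ℕ) : Bool := inCode m && Nat.blt m 8388608

theorem wordOf_mem_C0 (m : ℕ) (h : isC0N m = true) : wordOf m ∈ C0 := by
  unfold isC0N at h
  rw [Bool.and_eq_true] at h
  obtain ⟨h1, h2⟩ := h
  have hlt : m < 8388608 := by rwa [Nat.blt_eq] at h2
  constructor
  · exact (wordOf_mem_iff m (by omega)).mpr h1
  · rw [wordOf_apply]
    have h23 : enc (none : GolayPt) = 23 := rfl
    have hlt' : m < 2 ^ 23 := by norm_num; exact hlt
    rw [h23, Nat.testBit_lt_two_pow hlt']; simp

theorem pa_wordOf (P : ℕ) (h : isPerm P = true) (m : ℕ) :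
    pa (permOf P) (wordOf m) = wordOf (applyMask P m) := by
  apply support_injective
  rw [support_pa, support_wordOf, support_wordOf, permOf_smul_bset P h]

/-- kernel-checkable test that a packed permutation lies in `M23` -/
noncomputable def inM23N (P : ℕ) : Bool := inM24 P && Nat.beq (img P 23) 23

theorem permOf_mem_M23 (P : ℕ) (h : inM23N P = true) : permOf P ∈ Spor.M23 := by
  unfold inM23N at h
  rw [Bool.and_eq_true, nat_beq_iff] at h
  refine ⟨permOf_mem_M24 P h.1, ?_⟩
  show permOf P ∈ MulAction.stabilizer (Equiv.Perm GolayPt) (none : GolayPt)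
  rw [MulAction.mem_stabilizer_iff, Equiv.Perm.smul_def]
  have hn : (none : GolayPt) = dec 23 := by decide
  rw [hn, permOf_apply_dec P (isPerm_of_inM24 P h.1) 23 (by norm_num), h.2]

/-- the five letters: `x ↦ x + 1`, its inverse, `x ↦ 2 x`, its inverse, and the inverse of the
cube twist, as packed permutations -/
def PP : Fin 5 → ℕ :=
  ![0xb82d5a4e5183dcd62d4941cc520c41, 0xbd6939460f7358b525073148310416,
    0xbd6717b56939461b52507314831040, 0xbaecaaa68899e468960478dc268580,
    0xbccb5585c87da098d1ac508f2190c0]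

theorem PP_ok : ∀ k : Fin 5, inM23N (PP k) = true := by decide +kernel

theorem isPerm_of_inM23N (P : ℕ) (h : inM23N P = true) : isPerm P = true := by
  unfold inM23N at h
  rw [Bool.and_eq_true] at h
  exact isPerm_of_inM24 _ h.1

theorem PP_isPerm (k : Fin 5) : isPerm (PP k) = true := isPerm_of_inM23N _ (PP_ok k)

/-- the five letters as elements of `M23` -/
noncomputable def pk (k : Fin 5) : ↥Spor.M23 := ⟨permOf (PP k), permOf_mem_M23 _ (PP_ok k)⟩

theorem pk_val (k : Fin 5) : (pk k).1 = permOf (PP k) := by
  unfold pk; exact Subtype.coe_mk _ _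

open Classical in
/-- the word of `C0` with a given mask (zero for masks not in `C0`) -/
noncomputable def toC0 (m : ℕ) : ↥C0 := if h : wordOf m ∈ C0 then ⟨wordOf m, h⟩ else 0

theorem toC0_val {m : ℕ} (h : wordOf m ∈ C0) : (toC0 m).1 = wordOf m := by
  unfold toC0; rw [dif_pos h]

theorem wordOf_zero_mem : wordOf 0 ∈ C0 := by rw [wordOf_zero]; exact C0.zero_mem

theorem toC0_zero : toC0 0 = 0 :=
  Subtype.ext (by rw [toC0_val wordOf_zero_mem, wordOf_zero]; rfl)

theorem wordOf_xor_mem {a b : ℕ} (ha : wordOf a ∈ C0) (hb : wordOf b ∈ C0) :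
    wordOf (a ^^^ b) ∈ C0 := by
  rw [wordOf_xor]; exact C0.add_mem ha hb

theorem toC0_xor {a b : ℕ} (ha : wordOf a ∈ C0) (hb : wordOf b ∈ C0) :
    toC0 (a ^^^ b) = toC0 a + toC0 b := by
  apply Subtype.ext
  rw [toC0_val (wordOf_xor_mem ha hb), Submodule.coe_add, toC0_val ha, toC0_val hb, wordOf_xor]

theorem actC_toC0 (k : Fin 5) {m : ℕ} (hm : wordOf m ∈ C0) :
    wordOf (applyMask (PP k) m) ∈ C0 ∧ actC (pk k) (toC0 m) = toC0 (applyMask (PP k) m) := by
  have h1 : pa (pk k).1 (wordOf m) = wordOf (applyMask (PP k) m) :=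
    pa_wordOf _ (PP_isPerm k) m
  have h2 : wordOf (applyMask (PP k) m) ∈ C0 := by rw [← h1]; exact pa_mem_C0 (pk k).2 hm
  refine ⟨h2, Subtype.ext ?_⟩
  rw [actC_val, toC0_val hm, toC0_val h2, h1]

/-! ### the quadratic part of a product -/

/-- the quadratic part of the product of a list of elements -/
def trQ : List Ext → ↥C0 → ZMod 2
  | [], _ => 0
  | e :: L, c => trQ L c + e.q (actC L.prod.p c)

theorem trQ_nil (c : ↥C0) : trQ [] c = 0 := rfl

theorem trQ_cons (e : Ext) (L : List Ext) (c : ↥C0) :
    trQ (e :: L) c = trQ L c + e.q (actC L.prod.p c) := rfl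

theorem prod_q (L : List Ext) (c : ↥C0) : L.prod.q c = trQ L c := by
  induction L with
  | nil => rfl
  | cons e L ih => rw [List.prod_cons, Ext.mul_q, ih, trQ_cons]

theorem q_zero (e : Ext) : e.q 0 = 0 := by
  have h := e.compat 0 0
  have h0 : psi e.p.1 (0 : ↥C0).1 (0 : ↥C0).1 = 0 := by
    show psi e.p.1 0 0 = 0
    unfold psi; rw [pa_zero]; exact z2_add_self _
  rw [h0, add_zero] at h
  generalize e.q 0 = a at h
  revert a; decide

/-! ### words in the five letters -/

/-- the image of a mask under a word (the last letter acts first) -/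
noncomputable def applyWord : List (Fin 5) → ℕ → ℕ
  | [], c => c
  | k :: w, c => applyMask (PP k) (applyWord w c)

theorem applyWord_nil (c : ℕ) : applyWord [] c = c := rfl

theorem applyWord_cons (k : Fin 5) (w : List (Fin 5)) (c : ℕ) :
    applyWord (k :: w) c = applyMask (PP k) (applyWord w c) := rfl

/-- the list of arguments at which the quadratic part of the lift of letter `k` is evaluated in
the product along the word `w`, applied to the mask `c` -/
noncomputable def colW (k : Fin 5) : List (Fin 5) → ℕ → List ℕ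
  | [], _ => []
  | k' :: w, c => if k' = k then applyWord w c :: colW k w c else colW k w c

theorem colW_nil (k : Fin 5) (c : ℕ) : colW k [] c = [] := rfl

theorem colW_cons (k k' : Fin 5) (w : List (Fin 5)) (c : ℕ) :
    colW k (k' :: w) c = if k' = k then applyWord w c :: colW k w c else colW k w c := rfl

/-- the image of a point number under a word -/
def imgWord : List (Fin 5) → ℕ → ℕ
  | [], i => i
  | k :: w, i => img (PP k) (imgWord w i)

theorem imgWord_nil (i : ℕ) : imgWord [] i = i := rfl

theorem imgWord_cons (k : Fin 5) (w : List (Fin 5)) (i : ℕ) :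
    imgWord (k :: w) i = img (PP k) (imgWord w i) := rfl

theorem word_apply_dec (w : List (Fin 5)) (i : ℕ) (hi : i < 24) :
    imgWord w i < 24 ∧ (w.map fun k => permOf (PP k)).prod (dec i) = dec (imgWord w i) := by
  induction w with
  | nil => exact ⟨hi, rfl⟩
  | cons k w ih =>
    rw [imgWord_cons, List.map_cons, List.prod_cons, Equiv.Perm.mul_apply, ih.2,
      permOf_apply_dec _ (PP_isPerm k) _ ih.1]
    exact ⟨img_lt_of_isPerm _ (PP_isPerm k) _ ih.1, rfl⟩

/-- kernel-checkable test that a word represents the identity -/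
def isIdWord (w : List (Fin 5)) : Bool :=
  (List.range 24).all fun i => Nat.beq (imgWord w i) i

theorem word_eq_one (w : List (Fin 5)) (h : isIdWord w = true) : (w.map pk).prod = 1 := by
  apply Subtype.ext
  rw [SubmonoidClass.coe_list_prod, List.map_map]
  show (w.map fun k => permOf (PP k)).prod = 1
  apply Equiv.ext
  intro p
  unfold isIdWord at h
  rw [List.all_eq_true] at h
  have h1 := h (enc p) (List.mem_range.mpr (enc_lt p))
  rw [nat_beq_iff] at h1
  have h2 := (word_apply_dec w (enc p) (enc_lt p)).2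
  rw [dec_enc, h1, dec_enc] at h2
  rw [h2]; rfl

section Lift
variable (lift : Fin 5 → Ext) (hl : ∀ k, (lift k).p = pk k)
include hl

theorem lift_prod_p (w : List (Fin 5)) : (w.map lift).prod.p = (w.map pk).prod := by
  induction w with
  | nil => rfl
  | cons k w ih => rw [List.map_cons, List.prod_cons, Ext.mul_p, ih, hl, List.map_cons,
      List.prod_cons]

theorem prod_p_apply (w : List (Fin 5)) {c : ℕ} (hc : wordOf c ∈ C0) :
    wordOf (applyWord w c) ∈ C0 ∧
      actC ((w.map lift).prod.p) (toC0 c) = toC0 (applyWord w c) := by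
  induction w with
  | nil => exact ⟨hc, actC_one _⟩
  | cons k w ih =>
    rw [List.map_cons, List.prod_cons, Ext.mul_p, actC_mul, ih.2, hl, applyWord_cons]
    exact actC_toC0 k ih.1

theorem trQ_eq (w : List (Fin 5)) {c : ℕ} (hc : wordOf c ∈ C0) :
    trQ (w.map lift) (toC0 c)
      = ∑ k : Fin 5, ((colW k w c).map fun m => (lift k).q (toC0 m)).sum := by
  induction w with
  | nil =>
    rw [List.map_nil, trQ_nil]
    symm
    exact Finset.sum_eq_zero fun k _ => by rw [colW_nil, List.map_nil, List.sum_nil]
  | cons k' w ih =>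
    rw [List.map_cons, trQ_cons, ih, (prod_p_apply lift hl w hc).2]
    have hk : ∀ k : Fin 5, ((colW k (k' :: w) c).map fun m => (lift k).q (toC0 m)).sum
        = (if k' = k then (lift k).q (toC0 (applyWord w c)) else 0)
          + ((colW k w c).map fun m => (lift k).q (toC0 m)).sum := by
      intro k
      rw [colW_cons]
      split_ifs with h
      · rw [List.map_cons, List.sum_cons]
      · rw [zero_add]
    rw [Finset.sum_congr rfl fun k _ => hk k, Finset.sum_add_distrib, Finset.sum_ite_eq,
      if_pos (Finset.mem_univ k'), add_comm]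

end Lift

/-! ### sums along a column -/

/-- xor of a list of masks -/
def xorAll : List ℕ → ℕ
  | [] => 0
  | v :: L => Nat.xor v (xorAll L)

theorem xorAll_nil : xorAll [] = 0 := rfl

theorem xorAll_cons (v : ℕ) (L : List ℕ) : xorAll (v :: L) = v ^^^ xorAll L := rfl

/-- `psi` on masks (as a natural number, to be read modulo 2) -/
noncomputable def psiN (P v A : ℕ) : ℕ :=
  Nat.add (phiN v A) (phiN (applyMask P v) (applyMask P A))

theorem psi_wordOf (P : ℕ) (hP : isPerm P = true) (v A : ℕ) :
    psi (permOf P) (wordOf v) (wordOf A) = ((psiN P v A : ℕ) : ZMod 2) := by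
  unfold psi psiN
  rw [pa_wordOf P hP, pa_wordOf P hP, ph_wordOf, ph_wordOf]
  show _ = ((phiN v A + phiN (applyMask P v) (applyMask P A) : ℕ) : ZMod 2)
  rw [Nat.cast_add]

/-- the constant produced by summing a quadratic function with polarisation `psi` along a list -/
noncomputable def cstN (P : ℕ) : List ℕ → ℕ
  | [] => 0
  | v :: L => Nat.add (cstN P L) (psiN P v (xorAll L))

theorem cstN_nil (P : ℕ) : cstN P [] = 0 := rfl

theorem cstN_cons (P v : ℕ) (L : List ℕ) :
    cstN P (v :: L) = cstN P L + psiN P v (xorAll L) := rfl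

theorem col_sum (e : Ext) (P : ℕ) (hP : isPerm P = true) (he : e.p.1 = permOf P) (L : List ℕ)
    (hL : ∀ m ∈ L, wordOf m ∈ C0) :
    wordOf (xorAll L) ∈ C0 ∧
      (L.map fun m => e.q (toC0 m)).sum = e.q (toC0 (xorAll L)) + ((cstN P L : ℕ) : ZMod 2) := by
  induction L with
  | nil =>
    refine ⟨wordOf_zero_mem, ?_⟩
    rw [List.map_nil, List.sum_nil, xorAll_nil, toC0_zero, q_zero, cstN_nil, Nat.cast_zero,
      add_zero]
  | cons v L ih =>
    have hv : wordOf v ∈ C0 := hL v List.mem_cons_self
    obtain ⟨hA, hs⟩ := ih fun m hm => hL m (List.mem_cons_of_mem _ hm)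
    refine ⟨wordOf_xor_mem hv hA, ?_⟩
    rw [List.map_cons, List.sum_cons, hs, xorAll_cons, toC0_xor hv hA, cstN_cons, Nat.cast_add]
    have hc := e.compat (toC0 v) (toC0 (xorAll L))
    rw [he, toC0_val hv, toC0_val hA, psi_wordOf P hP] at hc
    clear hs ih hL
    generalize e.q (toC0 v + toC0 (xorAll L)) = a1 at *
    generalize e.q (toC0 v) = a2 at *
    generalize e.q (toC0 (xorAll L)) = a3 at *
    generalize ((psiN P v (xorAll L) : ℕ) : ZMod 2) = a4 at *
    generalize ((cstN P L : ℕ) : ZMod 2) = a5 at *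
    revert a1 a2 a3 a4 a5; decide

end Cfsg.Agent.Lib.Helper28.PL
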