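import Mathlib
import Cfsg.Agent.Lib.Helper28.PLNat

/-!
# The annihilator of `C0` (helper28)

A word is orthogonal to all of `C0` iff it is a Golay code word or the translate of one by the unit
vector at the extra point.
-/

set_option autoImplicit false

open scoped Pointwise

namespace Cfsg.Agent.Lib.Helper28.PL
open Cfsg Cfsg.Agent.Lib.Helper28.GolayCode

theorem reenc_piv (w : V) (i : Fin 12) : reenc w (piv i) = w (piv i) := by
  have : reenc w = encLin (fun j => w (piv j)) := (encLin_apply _).symm
  rw [this, encLin_piv]

theorem kerCheck : allLoop (fun m =>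
    (!(allLoop (fun i => Nat.beq (Nat.land (popc (Nat.land m (genN i))) 1) 0) 11))
      || (Nat.beq m 0 || Nat.beq m 0xc75)) 4096 = true := by decide +kernel

theorem word_c75 : wordOf 0xc75 = G (Fin.last 11) + Pi.single none 1 := by decide +kernel

theorem ip_single_none {c : V} (hc : c ∈ C0) : ip (Pi.single none 1) c = 0 := by
  rw [ip_single_left]; exact hc.2

theorem orth_C0_iff (w : V) :
    (∀ c : V, c ∈ C0 → ip w c = 0) ↔
      (w ∈ golayCode ∨ w + Pi.single none 1 ∈ golayCode) := by
  constructor
  · intro h
    have hr_piv : ∀ j : Fin 12, (w + reenc w) (piv j) = 0 := by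
      intro j; rw [Pi.add_apply, reenc_piv]; exact z2_add_self _
    have hr_orth : ∀ i : Fin 11, ip (w + reenc w) (bb i) = 0 := by
      intro i
      rw [ip_add_left, h _ (bb_mem_C0 i), ip_code (reenc_mem w) (bb_mem_code i), add_zero]
    have hw : w = reenc w + (w + reenc w) := by
      rw [add_comm w, ← add_assoc, v_add_self, zero_add]
    generalize w + reenc w = r at hr_piv hr_orth hw
    have hrm : wordOf (maskOf (support₂ r)) = r := wordOf_maskOf_support r
    have hm24 := maskOf_lt (support₂ r)
    generalize maskOf (support₂ r) = m at hrm hm24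
    subst hrm
    have hm : m < 4096 := by
      show m < 2 ^ 12
      apply Nat.lt_pow_two_of_testBit
      intro k hk
      by_cases hk24 : k < 24
      · have h1 := hr_piv ⟨k - 12, by omega⟩
        have h2 : piv ⟨k - 12, by omega⟩ = dec k := by
          unfold piv; congr 1; show 12 + (k - 12) = k; omega
        rw [h2, wordOf_apply, enc_dec k hk24] at h1
        by_contra hne
        rw [Bool.not_eq_false] at hne
        rw [if_pos hne] at h1
        exact one_ne_zero h1
      · exact Nat.testBit_lt_two_pow (lt_of_lt_of_le hm24
          (Nat.pow_le_pow_right (by norm_num) (by omega)))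
    have hchk := (allLoop_eq_true _ _).mp kerCheck m hm
    have hinner : allLoop (fun i => Nat.beq (Nat.land (popc (Nat.land m (genN i))) 1) 0) 11
        = true := by
      rw [allLoop_eq_true]
      intro i hi
      rw [nat_beq_iff]
      have h1 := hr_orth ⟨i, hi⟩
      unfold bb G at h1
      rw [ip_wordOf, ← genN_eq, ZMod.natCast_eq_zero_iff] at h1
      show (popc (m &&& genN i)) &&& 1 = 0
      rw [Nat.and_one_is_mod]
      exact Nat.mod_eq_zero_of_dvd h1
    rw [hinner] at hchk
    simp only [Bool.not_true, Bool.false_or, Bool.or_eq_true, nat_beq_iff] at hchk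
    rcases hchk with rfl | rfl
    · left
      rw [hw, wordOf_zero, add_zero]; exact reenc_mem w
    · right
      rw [hw, word_c75]
      have : reenc w + (G (Fin.last 11) + Pi.single none 1) + Pi.single none 1
          = reenc w + G (Fin.last 11) := by
        rw [add_assoc, add_assoc, v_add_self, add_zero]
      rw [this]
      exact golayCode.add_mem (reenc_mem w) (G_mem _)
  · rintro (h | h) c hc
    · exact ip_code h hc.1
    · have : w = (w + Pi.single none 1) + Pi.single none 1 := by
        rw [add_assoc, v_add_self, add_zero]
      rw [this, ip_add_left, ip_code h hc.1, ip_single_none hc, add_zero]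

end Cfsg.Agent.Lib.Helper28.PL
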