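import Mathlib
import Cfsg.Agent.Lib.Helper28.PLCert
import Cfsg.Agent.Lib.Helper28.PLKer

/-!
# `Ext` has no complement to its normal subgroup `2^11` (helper28)
-/

set_option autoImplicit false

open scoped Pointwise

namespace Cfsg.Agent.Lib.Helper28.PL
open Cfsg Cfsg.Agent.Lib.Helper28.GolayCode

/-- the relators (words in the five letters representing the identity) with their test masks -/
def rels : List (List (Fin 5) × ℕ) :=
  [((List.replicate 14 [4, 1, 3]).flatten, 0x149f),
   ((List.replicate 6 [4, 2, 0]).flatten, 0x293e),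
   ((List.replicate 5 [4, 3, 3]).flatten, 0x83e7b),
   ((List.replicate 5 [4, 4, 1]).flatten, 0x3da1),
   ((List.replicate 5 [4, 4, 2]).flatten, 0x132b2),
   ((List.replicate 5 [4, 4, 3]).flatten, 0x149f),
   (List.replicate 15 4, 0xa4f8),
   ([0, 1], 0x96314),
   ([2, 3], 0x3b5cd0)]

/-- the column of letter `k` over a list of relators -/
noncomputable def colR (k : Fin 5) (R : List (List (Fin 5) × ℕ)) : List ℕ :=
  R.flatMap fun wc => colW k wc.1 wc.2

theorem colR_nil (k : Fin 5) : colR k [] = [] := rfl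

theorem colR_cons (k : Fin 5) (wc : List (Fin 5) × ℕ) (R : List (List (Fin 5) × ℕ)) :
    colR k (wc :: R) = colW k wc.1 wc.2 ++ colR k R := by
  unfold colR; rw [List.flatMap_cons]

theorem rels_id : rels.all (fun wc => isIdWord wc.1 && isC0N wc.2) = true := by decide +kernel

theorem rels_C0 : ∀ k : Fin 5, (colR k rels).all isC0N = true := by decide +kernel

theorem rels_xor : ∀ k : Fin 5, xorAll (colR k rels) = 0 := by decide +kernel

theorem rels_cst : (cstN (PP 0) (colR 0 rels) + cstN (PP 1) (colR 1 rels)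
    + cstN (PP 2) (colR 2 rels) + cstN (PP 3) (colR 3 rels) + cstN (PP 4) (colR 4 rels)) % 2 = 1 := by
  decide +kernel

section Lift
variable (lift : Fin 5 → Ext) (hl : ∀ k, (lift k).p = pk k)
include hl

theorem sum_colR (R : List (List (Fin 5) × ℕ)) (hR : ∀ wc ∈ R, wordOf wc.2 ∈ C0) :
    ∑ k : Fin 5, ((colR k R).map fun m => (lift k).q (toC0 m)).sum
      = (R.map fun wc => trQ (wc.1.map lift) (toC0 wc.2)).sum := by
  induction R with
  | nil =>
    rw [List.map_nil, List.sum_nil]
    exact Finset.sum_eq_zero fun k _ => by rw [colR_nil, List.map_nil, List.sum_nil]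
  | cons wc R ih =>
    rw [List.map_cons, List.sum_cons, ← ih fun x hx => hR x (List.mem_cons_of_mem _ hx),
      trQ_eq lift hl wc.1 (hR wc List.mem_cons_self), ← Finset.sum_add_distrib]
    refine Finset.sum_congr rfl fun k _ => ?_
    rw [colR_cons, List.map_append, List.sum_append]

end Lift

theorem two_eq_zero_z2 : ((1 : ℕ) : ZMod 2) ≠ 0 := by decide

/-- the extension does not split -/
theorem no_complement (H : Subgroup Ext) (h1 : H ⊓ Ext.proj.ker = ⊥) :
    H ⊔ Ext.proj.ker ≠ ⊤ := by
  intro h2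
  -- every element of `M23` lifts to `H`
  have hex : ∀ π : ↥Spor.M23, ∃ h ∈ H, h.p = π := by
    intro π
    obtain ⟨e, he⟩ := Ext.proj_surjective π
    have hmem : e ∈ (↑(H ⊔ Ext.proj.ker) : Set Ext) := by rw [h2]; trivial
    rw [Subgroup.mul_normal] at hmem
    obtain ⟨a, ha, b, hb, hab⟩ := Set.mem_mul.mp hmem
    refine ⟨a, ha, ?_⟩
    have hb1 : b.p = 1 := (Ext.mem_ker b).mp hb
    have : (a * b).p = π := by rw [hab]; exact he
    rw [Ext.mul_p, hb1, mul_one] at this
    exact this
  choose lift hlH hlp using fun k => hex (pk k)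
  -- the product of the lifts along a relator is trivial
  have hrel : ∀ wc ∈ rels, trQ (wc.1.map lift) (toC0 wc.2) = 0 := by
    intro wc hwc
    have hid := List.all_eq_true.mp rels_id wc hwc
    rw [Bool.and_eq_true] at hid
    have hp : (wc.1.map lift).prod.p = 1 := by
      rw [lift_prod_p lift hlp, word_eq_one _ hid.1]
    have hH : (wc.1.map lift).prod ∈ H := by
      apply Subgroup.list_prod_mem
      intro x hx
      obtain ⟨k, _, rfl⟩ := List.mem_map.mp hx
      exact hlH k
    have hN : (wc.1.map lift).prod ∈ Ext.proj.ker := (Ext.mem_ker _).mpr hp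
    have hbot : (wc.1.map lift).prod ∈ H ⊓ Ext.proj.ker := ⟨hH, hN⟩
    rw [h1, Subgroup.mem_bot] at hbot
    rw [← prod_q, hbot]; rfl
  have hC0 : ∀ wc ∈ rels, wordOf wc.2 ∈ C0 := by
    intro wc hwc
    have hid := List.all_eq_true.mp rels_id wc hwc
    rw [Bool.and_eq_true] at hid
    exact wordOf_mem_C0 _ hid.2
  have hsum := sum_colR lift hlp rels hC0
  have hzero : (rels.map fun wc => trQ (wc.1.map lift) (toC0 wc.2)).sum = 0 := by
    apply List.sum_eq_zero
    intro x hx
    obtain ⟨wc, hwc, rfl⟩ := List.mem_map.mp hx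
    exact hrel wc hwc
  rw [hzero] at hsum
  -- evaluate the columns
  have hcol : ∀ k : Fin 5, ((colR k rels).map fun m => (lift k).q (toC0 m)).sum
      = ((cstN (PP k) (colR k rels) : ℕ) : ZMod 2) := by
    intro k
    have hmem : ∀ m ∈ colR k rels, wordOf m ∈ C0 := fun m hm =>
      wordOf_mem_C0 m (List.all_eq_true.mp (rels_C0 k) m hm)
    have := (col_sum (lift k) (PP k) (PP_isPerm k) (by rw [hlp k]; rfl) (colR k rels) hmem).2
    rw [this, rels_xor k, toC0_zero, q_zero, zero_add]
  rw [Finset.sum_congr rfl fun k _ => hcol k, ← Nat.cast_sum, Fin.sum_univ_five,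
    ← ZMod.natCast_mod, rels_cst] at hsum
  exact two_eq_zero_z2 hsum

end Cfsg.Agent.Lib.Helper28.PL
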