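import Cfsg.Agent.Lib.Helper28.PcChain
set_option autoImplicit false

/-!
# Polycyclic chains with factors of order two

* `nfElt2 gs e`: the normal form `… g₂ ^ e₂ * g₁ ^ e₁` with the binary digits of `e`;
* `exists_nf2`: under the chain condition (squares and conjugates of later generators lie in the subgroup of
  the later generators) every element of the closure is a normal form;
* `card_cl2`: if moreover no generator is a normal form in the later ones, the closure has order `2 ^ n`;
* closures of commuting involutions are elementary abelian.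
-/

namespace Cfsg.Agent.Lib.Helper28.Pc2Chain
open Cfsg.Agent.Lib.Helper28.PcChain

variable {G : Type*} [Group G]

/-- normal form: the first generator carries the lowest digit and is the rightmost factor -/
def nfElt2 : List G → ℕ → G
  | [], _ => 1
  | g :: gs, e => nfElt2 gs (e / 2) * g ^ (e % 2)

/-- the chain condition -/
def Chain2 : List G → Prop
  | [] => True
  | g :: gs => g ^ 2 ∈ cl gs ∧ (∀ h ∈ gs, g * h * g⁻¹ ∈ cl gs) ∧ Chain2 gs

/-- no generator is a normal form in the later ones -/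
def Indep2 : List G → Prop
  | [] => True
  | g :: gs => (∀ e, e < 2 ^ gs.length → g ≠ nfElt2 gs e) ∧ Indep2 gs

theorem nfElt2_mem (gs : List G) (e : ℕ) : nfElt2 gs e ∈ cl gs := by
  induction gs generalizing e with
  | nil => exact Subgroup.one_mem _
  | cons g gs ih =>
    exact Subgroup.mul_mem _ (cl_le_cons g gs (ih _))
      (Subgroup.pow_mem _ (mem_cl_of_mem List.mem_cons_self) _)

theorem mem_normalizer_of_chain2 {g : G} {gs : List G} (h2 : g ^ 2 ∈ cl gs)
    (h : ∀ x ∈ gs, g * x * g⁻¹ ∈ cl gs) : g ∈ Subgroup.normalizer ((cl gs : Subgroup G) : Set G) := by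
  have hc := conj_mem_cl h
  rw [Subgroup.mem_normalizer_iff]
  intro x
  refine ⟨hc x, fun hx => ?_⟩
  -- x = g⁻² (g (g x g⁻¹) g⁻¹) g²
  have h1 := hc _ hx
  have h3 : (g ^ 2)⁻¹ * (g * (g * x * g⁻¹) * g⁻¹) * g ^ 2 ∈ cl gs :=
    Subgroup.mul_mem _ (Subgroup.mul_mem _ (Subgroup.inv_mem _ h2) h1) h2
  have e : (g ^ 2)⁻¹ * (g * (g * x * g⁻¹) * g⁻¹) * g ^ 2 = x := by group
  rwa [e] at h3

/-- powers of an element whose square lies in a subgroup -/
theorem exists_pow_of_mem_zpowers2 {g z : G} (H : Subgroup G) (h2 : g ^ 2 ∈ H)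
    (hz : z ∈ Subgroup.zpowers g) : ∃ u ∈ H, ∃ a, a < 2 ∧ z = u * g ^ a := by
  obtain ⟨k, rfl⟩ := Subgroup.mem_zpowers_iff.mp hz
  have hk0 : 0 ≤ k % 2 := Int.emod_nonneg _ (by norm_num)
  have hk2 : k % 2 < 2 := Int.emod_lt_of_pos _ (by norm_num)
  refine ⟨(g ^ 2) ^ (k / 2), Subgroup.zpow_mem _ h2 _, (k % 2).toNat, by omega, ?_⟩
  have e : k = 2 * (k / 2) + k % 2 := (Int.mul_ediv_add_emod k 2).symm
  conv_lhs => rw [e]
  rw [zpow_add, zpow_mul, ← zpow_natCast g (k % 2).toNat, Int.toNat_of_nonneg hk0]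
  norm_cast

theorem exists_nf2 (gs : List G) (h : Chain2 gs) :
    ∀ x ∈ cl gs, ∃ e, e < 2 ^ gs.length ∧ x = nfElt2 gs e := by
  induction gs with
  | nil =>
    intro x hx
    rw [cl_nil, Subgroup.mem_bot] at hx
    exact ⟨0, by simp, hx⟩
  | cons g gs ih =>
    obtain ⟨h2, hconj, hch⟩ := h
    intro x hx
    rw [cl_cons] at hx
    have hn : Subgroup.zpowers g ≤ Subgroup.normalizer ((cl gs : Subgroup G) : Set G) :=
      Subgroup.zpowers_le.mpr (mem_normalizer_of_chain2 h2 hconj)
    have hx' : x ∈ ((cl gs ⊔ Subgroup.zpowers g : Subgroup G) : Set G) := hx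
    rw [Subgroup.coe_mul_of_right_le_normalizer_left _ _ hn] at hx'
    obtain ⟨u, hu, z, hz, rfl⟩ := Set.mem_mul.mp hx'
    obtain ⟨u', hu', a, ha, rfl⟩ := exists_pow_of_mem_zpowers2 (cl gs) h2 hz
    obtain ⟨e', he', he⟩ := ih hch (u * u') (Subgroup.mul_mem _ hu hu')
    refine ⟨2 * e' + a, ?_, ?_⟩
    · rw [List.length_cons, pow_succ]; omega
    · show _ = nfElt2 gs ((2 * e' + a) / 2) * g ^ ((2 * e' + a) % 2)
      have e1 : (2 * e' + a) / 2 = e' := by omega
      have e2 : (2 * e' + a) % 2 = a := by omega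
      rw [e1, e2, ← he, mul_assoc]

theorem nf_inj2 (gs : List G) (h : Chain2 gs) (hi : Indep2 gs) :
    ∀ e e', e < 2 ^ gs.length → e' < 2 ^ gs.length → nfElt2 gs e = nfElt2 gs e' → e = e' := by
  induction gs with
  | nil =>
    intro e e' he he' _
    simp at he he'
    omega
  | cons g gs ih =>
    obtain ⟨h2, hconj, hch⟩ := h
    obtain ⟨hne, hin⟩ := hi
    intro e e' he he' heq
    rw [List.length_cons, pow_succ] at he he'
    have heq' : nfElt2 gs (e / 2) * g ^ (e % 2) = nfElt2 gs (e' / 2) * g ^ (e' % 2) := heq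
    have hg : g ∉ cl gs := by
      intro hg
      obtain ⟨c, hc, hgc⟩ := exists_nf2 gs hch g hg
      exact hne c hc hgc
    have hmem : g ^ (e % 2) * (g ^ (e' % 2))⁻¹ ∈ cl gs := by
      have : g ^ (e % 2) * (g ^ (e' % 2))⁻¹ = (nfElt2 gs (e / 2))⁻¹ * nfElt2 gs (e' / 2) := by
        have h1 : g ^ (e % 2) = (nfElt2 gs (e / 2))⁻¹ * (nfElt2 gs (e' / 2) * g ^ (e' % 2)) := by
          rw [← heq']; group
        rw [h1]; group
      rw [this]
      exact Subgroup.mul_mem _ (Subgroup.inv_mem _ (nfElt2_mem _ _)) (nfElt2_mem _ _)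
    have hr : e % 2 = e' % 2 := by
      have hlt : e % 2 < 2 := Nat.mod_lt _ (by norm_num)
      have hlt' : e' % 2 < 2 := Nat.mod_lt _ (by norm_num)
      by_contra hne'
      generalize e % 2 = r at hmem hlt hne'
      generalize e' % 2 = r' at hmem hlt' hne'
      interval_cases r <;> interval_cases r' <;> simp at hne'
      · apply hg
        have : g = (g ^ 0 * (g ^ 1)⁻¹)⁻¹ := by group
        rw [this]; exact Subgroup.inv_mem _ hmem
      · apply hg
        have : g = g ^ 1 * (g ^ 0)⁻¹ := by group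
        rw [this]; exact hmem
    rw [hr] at heq'
    have h4 := ih hch hin (e / 2) (e' / 2) (by omega) (by omega) (mul_right_cancel heq')
    omega

theorem card_cl2 (gs : List G) (h : Chain2 gs) (hi : Indep2 gs) :
    Nat.card (cl gs) = 2 ^ gs.length := by
  let f : Fin (2 ^ gs.length) → cl gs := fun e => ⟨nfElt2 gs e.val, nfElt2_mem gs e.val⟩
  have hf : Function.Bijective f := by
    constructor
    · intro a b hab
      apply Fin.ext
      exact nf_inj2 gs h hi a.val b.val a.2 b.2 (congrArg Subtype.val hab)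
    · rintro ⟨x, hx⟩
      obtain ⟨e, he, rfl⟩ := exists_nf2 gs h x hx
      exact ⟨⟨e, he⟩, rfl⟩
  rw [← Nat.card_congr (Equiv.ofBijective f hf), Nat.card_fin]

/-! ### Tails of chains -/

theorem chain2_drop (gs : List G) (h : Chain2 gs) (k : ℕ) : Chain2 (gs.drop k) := by
  induction k generalizing gs with
  | zero => simpa using h
  | succ k ih =>
    cases gs with
    | nil => simpa using h
    | cons g gs => exact ih gs h.2.2

theorem indep2_drop (gs : List G) (h : Indep2 gs) (k : ℕ) : Indep2 (gs.drop k) := by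
  induction k generalizing gs with
  | zero => simpa using h
  | succ k ih =>
    cases gs with
    | nil => simpa using h
    | cons g gs => exact ih gs h.2

/-- a normal form whose lowest `k` digits vanish lies in the closure of the tail -/
theorem nfElt2_mem_drop (gs : List G) (k e : ℕ) (h : e % 2 ^ k = 0) : nfElt2 gs e ∈ cl (gs.drop k) := by
  induction k generalizing gs e with
  | zero => simpa using nfElt2_mem gs e
  | succ k ih =>
    cases gs with
    | nil => exact Subgroup.one_mem _
    | cons g gs =>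
      have h0 : e % 2 = 0 := by
        have : 2 ∣ 2 ^ (k + 1) := ⟨2 ^ k, by ring⟩
        have h1 := Nat.mod_mod_of_dvd e this
        omega
      have h1 : (e / 2) % 2 ^ k = 0 := by
        have hd : 2 ^ (k + 1) ∣ e := Nat.dvd_of_mod_eq_zero h
        obtain ⟨c, rfl⟩ := hd
        have : 2 ^ (k + 1) * c / 2 = 2 ^ k * c := by
          rw [pow_succ]
          have : 2 ^ k * 2 * c = 2 * (2 ^ k * c) := by ring
          rw [this, Nat.mul_div_cancel_left _ (by norm_num : 0 < 2)]
        rw [this, Nat.mul_mod_right]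
      show nfElt2 gs (e / 2) * g ^ (e % 2) ∈ cl (gs.drop k)
      rw [h0, pow_zero, mul_one]
      exact ih gs (e / 2) h1

/-- a normal form of the tail is a normal form of the list -/
theorem nfElt2_drop (gs : List G) (k e : ℕ) (hk : k ≤ gs.length) :
    nfElt2 (gs.drop k) e = nfElt2 gs (2 ^ k * e) := by
  induction k generalizing gs with
  | zero => simp
  | succ k ih =>
    cases gs with
    | nil => simp at hk
    | cons g gs =>
      have hk' : k ≤ gs.length := by simpa using hk
      show nfElt2 (gs.drop k) e = nfElt2 gs (2 ^ (k + 1) * e / 2) * g ^ (2 ^ (k + 1) * e % 2)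
      have e1 : 2 ^ (k + 1) * e / 2 = 2 ^ k * e := by
        have : 2 ^ (k + 1) * e = 2 * (2 ^ k * e) := by ring
        rw [this, Nat.mul_div_cancel_left _ (by norm_num : 0 < 2)]
      have e2 : 2 ^ (k + 1) * e % 2 = 0 := by
        have : 2 ^ (k + 1) * e = 2 * (2 ^ k * e) := by ring
        rw [this, Nat.mul_mod_right]
      rw [e1, e2, pow_zero, mul_one]
      exact ih gs hk'

/-! ### Commuting involutions -/

theorem comm_gen_of_cl {gs : List G} (hc : ∀ a ∈ gs, ∀ b ∈ gs, a * b = b * a) :
    ∀ x ∈ cl gs, ∀ y ∈ gs, x * y = y * x := by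
  intro x hx y hy
  unfold cl at hx
  induction hx using Subgroup.closure_induction with
  | mem x hx => exact hc x hx y hy
  | one => simp
  | mul a b _ _ ha hb =>
    calc a * b * y = a * (b * y) := mul_assoc _ _ _
      _ = a * (y * b) := by rw [hb]
      _ = (a * y) * b := (mul_assoc _ _ _).symm
      _ = (y * a) * b := by rw [ha]
      _ = y * (a * b) := mul_assoc _ _ _
  | inv a _ ha =>
    calc a⁻¹ * y = a⁻¹ * (y * a) * a⁻¹ := by group
      _ = a⁻¹ * (a * y) * a⁻¹ := by rw [ha]
      _ = y * a⁻¹ := by group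

theorem comm_of_cl {gs : List G} (hc : ∀ a ∈ gs, ∀ b ∈ gs, a * b = b * a) :
    ∀ x ∈ cl gs, ∀ y ∈ cl gs, x * y = y * x := by
  intro x hx y hy
  unfold cl at hy
  induction hy using Subgroup.closure_induction with
  | mem y hy => exact comm_gen_of_cl hc x hx y hy
  | one => simp
  | mul a b _ _ ha hb =>
    calc x * (a * b) = (x * a) * b := (mul_assoc _ _ _).symm
      _ = (a * x) * b := by rw [ha]
      _ = a * (x * b) := mul_assoc _ _ _
      _ = a * (b * x) := by rw [hb]
      _ = a * b * x := (mul_assoc _ _ _).symm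
  | inv a _ ha =>
    calc x * a⁻¹ = a⁻¹ * (a * x) * a⁻¹ := by group
      _ = a⁻¹ * (x * a) * a⁻¹ := by rw [ha]
      _ = a⁻¹ * x := by group

theorem sq_of_cl {gs : List G} (hc : ∀ a ∈ gs, ∀ b ∈ gs, a * b = b * a) (h2 : ∀ a ∈ gs, a ^ 2 = 1) :
    ∀ x ∈ cl gs, x ^ 2 = 1 := by
  intro x hx
  have hcomm := comm_of_cl hc
  have hx0 := hx
  unfold cl at hx
  induction hx using Subgroup.closure_induction with
  | mem x hx => exact h2 x hx
  | one => simp
  | mul x y hx hy ihx ihy =>
    have hx' : x ∈ cl gs := hx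
    have hy' : y ∈ cl gs := hy
    have e : (x * y) ^ 2 = x ^ 2 * y ^ 2 := by
      rw [pow_two, pow_two, pow_two]
      calc x * y * (x * y) = x * (y * x) * y := by group
        _ = x * (x * y) * y := by rw [hcomm y hy' x hx']
        _ = x * x * (y * y) := by group
    rw [e, ihx hx', ihy hy', one_mul]
  | inv x hx ihx =>
    have hx' : x ∈ cl gs := hx
    rw [inv_pow, ihx hx', inv_one]

/-- an involution that conjugates the generators into the closure normalises it -/
theorem conj_invol_mem_iff {g : G} {vs : List G} (hg : g ^ 2 = 1) (h : ∀ x ∈ vs, g * x * g⁻¹ ∈ cl vs) :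
    g ∈ Subgroup.normalizer ((cl vs : Subgroup G) : Set G) := by
  have hc := conj_mem_cl h
  rw [Subgroup.mem_normalizer_iff]
  intro x
  refine ⟨hc x, fun hx => ?_⟩
  have h1 := hc _ hx
  have e : g * (g * x * g⁻¹) * g⁻¹ = (g ^ 2) * x * (g ^ 2)⁻¹ := by
    rw [pow_two]; group
  rw [e, hg] at h1
  simpa using h1

theorem conj_mem_of_gens {gs vs : List G} (hg : ∀ g ∈ gs, g ^ 2 = 1)
    (h : ∀ g ∈ gs, ∀ x ∈ vs, g * x * g⁻¹ ∈ cl vs) :
    ∀ s ∈ cl gs, ∀ v ∈ cl vs, s * v * s⁻¹ ∈ cl vs := by
  have hle : cl gs ≤ Subgroup.normalizer ((cl vs : Subgroup G) : Set G) := by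
    unfold cl
    rw [Subgroup.closure_le]
    intro g hg'
    exact conj_invol_mem_iff (hg g hg') (h g hg')
  intro s hs v hv
  exact (Subgroup.mem_normalizer_iff.mp (hle hs) v).mp hv

end Cfsg.Agent.Lib.Helper28.Pc2Chain
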