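import Cfsg.Agent.Lib.Helper28.SubTab
import Cfsg.Agent.Lib.Helper28.Pc2Chain
set_option autoImplicit false

/-!
# Checkers for a polycyclic 2-group generated by involutions, given by a small table

* the chain condition and the independence of the letters (so that the group has order `2 ^ n`);
* commuting letters, letters normalising the subgroup of other letters;
* certificates that an element is not an involution commuting with all its conjugates.
-/

namespace Cfsg.Agent.Lib.Helper28.Pc2Cert
open Cfsg.Agent.Lib.Helper28.TC2Upper Cfsg.Agent.Lib.Helper28.TC2Lower Cfsg.Agent.Lib.Helper28.TC2Range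
open Cfsg.Agent.Lib.Helper28.TC2Bsgs Cfsg.Agent.Lib.Helper28.PcChain Cfsg.Agent.Lib.Helper28.PcCert
open Cfsg.Agent.Lib.Helper28.Pc2Chain Cfsg.Agent.Lib.Helper28.SubTab

/-! ### Normal forms as paths -/

/-- path of the normal form with code `e` in the letters `PL` -/
noncomputable def nfPath2 (PL : List ℕ) : ℕ → List ℕ :=
  @List.rec ℕ (fun _ => ℕ → List ℕ) (fun _ => [])
    (fun l _ ih e => force (Nat.mod e 2) fun d => force (Nat.div e 2) fun e' =>
      List.append (cond (Nat.beq d 1) [l] []) (ih e')) PL

theorem nfPath2_nil (e : ℕ) : nfPath2 [] e = [] := rfl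

theorem nfPath2_cons (l : ℕ) (PL : List ℕ) (e : ℕ) :
    nfPath2 (l :: PL) e = cond (Nat.beq (e % 2) 1) [l] [] ++ nfPath2 PL (e / 2) := by
  show force (Nat.mod e 2) (fun d => force (Nat.div e 2) fun e' =>
      List.append (cond (Nat.beq d 1) [l] []) (nfPath2 PL e')) = _
  rw [force_eq, force_eq]
  rfl

theorem nfPath2_lt {PL : List ℕ} {k : ℕ} (h : ∀ l ∈ PL, l < k) (e : ℕ) : ∀ x ∈ nfPath2 PL e, x < k := by
  induction PL generalizing e with
  | nil => intro x hx; simp [nfPath2_nil] at hx
  | cons l PL ih =>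
    intro x hx
    rw [nfPath2_cons, List.mem_append] at hx
    rcases hx with hx | hx
    · cases hb : Nat.beq (e % 2) 1 <;> rw [hb] at hx
      · simp at hx
      · simp only [cond_true, List.mem_singleton] at hx
        rw [hx]; exact h l List.mem_cons_self
    · exact ih (fun q hq => h q (List.mem_cons_of_mem _ hq)) _ x hx

theorem ltAll_nfPath2 {PL : List ℕ} {k : ℕ} (h : ∀ l ∈ PL, l < k) (e : ℕ) :
    ltAll k (nfPath2 PL e) = true := (ltAll_iff _ _).mpr (nfPath2_lt h e)

theorem nfPath2_mem {PL : List ℕ} (e : ℕ) : ∀ x ∈ nfPath2 PL e, x ∈ PL := by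
  induction PL generalizing e with
  | nil => intro x hx; simp [nfPath2_nil] at hx
  | cons l PL ih =>
    intro x hx
    rw [nfPath2_cons, List.mem_append] at hx
    rcases hx with hx | hx
    · cases hb : Nat.beq (e % 2) 1 <;> rw [hb] at hx
      · simp at hx
      · simp only [cond_true, List.mem_singleton] at hx
        rw [hx]; exact List.mem_cons_self
    · exact List.mem_cons_of_mem _ (ih _ x hx)

theorem pathProd_nfPath2 {X : Type*} [Group X] (η : ℕ → X) (PL : List ℕ) (e : ℕ) :
    pathProd η (nfPath2 PL e) = nfElt2 (PL.map η) e := by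
  induction PL generalizing e with
  | nil => rfl
  | cons l PL ih =>
    rw [nfPath2_cons, pathProd_append, ih]
    show nfElt2 (PL.map η) (e / 2) * _ = nfElt2 (PL.map η) (e / 2) * η l ^ (e % 2)
    congr 1
    have hlt : e % 2 < 2 := Nat.mod_lt _ (by norm_num)
    generalize e % 2 = d at hlt
    interval_cases d
    · show pathProd η [] = η l ^ 0
      simp [pathProd]
    · show pathProd η [l] = η l ^ 1
      simp [pathProd]

/-- walking along a normal form -/
noncomputable def walkNF (T : Table) (PL : List ℕ) : ℕ → ℕ → ℕ :=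
  @List.rec ℕ (fun _ => ℕ → ℕ → ℕ) (fun _ p => p)
    (fun l _ ih e p => force (cond (Nat.beq (Nat.mod e 2) 1) (T.tau l p) p) fun p' =>
      force (Nat.div e 2) fun e' => ih e' p') PL

theorem walkNF_eq (T : Table) (PL : List ℕ) (e p : ℕ) : walkNF T PL e p = T.walkT (nfPath2 PL e) p := by
  induction PL generalizing e p with
  | nil => rfl
  | cons l PL ih =>
    have h1 : walkNF T (l :: PL) e p =
        walkNF T PL (e / 2) (cond (Nat.beq (e % 2) 1) (T.tau l p) p) := by
      show force (cond (Nat.beq (Nat.mod e 2) 1) (T.tau l p) p) (fun p' =>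
        force (Nat.div e 2) fun e' => walkNF T PL e' p') = _
      rw [force_eq, force_eq]
      rfl
    rw [h1, ih, nfPath2_cons, Table.walkT_append]
    cases Nat.beq (e % 2) 1
    · rfl
    · show _ = T.walkT (nfPath2 PL (e / 2)) (T.walkT [l] p)
      rw [TC2Lower.Table.walkT_cons, TC2Lower.Table.walkT_nil]
      rfl

/-! ### The chain condition -/

section Chk
variable (T : Table) (B : List ℕ)

/-- the conjugates of the later letters by the involution `l` are normal forms in the letters `rest` -/
noncomputable def chkConjI (l : ℕ) (rest : List ℕ) : List ℕ → List ℕ → Bool :=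
  @List.rec ℕ (fun _ => List ℕ → Bool) (fun _ => true)
    (fun q _ ih cs => @List.rec ℕ (fun _ => Bool) false
      (fun c cs' _ => and (agreeB T B [l, q, l] (nfPath2 rest c)) (ih cs')) cs)

theorem chkConjI_cons_nil (l : ℕ) (rest : List ℕ) (q : ℕ) (qs : List ℕ) :
    chkConjI T B l rest (q :: qs) [] = false := rfl
theorem chkConjI_cons_cons (l : ℕ) (rest : List ℕ) (q : ℕ) (qs : List ℕ) (c : ℕ) (cs : List ℕ) :
    chkConjI T B l rest (q :: qs) (c :: cs) =
      (agreeB T B [l, q, l] (nfPath2 rest c) && chkConjI T B l rest qs cs) := rfl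

theorem chkConjI_sound (l : ℕ) (rest : List ℕ) :
    ∀ (qs : List ℕ) (cs : List ℕ), chkConjI T B l rest qs cs = true →
      ∀ q ∈ qs, ∃ c, agreeB T B [l, q, l] (nfPath2 rest c) = true := by
  intro qs
  induction qs with
  | nil => intro cs _ q hq; simp at hq
  | cons q0 qs ih =>
    intro cs h q hq
    cases cs with
    | nil => rw [chkConjI_cons_nil] at h; exact absurd h (by simp)
    | cons c cs =>
      rw [chkConjI_cons_cons, Bool.and_eq_true] at h
      rcases List.mem_cons.mp hq with rfl | hq'
      · exact ⟨c, h.1⟩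
      · exact ih cs h.2 q hq'

/-- the chain condition for the involution letters `PL`, with the codes of the conjugates -/
noncomputable def chkChainI (k : ℕ) : List ℕ → List (List ℕ) → Bool :=
  @List.rec ℕ (fun _ => List (List ℕ) → Bool) (fun _ => true)
    (fun l rest ih css => @List.rec (List ℕ) (fun _ => Bool) false
      (fun cs css' _ => and (and (Nat.blt l k) (agreeB T B [l, l] []))
        (and (chkConjI T B l rest rest cs) (ih css'))) css)

theorem chkChainI_cons_nil (k : ℕ) (l : ℕ) (rest : List ℕ) : chkChainI T B k (l :: rest) [] = false := rfl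
theorem chkChainI_cons_cons (k : ℕ) (l : ℕ) (rest : List ℕ) (cs : List ℕ) (css : List (List ℕ)) :
    chkChainI T B k (l :: rest) (cs :: css) =
      ((Nat.blt l k && agreeB T B [l, l] []) && (chkConjI T B l rest rest cs && chkChainI T B k rest css)) := rfl

/-- the letters `GLs` conjugate the letters `VL` to normal forms in `VL` -/
noncomputable def chkNorm (VL : List ℕ) : List ℕ → List (List ℕ) → Bool :=
  @List.rec ℕ (fun _ => List (List ℕ) → Bool) (fun _ => true)
    (fun l _ ih css => @List.rec (List ℕ) (fun _ => Bool) false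
      (fun cs css' _ => and (chkConjI T B l VL VL cs) (ih css')) css)

theorem chkNorm_cons_nil (VL : List ℕ) (l : ℕ) (rest : List ℕ) : chkNorm T B VL (l :: rest) [] = false := rfl
theorem chkNorm_cons_cons (VL : List ℕ) (l : ℕ) (rest : List ℕ) (cs : List ℕ) (css : List (List ℕ)) :
    chkNorm T B VL (l :: rest) (cs :: css) = (chkConjI T B l VL VL cs && chkNorm T B VL rest css) := rfl

/-- the letters `VL` commute with the letter `a` -/
noncomputable def chkComm1 (a : ℕ) : List ℕ → Bool :=
  @List.rec ℕ (fun _ => Bool) true (fun b _ ih => and (agreeB T B [a, b] [b, a]) ih)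

/-- the letters of `UL` commute with the letters of `VL` -/
noncomputable def chkComm (VL : List ℕ) : List ℕ → Bool :=
  @List.rec ℕ (fun _ => Bool) true (fun a _ ih => and (chkComm1 T B a VL) ih)

theorem chkComm1_iff (a : ℕ) (VL : List ℕ) :
    chkComm1 T B a VL = true ↔ ∀ b ∈ VL, agreeB T B [a, b] [b, a] = true := by
  induction VL with
  | nil => simp [chkComm1]
  | cons b bs ih =>
    show (agreeB T B [a, b] [b, a] && chkComm1 T B a bs) = true ↔ _
    rw [Bool.and_eq_true, ih]
    simp

theorem chkComm_iff (VL UL : List ℕ) :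
    chkComm T B VL UL = true ↔ ∀ a ∈ UL, ∀ b ∈ VL, agreeB T B [a, b] [b, a] = true := by
  induction UL with
  | nil => simp [chkComm]
  | cons a as ih =>
    show (chkComm1 T B a VL && chkComm T B VL as) = true ↔ _
    rw [Bool.and_eq_true, ih, chkComm1_iff]
    simp

/-- the letter `l` and the normal form with code `e` in `rest` agree on the base -/
noncomputable def agreeNF (l : ℕ) (rest : List ℕ) (e : ℕ) : Bool :=
  @List.rec ℕ (fun _ => Bool) true
    (fun b _ ih => and (Nat.beq (T.tau l b) (walkNF T rest e b)) ih) B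

theorem agreeNF_eq (l : ℕ) (rest : List ℕ) (e : ℕ) :
    agreeNF T B l rest e = agreeB T B [l] (nfPath2 rest e) := by
  unfold agreeNF agreeB
  induction B with
  | nil => rfl
  | cons b bs ih =>
    show (Nat.beq (T.tau l b) (walkNF T rest e b) && _) = (Nat.beq (T.walkT [l] b) (T.walkT (nfPath2 rest e) b) && _)
    rw [ih, walkNF_eq, TC2Lower.Table.walkT_cons, TC2Lower.Table.walkT_nil]

/-- the letter `l` is none of the normal forms with codes `lo, …, lo + cnt - 1` -/
noncomputable def indepRange (l : ℕ) (rest : List ℕ) (lo cnt : ℕ) : Bool :=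
  allLoop (fun i => not (agreeNF T B l rest (Nat.add lo i))) cnt

theorem indepRange_iff (l : ℕ) (rest : List ℕ) (lo cnt : ℕ) :
    indepRange T B l rest lo cnt = true ↔ ∀ e, lo ≤ e → e < lo + cnt → agreeNF T B l rest e = false := by
  unfold indepRange
  rw [allLoop_add_iff (fun v => not (agreeNF T B l rest v))]
  constructor
  · intro h e h1 h2
    have := h e h1 h2
    cases hh : agreeNF T B l rest e
    · rfl
    · rw [hh] at this; exact absurd this (by simp)
  · intro h e h1 h2
    rw [h e h1 h2]; rfl

end Chk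

/-! ### Soundness -/

section Sound
variable {TS : Table} {kk : ℕ} {BS : List ℕ} {X : Type*} [Group X] (W : WModel TS kk BS X)

/-- the letters are in range and involutions -/
def LettersOK2 (PL : List ℕ) : Prop := ∀ l ∈ PL, l < kk ∧ W.η l ^ 2 = 1

theorem ltAll_of_mem {k : ℕ} {u : List ℕ} (h : ∀ l ∈ u, l < k) : ltAll k u = true := (ltAll_iff _ _).mpr h

theorem conj_of_agree {PL rest : List ℕ} (hok : LettersOK2 W PL) (hr : ∀ l ∈ rest, l ∈ PL)
    {l q c : ℕ} (hl : l ∈ PL) (hq : q ∈ PL) (h : agreeB TS BS [l, q, l] (nfPath2 rest c) = true) :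
    W.η l * W.η q * (W.η l)⁻¹ = nfElt2 (rest.map W.η) c := by
  have lt3 : ltAll kk [l, q, l] = true := ltAll_of_mem (by
    intro x hx
    simp only [List.mem_cons, List.not_mem_nil, or_false] at hx
    rcases hx with rfl | rfl | rfl
    · exact (hok _ hl).1
    · exact (hok _ hq).1
    · exact (hok _ hl).1)
  have lt4 : ltAll kk (nfPath2 rest c) = true := ltAll_nfPath2 (fun r hr' => (hok r (hr r hr')).1) c
  have := W.eq_of_agree lt3 lt4 h
  rw [pathProd_nfPath2] at this
  simp only [pathProd, one_mul] at this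
  have hinv : (W.η l)⁻¹ = W.η l := by
    apply inv_eq_of_mul_eq_one_right
    rw [← pow_two]; exact (hok _ hl).2
  rw [hinv, this]

theorem chain_of_chk2 : ∀ (PL : List ℕ) (CS : List (List ℕ)), chkChainI TS BS kk PL CS = true →
    LettersOK2 W PL ∧ Chain2 (PL.map W.η) := by
  intro PL
  induction PL with
  | nil => intro _ _; exact ⟨fun p hp => absurd hp (by simp), trivial⟩
  | cons l rest ih =>
    intro CS h
    cases CS with
    | nil => rw [chkChainI_cons_nil] at h; exact absurd h (by simp)
    | cons cs css =>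
      rw [chkChainI_cons_cons] at h
      simp only [Bool.and_eq_true, Nat.blt_eq] at h
      obtain ⟨⟨hl, h2⟩, hconj, hrest⟩ := h
      obtain ⟨hok, hch⟩ := ih css hrest
      have lt1 : ltAll kk [l, l] = true := ltAll_of_mem (by simp [hl])
      have lt0 : ltAll kk [] = true := rfl
      have e2 : W.η l ^ 2 = 1 := by
        have := W.eq_of_agree lt1 lt0 h2
        simp only [pathProd, one_mul] at this
        rw [pow_two]; exact this
      have hok' : LettersOK2 W (l :: rest) := by
        intro q hq
        rcases List.mem_cons.mp hq with rfl | hq'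
        · exact ⟨hl, e2⟩
        · exact hok q hq'
      refine ⟨hok', ?_, ?_, hch⟩
      · show W.η l ^ 2 ∈ cl (rest.map W.η)
        rw [e2]; exact Subgroup.one_mem _
      · intro x hx
        rw [List.mem_map] at hx
        obtain ⟨q, hq, rfl⟩ := hx
        obtain ⟨c, hc⟩ := chkConjI_sound TS BS l rest rest cs hconj q hq
        rw [conj_of_agree W hok' (fun r hr => List.mem_cons_of_mem _ hr) List.mem_cons_self
          (List.mem_cons_of_mem _ hq) hc]
        exact nfElt2_mem _ _

theorem norm_of_chk {PL VL : List ℕ} (hok : LettersOK2 W PL) (hV : ∀ l ∈ VL, l ∈ PL) :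
    ∀ (GLs : List ℕ) (CS : List (List ℕ)), (∀ l ∈ GLs, l ∈ PL) → chkNorm TS BS VL GLs CS = true →
      ∀ g ∈ GLs.map W.η, ∀ x ∈ VL.map W.η, g * x * g⁻¹ ∈ cl (VL.map W.η) := by
  intro GLs
  induction GLs with
  | nil => intro _ _ _ g hg; simp at hg
  | cons l rest ih =>
    intro CS hG h
    cases CS with
    | nil => rw [chkNorm_cons_nil] at h; exact absurd h (by simp)
    | cons cs css =>
      rw [chkNorm_cons_cons, Bool.and_eq_true] at h
      intro g hg x hx
      rw [List.map_cons, List.mem_cons] at hg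
      rcases hg with rfl | hg
      · rw [List.mem_map] at hx
        obtain ⟨q, hq, rfl⟩ := hx
        obtain ⟨c, hc⟩ := chkConjI_sound TS BS l VL VL cs h.1 q hq
        rw [conj_of_agree W hok hV (hG l List.mem_cons_self) (hV q hq) hc]
        exact nfElt2_mem _ _
      · exact ih css (fun y hy => hG y (List.mem_cons_of_mem _ hy)) h.2 g hg x hx

theorem comm_of_chk {PL VL UL : List ℕ} (hok : LettersOK2 W PL) (hV : ∀ l ∈ VL, l ∈ PL) (hU : ∀ l ∈ UL, l ∈ PL)
    (h : chkComm TS BS VL UL = true) : ∀ a ∈ UL.map W.η, ∀ b ∈ VL.map W.η, a * b = b * a := by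
  rw [chkComm_iff] at h
  intro a ha b hb
  rw [List.mem_map] at ha hb
  obtain ⟨la, hla, rfl⟩ := ha
  obtain ⟨lb, hlb, rfl⟩ := hb
  have lt1 : ltAll kk [la, lb] = true := ltAll_of_mem (by
    intro x hx
    simp only [List.mem_cons, List.not_mem_nil, or_false] at hx
    rcases hx with rfl | rfl
    · exact (hok _ (hU _ hla)).1
    · exact (hok _ (hV _ hlb)).1)
  have lt2 : ltAll kk [lb, la] = true := ltAll_of_mem (by
    intro x hx
    simp only [List.mem_cons, List.not_mem_nil, or_false] at hx
    rcases hx with rfl | rfl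
    · exact (hok _ (hV _ hlb)).1
    · exact (hok _ (hU _ hla)).1)
  have := W.eq_of_agree lt1 lt2 (h la hla lb hlb)
  simp only [pathProd, one_mul] at this
  exact this.symm

theorem indep_step {l : ℕ} {rest : List ℕ} (hok : LettersOK2 W (l :: rest)) (hB : ∀ b ∈ BS, b < TS.n)
    (h : ∀ e, e < 2 ^ rest.length → agreeNF TS BS l rest e = false) :
    ∀ e, e < 2 ^ (rest.map W.η).length → W.η l ≠ nfElt2 (rest.map W.η) e := by
  intro e he
  rw [List.length_map] at he
  have h1 := h e he
  rw [agreeNF_eq] at h1
  obtain ⟨b, hb, hne⟩ := not_agreeB TS BS _ _ h1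
  have lt1 : ltAll kk [l] = true := ltAll_of_mem (by
    intro x hx
    simp only [List.mem_cons, List.not_mem_nil, or_false] at hx
    rw [hx]; exact (hok l List.mem_cons_self).1)
  have lt2 : ltAll kk (nfPath2 rest e) = true :=
    ltAll_nfPath2 (fun r hr => (hok r (List.mem_cons_of_mem _ hr)).1) e
  have := W.ne_of_walk lt1 lt2 b (hB b hb) hne
  rw [pathProd_nfPath2] at this
  simpa [pathProd] using this

end Sound

/-! ### Elements that are not involutions commuting with all their conjugates -/

section Excl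
variable (T : Table) (PL : List ℕ)

/-- the witness `(kind, u, u', b)`: the square of the element moves `b` (kind `0`), or the element and its
conjugate by the path `u` (with inverse `u'`) do not commute at `b` -/
noncomputable def testW (w : ℕ × List ℕ × List ℕ × ℕ) (e : ℕ) : Bool :=
  cond (Nat.beq w.1 0)
    (not (Nat.beq (walkNF T PL e (walkNF T PL e w.2.2.2)) w.2.2.2))
    (not (Nat.beq (walkNF T PL e (T.walkT w.2.1 (walkNF T PL e (T.walkT w.2.2.1 w.2.2.2))))
      (T.walkT w.2.1 (walkNF T PL e (T.walkT w.2.2.1 (walkNF T PL e w.2.2.2))))))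

/-- one of the witnesses works -/
noncomputable def anyW (Ws : List (ℕ × List ℕ × List ℕ × ℕ)) (e : ℕ) : Bool :=
  @List.rec (ℕ × List ℕ × List ℕ × ℕ) (fun _ => Bool) false (fun w _ ih => or (testW T PL w e) ih) Ws

theorem anyW_iff (Ws : List (ℕ × List ℕ × List ℕ × ℕ)) (e : ℕ) :
    anyW T PL Ws e = true ↔ ∃ w ∈ Ws, testW T PL w e = true := by
  induction Ws with
  | nil => simp [anyW]
  | cons w ws ih =>
    show (testW T PL w e || anyW T PL ws e) = true ↔ _
    rw [Bool.or_eq_true, ih]
    simp

/-- membership in a list of numbers -/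
noncomputable def memL (e : ℕ) : List ℕ → Bool :=
  @List.rec ℕ (fun _ => Bool) false (fun a _ ih => or (Nat.beq e a) ih)

theorem memL_iff (e : ℕ) (Ks : List ℕ) : memL e Ks = true ↔ e ∈ Ks := by
  induction Ks with
  | nil => simp [memL]
  | cons a as ih =>
    show (Nat.beq e a || memL e as) = true ↔ _
    rw [Bool.or_eq_true, ih, Data.nbeq_iff]
    simp

/-- the code `e` lies in the subgroup of the later letters, has a witness, or is one of the exceptions -/
noncomputable def chkElt (Ws : List (ℕ × List ℕ × List ℕ × ℕ)) (Ks : List ℕ) (m2 : ℕ) (e : ℕ) : Bool :=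
  or (Nat.beq (Nat.mod e m2) 0) (or (anyW T PL Ws e) (memL e Ks))

/-- the codes `lo, …, lo + cnt - 1` -/
noncomputable def chkRange (Ws : List (ℕ × List ℕ × List ℕ × ℕ)) (Ks : List ℕ) (m2 : ℕ) (lo cnt : ℕ) : Bool :=
  allLoop (fun i => chkElt T PL Ws Ks m2 (Nat.add lo i)) cnt

theorem chkRange_iff (Ws : List (ℕ × List ℕ × List ℕ × ℕ)) (Ks : List ℕ) (m2 : ℕ) (lo cnt : ℕ) :
    chkRange T PL Ws Ks m2 lo cnt = true ↔ ∀ e, lo ≤ e → e < lo + cnt → chkElt T PL Ws Ks m2 e = true := by
  unfold chkRange
  exact allLoop_add_iff (fun v => chkElt T PL Ws Ks m2 v) lo cnt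

/-- the witnesses are sound: paths in range, inverse to each other, in the letters of the chain -/
noncomputable def chkWits (B : List ℕ) (k : ℕ) : List (ℕ × List ℕ × List ℕ × ℕ) → Bool :=
  @List.rec (ℕ × List ℕ × List ℕ × ℕ) (fun _ => Bool) true
    (fun w _ ih => and (and (and (ltAll k w.2.1) (ltAll k w.2.2.1)) (and (Nat.blt w.2.2.2 T.n)
      (agreeB T B (List.append w.2.1 w.2.2.1) [])))
      (and (w.2.1.all fun l => memL l PL) ih))

theorem chkWits_iff (B : List ℕ) (k : ℕ) (Ws : List (ℕ × List ℕ × List ℕ × ℕ)) :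
    chkWits T PL B k Ws = true ↔ ∀ w ∈ Ws, ltAll k w.2.1 = true ∧ ltAll k w.2.2.1 = true ∧ w.2.2.2 < T.n ∧
      agreeB T B (w.2.1 ++ w.2.2.1) [] = true ∧ ∀ l ∈ w.2.1, l ∈ PL := by
  induction Ws with
  | nil => simp [chkWits]
  | cons w ws ih =>
    show (((ltAll k w.2.1 && ltAll k w.2.2.1) && (Nat.blt w.2.2.2 T.n && agreeB T B (List.append w.2.1 w.2.2.1) [])) &&
      ((w.2.1.all fun l => memL l PL) && chkWits T PL B k ws)) = true ↔ _
    simp only [Bool.and_eq_true, ih, Nat.blt_eq, List.all_eq_true, memL_iff, List.mem_cons, forall_eq_or_imp,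
      List.append_eq]
    tauto

end Excl

section ExclSound
variable {TS : Table} {kk : ℕ} {BS : List ℕ} {X : Type*} [Group X] (W : WModel TS kk BS X)

theorem pathProd_mem_cl {PL : List ℕ} (u : List ℕ) (h : ∀ l ∈ u, l ∈ PL) :
    pathProd W.η u ∈ cl (PL.map W.η) :=
  pathProd_mem _ _ _ fun l hl => mem_cl_of_mem (List.mem_map_of_mem (h l hl))

/-- the property certified for the elements outside the normal subgroup and the exceptions -/
def Excl (S : Subgroup X) (x : X) : Prop :=
  x ^ 2 ≠ 1 ∨ ∃ g ∈ S, x * (g * x * g⁻¹) ≠ (g * x * g⁻¹) * x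

theorem excl_of_chk {PL : List ℕ} (hok : LettersOK2 W PL) (Ws : List (ℕ × List ℕ × List ℕ × ℕ))
    (hW : chkWits TS PL BS kk Ws = true) (Ks : List ℕ) (m2 e : ℕ)
    (h : chkElt TS PL Ws Ks m2 e = true) :
    e % m2 = 0 ∨ e ∈ Ks ∨ Excl (cl (PL.map W.η)) (nfElt2 (PL.map W.η) e) := by
  unfold chkElt at h
  rw [Bool.or_eq_true, Bool.or_eq_true, Data.nbeq_iff, memL_iff, anyW_iff] at h
  rcases h with h | h | h
  · exact Or.inl h
  · right; right
    obtain ⟨w, hw, ht⟩ := h
    obtain ⟨hu, hu', hb, hinv, hmem⟩ := (chkWits_iff TS PL BS kk Ws).mp hW w hw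
    have hx : ltAll kk (nfPath2 PL e) = true := ltAll_nfPath2 (fun r hr => (hok r hr).1) e
    have hxe : pathProd W.η (nfPath2 PL e) = nfElt2 (PL.map W.η) e := pathProd_nfPath2 _ _ _
    unfold testW at ht
    cases hk : Nat.beq w.1 0 <;> rw [hk] at ht
    · -- commutator
      right
      simp only [cond_false, Bool.not_eq_true', walkNF_eq] at ht
      have hne : TS.walkT (w.2.2.1 ++ nfPath2 PL e ++ w.2.1 ++ nfPath2 PL e) w.2.2.2 ≠
          TS.walkT (nfPath2 PL e ++ w.2.2.1 ++ nfPath2 PL e ++ w.2.1) w.2.2.2 := by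
        rw [Table.walkT_append, Table.walkT_append, Table.walkT_append, Table.walkT_append, Table.walkT_append,
          Table.walkT_append]
        intro heq
        rw [heq, Nat.beq_refl] at ht
        exact absurd ht (by simp)
      have l1 : ltAll kk (w.2.2.1 ++ nfPath2 PL e ++ w.2.1 ++ nfPath2 PL e) = true :=
        ltAll_append (ltAll_append (ltAll_append hu' hx) hu) hx
      have l2 : ltAll kk (nfPath2 PL e ++ w.2.2.1 ++ nfPath2 PL e ++ w.2.1) = true :=
        ltAll_append (ltAll_append (ltAll_append hx hu') hx) hu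
      have hne' := W.ne_of_walk l1 l2 _ hb hne
      rw [pathProd_append, pathProd_append, pathProd_append, pathProd_append, pathProd_append, pathProd_append,
        hxe] at hne'
      have hgi : pathProd W.η w.2.2.1 = (pathProd W.η w.2.1)⁻¹ := by
        have := W.eq_of_agree (ltAll_append hu hu') (rfl : ltAll kk [] = true) hinv
        rw [pathProd_append] at this
        exact eq_inv_of_mul_eq_one_left this
      refine ⟨pathProd W.η w.2.1, pathProd_mem_cl W _ hmem, ?_⟩
      rw [hgi] at hne'
      intro heq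
      apply hne'
      simp only [mul_assoc] at heq ⊢
      exact heq
    · -- square
      left
      simp only [cond_true, Bool.not_eq_true', walkNF_eq] at ht
      have hne : TS.walkT (nfPath2 PL e ++ nfPath2 PL e) w.2.2.2 ≠ TS.walkT [] w.2.2.2 := by
        rw [Table.walkT_append]
        intro heq
        rw [heq] at ht
        rw [TC2Lower.Table.walkT_nil, Nat.beq_refl] at ht
        exact absurd ht (by simp)
      have hne' := W.ne_of_walk (ltAll_append hx hx) (rfl : ltAll kk [] = true) _ hb hne
      rw [pathProd_append, hxe] at hne'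
      rw [pow_two]
      exact hne'
  · exact Or.inr (Or.inl h)

end ExclSound

end Cfsg.Agent.Lib.Helper28.Pc2Cert
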