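import Cfsg.Agent.Lib.Helper28.Pc2Cert
set_option autoImplicit false

/-!
# Independence of the letters of a chain from checks for the single letters
-/

namespace Cfsg.Agent.Lib.Helper28.Pc2Indep
open Cfsg.Agent.Lib.Helper28.TC2Upper Cfsg.Agent.Lib.Helper28.TC2Lower Cfsg.Agent.Lib.Helper28.TC2Range
open Cfsg.Agent.Lib.Helper28.TC2Bsgs Cfsg.Agent.Lib.Helper28.PcChain Cfsg.Agent.Lib.Helper28.PcCert
open Cfsg.Agent.Lib.Helper28.Pc2Chain Cfsg.Agent.Lib.Helper28.SubTab Cfsg.Agent.Lib.Helper28.Pc2Cert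

variable {TS : Table} {kk : ℕ} {BS : List ℕ} {X : Type*} [Group X] (W : WModel TS kk BS X)

theorem indep_of_steps (hB : ∀ b ∈ BS, b < TS.n) : ∀ (PL : List ℕ), LettersOK2 W PL →
    (∀ i, i < PL.length → ∀ e, e < 2 ^ (PL.drop (i + 1)).length →
      agreeNF TS BS (PL.getD i 0) (PL.drop (i + 1)) e = false) → Indep2 (PL.map W.η) := by
  intro PL
  induction PL with
  | nil => intro _ _; trivial
  | cons l rest ih =>
    intro hok h
    refine ⟨indep_step W hok hB (fun e he => h 0 (by simp) e he), ?_⟩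
    apply ih (fun q hq => hok q (List.mem_cons_of_mem _ hq))
    intro i hi e he
    exact h (i + 1) (by simpa using hi) e he

end Cfsg.Agent.Lib.Helper28.Pc2Indep
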