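import Mathlib
set_option autoImplicit false

/-!
# Polycyclic chains of exponent three, Sylow reduction and classes of subgroups of order three

* `nfElt gs e`: the normal form `… g₂ ^ e₂ * g₁ ^ e₁` with the ternary digits of `e`;
* `exists_nf`: under the chain condition every element of the closure is a normal form;
* `card_cl`: if moreover no generator is a normal form in the later ones, the closure has order `3 ^ n`;
* `exists_conj_mem_of_card`: an element of order `p` is conjugate into a subgroup of Sylow order;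
* `classes_of_reps`: from representatives of the classes of elements of order three to the classes of
  subgroups of order three.
-/

namespace Cfsg.Agent.Lib.Helper28.PcChain

variable {G : Type*} [Group G]

/-- normal form: the first generator carries the lowest digit and is the rightmost factor -/
def nfElt : List G → ℕ → G
  | [], _ => 1
  | g :: gs, e => nfElt gs (e / 3) * g ^ (e % 3)

/-- the subgroup generated by a list -/
def cl (gs : List G) : Subgroup G := Subgroup.closure {x | x ∈ gs}

/-- the chain condition -/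
def Chain : List G → Prop
  | [] => True
  | g :: gs => g ^ 3 = 1 ∧ (∀ h ∈ gs, g * h * g⁻¹ ∈ cl gs) ∧ Chain gs

/-- no generator is a normal form in the later ones -/
def Indep : List G → Prop
  | [] => True
  | g :: gs => (∀ e, e < 3 ^ gs.length → g ≠ nfElt gs e) ∧ Indep gs

theorem cl_nil : cl ([] : List G) = ⊥ := by
  unfold cl
  simp

theorem mem_cl_of_mem {gs : List G} {x : G} (h : x ∈ gs) : x ∈ cl gs :=
  Subgroup.subset_closure h

theorem cl_le_cons (g : G) (gs : List G) : cl gs ≤ cl (g :: gs) :=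
  Subgroup.closure_mono fun _ hx => List.mem_cons_of_mem _ hx

theorem cl_cons (g : G) (gs : List G) : cl (g :: gs) = cl gs ⊔ Subgroup.zpowers g := by
  unfold cl
  have : {x | x ∈ g :: gs} = {x | x ∈ gs} ∪ {g} := by
    ext x
    simp only [List.mem_cons, Set.mem_ofPred_eq, Set.union_singleton, Set.mem_insert_iff]
  rw [this, Subgroup.closure_union, Subgroup.zpowers_eq_closure]

theorem nfElt_mem (gs : List G) (e : ℕ) : nfElt gs e ∈ cl gs := by
  induction gs generalizing e with
  | nil => exact Subgroup.one_mem _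
  | cons g gs ih =>
    exact Subgroup.mul_mem _ (cl_le_cons g gs (ih _))
      (Subgroup.pow_mem _ (mem_cl_of_mem List.mem_cons_self) _)

/-- conjugation by `g` maps the closure into itself -/
theorem conj_mem_cl {g : G} {gs : List G} (h : ∀ x ∈ gs, g * x * g⁻¹ ∈ cl gs) :
    ∀ x ∈ cl gs, g * x * g⁻¹ ∈ cl gs := by
  intro x hx
  unfold cl at hx
  induction hx using Subgroup.closure_induction with
  | mem x hx => exact h x hx
  | one => simp
  | mul x y _ _ hx hy =>
    have : g * (x * y) * g⁻¹ = (g * x * g⁻¹) * (g * y * g⁻¹) := by group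
    rw [this]; exact Subgroup.mul_mem _ hx hy
  | inv x _ hx =>
    have : g * x⁻¹ * g⁻¹ = (g * x * g⁻¹)⁻¹ := by group
    rw [this]; exact Subgroup.inv_mem _ hx

theorem mem_normalizer_of_chain {g : G} {gs : List G} (h3 : g ^ 3 = 1)
    (h : ∀ x ∈ gs, g * x * g⁻¹ ∈ cl gs) : g ∈ Subgroup.normalizer ((cl gs : Subgroup G) : Set G) := by
  have hc := conj_mem_cl h
  rw [Subgroup.mem_normalizer_iff]
  intro x
  refine ⟨hc x, fun hx => ?_⟩
  have h1 := hc _ (hc _ hx)
  have this : g * (g * (g * x * g⁻¹) * g⁻¹) * g⁻¹ = x := by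
    have e : g * (g * (g * x * g⁻¹) * g⁻¹) * g⁻¹ = (g ^ 3) * x * (g ^ 3)⁻¹ := by
      simp only [pow_succ, pow_zero, one_mul, mul_inv_rev, mul_assoc]
    rw [e, h3]; simp
  rwa [this] at h1

/-- powers of an element of order dividing three -/
theorem exists_pow_of_mem_zpowers {g z : G} (h3 : g ^ 3 = 1) (hz : z ∈ Subgroup.zpowers g) :
    ∃ a, a < 3 ∧ z = g ^ a := by
  obtain ⟨k, rfl⟩ := Subgroup.mem_zpowers_iff.mp hz
  have h3' : g ^ (3 : ℤ) = 1 := by exact_mod_cast h3
  have e := zpow_eq_zpow_emod k h3'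
  have hk0 : 0 ≤ k % 3 := Int.emod_nonneg _ (by norm_num)
  have hk3 : k % 3 < 3 := Int.emod_lt_of_pos _ (by norm_num)
  refine ⟨(k % 3).toNat, by omega, ?_⟩
  rw [e, ← zpow_natCast, Int.toNat_of_nonneg hk0]

theorem exists_nf (gs : List G) (h : Chain gs) :
    ∀ x ∈ cl gs, ∃ e, e < 3 ^ gs.length ∧ x = nfElt gs e := by
  induction gs with
  | nil =>
    intro x hx
    rw [cl_nil, Subgroup.mem_bot] at hx
    exact ⟨0, by simp, hx⟩
  | cons g gs ih =>
    obtain ⟨h3, hconj, hch⟩ := h
    intro x hx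
    rw [cl_cons] at hx
    have hn : Subgroup.zpowers g ≤ Subgroup.normalizer ((cl gs : Subgroup G) : Set G) :=
      Subgroup.zpowers_le.mpr (mem_normalizer_of_chain h3 hconj)
    have hx' : x ∈ ((cl gs ⊔ Subgroup.zpowers g : Subgroup G) : Set G) := hx
    rw [Subgroup.coe_mul_of_right_le_normalizer_left _ _ hn] at hx'
    obtain ⟨u, hu, z, hz, rfl⟩ := Set.mem_mul.mp hx'
    obtain ⟨e', he', rfl⟩ := ih hch u hu
    obtain ⟨a, ha, rfl⟩ := exists_pow_of_mem_zpowers h3 hz
    refine ⟨3 * e' + a, ?_, ?_⟩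
    · rw [List.length_cons, pow_succ]; omega
    · show _ = nfElt gs ((3 * e' + a) / 3) * g ^ ((3 * e' + a) % 3)
      have e1 : (3 * e' + a) / 3 = e' := by omega
      have e2 : (3 * e' + a) % 3 = a := by omega
      rw [e1, e2]

theorem nf_inj (gs : List G) (h : Chain gs) (hi : Indep gs) :
    ∀ e e', e < 3 ^ gs.length → e' < 3 ^ gs.length → nfElt gs e = nfElt gs e' → e = e' := by
  induction gs with
  | nil =>
    intro e e' he he' _
    simp at he he'
    omega
  | cons g gs ih =>
    obtain ⟨h3, hconj, hch⟩ := h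
    obtain ⟨hne, hin⟩ := hi
    intro e e' he he' heq
    rw [List.length_cons, pow_succ] at he he'
    have heq' : nfElt gs (e / 3) * g ^ (e % 3) = nfElt gs (e' / 3) * g ^ (e' % 3) := heq
    have hg : g ∉ cl gs := by
      intro hg
      obtain ⟨c, hc, hgc⟩ := exists_nf gs hch g hg
      exact hne c hc hgc
    have hg2 : g ^ 2 ∉ cl gs := by
      intro h2
      apply hg
      have : g = (g ^ 2) ^ 2 := by
        have : (g ^ 2) ^ 2 = g ^ 3 * g := by group
        rw [this, h3, one_mul]
      rw [this]; exact Subgroup.pow_mem _ h2 _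
    have hmem : g ^ (e % 3) * (g ^ (e' % 3))⁻¹ ∈ cl gs := by
      have : g ^ (e % 3) * (g ^ (e' % 3))⁻¹ = (nfElt gs (e / 3))⁻¹ * nfElt gs (e' / 3) := by
        have h1 : g ^ (e % 3) = (nfElt gs (e / 3))⁻¹ * (nfElt gs (e' / 3) * g ^ (e' % 3)) := by
          rw [← heq']; group
        rw [h1]; group
      rw [this]
      exact Subgroup.mul_mem _ (Subgroup.inv_mem _ (nfElt_mem _ _)) (nfElt_mem _ _)
    have hr : e % 3 = e' % 3 := by
      have hlt : e % 3 < 3 := Nat.mod_lt _ (by norm_num)
      have hlt' : e' % 3 < 3 := Nat.mod_lt _ (by norm_num)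
      by_contra hne'
      have hginv : g⁻¹ = g ^ 2 := by
        apply inv_eq_of_mul_eq_one_right
        rw [← h3, pow_succ, pow_succ, pow_succ, pow_zero, one_mul, pow_succ, pow_succ, pow_zero, one_mul, mul_assoc]
      generalize e % 3 = r at hmem hlt hne'
      generalize e' % 3 = r' at hmem hlt' hne'
      interval_cases r <;> interval_cases r' <;> simp at hne'
      · -- 0, 1
        apply hg
        have : g = (g ^ 0 * (g ^ 1)⁻¹)⁻¹ := by group
        rw [this]; exact Subgroup.inv_mem _ hmem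
      · apply hg2
        have : g ^ 2 = (g ^ 0 * (g ^ 2)⁻¹)⁻¹ := by group
        rw [this]; exact Subgroup.inv_mem _ hmem
      · apply hg
        have : g = g ^ 1 * (g ^ 0)⁻¹ := by group
        rw [this]; exact hmem
      · apply hg2
        have : g ^ 2 = g ^ 1 * (g ^ 2)⁻¹ := by
          calc g ^ 2 = g⁻¹ := hginv.symm
            _ = g ^ 1 * (g ^ 2)⁻¹ := by group
        rw [this]; exact hmem
      · apply hg2
        have : g ^ 2 = g ^ 2 * (g ^ 0)⁻¹ := by group
        rw [this]; exact hmem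
      · apply hg
        have : g = g ^ 2 * (g ^ 1)⁻¹ := by group
        rw [this]; exact hmem
    rw [hr] at heq'
    have h4 := ih hch hin (e / 3) (e' / 3) (by omega) (by omega) (mul_right_cancel heq')
    omega

theorem card_cl (gs : List G) (h : Chain gs) (hi : Indep gs) :
    Nat.card (cl gs) = 3 ^ gs.length := by
  let f : Fin (3 ^ gs.length) → cl gs := fun e => ⟨nfElt gs e.val, nfElt_mem gs e.val⟩
  have hf : Function.Bijective f := by
    constructor
    · intro a b hab
      apply Fin.ext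
      exact nf_inj gs h hi a.val b.val a.2 b.2 (congrArg Subtype.val hab)
    · rintro ⟨x, hx⟩
      obtain ⟨e, he, rfl⟩ := exists_nf gs h x hx
      exact ⟨⟨e, he⟩, rfl⟩
  rw [← Nat.card_congr (Equiv.ofBijective f hf), Nat.card_fin]

/-! ### Sylow reduction -/

/-- an element of order `p` is conjugate into any subgroup of Sylow order -/
theorem exists_conj_mem_of_card [Finite G] (p : ℕ) [hp : Fact p.Prime] (P : Subgroup G)
    (hP : Nat.card P = p ^ (Nat.card G).factorization p) (z : G) (hz : orderOf z = p) :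
    ∃ g : G, g * z * g⁻¹ ∈ P := by
  have hzp : IsPGroup p (Subgroup.zpowers z) := by
    apply IsPGroup.of_card (n := 1)
    rw [Nat.card_zpowers, hz, pow_one]
  obtain ⟨Q, hQ⟩ := hzp.exists_le_sylow
  let P' : Sylow p G := Sylow.ofCard P hP
  obtain ⟨g, hg⟩ := MulAction.exists_smul_eq G Q P'
  refine ⟨g, ?_⟩
  have hzQ : z ∈ (Q : Subgroup G) := hQ (Subgroup.mem_zpowers z)
  have h1 : g * z * g⁻¹ ∈ ((g • Q : Sylow p G) : Subgroup G) := by
    rw [Sylow.coe_subgroup_smul]
    exact ⟨z, hzQ, rfl⟩
  rw [hg] at h1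
  exact h1

/-! ### Classes of subgroups of order three from classes of elements -/

theorem classes_of_reps {n : ℕ} (y : Fin n → G) (h2 : ∀ i, orderOf (y i) = 3)
    (h1 : ∀ z : G, orderOf z = 3 → ∃ g : G, ∃ i, g * z * g⁻¹ = y i)
    (h3 : ∀ i j, ∀ g : G, (g * y i * g⁻¹ = y j ∨ g * y i * g⁻¹ = (y j)⁻¹) → i = j) :
    ∃ Y : Fin n → Subgroup G, (∀ i, Nat.card (Y i) = 3) ∧
      (∀ i j, (∃ g : G, (Y i).map (MulAut.conj g).toMonoidHom = Y j) → i = j) ∧
      (∀ Z : Subgroup G, Nat.card Z = 3 → ∃ i, ∃ g : G,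
        Z.map (MulAut.conj g).toMonoidHom = Y i) := by
  have hmap : ∀ (g z : G), (Subgroup.zpowers z).map (MulAut.conj g).toMonoidHom =
      Subgroup.zpowers (g * z * g⁻¹) := by
    intro g z
    rw [MonoidHom.map_zpowers]
    rfl
  refine ⟨fun i => Subgroup.zpowers (y i), fun i => ?_, fun i j => ?_, fun Z hZ => ?_⟩
  · rw [Nat.card_zpowers, h2]
  · rintro ⟨g, hg⟩
    rw [hmap] at hg
    change Subgroup.zpowers (g * y i * g⁻¹) = Subgroup.zpowers (y j) at hg
    have hmem : g * y i * g⁻¹ ∈ Subgroup.zpowers (y j) := by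
      rw [← hg]; exact Subgroup.mem_zpowers _
    have h3j : (y j) ^ 3 = 1 := by rw [← h2 j]; exact pow_orderOf_eq_one _
    obtain ⟨a, ha, hya⟩ := exists_pow_of_mem_zpowers h3j hmem
    have hne : g * y i * g⁻¹ ≠ 1 := by
      intro h
      have : y i = 1 := by
        have : y i = g⁻¹ * (g * y i * g⁻¹) * g := by group
        rw [this, h]; group
      have h2i := h2 i
      rw [this, orderOf_one] at h2i
      omega
    apply h3 i j g
    interval_cases a
    · exact absurd (by simpa using hya) hne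
    · left; simpa using hya
    · right
      rw [hya, eq_inv_iff_mul_eq_one, ← pow_succ]
      exact h3j
  · have hcyc : IsCyclic Z := by
      have : Fact (Nat.Prime 3) := ⟨by norm_num⟩
      exact isCyclic_of_prime_card hZ
    obtain ⟨⟨z, hzZ⟩, hz⟩ := hcyc.exists_generator
    have hZz : Z = Subgroup.zpowers z := by
      apply le_antisymm
      · intro x hx
        obtain ⟨k, hk⟩ := Subgroup.mem_zpowers_iff.mp (hz ⟨x, hx⟩)
        refine Subgroup.mem_zpowers_iff.mpr ⟨k, ?_⟩
        have := congrArg Subtype.val hk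
        simpa using this
      · exact Subgroup.zpowers_le.mpr hzZ
    have hoz : orderOf z = 3 := by
      rw [← Nat.card_zpowers, ← hZz, hZ]
    obtain ⟨g, i, hgi⟩ := h1 z hoz
    refine ⟨i, g, ?_⟩
    rw [hZz, hmap, hgi]

/-- the same through an isomorphism -/
theorem classes_of_reps_equiv {H : Type*} [Group H] (ι : G ≃* H) {n : ℕ} (y : Fin n → G)
    (h2 : ∀ i, orderOf (y i) = 3)
    (h1 : ∀ z : G, orderOf z = 3 → ∃ g : G, ∃ i, g * z * g⁻¹ = y i)
    (h3 : ∀ i j, ∀ g : G, (g * y i * g⁻¹ = y j ∨ g * y i * g⁻¹ = (y j)⁻¹) → i = j) :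
    ∃ Y : Fin n → Subgroup H, (∀ i, Nat.card (Y i) = 3) ∧
      (∀ i j, (∃ g : H, (Y i).map (MulAut.conj g).toMonoidHom = Y j) → i = j) ∧
      (∀ Z : Subgroup H, Nat.card Z = 3 → ∃ i, ∃ g : H,
        Z.map (MulAut.conj g).toMonoidHom = Y i) := by
  apply classes_of_reps (fun i => ι (y i))
  · intro i
    rw [MulEquiv.orderOf_eq, h2]
  · intro z hz
    have hz' : orderOf (ι.symm z) = 3 := by rw [MulEquiv.orderOf_eq, hz]
    obtain ⟨g, i, hgi⟩ := h1 _ hz'
    refine ⟨ι g, i, ?_⟩
    rw [← hgi, map_mul, map_mul, map_inv, MulEquiv.apply_symm_apply]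
  · intro i j g hg
    apply h3 i j (ι.symm g)
    rcases hg with hg | hg
    · left
      apply ι.injective
      rw [map_mul, map_mul, map_inv, MulEquiv.apply_symm_apply, hg]
    · right
      apply ι.injective
      rw [map_mul, map_mul, map_inv, map_inv, MulEquiv.apply_symm_apply, hg]

end Cfsg.Agent.Lib.Helper28.PcChain
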