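import Cfsg.Agent.Lib.Helper28.TC2Bsgs
import Cfsg.Agent.Lib.Helper28.PcChain
set_option autoImplicit false

/-!
# Certificates for the classes of elements of order three, in a group given by a permutation table

A table with a base that separates the elements of the group (from a stabiliser chain and the order of the
group) solves the word problem by walking the base points.  On top of it: checkers for a polycyclic chain of
letters of order three (a Sylow 3-subgroup), and for conjugacy certificates of all its elements of order three.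
-/

namespace Cfsg.Agent.Lib.Helper28.PcCert
open Cfsg.Agent.Lib.Helper28.TC2Upper Cfsg.Agent.Lib.Helper28.TC2Lower Cfsg.Agent.Lib.Helper28.TC2Range
open Cfsg.Agent.Lib.Helper28.TC2Bsgs Cfsg.Agent.Lib.Helper28.PcChain

/-! ### Paths -/

theorem pathProd_append {K : Type*} [Monoid K] (γ : ℕ → K) (u v : List ℕ) :
    pathProd γ (u ++ v) = pathProd γ v * pathProd γ u := by
  induction u with
  | nil => simp [pathProd]
  | cons l ls ih =>
    show pathProd γ (ls ++ v) * γ l = pathProd γ v * (pathProd γ ls * γ l)
    rw [ih, mul_assoc]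

theorem map_pathProd {K L : Type*} [Monoid K] [Monoid L] (f : K →* L) (γ : ℕ → K) (δ : ℕ → L) (u : List ℕ)
    (h : ∀ l ∈ u, f (γ l) = δ l) : f (pathProd γ u) = pathProd δ u := by
  induction u with
  | nil => simp [pathProd]
  | cons l ls ih =>
    show f (pathProd γ ls * γ l) = pathProd δ ls * δ l
    rw [map_mul, ih (fun x hx => h x (List.mem_cons_of_mem _ hx)), h l List.mem_cons_self]

section Bool
variable (T : Table)

/-- the two paths agree on the base points -/
noncomputable def agreeB (B u v : List ℕ) : Bool :=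
  @List.rec ℕ (fun _ => Bool) true
    (fun b _ ih => and (Nat.beq (T.walkT u b) (T.walkT v b)) ih) B

theorem agreeB_iff (B u v : List ℕ) :
    agreeB T B u v = true ↔ ∀ b ∈ B, T.walkT u b = T.walkT v b := by
  induction B with
  | nil => simp [agreeB]
  | cons b bs ih =>
    show (and (Nat.beq (T.walkT u b) (T.walkT v b)) (agreeB T bs u v)) = true ↔ _
    rw [Bool.and_eq_true, ih, Data.nbeq_iff]
    simp

theorem not_agreeB (B u v : List ℕ) (h : agreeB T B u v = false) :
    ∃ b ∈ B, T.walkT u b ≠ T.walkT v b := by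
  by_contra hc
  have hc' : ∀ b ∈ B, T.walkT u b = T.walkT v b := by
    intro b hb
    by_contra hne
    exact hc ⟨b, hb, hne⟩
  have := (agreeB_iff T B u v).mpr hc'
  rw [h] at this
  exact absurd this (by simp)

/-- all letters of the path are `< k` -/
noncomputable def ltAll (k : ℕ) (u : List ℕ) : Bool :=
  @List.rec ℕ (fun _ => Bool) true (fun l _ ih => and (Nat.blt l k) ih) u

theorem ltAll_iff (k : ℕ) (u : List ℕ) : ltAll k u = true ↔ ∀ l ∈ u, l < k := by
  induction u with
  | nil => simp [ltAll]
  | cons l ls ih =>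
    show (and (Nat.blt l k) (ltAll k ls)) = true ↔ _
    rw [Bool.and_eq_true, ih, Nat.blt_eq]
    simp

end Bool

/-! ### The word problem -/

/-- the base separates the products of paths -/
structure Faithful {T : Table} (hT : T.OK) (B : List ℕ) : Prop where
  lt : ∀ b ∈ B, b < T.n
  eq : ∀ u v : List ℕ, (∀ l ∈ u, l < T.k) → (∀ l ∈ v, l < T.k) →
    (∀ b ∈ B, T.walkT u b = T.walkT v b) →
    pathProd (Table.sigma hT) u = pathProd (Table.sigma hT) v

theorem mem_toFin {n : ℕ} {bs : List ℕ} {b : ℕ} (hb : b ∈ bs) (h : b < n) : (⟨b, h⟩ : Fin n) ∈ toFin n bs := by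
  unfold toFin
  rw [List.mem_filterMap]
  exact ⟨b, hb, by rw [dif_pos h]⟩

theorem faithful_of_pstab {T : Table} (hT : T.OK) (B : List ℕ) (hB : ∀ b ∈ B, b < T.n)
    (Γ : Subgroup (Equiv.Perm (Fin T.n))) (hΓ : ∀ l, l < T.k → Table.sigma hT l ∈ Γ)
    (hcard : Nat.card (pstab Γ (toFin T.n B)) ≤ 1) : Faithful hT B := by
  refine ⟨hB, ?_⟩
  intro u v hu hv hag
  have hsub : Subsingleton (pstab Γ (toFin T.n B)) := by
    rw [← Finite.card_le_one_iff_subsingleton]
    exact hcard
  have hmem : (pathProd (Table.sigma hT) v)⁻¹ * pathProd (Table.sigma hT) u ∈ pstab Γ (toFin T.n B) := by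
    rw [mem_pstab]
    refine ⟨Γ.mul_mem (Γ.inv_mem (pathProd_mem Γ _ _ fun l hl => hΓ l (hv l hl)))
      (pathProd_mem Γ _ _ fun l hl => hΓ l (hu l hl)), ?_⟩
    intro b hb
    have hbB := val_mem_of_mem_toFin hb
    rw [Equiv.Perm.mul_apply, Equiv.Perm.inv_eq_iff_eq]
    apply Fin.ext
    rw [Table.pathProd_sigma_apply hT _ hu, Table.pathProd_sigma_apply hT _ hv]
    exact hag b.val hbB
  have h1 : (⟨_, hmem⟩ : pstab Γ (toFin T.n B)) = 1 := Subsingleton.elim _ _
  have h2 := congrArg Subtype.val h1
  simp only [Subgroup.coe_one] at h2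
  rw [inv_mul_eq_one] at h2
  exact h2.symm

/-- a group with an injective homomorphism to the group of the table, and preimages of the letters -/
structure Model {T : Table} (hT : T.OK) (B : List ℕ) (X : Type*) [Group X] where
  /-- the permutation representation -/
  Φ : X →* Equiv.Perm (Fin T.n)
  inj : Function.Injective Φ
  /-- the elements of the letters -/
  η : ℕ → X
  hη : ∀ l, l < T.k → Φ (η l) = Table.sigma hT l
  faithful : Faithful hT B

namespace Model
variable {T : Table} {hT : T.OK} {B : List ℕ} {X : Type*} [Group X] (M : Model hT B X)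

theorem eq_of_agree {u v : List ℕ} (hu : ltAll T.k u = true) (hv : ltAll T.k v = true)
    (h : agreeB T B u v = true) : pathProd M.η u = pathProd M.η v := by
  rw [ltAll_iff] at hu hv
  apply M.inj
  rw [map_pathProd M.Φ M.η (Table.sigma hT) u fun l hl => M.hη l (hu l hl),
    map_pathProd M.Φ M.η (Table.sigma hT) v fun l hl => M.hη l (hv l hl)]
  exact M.faithful.eq u v hu hv ((agreeB_iff T B u v).mp h)

theorem ne_of_not_agree {u v : List ℕ} (hu : ltAll T.k u = true) (hv : ltAll T.k v = true)
    (h : agreeB T B u v = false) : pathProd M.η u ≠ pathProd M.η v := by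
  rw [ltAll_iff] at hu hv
  intro heq
  obtain ⟨b, hb, hne⟩ := not_agreeB T B u v h
  have h1 := congrArg M.Φ heq
  rw [map_pathProd M.Φ M.η (Table.sigma hT) u fun l hl => M.hη l (hu l hl),
    map_pathProd M.Φ M.η (Table.sigma hT) v fun l hl => M.hη l (hv l hl)] at h1
  have hbn := M.faithful.lt b hb
  have h2 : (pathProd (Table.sigma hT) u ⟨b, hbn⟩).val = (pathProd (Table.sigma hT) v ⟨b, hbn⟩).val := by
    rw [h1]
  rw [Table.pathProd_sigma_apply hT _ hu, Table.pathProd_sigma_apply hT _ hv] at h2
  exact hne h2

end Model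

/-! ### Normal forms as paths -/

/-- path of a digit -/
noncomputable def digPath (l li d : ℕ) : List ℕ :=
  cond (Nat.beq d 0) [] (cond (Nat.beq d 1) [l] [li])

/-- path of the normal form with code `e` in the letters `PL` (letter, inverse letter) -/
noncomputable def nfPath (PL : List (ℕ × ℕ)) : ℕ → List ℕ :=
  @List.rec (ℕ × ℕ) (fun _ => ℕ → List ℕ) (fun _ => [])
    (fun p _ ih e => force (Nat.mod e 3) fun d => force (Nat.div e 3) fun e' =>
      List.append (digPath p.1 p.2 d) (ih e')) PL

theorem nfPath_nil (e : ℕ) : nfPath [] e = [] := rfl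

theorem nfPath_cons (p : ℕ × ℕ) (PL : List (ℕ × ℕ)) (e : ℕ) :
    nfPath (p :: PL) e = digPath p.1 p.2 (e % 3) ++ nfPath PL (e / 3) := by
  show force (Nat.mod e 3) (fun d => force (Nat.div e 3) fun e' =>
      List.append (digPath p.1 p.2 d) (nfPath PL e')) = _
  rw [force_eq, force_eq]
  rfl

theorem digPath_lt {l li k : ℕ} (hl : l < k) (hli : li < k) (d : ℕ) : ∀ x ∈ digPath l li d, x < k := by
  intro x hx
  unfold digPath at hx
  cases h0 : Nat.beq d 0 <;> rw [h0] at hx
  · cases h1 : Nat.beq d 1 <;> rw [h1] at hx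
    · simp only [cond_false, List.mem_singleton] at hx; rw [hx]; exact hli
    · simp only [cond_false, cond_true, List.mem_singleton] at hx; rw [hx]; exact hl
  · simp only [cond_true, List.not_mem_nil] at hx

theorem nfPath_lt {PL : List (ℕ × ℕ)} {k : ℕ} (h : ∀ p ∈ PL, p.1 < k ∧ p.2 < k) (e : ℕ) :
    ∀ x ∈ nfPath PL e, x < k := by
  induction PL generalizing e with
  | nil => intro x hx; simp [nfPath_nil] at hx
  | cons p PL ih =>
    intro x hx
    rw [nfPath_cons, List.mem_append] at hx
    rcases hx with hx | hx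
    · exact digPath_lt (h p List.mem_cons_self).1 (h p List.mem_cons_self).2 _ x hx
    · exact ih (fun q hq => h q (List.mem_cons_of_mem _ hq)) _ x hx

theorem ltAll_nfPath {PL : List (ℕ × ℕ)} {k : ℕ} (h : ∀ p ∈ PL, p.1 < k ∧ p.2 < k) (e : ℕ) :
    ltAll k (nfPath PL e) = true := (ltAll_iff _ _).mpr (nfPath_lt h e)

theorem ltAll_append {k : ℕ} {u v : List ℕ} (hu : ltAll k u = true) (hv : ltAll k v = true) :
    ltAll k (u ++ v) = true := by
  rw [ltAll_iff] at *
  intro l hl
  rcases List.mem_append.mp hl with h | h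
  · exact hu l h
  · exact hv l h

section NF
variable {X : Type*} [Group X] (η : ℕ → X)

/-- the generators of the chain -/
def gens (PL : List (ℕ × ℕ)) : List X := PL.map fun p => η p.1

theorem pathProd_digPath {l li : ℕ} (hinv : η li = (η l)⁻¹) (h3 : η l ^ 3 = 1) {d : ℕ} (hd : d < 3) :
    pathProd η (digPath l li d) = η l ^ d := by
  have e0 : digPath l li 0 = [] := rfl
  have e1 : digPath l li 1 = [l] := rfl
  have e2 : digPath l li 2 = [li] := rfl
  interval_cases d
  · rw [e0]; simp [pathProd]
  · rw [e1]; simp [pathProd]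
  · have : pathProd η (digPath l li 2) = η li := by rw [e2]; simp [pathProd]
    rw [this, hinv]
    apply inv_eq_of_mul_eq_one_right
    rw [← pow_succ', h3]

theorem pathProd_nfPath (PL : List (ℕ × ℕ)) (h : ∀ p ∈ PL, η p.2 = (η p.1)⁻¹ ∧ η p.1 ^ 3 = 1) (e : ℕ) :
    pathProd η (nfPath PL e) = nfElt (gens η PL) e := by
  induction PL generalizing e with
  | nil => rfl
  | cons p PL ih =>
    rw [nfPath_cons, pathProd_append, ih (fun q hq => h q (List.mem_cons_of_mem _ hq)),
      pathProd_digPath η (h p List.mem_cons_self).1 (h p List.mem_cons_self).2 (Nat.mod_lt _ (by norm_num))]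
    rfl

end NF

/-! ### Checking the chain -/

section Chain
variable (T : Table) (B : List ℕ)

/-- the conjugates of the later letters by the letter `l` are normal forms in the later letters -/
noncomputable def chkConj (l li : ℕ) (rest : List (ℕ × ℕ)) : List (ℕ × ℕ) → List ℕ → Bool :=
  @List.rec (ℕ × ℕ) (fun _ => List ℕ → Bool) (fun _ => true)
    (fun q _ ih cs => @List.rec ℕ (fun _ => Bool) false
      (fun c cs' _ => and (agreeB T B [li, q.1, l] (nfPath rest c)) (ih cs')) cs)

theorem chkConj_nil (l li : ℕ) (rest : List (ℕ × ℕ)) (cs : List ℕ) : chkConj T B l li rest [] cs = true := rfl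
theorem chkConj_cons_nil (l li : ℕ) (rest : List (ℕ × ℕ)) (q : ℕ × ℕ) (qs : List (ℕ × ℕ)) :
    chkConj T B l li rest (q :: qs) [] = false := rfl
theorem chkConj_cons_cons (l li : ℕ) (rest : List (ℕ × ℕ)) (q : ℕ × ℕ) (qs : List (ℕ × ℕ)) (c : ℕ) (cs : List ℕ) :
    chkConj T B l li rest (q :: qs) (c :: cs) =
      (agreeB T B [li, q.1, l] (nfPath rest c) && chkConj T B l li rest qs cs) := rfl

theorem chkConj_sound (l li : ℕ) (rest : List (ℕ × ℕ)) :
    ∀ (qs : List (ℕ × ℕ)) (cs : List ℕ), chkConj T B l li rest qs cs = true →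
      ∀ q ∈ qs, ∃ c, agreeB T B [li, q.1, l] (nfPath rest c) = true := by
  intro qs
  induction qs with
  | nil => intro cs _ q hq; simp at hq
  | cons q0 qs ih =>
    intro cs h q hq
    cases cs with
    | nil => rw [chkConj_cons_nil] at h; exact absurd h (by simp)
    | cons c cs =>
      rw [chkConj_cons_cons, Bool.and_eq_true] at h
      rcases List.mem_cons.mp hq with rfl | hq'
      · exact ⟨c, h.1⟩
      · exact ih cs h.2 q hq'

/-- the chain condition for the letters `PL`, with the codes of the conjugates -/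
noncomputable def chkChain (k : ℕ) : List (ℕ × ℕ) → List (List ℕ) → Bool :=
  @List.rec (ℕ × ℕ) (fun _ => List (List ℕ) → Bool) (fun _ => true)
    (fun p rest ih css => @List.rec (List ℕ) (fun _ => Bool) false
      (fun cs css' _ => and (and (and (agreeB T B [p.1, p.1, p.1] []) (agreeB T B [p.1, p.2] []))
          (and (Nat.blt p.1 k) (Nat.blt p.2 k)))
        (and (chkConj T B p.1 p.2 rest rest cs) (ih css'))) css)

theorem chkChain_cons_nil (k : ℕ) (p : ℕ × ℕ) (rest : List (ℕ × ℕ)) : chkChain T B k (p :: rest) [] = false := rfl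
theorem chkChain_cons_cons (k : ℕ) (p : ℕ × ℕ) (rest : List (ℕ × ℕ)) (cs : List ℕ) (css : List (List ℕ)) :
    chkChain T B k (p :: rest) (cs :: css) =
      (((agreeB T B [p.1, p.1, p.1] [] && agreeB T B [p.1, p.2] []) && (Nat.blt p.1 k && Nat.blt p.2 k)) &&
        (chkConj T B p.1 p.2 rest rest cs && chkChain T B k rest css)) := rfl

/-- no letter is a normal form in the later letters -/
noncomputable def chkIndep : List (ℕ × ℕ) → Bool :=
  @List.rec (ℕ × ℕ) (fun _ => Bool) true
    (fun p rest ih => and (allLoop (fun e => not (agreeB T B [p.1] (nfPath rest e))) (3 ^ rest.length)) ih)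

theorem chkIndep_cons (p : ℕ × ℕ) (rest : List (ℕ × ℕ)) :
    chkIndep T B (p :: rest) =
      (allLoop (fun e => not (agreeB T B [p.1] (nfPath rest e))) (3 ^ rest.length) && chkIndep T B rest) := rfl

end Chain

section Sound
variable {T : Table} {hT : T.OK} {B : List ℕ} {X : Type*} [Group X] (M : Model hT B X)

/-- the letters of the chain are inverse to each other, of order dividing three and in range -/
def LettersOK (PL : List (ℕ × ℕ)) : Prop :=
  ∀ p ∈ PL, (M.η p.2 = (M.η p.1)⁻¹ ∧ M.η p.1 ^ 3 = 1) ∧ (p.1 < T.k ∧ p.2 < T.k)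

theorem chain_of_chk : ∀ (PL : List (ℕ × ℕ)) (CS : List (List ℕ)), chkChain T B T.k PL CS = true →
    LettersOK M PL ∧ Chain (gens M.η PL) := by
  intro PL
  induction PL with
  | nil => intro _ _; exact ⟨fun p hp => absurd hp (by simp), trivial⟩
  | cons p rest ih =>
    intro CS h
    cases CS with
    | nil => rw [chkChain_cons_nil] at h; exact absurd h (by simp)
    | cons cs css =>
      rw [chkChain_cons_cons] at h
      simp only [Bool.and_eq_true, Nat.blt_eq] at h
      obtain ⟨⟨⟨h3, hinv⟩, hl, hli⟩, hconj, hrest⟩ := h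
      obtain ⟨hok, hch⟩ := ih css hrest
      have lt1 : ltAll T.k [p.1, p.1, p.1] = true := (ltAll_iff _ _).mpr (by simp [hl])
      have lt0 : ltAll T.k [] = true := rfl
      have lt2 : ltAll T.k [p.1, p.2] = true := (ltAll_iff _ _).mpr (by
        intro l hl'
        simp only [List.mem_cons, List.not_mem_nil, or_false] at hl'
        rcases hl' with rfl | rfl
        · exact hl
        · exact hli)
      have e3 : M.η p.1 ^ 3 = 1 := by
        have := M.eq_of_agree lt1 lt0 h3
        simp only [pathProd, one_mul] at this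
        rw [← this, pow_succ, pow_succ, pow_one]
      have einv : M.η p.2 = (M.η p.1)⁻¹ := by
        have := M.eq_of_agree lt2 lt0 hinv
        simp only [pathProd, one_mul] at this
        exact eq_inv_of_mul_eq_one_left this
      have hok' : LettersOK M (p :: rest) := by
        intro q hq
        rcases List.mem_cons.mp hq with rfl | hq'
        · exact ⟨⟨einv, e3⟩, hl, hli⟩
        · exact hok q hq'
      refine ⟨hok', e3, ?_, hch⟩
      intro x hx
      change x ∈ List.map (fun p => M.η p.1) rest at hx
      rw [List.mem_map] at hx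
      obtain ⟨q, hq, rfl⟩ := hx
      change M.η p.1 * M.η q.1 * (M.η p.1)⁻¹ ∈ cl (gens M.η rest)
      obtain ⟨c, hc⟩ := chkConj_sound T B p.1 p.2 rest rest cs hconj q hq
      have lt3 : ltAll T.k [p.2, q.1, p.1] = true := (ltAll_iff _ _).mpr (by
        intro l hl'
        simp only [List.mem_cons, List.not_mem_nil, or_false] at hl'
        rcases hl' with rfl | rfl | rfl
        · exact hli
        · exact (hok q hq).2.1
        · exact hl)
      have lt4 : ltAll T.k (nfPath rest c) = true := ltAll_nfPath (fun r hr => (hok r hr).2) c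
      have := M.eq_of_agree lt3 lt4 hc
      rw [pathProd_nfPath M.η rest (fun r hr => (hok r hr).1)] at this
      simp only [pathProd, one_mul] at this
      rw [einv] at this
      rw [this]
      exact nfElt_mem _ _

theorem indep_of_chk : ∀ (PL : List (ℕ × ℕ)), LettersOK M PL → chkIndep T B PL = true →
    Indep (gens M.η PL) := by
  intro PL
  induction PL with
  | nil => intro _ _; trivial
  | cons p rest ih =>
    intro hok h
    rw [chkIndep_cons, Bool.and_eq_true, allLoop_eq_true] at h
    have hok' : LettersOK M rest := fun q hq => hok q (List.mem_cons_of_mem _ hq)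
    refine ⟨?_, ih hok' h.2⟩
    intro e he
    change e < 3 ^ (List.map (fun p => M.η p.1) rest).length at he
    rw [List.length_map] at he
    change M.η p.1 ≠ nfElt (gens M.η rest) e
    have h1 := h.1 e he
    have h2 : agreeB T B [p.1] (nfPath rest e) = false := by
      cases hh : agreeB T B [p.1] (nfPath rest e)
      · rfl
      · rw [hh] at h1; exact absurd h1 (by simp)
    have lt1 : ltAll T.k [p.1] = true := (ltAll_iff _ _).mpr (by
      intro l hl'
      simp only [List.mem_cons, List.not_mem_nil, or_false] at hl'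
      rw [hl']; exact (hok p List.mem_cons_self).2.1)
    have lt2 : ltAll T.k (nfPath rest e) = true := ltAll_nfPath (fun r hr => (hok' r hr).2) e
    have := M.ne_of_not_agree lt1 lt2 h2
    rw [pathProd_nfPath M.η rest (fun r hr => (hok' r hr).1)] at this
    simpa [pathProd] using this

end Sound

end Cfsg.Agent.Lib.Helper28.PcCert
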