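import Cfsg.Agent.Lib.Helper28.PcCert
set_option autoImplicit false

/-!
# Conjugacy certificates for the elements of order three of a polycyclic 3-subgroup

Every normal form code `e` has a slot: `0` (the element is trivial or its cube moves a base point), or a root
index and a short path conjugating the element to the root element; the roots carry a long path conjugating them
to a class representative.
-/

namespace Cfsg.Agent.Lib.Helper28.PcElt
open Cfsg.Agent.Lib.Helper28.TC2Upper Cfsg.Agent.Lib.Helper28.TC2Lower Cfsg.Agent.Lib.Helper28.TC2Range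
open Cfsg.Agent.Lib.Helper28.TC2Bsgs Cfsg.Agent.Lib.Helper28.PcChain Cfsg.Agent.Lib.Helper28.PcCert

/-- certificate data -/
structure Cert where
  /-- the letters of the chain: (letter, inverse letter) -/
  PL : List (ℕ × ℕ)
  /-- number of classes and the codes of their representatives -/
  ny : ℕ
  ycode : BT ℕ
  /-- number of roots; root = (code, class, path) -/
  nr : ℕ
  root : BT (ℕ × ℕ × List ℕ)
  /-- slot width, modulus, slots per chunk, chunks -/
  W : ℕ
  MW : ℕ
  CH : ℕ
  col : BT ℕ
  /-- bound for the length of the short paths -/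
  fuel : ℕ

namespace Cert
variable (C : Cert)

/-- the slot of the code `e` -/
noncomputable def cslot (e : ℕ) : ℕ :=
  force (Nat.div e C.CH) (fun j => slot C.W C.MW (C.col.look j) (Nat.mod e C.CH))

/-- decode a path: digits in base 32, shifted by one; `0` ends the path -/
noncomputable def dpath (fuel : ℕ) : ℕ → List ℕ :=
  @Nat.rec (fun _ => ℕ → List ℕ) (fun _ => [])
    (fun _ ih c => cond (Nat.beq c 0) []
      (force (Nat.pred (Nat.mod c 32)) fun l => force (Nat.div c 32) fun c' => List.cons l (ih c'))) fuel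

/-- the certificate of a root -/
noncomputable def chkRoot (T : Table) (B : List ℕ) (ρ : ℕ) : Bool :=
  and (and (Nat.blt (C.root.look ρ).2.1 C.ny) (ltAll T.k (C.root.look ρ).2.2))
    (agreeB T B (List.append (nfPath C.PL (C.root.look ρ).1) (C.root.look ρ).2.2)
      (List.append (C.root.look ρ).2.2 (nfPath C.PL (C.ycode.look (C.root.look ρ).2.1))))

/-- all roots -/
noncomputable def chkRoots (T : Table) (B : List ℕ) : Bool := allLoop (fun ρ => chkRoot C T B ρ) C.nr

/-- the certificate of the code `e` with slot `c` -/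
noncomputable def chkEltAux (T : Table) (B : List ℕ) (e c : ℕ) : Bool :=
  cond (Nat.beq c 0)
    (or (Nat.beq e 0)
      (not (agreeB T B (List.append (nfPath C.PL e) (List.append (nfPath C.PL e) (nfPath C.PL e))) [])))
    (force (Nat.pred (Nat.mod c 64)) fun ρ => force (Nat.div c 64) fun pc =>
      and (and (Nat.blt ρ C.nr) (ltAll T.k (dpath C.fuel pc)))
        (agreeB T B (List.append (nfPath C.PL e) (dpath C.fuel pc))
          (List.append (dpath C.fuel pc) (nfPath C.PL (C.root.look ρ).1))))

/-- the certificate of the code `e` -/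
noncomputable def chkElt (T : Table) (B : List ℕ) (e : ℕ) : Bool := force (C.cslot e) (chkEltAux C T B e)

/-- the certificates of `lo, …, lo + cnt - 1` -/
noncomputable def chkRange (T : Table) (B : List ℕ) (lo cnt : ℕ) : Bool :=
  allLoop (fun i => chkElt C T B (Nat.add lo i)) cnt

theorem chkRange_iff (T : Table) (B : List ℕ) (lo cnt : ℕ) :
    chkRange C T B lo cnt = true ↔ ∀ e, lo ≤ e → e < lo + cnt → chkElt C T B e = true :=
  allLoop_add_iff _ lo cnt

/-- the representatives have order three -/
noncomputable def chkY (T : Table) (B : List ℕ) : Bool :=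
  allLoop (fun i => and
    (agreeB T B (List.append (nfPath C.PL (C.ycode.look i))
      (List.append (nfPath C.PL (C.ycode.look i)) (nfPath C.PL (C.ycode.look i)))) [])
    (not (agreeB T B (nfPath C.PL (C.ycode.look i)) []))) C.ny

end Cert

section Sound
variable {T : Table} {hT : T.OK} {B : List ℕ} {X : Type*} [Group X] (M : Model hT B X)

theorem nfElt_zero {G : Type*} [Group G] (gs : List G) : nfElt gs 0 = 1 := by
  induction gs with
  | nil => rfl
  | cons g gs ih =>
    show nfElt gs (0 / 3) * g ^ (0 % 3) = 1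
    simp [ih]

theorem conj_of_agree {x s r : List ℕ} (hx : ltAll T.k x = true) (hs : ltAll T.k s = true)
    (hr : ltAll T.k r = true) (h : agreeB T B (x ++ s) (s ++ r) = true) :
    pathProd M.η s * pathProd M.η x * (pathProd M.η s)⁻¹ = pathProd M.η r := by
  have := M.eq_of_agree (ltAll_append hx hs) (ltAll_append hs hr) h
  rw [pathProd_append, pathProd_append] at this
  rw [this]
  group

theorem cube_of_path (x : List ℕ) :
    pathProd M.η (x ++ (x ++ x)) = pathProd M.η x ^ 3 := by
  rw [pathProd_append, pathProd_append, pow_succ, pow_two]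

variable (C : Cert)

theorem good_of_chkElt (hok : LettersOK M C.PL) (hroot : C.chkRoots T B = true)
    (e : ℕ) (h : C.chkElt T B e = true) (ho : orderOf (nfElt (gens M.η C.PL) e) = 3) :
    ∃ g : X, ∃ i, i < C.ny ∧
      g * nfElt (gens M.η C.PL) e * g⁻¹ = nfElt (gens M.η C.PL) (C.ycode.look i) := by
  have hnf : ∀ c, pathProd M.η (nfPath C.PL c) = nfElt (gens M.η C.PL) c :=
    pathProd_nfPath M.η C.PL (fun r hr => (hok r hr).1)
  have hlt : ∀ c, ltAll T.k (nfPath C.PL c) = true := fun c => ltAll_nfPath (fun r hr => (hok r hr).2) c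
  unfold Cert.chkElt at h
  rw [force_eq] at h
  unfold Cert.chkEltAux at h
  cases hc : Nat.beq (C.cslot e) 0
  · rw [hc, cond_false, force_eq, force_eq] at h
    simp only [Bool.and_eq_true, Nat.blt_eq] at h
    obtain ⟨⟨hρ, hs⟩, hag⟩ := h
    have hag' : agreeB T B (nfPath C.PL e ++ Cert.dpath C.fuel (Nat.div (C.cslot e) 64))
        (Cert.dpath C.fuel (Nat.div (C.cslot e) 64) ++
          nfPath C.PL (C.root.look (Nat.pred (Nat.mod (C.cslot e) 64))).1) = true := hag
    have h1 := conj_of_agree M (hlt e) hs (hlt _) hag'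
    rw [hnf, hnf] at h1
    unfold Cert.chkRoots at hroot
    rw [allLoop_eq_true] at hroot
    have hr := hroot _ hρ
    unfold Cert.chkRoot at hr
    simp only [Bool.and_eq_true, Nat.blt_eq] at hr
    obtain ⟨⟨hi, hk⟩, hag2⟩ := hr
    have hag2' : agreeB T B (nfPath C.PL (C.root.look (Nat.pred (Nat.mod (C.cslot e) 64))).1 ++
          (C.root.look (Nat.pred (Nat.mod (C.cslot e) 64))).2.2)
        ((C.root.look (Nat.pred (Nat.mod (C.cslot e) 64))).2.2 ++
          nfPath C.PL (C.ycode.look (C.root.look (Nat.pred (Nat.mod (C.cslot e) 64))).2.1)) = true := hag2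
    have h2 := conj_of_agree M (hlt _) hk (hlt _) hag2'
    rw [hnf, hnf] at h2
    refine ⟨pathProd M.η (C.root.look (Nat.pred (Nat.mod (C.cslot e) 64))).2.2 *
      pathProd M.η (Cert.dpath C.fuel (Nat.div (C.cslot e) 64)), _, hi, ?_⟩
    rw [← h2, ← h1]
    group
  · rw [hc, cond_true, Bool.or_eq_true] at h
    exfalso
    rcases h with h | h
    · rw [Data.nbeq_iff] at h
      rw [h, nfElt_zero, orderOf_one] at ho
      omega
    · have h' : agreeB T B (nfPath C.PL e ++ (nfPath C.PL e ++ nfPath C.PL e)) [] = false := by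
        cases hh : agreeB T B (nfPath C.PL e ++ (nfPath C.PL e ++ nfPath C.PL e)) []
        · rfl
        · have h'' : (!agreeB T B (nfPath C.PL e ++ (nfPath C.PL e ++ nfPath C.PL e)) []) = true := h
          rw [hh] at h''
          exact absurd h'' (by simp)
      have := M.ne_of_not_agree (ltAll_append (hlt e) (ltAll_append (hlt e) (hlt e))) rfl h'
      rw [cube_of_path, hnf] at this
      apply this
      rw [← ho]
      exact pow_orderOf_eq_one _

theorem orderOf_y (hok : LettersOK M C.PL) (hy : C.chkY T B = true) (i : ℕ) (hi : i < C.ny) :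
    orderOf (nfElt (gens M.η C.PL) (C.ycode.look i)) = 3 := by
  have hnf : ∀ c, pathProd M.η (nfPath C.PL c) = nfElt (gens M.η C.PL) c :=
    pathProd_nfPath M.η C.PL (fun r hr => (hok r hr).1)
  have hlt : ∀ c, ltAll T.k (nfPath C.PL c) = true := fun c => ltAll_nfPath (fun r hr => (hok r hr).2) c
  unfold Cert.chkY at hy
  rw [allLoop_eq_true] at hy
  have h := hy i hi
  rw [Bool.and_eq_true] at h
  obtain ⟨h3, h1⟩ := h
  have h3' : agreeB T B (nfPath C.PL (C.ycode.look i) ++
      (nfPath C.PL (C.ycode.look i) ++ nfPath C.PL (C.ycode.look i))) [] = true := h3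
  have e3 := M.eq_of_agree (ltAll_append (hlt _) (ltAll_append (hlt _) (hlt _))) rfl h3'
  rw [cube_of_path, hnf] at e3
  have h1' : agreeB T B (nfPath C.PL (C.ycode.look i)) [] = false := by
    cases hh : agreeB T B (nfPath C.PL (C.ycode.look i)) []
    · rfl
    · rw [hh] at h1; exact absurd h1 (by simp)
  have e1 := M.ne_of_not_agree (hlt _) rfl h1'
  rw [hnf] at e1
  have : Fact (Nat.Prime 3) := ⟨by norm_num⟩
  exact orderOf_eq_prime e3 e1

/-- every element of order three is conjugate to a representative -/
theorem exists_conj_rep [Finite X] (CS : List (List ℕ))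
    (hchain : chkChain T B T.k C.PL CS = true) (hindep : chkIndep T B C.PL = true)
    (hroot : C.chkRoots T B = true)
    (helt : ∀ e, e < 3 ^ C.PL.length → C.chkElt T B e = true)
    (hcard : (Nat.card X).factorization 3 = C.PL.length)
    (z : X) (hz : orderOf z = 3) :
    ∃ g : X, ∃ i, i < C.ny ∧ g * z * g⁻¹ = nfElt (gens M.η C.PL) (C.ycode.look i) := by
  obtain ⟨hok, hch⟩ := chain_of_chk M C.PL CS hchain
  have hin := indep_of_chk M C.PL hok hindep
  have hlen : (gens M.η C.PL).length = C.PL.length := by unfold gens; simp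
  have hP : Nat.card (cl (gens M.η C.PL)) = 3 ^ (Nat.card X).factorization 3 := by
    rw [card_cl _ hch hin, hlen, hcard]
  have : Fact (Nat.Prime 3) := ⟨by norm_num⟩
  obtain ⟨g, hg⟩ := exists_conj_mem_of_card 3 (cl (gens M.η C.PL)) hP z hz
  obtain ⟨e, he, hge⟩ := exists_nf _ hch _ hg
  rw [hlen] at he
  have ho : orderOf (nfElt (gens M.η C.PL) e) = 3 := by
    rw [← hge, ← hz]
    have : g * z * g⁻¹ = MulAut.conj g z := rfl
    rw [this]
    exact MulEquiv.orderOf_eq _ _
  obtain ⟨g', i, hi, hgi⟩ := good_of_chkElt M C hok hroot e (helt e he) ho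
  refine ⟨g' * g, i, hi, ?_⟩
  rw [← hgi, ← hge]
  group

end Sound

end Cfsg.Agent.Lib.Helper28.PcElt
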