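import Cfsg.Agent.Lib.Helper28.TC2Range
set_option autoImplicit false

/-!
# Number of moved points of a permutation given by a path of a table
-/

namespace Cfsg.Agent.Lib.Helper28.PcFix
open Cfsg.Agent.Lib.Helper28.TC2Upper Cfsg.Agent.Lib.Helper28.TC2Lower

/-- number of `i < n` with `f i = true` -/
noncomputable def cntLoop (f : ℕ → Bool) (n : ℕ) : ℕ :=
  @Nat.rec (fun _ => ℕ) 0 (fun i ih => cond (f i) (Nat.succ ih) ih) n

theorem cntLoop_succ (f : ℕ → Bool) (n : ℕ) :
    cntLoop f (n + 1) = cond (f n) (cntLoop f n + 1) (cntLoop f n) := rfl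

theorem card_filter_fin (f : ℕ → Bool) (n : ℕ) :
    (Finset.univ.filter fun p : Fin n => f p.val = true).card = cntLoop f n := by
  induction n with
  | zero => rfl
  | succ n ih =>
    rw [cntLoop_succ, ← ih, Finset.card_filter, Finset.card_filter, Fin.sum_univ_castSucc]
    simp only [Fin.val_castSucc, Fin.val_last]
    by_cases hf : f n = true
    · simp [hf]
    · have hf' : f n = false := by simpa using hf
      simp [hf']

/-- number of points moved by the path `u` -/
noncomputable def movedCount (T : Table) (u : List ℕ) : ℕ :=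
  cntLoop (fun p => not (Nat.beq (T.walkT u p) p)) T.n

theorem card_support_eq {T : Table} (u : List ℕ) (π : Equiv.Perm (Fin T.n))
    (h : ∀ p : Fin T.n, (π p).val = T.walkT u p.val) : π.support.card = movedCount T u := by
  unfold movedCount
  rw [← card_filter_fin]
  congr 1
  ext p
  rw [Equiv.Perm.mem_support, Finset.mem_filter]
  simp only [Finset.mem_univ, true_and]
  rw [← h p]
  constructor
  · intro hne
    cases hh : Nat.beq (π p).val p.val
    · rfl
    · rw [Data.nbeq_iff] at hh
      exact absurd (Fin.ext hh) hne
  · intro hb heq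
    rw [heq] at hb
    have : Nat.beq p.val p.val = true := (Data.nbeq_iff _ _).mpr rfl
    rw [this] at hb
    exact absurd hb (by simp)

/-- conjugate permutations (up to inversion) move the same number of points -/
theorem card_support_of_conj {α : Type*} [DecidableEq α] [Fintype α] {π ρ g : Equiv.Perm α}
    (h : g * π * g⁻¹ = ρ ∨ g * π * g⁻¹ = ρ⁻¹) : π.support.card = ρ.support.card := by
  rcases h with h | h
  · rw [← h, Equiv.Perm.card_support_conj]
  · have : ρ.support = (ρ⁻¹).support := (Equiv.Perm.support_inv ρ).symm
    rw [this, ← h, Equiv.Perm.card_support_conj]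

end Cfsg.Agent.Lib.Helper28.PcFix
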