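import Cfsg.Agent.Lib.Helper28.SteinerDerived
import Cfsg.Agent.Lib.Helper28.Plane4
set_option autoImplicit false

/-!
A concrete model of the projective plane of order 4 on `Fin 21` (the cyclic model from the
perfect difference set `0, 1, 4, 14, 16` modulo 21), its 168 hyperovals in three classes, and the
three extensions to a system on `Fin 22`.
-/

open Cfsg

namespace Cfsg.Agent.Lib.Helper28.Plane4Model
open Cfsg.Agent.Lib.Helper28.GolayCode Cfsg.Agent.Lib.Helper28.FinMask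
open Cfsg.Agent.Lib.Helper28.SteinerDerived

/-- the 21 lines as bitmasks -/
def lineMasks : List ℕ := [
  0x14013, 0x28026, 0x5004c, 0xa0098, 0x140130, 0x80261, 0x1004c2, 0x985,
  0x130a, 0x2614, 0x4c28, 0x9850, 0x130a0, 0x26140, 0x4c280, 0x98500,
  0x130a00, 0x61401, 0xc2802, 0x185004, 0x10a009]

/-- the 168 hyperovals as bitmasks, each with its class -/
def hypAll : List (ℕ × ℕ) := [
  (0x1564, 0), (0x207a, 0), (0x4a46, 0), (0x50c9, 0), (0x84b1, 0), (0xab20, 0),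
  (0xc11c, 0), (0xf402, 0), (0x103d0, 0), (0x12c41, 0), (0x1888a, 0), (0x19205, 0),
  (0x20d12, 0), (0x22283, 0), (0x2380c, 0), (0x25230, 0), (0x28648, 0), (0x30129, 0),
  (0x34484, 0), (0x40a19, 0), (0x41096, 0), (0x42588, 0), (0x46025, 0), (0x48143, 0),
  (0x50622, 0), (0x55900, 0), (0x608e0, 0), (0x7a010, 0), (0x8040f, 0), (0x81e80, 0),
  (0x83111, 0), (0x841a2, 0), (0x8a0c4, 0), (0x90834, 0), (0x96208, 0), (0xac801, 0),
  (0xb1042, 0), (0xc4450, 0), (0xc9028, 0), (0xe0304, 0), (0x1002ac, 0), (0x101823, 0),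
  (0x104701, 0), (0x106890, 0), (0x111418, 0), (0x112106, 0), (0x11c060, 0), (0x120055, 0),
  (0x129180, 0), (0x143240, 0), (0x148c04, 0), (0x16400a, 0), (0x180948, 0), (0x188212, 0),
  (0x1a2420, 0), (0x1d0081, 0), (0x559, 1), (0x2ac8, 1), (0x3047, 1), (0x40f4, 1),
  (0x8e03, 1), (0x948c, 1), (0xa192, 1), (0xd121, 1), (0x10962, 1), (0x15640, 1),
  (0x18238, 1), (0x1e804, 1), (0x207a0, 1), (0x22831, 1), (0x2420d, 1), (0x25882, 1),
  (0x31114, 1), (0x3240a, 1), (0x380c1, 1), (0x400ab, 1), (0x41a24, 1), (0x44506, 1),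
  (0x47018, 1), (0x4a460, 1), (0x50c90, 1), (0x52301, 1), (0x60252, 1), (0x68908, 1),
  (0x81432, 1), (0x8212c, 1), (0x84b10, 1), (0x86481, 1), (0x8c04a, 1), (0x90286, 1),
  (0x91809, 1), (0xa0c44, 1), (0xab200, 1), (0xc11c0, 1), (0xc8015, 1), (0xf4020, 1),
  (0x10081e, 1), (0x101291, 1), (0x103d00, 1), (0x106222, 1), (0x108344, 1), (0x110425, 1),
  (0x114188, 1), (0x121068, 1), (0x12c410, 1), (0x144841, 1), (0x159002, 1), (0x162084, 1),
  (0x1888a0, 1), (0x192050, 1), (0x1a0103, 1), (0x1c0608, 1), (0xab2, 2), (0x103d, 2),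
  (0x2523, 2), (0x5590, 2), (0x608e, 2), (0x7a01, 2), (0x81e8, 2), (0xc445, 2),
  (0x10689, 2), (0x11c06, 2), (0x12918, 2), (0x14324, 2), (0x1a242, 2), (0x2084b, 2),
  (0x212c4, 2), (0x28311, 2), (0x2ac80, 2), (0x30470, 2), (0x3d008, 2), (0x40f40, 2),
  (0x420d1, 2), (0x45062, 2), (0x4841a, 2), (0x4b104, 2), (0x58821, 2), (0x62228, 2),
  (0x64814, 2), (0x70182, 2), (0x80156, 2), (0x83448, 2), (0x88a0c, 2), (0x89083, 2),
  (0x8e030, 2), (0x948c0, 2), (0xa1920, 2), (0xa4602, 2), (0xb2005, 2), (0xc04a4, 2),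
  (0xc4109, 2), (0xd1210, 2), (0x102864, 2), (0x104258, 2), (0x109620, 2), (0x10c902, 2),
  (0x111141, 2), (0x118094, 2), (0x12050c, 2), (0x123012, 2), (0x1240a1, 2), (0x140207, 2),
  (0x141888, 2), (0x156400, 2), (0x180c11, 2), (0x182380, 2), (0x19002a, 2), (0x1e8040, 2)]

end Cfsg.Agent.Lib.Helper28.Plane4Model
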