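import Cfsg.Agent.Lib.Helper28.Plane4Data
set_option autoImplicit false

/-!
Facts about the concrete plane of order 4 on `Fin 21`: it is a Steiner system, `hypAll` lists all
its hyperovals, two hyperovals meet evenly iff they have the same class, and the cyclic shift
permutes the three extensions `E 0`, `E 1`, `E 2` cyclically.
-/

open Cfsg

namespace Cfsg.Agent.Lib.Helper28.Plane4Model
open Cfsg.Agent.Lib.Helper28.GolayCode Cfsg.Agent.Lib.Helper28.FinMask
open Cfsg.Agent.Lib.Helper28.SteinerDerived Cfsg.Agent.Lib.Helper28.Plane4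
open Cfsg.Agent.S5627

/-- the concrete plane of order 4 -/
def L0 : Set (Finset (Fin 21)) := {s | ∃ m ∈ lineMasks, s = fset 21 m}

theorem lineMasks_lt : ∀ m ∈ lineMasks, m < 2 ^ 21 := by decide +kernel

theorem lineMasks_card : ∀ m ∈ lineMasks, popcN 21 m = 5 := by decide +kernel

theorem line_through : ∀ a b : Fin 21, a ≠ b → ∃ m ∈ lineMasks,
    (m.testBit a.val = true ∧ m.testBit b.val = true) ∧
      ∀ m' ∈ lineMasks, m'.testBit a.val = true → m'.testBit b.val = true → m' = m := by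
  decide +kernel

theorem isSteiner_L0 : IsSteinerSystem 2 5 L0 := by
  constructor
  · rintro s ⟨m, hm, rfl⟩
    rw [card_fset]; exact lineMasks_card m hm
  · intro s hs
    obtain ⟨a, b, hab, rfl⟩ := Finset.card_eq_two.mp hs
    obtain ⟨m, hm, ⟨ha, hb⟩, huniq⟩ := line_through a b hab
    refine ⟨fset 21 m, ⟨⟨m, hm, rfl⟩, ?_⟩, ?_⟩
    · intro z hz
      simp only [Finset.mem_insert, Finset.mem_singleton] at hz
      rcases hz with rfl | rfl
      · exact mem_fset.mpr ha
      · exact mem_fset.mpr hb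
    · rintro c ⟨⟨m', hm', rfl⟩, hsub⟩
      have ha' := mem_fset.mp (hsub (by simp : a ∈ ({a, b} : Finset (Fin 21))))
      have hb' := mem_fset.mp (hsub (by simp : b ∈ ({a, b} : Finset (Fin 21))))
      rw [huniq m' hm' ha' hb']

theorem card_fin21 : Fintype.card (Fin 21) = 21 := Fintype.card_fin 21

theorem hyp_lt : ∀ p ∈ hypAll, p.1 < 2 ^ 21 ∧ p.2 < 3 := by decide +kernel

theorem hyp_indep : ∀ p ∈ hypAll, popcN 21 p.1 = 6 ∧
    ∀ l ∈ lineMasks, popcN 21 (l &&& p.1) ≤ 2 := by decide +kernel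

theorem hyp_nodup : (hypAll.map Prod.fst).Nodup := by decide +kernel

theorem hyp_length : hypAll.length = 168 := by decide +kernel

theorem hyp_parity : ∀ p ∈ hypAll, ∀ q ∈ hypAll,
    (popcN 21 (p.1 &&& q.1) % 2 = 0 ↔ p.2 = q.2) := by decide +kernel

theorem isHyperoval_fset {p : ℕ × ℕ} (hp : p ∈ hypAll) : IsHyperoval L0 (fset 21 p.1) := by
  obtain ⟨h1, h2⟩ := hyp_indep p hp
  refine ⟨by rw [card_fset]; exact h1, ?_⟩
  rintro l ⟨m, hm, rfl⟩
  rw [← fset_and, card_fset]
  exact h2 m hm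

theorem exists_mask_of_hyperoval {K : Finset (Fin 21)} (hK : IsHyperoval L0 K) :
    ∃ p ∈ hypAll, K = fset 21 p.1 := by
  have hnd : (hypAll.map (fun p => fset 21 p.1)).Nodup := by
    have : hypAll.map (fun p => fset 21 p.1) = (hypAll.map Prod.fst).map (fset 21) := by
      rw [List.map_map]; rfl
    rw [this]
    refine List.Nodup.map_on ?_ hyp_nodup
    intro a ha b hb e
    obtain ⟨p, hp, rfl⟩ := List.mem_map.mp ha
    obtain ⟨q, hq, rfl⟩ := List.mem_map.mp hb
    exact fset_inj _ _ (hyp_lt p hp).1 (hyp_lt q hq).1 e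
  have hsub : (hypAll.map (fun p => fset 21 p.1)).toFinset ⊆ IndepSets L0 6 := by
    intro S hS
    rw [List.mem_toFinset, List.mem_map] at hS
    obtain ⟨p, hp, rfl⟩ := hS
    have := isHyperoval_fset hp
    exact mem_IndepSets.mpr ⟨this.card, this.indep⟩
  have hcard : (hypAll.map (fun p => fset 21 p.1)).toFinset.card = 168 := by
    rw [List.toFinset_card_of_nodup hnd, List.length_map, hyp_length]
  have heq := Finset.eq_of_subset_of_card_le hsub
    (by rw [hcard, card_IndepSets_six card_fin21 isSteiner_L0])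
  have hK' : K ∈ IndepSets L0 6 := mem_IndepSets.mpr ⟨hK.card, hK.indep⟩
  rw [← heq, List.mem_toFinset, List.mem_map] at hK'
  obtain ⟨p, hp, e⟩ := hK'
  exact ⟨p, hp, e.symm⟩

theorem inter_parity {p q : ℕ × ℕ} (hp : p ∈ hypAll) (hq : q ∈ hypAll) :
    (fset 21 p.1 ∩ fset 21 q.1).card % 2 = 0 ↔ p.2 = q.2 := by
  rw [← fset_and, card_fset]
  exact hyp_parity p hp q hq

/-- the three candidate extensions -/
def E (i : ℕ) : Set (Finset (Fin 22)) :=
  {s | (∃ m ∈ lineMasks, s = fset 22 (m + 2 ^ 21)) ∨ ∃ p ∈ hypAll, p.2 = i ∧ s = fset 22 p.1}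

/-- the cyclic shift on the 21 plane points, fixing the extra point -/
def tauFun (i : Fin 22) : Fin 22 := if i = 21 then 21 else if i = 20 then 0 else i + 1

/-- inverse of the cyclic shift -/
def tauInv (i : Fin 22) : Fin 22 := if i = 21 then 21 else if i = 0 then 20 else i - 1

/-- the cyclic shift as a permutation -/
def tau : Equiv.Perm (Fin 22) :=
  ⟨tauFun, tauInv, by intro x; revert x; decide, by intro x; revert x; decide⟩

/-- the cyclic shift on bitmasks -/
def shiftMask (m : ℕ) : ℕ := (m % 2 ^ 20) * 2 + (m / 2 ^ 20 % 2) + (m / 2 ^ 21) * 2 ^ 21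

theorem shift_bits_lines : ∀ m ∈ lineMasks, ∀ i : Fin 22,
    (shiftMask (m + 2 ^ 21)).testBit (tau i).val = (m + 2 ^ 21).testBit i.val := by
  decide +kernel

theorem shift_bits_hyp : ∀ p ∈ hypAll, ∀ i : Fin 22,
    (shiftMask p.1).testBit (tau i).val = p.1.testBit i.val := by
  decide +kernel

theorem shift_lines : ∀ m ∈ lineMasks, ∃ m' ∈ lineMasks, shiftMask (m + 2 ^ 21) = m' + 2 ^ 21 := by
  decide +kernel

theorem shift_lines' : ∀ m' ∈ lineMasks, ∃ m ∈ lineMasks, shiftMask (m + 2 ^ 21) = m' + 2 ^ 21 := by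
  decide +kernel

theorem shift_hyp : ∀ p ∈ hypAll, ∃ q ∈ hypAll, shiftMask p.1 = q.1 ∧ q.2 = (p.2 + 1) % 3 := by
  decide +kernel

theorem shift_hyp' : ∀ q ∈ hypAll, ∃ p ∈ hypAll, shiftMask p.1 = q.1 ∧ q.2 = (p.2 + 1) % 3 := by
  decide +kernel

theorem imgSys_tau {i : ℕ} (hi : i < 3) : imgSys tau (E i) = E ((i + 1) % 3) := by
  ext s
  constructor
  · rintro ⟨b, hb, rfl⟩
    rcases hb with ⟨m, hm, rfl⟩ | ⟨p, hp, hpi, rfl⟩
    · obtain ⟨m', hm', e⟩ := shift_lines m hm
      left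
      refine ⟨m', hm', ?_⟩
      show (fset 22 (m + 2 ^ 21)).image tau = _
      rw [← e]
      exact image_fset_eq tau (shift_bits_lines m hm)
    · obtain ⟨q, hq, e, hq2⟩ := shift_hyp p hp
      right
      refine ⟨q, hq, by rw [hq2, hpi], ?_⟩
      show (fset 22 p.1).image tau = _
      rw [← e]
      exact image_fset_eq tau (shift_bits_hyp p hp)
  · rintro (⟨m', hm', rfl⟩ | ⟨q, hq, hqi, rfl⟩)
    · obtain ⟨m, hm, e⟩ := shift_lines' m' hm'
      refine ⟨fset 22 (m + 2 ^ 21), Or.inl ⟨m, hm, rfl⟩, ?_⟩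
      show (fset 22 (m + 2 ^ 21)).image tau = _
      rw [← e]
      exact image_fset_eq tau (shift_bits_lines m hm)
    · obtain ⟨p, hp, e, hq2⟩ := shift_hyp' q hq
      have hp3 := (hyp_lt p hp).2
      have hpi : p.2 = i := by omega
      refine ⟨fset 22 p.1, Or.inr ⟨p, hp, hpi, rfl⟩, ?_⟩
      show (fset 22 p.1).image tau = _
      rw [← e]
      exact image_fset_eq tau (shift_bits_hyp p hp)

theorem iso_E_zero {i : ℕ} (hi : i < 3) : SetSystemIso (E i) (E 0) := by
  have h01 : SetSystemIso (E 0) (E 1) := ⟨tau, imgSys_tau (by norm_num : 0 < 3)⟩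
  have h20 : SetSystemIso (E 2) (E 0) := ⟨tau, imgSys_tau (by norm_num : 2 < 3)⟩
  interval_cases i
  · exact iso_refl _
  · exact iso_symm h01
  · exact h20

end Cfsg.Agent.Lib.Helper28.Plane4Model
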