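import Cfsg.Agent.Lib.Helper28.HeptFacts
import Cfsg.Agent.Lib.Helper28.S3622
set_option autoImplicit false
set_option linter.unusedSectionVars false

/-!
Steiner systems S(4, 7, 23): two blocks meet in 0, 1 or 3 points; a system on `Fin 23` whose
derived design at the last point is the standard S(3, 6, 22) is one of the two systems `F i`,
which are isomorphic.
-/

open Cfsg

namespace Cfsg.Agent.Lib.Helper28.S4723
open Cfsg.Agent.Lib.Helper28.GolayCode Cfsg.Agent.Lib.Helper28.FinMask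
open Cfsg.Agent.Lib.Helper28.Comb Cfsg.Agent.Lib.Helper28.Plane4Model
open Cfsg.Agent.Lib.Helper28.SteinerDerived Cfsg.Agent.Lib.Helper28.S3622

/-- the two candidate extensions -/
def F (i : ℕ) : Set (Finset (Fin 23)) :=
  {s | (∃ m ∈ E0masks, s = fset 23 (m + 2 ^ 22)) ∨ ∃ p ∈ heptAll, p.2 = i ∧ s = fset 23 p.1}

/-- multiplication by 2 on the 21 plane points, fixing the two extra points -/
def muFun (i : Fin 23) : Fin 23 := if h : i.val < 21 then ⟨(2 * i.val) % 21, by omega⟩ else i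

/-- multiplication by 11 on the 21 plane points, fixing the two extra points -/
def muInv (i : Fin 23) : Fin 23 := if h : i.val < 21 then ⟨(11 * i.val) % 21, by omega⟩ else i

/-- multiplication by 2 as a permutation -/
def mu : Equiv.Perm (Fin 23) :=
  ⟨muFun, muInv, by intro x; revert x; decide, by intro x; revert x; decide⟩

/-- multiplication by 2 on bitmasks -/
noncomputable def mulMask (m : ℕ) : ℕ :=
  sumLoop (fun i => Nat.mul (bitN m i) (Nat.pow 2 (Nat.mod (Nat.mul 2 i) 21))) 21 +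
    (m / 2 ^ 21) * 2 ^ 21

theorem mu_bits_E0 : ∀ m ∈ E0masks, ∀ i : Fin 23,
    (mulMask (m + 2 ^ 22)).testBit (mu i).val = (m + 2 ^ 22).testBit i.val := by
  decide +kernel

theorem mu_bits_hept : ∀ p ∈ heptAll, ∀ i : Fin 23,
    (mulMask p.1).testBit (mu i).val = p.1.testBit i.val := by
  decide +kernel

theorem mu_E0 : ∀ m ∈ E0masks, ∃ m' ∈ E0masks, mulMask (m + 2 ^ 22) = m' + 2 ^ 22 := by
  decide +kernel

theorem mu_E0' : ∀ m' ∈ E0masks, ∃ m ∈ E0masks, mulMask (m + 2 ^ 22) = m' + 2 ^ 22 := by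
  decide +kernel

theorem mu_hept : ∀ p ∈ heptAll, ∃ q ∈ heptAll, mulMask p.1 = q.1 ∧ q.2 = 1 - p.2 := by
  decide +kernel

theorem mu_hept' : ∀ q ∈ heptAll, ∃ p ∈ heptAll, mulMask p.1 = q.1 ∧ q.2 = 1 - p.2 := by
  decide +kernel

theorem imgSys_mu {i : ℕ} (hi : i < 2) : imgSys mu (F i) = F (1 - i) := by
  ext s
  constructor
  · rintro ⟨b, hb, rfl⟩
    rcases hb with ⟨m, hm, rfl⟩ | ⟨p, hp, hpi, rfl⟩
    · obtain ⟨m', hm', e⟩ := mu_E0 m hm
      left
      refine ⟨m', hm', ?_⟩
      show (fset 23 (m + 2 ^ 22)).image mu = _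
      rw [← e]
      exact image_fset_eq mu (mu_bits_E0 m hm)
    · obtain ⟨q, hq, e, hq2⟩ := mu_hept p hp
      right
      refine ⟨q, hq, by rw [hq2, hpi], ?_⟩
      show (fset 23 p.1).image mu = _
      rw [← e]
      exact image_fset_eq mu (mu_bits_hept p hp)
  · rintro (⟨m', hm', rfl⟩ | ⟨q, hq, hqi, rfl⟩)
    · obtain ⟨m, hm, e⟩ := mu_E0' m' hm'
      refine ⟨fset 23 (m + 2 ^ 22), Or.inl ⟨m, hm, rfl⟩, ?_⟩
      show (fset 23 (m + 2 ^ 22)).image mu = _
      rw [← e]
      exact image_fset_eq mu (mu_bits_E0 m hm)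
    · obtain ⟨p, hp, e, hq2⟩ := mu_hept' q hq
      have hp2 := (hept_lt p hp).2
      have hpi : p.2 = i := by omega
      refine ⟨fset 23 p.1, Or.inr ⟨p, hp, hpi, rfl⟩, ?_⟩
      show (fset 23 p.1).image mu = _
      rw [← e]
      exact image_fset_eq mu (mu_bits_hept p hp)

theorem iso_F_zero {i : ℕ} (hi : i < 2) : SetSystemIso (F i) (F 0) := by
  interval_cases i
  · exact iso_refl _
  · exact ⟨mu, imgSys_mu (by norm_num : 1 < 2)⟩

/-- two distinct blocks of an S(4, 7, 23) meet in 0, 1 or 3 points -/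
theorem inter_card_S4723 {α : Type*} [Fintype α] [DecidableEq α] (hα : Fintype.card α = 23)
    {B : Set (Finset α)} (hB : IsSteinerSystem 4 7 B) {b b' : Finset α} (hb : b ∈ B)
    (hb' : b' ∈ B) (hne : b ≠ b') :
    (b ∩ b').card = 0 ∨ (b ∩ b').card = 1 ∨ (b ∩ b').card = 3 := by
  by_cases h0 : (b ∩ b').card = 0
  · exact Or.inl h0
  right
  obtain ⟨x, hx⟩ := Finset.card_pos.mp (Nat.pos_of_ne_zero h0)
  have hx' := Finset.mem_inter.mp hx
  have hγ : Fintype.card {y : α // y ≠ x} = 22 := by rw [card_pt, hα]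
  have hD : IsSteinerSystem 3 6 (der B x) := isSteiner_der (t := 3) (k := 6) hB x
  have hl := subtype_mem_der hb hx'.1
  have hl' := subtype_mem_der hb' hx'.2
  have hne' : b.subtype (· ≠ x) ≠ b'.subtype (· ≠ x) := by
    intro e
    apply hne
    rw [← lift_subtype hx'.1, ← lift_subtype hx'.2, e]
  have hsub : (b ∩ b').subtype (· ≠ x) = b.subtype (· ≠ x) ∩ b'.subtype (· ≠ x) := by
    ext y; simp [Finset.mem_subtype]
  have hc : (b ∩ b').card = (b.subtype (· ≠ x) ∩ b'.subtype (· ≠ x)).card + 1 := by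
    rw [← hsub, ← card_lift, lift_subtype hx]
  rcases inter_card_S3622 hγ hD hl hl' hne' with h | h
  · left; rw [hc, h]
  · right; rw [hc, h]

section classify
variable {F' : Set (Finset (Fin 23))} (hF : IsSteinerSystem 4 7 F')
  (h0 : ∀ b : Finset (Fin 22), liftLast b ∈ F' ↔ b ∈ E 0)
include hF h0

theorem lower_mem_E0 {c : Finset (Fin 23)} (hc : c ∈ F') (hl : Fin.last 22 ∈ c) :
    lower c ∈ E 0 := by
  rw [← h0, liftLast_lower hl]; exact hc

theorem inter_block_E0 {c : Finset (Fin 23)} (hc : c ∈ F') (hl : Fin.last 22 ∉ c)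
    {b : Finset (Fin 22)} (hb : b ∈ E 0) :
    (lower c ∩ b).card = 0 ∨ (lower c ∩ b).card = 1 ∨ (lower c ∩ b).card = 3 := by
  have hb' : liftLast b ∈ F' := (h0 b).mpr hb
  have hne : c ≠ liftLast b := by
    intro e
    apply hl
    rw [e, liftLast_eq]
    exact Finset.mem_insert_self _ _
  have hcard : (lower c ∩ b).card = (c ∩ liftLast b).card := by
    have : c ∩ liftLast b = emb (lower c ∩ b) := by
      rw [emb_inter, emb_lower hl, liftLast_eq, Finset.inter_insert_of_notMem hl]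
    rw [this, card_emb]
  rw [hcard]
  exact inter_card_S4723 (Fintype.card_fin 23) hF hc hb' hne

/-- a block off the last point is a listed heptad -/
theorem exists_mask_lower {c : Finset (Fin 23)} (hc : c ∈ F') (hl : Fin.last 22 ∉ c) :
    ∃ p ∈ heptAll, lower c = fset 22 p.1 := by
  apply exists_heptad (by rw [card_lower hl]; exact hF.1 c hc)
  intro b hb
  exact inter_block_E0 hF h0 hc hl (mem_E0_iff.mpr ⟨b, hb, rfl⟩)

/-- two blocks off the last point that meet have the same class -/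
theorem class_eq_of_meet {c c' : Finset (Fin 23)} (hc : c ∈ F') (hc' : c' ∈ F')
    (hl : Fin.last 22 ∉ c) (hl' : Fin.last 22 ∉ c') {p p' : ℕ × ℕ} (hp : p ∈ heptAll)
    (hp' : p' ∈ heptAll) (e : lower c = fset 22 p.1) (e' : lower c' = fset 22 p'.1)
    (hmeet : (lower c ∩ lower c').Nonempty) : p.2 = p'.2 := by
  by_cases hcc : c = c'
  · subst hcc
    have : p.1 = p'.1 := fset_inj _ _ (hept_lt p hp).1 (hept_lt p' hp').1 (e.symm.trans e')
    have hpar := (hept_parity p hp p' hp').mp (by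
      rw [← this, Nat.and_self, hept_card p hp])
    exact hpar
  · have hcard : (lower c ∩ lower c').card = (c ∩ c').card := by
      rw [← lower_inter, card_lower]
      intro h
      exact hl (Finset.mem_inter.mp h).1
    have hpos : 0 < (lower c ∩ lower c').card := Finset.card_pos.mpr hmeet
    have hodd : (lower c ∩ lower c').card % 2 = 1 := by
      rw [hcard] at hpos ⊢
      rcases inter_card_S4723 (Fintype.card_fin 23) hF hc hc' hcc with h | h | h <;> omega
    rw [e, e', ← fset_and, card_fset] at hodd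
    exact (hept_parity p hp p' hp').mp hodd

/-- all blocks off the last point have the same class -/
theorem class_eq {c c' : Finset (Fin 23)} (hc : c ∈ F') (hc' : c' ∈ F')
    (hl : Fin.last 22 ∉ c) (hl' : Fin.last 22 ∉ c') {p p' : ℕ × ℕ} (hp : p ∈ heptAll)
    (hp' : p' ∈ heptAll) (e : lower c = fset 22 p.1) (e' : lower c' = fset 22 p'.1) :
    p.2 = p'.2 := by
  by_cases hmeet : (lower c ∩ lower c').Nonempty
  · exact class_eq_of_meet hF h0 hc hc' hl hl' hp hp' e e' hmeet
  rw [Finset.not_nonempty_iff_eq_empty] at hmeet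
  -- three points of the second block
  have hc'7 : (lower c').card = 7 := by rw [card_lower hl']; exact hF.1 c' hc'
  have hc7 : (lower c).card = 7 := by rw [card_lower hl]; exact hF.1 c hc
  obtain ⟨T3, hT3, hT3c⟩ := Finset.exists_subset_card_eq (show 3 ≤ (lower c').card by omega)
  obtain ⟨c0, ⟨hc0, hc0sub⟩, hc0u⟩ := hF.2 (liftLast T3) (by rw [card_liftLast, hT3c])
  have hl0 : Fin.last 22 ∈ c0 := hc0sub (by rw [liftLast_eq]; exact Finset.mem_insert_self _ _)
  -- a point of the first block off `c0`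
  have hne0 : c ≠ c0 := fun h => hl (h ▸ hl0)
  have h3 := inter_card_lt hF hc hc0 hne0
  obtain ⟨x, hxK, hx0⟩ : ∃ x ∈ lower c, x ∉ lower c0 := by
    by_contra hcon
    push Not at hcon
    have hsub : emb (lower c) ⊆ c ∩ c0 := by
      intro j hj
      rw [mem_emb] at hj
      obtain ⟨i, hi, rfl⟩ := hj
      exact Finset.mem_inter.mpr ⟨mem_lower.mp hi, mem_lower.mp (hcon i hi)⟩
    have := Finset.card_le_card hsub
    rw [card_emb] at this
    omega
  have hxT : x ∉ T3 := by
    intro h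
    have : x ∈ lower c ∩ lower c' := Finset.mem_inter.mpr ⟨hxK, hT3 h⟩
    rw [hmeet] at this
    exact absurd this (Finset.notMem_empty x)
  obtain ⟨c2, ⟨hc2, hc2sub⟩, -⟩ := hF.2 (emb (insert x T3)) (by
    rw [card_emb, Finset.card_insert_of_notMem hxT, hT3c])
  have hx2 : x ∈ lower c2 :=
    mem_lower.mpr (hc2sub (castSucc_mem_emb.mpr (Finset.mem_insert_self _ _)))
  have hT2 : T3 ⊆ lower c2 := fun i hi =>
    mem_lower.mpr (hc2sub (castSucc_mem_emb.mpr (Finset.mem_insert_of_mem hi)))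
  have hl2 : Fin.last 22 ∉ c2 := by
    intro h
    have : c2 = c0 := by
      apply hc0u c2 ⟨hc2, ?_⟩
      intro j hj
      rw [liftLast_eq, Finset.mem_insert, mem_emb] at hj
      rcases hj with rfl | ⟨i, hi, rfl⟩
      · exact h
      · exact mem_lower.mp (hT2 hi)
    exact hx0 (this ▸ hx2)
  obtain ⟨p2, hp2, e2⟩ := exists_mask_lower hF h0 hc2 hl2
  have m1 : (lower c ∩ lower c2).Nonempty := ⟨x, Finset.mem_inter.mpr ⟨hxK, hx2⟩⟩
  obtain ⟨t, ht⟩ : T3.Nonempty := Finset.card_pos.mp (by omega)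
  have m2 : (lower c2 ∩ lower c').Nonempty := ⟨t, Finset.mem_inter.mpr ⟨hT2 ht, hT3 ht⟩⟩
  exact (class_eq_of_meet hF h0 hc hc2 hl hl2 hp hp2 e e2 m1).trans
    (class_eq_of_meet hF h0 hc2 hc' hl2 hl' hp2 hp' e2 e' m2)

/-- four points of a listed heptad lie in a block off the last point -/
theorem exists_block_of_heptad {p : ℕ × ℕ} (hp : p ∈ heptAll) :
    ∃ c ∈ F', Fin.last 22 ∉ c ∧ 4 ≤ (fset 22 p.1 ∩ lower c).card := by
  have h7 : (fset 22 p.1).card = 7 := by rw [card_fset]; exact hept_card p hp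
  obtain ⟨T, hT, hTc⟩ := Finset.exists_subset_card_eq (show 4 ≤ (fset 22 p.1).card by omega)
  obtain ⟨c, ⟨hc, hTsub⟩, -⟩ := hF.2 (emb T) (by rw [card_emb, hTc])
  have hTl : T ⊆ lower c := fun i hi => mem_lower.mpr (hTsub (castSucc_mem_emb.mpr hi))
  have h4 : 4 ≤ (fset 22 p.1 ∩ lower c).card := by
    rw [← hTc]
    exact Finset.card_le_card (Finset.subset_inter hT hTl)
  refine ⟨c, hc, ?_, h4⟩
  intro hl
  obtain ⟨b, hb, e⟩ := mem_E0_iff.mp (lower_mem_E0 hF h0 hc hl)
  rw [e, ← fset_and, card_fset] at h4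
  have := hept_inter_E0 p hp b hb
  omega

theorem eq_F : ∃ i < 2, F' = F i := by
  obtain ⟨p1, hp1⟩ : ∃ p, p ∈ heptAll := ⟨_, List.head_mem (l := heptAll) (by decide)⟩
  obtain ⟨c1, hc1, hl1, -⟩ := exists_block_of_heptad hF h0 hp1
  obtain ⟨q1, hq1, e1⟩ := exists_mask_lower hF h0 hc1 hl1
  refine ⟨q1.2, (hept_lt q1 hq1).2, ?_⟩
  ext s
  constructor
  · intro hs
    by_cases hl : Fin.last 22 ∈ s
    · obtain ⟨m, hm, e⟩ := mem_E0_iff.mp (lower_mem_E0 hF h0 hs hl)
      left
      refine ⟨m, hm, ?_⟩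
      rw [← liftLast_fset 22 m (E0masks_lt m hm), ← e, liftLast_lower hl]
    · obtain ⟨p, hp, e⟩ := exists_mask_lower hF h0 hs hl
      right
      refine ⟨p, hp, class_eq hF h0 hs hc1 hl hl1 hp hq1 e e1, ?_⟩
      rw [← emb_fset 22 p.1 (hept_lt p hp).1, ← e, emb_lower hl]
  · rintro (⟨m, hm, rfl⟩ | ⟨p, hp, hpi, rfl⟩)
    · rw [← liftLast_fset 22 m (E0masks_lt m hm)]
      exact (h0 _).mpr (mem_E0_iff.mpr ⟨m, hm, rfl⟩)
    · obtain ⟨c, hc, hl, h4⟩ := exists_block_of_heptad hF h0 hp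
      obtain ⟨q, hq, e⟩ := exists_mask_lower hF h0 hc hl
      have hq2 : q.2 = q1.2 := class_eq hF h0 hc hc1 hl hl1 hq hq1 e e1
      rw [e, ← fset_and, card_fset] at h4
      have hpq : p = q := hept_close p hp q hq (by rw [hpi, hq2]) h4
      have : fset 23 p.1 = c := by
        rw [← emb_fset 22 p.1 (hept_lt p hp).1, hpq, ← e, emb_lower hl]
      rw [this]; exact hc

end classify

/-- every S(4, 7, 23) is isomorphic to the standard one -/
theorem iso_standard {α : Type*} [Fintype α] [DecidableEq α] (hα : Fintype.card α = 23)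
    {B : Set (Finset α)} (hB : IsSteinerSystem 4 7 B) : SetSystemIso B (F 0) := by
  obtain ⟨F', hiso, hF, h0⟩ := exists_normalized (t := 3) (k := 6) (v := 22) hα hB (E 0) (by
    intro x D hD
    have hγ : Fintype.card {y : α // y ≠ x} = 22 := by rw [card_pt, hα]
    exact S3622.iso_standard hγ hD)
  obtain ⟨i, hi, rfl⟩ := eq_F hF h0
  exact iso_trans hiso (iso_F_zero hi)

end Cfsg.Agent.Lib.Helper28.S4723
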