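import Mathlib
import Cfsg.Agent.Lib.Helper1.LowDimO

/-!
# S5798 block (O), leaf O-2def: steps (2d), (2e), (2f) (helper28)

Exact statement of `step_2f` in `notes/S5798_O_leaves.lean` (sub-planner helper22): once all the "singular"
transvections `v ↦ v + l B(x,v) x` and the transvections `v ↦ v + B(a,v) x'` (`a` non-singular, `x'` singular,
`B(a,x') = 0`) lie in `M`, every transvection lies in `M`.
-/

set_option autoImplicit false
set_option linter.unusedSectionVars false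
set_option linter.unusedVariables false
set_option linter.unusedSimpArgs false

noncomputable section

namespace Cfsg.Agent.Lib.Helper28.SL6OLeaf
open Cfsg Matrix QuadraticMap Module Cfsg.Agent.Lib.Helper5 Cfsg.Agent.Lib.Helper5.SpMax
  Cfsg.Agent.Lib.Helper5.TMCalc Cfsg.Agent.Lib.Helper5.OSL Cfsg.Agent.S5644.S5644aux

variable {F : Type*} [Field F] {n : ℕ}
variable (Qf : QuadraticForm F (Fin n → F))

/-- (2d): singular centre `x'`, any functional `B(a,·)` killing `x'` -/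
theorem step_2d (hnd : (polarBilin Qf).Nondegenerate) (h2 : (2 : F) ≠ 0) (hn : 5 ≤ n)
    {M : Subgroup (GL (Fin n) F)}
    (h2c : ∀ x' a : Fin n → F, x' ≠ 0 → Qf x' = 0 → Qf a ≠ 0 → polar Qf a x' = 0 → TT Qf M a x')
    (x' a : Fin n → F) (hx'0 : x' ≠ 0) (hx' : Qf x' = 0) (hax' : polar Qf a x' = 0) :
    TT Qf M a x' := by
  by_cases ha : Qf a = 0
  · obtain ⟨u, hu, hlu⟩ := exists_ns Qf hnd ![bL Qf x'] (by omega)
    have hux' : polar Qf x' u = 0 := by simpa using hlu 0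
    obtain ⟨b, hb0, hb1⟩ : ∃ b : F, b ≠ 0 ∧ b * Qf u + polar Qf a u ≠ 0 := by
      by_cases h1 : Qf u + polar Qf a u = 0
      · refine ⟨-1, neg_ne_zero.mpr one_ne_zero, ?_⟩
        intro h3
        have h4 : 2 * Qf u = 0 := by linear_combination h1 - h3
        exact hu ((mul_eq_zero.mp h4).resolve_left h2)
      · exact ⟨1, one_ne_zero, by rwa [one_mul]⟩
    have hQ1 : Qf (a + b • u) ≠ 0 := by
      rw [Q_add, Q_smul, ha, polar_smul_right, smul_eq_mul]
      intro h3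
      have h4 : b * (b * Qf u + polar Qf a u) = 0 := by linear_combination h3
      exact (mul_ne_zero hb0 hb1) h4
    have hQ2 : Qf (b • u) ≠ 0 := by
      rw [Q_smul]; exact mul_ne_zero (mul_ne_zero hb0 hb0) hu
    have hp1 : polar Qf (a + b • u) x' = 0 := by
      rw [polar_add_left, polar_smul_left, hax', polar_comm Qf u x', hux', smul_zero, add_zero]
    have hp2 : polar Qf (b • u) x' = 0 := by
      rw [polar_smul_left, polar_comm Qf u x', hux', smul_zero]
    have h3 := TT_add_left Qf (h2c x' _ hx'0 hx' hQ1 hp1)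
      (TT_neg_left Qf (h2c x' _ hx'0 hx' hQ2 hp2))
    have h4 : a + b • u + -(b • u) = a := by abel
    rwa [h4] at h3
  · exact h2c x' a hx'0 hx' ha hax'

/-- (2e): non-singular centre -/
theorem step_2e (hnd : (polarBilin Qf).Nondegenerate) (h2 : (2 : F) ≠ 0) (hn : 5 ≤ n)
    {M : Subgroup (GL (Fin n) F)}
    (hS : ∀ x : Fin n → F, x ≠ 0 → Qf x = 0 → ∀ l : F, TT Qf M (l • x) x)
    (h2d : ∀ x' a : Fin n → F, x' ≠ 0 → Qf x' = 0 → polar Qf a x' = 0 → TT Qf M a x')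
    (x₀ : Fin n → F) (hx₀0 : x₀ ≠ 0) (hx₀ : Qf x₀ = 0)
    (w : Fin n → F) (hw : Qf w ≠ 0) (s : (Fin n → F) →ₗ[F] F) (hsw : s w = 0) : TM M s w := by
  have hw0 : w ≠ 0 := by
    rintro rfl; exact hw (map_zero _)
  obtain ⟨x, hx, hxw⟩ : ∃ x, Qf x = 0 ∧ polar Qf x w ≠ 0 := by
    by_cases h1 : polar Qf x₀ w = 0
    · obtain ⟨z, hz1, hz2⟩ := exists_both_ne Qf hnd x₀ w hx₀0 hw0
      have hzx : polar Qf z x₀ ≠ 0 := by rw [polar_comm]; exact hz1
      refine ⟨z - (Qf z * (polar Qf z x₀)⁻¹) • x₀, ?_, ?_⟩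
      · rw [Q_sub, Q_smul, hx₀, polar_smul_right, smul_eq_mul]
        field_simp
        ring
      · rw [polar_sub_left, polar_smul_left, h1, smul_zero, sub_zero, polar_comm]; exact hz2
    · exact ⟨x₀, hx₀, h1⟩
  have hx0 : x ≠ 0 := by
    rintro rfl; apply hxw; rw [polar_zero_left]
  have hwx : polar Qf w x ≠ 0 := by rw [polar_comm]; exact hxw
  set μ : F := Qf w * (polar Qf w x)⁻¹ with hμ
  have hx'Q : Qf (w - μ • x) = 0 := by
    rw [Q_sub, Q_smul, hx, polar_smul_right, smul_eq_mul, hμ]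
    field_simp
    ring
  have hxx' : polar Qf x (w - μ • x) = polar Qf x w := by
    rw [polar_sub_right, polar_smul_right, pself, hx, mul_zero, smul_zero, sub_zero]
  have hx'0 : w - μ • x ≠ 0 := by
    intro h; apply hxw; rw [← hxx', h, polar_zero_right]
  obtain ⟨h0, t, htM, htv⟩ := hS x hx0 hx (μ * (polar Qf x w)⁻¹)
  have htx' : (t : Matrix (Fin n) (Fin n) F) *ᵥ (w - μ • x) = w := by
    rw [htv, bL_apply, polar_smul_left, hxx', smul_eq_mul, mul_assoc, inv_mul_cancel₀ hxw, mul_one]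
    abel
  obtain ⟨p, hp⟩ := exists_repr Qf hnd (s ∘ₗ Matrix.toLin' (t : Matrix (Fin n) (Fin n) F))
  have hpx' : polar Qf p (w - μ • x) = 0 := by
    rw [← hp, LinearMap.comp_apply, Matrix.toLin'_apply, htx', hsw]
  have h3 := h2d (w - μ • x) p hx'0 hx'Q hpx'
  have h4 := TM_conj htM h3
  rw [htx'] at h4
  refine TM_of_eq (fun v => ?_) h4
  rw [LinearMap.comp_apply, Matrix.toLin'_apply, bL_apply, ← hp, LinearMap.comp_apply,
    Matrix.toLin'_apply, mul_inv_mulVec]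

theorem step_2f [Fintype F] (hodd : Odd (Fintype.card F)) (hnd : (polarBilin Qf).Nondegenerate)
    (h2 : (2 : F) ≠ 0) (hn : 5 ≤ n) {M : Subgroup (GL (Fin n) F)}
    (hS : ∀ x : Fin n → F, x ≠ 0 → Qf x = 0 → ∀ l : F, TT Qf M (l • x) x)
    (h2c : ∀ x' a : Fin n → F, x' ≠ 0 → Qf x' = 0 → Qf a ≠ 0 → polar Qf a x' = 0 → TT Qf M a x')
    (x₀ : Fin n → F) (hx₀0 : x₀ ≠ 0) (hx₀ : Qf x₀ = 0) :
    ∀ (a : Fin n → F) (s : (Fin n → F) →ₗ[F] F), s a = 0 → TM M s a := by
  intro a s hsa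
  have h2d : ∀ x' a : Fin n → F, x' ≠ 0 → Qf x' = 0 → polar Qf a x' = 0 → TT Qf M a x' :=
    fun x' a hx'0 hx' hax' => step_2d Qf hnd h2 hn h2c x' a hx'0 hx' hax'
  by_cases ha : Qf a = 0
  · by_cases ha0 : a = 0
    · rw [ha0]; exact TM_zero_center M s
    · obtain ⟨p, hp⟩ := exists_repr Qf hnd s
      have h3 := h2d a p ha0 ha (by rw [← hp]; exact hsa)
      exact TM_of_eq (fun v => by rw [bL_apply, hp]) h3
  · exact step_2e Qf hnd h2 hn hS h2d x₀ hx₀0 hx₀ a ha s hsa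

end Cfsg.Agent.Lib.Helper28.SL6OLeaf
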