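/-
helper28: `hsUs` for `slBN` (S4538, part B2): `s_i (Ussl i) s_i⁻¹ ≤ unitri`.
-/
import Mathlib
import Cfsg.Agent.Lib.Helper28.SLBNX

set_option autoImplicit false

namespace Cfsg.Agent.Lib.Helper28.SLBN

open Matrix Equiv Cfsg.Agent.Lib.Helper6.GLBN Cfsg.Agent.Lib.Helper18.PSLnAut

variable {n : ℕ} {F : Type*} [Field F]

/-- entries of a diagonal conjugate -/
theorem diag_conj_apply (c : Fin n → Fˣ) (Y : GL (Fin n) F) (i j : Fin n) :
    ((monoGL 1 c * Y * (monoGL 1 c)⁻¹ : GL (Fin n) F) : Matrix (Fin n) (Fin n) F) i j =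
      (c i : F) * (Y : Matrix (Fin n) (Fin n) F) i j * ((c j : F))⁻¹ := by
  rw [monoGL_inv, Units.val_mul, Units.val_mul, coe_monoGL, coe_monoGL, mul_mono_apply,
    mono_mul_apply]
  have e1 : (Equiv.symm (1 : Perm (Fin n))) i = i := rfl
  rw [e1]
  simp

/-- `hsUs` : `s_i Us_i s_i⁻¹ ≤ U` -/
theorem sUs_conj [Finite F] (i : Fin (n - 1)) {y : Matrix.SpecialLinearGroup (Fin n) F}
    (hy : y ∈ Ussl n F i) : sOfSL n F i * y * (sOfSL n F i)⁻¹ ∈ unitri n F := by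
  set k := lo i with hk
  set k' := hi i with hk'
  have hkk' : k'.val = k.val + 1 := hi_val i
  set Y : GL (Fin n) F := Matrix.SpecialLinearGroup.toGL y with hY
  set D : GL (Fin n) F := monoGL 1 (oneAt k (-1 : Fˣ)) with hD
  set Y' : GL (Fin n) F := D * Y * D⁻¹ with hY'
  have hYc : (Y : Matrix (Fin n) (Fin n) F) = (y : Matrix (Fin n) (Fin n) F) := rfl
  have key : Matrix.SpecialLinearGroup.toGL (sOfSL n F i * y * (sOfSL n F i)⁻¹) =
      sG k k' * Y' * sG k k' := by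
    rw [map_mul, map_mul, map_inv, sOfSL_eq, toGL_sSL (lo_ne_hi i), _root_.mul_inv_rev, sG_inv]
    rw [hY']
    simp only [mul_assoc]
    rfl
  have hY'ent : ∀ a b : Fin n, (Y' : Matrix (Fin n) (Fin n) F) a b =
      ((oneAt k (-1 : Fˣ) a : Fˣ) : F) * (y : Matrix (Fin n) (Fin n) F) a b *
        (((oneAt k (-1 : Fˣ) b : Fˣ) : F))⁻¹ := by
    intro a b
    rw [hY', hD, diag_conj_apply, hYc]
  have hY'B : Y' ∈ Bup n F := by
    rw [mem_Bup]
    intro a b hba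
    rw [hY'ent, hy.1.1 a b hba, mul_zero, zero_mul]
  have hY'0 : (Y' : Matrix (Fin n) (Fin n) F) k k' = 0 := by
    rw [hY'ent, hy.2, mul_zero, zero_mul]
  have hB := sG_conj_mem_Bup hkk' hY'B hY'0
  rw [mem_unitri]
  have hcoe : ((sOfSL n F i * y * (sOfSL n F i)⁻¹ : Matrix.SpecialLinearGroup (Fin n) F) :
      Matrix (Fin n) (Fin n) F) = ((sG k k' * Y' * sG k k' : GL (Fin n) F) :
        Matrix (Fin n) (Fin n) F) := by
    rw [← key]
    rfl
  rw [hcoe]
  constructor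
  · intro a b hba
    exact (mem_Bup.mp hB) a b hba
  · intro a
    rw [Units.val_mul, Units.val_mul, coe_sG_mul_mul, hY'ent, hy.1.2]
    have : ((oneAt k (-1 : Fˣ) (swap k k' a) : Fˣ) : F) ≠ 0 := Units.ne_zero _
    field_simp

end Cfsg.Agent.Lib.Helper28.SLBN
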