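/-
helper28: the Weyl group of `slBN hn` is the symmetric group (S4538, part B2, item (W)):
`slWeyl hn : Perm (Fin n) ≃* W (slBN hn)`, `slWeyl_eq_mkW` (a monomial matrix with permutation `σ`
represents `slWeyl hn σ`), `slWeyl_swap` (`= sb P (sOfSL n F i)`), `slWeyl_image_adj`
(`slWeyl '' adj n = Sbar P`), `len_slWeyl` (`len (Sbar P) (slWeyl hn σ) = len (adj n) σ`).
-/
import Mathlib
import Cfsg.Agent.Lib.Helper28.SLBNX
import Cfsg.Agent.Lib.Helper3.BNBruhat
import Cfsg.Agent.Lib.Helper22.PermLen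

set_option autoImplicit false

namespace Cfsg.Agent.Lib.Helper28.SLBN

open Matrix Equiv Cfsg.Agent.Lib.Helper6.GLBN Cfsg.Agent.Lib.Helper3.BN
  Cfsg.Agent.Lib.Helper3.WordLen Cfsg.Agent.Lib.Helper22.PermLen

variable {n : ℕ} {F : Type*} [Field F]

/-- transport of the word length along an isomorphism (copy of helper7's `len_mulEquiv`, to avoid
its heavy imports) -/
theorem len_mulEquiv' {W W' : Type*} [Group W] [Group W'] (e : W ≃* W') (S : Set W) (S' : Set W')
    (h1 : ∀ s ∈ S, e s ∈ S') (h2 : ∀ s' ∈ S', e.symm s' ∈ S) (w : W) : len S' (e w) = len S w := by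
  unfold len
  congr 1
  ext k
  constructor
  · rintro ⟨L, hL, hp, hl⟩
    refine ⟨L.map e.symm, ?_, ?_, by rw [List.length_map, hl]⟩
    · intro x hx
      rw [List.mem_map] at hx
      obtain ⟨y, hy, rfl⟩ := hx
      exact h2 y (hL y hy)
    · rw [← map_list_prod, hp, MulEquiv.symm_apply_apply]
  · rintro ⟨L, hL, hp, hl⟩
    refine ⟨L.map e, ?_, ?_, by rw [List.length_map, hl]⟩
    · intro x hx
      rw [List.mem_map] at hx
      obtain ⟨y, hy, rfl⟩ := hx
      exact h1 y (hL y hy)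
    · rw [← map_list_prod, hp]

/-- the sign of a permutation as a unit of `F` -/
def signU (σ : Perm (Fin n)) : Fˣ := Units.map (Int.castRingHom F).toMonoidHom (Perm.sign σ)

theorem coe_signU (σ : Perm (Fin n)) : ((signU (F := F) σ : Fˣ) : F) = ((Perm.sign σ : ℤˣ) : ℤ) := by
  unfold signU
  simp

theorem signU_mul_self (σ : Perm (Fin n)) :
    (((Perm.sign σ : ℤˣ) : ℤ) : F) * ((signU (F := F) σ : Fˣ) : F) = 1 := by
  rw [coe_signU, ← Int.cast_mul, ← Units.val_mul, Int.units_mul_self]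
  simp

variable (hn : 0 < n)

/-- a monomial matrix of determinant one with permutation `σ` -/
def pSL (σ : Perm (Fin n)) : Matrix.SpecialLinearGroup (Fin n) F :=
  ⟨mono σ (fun j => ((oneAt ⟨0, hn⟩ (signU σ) j : Fˣ) : F)), by
    rw [det_mono, prod_oneAt, signU_mul_self]⟩

theorem toGL_pSL (σ : Perm (Fin n)) :
    Matrix.SpecialLinearGroup.toGL (pSL (F := F) hn σ) = monoGL σ (oneAt ⟨0, hn⟩ (signU σ)) :=
  Units.ext rfl

theorem pSL_mem_N (σ : Perm (Fin n)) : pSL (F := F) hn σ ∈ (slBN (F := F) hn).N :=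
  (mem_slBN_N hn _).mpr ⟨σ, _, toGL_pSL hn σ⟩

/-- two monomial matrices of `SL_n` with the same permutation have the same class in `W` -/
theorem mkW_eq_of_perm {m m' : Matrix.SpecialLinearGroup (Fin n) F}
    (hm : m ∈ (slBN (F := F) hn).N) (hm' : m' ∈ (slBN (F := F) hn).N)
    {σ : Perm (Fin n)} {c c' : Fin n → Fˣ}
    (h : Matrix.SpecialLinearGroup.toGL m = monoGL σ c)
    (h' : Matrix.SpecialLinearGroup.toGL m' = monoGL σ c') :
    mkW (slBN (F := F) hn) m hm = mkW (slBN (F := F) hn) m' hm' := by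
  rw [mkW_eq_iff, mem_slBN_B', map_mul, map_inv, h, h', monoGL_inv, monoGL_mul,
    monoGL_mem_Bup_iff]
  simp

/-- the permutation of a class -/
theorem perm_eq_of_mkW_eq {m m' : Matrix.SpecialLinearGroup (Fin n) F}
    (hm : m ∈ (slBN (F := F) hn).N) (hm' : m' ∈ (slBN (F := F) hn).N)
    {σ σ' : Perm (Fin n)} {c c' : Fin n → Fˣ}
    (h : Matrix.SpecialLinearGroup.toGL m = monoGL σ c)
    (h' : Matrix.SpecialLinearGroup.toGL m' = monoGL σ' c')
    (he : mkW (slBN (F := F) hn) m hm = mkW (slBN (F := F) hn) m' hm') : σ = σ' := by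
  rw [mkW_eq_iff, mem_slBN_B', map_mul, map_inv, h, h', monoGL_inv, monoGL_mul,
    monoGL_mem_Bup_iff] at he
  rw [inv_mul_eq_one] at he
  exact he

/-- the homomorphism from the symmetric group onto the Weyl group of `SL_n(F)` -/
noncomputable def slWeylHom : Perm (Fin n) →* W (slBN (F := F) hn) where
  toFun σ := mkW (slBN (F := F) hn) (pSL hn σ) (pSL_mem_N hn σ)
  map_one' := by
    rw [mkW_eq_one_iff, mem_slBN_B', toGL_pSL, monoGL_mem_Bup_iff]
  map_mul' σ τ := by
    rw [← mkW_mul]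
    apply mkW_eq_of_perm hn _ _ (toGL_pSL hn (σ * τ))
    rw [map_mul, toGL_pSL, toGL_pSL, monoGL_mul]

theorem slWeylHom_apply (σ : Perm (Fin n)) :
    slWeylHom (F := F) hn σ = mkW (slBN (F := F) hn) (pSL hn σ) (pSL_mem_N hn σ) := rfl

theorem slWeylHom_injective : Function.Injective (slWeylHom (F := F) hn) := by
  rw [injective_iff_map_eq_one]
  intro σ h
  rw [slWeylHom_apply, mkW_eq_one_iff, mem_slBN_B', toGL_pSL, monoGL_mem_Bup_iff] at h
  exact h

theorem slWeylHom_surjective : Function.Surjective (slWeylHom (F := F) hn) := by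
  intro w
  obtain ⟨m, hm, rfl⟩ := mkW_surj (slBN (F := F) hn) w
  obtain ⟨σ, c, hσ⟩ := (mem_slBN_N hn m).mp hm
  exact ⟨σ, mkW_eq_of_perm hn _ _ (toGL_pSL hn σ) hσ⟩

/-- **the Weyl group of `SL_n(F)` is the symmetric group** -/
noncomputable def slWeyl : Perm (Fin n) ≃* W (slBN (F := F) hn) :=
  MulEquiv.ofBijective (slWeylHom hn) ⟨slWeylHom_injective hn, slWeylHom_surjective hn⟩

theorem slWeyl_apply (σ : Perm (Fin n)) :
    slWeyl (F := F) hn σ = mkW (slBN (F := F) hn) (pSL hn σ) (pSL_mem_N hn σ) := rfl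

/-- a monomial matrix with permutation `σ` represents `slWeyl hn σ` -/
theorem slWeyl_eq_mkW {m : Matrix.SpecialLinearGroup (Fin n) F} (hm : m ∈ (slBN (F := F) hn).N)
    {σ : Perm (Fin n)} {c : Fin n → Fˣ} (h : Matrix.SpecialLinearGroup.toGL m = monoGL σ c) :
    slWeyl (F := F) hn σ = mkW (slBN (F := F) hn) m hm :=
  mkW_eq_of_perm hn _ _ (toGL_pSL hn σ) h

/-- the permutation of an element of `N`: `slWeyl.symm (mkW m) = σ` -/
theorem slWeyl_symm_mkW {m : Matrix.SpecialLinearGroup (Fin n) F} (hm : m ∈ (slBN (F := F) hn).N)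
    {σ : Perm (Fin n)} {c : Fin n → Fˣ} (h : Matrix.SpecialLinearGroup.toGL m = monoGL σ c) :
    (slWeyl (F := F) hn).symm (mkW (slBN (F := F) hn) m hm) = σ := by
  rw [← slWeyl_eq_mkW hn hm h, MulEquiv.symm_apply_apply]

theorem sOfSL_mem_S (i : Fin (n - 1)) : sOfSL n F i ∈ (slBN (F := F) hn).S := by
  rw [slBN_S_eq_range]
  exact ⟨i, rfl⟩

/-- the class of the `i`-th distinguished generator is the adjacent transposition -/
theorem slWeyl_swap (i : Fin (n - 1)) (hs : sOfSL n F i ∈ (slBN (F := F) hn).S) :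
    slWeyl (F := F) hn (swap (lo i) (hi i)) = sb (slBN (F := F) hn) (sOfSL n F i) hs := by
  unfold sb
  apply slWeyl_eq_mkW hn
  rw [sOfSL_eq]
  exact toGL_sSL' (lo_ne_hi i)

theorem slWeyl_image_adj : slWeyl (F := F) hn '' adj n = Sbar (slBN (F := F) hn) := by
  ext w
  constructor
  · rintro ⟨_, ⟨k, hk, rfl⟩, rfl⟩
    have hlt : k.val < n - 1 := by omega
    have := slWeyl_swap (F := F) hn ⟨k.val, hlt⟩ (sOfSL_mem_S hn _)
    have e1 : lo (⟨k.val, hlt⟩ : Fin (n - 1)) = k := Fin.ext rfl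
    have e2 : hi (⟨k.val, hlt⟩ : Fin (n - 1)) = ⟨k.val + 1, hk⟩ := Fin.ext rfl
    rw [e1, e2] at this
    rw [this]
    exact sb_mem _ _
  · rintro ⟨s, hs, rfl⟩
    have hs' := hs
    rw [slBN_S_eq_range] at hs'
    obtain ⟨i, rfl⟩ := hs'
    refine ⟨swap (lo i) (hi i), ⟨lo i, by have := (hi i).isLt; rw [hi_val] at this; exact this, ?_⟩,
      slWeyl_swap hn i hs⟩
    congr 1

/-- the Coxeter length of `W (slBN hn)` is the length of `Perm (Fin n)` w.r.t. adjacent
transpositions (= the inversion number, helper22 `len_eq_invNum`) -/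
theorem len_slWeyl (σ : Perm (Fin n)) :
    len (Sbar (slBN (F := F) hn)) (slWeyl (F := F) hn σ) = len (adj n) σ := by
  apply len_mulEquiv'
  · intro s hs
    rw [← slWeyl_image_adj hn]
    exact ⟨s, hs, rfl⟩
  · intro s' hs'
    rw [← slWeyl_image_adj hn] at hs'
    obtain ⟨s, hs, rfl⟩ := hs'
    rwa [MulEquiv.symm_apply_apply]

end Cfsg.Agent.Lib.Helper28.SLBN
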