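/-
helper28: `hpos` for `slBN` (S4538, part B2): if `ℓ(s_i w) > ℓ(w)` then `m⁻¹ X_i m ≤ U` for every
monomial `m` representing `w` (spare of helper22's `SLPos`; on my `SLWeyl` + helper22's `PermLen`).
-/
import Mathlib
import Cfsg.Agent.Lib.Helper28.SLWeyl

set_option autoImplicit false

namespace Cfsg.Agent.Lib.Helper28.SLBN

open Matrix Equiv Cfsg.Agent.Lib.Helper6.GLBN Cfsg.Agent.Lib.Helper3.BN
  Cfsg.Agent.Lib.Helper3.WordLen Cfsg.Agent.Lib.Helper22.PermLen Cfsg.Agent.Lib.Helper18.PSLnAut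

variable {n : ℕ} {F : Type*} [Field F]

variable (hn : 0 < n)

/-- conjugating a root element by a monomial matrix -/
theorem mono_conj_xSL {m : Matrix.SpecialLinearGroup (Fin n) F} {σ : Perm (Fin n)}
    {c : Fin n → Fˣ} (h : Matrix.SpecialLinearGroup.toGL m = monoGL σ c) (p q : Fin n)
    (hpq : p ≠ q) (t : F) :
    m⁻¹ * xSL p q hpq t * m =
      xSL (σ⁻¹ p) (σ⁻¹ q) (fun e => hpq (by simpa using e)) (t * c (σ⁻¹ q) / c (σ⁻¹ p)) := by
  apply Matrix.SpecialLinearGroup.toGL_injective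
  rw [map_mul, map_mul, map_inv, h, toGL_xSL, toGL_xSL, mul_assoc, xGL_mul_monoGL, ← mul_assoc,
    inv_mul_cancel, one_mul]

/-- **`hpos`**, for the root elements `xSL (lo i) (hi i) t` -/
theorem hpos_xSL [Finite F] (i : Fin (n - 1)) (hs : sOfSL n F i ∈ (slBN (F := F) hn).S)
    (m : Matrix.SpecialLinearGroup (Fin n) F) (hm : m ∈ (slBN (F := F) hn).N)
    (hlen : len (Sbar (slBN (F := F) hn)) (mkW (slBN (F := F) hn) m hm) <
      len (Sbar (slBN (F := F) hn)) (sb (slBN (F := F) hn) (sOfSL n F i) hs *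
        mkW (slBN (F := F) hn) m hm)) (t : F) :
    m⁻¹ * xSL (lo i) (hi i) (lo_ne_hi i) t * m ∈ unitri n F := by
  obtain ⟨σ, c, hσ⟩ := (mem_slBN_N hn m).mp hm
  rw [← slWeyl_eq_mkW hn hm hσ, ← slWeyl_swap hn i hs, ← map_mul, len_slWeyl, len_slWeyl] at hlen
  have hlt : σ⁻¹ (lo i) < σ⁻¹ (hi i) := by
    have h1 : (lo i).val + 1 < n := by have := (hi i).isLt; rw [hi_val] at this; exact this
    have h2 : hi i = ⟨(lo i).val + 1, h1⟩ := Fin.ext (hi_val i)
    rw [h2] at hlen ⊢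
    exact (len_swap_mul_gt_iff (lo i) h1 σ).mp hlen
  rw [mono_conj_xSL hσ]
  exact isUni_xSL hlt _

/-- **`hpos`** in the field shape for `X := Xsl n F` -/
theorem hpos_Xsl [Finite F] (i : Fin (n - 1)) (hs : sOfSL n F i ∈ (slBN (F := F) hn).S)
    (m : Matrix.SpecialLinearGroup (Fin n) F) (hm : m ∈ (slBN (F := F) hn).N)
    (hlen : len (Sbar (slBN (F := F) hn)) (mkW (slBN (F := F) hn) m hm) <
      len (Sbar (slBN (F := F) hn)) (sb (slBN (F := F) hn) (sOfSL n F i) hs *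
        mkW (slBN (F := F) hn) m hm)) :
    ∀ x ∈ Xsl n F i, m⁻¹ * x * m ∈ unitri n F := by
  rintro _ ⟨t, rfl⟩
  exact hpos_xSL hn i hs m hm hlen t

/-- **`hpos`**, matrix-level: for any `x` whose matrix is the transvection `1 + t E_{i,i+1}` -/
theorem hpos_mat [Finite F] (i : Fin (n - 1)) (hs : sOfSL n F i ∈ (slBN (F := F) hn).S)
    (m : Matrix.SpecialLinearGroup (Fin n) F) (hm : m ∈ (slBN (F := F) hn).N)
    (hlen : len (Sbar (slBN (F := F) hn)) (mkW (slBN (F := F) hn) m hm) <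
      len (Sbar (slBN (F := F) hn)) (sb (slBN (F := F) hn) (sOfSL n F i) hs *
        mkW (slBN (F := F) hn) m hm))
    (x : Matrix.SpecialLinearGroup (Fin n) F) (t : F)
    (hx : (x : Matrix (Fin n) (Fin n) F) = Matrix.transvection (lo i) (hi i) t) :
    m⁻¹ * x * m ∈ unitri n F := by
  have : x = xSL (lo i) (hi i) (lo_ne_hi i) t := Subtype.ext hx
  rw [this]
  exact hpos_xSL hn i hs m hm hlen t

end Cfsg.Agent.Lib.Helper28.SLBN
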