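import Cfsg.Agent.Lib.Helper28.Co3McL
import Cfsg.Agent.Lib.Helper28.FoxCo3P3WChk
import Cfsg.Agent.Lib.Helper28.FoxCo3MP2Chk

set_option autoImplicit false
set_option maxRecDepth 100000

/-!
# The Conway group `Co₃` has trivial Schur multiplier

For a finite stem extension of the presented group `PCo3` with kernel of prime exponent `p`:
* `p = 3`: Fox calculus over the subgroup `M₂₃ = ⟨a, b, t⟩` of index `48600` (trivial multiplier);
* `p = 2`: Fox calculus over the point stabiliser `McL` of index `552` (multiplier of order 3);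
* `p = 23`: transfer to `M₂₃`; every other `p`: transfer to `McL`.
-/

namespace Cfsg.Agent.Lib.Helper28.SchurCo3

open Cfsg.Agent.Lib.Helper28.SchurFox Cfsg.Agent.Lib.Helper28.TC2Lower Cfsg.Agent.Lib.Helper28.TC2Glue
open Cfsg.Agent.Lib.Helper28.TCCo3Link (rels relWords lw link)
open Cfsg.Agent.Lib.Helper28.Co3Link Cfsg.Agent.Lib.Helper28.Co3McL
open Cfsg.Agent.Lib.Helper29.SchurFoxSparse
open scoped IsMulCommutative

theorem hpaths3 : FoxCo3P3.data.paths = relWords.map (pathOf lw) := by decide +kernel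
theorem hpaths2 : FoxCo3MP2.data.paths = relWords.map (pathOf lw) := by decide +kernel

theorem prime_dvd_552 {p : ℕ} (hp : p.Prime) (h : p ∣ 552) : p = 2 ∨ p = 3 ∨ p = 23 := by
  have h' : p ∣ 2 ^ 3 * 3 * 23 := h
  rcases (Nat.Prime.dvd_mul hp).mp h' with h1 | h1
  · rcases (Nat.Prime.dvd_mul hp).mp h1 with h2 | h2
    · left; exact (Nat.prime_dvd_prime_iff_eq hp Nat.prime_two).mp (hp.dvd_of_dvd_pow h2)
    · right; left; exact (Nat.prime_dvd_prime_iff_eq hp Nat.prime_three).mp h2
  · right; right; exact (Nat.prime_dvd_prime_iff_eq hp (by norm_num)).mp h1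

/-- every finite stem extension of the presented group is an isomorphism -/
theorem trivMult : TrivMult PCo3 := by
  apply trivMult_of_exp
  intro p hp Γ _ _ σ hσ hexp
  by_cases h3 : p = 3
  · subst h3
    obtain ⟨hidx, φ, hφ, f, hf, hfe, _⟩ := TCCo3Main.main
    obtain ⟨R⟩ := retraction_of_perfect σ hσ.1 hσ.2.1 H23 perfect_H23 trivMult_H23
    have hstat := FoxCo3P3.data.static_of_check TCCo3Table.table.tau FoxCo3P3WChk.hstatic
    exact SchurFoxW.ker_eq_bot_of_fox_abs rels relWords lw gi link.hrels hlw hgi H23 TCCo3Table.table TCCo3Main.hT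
      hlwk φ hφ f hf hfe FoxCo3P3.data rfl hDd hpaths3 FoxCo3P3WChk.hstatic σ hσ hexp R
      (fun k hk F hF z hz => SchurFoxW.cycleW_sound FoxCo3P3.data TCCo3Table.table.tau 1080 hstat k _
        (FoxCo3P3WChk.hcyc k hk).1 45 rfl (FoxCo3P3WChk.hcyc k hk).2 F hF z hz)
  · have hcop : Nat.Coprime 3 p := (Nat.coprime_primes Nat.prime_three hp).mpr (Ne.symm h3)
    obtain ⟨R⟩ := retraction_of_perfect_at σ hσ.1 hσ.2.1 p hexp H552 perfect_H552 (trivMultAt_H552 p hcop)
    by_cases hdiv : p ∣ 552
    · rcases prime_dvd_552 hp hdiv with rfl | rfl | rfl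
      · obtain ⟨f, hf, hfe, _⟩ := bij552
        exact ker_eq_bot_of_fox_sparse rels relWords lw gi link.hrels hlw hgi H552 T552 TCCo3MMain.hT
          (fun x => lwk552 _) φ552 φ552_of f hf hfe FoxCo3MP2.data rfl hDd hpaths2 FoxCo3MP2Chk.hstatic
          FoxCo3MP2Chk.CY FoxCo3MP2Chk.hcyc σ hσ hexp R
      · exact absurd rfl h3
      · obtain ⟨R'⟩ := retraction_of_perfect σ hσ.1 hσ.2.1 H23 perfect_H23 trivMult_H23
        have hi : (H23.comap σ).index = 48600 := by
          rw [Subgroup.index_comap_of_surjective H23 hσ.1]; exact index_H23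
        have : (H23.comap σ).FiniteIndex := ⟨by rw [hi]; norm_num⟩
        refine ker_eq_bot_of_transfer σ hσ 23 hexp (H23.comap σ) ?_ R'.comm_inter
        rw [hi]
        norm_num
    · have hi : (H552.comap σ).index = 552 := by
        rw [Subgroup.index_comap_of_surjective H552 hσ.1]; exact index_H552
      have : (H552.comap σ).FiniteIndex := ⟨by rw [hi]; norm_num⟩
      refine ker_eq_bot_of_transfer σ hσ p hexp (H552.comap σ) ?_ R.comm_inter
      rw [hi]
      exact ((Nat.Prime.coprime_iff_not_dvd hp).mpr hdiv).symm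

/-- the Schur multiplier of the Conway group `Co₃` is trivial -/
theorem schur_Co3 : Cfsg.HasCyclicSchurMultiplier ↥Cfsg.Spor.Co3 1 :=
  hasCyclic_of_trivMult (trivMult.congr eCo3)

end Cfsg.Agent.Lib.Helper28.SchurCo3
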