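import Cfsg.Agent.Lib.Helper28.SchurFoxA

set_option autoImplicit false

/-!
# Retractions onto the kernel of a central extension

* over a perfect subgroup with trivial multiplier;
* over a cyclic subgroup of order prime to the exponent of the kernel.
-/

namespace Cfsg.Agent.Lib.Helper28.SchurFox

universe u

open Subgroup
open scoped commutatorElement

/-- over a perfect subgroup `H` with trivial multiplier the preimage of `H` retracts onto the kernel -/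
theorem retraction_of_perfect {Γ G : Type u} [Group Γ] [Group G] [Finite Γ] (σ : Γ →* G)
    (hs : Function.Surjective σ) (hc : σ.ker ≤ center Γ) (H : Subgroup G) (hperf : ⁅H, H⁆ = H)
    (hH : TrivMult ↥H) : Nonempty (Retraction σ (H.comap σ)) := by
  set V : Subgroup Γ := H.comap σ with hV
  set K : Subgroup Γ := ⁅V, V⁆ with hK
  have hKV : K ≤ V := by
    rw [hK, Subgroup.commutator_le]
    intro x hx y hy
    exact V.mul_mem (V.mul_mem (V.mul_mem hx hy) (V.inv_mem hx)) (V.inv_mem hy)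
  have hVmap : V.map σ = H := Subgroup.map_comap_eq_self_of_surjective hs H
  have hKmap : K.map σ = H := by
    rw [hK, Subgroup.map_commutator, hVmap, hperf]
  -- `V ≤ K ⊔ ker σ`
  have hVK : V ≤ K ⊔ σ.ker := by
    intro v hv
    have : σ v ∈ K.map σ := by rw [hKmap]; exact hv
    obtain ⟨k, hk, hkv⟩ := this
    have h1 : k⁻¹ * v ∈ σ.ker := by
      rw [MonoidHom.mem_ker, map_mul, map_inv, hkv, inv_mul_cancel]
    have : v = k * (k⁻¹ * v) := by group
    rw [this]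
    exact Subgroup.mul_mem_sup hk h1
  have hKperf : K ≤ ⁅K, K⁆ := by
    have h1 : ⁅V, V⁆ ≤ ⁅K ⊔ σ.ker, K ⊔ σ.ker⁆ := Subgroup.commutator_mono hVK hVK
    exact h1.trans (Cfsg.Agent.Lib.Helper3.SchurM.comm_sup_central_le K σ.ker hc)
  -- the restriction of `σ` to `K`
  let σK : ↥K →* ↥H := (σ.comp K.subtype).codRestrict H (fun k => by
    have : σ (k : Γ) ∈ K.map σ := ⟨k, k.2, rfl⟩
    rw [hKmap] at this
    exact this)
  have hσK : ∀ k : ↥K, ((σK k : ↥H) : G) = σ (k : Γ) := fun k => rfl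
  have hstem : Cfsg.IsStemExtension σK := by
    refine ⟨?_, ?_, ?_⟩
    · intro h
      have : (h : G) ∈ K.map σ := by rw [hKmap]; exact h.2
      obtain ⟨k, hk, hkh⟩ := this
      exact ⟨⟨k, hk⟩, Subtype.ext hkh⟩
    · intro k hk
      have h1 : (k : Γ) ∈ σ.ker := by
        rw [MonoidHom.mem_ker] at hk ⊢
        have := congrArg (fun x : ↥H => (x : G)) hk
        simpa [hσK] using this
      rw [mem_center_iff]
      intro g
      exact Subtype.ext (mem_center_iff.mp (hc h1) (g : Γ))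
    · intro k _
      have h1 : (k : Γ) ∈ ⁅K, K⁆ := hKperf k.2
      rw [← K.map_subtype_commutator] at h1
      obtain ⟨k', hk', hkk⟩ := h1
      have : k' = k := Subtype.ext hkk
      rwa [← this]
  have hbot : σK.ker = ⊥ := hH ↥K σK hstem
  have hinj : Function.Injective σK := (MonoidHom.ker_eq_bot_iff σK).mp hbot
  let e : ↥K ≃* ↥H := MulEquiv.ofBijective σK ⟨hinj, hstem.1⟩
  have he : ∀ h : ↥H, σ ((e.symm h : ↥K) : Γ) = (h : G) := by
    intro h
    have : σK (e.symm h) = h := e.apply_symm_apply h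
    rw [← hσK, this]
  -- the retraction
  have hmem : ∀ v : ↥V, (v : Γ) * ((e.symm ⟨σ v, v.2⟩ : ↥K) : Γ)⁻¹ ∈ σ.ker := by
    intro v
    rw [MonoidHom.mem_ker, map_mul, map_inv, he, mul_inv_cancel]
  let π : ↥V →* ↥(center Γ) := MonoidHom.mk'
    (fun v => ⟨(v : Γ) * ((e.symm ⟨σ v, v.2⟩ : ↥K) : Γ)⁻¹, hc (hmem v)⟩) (by
      intro v v'
      apply Subtype.ext
      have h1 : (⟨σ ((v * v' : ↥V) : Γ), (v * v').2⟩ : ↥H) = ⟨σ v, v.2⟩ * ⟨σ v', v'.2⟩ :=
        Subtype.ext (by simp)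
      have hcen := mem_center_iff.mp (hc (hmem v'))
      show ((v * v' : ↥V) : Γ) * ((e.symm ⟨σ ((v * v' : ↥V) : Γ), (v * v').2⟩ : ↥K) : Γ)⁻¹ =
        ((v : Γ) * ((e.symm ⟨σ v, v.2⟩ : ↥K) : Γ)⁻¹) * ((v' : Γ) * ((e.symm ⟨σ v', v'.2⟩ : ↥K) : Γ)⁻¹)
      rw [h1, map_mul, Subgroup.coe_mul, Subgroup.coe_mul, mul_inv_rev]
      set k := ((e.symm ⟨σ v, v.2⟩ : ↥K) : Γ)
      set k' := ((e.symm ⟨σ v', v'.2⟩ : ↥K) : Γ)
      calc (v : Γ) * (v' : Γ) * (k'⁻¹ * k⁻¹) = (v : Γ) * ((v' : Γ) * k'⁻¹) * k⁻¹ := by group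
        _ = (v : Γ) * (k⁻¹ * ((v' : Γ) * k'⁻¹)) := by rw [mul_assoc, hcen k⁻¹]
        _ = (v : Γ) * k⁻¹ * ((v' : Γ) * k'⁻¹) := by group)
  refine ⟨⟨π, fun v => hmem v, ?_⟩⟩
  intro a ha haV
  show a * ((e.symm ⟨σ a, haV⟩ : ↥K) : Γ)⁻¹ = a
  have h1 : (⟨σ a, haV⟩ : ↥H) = 1 := Subtype.ext (by simpa using ha)
  rw [h1, map_one]
  simp

/-- over a cyclic subgroup of order prime to the exponent of the kernel the preimage retracts onto the
kernel -/
theorem retraction_of_zpowers {Γ G : Type*} [Group Γ] [Group G] (σ : Γ →* G)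
    (hs : Function.Surjective σ) (hc : σ.ker ≤ center Γ) (p : ℕ) (hexp : ∀ a ∈ σ.ker, a ^ p = 1)
    (g : G) (h e q : ℕ) (hg : g ^ h = 1) (he1 : e = q * p + 1) (he0 : h ∣ e) :
    Nonempty (Retraction σ ((zpowers g).comap σ)) := by
  set V : Subgroup Γ := (zpowers g).comap σ with hV
  obtain ⟨γ₀, hγ₀⟩ := hs g
  -- every element of `V` is a power of `γ₀` times a central element
  have hdec : ∀ v ∈ V, ∃ i : ℤ, γ₀ ^ (-i) * v ∈ σ.ker := by
    intro v hv
    obtain ⟨i, hi⟩ := Subgroup.mem_zpowers_iff.mp (show σ v ∈ zpowers g from hv)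
    refine ⟨i, ?_⟩
    rw [MonoidHom.mem_ker, map_mul, map_zpow, hγ₀, ← hi, zpow_neg, inv_mul_cancel]
  have hcomm : ∀ u ∈ V, ∀ v ∈ V, u * v = v * u := by
    intro u hu v hv
    obtain ⟨i, hi⟩ := hdec u hu
    obtain ⟨j, hj⟩ := hdec v hv
    have hu' : u = γ₀ ^ i * (γ₀ ^ (-i) * u) := by group
    have hv' : v = γ₀ ^ j * (γ₀ ^ (-j) * v) := by group
    have ca := mem_center_iff.mp (hc hi)
    have cb := mem_center_iff.mp (hc hj)
    set a := γ₀ ^ (-i) * u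
    set b := γ₀ ^ (-j) * v
    rw [hu', hv']
    calc γ₀ ^ i * a * (γ₀ ^ j * b) = γ₀ ^ i * (a * γ₀ ^ j) * b := by group
      _ = γ₀ ^ i * (γ₀ ^ j * a) * b := by rw [ca]
      _ = γ₀ ^ (i + j) * (a * b) := by rw [zpow_add]; group
      _ = γ₀ ^ (j + i) * (b * a) := by rw [add_comm, cb a]
      _ = γ₀ ^ j * (γ₀ ^ i * b) * a := by rw [zpow_add]; group
      _ = γ₀ ^ j * (b * γ₀ ^ i) * a := by rw [cb]
      _ = γ₀ ^ j * b * (γ₀ ^ i * a) := by group
  have hmem : ∀ v : ↥V, (v : Γ) ^ e ∈ σ.ker := by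
    intro v
    obtain ⟨i, hi⟩ := Subgroup.mem_zpowers_iff.mp (show σ (v : Γ) ∈ zpowers g from v.2)
    obtain ⟨t, rfl⟩ := he0
    rw [MonoidHom.mem_ker, map_pow, ← hi, ← zpow_natCast, ← zpow_mul, mul_comm, zpow_mul, zpow_natCast,
      pow_mul, hg, one_pow, one_zpow]
  let π : ↥V →* ↥(center Γ) := MonoidHom.mk' (fun v => ⟨(v : Γ) ^ e, hc (hmem v)⟩) (by
    intro v v'
    apply Subtype.ext
    show ((v * v' : ↥V) : Γ) ^ e = (v : Γ) ^ e * (v' : Γ) ^ e
    rw [Subgroup.coe_mul]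
    exact (show Commute (v : Γ) (v' : Γ) from hcomm v v.2 v' v'.2).mul_pow e)
  refine ⟨⟨π, fun v => hmem v, ?_⟩⟩
  intro a ha _
  show a ^ e = a
  rw [he1, pow_succ, mul_comm q p, pow_mul, hexp a ha, one_pow, one_mul]

/-- the preimage of a cyclic subgroup is commutative, so its commutator subgroup is trivial -/
theorem comm_inter_zpowers {Γ G : Type*} [Group Γ] [Group G] (σ : Γ →* G)
    (hs : Function.Surjective σ) (hc : σ.ker ≤ center Γ) (g : G) :
    ∀ a ∈ σ.ker, a ∈ ⁅(zpowers g).comap σ, (zpowers g).comap σ⁆ → a = 1 := by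
  intro a _ hac
  obtain ⟨γ₀, hγ₀⟩ := hs g
  have hle : (zpowers g).comap σ ≤ zpowers γ₀ ⊔ σ.ker := by
    intro v hv
    obtain ⟨i, hi⟩ := Subgroup.mem_zpowers_iff.mp (show σ v ∈ zpowers g from hv)
    have h1 : γ₀ ^ (-i) * v ∈ σ.ker := by
      rw [MonoidHom.mem_ker, map_mul, map_zpow, hγ₀, ← hi, zpow_neg, inv_mul_cancel]
    have : v = γ₀ ^ i * (γ₀ ^ (-i) * v) := by group
    rw [this]
    exact Subgroup.mul_mem_sup (Subgroup.zpow_mem_zpowers γ₀ i) h1
  have h2 := (Subgroup.commutator_mono hle hle).trans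
    (Cfsg.Agent.Lib.Helper3.SchurM.comm_sup_central_le (zpowers γ₀) σ.ker hc) hac
  have h3 : ⁅zpowers γ₀, zpowers γ₀⁆ = ⊥ := by
    rw [Subgroup.commutator_eq_bot_iff_le_centralizer]
    intro x hx
    rw [Subgroup.mem_centralizer_iff]
    intro y hy
    obtain ⟨i, rfl⟩ := Subgroup.mem_zpowers_iff.mp hx
    obtain ⟨j, rfl⟩ := Subgroup.mem_zpowers_iff.mp hy
    exact ((Commute.refl γ₀).zpow_zpow j i).eq
  rw [h3] at h2
  exact Subgroup.mem_bot.mp h2

end Cfsg.Agent.Lib.Helper28.SchurFox
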