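import Cfsg.Agent.Lib.Helper28.SchurFoxD

set_option autoImplicit false

/-!
# Fox calculus certificates: soundness of the accumulation
-/

namespace Cfsg.Agent.Lib.Helper28.SchurFox

open Cfsg.Agent.Lib.Helper28.TC2Upper (force force_eq allLoop allLoop_eq_true slot)
open Cfsg.Agent.Lib.Helper28.TC2Lower (pathProd)

/-- abstract loop -/
def loopD {β : Type*} (f : ℕ → β → β) : ℕ → β → β
  | 0, b => b
  | n + 1, b => f n (loopD f n b)

theorem nbeq_false_iff (a b : ℕ) : Nat.beq a b = false ↔ a ≠ b := by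
  rw [← Bool.not_eq_true, Ne, TC2Upper.Data.nbeq_iff]

namespace FoxData
variable (D : FoxData) (nxt : ℕ → ℕ → ℕ)

/-- the walk on digit functions -/
def walkD (k : ℕ) : List ℕ → ℕ → (ℕ → ℕ) → (ℕ → ℕ)
  | [], _, g => g
  | l :: ls, i, g => walkD k ls (nxt l i)
      (if l % 2 = 0 then addAt g (i * D.d + l / 2) k
        else addAt g (nxt l i * D.d + l / 2) (k * (D.p - 1)))

theorem walkD_zero (w : List ℕ) (i : ℕ) (g : ℕ → ℕ) : D.walkD nxt 0 w i g = g := by
  induction w generalizing i g with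
  | nil => rfl
  | cons l ls ih =>
    show D.walkD nxt 0 ls (nxt l i) _ = g
    rw [ih, zero_mul, addAt_zero, addAt_zero, ite_self]

theorem shift_eq (hmw : D.mw = 2 ^ D.w) (k i x : ℕ) :
    Nat.shiftLeft k (D.pos i x) = k * D.mw ^ (i * D.d + x) := by
  show k <<< (D.w * (i * D.d + x)) = _
  rw [Nat.shiftLeft_eq, hmw, pow_mul]

theorem slot_lt {i x n d : ℕ} (hi : i < n) (hx : x < d) : i * d + x < n * d := by
  calc i * d + x < i * d + d := Nat.add_lt_add_left hx _
    _ = (i + 1) * d := by ring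
    _ ≤ n * d := Nat.mul_le_mul_right _ hi

theorem walkAcc_enc (hmw : D.mw = 2 ^ D.w) (htab : ∀ l < 2 * D.d, ∀ i < D.n, nxt l i < D.n)
    (k : ℕ) (w : List ℕ) (hw : ∀ l ∈ w, l < 2 * D.d) (i : ℕ) (hi : i < D.n) (g : ℕ → ℕ) :
    D.walkAcc nxt k w i (enc D.mw (D.n * D.d) g) = enc D.mw (D.n * D.d) (D.walkD nxt k w i g) := by
  induction w generalizing i g with
  | nil => rfl
  | cons l ls ih =>
    have hl : l < 2 * D.d := hw l List.mem_cons_self
    have hx : l / 2 < D.d := by omega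
    have hi' : nxt l i < D.n := htab l hl i hi
    rw [walkAcc_cons]
    show _ = enc D.mw (D.n * D.d) (D.walkD nxt k ls (nxt l i) _)
    rw [← ih (fun l' hl' => hw l' (List.mem_cons_of_mem _ hl')) _ hi']
    congr 1
    by_cases hpar : l % 2 = 0
    · have hb : Nat.beq (Nat.mod l 2) 0 = true := (TC2Upper.Data.nbeq_iff (Nat.mod l 2) 0).mpr hpar
      rw [if_pos hpar, hb]
      show enc D.mw (D.n * D.d) g + Nat.shiftLeft k (D.pos i (l / 2)) = _
      rw [D.shift_eq hmw, enc_addAt _ _ _ (slot_lt hi hx)]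
    · have hb : Nat.beq (Nat.mod l 2) 0 = false := (nbeq_false_iff (Nat.mod l 2) 0).mpr hpar
      rw [if_neg hpar, hb]
      show enc D.mw (D.n * D.d) g + Nat.shiftLeft (k * (D.p - 1)) (D.pos (nxt l i) (l / 2)) = _
      rw [D.shift_eq hmw, enc_addAt _ _ _ (slot_lt hi' hx)]

theorem tot_walkD (htab : ∀ l < 2 * D.d, ∀ i < D.n, nxt l i < D.n)
    (k : ℕ) (w : List ℕ) (hw : ∀ l ∈ w, l < 2 * D.d) (i : ℕ) (hi : i < D.n) (g : ℕ → ℕ) :
    tot (D.n * D.d) (D.walkD nxt k w i g) = tot (D.n * D.d) g + k * D.wt w := by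
  induction w generalizing i g with
  | nil => simp [walkD, wt_nil]
  | cons l ls ih =>
    have hl : l < 2 * D.d := hw l List.mem_cons_self
    have hx : l / 2 < D.d := by omega
    have hi' : nxt l i < D.n := htab l hl i hi
    show tot _ (D.walkD nxt k ls (nxt l i) _) = _
    rw [ih (fun l' hl' => hw l' (List.mem_cons_of_mem _ hl')) _ hi', wt_cons]
    by_cases hpar : l % 2 = 0
    · rw [if_pos hpar, if_pos hpar, tot_addAt _ _ (slot_lt hi hx)]; ring
    · rw [if_neg hpar, if_neg hpar, tot_addAt _ _ (slot_lt hi' hx)]; ring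

section ValSec
variable {A : Type*} [CommGroup A] (F : ℕ → ℕ → A)

/-- the value of a digit position -/
def Fs (s : ℕ) : A := F (s / D.d) (s % D.d)

omit [CommGroup A] in
theorem Fs_slot {i x : ℕ} (hx : x < D.d) : D.Fs F (i * D.d + x) = F i x := by
  unfold Fs
  have hd : 0 < D.d := by omega
  rw [show i * D.d + x = x + D.d * i by ring, Nat.add_mul_div_left _ _ hd, Nat.add_mul_mod_self_left,
    Nat.div_eq_of_lt hx, Nat.mod_eq_of_lt hx, zero_add]

theorem Val_walkD (hp : 0 < D.p) (hF : ∀ i x, F i x ^ D.p = 1)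
    (htab : ∀ l < 2 * D.d, ∀ i < D.n, nxt l i < D.n)
    (k : ℕ) (w : List ℕ) (hw : ∀ l ∈ w, l < 2 * D.d) (i : ℕ) (hi : i < D.n) (g : ℕ → ℕ) :
    Val (D.n * D.d) (D.Fs F) (D.walkD nxt k w i g) =
      Val (D.n * D.d) (D.Fs F) g * walkF F nxt w i ^ k := by
  induction w generalizing i g with
  | nil => simp [walkD, walkF]
  | cons l ls ih =>
    have hl : l < 2 * D.d := hw l List.mem_cons_self
    have hx : l / 2 < D.d := by omega
    have hi' : nxt l i < D.n := htab l hl i hi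
    show Val _ _ (D.walkD nxt k ls (nxt l i) _) = _ * (walkF F nxt ls (nxt l i) * _) ^ k
    rw [ih (fun l' hl' => hw l' (List.mem_cons_of_mem _ hl')) _ hi', mul_pow]
    by_cases hpar : l % 2 = 0
    · rw [if_pos hpar, if_pos hpar, Val_addAt _ _ _ (slot_lt hi hx), D.Fs_slot F hx]
      rw [mul_assoc, mul_comm (F i (l / 2) ^ k)]
    · rw [if_neg hpar, if_neg hpar, Val_addAt _ _ _ (slot_lt hi' hx), D.Fs_slot F hx]
      have h1 : F (nxt l i) (l / 2) ^ (D.p - 1) = (F (nxt l i) (l / 2))⁻¹ := by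
        have : F (nxt l i) (l / 2) ^ (D.p - 1) * F (nxt l i) (l / 2) = 1 := by
          rw [← pow_succ, Nat.sub_add_cancel hp, hF]
        exact eq_inv_of_mul_eq_one_left this
      rw [mul_comm k, pow_mul, h1, mul_assoc, mul_comm ((F (nxt l i) (l / 2))⁻¹ ^ k)]

end ValSec

/-- all points of a relator, on digit functions -/
noncomputable def rowD (path : List ℕ) (ξ : ℕ) (g : ℕ → ℕ) : ℕ → ℕ :=
  loopD (fun i g => D.walkD nxt (D.coef ξ i) path i g) D.n g

/-- all relators, on digit functions -/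
noncomputable def cycD (ξs : List ℕ) : ℕ → ℕ :=
  loopD (fun j g => D.rowD nxt (D.paths.getD j []) (ξs.getD j 0) g) D.paths.length (fun _ => 0)

theorem rowAcc_enc (hmw : D.mw = 2 ^ D.w) (htab : ∀ l < 2 * D.d, ∀ i < D.n, nxt l i < D.n)
    (path : List ℕ) (hw : ∀ l ∈ path, l < 2 * D.d) (ξ : ℕ) (g : ℕ → ℕ) :
    D.rowAcc nxt path ξ (enc D.mw (D.n * D.d) g) = enc D.mw (D.n * D.d) (D.rowD nxt path ξ g) := by
  unfold rowAcc rowD
  have key : ∀ n', n' ≤ D.n →
      loopN (fun i a => force (D.coef ξ i) (fun k => cond (Nat.beq k 0) a (D.walkAcc nxt k path i a))) n'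
        (enc D.mw (D.n * D.d) g) =
      enc D.mw (D.n * D.d) (loopD (fun i g => D.walkD nxt (D.coef ξ i) path i g) n' g) := by
    intro n' hn'
    induction n' with
    | zero => rfl
    | succ i ih =>
      rw [loopN_succ, ih (by omega), force_eq]
      show _ = enc D.mw (D.n * D.d) (D.walkD nxt (D.coef ξ i) path i _)
      by_cases hk : D.coef ξ i = 0
      · rw [(TC2Upper.Data.nbeq_iff _ _).mpr hk, hk, walkD_zero]; rfl
      · rw [(nbeq_false_iff _ _).mpr hk]
        exact D.walkAcc_enc nxt hmw htab _ path hw i (by omega) _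
  exact key D.n le_rfl

theorem tot_rowD (htab : ∀ l < 2 * D.d, ∀ i < D.n, nxt l i < D.n)
    (path : List ℕ) (hw : ∀ l ∈ path, l < 2 * D.d) (ξ : ℕ) (g : ℕ → ℕ) :
    tot (D.n * D.d) (D.rowD nxt path ξ g) = tot (D.n * D.d) g + D.aug ξ * D.wt path := by
  unfold rowD aug
  rw [sumN_eq]
  have key : ∀ n', n' ≤ D.n →
      tot (D.n * D.d) (loopD (fun i g => D.walkD nxt (D.coef ξ i) path i g) n' g) =
        tot (D.n * D.d) g + (∑ i ∈ Finset.range n', D.coef ξ i) * D.wt path := by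
    intro n' hn'
    induction n' with
    | zero => simp [loopD]
    | succ i ih =>
      show tot _ (D.walkD nxt (D.coef ξ i) path i _) = _
      rw [D.tot_walkD nxt htab _ path hw i (by omega), ih (by omega), Finset.sum_range_succ]
      ring
  exact key D.n le_rfl

theorem Val_rowD {A : Type*} [CommGroup A] (F : ℕ → ℕ → A) (hp : 0 < D.p) (hF : ∀ i x, F i x ^ D.p = 1)
    (htab : ∀ l < 2 * D.d, ∀ i < D.n, nxt l i < D.n)
    (path : List ℕ) (hw : ∀ l ∈ path, l < 2 * D.d) (ξ : ℕ) (g : ℕ → ℕ) :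
    Val (D.n * D.d) (D.Fs F) (D.rowD nxt path ξ g) =
      Val (D.n * D.d) (D.Fs F) g * ∏ i ∈ Finset.range D.n, walkF F nxt path i ^ D.coef ξ i := by
  unfold rowD
  have key : ∀ n', n' ≤ D.n →
      Val (D.n * D.d) (D.Fs F) (loopD (fun i g => D.walkD nxt (D.coef ξ i) path i g) n' g) =
        Val (D.n * D.d) (D.Fs F) g * ∏ i ∈ Finset.range n', walkF F nxt path i ^ D.coef ξ i := by
    intro n' hn'
    induction n' with
    | zero => simp [loopD]
    | succ i ih =>
      show Val _ _ (D.walkD nxt (D.coef ξ i) path i _) = _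
      rw [D.Val_walkD nxt F hp hF htab _ path hw i (by omega), ih (by omega), Finset.prod_range_succ, mul_assoc]
  exact key D.n le_rfl

theorem path_mem {j : ℕ} (hj : j < D.paths.length) : D.paths.getD j [] ∈ D.paths := by
  rw [List.getD_eq_getElem _ _ hj]
  exact List.getElem_mem hj

theorem cycAcc_enc (hmw : D.mw = 2 ^ D.w) (htab : ∀ l < 2 * D.d, ∀ i < D.n, nxt l i < D.n)
    (hpaths : ∀ path ∈ D.paths, ∀ l ∈ path, l < 2 * D.d) (ξs : List ℕ) :
    D.cycAcc nxt ξs = enc D.mw (D.n * D.d) (D.cycD nxt ξs) := by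
  unfold cycAcc cycD
  have h0 : enc D.mw (D.n * D.d) (fun _ => 0) = 0 := by simp [enc]
  have key : ∀ m', m' ≤ D.paths.length → ∀ g,
      loopN (fun j a => D.rowAcc nxt (D.paths.getD j []) (ξs.getD j 0) a) m' (enc D.mw (D.n * D.d) g) =
      enc D.mw (D.n * D.d) (loopD (fun j g => D.rowD nxt (D.paths.getD j []) (ξs.getD j 0) g) m' g) := by
    intro m' hm' g
    induction m' with
    | zero => rfl
    | succ j ih =>
      rw [loopN_succ, ih (by omega)]
      exact D.rowAcc_enc nxt hmw htab _ (hpaths _ (D.path_mem (by omega))) _ _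
  have := key _ le_rfl (fun _ => 0)
  rw [h0] at this
  exact this

theorem tot_cycD (htab : ∀ l < 2 * D.d, ∀ i < D.n, nxt l i < D.n)
    (hpaths : ∀ path ∈ D.paths, ∀ l ∈ path, l < 2 * D.d) (ξs : List ℕ) :
    tot (D.n * D.d) (D.cycD nxt ξs) =
      ∑ j ∈ Finset.range D.paths.length, D.aug (ξs.getD j 0) * D.wt (D.paths.getD j []) := by
  unfold cycD
  have key : ∀ m', m' ≤ D.paths.length → ∀ g,
      tot (D.n * D.d) (loopD (fun j g => D.rowD nxt (D.paths.getD j []) (ξs.getD j 0) g) m' g) =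
        tot (D.n * D.d) g + ∑ j ∈ Finset.range m', D.aug (ξs.getD j 0) * D.wt (D.paths.getD j []) := by
    intro m' hm' g
    induction m' with
    | zero => simp [loopD]
    | succ j ih =>
      show tot _ (D.rowD nxt _ _ _) = _
      rw [D.tot_rowD nxt htab _ (hpaths _ (D.path_mem (by omega))), ih (by omega), Finset.sum_range_succ]
      ring
  rw [key _ le_rfl]
  simp [tot]

theorem Val_cycD {A : Type*} [CommGroup A] (F : ℕ → ℕ → A) (hp : 0 < D.p) (hF : ∀ i x, F i x ^ D.p = 1)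
    (htab : ∀ l < 2 * D.d, ∀ i < D.n, nxt l i < D.n)
    (hpaths : ∀ path ∈ D.paths, ∀ l ∈ path, l < 2 * D.d) (ξs : List ℕ) :
    Val (D.n * D.d) (D.Fs F) (D.cycD nxt ξs) =
      ∏ j ∈ Finset.range D.paths.length, ∏ i ∈ Finset.range D.n,
        walkF F nxt (D.paths.getD j []) i ^ D.coef (ξs.getD j 0) i := by
  unfold cycD
  have key : ∀ m', m' ≤ D.paths.length → ∀ g,
      Val (D.n * D.d) (D.Fs F) (loopD (fun j g => D.rowD nxt (D.paths.getD j []) (ξs.getD j 0) g) m' g) =
        Val (D.n * D.d) (D.Fs F) g * ∏ j ∈ Finset.range m', ∏ i ∈ Finset.range D.n,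
          walkF F nxt (D.paths.getD j []) i ^ D.coef (ξs.getD j 0) i := by
    intro m' hm' g
    induction m' with
    | zero => simp [loopD]
    | succ j ih =>
      show Val _ _ (D.rowD nxt _ _ _) = _
      rw [D.Val_rowD nxt F hp hF htab _ (hpaths _ (D.path_mem (by omega))), ih (by omega),
        Finset.prod_range_succ, mul_assoc]
  rw [key _ le_rfl]
  simp [Val]

end FoxData

end Cfsg.Agent.Lib.Helper28.SchurFox
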