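import Cfsg.Agent.Lib.Helper28.SchurFoxE

set_option autoImplicit false

/-!
# Fox calculus certificates: soundness
-/

namespace Cfsg.Agent.Lib.Helper28.SchurFox

open Subgroup
open scoped IsMulCommutative
open Cfsg.Agent.Lib.Helper28.TC2Upper (force force_eq allLoop allLoop_eq_true slot)
open Cfsg.Agent.Lib.Helper28.TC2Lower (pathProd)

namespace FoxData
variable (D : FoxData) (nxt : ℕ → ℕ → ℕ)

/-- what the static checks give -/
structure Static : Prop where
  hp : 0 < D.p
  hn : 0 < D.n
  hmw : D.mw = 2 ^ D.w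
  tab : ∀ x < D.d, ∀ i < D.n, nxt (2 * x) i < D.n ∧ nxt (2 * x + 1) i < D.n ∧
    nxt (2 * x + 1) (nxt (2 * x) i) = i ∧ nxt (2 * x) (nxt (2 * x + 1) i) = i
  paths : ∀ path ∈ D.paths, ∀ l ∈ path, l < 2 * D.d
  id : ∀ j < D.paths.length, ∀ i < D.paths.length,
    (∑ x ∈ Finset.range D.d, D.ex j x * entry D.S x i +
      ∑ k ∈ Finset.range D.cycles.length, entry D.Tm j k * entry D.Lam k i) % D.p =
      (if j = i then 1 else 0) % D.p

theorem static_of_check (h : D.staticOK nxt = true) : D.Static nxt := by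
  unfold staticOK at h
  simp only [Bool.and_eq_true] at h
  obtain ⟨⟨⟨h1, h2⟩, h3⟩, ⟨h4, h5⟩, h6⟩ := h
  refine ⟨by simpa using h1, by simpa using h2, (TC2Upper.Data.nbeq_iff _ _).mp h3, ?_, ?_, ?_⟩
  · intro x hx i hi
    unfold tabOK at h4
    rw [allLoop_eq_true] at h4
    have := h4 i hi
    rw [allLoop_eq_true] at this
    have := this x hx
    simp only [Bool.and_eq_true, Nat.blt_eq, TC2Upper.Data.nbeq_iff] at this
    exact ⟨this.1.1, this.1.2, this.2.1, this.2.2⟩
  · intro path hpath l hl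
    unfold pathsOK at h5
    rw [List.all_eq_true] at h5
    have := h5 path hpath
    rw [List.all_eq_true] at this
    simpa using this l hl
  · intro j hj i hi
    unfold idOK at h6
    rw [allLoop_eq_true] at h6
    have := h6 j hj
    rw [allLoop_eq_true] at this
    have := (TC2Upper.Data.nbeq_iff _ _).mp (this i hi)
    rw [sumN_eq, sumN_eq] at this
    have e : (cond (Nat.beq j i) 1 0 : ℕ) = if j = i then 1 else 0 := by
      by_cases hji : j = i
      · rw [if_pos hji, (TC2Upper.Data.nbeq_iff _ _).mpr hji]; rfl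
      · rw [if_neg hji, (nbeq_false_iff _ _).mpr hji]; rfl
    rw [e] at this
    exact this

theorem Static.htab (h : D.Static nxt) : ∀ l < 2 * D.d, ∀ i < D.n, nxt l i < D.n := by
  intro l hl i hi
  obtain ⟨h1, h2, _, _⟩ := h.tab (l / 2) (by omega) i hi
  rcases Nat.mod_two_eq_zero_or_one l with hpar | hpar
  · rwa [show l = 2 * (l / 2) by omega]
  · rwa [show l = 2 * (l / 2) + 1 by omega]

/-- a cycle that passes the check gives a relation between the values of the relators -/
theorem cycle_sound (h : D.Static nxt) (k : ℕ) (hk : D.cycleOK nxt k = true)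
    {A : Type*} [CommGroup A] (F : ℕ → ℕ → A) (hF : ∀ i x, F i x ^ D.p = 1) :
    (∏ j ∈ Finset.range D.paths.length, ∏ i ∈ Finset.range D.n,
      walkF F nxt (D.paths.getD j []) i ^ D.coef ((D.cycles.getD k []).getD j 0) i) = 1 ∧
    ∀ j < D.paths.length, D.aug ((D.cycles.getD k []).getD j 0) = entry D.Lam k j := by
  unfold cycleOK at hk
  simp only [Bool.and_eq_true] at hk
  obtain ⟨⟨h1, h2⟩, h3⟩ := hk
  rw [allLoop_eq_true] at h1
  have haug : ∀ j < D.paths.length, D.aug ((D.cycles.getD k []).getD j 0) = entry D.Lam k j :=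
    fun j hj => (TC2Upper.Data.nbeq_iff _ _).mp (h1 j hj)
  refine ⟨?_, haug⟩
  set ξs := D.cycles.getD k [] with hξs
  set g := D.cycD nxt ξs with hg
  have htab := h.htab
  have htot : tot (D.n * D.d) g < D.mw := by
    rw [hg, D.tot_cycD nxt htab h.paths]
    have h2' : (sumN (fun j => Nat.mul (entry D.Lam k j) (D.wt (D.paths.getD j []))) D.paths.length) < D.mw := by
      simpa using h2
    rw [sumN_eq] at h2'
    calc _ = ∑ j ∈ Finset.range D.paths.length, entry D.Lam k j * D.wt (D.paths.getD j []) := by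
          apply Finset.sum_congr rfl
          intro j hj
          rw [haug j (Finset.mem_range.mp hj)]
      _ < D.mw := h2'
  have hB : 0 < D.mw := by rw [h.hmw]; positivity
  have hdig : ∀ s < D.n * D.d, g s < D.mw := by
    intro s hs
    have : g s ≤ tot (D.n * D.d) g :=
      Finset.single_le_sum (f := g) (fun _ _ => Nat.zero_le _) (Finset.mem_range.mpr hs)
    omega
  obtain ⟨_, hdec⟩ := digit_enc D.mw hB (D.n * D.d) g hdig
  rw [force_eq, D.cycAcc_enc nxt h.hmw htab h.paths, allLoop_eq_true] at h3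
  have hmod : ∀ s < D.n * D.d, g s % D.p = 0 := by
    intro s hs
    have := (TC2Upper.Data.nbeq_iff _ _).mp (h3 s hs)
    have e : slot D.w D.mw (enc D.mw (D.n * D.d) g) s = enc D.mw (D.n * D.d) g / D.mw ^ s % D.mw := by
      show (enc D.mw (D.n * D.d) g >>> (D.w * s)) % D.mw = _
      rw [Nat.shiftRight_eq_div_pow, h.hmw, pow_mul]
    rw [e, hdec s hs] at this
    exact this
  rw [← D.Val_cycD nxt F h.hp hF htab h.paths ξs]
  unfold Val
  apply Finset.prod_eq_one
  intro s hs
  obtain ⟨q, hq⟩ := Nat.dvd_of_mod_eq_zero (hmod s (Finset.mem_range.mp hs))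
  have hFs : D.Fs F s ^ D.p = 1 := hF _ _
  rw [← hg, hq, pow_mul, hFs, one_pow]

end FoxData

section Main
variable {Γ G : Type*} [Group Γ] [Group G] {σ : Γ →* G} {Ω : Type*} [MulAction G Ω]

/-- the lifts of the generators can be corrected by elements of the kernel so that all relators hold -/
theorem exists_adjust (D : FoxData) (nxt : ℕ → ℕ → ℕ) (hOK : D.staticOK nxt = true)
    (hcyc : ∀ k < D.cycles.length, D.cycleOK nxt k = true)
    (C : Cocycle σ Ω) (hexp : ∀ a ∈ σ.ker, a ^ D.p = 1) (γx : ℕ → Γ) (pts : ℕ → Ω)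
    (hact : ∀ x < D.d, ∀ i < D.n, σ (γx x) • pts i = pts (nxt (2 * x) i))
    (hrel : ∀ w ∈ D.paths, σ (pathProd (letG γx) w) = 1) :
    ∃ a : ℕ → ↥(center Γ), (∀ x, ((a x : ↥(center Γ)) : Γ) ∈ σ.ker) ∧
      ∀ w ∈ D.paths, pathProd (letG (fun x => γx x * (a x : Γ))) w = 1 := by
  have h := D.static_of_check nxt hOK
  have htab := h.htab
  -- the action of the letters
  have hnxt : ∀ l < 2 * D.d, ∀ i < D.n, nxt l i < D.n ∧ σ (letG γx l) • pts i = pts (nxt l i) := by
    intro l hl i hi
    refine ⟨htab l hl i hi, ?_⟩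
    obtain ⟨x, hx, hlx⟩ : ∃ x, x < D.d ∧ (l = 2 * x ∨ l = 2 * x + 1) := ⟨l / 2, by omega, by omega⟩
    obtain ⟨t1, t2, t3, t4⟩ := h.tab x hx i hi
    rcases hlx with rfl | rfl
    · have : letG γx (2 * x) = γx x := by
        simp only [letG]
        rw [if_pos (by omega), show 2 * x / 2 = x by omega]
      rw [this, hact _ hx i hi]
    · have : letG γx (2 * x + 1) = (γx x)⁻¹ := by
        simp only [letG]
        rw [if_neg (by omega), show (2 * x + 1) / 2 = x by omega]
      rw [this, map_inv, inv_smul_eq_iff, hact _ hx _ t2, t4]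
  -- the kernel inside the centre
  let kerC : Subgroup ↥(center Γ) := σ.ker.comap (center Γ).subtype
  have hkerC : ∀ c : ↥(center Γ), c ∈ kerC ↔ (c : Γ) ∈ σ.ker := fun c => Iff.rfl
  have hexpC : ∀ c ∈ kerC, c ^ D.p = 1 := by
    intro c hc
    apply Subtype.ext
    rw [Subgroup.coe_pow]
    exact hexp _ hc
  let F : ℕ → ℕ → ↥(center Γ) := fun i x => C.c (γx x) (pts i)
  have hF : ∀ i x, F i x ^ D.p = 1 := fun i x => hexpC _ (C.mem_ker _ _)
  -- the values of the relators
  let z : ℕ → ↥(center Γ) := fun j => walkF F nxt (D.paths.getD j []) 0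
  have hzi : ∀ j < D.paths.length, ∀ i < D.n, walkF F nxt (D.paths.getD j []) i = z j := by
    intro j hj i hi
    have hm := D.path_mem hj
    apply Subtype.ext
    rw [← relator_eq_walkF C γx pts nxt D.n D.d hnxt _ (h.paths _ hm) (hrel _ hm) i hi,
      ← relator_eq_walkF C γx pts nxt D.n D.d hnxt _ (h.paths _ hm) (hrel _ hm) 0 h.hn]
  have hzval : ∀ j < D.paths.length, ((z j : ↥(center Γ)) : Γ) = pathProd (letG γx) (D.paths.getD j []) := by
    intro j hj
    have hm := D.path_mem hj
    exact (relator_eq_walkF C γx pts nxt D.n D.d hnxt _ (h.paths _ hm) (hrel _ hm) 0 h.hn).symm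
  have hzker : ∀ j, z j ∈ kerC := by
    intro j
    by_cases hj : j < D.paths.length
    · rw [hkerC, hzval j hj, MonoidHom.mem_ker]
      exact hrel _ (D.path_mem hj)
    · have : D.paths.getD j [] = [] := by
        rw [List.getD_eq_default]; omega
      show walkF F nxt (D.paths.getD j []) 0 ∈ kerC
      rw [this]
      exact one_mem _
  have hzp : ∀ j, z j ^ D.p = 1 := fun j => hexpC _ (hzker j)
  -- the cycles
  have hΛ : ∀ k < D.cycles.length, ∏ j ∈ Finset.range D.paths.length, z j ^ entry D.Lam k j = 1 := by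
    intro k hk
    obtain ⟨h1, h2⟩ := D.cycle_sound nxt h k (hcyc k hk) F hF
    rw [← h1]
    apply Finset.prod_congr rfl
    intro j hj
    have hj' := Finset.mem_range.mp hj
    rw [← h2 j hj', FoxData.aug, sumN_eq, ← Finset.prod_pow_eq_pow_sum]
    apply Finset.prod_congr rfl
    intro i hi
    rw [hzi j hj' i (Finset.mem_range.mp hi)]
  have hla := la_lemma D.p D.paths.length D.d D.cycles.length z hzp D.ex (entry D.S) (entry D.Tm) (entry D.Lam)
    hΛ h.id
  -- the correction
  let b : ℕ → ↥(center Γ) := fun x => ∏ i ∈ Finset.range D.paths.length, z i ^ entry D.S x i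
  have hbker : ∀ x, b x ∈ kerC := fun x => Subgroup.prod_mem _ (fun i _ => pow_mem (hzker i) _)
  refine ⟨fun x => (b x)⁻¹, fun x => (hkerC _).mp (inv_mem (hbker x)), ?_⟩
  intro w hw
  obtain ⟨j, hj, rfl⟩ : ∃ j, j < D.paths.length ∧ D.paths.getD j [] = w := by
    obtain ⟨j, hj, rfl⟩ := List.getElem_of_mem hw
    exact ⟨j, hj, List.getD_eq_getElem _ _ hj⟩
  rw [pathProd_mul, ← hzval j hj]
  have hprod : (((D.paths.getD j []).map (letA (fun x => (b x)⁻¹))).prod : ↥(center Γ)) =
      ∏ x ∈ Finset.range D.d, ((b x)⁻¹) ^ expo D.p (D.paths.getD j []) x :=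
    prod_letA D.p h.hp (fun x => (b x)⁻¹) (fun x => by rw [inv_pow, hexpC _ (hbker x), inv_one]) D.d _
      (h.paths _ (D.path_mem hj))
  rw [hprod, ← Subgroup.coe_mul]
  have : z j * ∏ x ∈ Finset.range D.d, ((b x)⁻¹) ^ expo D.p (D.paths.getD j []) x = 1 := by
    rw [hla j hj]
    simp only [inv_pow, Finset.prod_inv_distrib]
    exact mul_inv_cancel _
  rw [this]
  rfl

end Main

end Cfsg.Agent.Lib.Helper28.SchurFox
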