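import Cfsg.Agent.Lib.Helper29.SchurFoxSparse

set_option autoImplicit false

/-!
# Fox calculus certificates with sparse cycles, checked block by block

The accumulator of `Helper29.SchurFoxSparse` has one digit for every pair (point, generator); for a table with many
points every addition copies it.  Here the points are cut into blocks of `L` points and, for every block, the cells of
the cycle are walked with an accumulator that holds the digits of the block only.  The semantics on digit functions is
the one of `SchurFoxSparse` (`cycDS`), so that only the encoding lemmas are new.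
-/

namespace Cfsg.Agent.Lib.Helper28.SchurFoxW

open Subgroup
open scoped IsMulCommutative
open Cfsg.Agent.Lib.Helper28.TC2Upper (force force_eq allLoop allLoop_eq_true slot)
open Cfsg.Agent.Lib.Helper28.TC2Lower (pathProd Table)
open Cfsg.Agent.Lib.Helper28.TC2Glue (pathOf lift_mk_eq_pathProd)
open Cfsg.Agent.Lib.Helper28.SchurFox
open Cfsg.Agent.Lib.Helper29.SchurFoxSparse

section Checker
variable (D : FoxData) (nxt : ℕ → ℕ → ℕ) (lo L : ℕ)

/-- the point `i` lies in the block `[lo, lo + L)` -/
noncomputable def inB (i : ℕ) : Bool := and (Nat.ble lo i) (Nat.blt i (Nat.add lo L))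

theorem inB_iff (i : ℕ) : inB lo L i = true ↔ lo ≤ i ∧ i < lo + L := by
  unfold inB
  rw [Bool.and_eq_true, Nat.ble_eq, Nat.blt_eq]
  rfl

/-- bit position of the digit of the pair (point `i`, generator `x`) in the accumulator of the block -/
noncomputable def posW (i x : ℕ) : ℕ := Nat.mul D.w (Nat.add (Nat.mul (Nat.sub i lo) D.d) x)

/-- one letter of a walk -/
noncomputable def stepAccW (k l i acc : ℕ) (cont : ℕ → ℕ → ℕ) : ℕ :=
  force (nxt l i) (fun i' =>
    force (cond (Nat.beq (Nat.mod l 2) 0)
      (cond (inB lo L i) (Nat.add acc (Nat.shiftLeft k (posW D lo i (Nat.div l 2)))) acc)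
      (cond (inB lo L i')
        (Nat.add acc (Nat.shiftLeft (Nat.mul k (Nat.pred D.p)) (posW D lo i' (Nat.div l 2)))) acc))
    (fun acc' => cont i' acc'))

/-- add `k` times the boundary of the walk along a path from the point `i`, inside the block -/
noncomputable def walkAccW (k : ℕ) : List ℕ → ℕ → ℕ → ℕ :=
  @List.rec ℕ (fun _ => ℕ → ℕ → ℕ) (fun _ acc => acc) (fun l _ ih i acc => stepAccW D nxt lo L k l i acc ih)

theorem walkAccW_nil (k i acc : ℕ) : walkAccW D nxt lo L k [] i acc = acc := rfl

theorem walkAccW_cons (k l : ℕ) (ls : List ℕ) (i acc : ℕ) :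
    walkAccW D nxt lo L k (l :: ls) i acc = walkAccW D nxt lo L k ls (nxt l i)
      (cond (Nat.beq (Nat.mod l 2) 0)
        (cond (inB lo L i) (Nat.add acc (Nat.shiftLeft k (posW D lo i (Nat.div l 2)))) acc)
        (cond (inB lo L (nxt l i))
          (Nat.add acc (Nat.shiftLeft (Nat.mul k (Nat.pred D.p)) (posW D lo (nxt l i) (Nat.div l 2)))) acc)) := by
  show stepAccW D nxt lo L k l i acc (walkAccW D nxt lo L k ls) = _
  unfold stepAccW
  rw [force_eq, force_eq]

/-- the cells of one relator -/
noncomputable def rowAccW (path : List ℕ) : List (ℕ × ℕ) → ℕ → ℕ :=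
  @List.rec (ℕ × ℕ) (fun _ => ℕ → ℕ) (fun acc => acc)
    (fun cell _ ih acc => ih (walkAccW D nxt lo L cell.2 path cell.1 acc))

theorem rowAccW_nil (path : List ℕ) (acc : ℕ) : rowAccW D nxt lo L path [] acc = acc := rfl

theorem rowAccW_cons (path : List ℕ) (c : ℕ × ℕ) (cs : List (ℕ × ℕ)) (acc : ℕ) :
    rowAccW D nxt lo L path (c :: cs) acc =
      rowAccW D nxt lo L path cs (walkAccW D nxt lo L c.2 path c.1 acc) := rfl

/-- all relators -/
noncomputable def cycAccW (rows : List (List (ℕ × ℕ))) : ℕ :=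
  loopN (fun j a => rowAccW D nxt lo L (D.paths.getD j []) (rows.getD j []) a) D.paths.length 0

/-- the digits of the block -/
def encW (g : ℕ → ℕ) : ℕ := enc D.mw (L * D.d) (fun t => g (lo * D.d + t))

theorem enc_congr (B M : ℕ) (g g' : ℕ → ℕ) (h : ∀ t < M, g t = g' t) : enc B M g = enc B M g' := by
  unfold enc
  apply Finset.sum_congr rfl
  intro t ht
  rw [h t (Finset.mem_range.mp ht)]

theorem encW_addAt_in (g : ℕ → ℕ) {i x : ℕ} (h1 : lo ≤ i) (h2 : i < lo + L) (hx : x < D.d) (k : ℕ) :
    encW D lo L (addAt g (i * D.d + x) k) = encW D lo L g + k * D.mw ^ ((i - lo) * D.d + x) := by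
  obtain ⟨j, rfl⟩ := Nat.exists_eq_add_of_le h1
  have hj : j < L := by omega
  have e : (fun t => addAt g ((lo + j) * D.d + x) k (lo * D.d + t)) =
      addAt (fun t => g (lo * D.d + t)) (j * D.d + x) k := by
    funext t
    unfold addAt
    congr 1
    have : (lo * D.d + t = (lo + j) * D.d + x) ↔ (t = j * D.d + x) := by
      rw [add_mul]
      omega
    simp only [this]
  unfold encW
  rw [e, enc_addAt _ _ _ (FoxData.slot_lt hj hx), Nat.add_sub_cancel_left]

theorem encW_addAt_out (g : ℕ → ℕ) {i x : ℕ} (h : ¬ (lo ≤ i ∧ i < lo + L)) (hx : x < D.d) (k : ℕ) :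
    encW D lo L (addAt g (i * D.d + x) k) = encW D lo L g := by
  unfold encW
  apply enc_congr
  intro t ht
  unfold addAt
  rw [if_neg, add_zero]
  intro heq
  apply h
  constructor
  · by_contra hlt
    have h3 : i + 1 ≤ lo := by omega
    have h4 : (i + 1) * D.d ≤ lo * D.d := Nat.mul_le_mul_right _ h3
    rw [add_mul, one_mul] at h4
    omega
  · by_contra hge
    have h3 : lo + L ≤ i := by omega
    have h4 : (lo + L) * D.d ≤ i * D.d := Nat.mul_le_mul_right _ h3
    rw [add_mul] at h4
    omega

theorem shiftW_eq (hmw : D.mw = 2 ^ D.w) (k i x : ℕ) :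
    Nat.shiftLeft k (posW D lo i x) = k * D.mw ^ ((i - lo) * D.d + x) := by
  show k <<< (D.w * ((i - lo) * D.d + x)) = _
  rw [Nat.shiftLeft_eq, hmw, pow_mul]

theorem walkAccW_enc (hmw : D.mw = 2 ^ D.w)
    (k : ℕ) (w : List ℕ) (hw : ∀ l ∈ w, l < 2 * D.d) (i : ℕ) (g : ℕ → ℕ) :
    walkAccW D nxt lo L k w i (encW D lo L g) = encW D lo L (D.walkD nxt k w i g) := by
  induction w generalizing i g with
  | nil => rfl
  | cons l ls ih =>
    have hl : l < 2 * D.d := hw l List.mem_cons_self
    have hx : l / 2 < D.d := by omega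
    rw [walkAccW_cons]
    show _ = encW D lo L (D.walkD nxt k ls (nxt l i) _)
    rw [← ih (fun l' hl' => hw l' (List.mem_cons_of_mem _ hl'))]
    congr 1
    by_cases hpar : l % 2 = 0
    · have hb : Nat.beq (Nat.mod l 2) 0 = true := (TC2Upper.Data.nbeq_iff (Nat.mod l 2) 0).mpr hpar
      rw [if_pos hpar, hb]
      by_cases hin : lo ≤ i ∧ i < lo + L
      · rw [(inB_iff lo L i).mpr hin]
        show encW D lo L g + Nat.shiftLeft k (posW D lo i (l / 2)) = _
        rw [shiftW_eq D lo hmw, encW_addAt_in D lo L g hin.1 hin.2 hx]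
      · have : inB lo L i = false := by
          rw [Bool.eq_false_iff, Ne, inB_iff]; exact hin
        rw [this]
        show encW D lo L g = _
        rw [encW_addAt_out D lo L g hin hx]
    · have hb : Nat.beq (Nat.mod l 2) 0 = false := (nbeq_false_iff (Nat.mod l 2) 0).mpr hpar
      rw [if_neg hpar, hb]
      by_cases hin : lo ≤ nxt l i ∧ nxt l i < lo + L
      · rw [(inB_iff lo L (nxt l i)).mpr hin]
        show encW D lo L g + Nat.shiftLeft (k * (D.p - 1)) (posW D lo (nxt l i) (l / 2)) = _
        rw [shiftW_eq D lo hmw, encW_addAt_in D lo L g hin.1 hin.2 hx]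
      · have : inB lo L (nxt l i) = false := by
          rw [Bool.eq_false_iff, Ne, inB_iff]; exact hin
        rw [this]
        show encW D lo L g = _
        rw [encW_addAt_out D lo L g hin hx]

theorem rowAccW_enc (hmw : D.mw = 2 ^ D.w)
    (path : List ℕ) (hw : ∀ l ∈ path, l < 2 * D.d) (cells : List (ℕ × ℕ)) (g : ℕ → ℕ) :
    rowAccW D nxt lo L path cells (encW D lo L g) = encW D lo L (rowDS D nxt path cells g) := by
  induction cells generalizing g with
  | nil => rfl
  | cons c cs ih =>
    rw [rowAccW_cons, walkAccW_enc D nxt lo L hmw _ path hw c.1, ih]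
    rfl

theorem cycAccW_enc (hmw : D.mw = 2 ^ D.w)
    (hpaths : ∀ path ∈ D.paths, ∀ l ∈ path, l < 2 * D.d) (rows : List (List (ℕ × ℕ))) :
    cycAccW D nxt lo L rows = encW D lo L (cycDS D nxt rows) := by
  unfold cycAccW cycDS
  have h0 : encW D lo L (fun _ => 0) = 0 := by simp [encW, enc]
  have key : ∀ m', m' ≤ D.paths.length → ∀ g,
      loopN (fun j a => rowAccW D nxt lo L (D.paths.getD j []) (rows.getD j []) a) m' (encW D lo L g) =
      encW D lo L (loopD (fun j g => rowDS D nxt (D.paths.getD j []) (rows.getD j []) g) m' g) := by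
    intro m' hm' g
    induction m' with
    | zero => rfl
    | succ j ih =>
      rw [loopN_succ, ih (by omega)]
      exact rowAccW_enc D nxt lo L hmw _ (hpaths _ (D.path_mem (by omega))) _ _
  have := key _ le_rfl (fun _ => 0)
  rw [h0] at this
  exact this

/-- the part of the check of the cycle number `k` that does not walk -/
noncomputable def cycleStatOK (k : ℕ) (rows : List (List (ℕ × ℕ))) : Bool :=
  and (and (cellsOK D rows)
    (allLoop (fun j => Nat.beq (augS (rows.getD j [])) (entry D.Lam k j)) D.paths.length))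
    (Nat.blt (sumN (fun j => Nat.mul (entry D.Lam k j) (D.wt (D.paths.getD j []))) D.paths.length) D.mw)

/-- the digits of the block number `b` vanish modulo `p` -/
noncomputable def blockOK (rows : List (List (ℕ × ℕ))) (b : ℕ) : Bool :=
  force (Nat.mul b L) (fun lo' => force (cycAccW D nxt lo' L rows) (fun acc =>
    allLoop (fun t => Nat.beq (Nat.mod (slot D.w D.mw acc t) D.p) 0) (Nat.mul L D.d)))

/-- the blocks `b0 ≤ b < b0 + cnt` -/
noncomputable def blocksOK (rows : List (List (ℕ × ℕ))) (b0 cnt : ℕ) : Bool :=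
  allLoop (fun j => blockOK D nxt L rows (Nat.add b0 j)) cnt

theorem blocksOK_iff (rows : List (List (ℕ × ℕ))) (b0 cnt : ℕ) :
    blocksOK D nxt L rows b0 cnt = true ↔ ∀ b, b0 ≤ b → b < b0 + cnt → blockOK D nxt L rows b = true := by
  unfold blocksOK
  rw [allLoop_eq_true]
  constructor
  · intro h b h1 h2
    obtain ⟨j, rfl⟩ := Nat.exists_eq_add_of_le h1
    exact h j (by omega)
  · intro h j hj
    exact h (b0 + j) (by omega) (by omega)

/-- a cycle that passes the check block by block gives a relation between the values of the relators -/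
theorem cycleW_sound (h : D.Static nxt) (k : ℕ) (rows : List (List (ℕ × ℕ)))
    (hk : cycleStatOK D k rows = true) (NB : ℕ) (hNB : NB * L = D.n)
    (hblk : ∀ b < NB, blockOK D nxt L rows b = true)
    {A : Type*} [CommGroup A] (F : ℕ → ℕ → A) (hF : ∀ i x, F i x ^ D.p = 1) (z : ℕ → A)
    (hz : ∀ j < D.paths.length, ∀ i < D.n, walkF F nxt (D.paths.getD j []) i = z j) :
    ∏ j ∈ Finset.range D.paths.length, z j ^ entry D.Lam k j = 1 := by
  unfold cycleStatOK at hk
  simp only [Bool.and_eq_true] at hk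
  obtain ⟨⟨h0, h1⟩, h2⟩ := hk
  rw [allLoop_eq_true] at h1
  have haug : ∀ j < D.paths.length, augS (rows.getD j []) = entry D.Lam k j :=
    fun j hj => (Cfsg.Agent.Lib.Helper28.TC2Upper.Data.nbeq_iff _ _).mp (h1 j hj)
  have hc : ∀ j, ∀ c ∈ rows.getD j [], c.1 < D.n := by
    intro j c hcm
    by_cases hj : j < rows.length
    · rw [List.getD_eq_getElem _ _ hj] at hcm
      unfold cellsOK at h0
      rw [List.all_eq_true] at h0
      have h4 := h0 _ (List.getElem_mem hj)
      rw [List.all_eq_true] at h4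
      simpa using h4 c hcm
    · rw [List.getD_eq_default _ _ (by omega)] at hcm
      exact absurd hcm (List.not_mem_nil)
  set g := cycDS D nxt rows with hg
  have htab := h.htab
  have htot : tot (D.n * D.d) g < D.mw := by
    rw [hg, tot_cycDS D nxt htab h.paths rows hc]
    have h2' : (sumN (fun j => Nat.mul (entry D.Lam k j) (D.wt (D.paths.getD j []))) D.paths.length) < D.mw := by
      simpa using h2
    rw [sumN_eq] at h2'
    calc _ = ∑ j ∈ Finset.range D.paths.length, entry D.Lam k j * D.wt (D.paths.getD j []) := by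
          apply Finset.sum_congr rfl
          intro j hj
          rw [haug j (Finset.mem_range.mp hj)]
      _ < D.mw := h2'
  have hB : 0 < D.mw := by rw [h.hmw]; positivity
  have hdig : ∀ s < D.n * D.d, g s < D.mw := by
    intro s hs
    have : g s ≤ tot (D.n * D.d) g :=
      Finset.single_le_sum (f := g) (fun _ _ => Nat.zero_le _) (Finset.mem_range.mpr hs)
    omega
  have hmod : ∀ s < D.n * D.d, g s % D.p = 0 := by
    intro s hs
    have hd : 0 < D.d := by
      rcases Nat.eq_zero_or_pos D.d with h0' | h0'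
      · rw [h0', mul_zero] at hs; exact absurd hs (Nat.not_lt_zero _)
      · exact h0'
    have hL : 0 < L := by
      rcases Nat.eq_zero_or_pos L with h0' | h0'
      · have := h.hn
        rw [← hNB, h0', mul_zero] at this
        exact absurd this (Nat.lt_irrefl _)
      · exact h0'
    have hi : s / D.d < D.n := Nat.div_lt_of_lt_mul (by rwa [mul_comm] at hs)
    have hb : s / D.d / L < NB := Nat.div_lt_of_lt_mul (by rwa [← hNB, mul_comm] at hi)
    have hlo1 : s / D.d / L * L ≤ s / D.d := Nat.div_mul_le_self _ _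
    have hlo2 : s / D.d < s / D.d / L * L + L := Nat.lt_div_mul_add hL
    have hs1 : s / D.d * D.d ≤ s := Nat.div_mul_le_self _ _
    have hs2 : s < s / D.d * D.d + D.d := Nat.lt_div_mul_add hd
    set lo' := s / D.d / L * L with hlo'
    have hA : lo' * D.d ≤ s := le_trans (Nat.mul_le_mul_right _ hlo1) hs1
    have hB' : s < lo' * D.d + L * D.d := by
      have : (s / D.d + 1) * D.d ≤ (lo' + L) * D.d := Nat.mul_le_mul_right _ (by omega)
      rw [add_mul, add_mul, one_mul] at this
      omega
    have hC : lo' * D.d + L * D.d ≤ D.n * D.d := by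
      have h5 : lo' + L ≤ D.n := by
        have : (s / D.d / L + 1) * L ≤ NB * L := Nat.mul_le_mul_right _ (by omega)
        rw [add_mul, one_mul, hNB] at this
        exact this
      have := Nat.mul_le_mul_right D.d h5
      rwa [add_mul] at this
    have hdigW : ∀ t < L * D.d, (fun t => g (lo' * D.d + t)) t < D.mw := by
      intro t ht
      exact hdig _ (by omega)
    obtain ⟨_, hdec⟩ := digit_enc D.mw hB (L * D.d) (fun t => g (lo' * D.d + t)) hdigW
    have h3 := hblk _ hb
    unfold blockOK at h3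
    rw [force_eq, force_eq, cycAccW_enc D nxt _ L h.hmw h.paths rows, allLoop_eq_true] at h3
    have ht : s - lo' * D.d < L * D.d := by omega
    have := (Cfsg.Agent.Lib.Helper28.TC2Upper.Data.nbeq_iff _ _).mp (h3 _ ht)
    have e : slot D.w D.mw (encW D lo' L g) (s - lo' * D.d) =
        encW D lo' L g / D.mw ^ (s - lo' * D.d) % D.mw := by
      show (encW D lo' L g >>> (D.w * (s - lo' * D.d))) % D.mw = _
      rw [Nat.shiftRight_eq_div_pow, h.hmw, pow_mul]
    have e2 : Nat.mul (s / D.d / L) L = lo' := rfl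
    rw [e2, ← hg, e] at this
    have hdec' := hdec _ ht
    unfold encW at this
    rw [hdec'] at this
    have e3 : lo' * D.d + (s - lo' * D.d) = s := by omega
    simp only [e3] at this
    exact this
  have hval : Val (D.n * D.d) (D.Fs F) g = 1 := by
    unfold Val
    apply Finset.prod_eq_one
    intro s hs
    obtain ⟨q, hq⟩ := Nat.dvd_of_mod_eq_zero (hmod s (Finset.mem_range.mp hs))
    have hFs : D.Fs F s ^ D.p = 1 := hF _ _
    rw [hq, pow_mul, hFs, one_pow]
  rw [← hval, hg, Val_cycDS D nxt F h.hp hF htab h.paths rows hc]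
  apply Finset.prod_congr rfl
  intro j hj
  have hj' := Finset.mem_range.mp hj
  rw [prod_cells D.n (fun i => walkF F nxt (D.paths.getD j []) i) (z j) (hz j hj') _ (hc j), haug j hj']

end Checker

section Pres
variable {α : Type} (rels : Set (FreeGroup α)) (relWords : List (List (α × Bool)))
  (lw : α × Bool → ℕ) (gi : α → ℕ)

/-- `ker_eq_bot_of_fox_sparse` of `Helper29.SchurFoxSparse` over an abstract hypothesis on the cycles -/
theorem ker_eq_bot_of_fox_abs
    (hrels : ∀ r, r ∈ rels ↔ ∃ L ∈ relWords, r = FreeGroup.mk L)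
    (hlw : ∀ x b, lw (x, b) = 2 * gi x + cond b 0 1) (hgi : Function.Injective gi)
    (H : Subgroup (PresentedGroup rels))
    (T : Table) (hT : T.OK) (hlwk : ∀ x, lw (x, true) < T.k)
    (φ : PresentedGroup rels →* Equiv.Perm (Fin T.n))
    (hφ : ∀ x, φ (PresentedGroup.of x) = Table.sigma hT (lw (x, true)))
    (f : PresentedGroup rels ⧸ H → Fin T.n) (hf : Function.Bijective f)
    (hfe : ∀ g q, f (g • q) = φ g (f q))
    (D : FoxData) (hDn : D.n = T.n) (hDd : ∀ k < D.d, ∃ x, gi x = k)
    (hpaths : D.paths = relWords.map (pathOf lw))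
    (hOK : D.staticOK T.tau = true)
    {Γ : Type*} [Group Γ] (σ : Γ →* PresentedGroup rels) (hσ : Cfsg.IsStemExtension σ)
    (hexp : ∀ a ∈ σ.ker, a ^ D.p = 1) (R : Retraction σ (H.comap σ))
    (hcyc : ∀ k < D.cycles.length, ∀ (F : ℕ → ℕ → ↥(center Γ)), (∀ i x, F i x ^ D.p = 1) →
      ∀ z : ℕ → ↥(center Γ), (∀ j < D.paths.length, ∀ i < D.n, walkF F T.tau (D.paths.getD j []) i = z j) →
        ∏ j ∈ Finset.range D.paths.length, z j ^ entry D.Lam k j = 1) : σ.ker = ⊥ := by
  classical
  -- the cocycle on the coset space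
  have hV : ∀ γ, γ ∈ H.comap σ ↔ σ γ • (QuotientGroup.mk 1 : PresentedGroup rels ⧸ H) = QuotientGroup.mk 1 := by
    intro γ
    rw [Subgroup.mem_comap]
    show _ ↔ (QuotientGroup.mk (σ γ * 1) : PresentedGroup rels ⧸ H) = QuotientGroup.mk 1
    rw [mul_one, QuotientGroup.eq, mul_one, inv_mem_iff]
  obtain ⟨C⟩ := exists_cocycle σ hσ.1 hσ.2.1 (QuotientGroup.mk 1 : PresentedGroup rels ⧸ H) (H.comap σ) hV R
  -- lifts of the generators
  have hlift : ∀ x : α, ∃ g : Γ, σ g = PresentedGroup.of x := fun x => hσ.1 _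
  choose γ0 hγ0 using hlift
  let γx : ℕ → Γ := fun k => if h : ∃ x, gi x = k then γ0 h.choose else 1
  have hγx : ∀ x, γx (gi x) = γ0 x := by
    intro x
    have h : ∃ y, gi y = gi x := ⟨x, rfl⟩
    show (if h : ∃ y, gi y = gi x then γ0 h.choose else 1) = γ0 x
    rw [dif_pos h, hgi h.choose_spec]
  -- the points
  let e := Equiv.ofBijective f hf
  let pts : ℕ → PresentedGroup rels ⧸ H := fun i => if h : i < T.n then e.symm ⟨i, h⟩ else QuotientGroup.mk 1
  have hpts : ∀ i (h : i < T.n), f (pts i) = ⟨i, h⟩ := by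
    intro i h
    show f (if h : i < T.n then e.symm ⟨i, h⟩ else QuotientGroup.mk 1) = _
    rw [dif_pos h]
    exact e.apply_symm_apply _
  have hact : ∀ x < D.d, ∀ i < D.n, σ (γx x) • pts i = pts (T.tau (2 * x) i) := by
    intro k hk i hi
    rw [hDn] at hi
    obtain ⟨x, rfl⟩ := hDd k hk
    rw [hγx, hγ0]
    apply hf.1
    rw [hfe, hφ, hpts i hi]
    have hlt : T.tau (2 * gi x) i < T.n := by
      have := (Table.sigma hT (lw (x, true)) ⟨i, hi⟩).2
      rwa [Table.sigma_apply hT (hlwk x), hlw, cond_true, add_zero] at this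
    rw [hpts _ hlt]
    apply Fin.ext
    rw [Table.sigma_apply hT (hlwk x), hlw]
    rfl
  have hcomp : ∀ (g : α → Γ), (∀ x, σ (g x) = PresentedGroup.of x) → ∀ L : List (α × Bool),
      σ (FreeGroup.lift g (FreeGroup.mk L)) = PresentedGroup.mk rels (FreeGroup.mk L) := by
    intro g hg L
    have : σ.comp (FreeGroup.lift g) = PresentedGroup.mk rels := by
      apply FreeGroup.ext_hom
      intro x
      show σ (FreeGroup.lift g (FreeGroup.of x)) = PresentedGroup.mk rels (FreeGroup.of x)
      rw [FreeGroup.lift_apply_of, hg]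
      rfl
    exact congrArg (fun h : FreeGroup α →* PresentedGroup rels => h (FreeGroup.mk L)) this
  have hrel : ∀ w ∈ D.paths, σ (pathProd (letG γx) w) = 1 := by
    intro w hw
    rw [hpaths, List.mem_map] at hw
    obtain ⟨L, hL, rfl⟩ := hw
    rw [← lift_mk_eq_pathProd γ0 lw (letG γx) (fun x b => by rw [letG_lw lw gi hlw, hγx]) L, hcomp γ0 hγ0]
    exact PresentedGroup.one_of_mem ((hrels _).mpr ⟨L, hL, rfl⟩)
  obtain ⟨a, haker, harel⟩ := exists_adjust_abs D T.tau hOK hcyc C hexp γx pts hact hrel
  -- the corrected lifts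
  let γ' : α → Γ := fun x => γ0 x * (a (gi x) : Γ)
  have hγ' : ∀ x, σ (γ' x) = PresentedGroup.of x := by
    intro x
    show σ (γ0 x * (a (gi x) : Γ)) = _
    rw [map_mul, hγ0, MonoidHom.mem_ker.mp (haker _), mul_one]
  refine ker_eq_bot_of_lifts rels σ hσ γ' hγ' ?_
  intro r hr
  obtain ⟨L, hL, rfl⟩ := (hrels r).mp hr
  rw [lift_mk_eq_pathProd γ' lw (letG (fun k => γx k * (a k : Γ))) (fun x b => by
    rw [letG_lw lw gi hlw, hγx]) L]
  exact harel _ (by rw [hpaths]; exact List.mem_map_of_mem hL)

end Pres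

end Cfsg.Agent.Lib.Helper28.SchurFoxW
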