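import Cfsg.Agent.Lib.Helper28.SchurHeConc
import Cfsg.Agent.Lib.Helper28.SchurFoxH
import Cfsg.Agent.Lib.Helper28.FoxHeS0P2Chk
import Cfsg.Agent.Lib.Helper28.FoxHeS0P3Chk
import Cfsg.Agent.Lib.Helper28.FoxHeS0P7Chk

set_option autoImplicit false
set_option maxRecDepth 100000

/-!
# The Held group has trivial Schur multiplier
-/

namespace Cfsg.Agent.Lib.Helper28.SchurHe

open Cfsg.Agent.Lib.Helper28.SchurFox Cfsg.Agent.Lib.Helper28.TC2Lower Cfsg.Agent.Lib.Helper28.TC2Glue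
open Cfsg.Agent.Lib.Helper28.TCHeS0Link Cfsg.Agent.Lib.Helper28.TCHeS0Table
open Cfsg.Agent.Lib.Helper28.TCHeS0Main
open Cfsg.Agent.Lib.Helper28.SchurHeConc (He H0 index_H0 perfect_H0 trivMult_H0)
open Cfsg.Spor.He (Gen)

/-- index of a generator -/
def gi : Gen → ℕ
  | .a => 0
  | .b => 1
  | .c => 2
  | .d => 3
  | .e => 4
  | .f => 5
  | .g => 6

theorem hlw : ∀ s b, lw (s, b) = 2 * gi s + cond b 0 1 := by
  rintro s b; cases s <;> cases b <;> rfl

theorem hgi : Function.Injective gi := by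
  intro s t e; cases s <;> cases t <;> simp_all [gi]

theorem hlwk : ∀ s, lw (s, true) < table.k := by
  intro s; cases s <;> decide

theorem hDd : ∀ k < 7, ∃ s, gi s = k := by
  intro k hk
  interval_cases k
  exacts [⟨.a, rfl⟩, ⟨.b, rfl⟩, ⟨.c, rfl⟩, ⟨.d, rfl⟩, ⟨.e, rfl⟩, ⟨.f, rfl⟩, ⟨.g, rfl⟩]

theorem prime_dvd_4116 {p : ℕ} (hp : p.Prime) (h : p ∣ 4116) : p = 2 ∨ p = 3 ∨ p = 7 := by
  have h' : p ∣ 2 ^ 2 * 3 * 7 ^ 3 := h
  rcases (Nat.Prime.dvd_mul hp).mp h' with h1 | h1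
  · rcases (Nat.Prime.dvd_mul hp).mp h1 with h2 | h2
    · left; exact (Nat.prime_dvd_prime_iff_eq hp Nat.prime_two).mp (hp.dvd_of_dvd_pow h2)
    · right; left; exact (Nat.prime_dvd_prime_iff_eq hp Nat.prime_three).mp h2
  · right; right; exact (Nat.prime_dvd_prime_iff_eq hp (by norm_num)).mp (hp.dvd_of_dvd_pow h1)

theorem hp1_2 : ∀ w ∈ FoxHeS0P2.data.paths, ∃ L ∈ relWords, w = pathOf lw L := by decide +kernel
theorem hp2_2 : ∀ L ∈ relWords, pathOf lw L ∈ FoxHeS0P2.data.paths := by decide +kernel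
theorem hp1_3 : ∀ w ∈ FoxHeS0P3.data.paths, ∃ L ∈ relWords, w = pathOf lw L := by decide +kernel
theorem hp2_3 : ∀ L ∈ relWords, pathOf lw L ∈ FoxHeS0P3.data.paths := by decide +kernel
theorem hp1_7 : ∀ w ∈ FoxHeS0P7.data.paths, ∃ L ∈ relWords, w = pathOf lw L := by decide +kernel
theorem hp2_7 : ∀ L ∈ relWords, pathOf lw L ∈ FoxHeS0P7.data.paths := by decide +kernel

/-- every finite stem extension of the presented Held group is an isomorphism -/
theorem trivMult : TrivMult He := by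
  apply trivMult_of_exp
  intro p hp Γ _ _ σ hσ hexp
  obtain ⟨hidx, φ, hφ, f, hf, hfe, _⟩ := main
  obtain ⟨R⟩ := retraction_of_perfect σ hσ.1 hσ.2.1 H0 perfect_H0 trivMult_H0
  by_cases hdiv : p ∣ 4116
  · rcases prime_dvd_4116 hp hdiv with rfl | rfl | rfl
    · exact ker_eq_bot_of_fox_sub rels relWords lw gi link.hrels hlw hgi H0 table hT hlwk φ hφ f hf hfe
        FoxHeS0P2.data rfl hDd hp1_2 hp2_2 FoxHeS0P2Chk.hstatic FoxHeS0P2Chk.hcyc σ hσ hexp R
    · exact ker_eq_bot_of_fox_sub rels relWords lw gi link.hrels hlw hgi H0 table hT hlwk φ hφ f hf hfe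
        FoxHeS0P3.data rfl hDd hp1_3 hp2_3 FoxHeS0P3Chk.hstatic FoxHeS0P3Chk.hcyc σ hσ hexp R
    · exact ker_eq_bot_of_fox_sub rels relWords lw gi link.hrels hlw hgi H0 table hT hlwk φ hφ f hf hfe
        FoxHeS0P7.data rfl hDd hp1_7 hp2_7 FoxHeS0P7Chk.hstatic FoxHeS0P7Chk.hcyc σ hσ hexp R
  · have hi : (H0.comap σ).index = 4116 := by
      rw [Subgroup.index_comap_of_surjective H0 hσ.1]; exact index_H0
    have : (H0.comap σ).FiniteIndex := ⟨by rw [hi]; norm_num⟩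
    refine ker_eq_bot_of_transfer σ hσ p hexp (H0.comap σ) ?_ R.comm_inter
    rw [hi]
    exact ((Nat.Prime.coprime_iff_not_dvd hp).mpr hdiv).symm

/-- the Schur multiplier of the Held group is trivial -/
theorem schur_He : Cfsg.HasCyclicSchurMultiplier Cfsg.Spor.He 1 :=
  hasCyclic_of_trivMult (G := He) trivMult

end Cfsg.Agent.Lib.Helper28.SchurHe
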