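import Cfsg.Agent.Lib.Helper28.TC2Upper
import Cfsg.Agent.Lib.Helper28.TCHeS0DataC0
set_option autoImplicit false
set_option maxRecDepth 100000

namespace Cfsg.Agent.Lib.Helper28.TCHeS0Data
open Cfsg.Agent.Lib.Helper28.TC2Upper

/-- relators -/
def relT : BT (ℕ × List ℕ × List ℕ) := (BT.node 26 (BT.node 13 (BT.node 6 (BT.node 3 (BT.node 1 (BT.node 0 (BT.leaf (2, [0, 0], [1, 1])) (BT.leaf (8, [2, 0, 2, 0, 2, 0, 2, 0], [1, 3, 1, 3, 1, 3, 1, 3]))) (BT.node 2 (BT.leaf (4, [4, 0, 4, 0], [1, 5, 1, 5])) (BT.leaf (4, [6, 0, 6, 0], [1, 7, 1, 7])))) (BT.node 5 (BT.node 4 (BT.leaf (4, [10, 0, 10, 0], [1, 11, 1, 11])) (BT.leaf (4, [12, 0, 12, 0], [1, 13, 1, 13]))) (BT.leaf (4, [8, 0, 8, 0], [1, 9, 1, 9])))) (BT.node 10 (BT.node 8 (BT.node 7 (BT.leaf (8, [0, 2, 0, 2, 0, 2, 0, 2], [3, 1, 3, 1, 3, 1, 3, 1])) (BT.leaf (2, [2, 2], [3,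 3]))) (BT.node 9 (BT.leaf (6, [4, 2, 4, 2, 4, 2], [3, 5, 3, 5, 3, 5])) (BT.leaf (4, [6, 2, 6, 2], [3, 7, 3, 7])))) (BT.node 12 (BT.node 11 (BT.leaf (4, [10, 2, 10, 2], [3, 11, 3, 11])) (BT.leaf (4, [12, 2, 12, 2], [3, 13, 3, 13]))) (BT.leaf (4, [8, 2, 8, 2], [3, 9, 3, 9]))))) (BT.node 20 (BT.node 17 (BT.node 15 (BT.node 14 (BT.leaf (4, [0, 4, 0, 4], [5, 1, 5, 1])) (BT.leaf (6, [2, 4, 2, 4, 2, 4], [5, 3, 5, 3, 5, 3]))) (BT.node 16 (BT.leaf (2, [4, 4], [5, 5])) (BT.leaf (20, [6, 4, 6, 4, 6, 4, 6, 4, 6, 4, 6, 4, 6, 4, 6, 4, 6, 4, 6, 4], [5, 7, 5, 7, 5, 7, 5, 7, 5, 7, 5, 7, 5, 7, 5, 7, 5, 7, 5, 7])))) (BT.node 19 (BT.node 18 (BT.leaf (4, [10, 4, 10, 4], [5, 11, 5, 11])) (BT.leaf (4, [12, 4, 12, 4], [5, 13, 5, 13]))) (BT.leaf (4, [8, 4, 8, 4], [5, 9, 5, 9])))) (BT.node 23 (BT.node 22 (BT.node 21 (BT.leaf (4, [0, 6, 0, 6],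 [7, 1, 7, 1])) (BT.leaf (4, [2, 6, 2, 6], [7, 3, 7, 3]))) (BT.leaf (20, [4, 6, 4, 6, 4, 6, 4, 6, 4, 6, 4, 6, 4, 6, 4, 6, 4, 6, 4, 6], [7, 5, 7, 5, 7, 5, 7, 5, 7, 5, 7, 5, 7, 5, 7, 5, 7, 5, 7, 5]))) (BT.node 25 (BT.node 24 (BT.leaf (2, [6, 6], [7, 7])) (BT.leaf (6, [10, 6, 10, 6, 10, 6], [7, 11, 7, 11, 7, 11]))) (BT.leaf (6, [12, 6, 12, 6, 12, 6], [7, 13, 7, 13, 7, 13])))))) (BT.node 39 (BT.node 33 (BT.node 30 (BT.node 28 (BT.node 27 (BT.leaf (6, [8, 6, 8, 6, 8, 6], [7, 9, 7, 9, 7, 9])) (BT.leaf (4, [0, 10, 0, 10], [11, 1, 11, 1]))) (BT.node 29 (BT.leaf (4, [2, 10, 2, 10], [11, 3, 11, 3])) (BT.leaf (4, [4, 10, 4, 10], [11, 5, 11, 5])))) (BT.node 32 (BT.node 31 (BT.leaf (6, [6, 10, 6, 10, 6, 10], [11, 7, 11, 7, 11, 7])) (BT.leaf (2, [10, 10], [11, 11]))) (BT.leaf (8, [12, 10, 12, 10, 12, 10, 12, 10], [11, 13, 11, 13,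 11, 13, 11, 13])))) (BT.node 36 (BT.node 35 (BT.node 34 (BT.leaf (4, [8, 10, 8, 10], [11, 9, 11, 9])) (BT.leaf (4, [0, 12, 0, 12], [13, 1, 13, 1]))) (BT.leaf (4, [2, 12, 2, 12], [13, 3, 13, 3]))) (BT.node 38 (BT.node 37 (BT.leaf (4, [4, 12, 4, 12], [13, 5, 13, 5])) (BT.leaf (6, [6, 12, 6, 12, 6, 12], [13, 7, 13, 7, 13, 7]))) (BT.leaf (8, [10, 12, 10, 12, 10, 12, 10, 12], [13, 11, 13, 11, 13, 11, 13, 11]))))) (BT.node 46 (BT.node 43 (BT.node 41 (BT.node 40 (BT.leaf (2, [12, 12], [13, 13])) (BT.leaf (4, [8, 12, 8, 12], [13, 9, 13, 9]))) (BT.node 42 (BT.leaf (4, [0, 8, 0, 8], [9, 1, 9, 1])) (BT.leaf (4, [2, 8, 2, 8], [9, 3, 9, 3])))) (BT.node 45 (BT.node 44 (BT.leaf (4, [4, 8, 4, 8], [9, 5, 9, 5])) (BT.leaf (6, [6, 8, 6, 8, 6, 8], [9, 7, 9, 7, 9, 7]))) (BT.leaf (4, [10, 8, 10, 8], [9, 11, 9, 11])))) (BT.node 49 (BT.node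 48 (BT.node 47 (BT.leaf (4, [12, 8, 12, 8], [9, 13, 9, 13])) (BT.leaf (2, [8, 8], [9, 9]))) (BT.leaf (5, [11, 13, 11, 13, 8], [9, 12, 10, 12, 10]))) (BT.node 51 (BT.node 50 (BT.leaf (10, [1, 3, 5, 1, 3, 5, 1, 3, 5, 8], [9, 4, 2, 0, 4, 2, 0, 4, 2, 0])) (BT.leaf (11, [5, 7, 5, 7, 5, 7, 5, 7, 5, 7, 0], [1, 6, 4, 6, 4, 6, 4, 6, 4, 6, 4]))) (BT.leaf (16, [12, 10, 6, 4, 12, 10, 6, 4, 12, 10, 6, 4, 12, 10, 6, 4], [5, 7, 11, 13, 5, 7, 11, 13, 5, 7, 11, 13, 5, 7, 11, 13])))))))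
/-- subgroup generators -/
def subT : BT (ℕ × List ℕ × List ℕ) := (BT.node 1 (BT.node 0 (BT.leaf (1, [8], [9])) (BT.leaf (11, [12, 2, 4, 6, 4, 2, 12, 10, 8, 6, 4], [5, 7, 9, 11, 13, 3, 5, 7, 5, 3, 13]))) (BT.leaf (1, [10], [11])))
/-- fact chunks -/
def colET : BT ℕ := (BT.node 67 (BT.node 33 (BT.node 16 (BT.node 8 (BT.node 4 (BT.node 2 (BT.node 1 (BT.node 0 (BT.leaf cE0) (BT.leaf cE1)) (BT.leaf cE2)) (BT.node 3 (BT.leaf cE3) (BT.leaf cE4))) (BT.node 6 (BT.node 5 (BT.leaf cE5) (BT.leaf cE6)) (BT.node 7 (BT.leaf cE7) (BT.leaf cE8)))) (BT.node 12 (BT.node 10 (BT.node 9 (BT.leaf cE9) (BT.leaf cE10)) (BT.node 11 (BT.leaf cE11) (BT.leaf cE12))) (BT.node 14 (BT.node 13 (BT.leaf cE13) (BT.leaf cE14)) (BT.node 15 (BT.leaf cE15) (BT.leaf cE16))))) (BT.node 25 (BT.node 21 (BT.node 19 (BT.node 18 (BT.node 17 (BT.leaf cE17) (BT.leaf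 cE18)) (BT.leaf cE19)) (BT.node 20 (BT.leaf cE20) (BT.leaf cE21))) (BT.node 23 (BT.node 22 (BT.leaf cE22) (BT.leaf cE23)) (BT.node 24 (BT.leaf cE24) (BT.leaf cE25)))) (BT.node 29 (BT.node 27 (BT.node 26 (BT.leaf cE26) (BT.leaf cE27)) (BT.node 28 (BT.leaf cE28) (BT.leaf cE29))) (BT.node 31 (BT.node 30 (BT.leaf cE30) (BT.leaf cE31)) (BT.node 32 (BT.leaf cE32) (BT.leaf cE33)))))) (BT.node 50 (BT.node 42 (BT.node 38 (BT.node 36 (BT.node 35 (BT.node 34 (BT.leaf cE34) (BT.leaf cE35)) (BT.leaf cE36)) (BT.node 37 (BT.leaf cE37) (BT.leaf cE38))) (BT.node 40 (BT.node 39 (BT.leaf cE39) (BT.leaf cE40)) (BT.node 41 (BT.leaf cE41) (BT.leaf cE42)))) (BT.node 46 (BT.node 44 (BT.node 43 (BT.leaf cE43) (BT.leaf cE44)) (BT.node 45 (BT.leaf cE45) (BT.leaf cE46))) (BT.node 48 (BT.node 47 (BT.leaf cE47) (BT.leaf cE48)) (BT.node 49 (BT.leaf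 cE49) (BT.leaf cE50))))) (BT.node 59 (BT.node 55 (BT.node 53 (BT.node 52 (BT.node 51 (BT.leaf cE51) (BT.leaf cE52)) (BT.leaf cE53)) (BT.node 54 (BT.leaf cE54) (BT.leaf cE55))) (BT.node 57 (BT.node 56 (BT.leaf cE56) (BT.leaf cE57)) (BT.node 58 (BT.leaf cE58) (BT.leaf cE59)))) (BT.node 63 (BT.node 61 (BT.node 60 (BT.leaf cE60) (BT.leaf cE61)) (BT.node 62 (BT.leaf cE62) (BT.leaf cE63))) (BT.node 65 (BT.node 64 (BT.leaf cE64) (BT.leaf cE65)) (BT.node 66 (BT.leaf cE66) (BT.leaf cE67))))))) (BT.node 101 (BT.node 84 (BT.node 76 (BT.node 72 (BT.node 70 (BT.node 69 (BT.node 68 (BT.leaf cE68) (BT.leaf cE69)) (BT.leaf cE70)) (BT.node 71 (BT.leaf cE71) (BT.leaf cE72))) (BT.node 74 (BT.node 73 (BT.leaf cE73) (BT.leaf cE74)) (BT.node 75 (BT.leaf cE75) (BT.leaf cE76)))) (BT.node 80 (BT.node 78 (BT.node 77 (BT.leaf cE77) (BT.leaf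 cE78)) (BT.node 79 (BT.leaf cE79) (BT.leaf cE80))) (BT.node 82 (BT.node 81 (BT.leaf cE81) (BT.leaf cE82)) (BT.node 83 (BT.leaf cE83) (BT.leaf cE84))))) (BT.node 93 (BT.node 89 (BT.node 87 (BT.node 86 (BT.node 85 (BT.leaf cE85) (BT.leaf cE86)) (BT.leaf cE87)) (BT.node 88 (BT.leaf cE88) (BT.leaf cE89))) (BT.node 91 (BT.node 90 (BT.leaf cE90) (BT.leaf cE91)) (BT.node 92 (BT.leaf cE92) (BT.leaf cE93)))) (BT.node 97 (BT.node 95 (BT.node 94 (BT.leaf cE94) (BT.leaf cE95)) (BT.node 96 (BT.leaf cE96) (BT.leaf cE97))) (BT.node 99 (BT.node 98 (BT.leaf cE98) (BT.leaf cE99)) (BT.node 100 (BT.leaf cE100) (BT.leaf cE101)))))) (BT.node 118 (BT.node 110 (BT.node 106 (BT.node 104 (BT.node 103 (BT.node 102 (BT.leaf cE102) (BT.leaf cE103)) (BT.leaf cE104)) (BT.node 105 (BT.leaf cE105) (BT.leaf cE106))) (BT.node 108 (BT.node 107 (BT.leaf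 cE107) (BT.leaf cE108)) (BT.node 109 (BT.leaf cE109) (BT.leaf cE110)))) (BT.node 114 (BT.node 112 (BT.node 111 (BT.leaf cE111) (BT.leaf cE112)) (BT.node 113 (BT.leaf cE113) (BT.leaf cE114))) (BT.node 116 (BT.node 115 (BT.leaf cE115) (BT.leaf cE116)) (BT.node 117 (BT.leaf cE117) (BT.leaf cE118))))) (BT.node 126 (BT.node 122 (BT.node 120 (BT.node 119 (BT.leaf cE119) (BT.leaf cE120)) (BT.node 121 (BT.leaf cE121) (BT.leaf cE122))) (BT.node 124 (BT.node 123 (BT.leaf cE123) (BT.leaf cE124)) (BT.node 125 (BT.leaf cE125) (BT.leaf cE126)))) (BT.node 130 (BT.node 128 (BT.node 127 (BT.leaf cE127) (BT.leaf cE128)) (BT.node 129 (BT.leaf cE129) (BT.leaf cE130))) (BT.node 132 (BT.node 131 (BT.leaf cE131) (BT.leaf cE132)) (BT.node 133 (BT.leaf cE133) (BT.leaf cE134))))))))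
/-- justification chunks -/
def colJT : BT ℕ := (BT.node 67 (BT.node 33 (BT.node 16 (BT.node 8 (BT.node 4 (BT.node 2 (BT.node 1 (BT.node 0 (BT.leaf cJ0) (BT.leaf cJ1)) (BT.leaf cJ2)) (BT.node 3 (BT.leaf cJ3) (BT.leaf cJ4))) (BT.node 6 (BT.node 5 (BT.leaf cJ5) (BT.leaf cJ6)) (BT.node 7 (BT.leaf cJ7) (BT.leaf cJ8)))) (BT.node 12 (BT.node 10 (BT.node 9 (BT.leaf cJ9) (BT.leaf cJ10)) (BT.node 11 (BT.leaf cJ11) (BT.leaf cJ12))) (BT.node 14 (BT.node 13 (BT.leaf cJ13) (BT.leaf cJ14)) (BT.node 15 (BT.leaf cJ15) (BT.leaf cJ16))))) (BT.node 25 (BT.node 21 (BT.node 19 (BT.node 18 (BT.node 17 (BT.leaf cJ17) (BT.leaf cJ18)) (BT.leaf cJ19)) (BT.node 20 (BT.leaf cJ20) (BT.leaf cJ21))) (BT.node 23 (BT.node 22 (BT.leaf cJ22) (BT.leaf cJ23)) (BT.node 24 (BT.leaf cJ24) (BT.leaf cJ25)))) (BT.node 29 (BT.node 27 (BT.node 26 (BT.leaf cJ26)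 (BT.leaf cJ27)) (BT.node 28 (BT.leaf cJ28) (BT.leaf cJ29))) (BT.node 31 (BT.node 30 (BT.leaf cJ30) (BT.leaf cJ31)) (BT.node 32 (BT.leaf cJ32) (BT.leaf cJ33)))))) (BT.node 50 (BT.node 42 (BT.node 38 (BT.node 36 (BT.node 35 (BT.node 34 (BT.leaf cJ34) (BT.leaf cJ35)) (BT.leaf cJ36)) (BT.node 37 (BT.leaf cJ37) (BT.leaf cJ38))) (BT.node 40 (BT.node 39 (BT.leaf cJ39) (BT.leaf cJ40)) (BT.node 41 (BT.leaf cJ41) (BT.leaf cJ42)))) (BT.node 46 (BT.node 44 (BT.node 43 (BT.leaf cJ43) (BT.leaf cJ44)) (BT.node 45 (BT.leaf cJ45) (BT.leaf cJ46))) (BT.node 48 (BT.node 47 (BT.leaf cJ47) (BT.leaf cJ48)) (BT.node 49 (BT.leaf cJ49) (BT.leaf cJ50))))) (BT.node 59 (BT.node 55 (BT.node 53 (BT.node 52 (BT.node 51 (BT.leaf cJ51) (BT.leaf cJ52)) (BT.leaf cJ53)) (BT.node 54 (BT.leaf cJ54) (BT.leaf cJ55))) (BT.node 57 (BT.node 56 (BT.leaf cJ56)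 (BT.leaf cJ57)) (BT.node 58 (BT.leaf cJ58) (BT.leaf cJ59)))) (BT.node 63 (BT.node 61 (BT.node 60 (BT.leaf cJ60) (BT.leaf cJ61)) (BT.node 62 (BT.leaf cJ62) (BT.leaf cJ63))) (BT.node 65 (BT.node 64 (BT.leaf cJ64) (BT.leaf cJ65)) (BT.node 66 (BT.leaf cJ66) (BT.leaf cJ67))))))) (BT.node 101 (BT.node 84 (BT.node 76 (BT.node 72 (BT.node 70 (BT.node 69 (BT.node 68 (BT.leaf cJ68) (BT.leaf cJ69)) (BT.leaf cJ70)) (BT.node 71 (BT.leaf cJ71) (BT.leaf cJ72))) (BT.node 74 (BT.node 73 (BT.leaf cJ73) (BT.leaf cJ74)) (BT.node 75 (BT.leaf cJ75) (BT.leaf cJ76)))) (BT.node 80 (BT.node 78 (BT.node 77 (BT.leaf cJ77) (BT.leaf cJ78)) (BT.node 79 (BT.leaf cJ79) (BT.leaf cJ80))) (BT.node 82 (BT.node 81 (BT.leaf cJ81) (BT.leaf cJ82)) (BT.node 83 (BT.leaf cJ83) (BT.leaf cJ84))))) (BT.node 93 (BT.node 89 (BT.node 87 (BT.node 86 (BT.node 85 (BT.leaf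 cJ85) (BT.leaf cJ86)) (BT.leaf cJ87)) (BT.node 88 (BT.leaf cJ88) (BT.leaf cJ89))) (BT.node 91 (BT.node 90 (BT.leaf cJ90) (BT.leaf cJ91)) (BT.node 92 (BT.leaf cJ92) (BT.leaf cJ93)))) (BT.node 97 (BT.node 95 (BT.node 94 (BT.leaf cJ94) (BT.leaf cJ95)) (BT.node 96 (BT.leaf cJ96) (BT.leaf cJ97))) (BT.node 99 (BT.node 98 (BT.leaf cJ98) (BT.leaf cJ99)) (BT.node 100 (BT.leaf cJ100) (BT.leaf cJ101)))))) (BT.node 118 (BT.node 110 (BT.node 106 (BT.node 104 (BT.node 103 (BT.node 102 (BT.leaf cJ102) (BT.leaf cJ103)) (BT.leaf cJ104)) (BT.node 105 (BT.leaf cJ105) (BT.leaf cJ106))) (BT.node 108 (BT.node 107 (BT.leaf cJ107) (BT.leaf cJ108)) (BT.node 109 (BT.leaf cJ109) (BT.leaf cJ110)))) (BT.node 114 (BT.node 112 (BT.node 111 (BT.leaf cJ111) (BT.leaf cJ112)) (BT.node 113 (BT.leaf cJ113) (BT.leaf cJ114))) (BT.node 116 (BT.node 115 (BT.leaf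 cJ115) (BT.leaf cJ116)) (BT.node 117 (BT.leaf cJ117) (BT.leaf cJ118))))) (BT.node 126 (BT.node 122 (BT.node 120 (BT.node 119 (BT.leaf cJ119) (BT.leaf cJ120)) (BT.node 121 (BT.leaf cJ121) (BT.leaf cJ122))) (BT.node 124 (BT.node 123 (BT.leaf cJ123) (BT.leaf cJ124)) (BT.node 125 (BT.leaf cJ125) (BT.leaf cJ126)))) (BT.node 130 (BT.node 128 (BT.node 127 (BT.leaf cJ127) (BT.leaf cJ128)) (BT.node 129 (BT.leaf cJ129) (BT.leaf cJ130))) (BT.node 132 (BT.node 131 (BT.leaf cJ131) (BT.leaf cJ132)) (BT.node 133 (BT.leaf cJ133) (BT.leaf cJ134))))))))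
/-- parent chunks -/
def parCT : BT ℕ := (BT.node 4 (BT.node 2 (BT.node 1 (BT.node 0 (BT.leaf cP0) (BT.leaf cP1)) (BT.leaf cP2)) (BT.node 3 (BT.leaf cP3) (BT.leaf cP4))) (BT.node 6 (BT.node 5 (BT.leaf cP5) (BT.leaf cP6)) (BT.node 7 (BT.leaf cP7) (BT.leaf cP8))))
/-- the certificate -/
def data : Data where
  k := 14
  N := 4359
  W := 29
  MW := 536870912
  B := 8192
  CH := 512
  NCH := 9
  colE := colET
  JW := 64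
  MJ := 18446744073709551616
  A := 1048576
  colJ := colJT
  PW := 22
  MP := 4194304
  parC := parCT
  inv := (BT.node 7 (BT.node 3 (BT.node 1 (BT.node 0 (BT.leaf 1) (BT.leaf 0)) (BT.node 2 (BT.leaf 3) (BT.leaf 2))) (BT.node 5 (BT.node 4 (BT.leaf 5) (BT.leaf 4)) (BT.node 6 (BT.leaf 7) (BT.leaf 6)))) (BT.node 11 (BT.node 9 (BT.node 8 (BT.leaf 9) (BT.leaf 8)) (BT.node 10 (BT.leaf 11) (BT.leaf 10))) (BT.node 13 (BT.node 12 (BT.leaf 13) (BT.leaf 12)) (BT.leaf 14))))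
  rel := relT
  sub := subT
  fuel := 64

end Cfsg.Agent.Lib.Helper28.TCHeS0Data
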