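import Cfsg.Agent.Lib.Helper28.SchurSp44
import Cfsg.Agent.Lib.Helper28.TCHeS0Main
import Cfsg.Agent.Lib.Helper28.TC2Bsgs
import Cfsg.Agent.Lib.Helper28.TC2Simple
import Cfsg.Agent.Lib.Helper3.TCX.HeTower
import Cfsg.Agent.Lib.Helper3.TCX.HeBMain
import Cfsg.Agent.Lib.Helper3.TCX.HeBSMain

set_option autoImplicit false
set_option maxRecDepth 100000

/-!
# The group `Sp₄(4)` inside the presented Held group

The presented group `PS = ⟨x, y, z | …⟩` maps onto the subgroup of the presented Held group generated by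
`e`, `c d e f g b c d c b g` and `f`; this subgroup has index 4116, and the map is an isomorphism.  The
relators are checked in the faithful permutation representation on 2058 points (of helper3).
-/

namespace Cfsg.Agent.Lib.Helper28.SchurHeConc

open Cfsg.Agent.Lib.Helper28.TC2Upper Cfsg.Agent.Lib.Helper28.TC2Lower Cfsg.Agent.Lib.Helper28.TC2Glue
open Cfsg.Agent.Lib.Helper28.TC2Bsgs Cfsg.Agent.Lib.Helper28.TC2Simple Cfsg.Agent.Lib.Helper28.TC2Tower
open Cfsg.Agent.Lib.Helper28.SchurSp44 (PS)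

/-- the relators of the Held group -/
abbrev relsHe : Set (FreeGroup Cfsg.Spor.He.Gen) := Cfsg.Agent.Lib.Helper28.TCHeS0Link.rels

/-- the presented Held group -/
abbrev He : Type := PresentedGroup relsHe

/-- the subgroup of index 4116 -/
abbrev H0 : Subgroup He :=
  (Subgroup.closure Cfsg.Agent.Lib.Helper28.TCHeS0Link.S).map (PresentedGroup.mk relsHe)

section Subst
variable {α β : Type*}

/-- substitution of words for the letters -/
def expandW (w : α → List (β × Bool)) (L : List (α × Bool)) : List (β × Bool) :=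
  L.flatMap fun xb => cond xb.2 (w xb.1) (FreeGroup.invRev (w xb.1))

theorem lift_mk_expandW (rels' : Set (FreeGroup β)) (w : α → List (β × Bool)) (L : List (α × Bool)) :
    FreeGroup.lift (fun x => PresentedGroup.mk rels' (FreeGroup.mk (w x))) (FreeGroup.mk L) =
      PresentedGroup.mk rels' (FreeGroup.mk (expandW w L)) := by
  induction L with
  | nil =>
    have e : (FreeGroup.mk [] : FreeGroup β) = 1 := rfl
    have e' : (FreeGroup.mk [] : FreeGroup α) = 1 := rfl
    show FreeGroup.lift _ (FreeGroup.mk []) = PresentedGroup.mk rels' (FreeGroup.mk [])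
    rw [e, e', map_one, map_one]
  | cons xb L ih =>
    have e1 : FreeGroup.mk (xb :: L) = FreeGroup.mk [xb] * FreeGroup.mk L := by
      rw [FreeGroup.mul_mk]; rfl
    have e2 : expandW w (xb :: L) = cond xb.2 (w xb.1) (FreeGroup.invRev (w xb.1)) ++ expandW w L := by
      simp [expandW]
    rw [e1, map_mul, ih, e2, ← FreeGroup.mul_mk, map_mul]
    congr 1
    obtain ⟨x, b⟩ := xb
    cases b
    · have : FreeGroup.mk [(x, false)] = (FreeGroup.of x)⁻¹ := rfl
      rw [this, map_inv, FreeGroup.lift_apply_of]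
      simp only [cond_false]
      rw [← FreeGroup.inv_mk, map_inv]
    · have : FreeGroup.mk [(x, true)] = FreeGroup.of x := rfl
      rw [this, FreeGroup.lift_apply_of]
      simp only [cond_true]

end Subst

/-- the images of the generators of `PS`, as words -/
def imgW : Cfsg.Agent.Lib.Helper28.TCHeS1Def.Gen → List (Cfsg.Spor.He.Gen × Bool)
  | .x => [(.e, true)]
  | .y => [(.c, true), (.d, true), (.e, true), (.f, true), (.g, true), (.b, true), (.c, true), (.d, true),
      (.c, true), (.b, true), (.g, true)]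
  | .z => [(.f, true)]

/-- the images of the generators -/
def imgs (g : Cfsg.Agent.Lib.Helper28.TCHeS1Def.Gen) : He :=
  PresentedGroup.mk relsHe (FreeGroup.mk (imgW g))

/-- the relators of `PS` hold on the 2058 points -/
theorem relchk : Cfsg.Agent.Lib.Helper3.TCX.HeBTable.table.relOK
    (Cfsg.Agent.Lib.Helper28.TCHeS1Link.relWords.map
      (fun L => pathOf Cfsg.Agent.Lib.Helper3.TCX.HeBLink.lw (expandW imgW L))) 0 2058 = true := by
  decide +kernel

/-- the faithful permutation representation on 2058 points, and the order of the group -/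
theorem faithful : ∃ φ : He →* Equiv.Perm (Fin Cfsg.Agent.Lib.Helper3.TCX.HeBTable.table.n),
    Function.Injective φ ∧
    (∀ x, φ (PresentedGroup.of x) = Table.sigma Cfsg.Agent.Lib.Helper3.TCX.HeBMain.hT
      (Cfsg.Agent.Lib.Helper3.TCX.HeBLink.lw (x, true))) ∧
    Finite He ∧ Nat.card He = 4030387200 := by
  obtain ⟨φ0, hφ, f, hsurj, hequiv, h0⟩ := Cfsg.Agent.Lib.Helper3.TCX.HeBMain.main
  let φ : He →* Equiv.Perm (Fin Cfsg.Agent.Lib.Helper3.TCX.HeBTable.table.n) := φ0
  obtain ⟨hfin, hle⟩ := Cfsg.Agent.Lib.Helper3.TCX.HeTower.card0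
  have : Finite He := hfin
  have hlow : 4030387200 ≤ Nat.card φ.range :=
    le_trans Cfsg.Agent.Lib.Helper3.TCX.HeBSMain.card_base
      (card_baseGroup_le Cfsg.Agent.Lib.Helper3.TCX.HeBMain.hT Cfsg.Agent.Lib.Helper3.TCX.HeBSMain.hTB rfl
        (by decide) Cfsg.Agent.Lib.Helper3.TCX.HeBSMain.hagree φ.range
        (sigma_mem_range Cfsg.Agent.Lib.Helper3.TCX.HeBLink.link Cfsg.Agent.Lib.Helper3.TCX.HeBMain.hT φ hφ))
  obtain ⟨hinj, hcard⟩ := injective_of_card_le φ hle hlow
  exact ⟨φ, hinj, hφ, hfin, hcard⟩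

instance finite_He : Finite He := faithful.choose_spec.2.2.1

theorem card_He : Nat.card He = 4030387200 := faithful.choose_spec.2.2.2

theorem hψrel : ∀ r ∈ Cfsg.Agent.Lib.Helper28.TCHeS1Link.rels, FreeGroup.lift imgs r = 1 := by
  intro r hr
  obtain ⟨φ, hinj, hφ, -, -⟩ := faithful
  obtain ⟨L, hL, rfl⟩ := (Cfsg.Agent.Lib.Helper28.TCHeS1Link.link.hrels r).mp hr
  show FreeGroup.lift (fun g => PresentedGroup.mk relsHe (FreeGroup.mk (imgW g))) (FreeGroup.mk L) = 1
  rw [lift_mk_expandW]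
  apply hinj
  rw [map_one]
  apply phi_mk_eq_one Cfsg.Agent.Lib.Helper3.TCX.HeBLink.link Cfsg.Agent.Lib.Helper3.TCX.HeBMain.hT φ hφ
  intro p hp
  have hp' : p < 2058 := hp
  exact (Table.relOK_iff _ 0 2058).mp relchk p (Nat.zero_le _) (by omega) _
    (List.mem_map_of_mem (f := fun L => pathOf Cfsg.Agent.Lib.Helper3.TCX.HeBLink.lw (expandW imgW L)) hL)

/-- the map from the presented group `PS` -/
noncomputable def ψ : PS →* He := PresentedGroup.toGroup hψrel

theorem ψ_of (g : Cfsg.Agent.Lib.Helper28.TCHeS1Def.Gen) : ψ (PresentedGroup.of g) = imgs g :=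
  PresentedGroup.toGroup.of hψrel

theorem range_ψ : ψ.range = H0 := by
  rw [MonoidHom.range_eq_map, ← PresentedGroup.closure_range_of, MonoidHom.map_closure, ← Set.range_comp]
  show _ = (Subgroup.closure Cfsg.Agent.Lib.Helper28.TCHeS0Link.S).map _
  rw [MonoidHom.map_closure]
  congr 1
  ext w
  constructor
  · rintro ⟨g, rfl⟩
    cases g
    · exact ⟨FreeGroup.mk (imgW .x), Or.inl rfl, (ψ_of .x).symm⟩
    · exact ⟨FreeGroup.mk (imgW .y), Or.inr (Or.inl rfl), (ψ_of .y).symm⟩
    · exact ⟨FreeGroup.mk (imgW .z), Or.inr (Or.inr rfl), (ψ_of .z).symm⟩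
  · rintro ⟨v, hv, rfl⟩
    rcases hv with rfl | rfl | rfl
    · exact ⟨.x, ψ_of .x⟩
    · exact ⟨.y, ψ_of .y⟩
    · exact ⟨.z, ψ_of .z⟩

theorem index_H0 : H0.index = 4116 := Cfsg.Agent.Lib.Helper28.TCHeS0Main.main.1

theorem card_H0 : Nat.card H0 = 979200 := by
  have h := H0.index_mul_card
  rw [index_H0, card_He] at h
  omega

theorem card_PS : Nat.card PS = 979200 := by
  apply le_antisymm Cfsg.Agent.Lib.Helper28.SchurSp44.card_le
  rw [← card_H0, ← range_ψ]
  exact Nat.card_le_card_of_surjective ψ.rangeRestrict ψ.rangeRestrict_surjective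

/-- the subgroup is the presented group `PS` -/
noncomputable def eS : PS ≃* ↥H0 := by
  have hr : ∀ g, ψ g ∈ H0 := fun g => by rw [← range_ψ]; exact ⟨g, rfl⟩
  let ψ' : PS →* ↥H0 := ψ.codRestrict H0 hr
  have hs : Function.Surjective ψ' := by
    rintro ⟨v, hv⟩
    rw [← range_ψ] at hv
    obtain ⟨g, rfl⟩ := hv
    exact ⟨g, rfl⟩
  exact MulEquiv.ofBijective ψ' (hs.bijective_of_nat_card_le (by
    rw [card_H0, card_PS]))

theorem trivMult_H0 : Cfsg.Agent.Lib.Helper28.SchurFox.TrivMult ↥H0 :=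
  (Cfsg.Agent.Lib.Helper28.SchurSp44.trivMult card_PS).congr eS

theorem perfect_H0 : ⁅H0, H0⁆ = H0 := by
  have h1 : H0 = (⊤ : Subgroup PS).map ψ := by rw [← MonoidHom.range_eq_map, range_ψ]
  rw [h1, ← Subgroup.map_commutator, ← commutator_def, Cfsg.Agent.Lib.Helper28.SchurSp44.perfect]

end Cfsg.Agent.Lib.Helper28.SchurHeConc
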