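import Cfsg.Agent.Lib.Helper28.TC2Upper
import Cfsg.Agent.Lib.Helper28.TCHeS2DataC0
set_option autoImplicit false
set_option maxRecDepth 100000

namespace Cfsg.Agent.Lib.Helper28.TCHeS2Data
open Cfsg.Agent.Lib.Helper28.TC2Upper

/-- relators -/
def relT : BT (ℕ × List ℕ × List ℕ) := (BT.node 1 (BT.node 0 (BT.leaf (2, [0, 0], [1, 1])) (BT.leaf (17, [2, 2, 2, 2, 2, 2, 2, 2, 2, 2, 2, 2, 2, 2, 2, 2, 2], [3, 3, 3, 3, 3, 3, 3, 3, 3, 3, 3, 3, 3, 3, 3, 3, 3]))) (BT.node 2 (BT.leaf (10, [0, 2, 0, 3, 3, 0, 2, 0, 3, 3], [2, 2, 1, 3, 1, 2, 2, 1, 3, 1])) (BT.leaf (18, [0, 3, 3, 3, 3, 3, 0, 3, 3, 3, 3, 3, 0, 3, 3, 3, 3, 3], [2, 2, 2, 2, 2, 1, 2, 2, 2, 2, 2, 1, 2, 2, 2, 2, 2, 1]))))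
/-- subgroup generators -/
def subT : BT (ℕ × List ℕ × List ℕ) := (BT.leaf (1, [2], [3]))
/-- fact chunks -/
def colET : BT ℕ := (BT.node 4 (BT.node 2 (BT.node 1 (BT.node 0 (BT.leaf cE0) (BT.leaf cE1)) (BT.leaf cE2)) (BT.node 3 (BT.leaf cE3) (BT.leaf cE4))) (BT.node 7 (BT.node 6 (BT.node 5 (BT.leaf cE5) (BT.leaf cE6)) (BT.leaf cE7)) (BT.node 8 (BT.leaf cE8) (BT.leaf cE9))))
/-- justification chunks -/
def colJT : BT ℕ := (BT.node 4 (BT.node 2 (BT.node 1 (BT.node 0 (BT.leaf cJ0) (BT.leaf cJ1)) (BT.leaf cJ2)) (BT.node 3 (BT.leaf cJ3) (BT.leaf cJ4))) (BT.node 7 (BT.node 6 (BT.node 5 (BT.leaf cJ5) (BT.leaf cJ6)) (BT.leaf cJ7)) (BT.node 8 (BT.leaf cJ8) (BT.leaf cJ9))))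
/-- parent chunks -/
def parCT : BT ℕ := (BT.node 0 (BT.leaf cP0) (BT.leaf cP1))
/-- the certificate -/
def data : Data where
  k := 4
  N := 590
  W := 21
  MW := 2097152
  B := 1024
  CH := 512
  NCH := 2
  colE := colET
  JW := 64
  MJ := 18446744073709551616
  A := 1048576
  colJ := colJT
  PW := 19
  MP := 524288
  parC := parCT
  inv := (BT.node 2 (BT.node 1 (BT.node 0 (BT.leaf 1) (BT.leaf 0)) (BT.leaf 3)) (BT.node 3 (BT.leaf 2) (BT.leaf 4)))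
  rel := relT
  sub := subT
  fuel := 64

end Cfsg.Agent.Lib.Helper28.TCHeS2Data
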