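import Cfsg.Prelude.Def_SporCoxeter
import Cfsg.Agent.Lib.Helper28.TCHeS1Def
set_option autoImplicit false

namespace Cfsg.Agent.Lib.Helper28.TCHeS2Def

/-- the generators -/
inductive Gen
  | x
  | y
  deriving DecidableEq

/-- the generators as generators of the larger presentation -/
def up : Gen → Cfsg.Agent.Lib.Helper28.TCHeS1Def.Gen
  | .x => .x
  | .y => .y

/-- the Coxeter graph -/
def edges : List (Gen × ℕ × Gen) :=
  []

/-- the further relators -/
def extra : List (FreeGroup Gen) := [
  FreeGroup.mk [(.x, true), (.x, true)],
  FreeGroup.mk [(.y, true), (.y, true), (.y, true), (.y, true), (.y, true), (.y, true), (.y, true), (.y, true), (.y, true), (.y, true), (.y, true), (.y, true), (.y, true), (.y, true), (.y, true), (.y, true), (.y, true)],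
  FreeGroup.mk [(.y, false), (.y, false), (.x, true), (.y, true), (.x, true), (.y, false), (.y, false), (.x, true), (.y, true), (.x, true)],
  FreeGroup.mk [(.y, false), (.y, false), (.y, false), (.y, false), (.y, false), (.x, true), (.y, false), (.y, false), (.y, false), (.y, false), (.y, false), (.x, true), (.y, false), (.y, false), (.y, false), (.y, false), (.y, false), (.x, true)] ]

end Cfsg.Agent.Lib.Helper28.TCHeS2Def
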