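import Cfsg.Agent.Lib.Helper28.TC2Glue
import Cfsg.Agent.Lib.Helper28.TCHeS2Data
import Cfsg.Agent.Lib.Helper28.TCHeS2Table
import Cfsg.Agent.Lib.Helper28.TCHeS2Def
set_option autoImplicit false
set_option maxRecDepth 100000

namespace Cfsg.Agent.Lib.Helper28.TCHeS2Link
open Cfsg.Agent.Lib.Helper28.TC2Upper Cfsg.Agent.Lib.Helper28.TC2Lower Cfsg.Agent.Lib.Helper28.TC2Glue Cfsg.Agent.Lib.Helper28.TCHeS2Data Cfsg.Agent.Lib.Helper28.TCHeS2Table

/-- the further relators in list form -/
def extraWords : List (List (Cfsg.Agent.Lib.Helper28.TCHeS2Def.Gen × Bool)) := [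
  [(.x, true), (.x, true)],
  [(.y, true), (.y, true), (.y, true), (.y, true), (.y, true), (.y, true), (.y, true), (.y, true), (.y, true), (.y, true), (.y, true), (.y, true), (.y, true), (.y, true), (.y, true), (.y, true), (.y, true)],
  [(.y, false), (.y, false), (.x, true), (.y, true), (.x, true), (.y, false), (.y, false), (.x, true), (.y, true), (.x, true)],
  [(.y, false), (.y, false), (.y, false), (.y, false), (.y, false), (.x, true), (.y, false), (.y, false), (.y, false), (.y, false), (.y, false), (.x, true), (.y, false), (.y, false), (.y, false), (.y, false), (.y, false), (.x, true)] ]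

theorem hextra : Cfsg.Agent.Lib.Helper28.TCHeS2Def.extra = extraWords.map FreeGroup.mk := by
  rfl

/-- all relators in list form -/
def relWords : List (List (Cfsg.Agent.Lib.Helper28.TCHeS2Def.Gen × Bool)) := coxWords Cfsg.Agent.Lib.Helper28.TCHeS2Def.edges ++ extraWords

/-- the subgroup generators in list form -/
def subWords : List (List (Cfsg.Agent.Lib.Helper28.TCHeS2Def.Gen × Bool)) := [
  [(.y, true)] ]

/-- coding of the letters -/
def lw : Cfsg.Agent.Lib.Helper28.TCHeS2Def.Gen × Bool → ℕ
  | (.x, true) => 0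
  | (.x, false) => 1
  | (.y, true) => 2
  | (.y, false) => 3

/-- decoding of the letters -/
def dec : ℕ → Cfsg.Agent.Lib.Helper28.TCHeS2Def.Gen × Bool
  | 0 => (.x, true)
  | 1 => (.x, false)
  | 2 => (.y, true)
  | _ => (.y, false)

/-- the relators -/
abbrev rels : Set (FreeGroup Cfsg.Agent.Lib.Helper28.TCHeS2Def.Gen) := Cfsg.Spor.coxRelators Cfsg.Agent.Lib.Helper28.TCHeS2Def.edges ∪ {r | r ∈ Cfsg.Agent.Lib.Helper28.TCHeS2Def.extra}

/-- the subgroup generators -/
abbrev S : Set (FreeGroup Cfsg.Agent.Lib.Helper28.TCHeS2Def.Gen) := {FreeGroup.of Cfsg.Agent.Lib.Helper28.TCHeS2Def.Gen.y}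

theorem hS : ∀ s, s ∈ S ↔ ∃ L ∈ subWords, s = FreeGroup.mk L := by
  intro s
  simp only [S, subWords, Set.mem_insert_iff, Set.mem_singleton_iff, List.mem_cons, List.not_mem_nil,
    or_false, exists_eq_or_imp, exists_eq_left]
  rfl

theorem relD_ok : BT.all (fun t => decide (wfWord data t ∧ ∃ L ∈ relWords, t.2.1 = pathOf lw L)) data.rel = true := by
  decide +kernel

theorem subD_ok : BT.all (fun t => decide (wfWord data t ∧ ∃ L ∈ subWords, t.2.1 = pathOf lw L)) data.sub = true := by
  decide +kernel

theorem link : Link rels S relWords subWords lw dec data table where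
  hrels := mem_rels_iff _ _ _ hextra
  hS := hS
  lwk := by rintro ⟨x, b⟩; cases x <;> cases b <;> decide
  lwinv := by intro x; cases x <;> decide +kernel
  d1 := by intro l hl; have : l < 4 := hl; interval_cases l <;> rfl
  d2 := by intro x; cases x <;> rfl
  d3 := by
    intro x
    cases x
    · exact Or.inl rfl
    · exact Or.inl rfl
  invk := by intro l hl; have : l < 4 := hl; interval_cases l <;> decide +kernel
  relD := BT.All_of_all (fun _ h => of_decide_eq_true h) _ relD_ok
  subD := BT.All_of_all (fun _ h => of_decide_eq_true h) _ subD_ok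
  Tk := rfl
  Tinv := fun _ => rfl

theorem hrelmem : ∀ L ∈ relWords, pathOf lw L ∈ relPaths := by decide +kernel
theorem hsubmem : ∀ L ∈ subWords, pathOf lw L ∈ subPaths := by decide +kernel
theorem hsubmem' : ∀ s ∈ subPaths, ∃ L ∈ subWords, s = pathOf lw L := by decide +kernel

end Cfsg.Agent.Lib.Helper28.TCHeS2Link
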