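import Cfsg.Agent.Lib.Helper28.SchurFoxG
import Cfsg.Agent.Lib.Helper28.TC2Tower
import Cfsg.Agent.Lib.Helper28.TCHeS2Main
import Cfsg.Agent.Lib.Helper28.FoxHeS2P2Chk
import Cfsg.Agent.Lib.Helper28.FoxHeS2P3Chk
import Cfsg.Agent.Lib.Helper28.FoxHeS2P5Chk

set_option autoImplicit false
set_option maxRecDepth 100000

/-!
# The presented group `⟨x, y | …⟩` of order at most 4080 (the group `L₂(16)`) has trivial multiplier
-/

namespace Cfsg.Agent.Lib.Helper28.SchurL216

open Cfsg.Agent.Lib.Helper28.SchurFox Cfsg.Agent.Lib.Helper28.TC2Lower Cfsg.Agent.Lib.Helper28.TC2Glue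
open Cfsg.Agent.Lib.Helper28.TCHeS2Link Cfsg.Agent.Lib.Helper28.TCHeS2Table
open Cfsg.Agent.Lib.Helper28.TCHeS2Main
open Cfsg.Agent.Lib.Helper28.TCHeS2Def (Gen)

/-- the presented group -/
abbrev PL : Type := PresentedGroup rels

/-- the subgroup generated by `y` -/
abbrev H : Subgroup PL := (Subgroup.closure S).map (PresentedGroup.mk rels)

/-- index of a generator -/
def gi : Gen → ℕ
  | .x => 0
  | .y => 1

theorem hlw : ∀ x b, lw (x, b) = 2 * gi x + cond b 0 1 := by
  rintro x b; cases x <;> cases b <;> rfl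

theorem hgi : Function.Injective gi := by
  intro x y h; cases x <;> cases y <;> simp_all [gi]

theorem hlwk : ∀ x, lw (x, true) < table.k := by
  intro x; cases x <;> decide

theorem hDd : ∀ k < 2, ∃ x, gi x = k := by
  intro k hk
  interval_cases k
  exacts [⟨.x, rfl⟩, ⟨.y, rfl⟩]

/-- the element `y` -/
def u : PL := PresentedGroup.of Gen.y

theorem H_eq : H = Subgroup.zpowers u := by
  show (Subgroup.closure {FreeGroup.of Gen.y}).map _ = _
  rw [MonoidHom.map_closure, Set.image_singleton, Subgroup.zpowers_eq_closure]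
  rfl

theorem u_pow : u ^ 17 = 1 := by
  have hm : FreeGroup.mk (relWords.getD 1 []) ∈ rels := (link.hrels _).mpr ⟨_, by decide, rfl⟩
  have h := PresentedGroup.one_of_mem hm
  have e : u ^ 17 = PresentedGroup.mk rels ((FreeGroup.of Gen.y) ^ 17) := by
    rw [map_pow]; rfl
  rw [e]
  exact h

theorem card_H_le : Nat.card H ≤ 17 := by
  rw [H_eq, Nat.card_zpowers]
  exact Nat.le_of_dvd (by norm_num) (orderOf_dvd_of_pow_eq_one u_pow)

theorem finite_H : Finite H := by
  apply Nat.finite_of_card_ne_zero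
  rw [H_eq, Nat.card_zpowers]
  exact (orderOf_pos_iff.mpr (isOfFinOrder_iff_pow_eq_one.mpr ⟨17, by norm_num, u_pow⟩)).ne'

theorem index_H : H.index = 240 := main.1

instance finite_PL : Finite PL := by
  have := finite_H
  exact Cfsg.Agent.Lib.Helper28.TC2Tower.finite_of_index H (by rw [index_H]; norm_num)

theorem card_le : Nat.card PL ≤ 4080 :=
  Cfsg.Agent.Lib.Helper28.TC2Tower.card_le_of_index H index_H card_H_le

theorem prime_dvd_240 {p : ℕ} (hp : p.Prime) (h : p ∣ 240) : p = 2 ∨ p = 3 ∨ p = 5 := by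
  have h' : p ∣ 2 ^ 4 * 3 * 5 := h
  rcases (Nat.Prime.dvd_mul hp).mp h' with h1 | h1
  · rcases (Nat.Prime.dvd_mul hp).mp h1 with h2 | h2
    · left; exact (Nat.prime_dvd_prime_iff_eq hp Nat.prime_two).mp (hp.dvd_of_dvd_pow h2)
    · right; left; exact (Nat.prime_dvd_prime_iff_eq hp Nat.prime_three).mp h2
  · right; right; exact (Nat.prime_dvd_prime_iff_eq hp Nat.prime_five).mp h1

theorem hpaths2 : FoxHeS2P2.data.paths = relWords.map (pathOf lw) := by decide +kernel
theorem hpaths3 : FoxHeS2P3.data.paths = relWords.map (pathOf lw) := by decide +kernel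
theorem hpaths5 : FoxHeS2P5.data.paths = relWords.map (pathOf lw) := by decide +kernel

/-- every finite stem extension of the presented group is an isomorphism -/
theorem trivMult : TrivMult PL := by
  apply trivMult_of_exp
  intro p hp Γ _ _ σ hσ hexp
  obtain ⟨hidx, φ, hφ, f, hf, hfe, _⟩ := main
  by_cases hdiv : p ∣ 240
  · rcases prime_dvd_240 hp hdiv with rfl | rfl | rfl
    · obtain ⟨R⟩ := retraction_of_zpowers σ hσ.1 hσ.2.1 2 hexp u 17 17 8 u_pow rfl (dvd_refl _)
      rw [← H_eq] at R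
      exact ker_eq_bot_of_fox rels relWords lw gi link.hrels hlw hgi H table hT hlwk φ hφ f hf hfe
        FoxHeS2P2.data rfl hDd hpaths2 FoxHeS2P2Chk.hstatic FoxHeS2P2Chk.hcyc σ hσ hexp R
    · obtain ⟨R⟩ := retraction_of_zpowers σ hσ.1 hσ.2.1 3 hexp u 17 34 11 u_pow rfl ⟨2, rfl⟩
      rw [← H_eq] at R
      exact ker_eq_bot_of_fox rels relWords lw gi link.hrels hlw hgi H table hT hlwk φ hφ f hf hfe
        FoxHeS2P3.data rfl hDd hpaths3 FoxHeS2P3Chk.hstatic FoxHeS2P3Chk.hcyc σ hσ hexp R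
    · obtain ⟨R⟩ := retraction_of_zpowers σ hσ.1 hσ.2.1 5 hexp u 17 51 10 u_pow rfl ⟨3, rfl⟩
      rw [← H_eq] at R
      exact ker_eq_bot_of_fox rels relWords lw gi link.hrels hlw hgi H table hT hlwk φ hφ f hf hfe
        FoxHeS2P5.data rfl hDd hpaths5 FoxHeS2P5Chk.hstatic FoxHeS2P5Chk.hcyc σ hσ hexp R
  · have hi : (H.comap σ).index = 240 := by
      rw [Subgroup.index_comap_of_surjective H hσ.1]; exact index_H
    have : (H.comap σ).FiniteIndex := ⟨by rw [hi]; norm_num⟩
    refine ker_eq_bot_of_transfer σ hσ p hexp (H.comap σ) ?_ ?_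
    · rw [hi]
      exact ((Nat.Prime.coprime_iff_not_dvd hp).mpr hdiv).symm
    · rw [H_eq]
      exact comm_inter_zpowers σ hσ.1 hσ.2.1 u

/-- the left inverse of the exponent matrix -/
def Smat : List (List ℤ) := [[269, -15, -135, 1], [18, -1, -9, 0]]

theorem perfect : commutator PL = ⊤ := by
  apply commutator_eq_top_of_matrix rels relWords lw gi link.hrels hlw hgi 2 (by intro x; cases x <;> decide)
    (fun y j => (Smat.getD y []).getD j 0)
  decide +kernel

end Cfsg.Agent.Lib.Helper28.SchurL216
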