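import Cfsg.Agent.Lib.Helper28.TC2Upper
import Cfsg.Agent.Lib.Helper28.TCM24W2DataC0
set_option autoImplicit false
set_option maxRecDepth 100000

namespace Cfsg.Agent.Lib.Helper28.TCM24W2Data
open Cfsg.Agent.Lib.Helper28.TC2Upper

/-- relators -/
def relT : BT (ℕ × List ℕ × List ℕ) := (BT.node 2 (BT.node 1 (BT.node 0 (BT.leaf (2, [0, 0], [1, 1])) (BT.leaf (4, [2, 2, 2, 2], [3, 3, 3, 3]))) (BT.leaf (22, [2, 0, 2, 0, 2, 0, 2, 0, 2, 0, 2, 0, 2, 0, 2, 0, 2, 0, 2, 0, 2, 0], [1, 3, 1, 3, 1, 3, 1, 3, 1, 3, 1, 3, 1, 3, 1, 3, 1, 3, 1, 3, 1, 3]))) (BT.node 3 (BT.leaf (18, [2, 2, 0, 2, 2, 0, 2, 2, 0, 2, 2, 0, 2, 2, 0, 2, 2, 0], [1, 3, 3, 1, 3, 3, 1, 3, 3, 1, 3, 3, 1, 3, 3, 1, 3, 3])) (BT.leaf (19, [3, 0, 3, 0, 2, 0, 3, 0, 2, 2, 0, 2, 0, 3, 0, 2, 0, 2, 0], [1, 3, 1, 3, 1, 2, 1, 3, 1, 3, 3, 1, 2, 1, 3, 1, 2, 1, 2]))))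
/-- subgroup generators -/
def subT : BT (ℕ × List ℕ × List ℕ) := (BT.leaf (2, [2, 0], [1, 3]))
/-- fact chunks -/
def colET : BT ℕ := (BT.node 29 (BT.node 14 (BT.node 7 (BT.node 3 (BT.node 1 (BT.node 0 (BT.leaf cE0) (BT.leaf cE1)) (BT.node 2 (BT.leaf cE2) (BT.leaf cE3))) (BT.node 5 (BT.node 4 (BT.leaf cE4) (BT.leaf cE5)) (BT.node 6 (BT.leaf cE6) (BT.leaf cE7)))) (BT.node 11 (BT.node 9 (BT.node 8 (BT.leaf cE8) (BT.leaf cE9)) (BT.node 10 (BT.leaf cE10) (BT.leaf cE11))) (BT.node 13 (BT.node 12 (BT.leaf cE12) (BT.leaf cE13)) (BT.leaf cE14)))) (BT.node 22 (BT.node 18 (BT.node 16 (BT.node 15 (BT.leaf cE15) (BT.leaf cE16)) (BT.node 17 (BT.leaf cE17) (BT.leaf cE18))) (BT.node 20 (BT.node 19 (BT.leaf cE19) (BT.leaf cE20)) (BT.node 21 (BT.leaf cE21) (BT.leaf cE22)))) (BT.node 26 (BT.node 24 (BT.node 23 (BT.leaf cE23) (BT.leaf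 cE24)) (BT.node 25 (BT.leaf cE25) (BT.leaf cE26))) (BT.node 28 (BT.node 27 (BT.leaf cE27) (BT.leaf cE28)) (BT.leaf cE29))))) (BT.node 44 (BT.node 37 (BT.node 33 (BT.node 31 (BT.node 30 (BT.leaf cE30) (BT.leaf cE31)) (BT.node 32 (BT.leaf cE32) (BT.leaf cE33))) (BT.node 35 (BT.node 34 (BT.leaf cE34) (BT.leaf cE35)) (BT.node 36 (BT.leaf cE36) (BT.leaf cE37)))) (BT.node 41 (BT.node 39 (BT.node 38 (BT.leaf cE38) (BT.leaf cE39)) (BT.node 40 (BT.leaf cE40) (BT.leaf cE41))) (BT.node 43 (BT.node 42 (BT.leaf cE42) (BT.leaf cE43)) (BT.leaf cE44)))) (BT.node 52 (BT.node 48 (BT.node 46 (BT.node 45 (BT.leaf cE45) (BT.leaf cE46)) (BT.node 47 (BT.leaf cE47) (BT.leaf cE48))) (BT.node 50 (BT.node 49 (BT.leaf cE49) (BT.leaf cE50)) (BT.node 51 (BT.leaf cE51) (BT.leaf cE52)))) (BT.node 56 (BT.node 54 (BT.node 53 (BT.leaf cE53) (BT.leaf cE54))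 (BT.node 55 (BT.leaf cE55) (BT.leaf cE56))) (BT.node 58 (BT.node 57 (BT.leaf cE57) (BT.leaf cE58)) (BT.leaf cE59))))))
/-- justification chunks -/
def colJT : BT ℕ := (BT.node 29 (BT.node 14 (BT.node 7 (BT.node 3 (BT.node 1 (BT.node 0 (BT.leaf cJ0) (BT.leaf cJ1)) (BT.node 2 (BT.leaf cJ2) (BT.leaf cJ3))) (BT.node 5 (BT.node 4 (BT.leaf cJ4) (BT.leaf cJ5)) (BT.node 6 (BT.leaf cJ6) (BT.leaf cJ7)))) (BT.node 11 (BT.node 9 (BT.node 8 (BT.leaf cJ8) (BT.leaf cJ9)) (BT.node 10 (BT.leaf cJ10) (BT.leaf cJ11))) (BT.node 13 (BT.node 12 (BT.leaf cJ12) (BT.leaf cJ13)) (BT.leaf cJ14)))) (BT.node 22 (BT.node 18 (BT.node 16 (BT.node 15 (BT.leaf cJ15) (BT.leaf cJ16)) (BT.node 17 (BT.leaf cJ17) (BT.leaf cJ18))) (BT.node 20 (BT.node 19 (BT.leaf cJ19) (BT.leaf cJ20)) (BT.node 21 (BT.leaf cJ21) (BT.leaf cJ22)))) (BT.node 26 (BT.node 24 (BT.node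 23 (BT.leaf cJ23) (BT.leaf cJ24)) (BT.node 25 (BT.leaf cJ25) (BT.leaf cJ26))) (BT.node 28 (BT.node 27 (BT.leaf cJ27) (BT.leaf cJ28)) (BT.leaf cJ29))))) (BT.node 44 (BT.node 37 (BT.node 33 (BT.node 31 (BT.node 30 (BT.leaf cJ30) (BT.leaf cJ31)) (BT.node 32 (BT.leaf cJ32) (BT.leaf cJ33))) (BT.node 35 (BT.node 34 (BT.leaf cJ34) (BT.leaf cJ35)) (BT.node 36 (BT.leaf cJ36) (BT.leaf cJ37)))) (BT.node 41 (BT.node 39 (BT.node 38 (BT.leaf cJ38) (BT.leaf cJ39)) (BT.node 40 (BT.leaf cJ40) (BT.leaf cJ41))) (BT.node 43 (BT.node 42 (BT.leaf cJ42) (BT.leaf cJ43)) (BT.leaf cJ44)))) (BT.node 52 (BT.node 48 (BT.node 46 (BT.node 45 (BT.leaf cJ45) (BT.leaf cJ46)) (BT.node 47 (BT.leaf cJ47) (BT.leaf cJ48))) (BT.node 50 (BT.node 49 (BT.leaf cJ49) (BT.leaf cJ50)) (BT.node 51 (BT.leaf cJ51) (BT.leaf cJ52)))) (BT.node 56 (BT.node 54 (BT.node 53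 (BT.leaf cJ53) (BT.leaf cJ54)) (BT.node 55 (BT.leaf cJ55) (BT.leaf cJ56))) (BT.node 58 (BT.node 57 (BT.leaf cJ57) (BT.leaf cJ58)) (BT.leaf cJ59))))))
/-- parent chunks -/
def parCT : BT ℕ := (BT.node 5 (BT.node 2 (BT.node 1 (BT.node 0 (BT.leaf cP0) (BT.leaf cP1)) (BT.leaf cP2)) (BT.node 4 (BT.node 3 (BT.leaf cP3) (BT.leaf cP4)) (BT.leaf cP5))) (BT.node 8 (BT.node 7 (BT.node 6 (BT.leaf cP6) (BT.leaf cP7)) (BT.leaf cP8)) (BT.node 10 (BT.node 9 (BT.leaf cP9) (BT.leaf cP10)) (BT.leaf cP11))))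
/-- the certificate -/
def data : Data where
  k := 4
  N := 5708
  W := 26
  MW := 67108864
  B := 8192
  CH := 512
  NCH := 12
  colE := colET
  JW := 64
  MJ := 18446744073709551616
  A := 1048576
  colJ := colJT
  PW := 22
  MP := 4194304
  parC := parCT
  inv := (BT.node 2 (BT.node 1 (BT.node 0 (BT.leaf 1) (BT.leaf 0)) (BT.leaf 3)) (BT.node 3 (BT.leaf 2) (BT.leaf 4)))
  rel := relT
  sub := subT
  fuel := 64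

end Cfsg.Agent.Lib.Helper28.TCM24W2Data
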