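import Cfsg.Agent.Lib.Helper28.SchurM23
import Cfsg.Agent.Lib.Helper28.TCM24W0Main
import Cfsg.Agent.Lib.Helper28.FoxM24W0P2Chk
import Cfsg.Agent.Lib.Helper28.FoxM24W0P3Chk

set_option autoImplicit false
set_option maxRecDepth 100000

/-!
# The Mathieu group `M₂₄` has trivial Schur multiplier
-/

namespace Cfsg.Agent.Lib.Helper28.SchurM24

open Cfsg.Agent.Lib.Helper28.SchurFox Cfsg.Agent.Lib.Helper28.TC2Lower Cfsg.Agent.Lib.Helper28.TC2Glue
open Cfsg.Agent.Lib.Helper28.TC2Tower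
open Cfsg.Agent.Lib.Helper28.TCM24W0Link Cfsg.Agent.Lib.Helper28.TCM24W0Table
open Cfsg.Agent.Lib.Helper28.TCM24W0Main
open Cfsg.Agent.Lib.Helper28.TCM24W0Def (Gen)
open Cfsg.Agent.Lib.Helper28.SchurM24Conc (gi24 hlw24 hgi24 Φ24 range24)
open Cfsg.Agent.Lib.Helper28.SchurM23 (P23)

/-- the presented group -/
abbrev P24 : Type := PresentedGroup rels

/-- the subgroup generated by `a`, `b` and `t` -/
abbrev H : Subgroup P24 := (Subgroup.closure S).map (PresentedGroup.mk rels)

theorem hlwk : ∀ x, lw (x, true) < table.k := by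
  intro x; cases x <;> decide

theorem hDd : ∀ k < 4, ∃ x, gi24 x = k := by
  intro k hk
  interval_cases k
  exacts [⟨.a, rfl⟩, ⟨.b, rfl⟩, ⟨.t, rfl⟩, ⟨.s, rfl⟩]

theorem hrelmap : ∀ r ∈ Cfsg.Agent.Lib.Helper28.TCM24W1Link.rels,
    FreeGroup.map Cfsg.Agent.Lib.Helper28.TCM24W1Def.up r ∈ rels :=
  hrel_of_words rels Cfsg.Agent.Lib.Helper28.TCM24W1Link.rels Cfsg.Agent.Lib.Helper28.TCM24W1Def.up relWords
    Cfsg.Agent.Lib.Helper28.TCM24W1Link.relWords link.hrels Cfsg.Agent.Lib.Helper28.TCM24W1Link.link.hrels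
    Cfsg.Agent.Lib.Helper28.SchurM24Conc.up_rel

theorem hψrel : ∀ r ∈ Cfsg.Agent.Lib.Helper28.TCM24W1Link.rels,
    FreeGroup.lift (fun g => (PresentedGroup.of (Cfsg.Agent.Lib.Helper28.TCM24W1Def.up g) : P24)) r = 1 := by
  intro r hr
  have key : FreeGroup.lift (fun g => (PresentedGroup.of (Cfsg.Agent.Lib.Helper28.TCM24W1Def.up g) : P24)) =
      (PresentedGroup.mk rels).comp (FreeGroup.map Cfsg.Agent.Lib.Helper28.TCM24W1Def.up) := by
    ext g
    simp [PresentedGroup.of]
  rw [key]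
  exact PresentedGroup.one_of_mem (hrelmap r hr)

/-- the map from the presented group `M23` -/
noncomputable def ψ : P23 →* P24 := PresentedGroup.toGroup hψrel

theorem ψ_of (g : Cfsg.Agent.Lib.Helper28.TCM24W1Def.Gen) :
    ψ (PresentedGroup.of g) = PresentedGroup.of (Cfsg.Agent.Lib.Helper28.TCM24W1Def.up g) :=
  PresentedGroup.toGroup.of hψrel

theorem range_ψ : ψ.range = H := by
  rw [MonoidHom.range_eq_map, ← PresentedGroup.closure_range_of, MonoidHom.map_closure, ← Set.range_comp]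
  show _ = (Subgroup.closure {FreeGroup.of Gen.a, FreeGroup.of Gen.b, FreeGroup.of Gen.t}).map _
  rw [MonoidHom.map_closure]
  congr 1
  ext x
  constructor
  · rintro ⟨g, rfl⟩
    cases g
    · exact ⟨FreeGroup.of Gen.a, by simp, (ψ_of .a).symm⟩
    · exact ⟨FreeGroup.of Gen.b, by simp, (ψ_of .b).symm⟩
    · exact ⟨FreeGroup.of Gen.t, by simp, (ψ_of .t).symm⟩
  · rintro ⟨y, hy, rfl⟩
    simp only [Set.mem_insert_iff, Set.mem_singleton_iff] at hy
    rcases hy with rfl | rfl | rfl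
    · exact ⟨.a, ψ_of .a⟩
    · exact ⟨.b, ψ_of .b⟩
    · exact ⟨.t, ψ_of .t⟩

theorem index_H : H.index = 24 := main.1

theorem card_H_le : Nat.card H ≤ 10200960 := by
  rw [← range_ψ]
  calc Nat.card ψ.range ≤ Nat.card P23 := Nat.card_le_card_of_surjective ψ.rangeRestrict ψ.rangeRestrict_surjective
    _ ≤ 10200960 := Cfsg.Agent.Lib.Helper28.SchurM23.card_le

theorem finite_H : Finite H := by
  rw [← range_ψ]
  exact Finite.of_surjective ψ.rangeRestrict ψ.rangeRestrict_surjective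

instance finite_P24 : Finite P24 := by
  have := finite_H
  exact finite_of_index H (by rw [index_H]; norm_num)

theorem card_le : Nat.card P24 ≤ 244823040 :=
  card_le_of_index H index_H card_H_le

/-- the homomorphism onto `M24` -/
noncomputable def φ24 : P24 →* ↥Cfsg.M24 :=
  Φ24.codRestrict Cfsg.M24 (fun x => by rw [← range24]; exact ⟨x, rfl⟩)

theorem φ24_surj : Function.Surjective φ24 := by
  rintro ⟨y, hy⟩
  rw [← range24] at hy
  obtain ⟨x, rfl⟩ := hy
  exact ⟨x, rfl⟩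

theorem card_eq : Nat.card P24 = 244823040 := by
  apply le_antisymm card_le
  rw [← Cfsg.Agent.Lib.Helper3.Golay.card_M24]
  exact Nat.card_le_card_of_surjective φ24 φ24_surj

/-- the presented group is `M24` -/
noncomputable def e24 : P24 ≃* ↥Cfsg.M24 :=
  MulEquiv.ofBijective φ24 (φ24_surj.bijective_of_nat_card_le (by
    rw [card_eq, Cfsg.Agent.Lib.Helper3.Golay.card_M24]))

theorem card_H : Nat.card H = 10200960 := by
  have h := H.index_mul_card
  rw [index_H, card_eq] at h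
  omega

/-- the subgroup is the presented group `M23` -/
noncomputable def e23 : P23 ≃* ↥H := by
  have hr : ∀ x, ψ x ∈ H := fun x => by rw [← range_ψ]; exact ⟨x, rfl⟩
  let ψ' : P23 →* ↥H := ψ.codRestrict H hr
  have hs : Function.Surjective ψ' := by
    rintro ⟨y, hy⟩
    rw [← range_ψ] at hy
    obtain ⟨x, rfl⟩ := hy
    exact ⟨x, rfl⟩
  exact MulEquiv.ofBijective ψ' (hs.bijective_of_nat_card_le (by
    rw [card_H]; exact Cfsg.Agent.Lib.Helper28.SchurM23.card_le))

theorem trivMult_H : TrivMult ↥H := Cfsg.Agent.Lib.Helper28.SchurM23.trivMult.congr e23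

theorem perfect_H : ⁅H, H⁆ = H := by
  have h1 : H = (⊤ : Subgroup P23).map ψ := by rw [← MonoidHom.range_eq_map, range_ψ]
  rw [h1, ← Subgroup.map_commutator, ← commutator_def, Cfsg.Agent.Lib.Helper28.SchurM23.perfect]

theorem prime_dvd_24 {p : ℕ} (hp : p.Prime) (h : p ∣ 24) : p = 2 ∨ p = 3 := by
  have h' : p ∣ 2 ^ 3 * 3 := h
  rcases (Nat.Prime.dvd_mul hp).mp h' with h1 | h1
  · left; exact (Nat.prime_dvd_prime_iff_eq hp Nat.prime_two).mp (hp.dvd_of_dvd_pow h1)
  · right; exact (Nat.prime_dvd_prime_iff_eq hp Nat.prime_three).mp h1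

theorem hpaths2 : FoxM24W0P2.data.paths = relWords.map (pathOf lw) := by decide +kernel
theorem hpaths3 : FoxM24W0P3.data.paths = relWords.map (pathOf lw) := by decide +kernel

/-- every finite stem extension of the presented group is an isomorphism -/
theorem trivMult : TrivMult P24 := by
  apply trivMult_of_exp
  intro p hp Γ _ _ σ hσ hexp
  obtain ⟨hidx, φ, hφ, f, hf, hfe, _⟩ := main
  obtain ⟨R⟩ := retraction_of_perfect σ hσ.1 hσ.2.1 H perfect_H trivMult_H
  by_cases hdiv : p ∣ 24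
  · rcases prime_dvd_24 hp hdiv with rfl | rfl
    · exact ker_eq_bot_of_fox rels relWords lw gi24 link.hrels hlw24 hgi24 H table hT hlwk φ hφ f hf hfe
        FoxM24W0P2.data rfl hDd hpaths2 FoxM24W0P2Chk.hstatic FoxM24W0P2Chk.hcyc σ hσ hexp R
    · exact ker_eq_bot_of_fox rels relWords lw gi24 link.hrels hlw24 hgi24 H table hT hlwk φ hφ f hf hfe
        FoxM24W0P3.data rfl hDd hpaths3 FoxM24W0P3Chk.hstatic FoxM24W0P3Chk.hcyc σ hσ hexp R
  · have hi : (H.comap σ).index = 24 := by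
      rw [Subgroup.index_comap_of_surjective H hσ.1]; exact index_H
    have : (H.comap σ).FiniteIndex := ⟨by rw [hi]; norm_num⟩
    refine ker_eq_bot_of_transfer σ hσ p hexp (H.comap σ) ?_ R.comm_inter
    rw [hi]
    exact ((Nat.Prime.coprime_iff_not_dvd hp).mpr hdiv).symm

/-- the Schur multiplier of `M24` is trivial -/
theorem schur_M24 : Cfsg.HasCyclicSchurMultiplier ↥Cfsg.M24 1 :=
  hasCyclic_of_trivMult (trivMult.congr e24)

end Cfsg.Agent.Lib.Helper28.SchurM24
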