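import Cfsg.Agent.Lib.Helper28.TC2Upper
import Cfsg.Agent.Lib.Helper28.TCHeS1DataC0
set_option autoImplicit false
set_option maxRecDepth 100000

namespace Cfsg.Agent.Lib.Helper28.TCHeS1Data
open Cfsg.Agent.Lib.Helper28.TC2Upper

/-- relators -/
def relT : BT (ℕ × List ℕ × List ℕ) := (BT.node 3 (BT.node 1 (BT.node 0 (BT.leaf (2, [0, 0], [1, 1])) (BT.leaf (17, [2, 2, 2, 2, 2, 2, 2, 2, 2, 2, 2, 2, 2, 2, 2, 2, 2], [3, 3, 3, 3, 3, 3, 3, 3, 3, 3, 3, 3, 3, 3, 3, 3, 3]))) (BT.node 2 (BT.leaf (10, [0, 2, 0, 3, 3, 0, 2, 0, 3, 3], [2, 2, 1, 3, 1, 2, 2, 1, 3, 1])) (BT.leaf (18, [0, 3, 3, 3, 3, 3, 0, 3, 3, 3, 3, 3, 0, 3, 3, 3, 3, 3], [2, 2, 2, 2, 2, 1, 2, 2, 2, 2, 2, 1, 2, 2, 2, 2, 2, 1])))) (BT.node 5 (BT.node 4 (BT.leaf (2, [4, 4], [5, 5])) (BT.leaf (4, [4, 0, 4, 0], [1, 5, 1, 5]))) (BT.node 6 (BT.leaf (14, [0, 2, 0, 4, 3, 4, 2, 4, 3, 4, 2, 4, 0, 3], [2, 1, 5, 3, 5, 2, 5,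 3, 5, 2, 5, 1, 3, 1])) (BT.leaf (18, [0, 3, 4, 2, 4, 2, 2, 0, 2, 4, 2, 4, 3, 0, 3, 0, 3, 3], [2, 2, 1, 2, 1, 2, 5, 3, 5, 3, 1, 3, 3, 5, 3, 5, 2, 1])))))
/-- subgroup generators -/
def subT : BT (ℕ × List ℕ × List ℕ) := (BT.node 0 (BT.leaf (1, [0], [1])) (BT.leaf (1, [2], [3])))
/-- fact chunks -/
def colET : BT ℕ := (BT.node 220 (BT.node 110 (BT.node 55 (BT.node 27 (BT.node 13 (BT.node 6 (BT.node 3 (BT.node 1 (BT.node 0 (BT.leaf cE0) (BT.leaf cE1)) (BT.node 2 (BT.leaf cE2) (BT.leaf cE3))) (BT.node 5 (BT.node 4 (BT.leaf cE4) (BT.leaf cE5)) (BT.leaf cE6))) (BT.node 10 (BT.node 8 (BT.node 7 (BT.leaf cE7) (BT.leaf cE8)) (BT.node 9 (BT.leaf cE9) (BT.leaf cE10))) (BT.node 12 (BT.node 11 (BT.leaf cE11) (BT.leaf cE12)) (BT.leaf cE13)))) (BT.node 20 (BT.node 17 (BT.node 15 (BT.node 14 (BT.leaf cE14) (BT.leaf cE15)) (BT.node 16 (BT.leaf cE16) (BT.leaf cE17))) (BT.node 19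 (BT.node 18 (BT.leaf cE18) (BT.leaf cE19)) (BT.leaf cE20))) (BT.node 24 (BT.node 22 (BT.node 21 (BT.leaf cE21) (BT.leaf cE22)) (BT.node 23 (BT.leaf cE23) (BT.leaf cE24))) (BT.node 26 (BT.node 25 (BT.leaf cE25) (BT.leaf cE26)) (BT.leaf cE27))))) (BT.node 41 (BT.node 34 (BT.node 31 (BT.node 29 (BT.node 28 (BT.leaf cE28) (BT.leaf cE29)) (BT.node 30 (BT.leaf cE30) (BT.leaf cE31))) (BT.node 33 (BT.node 32 (BT.leaf cE32) (BT.leaf cE33)) (BT.leaf cE34))) (BT.node 38 (BT.node 36 (BT.node 35 (BT.leaf cE35) (BT.leaf cE36)) (BT.node 37 (BT.leaf cE37) (BT.leaf cE38))) (BT.node 40 (BT.node 39 (BT.leaf cE39) (BT.leaf cE40)) (BT.leaf cE41)))) (BT.node 48 (BT.node 45 (BT.node 43 (BT.node 42 (BT.leaf cE42) (BT.leaf cE43)) (BT.node 44 (BT.leaf cE44) (BT.leaf cE45))) (BT.node 47 (BT.node 46 (BT.leaf cE46) (BT.leaf cE47)) (BT.leaf cE48))) (BT.node 52 (BT.node 50 (BT.node 49 (BT.leaf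 cE49) (BT.leaf cE50)) (BT.node 51 (BT.leaf cE51) (BT.leaf cE52))) (BT.node 54 (BT.node 53 (BT.leaf cE53) (BT.leaf cE54)) (BT.leaf cE55)))))) (BT.node 83 (BT.node 69 (BT.node 62 (BT.node 59 (BT.node 57 (BT.node 56 (BT.leaf cE56) (BT.leaf cE57)) (BT.node 58 (BT.leaf cE58) (BT.leaf cE59))) (BT.node 61 (BT.node 60 (BT.leaf cE60) (BT.leaf cE61)) (BT.leaf cE62))) (BT.node 66 (BT.node 64 (BT.node 63 (BT.leaf cE63) (BT.leaf cE64)) (BT.node 65 (BT.leaf cE65) (BT.leaf cE66))) (BT.node 68 (BT.node 67 (BT.leaf cE67) (BT.leaf cE68)) (BT.leaf cE69)))) (BT.node 76 (BT.node 73 (BT.node 71 (BT.node 70 (BT.leaf cE70) (BT.leaf cE71)) (BT.node 72 (BT.leaf cE72) (BT.leaf cE73))) (BT.node 75 (BT.node 74 (BT.leaf cE74) (BT.leaf cE75)) (BT.leaf cE76))) (BT.node 80 (BT.node 78 (BT.node 77 (BT.leaf cE77) (BT.leaf cE78)) (BT.node 79 (BT.leaf cE79) (BT.leaf cE80))) (BT.node 82 (BT.node 81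 (BT.leaf cE81) (BT.leaf cE82)) (BT.leaf cE83))))) (BT.node 97 (BT.node 90 (BT.node 87 (BT.node 85 (BT.node 84 (BT.leaf cE84) (BT.leaf cE85)) (BT.node 86 (BT.leaf cE86) (BT.leaf cE87))) (BT.node 89 (BT.node 88 (BT.leaf cE88) (BT.leaf cE89)) (BT.leaf cE90))) (BT.node 94 (BT.node 92 (BT.node 91 (BT.leaf cE91) (BT.leaf cE92)) (BT.node 93 (BT.leaf cE93) (BT.leaf cE94))) (BT.node 96 (BT.node 95 (BT.leaf cE95) (BT.leaf cE96)) (BT.leaf cE97)))) (BT.node 104 (BT.node 101 (BT.node 99 (BT.node 98 (BT.leaf cE98) (BT.leaf cE99)) (BT.node 100 (BT.leaf cE100) (BT.leaf cE101))) (BT.node 103 (BT.node 102 (BT.leaf cE102) (BT.leaf cE103)) (BT.leaf cE104))) (BT.node 107 (BT.node 106 (BT.node 105 (BT.leaf cE105) (BT.leaf cE106)) (BT.leaf cE107)) (BT.node 109 (BT.node 108 (BT.leaf cE108) (BT.leaf cE109)) (BT.leaf cE110))))))) (BT.node 165 (BT.node 138 (BT.node 124 (BT.node 117 (BT.node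 114 (BT.node 112 (BT.node 111 (BT.leaf cE111) (BT.leaf cE112)) (BT.node 113 (BT.leaf cE113) (BT.leaf cE114))) (BT.node 116 (BT.node 115 (BT.leaf cE115) (BT.leaf cE116)) (BT.leaf cE117))) (BT.node 121 (BT.node 119 (BT.node 118 (BT.leaf cE118) (BT.leaf cE119)) (BT.node 120 (BT.leaf cE120) (BT.leaf cE121))) (BT.node 123 (BT.node 122 (BT.leaf cE122) (BT.leaf cE123)) (BT.leaf cE124)))) (BT.node 131 (BT.node 128 (BT.node 126 (BT.node 125 (BT.leaf cE125) (BT.leaf cE126)) (BT.node 127 (BT.leaf cE127) (BT.leaf cE128))) (BT.node 130 (BT.node 129 (BT.leaf cE129) (BT.leaf cE130)) (BT.leaf cE131))) (BT.node 135 (BT.node 133 (BT.node 132 (BT.leaf cE132) (BT.leaf cE133)) (BT.node 134 (BT.leaf cE134) (BT.leaf cE135))) (BT.node 137 (BT.node 136 (BT.leaf cE136) (BT.leaf cE137)) (BT.leaf cE138))))) (BT.node 152 (BT.node 145 (BT.node 142 (BT.node 140 (BT.node 139 (BT.leaf cE139) (BT.leaf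 cE140)) (BT.node 141 (BT.leaf cE141) (BT.leaf cE142))) (BT.node 144 (BT.node 143 (BT.leaf cE143) (BT.leaf cE144)) (BT.leaf cE145))) (BT.node 149 (BT.node 147 (BT.node 146 (BT.leaf cE146) (BT.leaf cE147)) (BT.node 148 (BT.leaf cE148) (BT.leaf cE149))) (BT.node 151 (BT.node 150 (BT.leaf cE150) (BT.leaf cE151)) (BT.leaf cE152)))) (BT.node 159 (BT.node 156 (BT.node 154 (BT.node 153 (BT.leaf cE153) (BT.leaf cE154)) (BT.node 155 (BT.leaf cE155) (BT.leaf cE156))) (BT.node 158 (BT.node 157 (BT.leaf cE157) (BT.leaf cE158)) (BT.leaf cE159))) (BT.node 162 (BT.node 161 (BT.node 160 (BT.leaf cE160) (BT.leaf cE161)) (BT.leaf cE162)) (BT.node 164 (BT.node 163 (BT.leaf cE163) (BT.leaf cE164)) (BT.leaf cE165)))))) (BT.node 193 (BT.node 179 (BT.node 172 (BT.node 169 (BT.node 167 (BT.node 166 (BT.leaf cE166) (BT.leaf cE167)) (BT.node 168 (BT.leaf cE168) (BT.leaf cE169))) (BT.node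 171 (BT.node 170 (BT.leaf cE170) (BT.leaf cE171)) (BT.leaf cE172))) (BT.node 176 (BT.node 174 (BT.node 173 (BT.leaf cE173) (BT.leaf cE174)) (BT.node 175 (BT.leaf cE175) (BT.leaf cE176))) (BT.node 178 (BT.node 177 (BT.leaf cE177) (BT.leaf cE178)) (BT.leaf cE179)))) (BT.node 186 (BT.node 183 (BT.node 181 (BT.node 180 (BT.leaf cE180) (BT.leaf cE181)) (BT.node 182 (BT.leaf cE182) (BT.leaf cE183))) (BT.node 185 (BT.node 184 (BT.leaf cE184) (BT.leaf cE185)) (BT.leaf cE186))) (BT.node 190 (BT.node 188 (BT.node 187 (BT.leaf cE187) (BT.leaf cE188)) (BT.node 189 (BT.leaf cE189) (BT.leaf cE190))) (BT.node 192 (BT.node 191 (BT.leaf cE191) (BT.leaf cE192)) (BT.leaf cE193))))) (BT.node 207 (BT.node 200 (BT.node 197 (BT.node 195 (BT.node 194 (BT.leaf cE194) (BT.leaf cE195)) (BT.node 196 (BT.leaf cE196) (BT.leaf cE197))) (BT.node 199 (BT.node 198 (BT.leaf cE198) (BT.leaf cE199))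 (BT.leaf cE200))) (BT.node 204 (BT.node 202 (BT.node 201 (BT.leaf cE201) (BT.leaf cE202)) (BT.node 203 (BT.leaf cE203) (BT.leaf cE204))) (BT.node 206 (BT.node 205 (BT.leaf cE205) (BT.leaf cE206)) (BT.leaf cE207)))) (BT.node 214 (BT.node 211 (BT.node 209 (BT.node 208 (BT.leaf cE208) (BT.leaf cE209)) (BT.node 210 (BT.leaf cE210) (BT.leaf cE211))) (BT.node 213 (BT.node 212 (BT.leaf cE212) (BT.leaf cE213)) (BT.leaf cE214))) (BT.node 217 (BT.node 216 (BT.node 215 (BT.leaf cE215) (BT.leaf cE216)) (BT.leaf cE217)) (BT.node 219 (BT.node 218 (BT.leaf cE218) (BT.leaf cE219)) (BT.leaf cE220)))))))) (BT.node 330 (BT.node 275 (BT.node 248 (BT.node 234 (BT.node 227 (BT.node 224 (BT.node 222 (BT.node 221 (BT.leaf cE221) (BT.leaf cE222)) (BT.node 223 (BT.leaf cE223) (BT.leaf cE224))) (BT.node 226 (BT.node 225 (BT.leaf cE225) (BT.leaf cE226)) (BT.leaf cE227))) (BT.node 231 (BT.node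 229 (BT.node 228 (BT.leaf cE228) (BT.leaf cE229)) (BT.node 230 (BT.leaf cE230) (BT.leaf cE231))) (BT.node 233 (BT.node 232 (BT.leaf cE232) (BT.leaf cE233)) (BT.leaf cE234)))) (BT.node 241 (BT.node 238 (BT.node 236 (BT.node 235 (BT.leaf cE235) (BT.leaf cE236)) (BT.node 237 (BT.leaf cE237) (BT.leaf cE238))) (BT.node 240 (BT.node 239 (BT.leaf cE239) (BT.leaf cE240)) (BT.leaf cE241))) (BT.node 245 (BT.node 243 (BT.node 242 (BT.leaf cE242) (BT.leaf cE243)) (BT.node 244 (BT.leaf cE244) (BT.leaf cE245))) (BT.node 247 (BT.node 246 (BT.leaf cE246) (BT.leaf cE247)) (BT.leaf cE248))))) (BT.node 262 (BT.node 255 (BT.node 252 (BT.node 250 (BT.node 249 (BT.leaf cE249) (BT.leaf cE250)) (BT.node 251 (BT.leaf cE251) (BT.leaf cE252))) (BT.node 254 (BT.node 253 (BT.leaf cE253) (BT.leaf cE254)) (BT.leaf cE255))) (BT.node 259 (BT.node 257 (BT.node 256 (BT.leaf cE256) (BT.leaf cE257))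 (BT.node 258 (BT.leaf cE258) (BT.leaf cE259))) (BT.node 261 (BT.node 260 (BT.leaf cE260) (BT.leaf cE261)) (BT.leaf cE262)))) (BT.node 269 (BT.node 266 (BT.node 264 (BT.node 263 (BT.leaf cE263) (BT.leaf cE264)) (BT.node 265 (BT.leaf cE265) (BT.leaf cE266))) (BT.node 268 (BT.node 267 (BT.leaf cE267) (BT.leaf cE268)) (BT.leaf cE269))) (BT.node 272 (BT.node 271 (BT.node 270 (BT.leaf cE270) (BT.leaf cE271)) (BT.leaf cE272)) (BT.node 274 (BT.node 273 (BT.leaf cE273) (BT.leaf cE274)) (BT.leaf cE275)))))) (BT.node 303 (BT.node 289 (BT.node 282 (BT.node 279 (BT.node 277 (BT.node 276 (BT.leaf cE276) (BT.leaf cE277)) (BT.node 278 (BT.leaf cE278) (BT.leaf cE279))) (BT.node 281 (BT.node 280 (BT.leaf cE280) (BT.leaf cE281)) (BT.leaf cE282))) (BT.node 286 (BT.node 284 (BT.node 283 (BT.leaf cE283) (BT.leaf cE284)) (BT.node 285 (BT.leaf cE285) (BT.leaf cE286))) (BT.node 288 (BT.node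 287 (BT.leaf cE287) (BT.leaf cE288)) (BT.leaf cE289)))) (BT.node 296 (BT.node 293 (BT.node 291 (BT.node 290 (BT.leaf cE290) (BT.leaf cE291)) (BT.node 292 (BT.leaf cE292) (BT.leaf cE293))) (BT.node 295 (BT.node 294 (BT.leaf cE294) (BT.leaf cE295)) (BT.leaf cE296))) (BT.node 300 (BT.node 298 (BT.node 297 (BT.leaf cE297) (BT.leaf cE298)) (BT.node 299 (BT.leaf cE299) (BT.leaf cE300))) (BT.node 302 (BT.node 301 (BT.leaf cE301) (BT.leaf cE302)) (BT.leaf cE303))))) (BT.node 317 (BT.node 310 (BT.node 307 (BT.node 305 (BT.node 304 (BT.leaf cE304) (BT.leaf cE305)) (BT.node 306 (BT.leaf cE306) (BT.leaf cE307))) (BT.node 309 (BT.node 308 (BT.leaf cE308) (BT.leaf cE309)) (BT.leaf cE310))) (BT.node 314 (BT.node 312 (BT.node 311 (BT.leaf cE311) (BT.leaf cE312)) (BT.node 313 (BT.leaf cE313) (BT.leaf cE314))) (BT.node 316 (BT.node 315 (BT.leaf cE315) (BT.leaf cE316)) (BT.leaf cE317))))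 (BT.node 324 (BT.node 321 (BT.node 319 (BT.node 318 (BT.leaf cE318) (BT.leaf cE319)) (BT.node 320 (BT.leaf cE320) (BT.leaf cE321))) (BT.node 323 (BT.node 322 (BT.leaf cE322) (BT.leaf cE323)) (BT.leaf cE324))) (BT.node 327 (BT.node 326 (BT.node 325 (BT.leaf cE325) (BT.leaf cE326)) (BT.leaf cE327)) (BT.node 329 (BT.node 328 (BT.leaf cE328) (BT.leaf cE329)) (BT.leaf cE330))))))) (BT.node 385 (BT.node 358 (BT.node 344 (BT.node 337 (BT.node 334 (BT.node 332 (BT.node 331 (BT.leaf cE331) (BT.leaf cE332)) (BT.node 333 (BT.leaf cE333) (BT.leaf cE334))) (BT.node 336 (BT.node 335 (BT.leaf cE335) (BT.leaf cE336)) (BT.leaf cE337))) (BT.node 341 (BT.node 339 (BT.node 338 (BT.leaf cE338) (BT.leaf cE339)) (BT.node 340 (BT.leaf cE340) (BT.leaf cE341))) (BT.node 343 (BT.node 342 (BT.leaf cE342) (BT.leaf cE343)) (BT.leaf cE344)))) (BT.node 351 (BT.node 348 (BT.node 346 (BT.node 345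 (BT.leaf cE345) (BT.leaf cE346)) (BT.node 347 (BT.leaf cE347) (BT.leaf cE348))) (BT.node 350 (BT.node 349 (BT.leaf cE349) (BT.leaf cE350)) (BT.leaf cE351))) (BT.node 355 (BT.node 353 (BT.node 352 (BT.leaf cE352) (BT.leaf cE353)) (BT.node 354 (BT.leaf cE354) (BT.leaf cE355))) (BT.node 357 (BT.node 356 (BT.leaf cE356) (BT.leaf cE357)) (BT.leaf cE358))))) (BT.node 372 (BT.node 365 (BT.node 362 (BT.node 360 (BT.node 359 (BT.leaf cE359) (BT.leaf cE360)) (BT.node 361 (BT.leaf cE361) (BT.leaf cE362))) (BT.node 364 (BT.node 363 (BT.leaf cE363) (BT.leaf cE364)) (BT.leaf cE365))) (BT.node 369 (BT.node 367 (BT.node 366 (BT.leaf cE366) (BT.leaf cE367)) (BT.node 368 (BT.leaf cE368) (BT.leaf cE369))) (BT.node 371 (BT.node 370 (BT.leaf cE370) (BT.leaf cE371)) (BT.leaf cE372)))) (BT.node 379 (BT.node 376 (BT.node 374 (BT.node 373 (BT.leaf cE373) (BT.leaf cE374)) (BT.node 375 (BT.leaf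 cE375) (BT.leaf cE376))) (BT.node 378 (BT.node 377 (BT.leaf cE377) (BT.leaf cE378)) (BT.leaf cE379))) (BT.node 382 (BT.node 381 (BT.node 380 (BT.leaf cE380) (BT.leaf cE381)) (BT.leaf cE382)) (BT.node 384 (BT.node 383 (BT.leaf cE383) (BT.leaf cE384)) (BT.leaf cE385)))))) (BT.node 413 (BT.node 399 (BT.node 392 (BT.node 389 (BT.node 387 (BT.node 386 (BT.leaf cE386) (BT.leaf cE387)) (BT.node 388 (BT.leaf cE388) (BT.leaf cE389))) (BT.node 391 (BT.node 390 (BT.leaf cE390) (BT.leaf cE391)) (BT.leaf cE392))) (BT.node 396 (BT.node 394 (BT.node 393 (BT.leaf cE393) (BT.leaf cE394)) (BT.node 395 (BT.leaf cE395) (BT.leaf cE396))) (BT.node 398 (BT.node 397 (BT.leaf cE397) (BT.leaf cE398)) (BT.leaf cE399)))) (BT.node 406 (BT.node 403 (BT.node 401 (BT.node 400 (BT.leaf cE400) (BT.leaf cE401)) (BT.node 402 (BT.leaf cE402) (BT.leaf cE403))) (BT.node 405 (BT.node 404 (BT.leaf cE404)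 (BT.leaf cE405)) (BT.leaf cE406))) (BT.node 410 (BT.node 408 (BT.node 407 (BT.leaf cE407) (BT.leaf cE408)) (BT.node 409 (BT.leaf cE409) (BT.leaf cE410))) (BT.node 412 (BT.node 411 (BT.leaf cE411) (BT.leaf cE412)) (BT.leaf cE413))))) (BT.node 427 (BT.node 420 (BT.node 417 (BT.node 415 (BT.node 414 (BT.leaf cE414) (BT.leaf cE415)) (BT.node 416 (BT.leaf cE416) (BT.leaf cE417))) (BT.node 419 (BT.node 418 (BT.leaf cE418) (BT.leaf cE419)) (BT.leaf cE420))) (BT.node 424 (BT.node 422 (BT.node 421 (BT.leaf cE421) (BT.leaf cE422)) (BT.node 423 (BT.leaf cE423) (BT.leaf cE424))) (BT.node 426 (BT.node 425 (BT.leaf cE425) (BT.leaf cE426)) (BT.leaf cE427)))) (BT.node 434 (BT.node 431 (BT.node 429 (BT.node 428 (BT.leaf cE428) (BT.leaf cE429)) (BT.node 430 (BT.leaf cE430) (BT.leaf cE431))) (BT.node 433 (BT.node 432 (BT.leaf cE432) (BT.leaf cE433)) (BT.leaf cE434))) (BT.node 437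 (BT.node 436 (BT.node 435 (BT.leaf cE435) (BT.leaf cE436)) (BT.leaf cE437)) (BT.node 439 (BT.node 438 (BT.leaf cE438) (BT.leaf cE439)) (BT.leaf cE440)))))))))
/-- justification chunks -/
def colJT : BT ℕ := (BT.node 220 (BT.node 110 (BT.node 55 (BT.node 27 (BT.node 13 (BT.node 6 (BT.node 3 (BT.node 1 (BT.node 0 (BT.leaf cJ0) (BT.leaf cJ1)) (BT.node 2 (BT.leaf cJ2) (BT.leaf cJ3))) (BT.node 5 (BT.node 4 (BT.leaf cJ4) (BT.leaf cJ5)) (BT.leaf cJ6))) (BT.node 10 (BT.node 8 (BT.node 7 (BT.leaf cJ7) (BT.leaf cJ8)) (BT.node 9 (BT.leaf cJ9) (BT.leaf cJ10))) (BT.node 12 (BT.node 11 (BT.leaf cJ11) (BT.leaf cJ12)) (BT.leaf cJ13)))) (BT.node 20 (BT.node 17 (BT.node 15 (BT.node 14 (BT.leaf cJ14) (BT.leaf cJ15)) (BT.node 16 (BT.leaf cJ16) (BT.leaf cJ17))) (BT.node 19 (BT.node 18 (BT.leaf cJ18) (BT.leaf cJ19)) (BT.leaf cJ20))) (BT.node 24 (BT.node 22 (BT.node 21 (BT.leaf cJ21)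 (BT.leaf cJ22)) (BT.node 23 (BT.leaf cJ23) (BT.leaf cJ24))) (BT.node 26 (BT.node 25 (BT.leaf cJ25) (BT.leaf cJ26)) (BT.leaf cJ27))))) (BT.node 41 (BT.node 34 (BT.node 31 (BT.node 29 (BT.node 28 (BT.leaf cJ28) (BT.leaf cJ29)) (BT.node 30 (BT.leaf cJ30) (BT.leaf cJ31))) (BT.node 33 (BT.node 32 (BT.leaf cJ32) (BT.leaf cJ33)) (BT.leaf cJ34))) (BT.node 38 (BT.node 36 (BT.node 35 (BT.leaf cJ35) (BT.leaf cJ36)) (BT.node 37 (BT.leaf cJ37) (BT.leaf cJ38))) (BT.node 40 (BT.node 39 (BT.leaf cJ39) (BT.leaf cJ40)) (BT.leaf cJ41)))) (BT.node 48 (BT.node 45 (BT.node 43 (BT.node 42 (BT.leaf cJ42) (BT.leaf cJ43)) (BT.node 44 (BT.leaf cJ44) (BT.leaf cJ45))) (BT.node 47 (BT.node 46 (BT.leaf cJ46) (BT.leaf cJ47)) (BT.leaf cJ48))) (BT.node 52 (BT.node 50 (BT.node 49 (BT.leaf cJ49) (BT.leaf cJ50)) (BT.node 51 (BT.leaf cJ51) (BT.leaf cJ52))) (BT.node 54 (BT.node 53 (BT.leaf cJ53) (BT.leaf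 cJ54)) (BT.leaf cJ55)))))) (BT.node 83 (BT.node 69 (BT.node 62 (BT.node 59 (BT.node 57 (BT.node 56 (BT.leaf cJ56) (BT.leaf cJ57)) (BT.node 58 (BT.leaf cJ58) (BT.leaf cJ59))) (BT.node 61 (BT.node 60 (BT.leaf cJ60) (BT.leaf cJ61)) (BT.leaf cJ62))) (BT.node 66 (BT.node 64 (BT.node 63 (BT.leaf cJ63) (BT.leaf cJ64)) (BT.node 65 (BT.leaf cJ65) (BT.leaf cJ66))) (BT.node 68 (BT.node 67 (BT.leaf cJ67) (BT.leaf cJ68)) (BT.leaf cJ69)))) (BT.node 76 (BT.node 73 (BT.node 71 (BT.node 70 (BT.leaf cJ70) (BT.leaf cJ71)) (BT.node 72 (BT.leaf cJ72) (BT.leaf cJ73))) (BT.node 75 (BT.node 74 (BT.leaf cJ74) (BT.leaf cJ75)) (BT.leaf cJ76))) (BT.node 80 (BT.node 78 (BT.node 77 (BT.leaf cJ77) (BT.leaf cJ78)) (BT.node 79 (BT.leaf cJ79) (BT.leaf cJ80))) (BT.node 82 (BT.node 81 (BT.leaf cJ81) (BT.leaf cJ82)) (BT.leaf cJ83))))) (BT.node 97 (BT.node 90 (BT.node 87 (BT.node 85 (BT.node 84 (BT.leaf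 cJ84) (BT.leaf cJ85)) (BT.node 86 (BT.leaf cJ86) (BT.leaf cJ87))) (BT.node 89 (BT.node 88 (BT.leaf cJ88) (BT.leaf cJ89)) (BT.leaf cJ90))) (BT.node 94 (BT.node 92 (BT.node 91 (BT.leaf cJ91) (BT.leaf cJ92)) (BT.node 93 (BT.leaf cJ93) (BT.leaf cJ94))) (BT.node 96 (BT.node 95 (BT.leaf cJ95) (BT.leaf cJ96)) (BT.leaf cJ97)))) (BT.node 104 (BT.node 101 (BT.node 99 (BT.node 98 (BT.leaf cJ98) (BT.leaf cJ99)) (BT.node 100 (BT.leaf cJ100) (BT.leaf cJ101))) (BT.node 103 (BT.node 102 (BT.leaf cJ102) (BT.leaf cJ103)) (BT.leaf cJ104))) (BT.node 107 (BT.node 106 (BT.node 105 (BT.leaf cJ105) (BT.leaf cJ106)) (BT.leaf cJ107)) (BT.node 109 (BT.node 108 (BT.leaf cJ108) (BT.leaf cJ109)) (BT.leaf cJ110))))))) (BT.node 165 (BT.node 138 (BT.node 124 (BT.node 117 (BT.node 114 (BT.node 112 (BT.node 111 (BT.leaf cJ111) (BT.leaf cJ112)) (BT.node 113 (BT.leaf cJ113) (BT.leaf cJ114))) (BT.node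 116 (BT.node 115 (BT.leaf cJ115) (BT.leaf cJ116)) (BT.leaf cJ117))) (BT.node 121 (BT.node 119 (BT.node 118 (BT.leaf cJ118) (BT.leaf cJ119)) (BT.node 120 (BT.leaf cJ120) (BT.leaf cJ121))) (BT.node 123 (BT.node 122 (BT.leaf cJ122) (BT.leaf cJ123)) (BT.leaf cJ124)))) (BT.node 131 (BT.node 128 (BT.node 126 (BT.node 125 (BT.leaf cJ125) (BT.leaf cJ126)) (BT.node 127 (BT.leaf cJ127) (BT.leaf cJ128))) (BT.node 130 (BT.node 129 (BT.leaf cJ129) (BT.leaf cJ130)) (BT.leaf cJ131))) (BT.node 135 (BT.node 133 (BT.node 132 (BT.leaf cJ132) (BT.leaf cJ133)) (BT.node 134 (BT.leaf cJ134) (BT.leaf cJ135))) (BT.node 137 (BT.node 136 (BT.leaf cJ136) (BT.leaf cJ137)) (BT.leaf cJ138))))) (BT.node 152 (BT.node 145 (BT.node 142 (BT.node 140 (BT.node 139 (BT.leaf cJ139) (BT.leaf cJ140)) (BT.node 141 (BT.leaf cJ141) (BT.leaf cJ142))) (BT.node 144 (BT.node 143 (BT.leaf cJ143) (BT.leaf cJ144))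 (BT.leaf cJ145))) (BT.node 149 (BT.node 147 (BT.node 146 (BT.leaf cJ146) (BT.leaf cJ147)) (BT.node 148 (BT.leaf cJ148) (BT.leaf cJ149))) (BT.node 151 (BT.node 150 (BT.leaf cJ150) (BT.leaf cJ151)) (BT.leaf cJ152)))) (BT.node 159 (BT.node 156 (BT.node 154 (BT.node 153 (BT.leaf cJ153) (BT.leaf cJ154)) (BT.node 155 (BT.leaf cJ155) (BT.leaf cJ156))) (BT.node 158 (BT.node 157 (BT.leaf cJ157) (BT.leaf cJ158)) (BT.leaf cJ159))) (BT.node 162 (BT.node 161 (BT.node 160 (BT.leaf cJ160) (BT.leaf cJ161)) (BT.leaf cJ162)) (BT.node 164 (BT.node 163 (BT.leaf cJ163) (BT.leaf cJ164)) (BT.leaf cJ165)))))) (BT.node 193 (BT.node 179 (BT.node 172 (BT.node 169 (BT.node 167 (BT.node 166 (BT.leaf cJ166) (BT.leaf cJ167)) (BT.node 168 (BT.leaf cJ168) (BT.leaf cJ169))) (BT.node 171 (BT.node 170 (BT.leaf cJ170) (BT.leaf cJ171)) (BT.leaf cJ172))) (BT.node 176 (BT.node 174 (BT.node 173 (BT.leaf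 cJ173) (BT.leaf cJ174)) (BT.node 175 (BT.leaf cJ175) (BT.leaf cJ176))) (BT.node 178 (BT.node 177 (BT.leaf cJ177) (BT.leaf cJ178)) (BT.leaf cJ179)))) (BT.node 186 (BT.node 183 (BT.node 181 (BT.node 180 (BT.leaf cJ180) (BT.leaf cJ181)) (BT.node 182 (BT.leaf cJ182) (BT.leaf cJ183))) (BT.node 185 (BT.node 184 (BT.leaf cJ184) (BT.leaf cJ185)) (BT.leaf cJ186))) (BT.node 190 (BT.node 188 (BT.node 187 (BT.leaf cJ187) (BT.leaf cJ188)) (BT.node 189 (BT.leaf cJ189) (BT.leaf cJ190))) (BT.node 192 (BT.node 191 (BT.leaf cJ191) (BT.leaf cJ192)) (BT.leaf cJ193))))) (BT.node 207 (BT.node 200 (BT.node 197 (BT.node 195 (BT.node 194 (BT.leaf cJ194) (BT.leaf cJ195)) (BT.node 196 (BT.leaf cJ196) (BT.leaf cJ197))) (BT.node 199 (BT.node 198 (BT.leaf cJ198) (BT.leaf cJ199)) (BT.leaf cJ200))) (BT.node 204 (BT.node 202 (BT.node 201 (BT.leaf cJ201) (BT.leaf cJ202)) (BT.node 203 (BT.leaf cJ203)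 (BT.leaf cJ204))) (BT.node 206 (BT.node 205 (BT.leaf cJ205) (BT.leaf cJ206)) (BT.leaf cJ207)))) (BT.node 214 (BT.node 211 (BT.node 209 (BT.node 208 (BT.leaf cJ208) (BT.leaf cJ209)) (BT.node 210 (BT.leaf cJ210) (BT.leaf cJ211))) (BT.node 213 (BT.node 212 (BT.leaf cJ212) (BT.leaf cJ213)) (BT.leaf cJ214))) (BT.node 217 (BT.node 216 (BT.node 215 (BT.leaf cJ215) (BT.leaf cJ216)) (BT.leaf cJ217)) (BT.node 219 (BT.node 218 (BT.leaf cJ218) (BT.leaf cJ219)) (BT.leaf cJ220)))))))) (BT.node 330 (BT.node 275 (BT.node 248 (BT.node 234 (BT.node 227 (BT.node 224 (BT.node 222 (BT.node 221 (BT.leaf cJ221) (BT.leaf cJ222)) (BT.node 223 (BT.leaf cJ223) (BT.leaf cJ224))) (BT.node 226 (BT.node 225 (BT.leaf cJ225) (BT.leaf cJ226)) (BT.leaf cJ227))) (BT.node 231 (BT.node 229 (BT.node 228 (BT.leaf cJ228) (BT.leaf cJ229)) (BT.node 230 (BT.leaf cJ230) (BT.leaf cJ231))) (BT.node 233 (BT.node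 232 (BT.leaf cJ232) (BT.leaf cJ233)) (BT.leaf cJ234)))) (BT.node 241 (BT.node 238 (BT.node 236 (BT.node 235 (BT.leaf cJ235) (BT.leaf cJ236)) (BT.node 237 (BT.leaf cJ237) (BT.leaf cJ238))) (BT.node 240 (BT.node 239 (BT.leaf cJ239) (BT.leaf cJ240)) (BT.leaf cJ241))) (BT.node 245 (BT.node 243 (BT.node 242 (BT.leaf cJ242) (BT.leaf cJ243)) (BT.node 244 (BT.leaf cJ244) (BT.leaf cJ245))) (BT.node 247 (BT.node 246 (BT.leaf cJ246) (BT.leaf cJ247)) (BT.leaf cJ248))))) (BT.node 262 (BT.node 255 (BT.node 252 (BT.node 250 (BT.node 249 (BT.leaf cJ249) (BT.leaf cJ250)) (BT.node 251 (BT.leaf cJ251) (BT.leaf cJ252))) (BT.node 254 (BT.node 253 (BT.leaf cJ253) (BT.leaf cJ254)) (BT.leaf cJ255))) (BT.node 259 (BT.node 257 (BT.node 256 (BT.leaf cJ256) (BT.leaf cJ257)) (BT.node 258 (BT.leaf cJ258) (BT.leaf cJ259))) (BT.node 261 (BT.node 260 (BT.leaf cJ260) (BT.leaf cJ261)) (BT.leaf cJ262))))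 (BT.node 269 (BT.node 266 (BT.node 264 (BT.node 263 (BT.leaf cJ263) (BT.leaf cJ264)) (BT.node 265 (BT.leaf cJ265) (BT.leaf cJ266))) (BT.node 268 (BT.node 267 (BT.leaf cJ267) (BT.leaf cJ268)) (BT.leaf cJ269))) (BT.node 272 (BT.node 271 (BT.node 270 (BT.leaf cJ270) (BT.leaf cJ271)) (BT.leaf cJ272)) (BT.node 274 (BT.node 273 (BT.leaf cJ273) (BT.leaf cJ274)) (BT.leaf cJ275)))))) (BT.node 303 (BT.node 289 (BT.node 282 (BT.node 279 (BT.node 277 (BT.node 276 (BT.leaf cJ276) (BT.leaf cJ277)) (BT.node 278 (BT.leaf cJ278) (BT.leaf cJ279))) (BT.node 281 (BT.node 280 (BT.leaf cJ280) (BT.leaf cJ281)) (BT.leaf cJ282))) (BT.node 286 (BT.node 284 (BT.node 283 (BT.leaf cJ283) (BT.leaf cJ284)) (BT.node 285 (BT.leaf cJ285) (BT.leaf cJ286))) (BT.node 288 (BT.node 287 (BT.leaf cJ287) (BT.leaf cJ288)) (BT.leaf cJ289)))) (BT.node 296 (BT.node 293 (BT.node 291 (BT.node 290 (BT.leaf cJ290)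 (BT.leaf cJ291)) (BT.node 292 (BT.leaf cJ292) (BT.leaf cJ293))) (BT.node 295 (BT.node 294 (BT.leaf cJ294) (BT.leaf cJ295)) (BT.leaf cJ296))) (BT.node 300 (BT.node 298 (BT.node 297 (BT.leaf cJ297) (BT.leaf cJ298)) (BT.node 299 (BT.leaf cJ299) (BT.leaf cJ300))) (BT.node 302 (BT.node 301 (BT.leaf cJ301) (BT.leaf cJ302)) (BT.leaf cJ303))))) (BT.node 317 (BT.node 310 (BT.node 307 (BT.node 305 (BT.node 304 (BT.leaf cJ304) (BT.leaf cJ305)) (BT.node 306 (BT.leaf cJ306) (BT.leaf cJ307))) (BT.node 309 (BT.node 308 (BT.leaf cJ308) (BT.leaf cJ309)) (BT.leaf cJ310))) (BT.node 314 (BT.node 312 (BT.node 311 (BT.leaf cJ311) (BT.leaf cJ312)) (BT.node 313 (BT.leaf cJ313) (BT.leaf cJ314))) (BT.node 316 (BT.node 315 (BT.leaf cJ315) (BT.leaf cJ316)) (BT.leaf cJ317)))) (BT.node 324 (BT.node 321 (BT.node 319 (BT.node 318 (BT.leaf cJ318) (BT.leaf cJ319)) (BT.node 320 (BT.leaf cJ320) (BT.leaf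 cJ321))) (BT.node 323 (BT.node 322 (BT.leaf cJ322) (BT.leaf cJ323)) (BT.leaf cJ324))) (BT.node 327 (BT.node 326 (BT.node 325 (BT.leaf cJ325) (BT.leaf cJ326)) (BT.leaf cJ327)) (BT.node 329 (BT.node 328 (BT.leaf cJ328) (BT.leaf cJ329)) (BT.leaf cJ330))))))) (BT.node 385 (BT.node 358 (BT.node 344 (BT.node 337 (BT.node 334 (BT.node 332 (BT.node 331 (BT.leaf cJ331) (BT.leaf cJ332)) (BT.node 333 (BT.leaf cJ333) (BT.leaf cJ334))) (BT.node 336 (BT.node 335 (BT.leaf cJ335) (BT.leaf cJ336)) (BT.leaf cJ337))) (BT.node 341 (BT.node 339 (BT.node 338 (BT.leaf cJ338) (BT.leaf cJ339)) (BT.node 340 (BT.leaf cJ340) (BT.leaf cJ341))) (BT.node 343 (BT.node 342 (BT.leaf cJ342) (BT.leaf cJ343)) (BT.leaf cJ344)))) (BT.node 351 (BT.node 348 (BT.node 346 (BT.node 345 (BT.leaf cJ345) (BT.leaf cJ346)) (BT.node 347 (BT.leaf cJ347) (BT.leaf cJ348))) (BT.node 350 (BT.node 349 (BT.leaf cJ349)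 (BT.leaf cJ350)) (BT.leaf cJ351))) (BT.node 355 (BT.node 353 (BT.node 352 (BT.leaf cJ352) (BT.leaf cJ353)) (BT.node 354 (BT.leaf cJ354) (BT.leaf cJ355))) (BT.node 357 (BT.node 356 (BT.leaf cJ356) (BT.leaf cJ357)) (BT.leaf cJ358))))) (BT.node 372 (BT.node 365 (BT.node 362 (BT.node 360 (BT.node 359 (BT.leaf cJ359) (BT.leaf cJ360)) (BT.node 361 (BT.leaf cJ361) (BT.leaf cJ362))) (BT.node 364 (BT.node 363 (BT.leaf cJ363) (BT.leaf cJ364)) (BT.leaf cJ365))) (BT.node 369 (BT.node 367 (BT.node 366 (BT.leaf cJ366) (BT.leaf cJ367)) (BT.node 368 (BT.leaf cJ368) (BT.leaf cJ369))) (BT.node 371 (BT.node 370 (BT.leaf cJ370) (BT.leaf cJ371)) (BT.leaf cJ372)))) (BT.node 379 (BT.node 376 (BT.node 374 (BT.node 373 (BT.leaf cJ373) (BT.leaf cJ374)) (BT.node 375 (BT.leaf cJ375) (BT.leaf cJ376))) (BT.node 378 (BT.node 377 (BT.leaf cJ377) (BT.leaf cJ378)) (BT.leaf cJ379))) (BT.node 382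 (BT.node 381 (BT.node 380 (BT.leaf cJ380) (BT.leaf cJ381)) (BT.leaf cJ382)) (BT.node 384 (BT.node 383 (BT.leaf cJ383) (BT.leaf cJ384)) (BT.leaf cJ385)))))) (BT.node 413 (BT.node 399 (BT.node 392 (BT.node 389 (BT.node 387 (BT.node 386 (BT.leaf cJ386) (BT.leaf cJ387)) (BT.node 388 (BT.leaf cJ388) (BT.leaf cJ389))) (BT.node 391 (BT.node 390 (BT.leaf cJ390) (BT.leaf cJ391)) (BT.leaf cJ392))) (BT.node 396 (BT.node 394 (BT.node 393 (BT.leaf cJ393) (BT.leaf cJ394)) (BT.node 395 (BT.leaf cJ395) (BT.leaf cJ396))) (BT.node 398 (BT.node 397 (BT.leaf cJ397) (BT.leaf cJ398)) (BT.leaf cJ399)))) (BT.node 406 (BT.node 403 (BT.node 401 (BT.node 400 (BT.leaf cJ400) (BT.leaf cJ401)) (BT.node 402 (BT.leaf cJ402) (BT.leaf cJ403))) (BT.node 405 (BT.node 404 (BT.leaf cJ404) (BT.leaf cJ405)) (BT.leaf cJ406))) (BT.node 410 (BT.node 408 (BT.node 407 (BT.leaf cJ407) (BT.leaf cJ408)) (BT.node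 409 (BT.leaf cJ409) (BT.leaf cJ410))) (BT.node 412 (BT.node 411 (BT.leaf cJ411) (BT.leaf cJ412)) (BT.leaf cJ413))))) (BT.node 427 (BT.node 420 (BT.node 417 (BT.node 415 (BT.node 414 (BT.leaf cJ414) (BT.leaf cJ415)) (BT.node 416 (BT.leaf cJ416) (BT.leaf cJ417))) (BT.node 419 (BT.node 418 (BT.leaf cJ418) (BT.leaf cJ419)) (BT.leaf cJ420))) (BT.node 424 (BT.node 422 (BT.node 421 (BT.leaf cJ421) (BT.leaf cJ422)) (BT.node 423 (BT.leaf cJ423) (BT.leaf cJ424))) (BT.node 426 (BT.node 425 (BT.leaf cJ425) (BT.leaf cJ426)) (BT.leaf cJ427)))) (BT.node 434 (BT.node 431 (BT.node 429 (BT.node 428 (BT.leaf cJ428) (BT.leaf cJ429)) (BT.node 430 (BT.leaf cJ430) (BT.leaf cJ431))) (BT.node 433 (BT.node 432 (BT.leaf cJ432) (BT.leaf cJ433)) (BT.leaf cJ434))) (BT.node 437 (BT.node 436 (BT.node 435 (BT.leaf cJ435) (BT.leaf cJ436)) (BT.leaf cJ437)) (BT.node 439 (BT.node 438 (BT.leaf cJ438)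 (BT.leaf cJ439)) (BT.leaf cJ440)))))))))
/-- parent chunks -/
def parCT : BT ℕ := (BT.node 31 (BT.node 15 (BT.node 7 (BT.node 3 (BT.node 1 (BT.node 0 (BT.leaf cP0) (BT.leaf cP1)) (BT.node 2 (BT.leaf cP2) (BT.leaf cP3))) (BT.node 5 (BT.node 4 (BT.leaf cP4) (BT.leaf cP5)) (BT.node 6 (BT.leaf cP6) (BT.leaf cP7)))) (BT.node 11 (BT.node 9 (BT.node 8 (BT.leaf cP8) (BT.leaf cP9)) (BT.node 10 (BT.leaf cP10) (BT.leaf cP11))) (BT.node 13 (BT.node 12 (BT.leaf cP12) (BT.leaf cP13)) (BT.node 14 (BT.leaf cP14) (BT.leaf cP15))))) (BT.node 23 (BT.node 19 (BT.node 17 (BT.node 16 (BT.leaf cP16) (BT.leaf cP17)) (BT.node 18 (BT.leaf cP18) (BT.leaf cP19))) (BT.node 21 (BT.node 20 (BT.leaf cP20) (BT.leaf cP21)) (BT.node 22 (BT.leaf cP22) (BT.leaf cP23)))) (BT.node 27 (BT.node 25 (BT.node 24 (BT.leaf cP24) (BT.leaf cP25)) (BT.node 26 (BT.leaf cP26) (BT.leaf cP27))) (BT.node 29 (BT.node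 28 (BT.leaf cP28) (BT.leaf cP29)) (BT.node 30 (BT.leaf cP30) (BT.leaf cP31)))))) (BT.node 47 (BT.node 39 (BT.node 35 (BT.node 33 (BT.node 32 (BT.leaf cP32) (BT.leaf cP33)) (BT.node 34 (BT.leaf cP34) (BT.leaf cP35))) (BT.node 37 (BT.node 36 (BT.leaf cP36) (BT.leaf cP37)) (BT.node 38 (BT.leaf cP38) (BT.leaf cP39)))) (BT.node 43 (BT.node 41 (BT.node 40 (BT.leaf cP40) (BT.leaf cP41)) (BT.node 42 (BT.leaf cP42) (BT.leaf cP43))) (BT.node 45 (BT.node 44 (BT.leaf cP44) (BT.leaf cP45)) (BT.node 46 (BT.leaf cP46) (BT.leaf cP47))))) (BT.node 55 (BT.node 51 (BT.node 49 (BT.node 48 (BT.leaf cP48) (BT.leaf cP49)) (BT.node 50 (BT.leaf cP50) (BT.leaf cP51))) (BT.node 53 (BT.node 52 (BT.leaf cP52) (BT.leaf cP53)) (BT.node 54 (BT.leaf cP54) (BT.leaf cP55)))) (BT.node 59 (BT.node 57 (BT.node 56 (BT.leaf cP56) (BT.leaf cP57)) (BT.node 58 (BT.leaf cP58) (BT.leaf cP59))) (BT.node 61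 (BT.node 60 (BT.leaf cP60) (BT.leaf cP61)) (BT.leaf cP62))))))
/-- the certificate -/
def data : Data where
  k := 6
  N := 31910
  W := 29
  MW := 536870912
  B := 32768
  CH := 512
  NCH := 63
  colE := colET
  JW := 64
  MJ := 18446744073709551616
  A := 1048576
  colJ := colJT
  PW := 24
  MP := 16777216
  parC := parCT
  inv := (BT.node 3 (BT.node 1 (BT.node 0 (BT.leaf 1) (BT.leaf 0)) (BT.node 2 (BT.leaf 3) (BT.leaf 2))) (BT.node 5 (BT.node 4 (BT.leaf 5) (BT.leaf 4)) (BT.leaf 6)))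
  rel := relT
  sub := subT
  fuel := 64

end Cfsg.Agent.Lib.Helper28.TCHeS1Data
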