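import Cfsg.Agent.Lib.Helper28.SchurL216
import Cfsg.Agent.Lib.Helper28.TCHeS1Main
import Cfsg.Agent.Lib.Helper28.FoxHeS1P2Chk
import Cfsg.Agent.Lib.Helper28.FoxHeS1P3Chk
import Cfsg.Agent.Lib.Helper28.FoxHeS1P5Chk

set_option autoImplicit false
set_option maxRecDepth 100000

/-!
# The presented group `⟨x, y, z | …⟩` of order at most 979200 (the group `Sp₄(4)`)

If its order is exactly 979200, it has trivial Schur multiplier.
-/

namespace Cfsg.Agent.Lib.Helper28.SchurSp44

open Cfsg.Agent.Lib.Helper28.SchurFox Cfsg.Agent.Lib.Helper28.TC2Lower Cfsg.Agent.Lib.Helper28.TC2Glue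
open Cfsg.Agent.Lib.Helper28.TC2Tower
open Cfsg.Agent.Lib.Helper28.TCHeS1Link Cfsg.Agent.Lib.Helper28.TCHeS1Table
open Cfsg.Agent.Lib.Helper28.TCHeS1Main
open Cfsg.Agent.Lib.Helper28.TCHeS1Def (Gen)
open Cfsg.Agent.Lib.Helper28.SchurL216 (PL)

/-- the presented group -/
abbrev PS : Type := PresentedGroup rels

/-- the subgroup generated by `x` and `y` -/
abbrev H : Subgroup PS := (Subgroup.closure S).map (PresentedGroup.mk rels)

/-- index of a generator -/
def gi : Gen → ℕ
  | .x => 0
  | .y => 1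
  | .z => 2

theorem hlw : ∀ g b, lw (g, b) = 2 * gi g + cond b 0 1 := by
  rintro g b; cases g <;> cases b <;> rfl

theorem hgi : Function.Injective gi := by
  intro g h e; cases g <;> cases h <;> simp_all [gi]

theorem hlwk : ∀ g, lw (g, true) < table.k := by
  intro g; cases g <;> decide

theorem hDd : ∀ k < 3, ∃ g, gi g = k := by
  intro k hk
  interval_cases k
  exacts [⟨.x, rfl⟩, ⟨.y, rfl⟩, ⟨.z, rfl⟩]

theorem up_rel : ∀ L ∈ Cfsg.Agent.Lib.Helper28.TCHeS2Link.relWords,
    upWord Cfsg.Agent.Lib.Helper28.TCHeS2Def.up L ∈ relWords := by decide +kernel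

theorem hrelmap : ∀ r ∈ Cfsg.Agent.Lib.Helper28.TCHeS2Link.rels,
    FreeGroup.map Cfsg.Agent.Lib.Helper28.TCHeS2Def.up r ∈ rels :=
  hrel_of_words rels Cfsg.Agent.Lib.Helper28.TCHeS2Link.rels Cfsg.Agent.Lib.Helper28.TCHeS2Def.up relWords
    Cfsg.Agent.Lib.Helper28.TCHeS2Link.relWords link.hrels Cfsg.Agent.Lib.Helper28.TCHeS2Link.link.hrels up_rel

theorem hψrel : ∀ r ∈ Cfsg.Agent.Lib.Helper28.TCHeS2Link.rels,
    FreeGroup.lift (fun g => (PresentedGroup.of (Cfsg.Agent.Lib.Helper28.TCHeS2Def.up g) : PS)) r = 1 := by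
  intro r hr
  have key : FreeGroup.lift (fun g => (PresentedGroup.of (Cfsg.Agent.Lib.Helper28.TCHeS2Def.up g) : PS)) =
      (PresentedGroup.mk rels).comp (FreeGroup.map Cfsg.Agent.Lib.Helper28.TCHeS2Def.up) := by
    ext g
    simp [PresentedGroup.of]
  rw [key]
  exact PresentedGroup.one_of_mem (hrelmap r hr)

/-- the map from the presented group of order at most 4080 -/
noncomputable def ψ : PL →* PS := PresentedGroup.toGroup hψrel

theorem ψ_of (g : Cfsg.Agent.Lib.Helper28.TCHeS2Def.Gen) :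
    ψ (PresentedGroup.of g) = PresentedGroup.of (Cfsg.Agent.Lib.Helper28.TCHeS2Def.up g) :=
  PresentedGroup.toGroup.of hψrel

theorem range_ψ : ψ.range = H := by
  rw [MonoidHom.range_eq_map, ← PresentedGroup.closure_range_of, MonoidHom.map_closure, ← Set.range_comp]
  show _ = (Subgroup.closure {FreeGroup.of Gen.x, FreeGroup.of Gen.y}).map _
  rw [MonoidHom.map_closure]
  congr 1
  ext w
  constructor
  · rintro ⟨g, rfl⟩
    cases g
    · exact ⟨FreeGroup.of Gen.x, by simp, (ψ_of .x).symm⟩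
    · exact ⟨FreeGroup.of Gen.y, by simp, (ψ_of .y).symm⟩
  · rintro ⟨v, hv, rfl⟩
    simp only [Set.mem_insert_iff, Set.mem_singleton_iff] at hv
    rcases hv with rfl | rfl
    · exact ⟨.x, ψ_of .x⟩
    · exact ⟨.y, ψ_of .y⟩

theorem index_H : H.index = 240 := main.1

theorem card_H_le : Nat.card H ≤ 4080 := by
  rw [← range_ψ]
  calc Nat.card ψ.range ≤ Nat.card PL := Nat.card_le_card_of_surjective ψ.rangeRestrict ψ.rangeRestrict_surjective
    _ ≤ 4080 := Cfsg.Agent.Lib.Helper28.SchurL216.card_le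

theorem finite_H : Finite H := by
  rw [← range_ψ]
  exact Finite.of_surjective ψ.rangeRestrict ψ.rangeRestrict_surjective

instance finite_PS : Finite PS := by
  have := finite_H
  exact finite_of_index H (by rw [index_H]; norm_num)

theorem card_le : Nat.card PS ≤ 979200 :=
  card_le_of_index H index_H card_H_le

theorem prime_dvd_240 {p : ℕ} (hp : p.Prime) (h : p ∣ 240) : p = 2 ∨ p = 3 ∨ p = 5 :=
  Cfsg.Agent.Lib.Helper28.SchurL216.prime_dvd_240 hp h

theorem hpaths2 : FoxHeS1P2.data.paths = relWords.map (pathOf lw) := by decide +kernel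
theorem hpaths3 : FoxHeS1P3.data.paths = relWords.map (pathOf lw) := by decide +kernel
theorem hpaths5 : FoxHeS1P5.data.paths = relWords.map (pathOf lw) := by decide +kernel

theorem perfect_H : ⁅H, H⁆ = H := by
  have h1 : H = (⊤ : Subgroup PL).map ψ := by rw [← MonoidHom.range_eq_map, range_ψ]
  rw [h1, ← Subgroup.map_commutator, ← commutator_def, Cfsg.Agent.Lib.Helper28.SchurL216.perfect]

section Exact
variable (hcard : Nat.card PS = 979200)
include hcard

theorem card_H : Nat.card H = 4080 := by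
  have h := H.index_mul_card
  rw [index_H, hcard] at h
  omega

/-- the subgroup is the presented group of order 4080 -/
noncomputable def eL : PL ≃* ↥H := by
  have hr : ∀ g, ψ g ∈ H := fun g => by rw [← range_ψ]; exact ⟨g, rfl⟩
  let ψ' : PL →* ↥H := ψ.codRestrict H hr
  have hs : Function.Surjective ψ' := by
    rintro ⟨v, hv⟩
    rw [← range_ψ] at hv
    obtain ⟨g, rfl⟩ := hv
    exact ⟨g, rfl⟩
  exact MulEquiv.ofBijective ψ' (hs.bijective_of_nat_card_le (by
    rw [card_H hcard]; exact Cfsg.Agent.Lib.Helper28.SchurL216.card_le))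

theorem trivMult_H : TrivMult ↥H := Cfsg.Agent.Lib.Helper28.SchurL216.trivMult.congr (eL hcard)

/-- every finite stem extension of the presented group is an isomorphism -/
theorem trivMult : TrivMult PS := by
  apply trivMult_of_exp
  intro p hp Γ _ _ σ hσ hexp
  obtain ⟨hidx, φ, hφ, f, hf, hfe, _⟩ := main
  obtain ⟨R⟩ := retraction_of_perfect σ hσ.1 hσ.2.1 H perfect_H (trivMult_H hcard)
  by_cases hdiv : p ∣ 240
  · rcases prime_dvd_240 hp hdiv with rfl | rfl | rfl
    · exact ker_eq_bot_of_fox rels relWords lw gi link.hrels hlw hgi H table hT hlwk φ hφ f hf hfe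
        FoxHeS1P2.data rfl hDd hpaths2 FoxHeS1P2Chk.hstatic FoxHeS1P2Chk.hcyc σ hσ hexp R
    · exact ker_eq_bot_of_fox rels relWords lw gi link.hrels hlw hgi H table hT hlwk φ hφ f hf hfe
        FoxHeS1P3.data rfl hDd hpaths3 FoxHeS1P3Chk.hstatic FoxHeS1P3Chk.hcyc σ hσ hexp R
    · exact ker_eq_bot_of_fox rels relWords lw gi link.hrels hlw hgi H table hT hlwk φ hφ f hf hfe
        FoxHeS1P5.data rfl hDd hpaths5 FoxHeS1P5Chk.hstatic FoxHeS1P5Chk.hcyc σ hσ hexp R
  · have hi : (H.comap σ).index = 240 := by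
      rw [Subgroup.index_comap_of_surjective H hσ.1]; exact index_H
    have : (H.comap σ).FiniteIndex := ⟨by rw [hi]; norm_num⟩
    refine ker_eq_bot_of_transfer σ hσ p hexp (H.comap σ) ?_ R.comm_inter
    rw [hi]
    exact ((Nat.Prime.coprime_iff_not_dvd hp).mpr hdiv).symm

end Exact

/-- the left inverse of the exponent matrix -/
def Smat : List (List ℤ) := [[269, -15, -135, 1, 0, 0, 0, 0], [18, -1, -9, 0, 0, 0, 0, 0], [269, -15, -135, 1, 0, -2, 1, 0]]

theorem perfect : commutator PS = ⊤ := by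
  apply commutator_eq_top_of_matrix rels relWords lw gi link.hrels hlw hgi 3 (by intro g; cases g <;> decide)
    (fun y j => (Smat.getD y []).getD j 0)
  decide +kernel

end Cfsg.Agent.Lib.Helper28.SchurSp44
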