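import Mathlib
import Cfsg.Prelude.Def_GeometricClasses
import Cfsg.Agent.Lib.Helper25.SpTDefs
import Cfsg.Agent.Lib.Helper27.SpTGDefs
import Cfsg.Agent.Lib.Helper27.SpTGB
import Cfsg.Agent.Lib.Helper23.SpTGS
import Cfsg.Agent.Lib.Helper28.SpTGG2Core

/-!
S5704 Stage III (G), leaves G2 `P3_of_one` and G2' `P1_of_one` (helper27's sub-market), exact signatures:
the cores of `SpTGG2Core.lean` with helper23's S7 (`forall_of_tva_invariant`).
-/

set_option autoImplicit false
set_option linter.unusedSectionVars false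
set_option linter.unusedVariables false

namespace Cfsg.Agent.Lib.Helper28.SpTGLeaf
open Matrix QuadraticMap
open Cfsg.Agent.Lib.Helper25.Tens Cfsg.Agent.Lib.Helper25.SpT Cfsg.Agent.Lib.Helper19.OSub
  Cfsg.Agent.Lib.Helper27.SpTG
open scoped commutatorElement

variable {F : Type*} [Field F] {a b : ℕ} {Q : QuadraticForm F (Idx a b → F)}
  {M : Subgroup (GL (Idx a b) F)}

section G
variable [Fintype F]

theorem s7Stmt : S7Stmt F := fun hn Φ hinv _ hx₀ h0 =>
  Cfsg.Agent.Lib.Helper23.SpTGLeaf.forall_of_tva_invariant hn Φ hinv hx₀ h0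

/-- G2: transport of type T3 to all centres (S7 twice, B4, B4', S3, S3', B0). -/
theorem P3_of_one (h : GCtx a b Q M) {x : Fin a → F} {y : Fin b → F} (hx : x ≠ 0) (hy : y ≠ 0)
    (hfull : ∀ w : Fin b → F, sf y w = 0 → RR Q M x y x w) : P3 Q M :=
  P3_of_one_core s7Stmt h hx hy hfull

/-- G2': transport of type T1. -/
theorem P1_of_one (h : GCtx a b Q M) {x : Fin a → F} {y : Fin b → F} (hx : x ≠ 0) (hy : y ≠ 0)
    (hfull : ∀ z : Fin a → F, sf x z = 0 → RR Q M x y z y) : P1 Q M :=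
  P1_of_one_core s7Stmt h hx hy hfull

end G

end Cfsg.Agent.Lib.Helper28.SpTGLeaf
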