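import Mathlib
import Cfsg.Prelude.Def_GeometricClasses
import Cfsg.Agent.Lib.Helper5.TSMax
import Cfsg.Agent.Lib.Helper20.OSubDEC
import Cfsg.Agent.Lib.Helper25.SpTDefs
import Cfsg.Agent.Lib.Helper27.SpTGDefs

/-!
S5704 Stage III (G), leaf G7 `rt_mem_of_PAll` (helper27's sub-market): all pure root elements with centre a
basis tensor give ALL root elements with that centre (DEC = `Helper20.OSubLeaf.rt_list_prod`).
-/

set_option autoImplicit false
set_option linter.unusedSectionVars false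
set_option linter.unusedVariables false

namespace Cfsg.Agent.Lib.Helper28.SpTGLeaf
open Matrix QuadraticMap
open Cfsg.Agent.Lib.Helper25.Tens Cfsg.Agent.Lib.Helper25.SpT Cfsg.Agent.Lib.Helper19.OSub
  Cfsg.Agent.Lib.Helper27.SpTG
open scoped commutatorElement

variable {F : Type*} [Field F] {a b : ℕ} {Q : QuadraticForm F (Idx a b → F)}
  {M : Subgroup (GL (Idx a b) F)}

section G
variable [Fintype F]

/-- the case `c = 1` of G7 -/
theorem rt_mem_of_PAll_one (h : GCtx a b Q M) (hall : PAll Q M) (i : Fin a) (j : Fin b)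
    {v : Idx a b → F} (hQv : Q v = 0)
    (huv : polar Q (pt (Pi.single i (1 : F)) (Pi.single j (1 : F))) v = 0) :
    rt Q (pt (Pi.single i (1 : F)) (Pi.single j (1 : F))) v 1 ∈ M := by
  obtain ⟨u, hu⟩ : ∃ u : Idx a b → F, u = pt (Pi.single i (1 : F)) (Pi.single j (1 : F)) :=
    ⟨_, rfl⟩
  rw [← hu] at huv ⊢
  have hQu : Q u = 0 := by rw [hu]; exact h.pure _ _
  obtain ⟨E, hE⟩ : ∃ E : Idx a b → (Idx a b → F),
      E = fun p => pt (Pi.single p.1 (1 : F)) (Pi.single p.2 (1 : F)) := ⟨_, rfl⟩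
  have hQE : ∀ p, Q (E p) = 0 := fun p => by rw [hE]; exact h.pure _ _
  have hpolE : ∀ p : Idx a b, polar Q u (E p) = Jm a i p.1 * Jm b j p.2 := by
    intro p
    rw [hu, hE, h.pol, sf_single_single, sf_single_single]
  obtain ⟨p0, hp0⟩ : ∃ p0 : Idx a b, p0 = (pr h.ea i, pr h.eb j) := ⟨_, rfl⟩
  have hpol0 : ∀ p : Idx a b, p ≠ p0 → polar Q u (E p) = 0 := by
    intro p hp
    rw [hpolE]
    by_cases h1 : p.1 = pr h.ea i
    · have h2 : p.2 ≠ pr h.eb j := by
        intro h2
        apply hp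
        rw [hp0]
        exact Prod.ext h1 h2
      rw [Jm_eq_zero_of_ne h.eb j p.2 h2, mul_zero]
    · rw [Jm_eq_zero_of_ne h.ea i p.1 h1, zero_mul]
  have hv : v = ∑ p : Idx a b, v p • E p := by
    conv_lhs => rw [eq_sum_pt v]
    rw [hE, Fintype.sum_prod_type]
  have hvp0 : v p0 = 0 := by
    have h1 : polar Q u v = ∑ p : Idx a b, v p * polar Q u (E p) := by
      conv_lhs => rw [hv]
      rw [← polarBilin_apply_apply, map_sum]
      apply Finset.sum_congr rfl
      intro p _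
      rw [map_smul, smul_eq_mul, polarBilin_apply_apply]
    rw [Finset.sum_eq_single p0 (fun p _ hp => by rw [hpol0 p hp, mul_zero])
      (fun hn => absurd (Finset.mem_univ _) hn), huv, hpolE, hp0] at h1
    have h2 : (Jm a i (pr h.ea i) : F) * Jm b j (pr h.eb j) ≠ 0 :=
      mul_ne_zero (Jm_pr_ne_zero h.ea i) (Jm_pr_ne_zero h.eb j)
    rcases mul_eq_zero.1 h1.symm with h3 | h3
    · rw [hp0]; exact h3
    · exact absurd h3 h2
  obtain ⟨l, hl⟩ : ∃ l : List ((Idx a b → F) × F),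
      l = ((Finset.univ.erase p0).toList.map (fun p => (E p, v p))) := ⟨_, rfl⟩
  have hlmem : ∀ q ∈ l, ∃ p : Idx a b, p ≠ p0 ∧ q = (E p, v p) := by
    intro q hq
    rw [hl, List.mem_map] at hq
    obtain ⟨p, hp, rfl⟩ := hq
    rw [Finset.mem_toList, Finset.mem_erase] at hp
    exact ⟨p, hp.1, rfl⟩
  have hl2 : ∀ q ∈ l, Q q.1 = 0 ∧ polar Q u q.1 = 0 := by
    intro q hq
    obtain ⟨p, hp, rfl⟩ := hlmem q hq
    exact ⟨hQE p, hpol0 p hp⟩
  have hsum : (l.map (fun p => p.2 • p.1)).sum = v := by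
    rw [hl, List.map_map]
    have h1 : ((fun p : (Idx a b → F) × F => p.2 • p.1) ∘ fun p : Idx a b => (E p, v p))
        = fun p : Idx a b => v p • E p := by
      funext p
      rfl
    rw [h1, Finset.sum_map_toList, Finset.sum_erase _ (by rw [hvp0, zero_smul])]
    exact hv.symm
  have key := Cfsg.Agent.Lib.Helper20.OSubLeaf.rt_list_prod hQu l hl2 hQv huv (θ := 0)
    (by rw [hsum, zero_smul, add_zero])
  rw [key]
  apply Subgroup.list_prod_mem
  intro g hg
  rw [List.mem_map] at hg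
  obtain ⟨q, hq, rfl⟩ := hg
  obtain ⟨p, hp, rfl⟩ := hlmem q hq
  rw [hu, hE]
  exact hall (Pi.single i 1) (Pi.single p.1 1) (Pi.single j 1) (Pi.single p.2 1) (v p)

/-- G7: all pure root elements with centre a basis tensor give ALL root elements with that centre (DEC =
`Helper20.OSubLeaf.rt_list_prod`: `v = ∑_{(k,l)} v (k,l) • e_k⊗e_l`, and `polar (e_i⊗e_j) v = 0` kills the
coefficient of the only basis tensor `e_{pr i}⊗e_{pr j}` not perpendicular to `e_i⊗e_j`). -/
theorem rt_mem_of_PAll (h : GCtx a b Q M) (hall : PAll Q M) (i : Fin a) (j : Fin b)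
    {v : Idx a b → F} (hQv : Q v = 0)
    (huv : polar Q (pt (Pi.single i (1 : F)) (Pi.single j (1 : F))) v = 0) (c : F) :
    rt Q (pt (Pi.single i (1 : F)) (Pi.single j (1 : F))) v c ∈ M := by
  have hQu : Q (pt (Pi.single i (1 : F)) (Pi.single j (1 : F))) = 0 := h.pure _ _
  have hQcv : Q (c • v) = 0 := by rw [QuadraticMap.map_smul, hQv, smul_zero]
  have hucv : polar Q (pt (Pi.single i (1 : F)) (Pi.single j (1 : F))) (c • v) = 0 := by
    rw [polar_smul_right, huv, smul_zero]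
  have h1 := rt_mem_of_PAll_one h hall i j hQcv hucv
  rw [rt_smul_right hQu hQv huv, mul_one] at h1
  exact h1

end G

end Cfsg.Agent.Lib.Helper28.SpTGLeaf
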