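import Cfsg.Agent.Lib.Helper28.PcCert
set_option autoImplicit false

/-!
# A small table linked to a big one

A subgroup given by letters that are words of a big table acts on a small invariant set of points.  The
small table lists the action of the letters on these points, and in one more column the points themselves.
If the invariant set contains a base of the big table, the word problem for the letters is solved by walking
in the small table.
-/

namespace Cfsg.Agent.Lib.Helper28.SubTab
open Cfsg.Agent.Lib.Helper28.TC2Upper Cfsg.Agent.Lib.Helper28.TC2Lower Cfsg.Agent.Lib.Helper28.TC2Range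
open Cfsg.Agent.Lib.Helper28.TC2Bsgs Cfsg.Agent.Lib.Helper28.PcCert

/-- what the checkers need from a model of the letters -/
structure WModel (TS : Table) (kk : ℕ) (BS : List ℕ) (X : Type*) [Group X] where
  /-- the elements of the letters -/
  η : ℕ → X
  eq_of_agree : ∀ {u v : List ℕ}, ltAll kk u = true → ltAll kk v = true → agreeB TS BS u v = true →
    pathProd η u = pathProd η v
  ne_of_walk : ∀ {u v : List ℕ}, ltAll kk u = true → ltAll kk v = true → ∀ b, b < TS.n →
    TS.walkT u b ≠ TS.walkT v b → pathProd η u ≠ pathProd η v

section Link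
variable (T TS : Table) (kk : ℕ) (defs : BT (List ℕ))

/-- the point of the big table with index `x` -/
noncomputable def iota (x : ℕ) : ℕ := TS.tau kk x

/-- the row `x` of the small table is right -/
noncomputable def linkRow (x : ℕ) : Bool :=
  and (and (Nat.blt (iota TS kk x) T.n) (cond (Nat.blt (Nat.succ x) TS.n) (Nat.blt (iota TS kk x) (iota TS kk (Nat.succ x))) true))
    (allLoop (fun l => and (Nat.blt (TS.tau l x) TS.n)
      (Nat.beq (T.walkT (defs.look l) (iota TS kk x)) (iota TS kk (TS.tau l x)))) kk)

/-- the rows `lo, …, lo + cnt - 1` are right -/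
noncomputable def linkRange (lo cnt : ℕ) : Bool := allLoop (fun i => linkRow T TS kk defs (Nat.add lo i)) cnt

theorem linkRange_iff (lo cnt : ℕ) :
    linkRange T TS kk defs lo cnt = true ↔ ∀ x, lo ≤ x → x < lo + cnt → linkRow T TS kk defs x = true := by
  unfold linkRange
  exact allLoop_add_iff (fun v => linkRow T TS kk defs v) lo cnt

/-- the letters of the definitions are letters of the big table -/
noncomputable def defsOK : Bool :=
  allLoop (fun l => (defs.look l).all fun a => Nat.blt a T.k) kk

/-- the link of the two tables -/
structure Link : Prop where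
  lt : ∀ x, x < TS.n → iota TS kk x < T.n
  mono : ∀ x, x + 1 < TS.n → iota TS kk x < iota TS kk (x + 1)
  step : ∀ l, l < kk → ∀ x, x < TS.n → TS.tau l x < TS.n ∧
    T.walkT (defs.look l) (iota TS kk x) = iota TS kk (TS.tau l x)
  deflt : ∀ l, l < kk → ∀ a ∈ defs.look l, a < T.k

theorem link_of_rows (h : ∀ x, x < TS.n → linkRow T TS kk defs x = true) (hd : defsOK T kk defs = true) :
    Link T TS kk defs := by
  refine ⟨fun x hx => ?_, fun x hx => ?_, fun l hl x hx => ?_, fun l hl a ha => ?_⟩
  · have := h x hx
    unfold linkRow at this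
    simp only [Bool.and_eq_true, Nat.blt_eq] at this
    exact this.1.1
  · have := h x (by omega)
    unfold linkRow at this
    simp only [Bool.and_eq_true] at this
    have h2 := this.1.2
    have h3 : Nat.blt (Nat.succ x) TS.n = true := by rw [Nat.blt_eq]; omega
    rw [h3] at h2
    simpa [Nat.blt_eq] using h2
  · have := h x hx
    unfold linkRow at this
    simp only [Bool.and_eq_true] at this
    have h2 := this.2
    rw [allLoop_eq_true] at h2
    have h3 := h2 l hl
    rw [Bool.and_eq_true, Nat.blt_eq, Data.nbeq_iff] at h3
    exact h3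
  · unfold defsOK at hd
    rw [allLoop_eq_true] at hd
    have := hd l hl
    rw [List.all_eq_true] at this
    simpa [Nat.blt_eq] using this a ha

variable {T TS kk defs}

/-- the expanded path -/
noncomputable def expand (defs : BT (List ℕ)) : List ℕ → List ℕ
  | [] => []
  | l :: ls => defs.look l ++ expand defs ls

theorem expand_lt (L : Link T TS kk defs) (u : List ℕ) (hu : ∀ l ∈ u, l < kk) :
    ∀ a ∈ expand defs u, a < T.k := by
  induction u with
  | nil => intro a ha; simp [expand] at ha
  | cons l ls ih =>
    intro a ha
    simp only [expand, List.mem_append] at ha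
    rcases ha with ha | ha
    · exact L.deflt l (hu l List.mem_cons_self) a ha
    · exact ih (fun x hx => hu x (List.mem_cons_of_mem _ hx)) a ha

theorem walk_expand (L : Link T TS kk defs) (u : List ℕ) (hu : ∀ l ∈ u, l < kk) :
    ∀ x, x < TS.n → TS.walkT u x < TS.n ∧
      T.walkT (expand defs u) (iota TS kk x) = iota TS kk (TS.walkT u x) := by
  induction u with
  | nil => intro x hx; exact ⟨hx, rfl⟩
  | cons l ls ih =>
    intro x hx
    obtain ⟨h1, h2⟩ := L.step l (hu l List.mem_cons_self) x hx
    obtain ⟨h3, h4⟩ := ih (fun y hy => hu y (List.mem_cons_of_mem _ hy)) _ h1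
    rw [TC2Lower.Table.walkT_cons]
    refine ⟨h3, ?_⟩
    show T.walkT (defs.look l ++ expand defs ls) _ = _
    rw [Table.walkT_append, h2, h4]

theorem iota_lt_of_lt (L : Link T TS kk defs) : ∀ y, y < TS.n → ∀ x, x < y → iota TS kk x < iota TS kk y := by
  intro y
  induction y with
  | zero => intro _ x hx; omega
  | succ y ih =>
    intro hy x hx
    have h1 := L.mono y hy
    rcases Nat.lt_or_ge x y with h | h
    · exact lt_trans (ih (by omega) x h) h1
    · have : x = y := by omega
      rw [this]; exact h1

theorem iota_inj (L : Link T TS kk defs) {x y : ℕ} (hx : x < TS.n) (hy : y < TS.n)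
    (h : iota TS kk x = iota TS kk y) : x = y := by
  rcases Nat.lt_trichotomy x y with h1 | h1 | h1
  · have := iota_lt_of_lt L y hy x h1; omega
  · exact h1
  · have := iota_lt_of_lt L x hx y h1; omega

end Link

section Model
variable {T : Table} {hT : T.OK} {B : List ℕ} {X : Type*} [Group X] (M : Model hT B X)
variable {TS : Table} {kk : ℕ} {defs : BT (List ℕ)}

/-- the elements of the letters of the small table -/
noncomputable def etaS (defs : BT (List ℕ)) (l : ℕ) : X := pathProd M.η (defs.look l)

theorem pathProd_etaS (u : List ℕ) : pathProd (etaS M defs) u = pathProd M.η (expand defs u) := by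
  induction u with
  | nil => rfl
  | cons l ls ih =>
    show pathProd (etaS M defs) ls * etaS M defs l = pathProd M.η (defs.look l ++ expand defs ls)
    rw [pathProd_append, ih]
    rfl

theorem phi_pathProd (u : List ℕ) (hu : ∀ a ∈ u, a < T.k) (p : Fin T.n) :
    (M.Φ (pathProd M.η u) p).val = T.walkT u p.val := by
  rw [map_pathProd M.Φ M.η (Table.sigma hT) u fun l hl => M.hη l (hu l hl),
    Table.pathProd_sigma_apply hT u hu]

/-- the model of the small table -/
noncomputable def wmodel (L : Link T TS kk defs) (BS : List ℕ) (hBS : BS.map (iota TS kk) = B)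
    (hlt : ∀ b ∈ BS, b < TS.n) : WModel TS kk BS X where
  η := etaS M defs
  eq_of_agree := by
    intro u v hu hv h
    rw [ltAll_iff] at hu hv
    rw [pathProd_etaS, pathProd_etaS]
    apply M.inj
    rw [map_pathProd M.Φ M.η (Table.sigma hT) _ fun l hl => M.hη l (expand_lt L u hu l hl),
      map_pathProd M.Φ M.η (Table.sigma hT) _ fun l hl => M.hη l (expand_lt L v hv l hl)]
    apply M.faithful.eq _ _ (expand_lt L u hu) (expand_lt L v hv)
    intro b hb
    rw [← hBS, List.mem_map] at hb
    obtain ⟨bs, hbs, rfl⟩ := hb
    have h1 := (agreeB_iff TS BS u v).mp h bs hbs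
    rw [(walk_expand L u hu bs (hlt bs hbs)).2, (walk_expand L v hv bs (hlt bs hbs)).2, h1]
  ne_of_walk := by
    intro u v hu hv b hb hne heq
    rw [ltAll_iff] at hu hv
    rw [pathProd_etaS, pathProd_etaS] at heq
    have hbn : iota TS kk b < T.n := L.lt b hb
    have h1 := phi_pathProd M (expand defs u) (expand_lt L u hu) ⟨_, hbn⟩
    have h2 := phi_pathProd M (expand defs v) (expand_lt L v hv) ⟨_, hbn⟩
    rw [heq, h2] at h1
    rw [(walk_expand L u hu b hb).2, (walk_expand L v hv b hb).2] at h1
    exact hne (iota_inj L (walk_expand L u hu b hb).1 (walk_expand L v hv b hb).1 h1.symm)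

end Model

end Cfsg.Agent.Lib.Helper28.SubTab
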