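import Cfsg.Agent.Lib.Helper28.TC2Upper
import Cfsg.Agent.Lib.Helper28.TCSuzEDataC0
import Cfsg.Agent.Lib.Helper28.TCSuzEDataC1
set_option autoImplicit false
set_option maxRecDepth 100000

namespace Cfsg.Agent.Lib.Helper28.TCSuzEData
open Cfsg.Agent.Lib.Helper28.TC2Upper

/-- relators -/
def relT : BT (ℕ × List ℕ × List ℕ) := (BT.node 192 (BT.node 96 (BT.node 48 (BT.node 24 (BT.node 12 (BT.node 6 (BT.node 3 (BT.node 1 (BT.node 0 (BT.leaf (6, [1, 1, 1, 0, 0, 0], [1, 1, 1, 0, 0, 0])) (BT.leaf (6, [3, 1, 1, 2, 0, 0], [1, 1, 3, 0, 0, 2]))) (BT.node 2 (BT.leaf (6, [5, 1, 1, 4, 0, 0], [1, 1, 5, 0, 0, 4])) (BT.leaf (6, [7, 1, 1, 6, 0, 0], [1, 1, 7, 0, 0, 6])))) (BT.node 5 (BT.node 4 (BT.leaf (6, [9, 1, 1, 8, 0, 0], [1, 1, 9, 0, 0, 8])) (BT.leaf (6, [11, 1, 1, 10, 0,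 0], [1, 1, 11, 0, 0, 10]))) (BT.leaf (6, [13, 1, 1, 12, 0, 0], [1, 1, 13, 0, 0, 12])))) (BT.node 9 (BT.node 8 (BT.node 7 (BT.leaf (22, [1, 1, 3, 1, 3, 1, 3, 1, 3, 1, 3, 0, 2, 0, 2, 0, 2, 0, 2, 0, 2, 0], [1, 3, 1, 3, 1, 3, 1, 3, 1, 3, 1, 2, 0, 2, 0, 2, 0, 2, 0, 2, 0, 0])) (BT.leaf (22, [3, 1, 3, 1, 3, 1, 3, 1, 3, 1, 3, 2, 2, 0, 2, 0, 2, 0, 2, 0, 2, 0], [1, 3, 1, 3, 1, 3, 1, 3, 1, 3, 3, 2, 0, 2, 0, 2, 0, 2, 0, 2, 0, 2]))) (BT.leaf (22, [5, 1, 3, 1, 3, 1, 3, 1, 3, 1, 3, 4, 2, 0, 2, 0, 2, 0, 2, 0, 2, 0], [1, 3, 1, 3, 1, 3, 1, 3, 1, 3, 5, 2, 0, 2, 0, 2, 0, 2, 0, 2, 0, 4]))) (BT.node 11 (BT.node 10 (BT.leaf (22, [7, 1, 3, 1, 3, 1, 3, 1, 3, 1, 3, 6, 2, 0, 2, 0, 2, 0, 2, 0, 2, 0], [1, 3, 1, 3, 1, 3, 1, 3, 1, 3, 7, 2, 0, 2, 0, 2, 0, 2, 0, 2, 0, 6])) (BT.leaf (22, [9,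 1, 3, 1, 3, 1, 3, 1, 3, 1, 3, 8, 2, 0, 2, 0, 2, 0, 2, 0, 2, 0], [1, 3, 1, 3, 1, 3, 1, 3, 1, 3, 9, 2, 0, 2, 0, 2, 0, 2, 0, 2, 0, 8]))) (BT.leaf (22, [11, 1, 3, 1, 3, 1, 3, 1, 3, 1, 3, 10, 2, 0, 2, 0, 2, 0, 2, 0, 2, 0], [1, 3, 1, 3, 1, 3, 1, 3, 1, 3, 11, 2, 0, 2, 0, 2, 0, 2, 0, 2, 0, 10]))))) (BT.node 18 (BT.node 15 (BT.node 14 (BT.node 13 (BT.leaf (22, [13, 1, 3, 1, 3, 1, 3, 1, 3, 1, 3, 12, 2, 0, 2, 0, 2, 0, 2, 0, 2, 0], [1, 3, 1, 3, 1, 3, 1, 3, 1, 3, 13, 2, 0, 2, 0, 2, 0, 2, 0, 2, 0, 12])) (BT.leaf (10, [1, 1, 5, 1, 5, 0, 4, 0, 4, 0], [1, 5, 1, 5, 1, 4, 0, 4, 0, 0]))) (BT.leaf (10, [3, 1, 5, 1, 5, 2, 4, 0, 4, 0], [1, 5, 1, 5, 3, 4, 0, 4, 0, 2]))) (BT.node 17 (BT.node 16 (BT.leaf (10, [5, 1, 5, 1, 5, 4, 4, 0, 4, 0], [1, 5, 1, 5, 5, 4, 0, 4, 0, 4])) (BT.leaf (10,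 [7, 1, 5, 1, 5, 6, 4, 0, 4, 0], [1, 5, 1, 5, 7, 4, 0, 4, 0, 6]))) (BT.leaf (10, [9, 1, 5, 1, 5, 8, 4, 0, 4, 0], [1, 5, 1, 5, 9, 4, 0, 4, 0, 8])))) (BT.node 21 (BT.node 20 (BT.node 19 (BT.leaf (10, [11, 1, 5, 1, 5, 10, 4, 0, 4, 0], [1, 5, 1, 5, 11, 4, 0, 4, 0, 10])) (BT.leaf (10, [13, 1, 5, 1, 5, 12, 4, 0, 4, 0], [1, 5, 1, 5, 13, 4, 0, 4, 0, 12]))) (BT.leaf (10, [1, 1, 7, 1, 7, 0, 6, 0, 6, 0], [1, 7, 1, 7, 1, 6, 0, 6, 0, 0]))) (BT.node 23 (BT.node 22 (BT.leaf (10, [3, 1, 7, 1, 7, 2, 6, 0, 6, 0], [1, 7, 1, 7, 3, 6, 0, 6, 0, 2])) (BT.leaf (10, [5, 1, 7, 1, 7, 4, 6, 0, 6, 0], [1, 7, 1, 7, 5, 6, 0, 6, 0, 4]))) (BT.leaf (10, [7, 1, 7, 1, 7, 6, 6, 0, 6, 0], [1, 7, 1, 7, 7, 6, 0, 6, 0, 6])))))) (BT.node 36 (BT.node 30 (BT.node 27 (BT.node 26 (BT.node 25 (BT.leaf (10,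 [9, 1, 7, 1, 7, 8, 6, 0, 6, 0], [1, 7, 1, 7, 9, 6, 0, 6, 0, 8])) (BT.leaf (10, [11, 1, 7, 1, 7, 10, 6, 0, 6, 0], [1, 7, 1, 7, 11, 6, 0, 6, 0, 10]))) (BT.leaf (10, [13, 1, 7, 1, 7, 12, 6, 0, 6, 0], [1, 7, 1, 7, 13, 6, 0, 6, 0, 12]))) (BT.node 29 (BT.node 28 (BT.leaf (10, [1, 1, 11, 1, 11, 0, 10, 0, 10, 0], [1, 11, 1, 11, 1, 10, 0, 10, 0, 0])) (BT.leaf (10, [3, 1, 11, 1, 11, 2, 10, 0, 10, 0], [1, 11, 1, 11, 3, 10, 0, 10, 0, 2]))) (BT.leaf (10, [5, 1, 11, 1, 11, 4, 10, 0, 10, 0], [1, 11, 1, 11, 5, 10, 0, 10, 0, 4])))) (BT.node 33 (BT.node 32 (BT.node 31 (BT.leaf (10, [7, 1, 11, 1, 11, 6, 10, 0, 10, 0], [1, 11, 1, 11, 7, 10, 0, 10, 0, 6])) (BT.leaf (10, [9, 1, 11, 1, 11, 8, 10, 0, 10, 0], [1, 11, 1, 11, 9, 10, 0, 10, 0, 8]))) (BT.leaf (10, [11, 1, 11, 1, 11, 10,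 10, 0, 10, 0], [1, 11, 1, 11, 11, 10, 0, 10, 0, 10]))) (BT.node 35 (BT.node 34 (BT.leaf (10, [13, 1, 11, 1, 11, 12, 10, 0, 10, 0], [1, 11, 1, 11, 13, 10, 0, 10, 0, 12])) (BT.leaf (10, [1, 1, 13, 1, 13, 0, 12, 0, 12, 0], [1, 13, 1, 13, 1, 12, 0, 12, 0, 0]))) (BT.leaf (10, [3, 1, 13, 1, 13, 2, 12, 0, 12, 0], [1, 13, 1, 13, 3, 12, 0, 12, 0, 2]))))) (BT.node 42 (BT.node 39 (BT.node 38 (BT.node 37 (BT.leaf (10, [5, 1, 13, 1, 13, 4, 12, 0, 12, 0], [1, 13, 1, 13, 5, 12, 0, 12, 0, 4])) (BT.leaf (10, [7, 1, 13, 1, 13, 6, 12, 0, 12, 0], [1, 13, 1, 13, 7, 12, 0, 12, 0, 6]))) (BT.leaf (10, [9, 1, 13, 1, 13, 8, 12, 0, 12, 0], [1, 13, 1, 13, 9, 12, 0, 12, 0, 8]))) (BT.node 41 (BT.node 40 (BT.leaf (10, [11, 1, 13, 1, 13, 10, 12, 0, 12, 0], [1, 13, 1, 13, 11, 12, 0, 12, 0,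 10])) (BT.leaf (10, [13, 1, 13, 1, 13, 12, 12, 0, 12, 0], [1, 13, 1, 13, 13, 12, 0, 12, 0, 12]))) (BT.leaf (10, [1, 1, 9, 1, 9, 0, 8, 0, 8, 0], [1, 9, 1, 9, 1, 8, 0, 8, 0, 0])))) (BT.node 45 (BT.node 44 (BT.node 43 (BT.leaf (10, [3, 1, 9, 1, 9, 2, 8, 0, 8, 0], [1, 9, 1, 9, 3, 8, 0, 8, 0, 2])) (BT.leaf (10, [5, 1, 9, 1, 9, 4, 8, 0, 8, 0], [1, 9, 1, 9, 5, 8, 0, 8, 0, 4]))) (BT.leaf (10, [7, 1, 9, 1, 9, 6, 8, 0, 8, 0], [1, 9, 1, 9, 7, 8, 0, 8, 0, 6]))) (BT.node 47 (BT.node 46 (BT.leaf (10, [9, 1, 9, 1, 9, 8, 8, 0, 8, 0], [1, 9, 1, 9, 9, 8, 0, 8, 0, 8])) (BT.leaf (10, [11, 1, 9, 1, 9, 10, 8, 0, 8, 0], [1, 9, 1, 9, 11, 8, 0, 8, 0, 10]))) (BT.leaf (10, [13, 1, 9, 1, 9, 12, 8, 0, 8, 0], [1, 9, 1, 9, 13, 8, 0, 8, 0, 12]))))))) (BT.node 72 (BT.node 60 (BT.node 54 (BT.node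 51 (BT.node 50 (BT.node 49 (BT.leaf (22, [1, 3, 1, 3, 1, 3, 1, 3, 1, 3, 1, 0, 0, 2, 0, 2, 0, 2, 0, 2, 0, 2], [3, 1, 3, 1, 3, 1, 3, 1, 3, 1, 1, 0, 2, 0, 2, 0, 2, 0, 2, 0, 2, 0])) (BT.leaf (22, [3, 3, 1, 3, 1, 3, 1, 3, 1, 3, 1, 2, 0, 2, 0, 2, 0, 2, 0, 2, 0, 2], [3, 1, 3, 1, 3, 1, 3, 1, 3, 1, 3, 0, 2, 0, 2, 0, 2, 0, 2, 0, 2, 2]))) (BT.leaf (22, [5, 3, 1, 3, 1, 3, 1, 3, 1, 3, 1, 4, 0, 2, 0, 2, 0, 2, 0, 2, 0, 2], [3, 1, 3, 1, 3, 1, 3, 1, 3, 1, 5, 0, 2, 0, 2, 0, 2, 0, 2, 0, 2, 4]))) (BT.node 53 (BT.node 52 (BT.leaf (22, [7, 3, 1, 3, 1, 3, 1, 3, 1, 3, 1, 6, 0, 2, 0, 2, 0, 2, 0, 2, 0, 2], [3, 1, 3, 1, 3, 1, 3, 1, 3, 1, 7, 0, 2, 0, 2, 0, 2, 0, 2, 0, 2, 6])) (BT.leaf (22, [9, 3, 1, 3, 1, 3, 1, 3, 1, 3, 1, 8, 0, 2, 0, 2, 0, 2, 0, 2, 0, 2], [3, 1, 3, 1, 3, 1, 3, 1, 3, 1,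 9, 0, 2, 0, 2, 0, 2, 0, 2, 0, 2, 8]))) (BT.leaf (22, [11, 3, 1, 3, 1, 3, 1, 3, 1, 3, 1, 10, 0, 2, 0, 2, 0, 2, 0, 2, 0, 2], [3, 1, 3, 1, 3, 1, 3, 1, 3, 1, 11, 0, 2, 0, 2, 0, 2, 0, 2, 0, 2, 10])))) (BT.node 57 (BT.node 56 (BT.node 55 (BT.leaf (22, [13, 3, 1, 3, 1, 3, 1, 3, 1, 3, 1, 12, 0, 2, 0, 2, 0, 2, 0, 2, 0, 2], [3, 1, 3, 1, 3, 1, 3, 1, 3, 1, 13, 0, 2, 0, 2, 0, 2, 0, 2, 0, 2, 12])) (BT.leaf (6, [1, 3, 3, 0, 2, 2], [3, 3, 1, 2, 2, 0]))) (BT.leaf (6, [3, 3, 3, 2, 2, 2], [3, 3, 3, 2, 2, 2]))) (BT.node 59 (BT.node 58 (BT.leaf (6, [5, 3, 3, 4, 2, 2], [3, 3, 5, 2, 2, 4])) (BT.leaf (6, [7, 3, 3, 6, 2, 2], [3, 3, 7, 2, 2, 6]))) (BT.leaf (6, [9, 3, 3, 8, 2, 2], [3, 3, 9, 2, 2, 8]))))) (BT.node 66 (BT.node 63 (BT.node 62 (BT.node 61 (BT.leaf (6, [11, 3, 3, 10, 2, 2],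 [3, 3, 11, 2, 2, 10])) (BT.leaf (6, [13, 3, 3, 12, 2, 2], [3, 3, 13, 2, 2, 12]))) (BT.leaf (14, [1, 3, 5, 3, 5, 3, 5, 0, 4, 2, 4, 2, 4, 2], [3, 5, 3, 5, 3, 5, 1, 4, 2, 4, 2, 4, 2, 0]))) (BT.node 65 (BT.node 64 (BT.leaf (14, [3, 3, 5, 3, 5, 3, 5, 2, 4, 2, 4, 2, 4, 2], [3, 5, 3, 5, 3, 5, 3, 4, 2, 4, 2, 4, 2, 2])) (BT.leaf (14, [5, 3, 5, 3, 5, 3, 5, 4, 4, 2, 4, 2, 4, 2], [3, 5, 3, 5, 3, 5, 5, 4, 2, 4, 2, 4, 2, 4]))) (BT.leaf (14, [7, 3, 5, 3, 5, 3, 5, 6, 4, 2, 4, 2, 4, 2], [3, 5, 3, 5, 3, 5, 7, 4, 2, 4, 2, 4, 2, 6])))) (BT.node 69 (BT.node 68 (BT.node 67 (BT.leaf (14, [9, 3, 5, 3, 5, 3, 5, 8, 4, 2, 4, 2, 4, 2], [3, 5, 3, 5, 3, 5, 9, 4, 2, 4, 2, 4, 2, 8])) (BT.leaf (14, [11, 3, 5, 3, 5, 3, 5, 10, 4, 2, 4, 2, 4, 2], [3, 5, 3, 5, 3, 5, 11, 4, 2, 4, 2, 4, 2, 10])))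 (BT.leaf (14, [13, 3, 5, 3, 5, 3, 5, 12, 4, 2, 4, 2, 4, 2], [3, 5, 3, 5, 3, 5, 13, 4, 2, 4, 2, 4, 2, 12]))) (BT.node 71 (BT.node 70 (BT.leaf (10, [1, 3, 7, 3, 7, 0, 6, 2, 6, 2], [3, 7, 3, 7, 1, 6, 2, 6, 2, 0])) (BT.leaf (10, [3, 3, 7, 3, 7, 2, 6, 2, 6, 2], [3, 7, 3, 7, 3, 6, 2, 6, 2, 2]))) (BT.leaf (10, [5, 3, 7, 3, 7, 4, 6, 2, 6, 2], [3, 7, 3, 7, 5, 6, 2, 6, 2, 4])))))) (BT.node 84 (BT.node 78 (BT.node 75 (BT.node 74 (BT.node 73 (BT.leaf (10, [7, 3, 7, 3, 7, 6, 6, 2, 6, 2], [3, 7, 3, 7, 7, 6, 2, 6, 2, 6])) (BT.leaf (10, [9, 3, 7, 3, 7, 8, 6, 2, 6, 2], [3, 7, 3, 7, 9, 6, 2, 6, 2, 8]))) (BT.leaf (10, [11, 3, 7, 3, 7, 10, 6, 2, 6, 2], [3, 7, 3, 7, 11, 6, 2, 6, 2, 10]))) (BT.node 77 (BT.node 76 (BT.leaf (10, [13, 3, 7, 3, 7, 12, 6, 2, 6, 2], [3, 7, 3, 7, 13, 6,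 2, 6, 2, 12])) (BT.leaf (14, [1, 3, 11, 3, 11, 3, 11, 0, 10, 2, 10, 2, 10, 2], [3, 11, 3, 11, 3, 11, 1, 10, 2, 10, 2, 10, 2, 0]))) (BT.leaf (14, [3, 3, 11, 3, 11, 3, 11, 2, 10, 2, 10, 2, 10, 2], [3, 11, 3, 11, 3, 11, 3, 10, 2, 10, 2, 10, 2, 2])))) (BT.node 81 (BT.node 80 (BT.node 79 (BT.leaf (14, [5, 3, 11, 3, 11, 3, 11, 4, 10, 2, 10, 2, 10, 2], [3, 11, 3, 11, 3, 11, 5, 10, 2, 10, 2, 10, 2, 4])) (BT.leaf (14, [7, 3, 11, 3, 11, 3, 11, 6, 10, 2, 10, 2, 10, 2], [3, 11, 3, 11, 3, 11, 7, 10, 2, 10, 2, 10, 2, 6]))) (BT.leaf (14, [9, 3, 11, 3, 11, 3, 11, 8, 10, 2, 10, 2, 10, 2], [3, 11, 3, 11, 3, 11, 9, 10, 2, 10, 2, 10, 2, 8]))) (BT.node 83 (BT.node 82 (BT.leaf (14, [11, 3, 11, 3, 11, 3, 11, 10, 10, 2, 10, 2, 10, 2], [3, 11, 3, 11, 3, 11, 11, 10, 2, 10, 2, 10, 2,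 10])) (BT.leaf (14, [13, 3, 11, 3, 11, 3, 11, 12, 10, 2, 10, 2, 10, 2], [3, 11, 3, 11, 3, 11, 13, 10, 2, 10, 2, 10, 2, 12]))) (BT.leaf (14, [1, 3, 13, 3, 13, 3, 13, 0, 12, 2, 12, 2, 12, 2], [3, 13, 3, 13, 3, 13, 1, 12, 2, 12, 2, 12, 2, 0]))))) (BT.node 90 (BT.node 87 (BT.node 86 (BT.node 85 (BT.leaf (14, [3, 3, 13, 3, 13, 3, 13, 2, 12, 2, 12, 2, 12, 2], [3, 13, 3, 13, 3, 13, 3, 12, 2, 12, 2, 12, 2, 2])) (BT.leaf (14, [5, 3, 13, 3, 13, 3, 13, 4, 12, 2, 12, 2, 12, 2], [3, 13, 3, 13, 3, 13, 5, 12, 2, 12, 2, 12, 2, 4]))) (BT.leaf (14, [7, 3, 13, 3, 13, 3, 13, 6, 12, 2, 12, 2, 12, 2], [3, 13, 3, 13, 3, 13, 7, 12, 2, 12, 2, 12, 2, 6]))) (BT.node 89 (BT.node 88 (BT.leaf (14, [9, 3, 13, 3, 13, 3, 13, 8, 12, 2, 12, 2, 12, 2], [3, 13, 3, 13, 3, 13, 9, 12, 2, 12, 2, 12,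 2, 8])) (BT.leaf (14, [11, 3, 13, 3, 13, 3, 13, 10, 12, 2, 12, 2, 12, 2], [3, 13, 3, 13, 3, 13, 11, 12, 2, 12, 2, 12, 2, 10]))) (BT.leaf (14, [13, 3, 13, 3, 13, 3, 13, 12, 12, 2, 12, 2, 12, 2], [3, 13, 3, 13, 3, 13, 13, 12, 2, 12, 2, 12, 2, 12])))) (BT.node 93 (BT.node 92 (BT.node 91 (BT.leaf (10, [1, 3, 9, 3, 9, 0, 8, 2, 8, 2], [3, 9, 3, 9, 1, 8, 2, 8, 2, 0])) (BT.leaf (10, [3, 3, 9, 3, 9, 2, 8, 2, 8, 2], [3, 9, 3, 9, 3, 8, 2, 8, 2, 2]))) (BT.leaf (10, [5, 3, 9, 3, 9, 4, 8, 2, 8, 2], [3, 9, 3, 9, 5, 8, 2, 8, 2, 4]))) (BT.node 95 (BT.node 94 (BT.leaf (10, [7, 3, 9, 3, 9, 6, 8, 2, 8, 2], [3, 9, 3, 9, 7, 8, 2, 8, 2, 6])) (BT.leaf (10, [9, 3, 9, 3, 9, 8, 8, 2, 8, 2], [3, 9, 3, 9, 9, 8, 2, 8, 2, 8]))) (BT.leaf (10, [11, 3, 9, 3, 9, 10, 8, 2, 8, 2], [3, 9, 3, 9,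 11, 8, 2, 8, 2, 10])))))))) (BT.node 144 (BT.node 120 (BT.node 108 (BT.node 102 (BT.node 99 (BT.node 98 (BT.node 97 (BT.leaf (10, [13, 3, 9, 3, 9, 12, 8, 2, 8, 2], [3, 9, 3, 9, 13, 8, 2, 8, 2, 12])) (BT.leaf (10, [1, 5, 1, 5, 1, 0, 0, 4, 0, 4], [5, 1, 5, 1, 1, 0, 4, 0, 4, 0]))) (BT.leaf (10, [3, 5, 1, 5, 1, 2, 0, 4, 0, 4], [5, 1, 5, 1, 3, 0, 4, 0, 4, 2]))) (BT.node 101 (BT.node 100 (BT.leaf (10, [5, 5, 1, 5, 1, 4, 0, 4, 0, 4], [5, 1, 5, 1, 5, 0, 4, 0, 4, 4])) (BT.leaf (10, [7, 5, 1, 5, 1, 6, 0, 4, 0, 4], [5, 1, 5, 1, 7, 0, 4, 0, 4, 6]))) (BT.leaf (10, [9, 5, 1, 5, 1, 8, 0, 4, 0, 4], [5, 1, 5, 1, 9, 0, 4, 0, 4, 8])))) (BT.node 105 (BT.node 104 (BT.node 103 (BT.leaf (10, [11, 5, 1, 5, 1, 10, 0, 4, 0, 4], [5, 1, 5, 1, 11, 0, 4, 0, 4, 10])) (BT.leaf (10, [13, 5,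 1, 5, 1, 12, 0, 4, 0, 4], [5, 1, 5, 1, 13, 0, 4, 0, 4, 12]))) (BT.leaf (14, [1, 5, 3, 5, 3, 5, 3, 0, 2, 4, 2, 4, 2, 4], [5, 3, 5, 3, 5, 3, 1, 2, 4, 2, 4, 2, 4, 0]))) (BT.node 107 (BT.node 106 (BT.leaf (14, [3, 5, 3, 5, 3, 5, 3, 2, 2, 4, 2, 4, 2, 4], [5, 3, 5, 3, 5, 3, 3, 2, 4, 2, 4, 2, 4, 2])) (BT.leaf (14, [5, 5, 3, 5, 3, 5, 3, 4, 2, 4, 2, 4, 2, 4], [5, 3, 5, 3, 5, 3, 5, 2, 4, 2, 4, 2, 4, 4]))) (BT.leaf (14, [7, 5, 3, 5, 3, 5, 3, 6, 2, 4, 2, 4, 2, 4], [5, 3, 5, 3, 5, 3, 7, 2, 4, 2, 4, 2, 4, 6]))))) (BT.node 114 (BT.node 111 (BT.node 110 (BT.node 109 (BT.leaf (14, [9, 5, 3, 5, 3, 5, 3, 8, 2, 4, 2, 4, 2, 4], [5, 3, 5, 3, 5, 3, 9, 2, 4, 2, 4, 2, 4, 8])) (BT.leaf (14, [11, 5, 3, 5, 3, 5, 3, 10, 2, 4, 2, 4, 2, 4], [5, 3, 5, 3, 5, 3, 11, 2, 4, 2, 4, 2, 4, 10])))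 (BT.leaf (14, [13, 5, 3, 5, 3, 5, 3, 12, 2, 4, 2, 4, 2, 4], [5, 3, 5, 3, 5, 3, 13, 2, 4, 2, 4, 2, 4, 12]))) (BT.node 113 (BT.node 112 (BT.leaf (6, [1, 5, 5, 0, 4, 4], [5, 5, 1, 4, 4, 0])) (BT.leaf (6, [3, 5, 5, 2, 4, 4], [5, 5, 3, 4, 4, 2]))) (BT.leaf (6, [5, 5, 5, 4, 4, 4], [5, 5, 5, 4, 4, 4])))) (BT.node 117 (BT.node 116 (BT.node 115 (BT.leaf (6, [7, 5, 5, 6, 4, 4], [5, 5, 7, 4, 4, 6])) (BT.leaf (6, [9, 5, 5, 8, 4, 4], [5, 5, 9, 4, 4, 8]))) (BT.leaf (6, [11, 5, 5, 10, 4, 4], [5, 5, 11, 4, 4, 10]))) (BT.node 119 (BT.node 118 (BT.leaf (6, [13, 5, 5, 12, 4, 4], [5, 5, 13, 4, 4, 12])) (BT.leaf (34, [1, 5, 7, 5, 7, 5, 7, 5, 7, 5, 7, 5, 7, 5, 7, 5, 7, 0, 6, 4, 6, 4, 6, 4, 6, 4, 6, 4, 6, 4, 6, 4, 6, 4], [5, 7, 5, 7, 5, 7, 5, 7, 5, 7, 5, 7, 5, 7, 5, 7, 1, 6, 4, 6,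 4, 6, 4, 6, 4, 6, 4, 6, 4, 6, 4, 6, 4, 0]))) (BT.leaf (34, [3, 5, 7, 5, 7, 5, 7, 5, 7, 5, 7, 5, 7, 5, 7, 5, 7, 2, 6, 4, 6, 4, 6, 4, 6, 4, 6, 4, 6, 4, 6, 4, 6, 4], [5, 7, 5, 7, 5, 7, 5, 7, 5, 7, 5, 7, 5, 7, 5, 7, 3, 6, 4, 6, 4, 6, 4, 6, 4, 6, 4, 6, 4, 6, 4, 6, 4, 2])))))) (BT.node 132 (BT.node 126 (BT.node 123 (BT.node 122 (BT.node 121 (BT.leaf (34, [5, 5, 7, 5, 7, 5, 7, 5, 7, 5, 7, 5, 7, 5, 7, 5, 7, 4, 6, 4, 6, 4, 6, 4, 6, 4, 6, 4, 6, 4, 6, 4, 6, 4], [5, 7, 5, 7, 5, 7, 5, 7, 5, 7, 5, 7, 5, 7, 5, 7, 5, 6, 4, 6, 4, 6, 4, 6, 4, 6, 4, 6, 4, 6, 4, 6, 4, 4])) (BT.leaf (34, [7, 5, 7, 5, 7, 5, 7, 5, 7, 5, 7, 5, 7, 5, 7, 5, 7, 6, 6, 4, 6, 4, 6, 4, 6, 4, 6, 4, 6, 4, 6, 4, 6, 4], [5, 7, 5, 7, 5, 7, 5, 7, 5, 7, 5, 7, 5, 7, 5, 7, 7, 6, 4, 6, 4, 6, 4, 6, 4, 6, 4, 6, 4, 6,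 4, 6, 4, 6]))) (BT.leaf (34, [9, 5, 7, 5, 7, 5, 7, 5, 7, 5, 7, 5, 7, 5, 7, 5, 7, 8, 6, 4, 6, 4, 6, 4, 6, 4, 6, 4, 6, 4, 6, 4, 6, 4], [5, 7, 5, 7, 5, 7, 5, 7, 5, 7, 5, 7, 5, 7, 5, 7, 9, 6, 4, 6, 4, 6, 4, 6, 4, 6, 4, 6, 4, 6, 4, 6, 4, 8]))) (BT.node 125 (BT.node 124 (BT.leaf (34, [11, 5, 7, 5, 7, 5, 7, 5, 7, 5, 7, 5, 7, 5, 7, 5, 7, 10, 6, 4, 6, 4, 6, 4, 6, 4, 6, 4, 6, 4, 6, 4, 6, 4], [5, 7, 5, 7, 5, 7, 5, 7, 5, 7, 5, 7, 5, 7, 5, 7, 11, 6, 4, 6, 4, 6, 4, 6, 4, 6, 4, 6, 4, 6, 4, 6, 4, 10])) (BT.leaf (34, [13, 5, 7, 5, 7, 5, 7, 5, 7, 5, 7, 5, 7, 5, 7, 5, 7, 12, 6, 4, 6, 4, 6, 4, 6, 4, 6, 4, 6, 4, 6, 4, 6, 4], [5, 7, 5, 7, 5, 7, 5, 7, 5, 7, 5, 7, 5, 7, 5, 7, 13, 6, 4, 6, 4, 6, 4, 6, 4, 6, 4, 6, 4, 6, 4, 6, 4, 12]))) (BT.leaf (10, [1, 5, 11, 5, 11, 0, 10, 4, 10, 4],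 [5, 11, 5, 11, 1, 10, 4, 10, 4, 0])))) (BT.node 129 (BT.node 128 (BT.node 127 (BT.leaf (10, [3, 5, 11, 5, 11, 2, 10, 4, 10, 4], [5, 11, 5, 11, 3, 10, 4, 10, 4, 2])) (BT.leaf (10, [5, 5, 11, 5, 11, 4, 10, 4, 10, 4], [5, 11, 5, 11, 5, 10, 4, 10, 4, 4]))) (BT.leaf (10, [7, 5, 11, 5, 11, 6, 10, 4, 10, 4], [5, 11, 5, 11, 7, 10, 4, 10, 4, 6]))) (BT.node 131 (BT.node 130 (BT.leaf (10, [9, 5, 11, 5, 11, 8, 10, 4, 10, 4], [5, 11, 5, 11, 9, 10, 4, 10, 4, 8])) (BT.leaf (10, [11, 5, 11, 5, 11, 10, 10, 4, 10, 4], [5, 11, 5, 11, 11, 10, 4, 10, 4, 10]))) (BT.leaf (10, [13, 5, 11, 5, 11, 12, 10, 4, 10, 4], [5, 11, 5, 11, 13, 10, 4, 10, 4, 12]))))) (BT.node 138 (BT.node 135 (BT.node 134 (BT.node 133 (BT.leaf (10, [1, 5, 13, 5, 13, 0, 12, 4, 12, 4], [5, 13, 5, 13, 1, 12, 4, 12,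 4, 0])) (BT.leaf (10, [3, 5, 13, 5, 13, 2, 12, 4, 12, 4], [5, 13, 5, 13, 3, 12, 4, 12, 4, 2]))) (BT.leaf (10, [5, 5, 13, 5, 13, 4, 12, 4, 12, 4], [5, 13, 5, 13, 5, 12, 4, 12, 4, 4]))) (BT.node 137 (BT.node 136 (BT.leaf (10, [7, 5, 13, 5, 13, 6, 12, 4, 12, 4], [5, 13, 5, 13, 7, 12, 4, 12, 4, 6])) (BT.leaf (10, [9, 5, 13, 5, 13, 8, 12, 4, 12, 4], [5, 13, 5, 13, 9, 12, 4, 12, 4, 8]))) (BT.leaf (10, [11, 5, 13, 5, 13, 10, 12, 4, 12, 4], [5, 13, 5, 13, 11, 12, 4, 12, 4, 10])))) (BT.node 141 (BT.node 140 (BT.node 139 (BT.leaf (10, [13, 5, 13, 5, 13, 12, 12, 4, 12, 4], [5, 13, 5, 13, 13, 12, 4, 12, 4, 12])) (BT.leaf (10, [1, 5, 9, 5, 9, 0, 8, 4, 8, 4], [5, 9, 5, 9, 1, 8, 4, 8, 4, 0]))) (BT.leaf (10, [3, 5, 9, 5, 9, 2, 8, 4, 8, 4], [5, 9, 5, 9, 3, 8, 4, 8, 4, 2])))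 (BT.node 143 (BT.node 142 (BT.leaf (10, [5, 5, 9, 5, 9, 4, 8, 4, 8, 4], [5, 9, 5, 9, 5, 8, 4, 8, 4, 4])) (BT.leaf (10, [7, 5, 9, 5, 9, 6, 8, 4, 8, 4], [5, 9, 5, 9, 7, 8, 4, 8, 4, 6]))) (BT.leaf (10, [9, 5, 9, 5, 9, 8, 8, 4, 8, 4], [5, 9, 5, 9, 9, 8, 4, 8, 4, 8]))))))) (BT.node 168 (BT.node 156 (BT.node 150 (BT.node 147 (BT.node 146 (BT.node 145 (BT.leaf (10, [11, 5, 9, 5, 9, 10, 8, 4, 8, 4], [5, 9, 5, 9, 11, 8, 4, 8, 4, 10])) (BT.leaf (10, [13, 5, 9, 5, 9, 12, 8, 4, 8, 4], [5, 9, 5, 9, 13, 8, 4, 8, 4, 12]))) (BT.leaf (10, [1, 7, 1, 7, 1, 0, 0, 6, 0, 6], [7, 1, 7, 1, 1, 0, 6, 0, 6, 0]))) (BT.node 149 (BT.node 148 (BT.leaf (10, [3, 7, 1, 7, 1, 2, 0, 6, 0, 6], [7, 1, 7, 1, 3, 0, 6, 0, 6, 2])) (BT.leaf (10, [5, 7, 1, 7, 1, 4, 0, 6, 0, 6], [7, 1, 7, 1, 5, 0, 6, 0,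 6, 4]))) (BT.leaf (10, [7, 7, 1, 7, 1, 6, 0, 6, 0, 6], [7, 1, 7, 1, 7, 0, 6, 0, 6, 6])))) (BT.node 153 (BT.node 152 (BT.node 151 (BT.leaf (10, [9, 7, 1, 7, 1, 8, 0, 6, 0, 6], [7, 1, 7, 1, 9, 0, 6, 0, 6, 8])) (BT.leaf (10, [11, 7, 1, 7, 1, 10, 0, 6, 0, 6], [7, 1, 7, 1, 11, 0, 6, 0, 6, 10]))) (BT.leaf (10, [13, 7, 1, 7, 1, 12, 0, 6, 0, 6], [7, 1, 7, 1, 13, 0, 6, 0, 6, 12]))) (BT.node 155 (BT.node 154 (BT.leaf (10, [1, 7, 3, 7, 3, 0, 2, 6, 2, 6], [7, 3, 7, 3, 1, 2, 6, 2, 6, 0])) (BT.leaf (10, [3, 7, 3, 7, 3, 2, 2, 6, 2, 6], [7, 3, 7, 3, 3, 2, 6, 2, 6, 2]))) (BT.leaf (10, [5, 7, 3, 7, 3, 4, 2, 6, 2, 6], [7, 3, 7, 3, 5, 2, 6, 2, 6, 4]))))) (BT.node 162 (BT.node 159 (BT.node 158 (BT.node 157 (BT.leaf (10, [7, 7, 3, 7, 3, 6, 2, 6, 2, 6], [7, 3, 7, 3, 7, 2, 6, 2, 6,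 6])) (BT.leaf (10, [9, 7, 3, 7, 3, 8, 2, 6, 2, 6], [7, 3, 7, 3, 9, 2, 6, 2, 6, 8]))) (BT.leaf (10, [11, 7, 3, 7, 3, 10, 2, 6, 2, 6], [7, 3, 7, 3, 11, 2, 6, 2, 6, 10]))) (BT.node 161 (BT.node 160 (BT.leaf (10, [13, 7, 3, 7, 3, 12, 2, 6, 2, 6], [7, 3, 7, 3, 13, 2, 6, 2, 6, 12])) (BT.leaf (34, [1, 7, 5, 7, 5, 7, 5, 7, 5, 7, 5, 7, 5, 7, 5, 7, 5, 0, 4, 6, 4, 6, 4, 6, 4, 6, 4, 6, 4, 6, 4, 6, 4, 6], [7, 5, 7, 5, 7, 5, 7, 5, 7, 5, 7, 5, 7, 5, 7, 5, 1, 4, 6, 4, 6, 4, 6, 4, 6, 4, 6, 4, 6, 4, 6, 4, 6, 0]))) (BT.leaf (34, [3, 7, 5, 7, 5, 7, 5, 7, 5, 7, 5, 7, 5, 7, 5, 7, 5, 2, 4, 6, 4, 6, 4, 6, 4, 6, 4, 6, 4, 6, 4, 6, 4, 6], [7, 5, 7, 5, 7, 5, 7, 5, 7, 5, 7, 5, 7, 5, 7, 5, 3, 4, 6, 4, 6, 4, 6, 4, 6, 4, 6, 4, 6, 4, 6, 4, 6, 2])))) (BT.node 165 (BT.node 164 (BT.node 163 (BT.leaf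 (34, [5, 7, 5, 7, 5, 7, 5, 7, 5, 7, 5, 7, 5, 7, 5, 7, 5, 4, 4, 6, 4, 6, 4, 6, 4, 6, 4, 6, 4, 6, 4, 6, 4, 6], [7, 5, 7, 5, 7, 5, 7, 5, 7, 5, 7, 5, 7, 5, 7, 5, 5, 4, 6, 4, 6, 4, 6, 4, 6, 4, 6, 4, 6, 4, 6, 4, 6, 4])) (BT.leaf (34, [7, 7, 5, 7, 5, 7, 5, 7, 5, 7, 5, 7, 5, 7, 5, 7, 5, 6, 4, 6, 4, 6, 4, 6, 4, 6, 4, 6, 4, 6, 4, 6, 4, 6], [7, 5, 7, 5, 7, 5, 7, 5, 7, 5, 7, 5, 7, 5, 7, 5, 7, 4, 6, 4, 6, 4, 6, 4, 6, 4, 6, 4, 6, 4, 6, 4, 6, 6]))) (BT.leaf (34, [9, 7, 5, 7, 5, 7, 5, 7, 5, 7, 5, 7, 5, 7, 5, 7, 5, 8, 4, 6, 4, 6, 4, 6, 4, 6, 4, 6, 4, 6, 4, 6, 4, 6], [7, 5, 7, 5, 7, 5, 7, 5, 7, 5, 7, 5, 7, 5, 7, 5, 9, 4, 6, 4, 6, 4, 6, 4, 6, 4, 6, 4, 6, 4, 6, 4, 6, 8]))) (BT.node 167 (BT.node 166 (BT.leaf (34, [11, 7, 5, 7, 5, 7, 5, 7, 5, 7, 5, 7, 5, 7, 5, 7, 5, 10, 4, 6, 4,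 6, 4, 6, 4, 6, 4, 6, 4, 6, 4, 6, 4, 6], [7, 5, 7, 5, 7, 5, 7, 5, 7, 5, 7, 5, 7, 5, 7, 5, 11, 4, 6, 4, 6, 4, 6, 4, 6, 4, 6, 4, 6, 4, 6, 4, 6, 10])) (BT.leaf (34, [13, 7, 5, 7, 5, 7, 5, 7, 5, 7, 5, 7, 5, 7, 5, 7, 5, 12, 4, 6, 4, 6, 4, 6, 4, 6, 4, 6, 4, 6, 4, 6, 4, 6], [7, 5, 7, 5, 7, 5, 7, 5, 7, 5, 7, 5, 7, 5, 7, 5, 13, 4, 6, 4, 6, 4, 6, 4, 6, 4, 6, 4, 6, 4, 6, 4, 6, 12]))) (BT.leaf (6, [1, 7, 7, 0, 6, 6], [7, 7, 1, 6, 6, 0])))))) (BT.node 180 (BT.node 174 (BT.node 171 (BT.node 170 (BT.node 169 (BT.leaf (6, [3, 7, 7, 2, 6, 6], [7, 7, 3, 6, 6, 2])) (BT.leaf (6, [5, 7, 7, 4, 6, 6], [7, 7, 5, 6, 6, 4]))) (BT.leaf (6, [7, 7, 7, 6, 6, 6], [7, 7, 7, 6, 6, 6]))) (BT.node 173 (BT.node 172 (BT.leaf (6, [9, 7, 7, 8, 6, 6], [7, 7, 9, 6, 6, 8])) (BT.leaf (6, [11, 7, 7, 10,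 6, 6], [7, 7, 11, 6, 6, 10]))) (BT.leaf (6, [13, 7, 7, 12, 6, 6], [7, 7, 13, 6, 6, 12])))) (BT.node 177 (BT.node 176 (BT.node 175 (BT.leaf (10, [1, 7, 11, 7, 11, 0, 10, 6, 10, 6], [7, 11, 7, 11, 1, 10, 6, 10, 6, 0])) (BT.leaf (10, [3, 7, 11, 7, 11, 2, 10, 6, 10, 6], [7, 11, 7, 11, 3, 10, 6, 10, 6, 2]))) (BT.leaf (10, [5, 7, 11, 7, 11, 4, 10, 6, 10, 6], [7, 11, 7, 11, 5, 10, 6, 10, 6, 4]))) (BT.node 179 (BT.node 178 (BT.leaf (10, [7, 7, 11, 7, 11, 6, 10, 6, 10, 6], [7, 11, 7, 11, 7, 10, 6, 10, 6, 6])) (BT.leaf (10, [9, 7, 11, 7, 11, 8, 10, 6, 10, 6], [7, 11, 7, 11, 9, 10, 6, 10, 6, 8]))) (BT.leaf (10, [11, 7, 11, 7, 11, 10, 10, 6, 10, 6], [7, 11, 7, 11, 11, 10, 6, 10, 6, 10]))))) (BT.node 186 (BT.node 183 (BT.node 182 (BT.node 181 (BT.leaf (10, [13, 7, 11, 7,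 11, 12, 10, 6, 10, 6], [7, 11, 7, 11, 13, 10, 6, 10, 6, 12])) (BT.leaf (10, [1, 7, 13, 7, 13, 0, 12, 6, 12, 6], [7, 13, 7, 13, 1, 12, 6, 12, 6, 0]))) (BT.leaf (10, [3, 7, 13, 7, 13, 2, 12, 6, 12, 6], [7, 13, 7, 13, 3, 12, 6, 12, 6, 2]))) (BT.node 185 (BT.node 184 (BT.leaf (10, [5, 7, 13, 7, 13, 4, 12, 6, 12, 6], [7, 13, 7, 13, 5, 12, 6, 12, 6, 4])) (BT.leaf (10, [7, 7, 13, 7, 13, 6, 12, 6, 12, 6], [7, 13, 7, 13, 7, 12, 6, 12, 6, 6]))) (BT.leaf (10, [9, 7, 13, 7, 13, 8, 12, 6, 12, 6], [7, 13, 7, 13, 9, 12, 6, 12, 6, 8])))) (BT.node 189 (BT.node 188 (BT.node 187 (BT.leaf (10, [11, 7, 13, 7, 13, 10, 12, 6, 12, 6], [7, 13, 7, 13, 11, 12, 6, 12, 6, 10])) (BT.leaf (10, [13, 7, 13, 7, 13, 12, 12, 6, 12, 6], [7, 13, 7, 13, 13, 12, 6, 12, 6, 12]))) (BT.leaf (14, [1,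 7, 9, 7, 9, 7, 9, 0, 8, 6, 8, 6, 8, 6], [7, 9, 7, 9, 7, 9, 1, 8, 6, 8, 6, 8, 6, 0]))) (BT.node 191 (BT.node 190 (BT.leaf (14, [3, 7, 9, 7, 9, 7, 9, 2, 8, 6, 8, 6, 8, 6], [7, 9, 7, 9, 7, 9, 3, 8, 6, 8, 6, 8, 6, 2])) (BT.leaf (14, [5, 7, 9, 7, 9, 7, 9, 4, 8, 6, 8, 6, 8, 6], [7, 9, 7, 9, 7, 9, 5, 8, 6, 8, 6, 8, 6, 4]))) (BT.leaf (14, [7, 7, 9, 7, 9, 7, 9, 6, 8, 6, 8, 6, 8, 6], [7, 9, 7, 9, 7, 9, 7, 8, 6, 8, 6, 8, 6, 6]))))))))) (BT.node 288 (BT.node 240 (BT.node 216 (BT.node 204 (BT.node 198 (BT.node 195 (BT.node 194 (BT.node 193 (BT.leaf (14, [9, 7, 9, 7, 9, 7, 9, 8, 8, 6, 8, 6, 8, 6], [7, 9, 7, 9, 7, 9, 9, 8, 6, 8, 6, 8, 6, 8])) (BT.leaf (14, [11, 7, 9, 7, 9, 7, 9, 10, 8, 6, 8, 6, 8, 6], [7, 9, 7, 9, 7, 9, 11, 8, 6, 8, 6, 8, 6, 10]))) (BT.leaf (14, [13, 7, 9,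 7, 9, 7, 9, 12, 8, 6, 8, 6, 8, 6], [7, 9, 7, 9, 7, 9, 13, 8, 6, 8, 6, 8, 6, 12]))) (BT.node 197 (BT.node 196 (BT.leaf (10, [1, 11, 1, 11, 1, 0, 0, 10, 0, 10], [11, 1, 11, 1, 1, 0, 10, 0, 10, 0])) (BT.leaf (10, [3, 11, 1, 11, 1, 2, 0, 10, 0, 10], [11, 1, 11, 1, 3, 0, 10, 0, 10, 2]))) (BT.leaf (10, [5, 11, 1, 11, 1, 4, 0, 10, 0, 10], [11, 1, 11, 1, 5, 0, 10, 0, 10, 4])))) (BT.node 201 (BT.node 200 (BT.node 199 (BT.leaf (10, [7, 11, 1, 11, 1, 6, 0, 10, 0, 10], [11, 1, 11, 1, 7, 0, 10, 0, 10, 6])) (BT.leaf (10, [9, 11, 1, 11, 1, 8, 0, 10, 0, 10], [11, 1, 11, 1, 9, 0, 10, 0, 10, 8]))) (BT.leaf (10, [11, 11, 1, 11, 1, 10, 0, 10, 0, 10], [11, 1, 11, 1, 11, 0, 10, 0, 10, 10]))) (BT.node 203 (BT.node 202 (BT.leaf (10, [13, 11, 1, 11, 1, 12, 0, 10, 0, 10], [11, 1, 11,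 1, 13, 0, 10, 0, 10, 12])) (BT.leaf (14, [1, 11, 3, 11, 3, 11, 3, 0, 2, 10, 2, 10, 2, 10], [11, 3, 11, 3, 11, 3, 1, 2, 10, 2, 10, 2, 10, 0]))) (BT.leaf (14, [3, 11, 3, 11, 3, 11, 3, 2, 2, 10, 2, 10, 2, 10], [11, 3, 11, 3, 11, 3, 3, 2, 10, 2, 10, 2, 10, 2]))))) (BT.node 210 (BT.node 207 (BT.node 206 (BT.node 205 (BT.leaf (14, [5, 11, 3, 11, 3, 11, 3, 4, 2, 10, 2, 10, 2, 10], [11, 3, 11, 3, 11, 3, 5, 2, 10, 2, 10, 2, 10, 4])) (BT.leaf (14, [7, 11, 3, 11, 3, 11, 3, 6, 2, 10, 2, 10, 2, 10], [11, 3, 11, 3, 11, 3, 7, 2, 10, 2, 10, 2, 10, 6]))) (BT.leaf (14, [9, 11, 3, 11, 3, 11, 3, 8, 2, 10, 2, 10, 2, 10], [11, 3, 11, 3, 11, 3, 9, 2, 10, 2, 10, 2, 10, 8]))) (BT.node 209 (BT.node 208 (BT.leaf (14, [11, 11, 3, 11, 3, 11, 3, 10, 2, 10, 2, 10, 2, 10], [11, 3, 11, 3, 11,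 3, 11, 2, 10, 2, 10, 2, 10, 10])) (BT.leaf (14, [13, 11, 3, 11, 3, 11, 3, 12, 2, 10, 2, 10, 2, 10], [11, 3, 11, 3, 11, 3, 13, 2, 10, 2, 10, 2, 10, 12]))) (BT.leaf (10, [1, 11, 5, 11, 5, 0, 4, 10, 4, 10], [11, 5, 11, 5, 1, 4, 10, 4, 10, 0])))) (BT.node 213 (BT.node 212 (BT.node 211 (BT.leaf (10, [3, 11, 5, 11, 5, 2, 4, 10, 4, 10], [11, 5, 11, 5, 3, 4, 10, 4, 10, 2])) (BT.leaf (10, [5, 11, 5, 11, 5, 4, 4, 10, 4, 10], [11, 5, 11, 5, 5, 4, 10, 4, 10, 4]))) (BT.leaf (10, [7, 11, 5, 11, 5, 6, 4, 10, 4, 10], [11, 5, 11, 5, 7, 4, 10, 4, 10, 6]))) (BT.node 215 (BT.node 214 (BT.leaf (10, [9, 11, 5, 11, 5, 8, 4, 10, 4, 10], [11, 5, 11, 5, 9, 4, 10, 4, 10, 8])) (BT.leaf (10, [11, 11, 5, 11, 5, 10, 4, 10, 4, 10], [11, 5, 11, 5, 11, 4, 10, 4, 10, 10]))) (BT.leaf (10, [13,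 11, 5, 11, 5, 12, 4, 10, 4, 10], [11, 5, 11, 5, 13, 4, 10, 4, 10, 12])))))) (BT.node 228 (BT.node 222 (BT.node 219 (BT.node 218 (BT.node 217 (BT.leaf (10, [1, 11, 7, 11, 7, 0, 6, 10, 6, 10], [11, 7, 11, 7, 1, 6, 10, 6, 10, 0])) (BT.leaf (10, [3, 11, 7, 11, 7, 2, 6, 10, 6, 10], [11, 7, 11, 7, 3, 6, 10, 6, 10, 2]))) (BT.leaf (10, [5, 11, 7, 11, 7, 4, 6, 10, 6, 10], [11, 7, 11, 7, 5, 6, 10, 6, 10, 4]))) (BT.node 221 (BT.node 220 (BT.leaf (10, [7, 11, 7, 11, 7, 6, 6, 10, 6, 10], [11, 7, 11, 7, 7, 6, 10, 6, 10, 6])) (BT.leaf (10, [9, 11, 7, 11, 7, 8, 6, 10, 6, 10], [11, 7, 11, 7, 9, 6, 10, 6, 10, 8]))) (BT.leaf (10, [11, 11, 7, 11, 7, 10, 6, 10, 6, 10], [11, 7, 11, 7, 11, 6, 10, 6, 10, 10])))) (BT.node 225 (BT.node 224 (BT.node 223 (BT.leaf (10, [13, 11, 7, 11, 7,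 12, 6, 10, 6, 10], [11, 7, 11, 7, 13, 6, 10, 6, 10, 12])) (BT.leaf (6, [1, 11, 11, 0, 10, 10], [11, 11, 1, 10, 10, 0]))) (BT.leaf (6, [3, 11, 11, 2, 10, 10], [11, 11, 3, 10, 10, 2]))) (BT.node 227 (BT.node 226 (BT.leaf (6, [5, 11, 11, 4, 10, 10], [11, 11, 5, 10, 10, 4])) (BT.leaf (6, [7, 11, 11, 6, 10, 10], [11, 11, 7, 10, 10, 6]))) (BT.leaf (6, [9, 11, 11, 8, 10, 10], [11, 11, 9, 10, 10, 8]))))) (BT.node 234 (BT.node 231 (BT.node 230 (BT.node 229 (BT.leaf (6, [11, 11, 11, 10, 10, 10], [11, 11, 11, 10, 10, 10])) (BT.leaf (6, [13, 11, 11, 12, 10, 10], [11, 11, 13, 10, 10, 12]))) (BT.leaf (18, [1, 11, 13, 11, 13, 11, 13, 11, 13, 0, 12, 10, 12, 10, 12, 10, 12, 10], [11, 13, 11, 13, 11, 13, 11, 13, 1, 12, 10, 12, 10, 12, 10, 12, 10, 0]))) (BT.node 233 (BT.node 232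 (BT.leaf (18, [3, 11, 13, 11, 13, 11, 13, 11, 13, 2, 12, 10, 12, 10, 12, 10, 12, 10], [11, 13, 11, 13, 11, 13, 11, 13, 3, 12, 10, 12, 10, 12, 10, 12, 10, 2])) (BT.leaf (18, [5, 11, 13, 11, 13, 11, 13, 11, 13, 4, 12, 10, 12, 10, 12, 10, 12, 10], [11, 13, 11, 13, 11, 13, 11, 13, 5, 12, 10, 12, 10, 12, 10, 12, 10, 4]))) (BT.leaf (18, [7, 11, 13, 11, 13, 11, 13, 11, 13, 6, 12, 10, 12, 10, 12, 10, 12, 10], [11, 13, 11, 13, 11, 13, 11, 13, 7, 12, 10, 12, 10, 12, 10, 12, 10, 6])))) (BT.node 237 (BT.node 236 (BT.node 235 (BT.leaf (18, [9, 11, 13, 11, 13, 11, 13, 11, 13, 8, 12, 10, 12, 10, 12, 10, 12, 10], [11, 13, 11, 13, 11, 13, 11, 13, 9, 12, 10, 12, 10, 12, 10, 12, 10, 8])) (BT.leaf (18, [11, 11, 13, 11, 13, 11, 13, 11, 13, 10, 12, 10, 12, 10, 12, 10, 12, 10], [11,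 13, 11, 13, 11, 13, 11, 13, 11, 12, 10, 12, 10, 12, 10, 12, 10, 10]))) (BT.leaf (18, [13, 11, 13, 11, 13, 11, 13, 11, 13, 12, 12, 10, 12, 10, 12, 10, 12, 10], [11, 13, 11, 13, 11, 13, 11, 13, 13, 12, 10, 12, 10, 12, 10, 12, 10, 12]))) (BT.node 239 (BT.node 238 (BT.leaf (10, [1, 11, 9, 11, 9, 0, 8, 10, 8, 10], [11, 9, 11, 9, 1, 8, 10, 8, 10, 0])) (BT.leaf (10, [3, 11, 9, 11, 9, 2, 8, 10, 8, 10], [11, 9, 11, 9, 3, 8, 10, 8, 10, 2]))) (BT.leaf (10, [5, 11, 9, 11, 9, 4, 8, 10, 8, 10], [11, 9, 11, 9, 5, 8, 10, 8, 10, 4]))))))) (BT.node 264 (BT.node 252 (BT.node 246 (BT.node 243 (BT.node 242 (BT.node 241 (BT.leaf (10, [7, 11, 9, 11, 9, 6, 8, 10, 8, 10], [11, 9, 11, 9, 7, 8, 10, 8, 10, 6])) (BT.leaf (10, [9, 11, 9, 11, 9, 8, 8, 10, 8, 10], [11, 9, 11, 9, 9, 8, 10,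 8, 10, 8]))) (BT.leaf (10, [11, 11, 9, 11, 9, 10, 8, 10, 8, 10], [11, 9, 11, 9, 11, 8, 10, 8, 10, 10]))) (BT.node 245 (BT.node 244 (BT.leaf (10, [13, 11, 9, 11, 9, 12, 8, 10, 8, 10], [11, 9, 11, 9, 13, 8, 10, 8, 10, 12])) (BT.leaf (10, [1, 13, 1, 13, 1, 0, 0, 12, 0, 12], [13, 1, 13, 1, 1, 0, 12, 0, 12, 0]))) (BT.leaf (10, [3, 13, 1, 13, 1, 2, 0, 12, 0, 12], [13, 1, 13, 1, 3, 0, 12, 0, 12, 2])))) (BT.node 249 (BT.node 248 (BT.node 247 (BT.leaf (10, [5, 13, 1, 13, 1, 4, 0, 12, 0, 12], [13, 1, 13, 1, 5, 0, 12, 0, 12, 4])) (BT.leaf (10, [7, 13, 1, 13, 1, 6, 0, 12, 0, 12], [13, 1, 13, 1, 7, 0, 12, 0, 12, 6]))) (BT.leaf (10, [9, 13, 1, 13, 1, 8, 0, 12, 0, 12], [13, 1, 13, 1, 9, 0, 12, 0, 12, 8]))) (BT.node 251 (BT.node 250 (BT.leaf (10, [11, 13, 1, 13, 1, 10, 0, 12,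 0, 12], [13, 1, 13, 1, 11, 0, 12, 0, 12, 10])) (BT.leaf (10, [13, 13, 1, 13, 1, 12, 0, 12, 0, 12], [13, 1, 13, 1, 13, 0, 12, 0, 12, 12]))) (BT.leaf (14, [1, 13, 3, 13, 3, 13, 3, 0, 2, 12, 2, 12, 2, 12], [13, 3, 13, 3, 13, 3, 1, 2, 12, 2, 12, 2, 12, 0]))))) (BT.node 258 (BT.node 255 (BT.node 254 (BT.node 253 (BT.leaf (14, [3, 13, 3, 13, 3, 13, 3, 2, 2, 12, 2, 12, 2, 12], [13, 3, 13, 3, 13, 3, 3, 2, 12, 2, 12, 2, 12, 2])) (BT.leaf (14, [5, 13, 3, 13, 3, 13, 3, 4, 2, 12, 2, 12, 2, 12], [13, 3, 13, 3, 13, 3, 5, 2, 12, 2, 12, 2, 12, 4]))) (BT.leaf (14, [7, 13, 3, 13, 3, 13, 3, 6, 2, 12, 2, 12, 2, 12], [13, 3, 13, 3, 13, 3, 7, 2, 12, 2, 12, 2, 12, 6]))) (BT.node 257 (BT.node 256 (BT.leaf (14, [9, 13, 3, 13, 3, 13, 3, 8, 2, 12, 2, 12, 2, 12], [13, 3, 13, 3, 13, 3,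 9, 2, 12, 2, 12, 2, 12, 8])) (BT.leaf (14, [11, 13, 3, 13, 3, 13, 3, 10, 2, 12, 2, 12, 2, 12], [13, 3, 13, 3, 13, 3, 11, 2, 12, 2, 12, 2, 12, 10]))) (BT.leaf (14, [13, 13, 3, 13, 3, 13, 3, 12, 2, 12, 2, 12, 2, 12], [13, 3, 13, 3, 13, 3, 13, 2, 12, 2, 12, 2, 12, 12])))) (BT.node 261 (BT.node 260 (BT.node 259 (BT.leaf (10, [1, 13, 5, 13, 5, 0, 4, 12, 4, 12], [13, 5, 13, 5, 1, 4, 12, 4, 12, 0])) (BT.leaf (10, [3, 13, 5, 13, 5, 2, 4, 12, 4, 12], [13, 5, 13, 5, 3, 4, 12, 4, 12, 2]))) (BT.leaf (10, [5, 13, 5, 13, 5, 4, 4, 12, 4, 12], [13, 5, 13, 5, 5, 4, 12, 4, 12, 4]))) (BT.node 263 (BT.node 262 (BT.leaf (10, [7, 13, 5, 13, 5, 6, 4, 12, 4, 12], [13, 5, 13, 5, 7, 4, 12, 4, 12, 6])) (BT.leaf (10, [9, 13, 5, 13, 5, 8, 4, 12, 4, 12], [13, 5, 13, 5, 9, 4, 12, 4, 12, 8])))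 (BT.leaf (10, [11, 13, 5, 13, 5, 10, 4, 12, 4, 12], [13, 5, 13, 5, 11, 4, 12, 4, 12, 10])))))) (BT.node 276 (BT.node 270 (BT.node 267 (BT.node 266 (BT.node 265 (BT.leaf (10, [13, 13, 5, 13, 5, 12, 4, 12, 4, 12], [13, 5, 13, 5, 13, 4, 12, 4, 12, 12])) (BT.leaf (10, [1, 13, 7, 13, 7, 0, 6, 12, 6, 12], [13, 7, 13, 7, 1, 6, 12, 6, 12, 0]))) (BT.leaf (10, [3, 13, 7, 13, 7, 2, 6, 12, 6, 12], [13, 7, 13, 7, 3, 6, 12, 6, 12, 2]))) (BT.node 269 (BT.node 268 (BT.leaf (10, [5, 13, 7, 13, 7, 4, 6, 12, 6, 12], [13, 7, 13, 7, 5, 6, 12, 6, 12, 4])) (BT.leaf (10, [7, 13, 7, 13, 7, 6, 6, 12, 6, 12], [13, 7, 13, 7, 7, 6, 12, 6, 12, 6]))) (BT.leaf (10, [9, 13, 7, 13, 7, 8, 6, 12, 6, 12], [13, 7, 13, 7, 9, 6, 12, 6, 12, 8])))) (BT.node 273 (BT.node 272 (BT.node 271 (BT.leaf (10,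 [11, 13, 7, 13, 7, 10, 6, 12, 6, 12], [13, 7, 13, 7, 11, 6, 12, 6, 12, 10])) (BT.leaf (10, [13, 13, 7, 13, 7, 12, 6, 12, 6, 12], [13, 7, 13, 7, 13, 6, 12, 6, 12, 12]))) (BT.leaf (18, [1, 13, 11, 13, 11, 13, 11, 13, 11, 0, 10, 12, 10, 12, 10, 12, 10, 12], [13, 11, 13, 11, 13, 11, 13, 11, 1, 10, 12, 10, 12, 10, 12, 10, 12, 0]))) (BT.node 275 (BT.node 274 (BT.leaf (18, [3, 13, 11, 13, 11, 13, 11, 13, 11, 2, 10, 12, 10, 12, 10, 12, 10, 12], [13, 11, 13, 11, 13, 11, 13, 11, 3, 10, 12, 10, 12, 10, 12, 10, 12, 2])) (BT.leaf (18, [5, 13, 11, 13, 11, 13, 11, 13, 11, 4, 10, 12, 10, 12, 10, 12, 10, 12], [13, 11, 13, 11, 13, 11, 13, 11, 5, 10, 12, 10, 12, 10, 12, 10, 12, 4]))) (BT.leaf (18, [7, 13, 11, 13, 11, 13, 11, 13, 11, 6, 10, 12, 10, 12, 10, 12, 10, 12], [13, 11,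 13, 11, 13, 11, 13, 11, 7, 10, 12, 10, 12, 10, 12, 10, 12, 6]))))) (BT.node 282 (BT.node 279 (BT.node 278 (BT.node 277 (BT.leaf (18, [9, 13, 11, 13, 11, 13, 11, 13, 11, 8, 10, 12, 10, 12, 10, 12, 10, 12], [13, 11, 13, 11, 13, 11, 13, 11, 9, 10, 12, 10, 12, 10, 12, 10, 12, 8])) (BT.leaf (18, [11, 13, 11, 13, 11, 13, 11, 13, 11, 10, 10, 12, 10, 12, 10, 12, 10, 12], [13, 11, 13, 11, 13, 11, 13, 11, 11, 10, 12, 10, 12, 10, 12, 10, 12, 10]))) (BT.leaf (18, [13, 13, 11, 13, 11, 13, 11, 13, 11, 12, 10, 12, 10, 12, 10, 12, 10, 12], [13, 11, 13, 11, 13, 11, 13, 11, 13, 10, 12, 10, 12, 10, 12, 10, 12, 12]))) (BT.node 281 (BT.node 280 (BT.leaf (6, [1, 13, 13, 0, 12, 12], [13, 13, 1, 12, 12, 0])) (BT.leaf (6, [3, 13, 13, 2, 12, 12], [13, 13, 3, 12, 12, 2]))) (BT.leaf (6,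 [5, 13, 13, 4, 12, 12], [13, 13, 5, 12, 12, 4])))) (BT.node 285 (BT.node 284 (BT.node 283 (BT.leaf (6, [7, 13, 13, 6, 12, 12], [13, 13, 7, 12, 12, 6])) (BT.leaf (6, [9, 13, 13, 8, 12, 12], [13, 13, 9, 12, 12, 8]))) (BT.leaf (6, [11, 13, 13, 10, 12, 12], [13, 13, 11, 12, 12, 10]))) (BT.node 287 (BT.node 286 (BT.leaf (6, [13, 13, 13, 12, 12, 12], [13, 13, 13, 12, 12, 12])) (BT.leaf (10, [1, 13, 9, 13, 9, 0, 8, 12, 8, 12], [13, 9, 13, 9, 1, 8, 12, 8, 12, 0]))) (BT.leaf (10, [3, 13, 9, 13, 9, 2, 8, 12, 8, 12], [13, 9, 13, 9, 3, 8, 12, 8, 12, 2])))))))) (BT.node 336 (BT.node 312 (BT.node 300 (BT.node 294 (BT.node 291 (BT.node 290 (BT.node 289 (BT.leaf (10, [5, 13, 9, 13, 9, 4, 8, 12, 8, 12], [13, 9, 13, 9, 5, 8, 12, 8, 12, 4])) (BT.leaf (10, [7, 13, 9, 13, 9, 6,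 8, 12, 8, 12], [13, 9, 13, 9, 7, 8, 12, 8, 12, 6]))) (BT.leaf (10, [9, 13, 9, 13, 9, 8, 8, 12, 8, 12], [13, 9, 13, 9, 9, 8, 12, 8, 12, 8]))) (BT.node 293 (BT.node 292 (BT.leaf (10, [11, 13, 9, 13, 9, 10, 8, 12, 8, 12], [13, 9, 13, 9, 11, 8, 12, 8, 12, 10])) (BT.leaf (10, [13, 13, 9, 13, 9, 12, 8, 12, 8, 12], [13, 9, 13, 9, 13, 8, 12, 8, 12, 12]))) (BT.leaf (10, [1, 9, 1, 9, 1, 0, 0, 8, 0, 8], [9, 1, 9, 1, 1, 0, 8, 0, 8, 0])))) (BT.node 297 (BT.node 296 (BT.node 295 (BT.leaf (10, [3, 9, 1, 9, 1, 2, 0, 8, 0, 8], [9, 1, 9, 1, 3, 0, 8, 0, 8, 2])) (BT.leaf (10, [5, 9, 1, 9, 1, 4, 0, 8, 0, 8], [9, 1, 9, 1, 5, 0, 8, 0, 8, 4]))) (BT.leaf (10, [7, 9, 1, 9, 1, 6, 0, 8, 0, 8], [9, 1, 9, 1, 7, 0, 8, 0, 8, 6]))) (BT.node 299 (BT.node 298 (BT.leaf (10, [9, 9, 1, 9, 1, 8,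 0, 8, 0, 8], [9, 1, 9, 1, 9, 0, 8, 0, 8, 8])) (BT.leaf (10, [11, 9, 1, 9, 1, 10, 0, 8, 0, 8], [9, 1, 9, 1, 11, 0, 8, 0, 8, 10]))) (BT.leaf (10, [13, 9, 1, 9, 1, 12, 0, 8, 0, 8], [9, 1, 9, 1, 13, 0, 8, 0, 8, 12]))))) (BT.node 306 (BT.node 303 (BT.node 302 (BT.node 301 (BT.leaf (10, [1, 9, 3, 9, 3, 0, 2, 8, 2, 8], [9, 3, 9, 3, 1, 2, 8, 2, 8, 0])) (BT.leaf (10, [3, 9, 3, 9, 3, 2, 2, 8, 2, 8], [9, 3, 9, 3, 3, 2, 8, 2, 8, 2]))) (BT.leaf (10, [5, 9, 3, 9, 3, 4, 2, 8, 2, 8], [9, 3, 9, 3, 5, 2, 8, 2, 8, 4]))) (BT.node 305 (BT.node 304 (BT.leaf (10, [7, 9, 3, 9, 3, 6, 2, 8, 2, 8], [9, 3, 9, 3, 7, 2, 8, 2, 8, 6])) (BT.leaf (10, [9, 9, 3, 9, 3, 8, 2, 8, 2, 8], [9, 3, 9, 3, 9, 2, 8, 2, 8, 8]))) (BT.leaf (10, [11, 9, 3, 9, 3, 10, 2, 8, 2, 8], [9, 3, 9, 3, 11, 2, 8, 2, 8,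 10])))) (BT.node 309 (BT.node 308 (BT.node 307 (BT.leaf (10, [13, 9, 3, 9, 3, 12, 2, 8, 2, 8], [9, 3, 9, 3, 13, 2, 8, 2, 8, 12])) (BT.leaf (10, [1, 9, 5, 9, 5, 0, 4, 8, 4, 8], [9, 5, 9, 5, 1, 4, 8, 4, 8, 0]))) (BT.leaf (10, [3, 9, 5, 9, 5, 2, 4, 8, 4, 8], [9, 5, 9, 5, 3, 4, 8, 4, 8, 2]))) (BT.node 311 (BT.node 310 (BT.leaf (10, [5, 9, 5, 9, 5, 4, 4, 8, 4, 8], [9, 5, 9, 5, 5, 4, 8, 4, 8, 4])) (BT.leaf (10, [7, 9, 5, 9, 5, 6, 4, 8, 4, 8], [9, 5, 9, 5, 7, 4, 8, 4, 8, 6]))) (BT.leaf (10, [9, 9, 5, 9, 5, 8, 4, 8, 4, 8], [9, 5, 9, 5, 9, 4, 8, 4, 8, 8])))))) (BT.node 324 (BT.node 318 (BT.node 315 (BT.node 314 (BT.node 313 (BT.leaf (10, [11, 9, 5, 9, 5, 10, 4, 8, 4, 8], [9, 5, 9, 5, 11, 4, 8, 4, 8, 10])) (BT.leaf (10, [13, 9, 5, 9, 5, 12, 4, 8, 4, 8], [9, 5, 9, 5, 13,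 4, 8, 4, 8, 12]))) (BT.leaf (14, [1, 9, 7, 9, 7, 9, 7, 0, 6, 8, 6, 8, 6, 8], [9, 7, 9, 7, 9, 7, 1, 6, 8, 6, 8, 6, 8, 0]))) (BT.node 317 (BT.node 316 (BT.leaf (14, [3, 9, 7, 9, 7, 9, 7, 2, 6, 8, 6, 8, 6, 8], [9, 7, 9, 7, 9, 7, 3, 6, 8, 6, 8, 6, 8, 2])) (BT.leaf (14, [5, 9, 7, 9, 7, 9, 7, 4, 6, 8, 6, 8, 6, 8], [9, 7, 9, 7, 9, 7, 5, 6, 8, 6, 8, 6, 8, 4]))) (BT.leaf (14, [7, 9, 7, 9, 7, 9, 7, 6, 6, 8, 6, 8, 6, 8], [9, 7, 9, 7, 9, 7, 7, 6, 8, 6, 8, 6, 8, 6])))) (BT.node 321 (BT.node 320 (BT.node 319 (BT.leaf (14, [9, 9, 7, 9, 7, 9, 7, 8, 6, 8, 6, 8, 6, 8], [9, 7, 9, 7, 9, 7, 9, 6, 8, 6, 8, 6, 8, 8])) (BT.leaf (14, [11, 9, 7, 9, 7, 9, 7, 10, 6, 8, 6, 8, 6, 8], [9, 7, 9, 7, 9, 7, 11, 6, 8, 6, 8, 6, 8, 10]))) (BT.leaf (14, [13, 9, 7, 9, 7, 9, 7, 12, 6, 8, 6, 8, 6, 8],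 [9, 7, 9, 7, 9, 7, 13, 6, 8, 6, 8, 6, 8, 12]))) (BT.node 323 (BT.node 322 (BT.leaf (10, [1, 9, 11, 9, 11, 0, 10, 8, 10, 8], [9, 11, 9, 11, 1, 10, 8, 10, 8, 0])) (BT.leaf (10, [3, 9, 11, 9, 11, 2, 10, 8, 10, 8], [9, 11, 9, 11, 3, 10, 8, 10, 8, 2]))) (BT.leaf (10, [5, 9, 11, 9, 11, 4, 10, 8, 10, 8], [9, 11, 9, 11, 5, 10, 8, 10, 8, 4]))))) (BT.node 330 (BT.node 327 (BT.node 326 (BT.node 325 (BT.leaf (10, [7, 9, 11, 9, 11, 6, 10, 8, 10, 8], [9, 11, 9, 11, 7, 10, 8, 10, 8, 6])) (BT.leaf (10, [9, 9, 11, 9, 11, 8, 10, 8, 10, 8], [9, 11, 9, 11, 9, 10, 8, 10, 8, 8]))) (BT.leaf (10, [11, 9, 11, 9, 11, 10, 10, 8, 10, 8], [9, 11, 9, 11, 11, 10, 8, 10, 8, 10]))) (BT.node 329 (BT.node 328 (BT.leaf (10, [13, 9, 11, 9, 11, 12, 10, 8, 10, 8], [9, 11, 9, 11, 13, 10, 8, 10, 8,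 12])) (BT.leaf (10, [1, 9, 13, 9, 13, 0, 12, 8, 12, 8], [9, 13, 9, 13, 1, 12, 8, 12, 8, 0]))) (BT.leaf (10, [3, 9, 13, 9, 13, 2, 12, 8, 12, 8], [9, 13, 9, 13, 3, 12, 8, 12, 8, 2])))) (BT.node 333 (BT.node 332 (BT.node 331 (BT.leaf (10, [5, 9, 13, 9, 13, 4, 12, 8, 12, 8], [9, 13, 9, 13, 5, 12, 8, 12, 8, 4])) (BT.leaf (10, [7, 9, 13, 9, 13, 6, 12, 8, 12, 8], [9, 13, 9, 13, 7, 12, 8, 12, 8, 6]))) (BT.leaf (10, [9, 9, 13, 9, 13, 8, 12, 8, 12, 8], [9, 13, 9, 13, 9, 12, 8, 12, 8, 8]))) (BT.node 335 (BT.node 334 (BT.leaf (10, [11, 9, 13, 9, 13, 10, 12, 8, 12, 8], [9, 13, 9, 13, 11, 12, 8, 12, 8, 10])) (BT.leaf (10, [13, 9, 13, 9, 13, 12, 12, 8, 12, 8], [9, 13, 9, 13, 13, 12, 8, 12, 8, 12]))) (BT.leaf (6, [1, 9, 9, 0, 8, 8], [9, 9, 1, 8, 8, 0]))))))) (BT.node 360 (BT.node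 348 (BT.node 342 (BT.node 339 (BT.node 338 (BT.node 337 (BT.leaf (6, [3, 9, 9, 2, 8, 8], [9, 9, 3, 8, 8, 2])) (BT.leaf (6, [5, 9, 9, 4, 8, 8], [9, 9, 5, 8, 8, 4]))) (BT.leaf (6, [7, 9, 9, 6, 8, 8], [9, 9, 7, 8, 8, 6]))) (BT.node 341 (BT.node 340 (BT.leaf (6, [9, 9, 9, 8, 8, 8], [9, 9, 9, 8, 8, 8])) (BT.leaf (6, [11, 9, 9, 10, 8, 8], [9, 9, 11, 8, 8, 10]))) (BT.leaf (6, [13, 9, 9, 12, 8, 8], [9, 9, 13, 8, 8, 12])))) (BT.node 345 (BT.node 344 (BT.node 343 (BT.leaf (20, [1, 1, 6, 4, 6, 4, 6, 4, 6, 4, 0, 5, 7, 5, 7, 5, 7, 5, 7, 0], [1, 6, 4, 6, 4, 6, 4, 6, 4, 1, 5, 7, 5, 7, 5, 7, 5, 7, 0, 0])) (BT.leaf (20, [3, 1, 6, 4, 6, 4, 6, 4, 6, 4, 2, 5, 7, 5, 7, 5, 7, 5, 7, 0], [1, 6, 4, 6, 4, 6, 4, 6, 4, 3, 5, 7, 5, 7, 5, 7, 5, 7, 0, 2]))) (BT.leaf (20, [5, 1, 6, 4, 6, 4,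 6, 4, 6, 4, 4, 5, 7, 5, 7, 5, 7, 5, 7, 0], [1, 6, 4, 6, 4, 6, 4, 6, 4, 5, 5, 7, 5, 7, 5, 7, 5, 7, 0, 4]))) (BT.node 347 (BT.node 346 (BT.leaf (20, [7, 1, 6, 4, 6, 4, 6, 4, 6, 4, 6, 5, 7, 5, 7, 5, 7, 5, 7, 0], [1, 6, 4, 6, 4, 6, 4, 6, 4, 7, 5, 7, 5, 7, 5, 7, 5, 7, 0, 6])) (BT.leaf (20, [9, 1, 6, 4, 6, 4, 6, 4, 6, 4, 8, 5, 7, 5, 7, 5, 7, 5, 7, 0], [1, 6, 4, 6, 4, 6, 4, 6, 4, 9, 5, 7, 5, 7, 5, 7, 5, 7, 0, 8]))) (BT.leaf (20, [11, 1, 6, 4, 6, 4, 6, 4, 6, 4, 10, 5, 7, 5, 7, 5, 7, 5, 7, 0], [1, 6, 4, 6, 4, 6, 4, 6, 4, 11, 5, 7, 5, 7, 5, 7, 5, 7, 0, 10]))))) (BT.node 354 (BT.node 351 (BT.node 350 (BT.node 349 (BT.leaf (20, [13, 1, 6, 4, 6, 4, 6, 4, 6, 4, 12, 5, 7, 5, 7, 5, 7, 5, 7, 0], [1, 6, 4, 6, 4, 6, 4, 6, 4, 13, 5, 7, 5, 7, 5, 7, 5, 7, 0, 12])) (BT.leaf (12, [1,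 1, 12, 10, 12, 10, 0, 11, 13, 11, 13, 0], [1, 12, 10, 12, 10, 1, 11, 13, 11, 13, 0, 0]))) (BT.leaf (12, [3, 1, 12, 10, 12, 10, 2, 11, 13, 11, 13, 0], [1, 12, 10, 12, 10, 3, 11, 13, 11, 13, 0, 2]))) (BT.node 353 (BT.node 352 (BT.leaf (12, [5, 1, 12, 10, 12, 10, 4, 11, 13, 11, 13, 0], [1, 12, 10, 12, 10, 5, 11, 13, 11, 13, 0, 4])) (BT.leaf (12, [7, 1, 12, 10, 12, 10, 6, 11, 13, 11, 13, 0], [1, 12, 10, 12, 10, 7, 11, 13, 11, 13, 0, 6]))) (BT.leaf (12, [9, 1, 12, 10, 12, 10, 8, 11, 13, 11, 13, 0], [1, 12, 10, 12, 10, 9, 11, 13, 11, 13, 0, 8])))) (BT.node 357 (BT.node 356 (BT.node 355 (BT.leaf (12, [11, 1, 12, 10, 12, 10, 10, 11, 13, 11, 13, 0], [1, 12, 10, 12, 10, 11, 11, 13, 11, 13, 0, 10])) (BT.leaf (12, [13, 1, 12, 10, 12, 10, 12, 11, 13, 11, 13, 0], [1, 12,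 10, 12, 10, 13, 11, 13, 11, 13, 0, 12]))) (BT.leaf (42, [1, 1, 3, 5, 11, 1, 3, 5, 11, 1, 3, 5, 11, 1, 3, 5, 11, 1, 3, 5, 11, 0, 10, 4, 2, 0, 10, 4, 2, 0, 10, 4, 2, 0, 10, 4, 2, 0, 10, 4, 2, 0], [1, 3, 5, 11, 1, 3, 5, 11, 1, 3, 5, 11, 1, 3, 5, 11, 1, 3, 5, 11, 1, 10, 4, 2, 0, 10, 4, 2, 0, 10, 4, 2, 0, 10, 4, 2, 0, 10, 4, 2, 0, 0]))) (BT.node 359 (BT.node 358 (BT.leaf (42, [3, 1, 3, 5, 11, 1, 3, 5, 11, 1, 3, 5, 11, 1, 3, 5, 11, 1, 3, 5, 11, 2, 10, 4, 2, 0, 10, 4, 2, 0, 10, 4, 2, 0, 10, 4, 2, 0, 10, 4, 2, 0], [1, 3, 5, 11, 1, 3, 5, 11, 1, 3, 5, 11, 1, 3, 5, 11, 1, 3, 5, 11, 3, 10, 4, 2, 0, 10, 4, 2, 0, 10, 4, 2, 0, 10, 4, 2, 0, 10, 4, 2, 0, 2])) (BT.leaf (42, [5, 1, 3, 5, 11, 1, 3, 5, 11, 1, 3, 5, 11, 1, 3, 5, 11, 1, 3, 5, 11, 4, 10, 4, 2, 0, 10, 4, 2, 0, 10, 4,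 2, 0, 10, 4, 2, 0, 10, 4, 2, 0], [1, 3, 5, 11, 1, 3, 5, 11, 1, 3, 5, 11, 1, 3, 5, 11, 1, 3, 5, 11, 5, 10, 4, 2, 0, 10, 4, 2, 0, 10, 4, 2, 0, 10, 4, 2, 0, 10, 4, 2, 0, 4]))) (BT.leaf (42, [7, 1, 3, 5, 11, 1, 3, 5, 11, 1, 3, 5, 11, 1, 3, 5, 11, 1, 3, 5, 11, 6, 10, 4, 2, 0, 10, 4, 2, 0, 10, 4, 2, 0, 10, 4, 2, 0, 10, 4, 2, 0], [1, 3, 5, 11, 1, 3, 5, 11, 1, 3, 5, 11, 1, 3, 5, 11, 1, 3, 5, 11, 7, 10, 4, 2, 0, 10, 4, 2, 0, 10, 4, 2, 0, 10, 4, 2, 0, 10, 4, 2, 0, 6])))))) (BT.node 372 (BT.node 366 (BT.node 363 (BT.node 362 (BT.node 361 (BT.leaf (42, [9, 1, 3, 5, 11, 1, 3, 5, 11, 1, 3, 5, 11, 1, 3, 5, 11, 1, 3, 5, 11, 8, 10, 4, 2, 0, 10, 4, 2, 0, 10, 4, 2, 0, 10, 4, 2, 0, 10, 4, 2, 0], [1, 3, 5, 11, 1, 3, 5, 11, 1, 3, 5, 11, 1, 3, 5, 11, 1, 3, 5, 11, 9, 10, 4, 2, 0, 10,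 4, 2, 0, 10, 4, 2, 0, 10, 4, 2, 0, 10, 4, 2, 0, 8])) (BT.leaf (42, [11, 1, 3, 5, 11, 1, 3, 5, 11, 1, 3, 5, 11, 1, 3, 5, 11, 1, 3, 5, 11, 10, 10, 4, 2, 0, 10, 4, 2, 0, 10, 4, 2, 0, 10, 4, 2, 0, 10, 4, 2, 0], [1, 3, 5, 11, 1, 3, 5, 11, 1, 3, 5, 11, 1, 3, 5, 11, 1, 3, 5, 11, 11, 10, 4, 2, 0, 10, 4, 2, 0, 10, 4, 2, 0, 10, 4, 2, 0, 10, 4, 2, 0, 10]))) (BT.leaf (42, [13, 1, 3, 5, 11, 1, 3, 5, 11, 1, 3, 5, 11, 1, 3, 5, 11, 1, 3, 5, 11, 12, 10, 4, 2, 0, 10, 4, 2, 0, 10, 4, 2, 0, 10, 4, 2, 0, 10, 4, 2, 0], [1, 3, 5, 11, 1, 3, 5, 11, 1, 3, 5, 11, 1, 3, 5, 11, 1, 3, 5, 11, 13, 10, 4, 2, 0, 10, 4, 2, 0, 10, 4, 2, 0, 10, 4, 2, 0, 10, 4, 2, 0, 12]))) (BT.node 365 (BT.node 364 (BT.leaf (32, [1, 3, 11, 13, 3, 11, 13, 3, 11, 13, 3, 11, 13, 3, 11, 13, 0, 12, 10, 2, 12, 10, 2,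 12, 10, 2, 12, 10, 2, 12, 10, 2], [3, 11, 13, 3, 11, 13, 3, 11, 13, 3, 11, 13, 3, 11, 13, 1, 12, 10, 2, 12, 10, 2, 12, 10, 2, 12, 10, 2, 12, 10, 2, 0])) (BT.leaf (32, [3, 3, 11, 13, 3, 11, 13, 3, 11, 13, 3, 11, 13, 3, 11, 13, 2, 12, 10, 2, 12, 10, 2, 12, 10, 2, 12, 10, 2, 12, 10, 2], [3, 11, 13, 3, 11, 13, 3, 11, 13, 3, 11, 13, 3, 11, 13, 3, 12, 10, 2, 12, 10, 2, 12, 10, 2, 12, 10, 2, 12, 10, 2, 2]))) (BT.leaf (32, [5, 3, 11, 13, 3, 11, 13, 3, 11, 13, 3, 11, 13, 3, 11, 13, 4, 12, 10, 2, 12, 10, 2, 12, 10, 2, 12, 10, 2, 12, 10, 2], [3, 11, 13, 3, 11, 13, 3, 11, 13, 3, 11, 13, 3, 11, 13, 5, 12, 10, 2, 12, 10, 2, 12, 10, 2, 12, 10, 2, 12, 10, 2, 4])))) (BT.node 369 (BT.node 368 (BT.node 367 (BT.leaf (32, [7, 3, 11, 13, 3, 11, 13, 3, 11, 13, 3, 11, 13, 3, 11, 13,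 6, 12, 10, 2, 12, 10, 2, 12, 10, 2, 12, 10, 2, 12, 10, 2], [3, 11, 13, 3, 11, 13, 3, 11, 13, 3, 11, 13, 3, 11, 13, 7, 12, 10, 2, 12, 10, 2, 12, 10, 2, 12, 10, 2, 12, 10, 2, 6])) (BT.leaf (32, [9, 3, 11, 13, 3, 11, 13, 3, 11, 13, 3, 11, 13, 3, 11, 13, 8, 12, 10, 2, 12, 10, 2, 12, 10, 2, 12, 10, 2, 12, 10, 2], [3, 11, 13, 3, 11, 13, 3, 11, 13, 3, 11, 13, 3, 11, 13, 9, 12, 10, 2, 12, 10, 2, 12, 10, 2, 12, 10, 2, 12, 10, 2, 8]))) (BT.leaf (32, [11, 3, 11, 13, 3, 11, 13, 3, 11, 13, 3, 11, 13, 3, 11, 13, 10, 12, 10, 2, 12, 10, 2, 12, 10, 2, 12, 10, 2, 12, 10, 2], [3, 11, 13, 3, 11, 13, 3, 11, 13, 3, 11, 13, 3, 11, 13, 11, 12, 10, 2, 12, 10, 2, 12, 10, 2, 12, 10, 2, 12, 10, 2, 10]))) (BT.node 371 (BT.node 370 (BT.leaf (32, [13, 3, 11, 13, 3, 11, 13, 3, 11, 13, 3, 11,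 13, 3, 11, 13, 12, 12, 10, 2, 12, 10, 2, 12, 10, 2, 12, 10, 2, 12, 10, 2], [3, 11, 13, 3, 11, 13, 3, 11, 13, 3, 11, 13, 3, 11, 13, 13, 12, 10, 2, 12, 10, 2, 12, 10, 2, 12, 10, 2, 12, 10, 2, 12])) (BT.leaf (158, [1, 3, 5, 7, 5, 7, 3, 5, 7, 5, 7, 3, 5, 7, 5, 7, 3, 5, 7, 5, 7, 3, 5, 7, 5, 7, 9, 3, 5, 7, 5, 7, 3, 5, 7, 5, 7, 3, 5, 7, 5, 7, 3, 5, 7, 5, 7, 3, 5, 7, 5, 7, 9, 3, 5, 7, 5, 7, 3, 5, 7, 5, 7, 3, 5, 7, 5, 7, 3, 5, 7, 5, 7, 3, 5, 7, 5, 7, 9, 0, 8, 6, 4, 6, 4, 2, 6, 4, 6, 4, 2, 6, 4, 6, 4, 2, 6, 4, 6, 4, 2, 6, 4, 6, 4, 2, 8, 6, 4, 6, 4, 2, 6, 4, 6, 4, 2, 6, 4, 6, 4, 2, 6, 4, 6, 4, 2, 6, 4, 6, 4, 2, 8, 6, 4, 6, 4, 2, 6, 4, 6, 4, 2, 6, 4, 6, 4, 2, 6, 4, 6, 4, 2, 6, 4, 6, 4, 2], [3, 5, 7, 5, 7, 3, 5, 7, 5, 7, 3, 5, 7, 5, 7, 3, 5, 7, 5, 7, 3, 5, 7, 5, 7, 9, 3,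 5, 7, 5, 7, 3, 5, 7, 5, 7, 3, 5, 7, 5, 7, 3, 5, 7, 5, 7, 3, 5, 7, 5, 7, 9, 3, 5, 7, 5, 7, 3, 5, 7, 5, 7, 3, 5, 7, 5, 7, 3, 5, 7, 5, 7, 3, 5, 7, 5, 7, 9, 1, 8, 6, 4, 6, 4, 2, 6, 4, 6, 4, 2, 6, 4, 6, 4, 2, 6, 4, 6, 4, 2, 6, 4, 6, 4, 2, 8, 6, 4, 6, 4, 2, 6, 4, 6, 4, 2, 6, 4, 6, 4, 2, 6, 4, 6, 4, 2, 6, 4, 6, 4, 2, 8, 6, 4, 6, 4, 2, 6, 4, 6, 4, 2, 6, 4, 6, 4, 2, 6, 4, 6, 4, 2, 6, 4, 6, 4, 2, 0]))) (BT.leaf (158, [3, 3, 5, 7, 5, 7, 3, 5, 7, 5, 7, 3, 5, 7, 5, 7, 3, 5, 7, 5, 7, 3, 5, 7, 5, 7, 9, 3, 5, 7, 5, 7, 3, 5, 7, 5, 7, 3, 5, 7, 5, 7, 3, 5, 7, 5, 7, 3, 5, 7, 5, 7, 9, 3, 5, 7, 5, 7, 3, 5, 7, 5, 7, 3, 5, 7, 5, 7, 3, 5, 7, 5, 7, 3, 5, 7, 5, 7, 9, 2, 8, 6, 4, 6, 4, 2, 6, 4, 6, 4, 2, 6, 4, 6, 4, 2, 6, 4, 6, 4, 2, 6, 4, 6, 4, 2, 8, 6, 4, 6, 4, 2, 6, 4, 6, 4, 2, 6, 4,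 6, 4, 2, 6, 4, 6, 4, 2, 6, 4, 6, 4, 2, 8, 6, 4, 6, 4, 2, 6, 4, 6, 4, 2, 6, 4, 6, 4, 2, 6, 4, 6, 4, 2, 6, 4, 6, 4, 2], [3, 5, 7, 5, 7, 3, 5, 7, 5, 7, 3, 5, 7, 5, 7, 3, 5, 7, 5, 7, 3, 5, 7, 5, 7, 9, 3, 5, 7, 5, 7, 3, 5, 7, 5, 7, 3, 5, 7, 5, 7, 3, 5, 7, 5, 7, 3, 5, 7, 5, 7, 9, 3, 5, 7, 5, 7, 3, 5, 7, 5, 7, 3, 5, 7, 5, 7, 3, 5, 7, 5, 7, 3, 5, 7, 5, 7, 9, 3, 8, 6, 4, 6, 4, 2, 6, 4, 6, 4, 2, 6, 4, 6, 4, 2, 6, 4, 6, 4, 2, 6, 4, 6, 4, 2, 8, 6, 4, 6, 4, 2, 6, 4, 6, 4, 2, 6, 4, 6, 4, 2, 6, 4, 6, 4, 2, 6, 4, 6, 4, 2, 8, 6, 4, 6, 4, 2, 6, 4, 6, 4, 2, 6, 4, 6, 4, 2, 6, 4, 6, 4, 2, 6, 4, 6, 4, 2, 2]))))) (BT.node 378 (BT.node 375 (BT.node 374 (BT.node 373 (BT.leaf (158, [5, 3, 5, 7, 5, 7, 3, 5, 7, 5, 7, 3, 5, 7, 5, 7, 3, 5, 7, 5, 7, 3, 5, 7, 5, 7, 9, 3, 5, 7, 5, 7, 3, 5,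 7, 5, 7, 3, 5, 7, 5, 7, 3, 5, 7, 5, 7, 3, 5, 7, 5, 7, 9, 3, 5, 7, 5, 7, 3, 5, 7, 5, 7, 3, 5, 7, 5, 7, 3, 5, 7, 5, 7, 3, 5, 7, 5, 7, 9, 4, 8, 6, 4, 6, 4, 2, 6, 4, 6, 4, 2, 6, 4, 6, 4, 2, 6, 4, 6, 4, 2, 6, 4, 6, 4, 2, 8, 6, 4, 6, 4, 2, 6, 4, 6, 4, 2, 6, 4, 6, 4, 2, 6, 4, 6, 4, 2, 6, 4, 6, 4, 2, 8, 6, 4, 6, 4, 2, 6, 4, 6, 4, 2, 6, 4, 6, 4, 2, 6, 4, 6, 4, 2, 6, 4, 6, 4, 2], [3, 5, 7, 5, 7, 3, 5, 7, 5, 7, 3, 5, 7, 5, 7, 3, 5, 7, 5, 7, 3, 5, 7, 5, 7, 9, 3, 5, 7, 5, 7, 3, 5, 7, 5, 7, 3, 5, 7, 5, 7, 3, 5, 7, 5, 7, 3, 5, 7, 5, 7, 9, 3, 5, 7, 5, 7, 3, 5, 7, 5, 7, 3, 5, 7, 5, 7, 3, 5, 7, 5, 7, 3, 5, 7, 5, 7, 9, 5, 8, 6, 4, 6, 4, 2, 6, 4, 6, 4, 2, 6, 4, 6, 4, 2, 6, 4, 6, 4, 2, 6, 4, 6, 4, 2, 8, 6, 4, 6, 4, 2, 6, 4, 6, 4, 2, 6, 4, 6, 4, 2, 6, 4, 6, 4, 2, 6, 4, 6, 4, 2, 8,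 6, 4, 6, 4, 2, 6, 4, 6, 4, 2, 6, 4, 6, 4, 2, 6, 4, 6, 4, 2, 6, 4, 6, 4, 2, 4])) (BT.leaf (158, [7, 3, 5, 7, 5, 7, 3, 5, 7, 5, 7, 3, 5, 7, 5, 7, 3, 5, 7, 5, 7, 3, 5, 7, 5, 7, 9, 3, 5, 7, 5, 7, 3, 5, 7, 5, 7, 3, 5, 7, 5, 7, 3, 5, 7, 5, 7, 3, 5, 7, 5, 7, 9, 3, 5, 7, 5, 7, 3, 5, 7, 5, 7, 3, 5, 7, 5, 7, 3, 5, 7, 5, 7, 3, 5, 7, 5, 7, 9, 6, 8, 6, 4, 6, 4, 2, 6, 4, 6, 4, 2, 6, 4, 6, 4, 2, 6, 4, 6, 4, 2, 6, 4, 6, 4, 2, 8, 6, 4, 6, 4, 2, 6, 4, 6, 4, 2, 6, 4, 6, 4, 2, 6, 4, 6, 4, 2, 6, 4, 6, 4, 2, 8, 6, 4, 6, 4, 2, 6, 4, 6, 4, 2, 6, 4, 6, 4, 2, 6, 4, 6, 4, 2, 6, 4, 6, 4, 2], [3, 5, 7, 5, 7, 3, 5, 7, 5, 7, 3, 5, 7, 5, 7, 3, 5, 7, 5, 7, 3, 5, 7, 5, 7, 9, 3, 5, 7, 5, 7, 3, 5, 7, 5, 7, 3, 5, 7, 5, 7, 3, 5, 7, 5, 7, 3, 5, 7, 5, 7, 9, 3, 5, 7, 5, 7, 3, 5, 7, 5, 7, 3, 5, 7, 5,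 7, 3, 5, 7, 5, 7, 3, 5, 7, 5, 7, 9, 7, 8, 6, 4, 6, 4, 2, 6, 4, 6, 4, 2, 6, 4, 6, 4, 2, 6, 4, 6, 4, 2, 6, 4, 6, 4, 2, 8, 6, 4, 6, 4, 2, 6, 4, 6, 4, 2, 6, 4, 6, 4, 2, 6, 4, 6, 4, 2, 6, 4, 6, 4, 2, 8, 6, 4, 6, 4, 2, 6, 4, 6, 4, 2, 6, 4, 6, 4, 2, 6, 4, 6, 4, 2, 6, 4, 6, 4, 2, 6]))) (BT.leaf (158, [9, 3, 5, 7, 5, 7, 3, 5, 7, 5, 7, 3, 5, 7, 5, 7, 3, 5, 7, 5, 7, 3, 5, 7, 5, 7, 9, 3, 5, 7, 5, 7, 3, 5, 7, 5, 7, 3, 5, 7, 5, 7, 3, 5, 7, 5, 7, 3, 5, 7, 5, 7, 9, 3, 5, 7, 5, 7, 3, 5, 7, 5, 7, 3, 5, 7, 5, 7, 3, 5, 7, 5, 7, 3, 5, 7, 5, 7, 9, 8, 8, 6, 4, 6, 4, 2, 6, 4, 6, 4, 2, 6, 4, 6, 4, 2, 6, 4, 6, 4, 2, 6, 4, 6, 4, 2, 8, 6, 4, 6, 4, 2, 6, 4, 6, 4, 2, 6, 4, 6, 4, 2, 6, 4, 6, 4, 2, 6, 4, 6, 4, 2, 8, 6, 4, 6, 4, 2, 6, 4, 6, 4, 2, 6, 4, 6, 4, 2, 6, 4, 6, 4, 2, 6, 4, 6, 4, 2],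 [3, 5, 7, 5, 7, 3, 5, 7, 5, 7, 3, 5, 7, 5, 7, 3, 5, 7, 5, 7, 3, 5, 7, 5, 7, 9, 3, 5, 7, 5, 7, 3, 5, 7, 5, 7, 3, 5, 7, 5, 7, 3, 5, 7, 5, 7, 3, 5, 7, 5, 7, 9, 3, 5, 7, 5, 7, 3, 5, 7, 5, 7, 3, 5, 7, 5, 7, 3, 5, 7, 5, 7, 3, 5, 7, 5, 7, 9, 9, 8, 6, 4, 6, 4, 2, 6, 4, 6, 4, 2, 6, 4, 6, 4, 2, 6, 4, 6, 4, 2, 6, 4, 6, 4, 2, 8, 6, 4, 6, 4, 2, 6, 4, 6, 4, 2, 6, 4, 6, 4, 2, 6, 4, 6, 4, 2, 6, 4, 6, 4, 2, 8, 6, 4, 6, 4, 2, 6, 4, 6, 4, 2, 6, 4, 6, 4, 2, 6, 4, 6, 4, 2, 6, 4, 6, 4, 2, 8]))) (BT.node 377 (BT.node 376 (BT.leaf (158, [11, 3, 5, 7, 5, 7, 3, 5, 7, 5, 7, 3, 5, 7, 5, 7, 3, 5, 7, 5, 7, 3, 5, 7, 5, 7, 9, 3, 5, 7, 5, 7, 3, 5, 7, 5, 7, 3, 5, 7, 5, 7, 3, 5, 7, 5, 7, 3, 5, 7, 5, 7, 9, 3, 5, 7, 5, 7, 3, 5, 7, 5, 7, 3, 5, 7, 5, 7, 3, 5, 7, 5, 7, 3, 5, 7, 5, 7, 9, 10, 8, 6,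 4, 6, 4, 2, 6, 4, 6, 4, 2, 6, 4, 6, 4, 2, 6, 4, 6, 4, 2, 6, 4, 6, 4, 2, 8, 6, 4, 6, 4, 2, 6, 4, 6, 4, 2, 6, 4, 6, 4, 2, 6, 4, 6, 4, 2, 6, 4, 6, 4, 2, 8, 6, 4, 6, 4, 2, 6, 4, 6, 4, 2, 6, 4, 6, 4, 2, 6, 4, 6, 4, 2, 6, 4, 6, 4, 2], [3, 5, 7, 5, 7, 3, 5, 7, 5, 7, 3, 5, 7, 5, 7, 3, 5, 7, 5, 7, 3, 5, 7, 5, 7, 9, 3, 5, 7, 5, 7, 3, 5, 7, 5, 7, 3, 5, 7, 5, 7, 3, 5, 7, 5, 7, 3, 5, 7, 5, 7, 9, 3, 5, 7, 5, 7, 3, 5, 7, 5, 7, 3, 5, 7, 5, 7, 3, 5, 7, 5, 7, 3, 5, 7, 5, 7, 9, 11, 8, 6, 4, 6, 4, 2, 6, 4, 6, 4, 2, 6, 4, 6, 4, 2, 6, 4, 6, 4, 2, 6, 4, 6, 4, 2, 8, 6, 4, 6, 4, 2, 6, 4, 6, 4, 2, 6, 4, 6, 4, 2, 6, 4, 6, 4, 2, 6, 4, 6, 4, 2, 8, 6, 4, 6, 4, 2, 6, 4, 6, 4, 2, 6, 4, 6, 4, 2, 6, 4, 6, 4, 2, 6, 4, 6, 4, 2, 10])) (BT.leaf (158, [13, 3, 5, 7, 5, 7, 3, 5, 7, 5, 7, 3, 5, 7, 5,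 7, 3, 5, 7, 5, 7, 3, 5, 7, 5, 7, 9, 3, 5, 7, 5, 7, 3, 5, 7, 5, 7, 3, 5, 7, 5, 7, 3, 5, 7, 5, 7, 3, 5, 7, 5, 7, 9, 3, 5, 7, 5, 7, 3, 5, 7, 5, 7, 3, 5, 7, 5, 7, 3, 5, 7, 5, 7, 3, 5, 7, 5, 7, 9, 12, 8, 6, 4, 6, 4, 2, 6, 4, 6, 4, 2, 6, 4, 6, 4, 2, 6, 4, 6, 4, 2, 6, 4, 6, 4, 2, 8, 6, 4, 6, 4, 2, 6, 4, 6, 4, 2, 6, 4, 6, 4, 2, 6, 4, 6, 4, 2, 6, 4, 6, 4, 2, 8, 6, 4, 6, 4, 2, 6, 4, 6, 4, 2, 6, 4, 6, 4, 2, 6, 4, 6, 4, 2, 6, 4, 6, 4, 2], [3, 5, 7, 5, 7, 3, 5, 7, 5, 7, 3, 5, 7, 5, 7, 3, 5, 7, 5, 7, 3, 5, 7, 5, 7, 9, 3, 5, 7, 5, 7, 3, 5, 7, 5, 7, 3, 5, 7, 5, 7, 3, 5, 7, 5, 7, 3, 5, 7, 5, 7, 9, 3, 5, 7, 5, 7, 3, 5, 7, 5, 7, 3, 5, 7, 5, 7, 3, 5, 7, 5, 7, 3, 5, 7, 5, 7, 9, 13, 8, 6, 4, 6, 4, 2, 6, 4, 6, 4, 2, 6, 4, 6, 4, 2, 6, 4, 6, 4, 2, 6, 4, 6, 4, 2, 8, 6, 4, 6, 4, 2, 6,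 4, 6, 4, 2, 6, 4, 6, 4, 2, 6, 4, 6, 4, 2, 6, 4, 6, 4, 2, 8, 6, 4, 6, 4, 2, 6, 4, 6, 4, 2, 6, 4, 6, 4, 2, 6, 4, 6, 4, 2, 6, 4, 6, 4, 2, 12]))) (BT.leaf (17, [6, 6, 6, 6, 4, 4, 4, 4, 5, 7, 5, 7, 5, 7, 5, 7, 0], [1, 6, 4, 6, 4, 6, 4, 6, 4, 5, 5, 5, 5, 7, 7, 7, 7])))) (BT.node 381 (BT.node 380 (BT.node 379 (BT.leaf (35, [3, 3, 3, 3, 1, 6, 4, 6, 4, 6, 4, 6, 4, 5, 5, 5, 5, 7, 7, 7, 7, 1, 1, 1, 1, 2, 0, 2, 0, 2, 0, 2, 0, 2, 0], [1, 3, 1, 3, 1, 3, 1, 3, 1, 3, 0, 0, 0, 0, 6, 6, 6, 6, 4, 4, 4, 4, 5, 7, 5, 7, 5, 7, 5, 7, 0, 2, 2, 2, 2])) (BT.leaf (45, [5, 5, 1, 3, 1, 3, 1, 3, 1, 3, 1, 3, 0, 0, 0, 0, 6, 6, 6, 6, 4, 4, 4, 4, 5, 7, 5, 7, 5, 7, 5, 7, 0, 2, 2, 2, 2, 3, 3, 4, 2, 4, 2, 4, 2], [3, 5, 3, 5, 3, 5, 2, 2, 3, 3, 3, 3, 1, 6, 4, 6, 4, 6, 4, 6, 4, 5, 5, 5, 5, 7, 7, 7,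 7, 1, 1, 1, 1, 2, 0, 2, 0, 2, 0, 2, 0, 2, 0, 4, 4]))) (BT.leaf (199, [3, 5, 7, 5, 7, 3, 5, 7, 5, 7, 3, 5, 7, 5, 7, 3, 5, 7, 5, 7, 3, 5, 7, 5, 7, 9, 3, 5, 7, 5, 7, 3, 5, 7, 5, 7, 3, 5, 7, 5, 7, 3, 5, 7, 5, 7, 3, 5, 7, 5, 7, 9, 3, 5, 7, 5, 7, 3, 5, 7, 5, 7, 3, 5, 7, 5, 7, 3, 5, 7, 5, 7, 3, 5, 7, 5, 7, 9, 2, 2, 2, 2, 2, 2, 2, 2, 2, 2, 2, 2, 2, 2, 3, 3, 3, 3, 1, 6, 4, 6, 4, 6, 4, 6, 4, 5, 5, 5, 5, 7, 7, 7, 7, 1, 1, 1, 1, 2, 0, 2, 0, 2, 0, 2, 0, 2, 0, 4, 4, 4, 4, 4, 4, 4, 4, 4, 4, 4, 4, 4, 4, 4, 4, 4, 4, 4, 4, 4, 4, 4, 4, 4, 4, 4, 4, 4, 4, 6, 6, 6, 6, 6, 6, 6, 6, 6, 6, 6, 6, 6, 6, 6, 6, 6, 6, 6, 6, 6, 6, 6, 6, 6, 6, 6, 6, 6, 6, 8, 8, 9, 9, 7, 7, 8, 6, 8, 6, 8, 6], [7, 9, 7, 9, 7, 9, 6, 6, 8, 8, 9, 9, 7, 7, 7, 7, 7, 7, 7, 7, 7, 7, 7, 7, 7, 7, 7, 7, 7, 7, 7, 7, 7,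 7, 7, 7, 7, 7, 7, 7, 7, 7, 5, 5, 5, 5, 5, 5, 5, 5, 5, 5, 5, 5, 5, 5, 5, 5, 5, 5, 5, 5, 5, 5, 5, 5, 5, 5, 5, 5, 5, 5, 1, 3, 1, 3, 1, 3, 1, 3, 1, 3, 0, 0, 0, 0, 6, 6, 6, 6, 4, 4, 4, 4, 5, 7, 5, 7, 5, 7, 5, 7, 0, 2, 2, 2, 2, 3, 3, 3, 3, 3, 3, 3, 3, 3, 3, 3, 3, 3, 3, 8, 6, 4, 6, 4, 2, 6, 4, 6, 4, 2, 6, 4, 6, 4, 2, 6, 4, 6, 4, 2, 6, 4, 6, 4, 2, 8, 6, 4, 6, 4, 2, 6, 4, 6, 4, 2, 6, 4, 6, 4, 2, 6, 4, 6, 4, 2, 6, 4, 6, 4, 2, 8, 6, 4, 6, 4, 2, 6, 4, 6, 4, 2, 6, 4, 6, 4, 2, 6, 4, 6, 4, 2, 6, 4, 6, 4, 2]))) (BT.node 383 (BT.node 382 (BT.leaf (189, [9, 9, 7, 7, 7, 7, 7, 7, 7, 7, 7, 7, 7, 7, 7, 7, 7, 7, 7, 7, 7, 7, 7, 7, 7, 7, 7, 7, 7, 7, 7, 7, 5, 5, 5, 5, 5, 5, 5, 5, 5, 5, 5, 5, 5, 5, 5, 5, 5, 5, 5, 5, 5, 5, 5, 5, 5, 5, 5, 5, 5, 5, 1, 3, 1, 3, 1, 3, 1, 3, 1, 3, 0, 0, 0,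 0, 6, 6, 6, 6, 4, 4, 4, 4, 5, 7, 5, 7, 5, 7, 5, 7, 0, 2, 2, 2, 2, 3, 3, 3, 3, 3, 3, 3, 3, 3, 3, 3, 3, 3, 3, 8, 6, 4, 6, 4, 2, 6, 4, 6, 4, 2, 6, 4, 6, 4, 2, 6, 4, 6, 4, 2, 6, 4, 6, 4, 2, 8, 6, 4, 6, 4, 2, 6, 4, 6, 4, 2, 6, 4, 6, 4, 2, 6, 4, 6, 4, 2, 6, 4, 6, 4, 2, 8, 6, 4, 6, 4, 2, 6, 4, 6, 4, 2, 6, 4, 6, 4, 2, 6, 4, 6, 4, 2, 6, 4, 6, 4, 2], [3, 5, 7, 5, 7, 3, 5, 7, 5, 7, 3, 5, 7, 5, 7, 3, 5, 7, 5, 7, 3, 5, 7, 5, 7, 9, 3, 5, 7, 5, 7, 3, 5, 7, 5, 7, 3, 5, 7, 5, 7, 3, 5, 7, 5, 7, 3, 5, 7, 5, 7, 9, 3, 5, 7, 5, 7, 3, 5, 7, 5, 7, 3, 5, 7, 5, 7, 3, 5, 7, 5, 7, 3, 5, 7, 5, 7, 9, 2, 2, 2, 2, 2, 2, 2, 2, 2, 2, 2, 2, 2, 2, 3, 3, 3, 3, 1, 6, 4, 6, 4, 6, 4, 6, 4, 5, 5, 5, 5, 7, 7, 7, 7, 1, 1, 1, 1, 2, 0, 2, 0, 2, 0, 2, 0, 2, 0, 4, 4, 4, 4, 4, 4, 4, 4, 4, 4, 4, 4, 4, 4, 4,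 4, 4, 4, 4, 4, 4, 4, 4, 4, 4, 4, 4, 4, 4, 4, 6, 6, 6, 6, 6, 6, 6, 6, 6, 6, 6, 6, 6, 6, 6, 6, 6, 6, 6, 6, 6, 6, 6, 6, 6, 6, 6, 6, 6, 6, 8, 8])) (BT.leaf (45, [11, 11, 1, 3, 1, 3, 1, 3, 1, 3, 1, 3, 0, 0, 0, 0, 6, 6, 6, 6, 4, 4, 4, 4, 5, 7, 5, 7, 5, 7, 5, 7, 0, 2, 2, 2, 2, 3, 3, 10, 2, 10, 2, 10, 2], [3, 11, 3, 11, 3, 11, 2, 2, 3, 3, 3, 3, 1, 6, 4, 6, 4, 6, 4, 6, 4, 5, 5, 5, 5, 7, 7, 7, 7, 1, 1, 1, 1, 2, 0, 2, 0, 2, 0, 2, 0, 2, 0, 10, 10]))) (BT.leaf (45, [13, 13, 1, 3, 1, 3, 1, 3, 1, 3, 1, 3, 0, 0, 0, 0, 6, 6, 6, 6, 4, 4, 4, 4, 5, 7, 5, 7, 5, 7, 5, 7, 0, 2, 2, 2, 2, 3, 3, 2, 12, 2, 12, 2, 12], [13, 3, 13, 3, 13, 3, 2, 2, 3, 3, 3, 3, 1, 6, 4, 6, 4, 6, 4, 6, 4, 5, 5, 5, 5, 7, 7, 7, 7, 1, 1, 1, 1, 2, 0, 2, 0, 2, 0, 2, 0, 2, 0, 12, 12]))))))))))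
/-- subgroup generators -/
def subT : BT (ℕ × List ℕ × List ℕ) := (BT.node 2 (BT.node 1 (BT.node 0 (BT.leaf (1, [0], [1])) (BT.leaf (1, [2], [3]))) (BT.leaf (1, [4], [5]))) (BT.node 4 (BT.node 3 (BT.leaf (1, [6], [7])) (BT.leaf (1, [8], [9]))) (BT.leaf (1, [10], [11]))))
/-- fact chunks -/
def colET : BT ℕ := (BT.node 329 (BT.node 164 (BT.node 82 (BT.node 41 (BT.node 20 (BT.node 10 (BT.node 5 (BT.node 2 (BT.node 1 (BT.node 0 (BT.leaf cE0) (BT.leaf cE1)) (BT.leaf cE2)) (BT.node 4 (BT.node 3 (BT.leaf cE3) (BT.leaf cE4)) (BT.leaf cE5))) (BT.node 8 (BT.node 7 (BT.node 6 (BT.leaf cE6) (BT.leaf cE7)) (BT.leaf cE8)) (BT.node 9 (BT.leaf cE9) (BT.leaf cE10)))) (BT.node 15 (BT.node 13 (BT.node 12 (BT.node 11 (BT.leaf cE11) (BT.leaf cE12)) (BT.leaf cE13)) (BT.node 14 (BT.leaf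 cE14) (BT.leaf cE15))) (BT.node 18 (BT.node 17 (BT.node 16 (BT.leaf cE16) (BT.leaf cE17)) (BT.leaf cE18)) (BT.node 19 (BT.leaf cE19) (BT.leaf cE20))))) (BT.node 31 (BT.node 26 (BT.node 23 (BT.node 22 (BT.node 21 (BT.leaf cE21) (BT.leaf cE22)) (BT.leaf cE23)) (BT.node 25 (BT.node 24 (BT.leaf cE24) (BT.leaf cE25)) (BT.leaf cE26))) (BT.node 29 (BT.node 28 (BT.node 27 (BT.leaf cE27) (BT.leaf cE28)) (BT.leaf cE29)) (BT.node 30 (BT.leaf cE30) (BT.leaf cE31)))) (BT.node 36 (BT.node 34 (BT.node 33 (BT.node 32 (BT.leaf cE32) (BT.leaf cE33)) (BT.leaf cE34)) (BT.node 35 (BT.leaf cE35) (BT.leaf cE36))) (BT.node 39 (BT.node 38 (BT.node 37 (BT.leaf cE37) (BT.leaf cE38)) (BT.leaf cE39)) (BT.node 40 (BT.leaf cE40) (BT.leaf cE41)))))) (BT.node 62 (BT.node 52 (BT.node 47 (BT.node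 44 (BT.node 43 (BT.node 42 (BT.leaf cE42) (BT.leaf cE43)) (BT.leaf cE44)) (BT.node 46 (BT.node 45 (BT.leaf cE45) (BT.leaf cE46)) (BT.leaf cE47))) (BT.node 50 (BT.node 49 (BT.node 48 (BT.leaf cE48) (BT.leaf cE49)) (BT.leaf cE50)) (BT.node 51 (BT.leaf cE51) (BT.leaf cE52)))) (BT.node 57 (BT.node 55 (BT.node 54 (BT.node 53 (BT.leaf cE53) (BT.leaf cE54)) (BT.leaf cE55)) (BT.node 56 (BT.leaf cE56) (BT.leaf cE57))) (BT.node 60 (BT.node 59 (BT.node 58 (BT.leaf cE58) (BT.leaf cE59)) (BT.leaf cE60)) (BT.node 61 (BT.leaf cE61) (BT.leaf cE62))))) (BT.node 72 (BT.node 67 (BT.node 65 (BT.node 64 (BT.node 63 (BT.leaf cE63) (BT.leaf cE64)) (BT.leaf cE65)) (BT.node 66 (BT.leaf cE66) (BT.leaf cE67))) (BT.node 70 (BT.node 69 (BT.node 68 (BT.leaf cE68) (BT.leaf cE69)) (BT.leaf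 cE70)) (BT.node 71 (BT.leaf cE71) (BT.leaf cE72)))) (BT.node 77 (BT.node 75 (BT.node 74 (BT.node 73 (BT.leaf cE73) (BT.leaf cE74)) (BT.leaf cE75)) (BT.node 76 (BT.leaf cE76) (BT.leaf cE77))) (BT.node 80 (BT.node 79 (BT.node 78 (BT.leaf cE78) (BT.leaf cE79)) (BT.leaf cE80)) (BT.node 81 (BT.leaf cE81) (BT.leaf cE82))))))) (BT.node 123 (BT.node 103 (BT.node 93 (BT.node 88 (BT.node 85 (BT.node 84 (BT.node 83 (BT.leaf cE83) (BT.leaf cE84)) (BT.leaf cE85)) (BT.node 87 (BT.node 86 (BT.leaf cE86) (BT.leaf cE87)) (BT.leaf cE88))) (BT.node 91 (BT.node 90 (BT.node 89 (BT.leaf cE89) (BT.leaf cE90)) (BT.leaf cE91)) (BT.node 92 (BT.leaf cE92) (BT.leaf cE93)))) (BT.node 98 (BT.node 96 (BT.node 95 (BT.node 94 (BT.leaf cE94) (BT.leaf cE95)) (BT.leaf cE96)) (BT.node 97 (BT.leaf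 cE97) (BT.leaf cE98))) (BT.node 101 (BT.node 100 (BT.node 99 (BT.leaf cE99) (BT.leaf cE100)) (BT.leaf cE101)) (BT.node 102 (BT.leaf cE102) (BT.leaf cE103))))) (BT.node 113 (BT.node 108 (BT.node 106 (BT.node 105 (BT.node 104 (BT.leaf cE104) (BT.leaf cE105)) (BT.leaf cE106)) (BT.node 107 (BT.leaf cE107) (BT.leaf cE108))) (BT.node 111 (BT.node 110 (BT.node 109 (BT.leaf cE109) (BT.leaf cE110)) (BT.leaf cE111)) (BT.node 112 (BT.leaf cE112) (BT.leaf cE113)))) (BT.node 118 (BT.node 116 (BT.node 115 (BT.node 114 (BT.leaf cE114) (BT.leaf cE115)) (BT.leaf cE116)) (BT.node 117 (BT.leaf cE117) (BT.leaf cE118))) (BT.node 121 (BT.node 120 (BT.node 119 (BT.leaf cE119) (BT.leaf cE120)) (BT.leaf cE121)) (BT.node 122 (BT.leaf cE122) (BT.leaf cE123)))))) (BT.node 144 (BT.node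 134 (BT.node 129 (BT.node 126 (BT.node 125 (BT.node 124 (BT.leaf cE124) (BT.leaf cE125)) (BT.leaf cE126)) (BT.node 128 (BT.node 127 (BT.leaf cE127) (BT.leaf cE128)) (BT.leaf cE129))) (BT.node 132 (BT.node 131 (BT.node 130 (BT.leaf cE130) (BT.leaf cE131)) (BT.leaf cE132)) (BT.node 133 (BT.leaf cE133) (BT.leaf cE134)))) (BT.node 139 (BT.node 137 (BT.node 136 (BT.node 135 (BT.leaf cE135) (BT.leaf cE136)) (BT.leaf cE137)) (BT.node 138 (BT.leaf cE138) (BT.leaf cE139))) (BT.node 142 (BT.node 141 (BT.node 140 (BT.leaf cE140) (BT.leaf cE141)) (BT.leaf cE142)) (BT.node 143 (BT.leaf cE143) (BT.leaf cE144))))) (BT.node 154 (BT.node 149 (BT.node 147 (BT.node 146 (BT.node 145 (BT.leaf cE145) (BT.leaf cE146)) (BT.leaf cE147)) (BT.node 148 (BT.leaf cE148) (BT.leaf cE149)))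 (BT.node 152 (BT.node 151 (BT.node 150 (BT.leaf cE150) (BT.leaf cE151)) (BT.leaf cE152)) (BT.node 153 (BT.leaf cE153) (BT.leaf cE154)))) (BT.node 159 (BT.node 157 (BT.node 156 (BT.node 155 (BT.leaf cE155) (BT.leaf cE156)) (BT.leaf cE157)) (BT.node 158 (BT.leaf cE158) (BT.leaf cE159))) (BT.node 162 (BT.node 161 (BT.node 160 (BT.leaf cE160) (BT.leaf cE161)) (BT.leaf cE162)) (BT.node 163 (BT.leaf cE163) (BT.leaf cE164)))))))) (BT.node 247 (BT.node 206 (BT.node 185 (BT.node 175 (BT.node 170 (BT.node 167 (BT.node 166 (BT.node 165 (BT.leaf cE165) (BT.leaf cE166)) (BT.leaf cE167)) (BT.node 169 (BT.node 168 (BT.leaf cE168) (BT.leaf cE169)) (BT.leaf cE170))) (BT.node 173 (BT.node 172 (BT.node 171 (BT.leaf cE171) (BT.leaf cE172)) (BT.leaf cE173)) (BT.node 174 (BT.leaf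 cE174) (BT.leaf cE175)))) (BT.node 180 (BT.node 178 (BT.node 177 (BT.node 176 (BT.leaf cE176) (BT.leaf cE177)) (BT.leaf cE178)) (BT.node 179 (BT.leaf cE179) (BT.leaf cE180))) (BT.node 183 (BT.node 182 (BT.node 181 (BT.leaf cE181) (BT.leaf cE182)) (BT.leaf cE183)) (BT.node 184 (BT.leaf cE184) (BT.leaf cE185))))) (BT.node 196 (BT.node 191 (BT.node 188 (BT.node 187 (BT.node 186 (BT.leaf cE186) (BT.leaf cE187)) (BT.leaf cE188)) (BT.node 190 (BT.node 189 (BT.leaf cE189) (BT.leaf cE190)) (BT.leaf cE191))) (BT.node 194 (BT.node 193 (BT.node 192 (BT.leaf cE192) (BT.leaf cE193)) (BT.leaf cE194)) (BT.node 195 (BT.leaf cE195) (BT.leaf cE196)))) (BT.node 201 (BT.node 199 (BT.node 198 (BT.node 197 (BT.leaf cE197) (BT.leaf cE198)) (BT.leaf cE199)) (BT.node 200 (BT.leaf cE200)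 (BT.leaf cE201))) (BT.node 204 (BT.node 203 (BT.node 202 (BT.leaf cE202) (BT.leaf cE203)) (BT.leaf cE204)) (BT.node 205 (BT.leaf cE205) (BT.leaf cE206)))))) (BT.node 227 (BT.node 217 (BT.node 212 (BT.node 209 (BT.node 208 (BT.node 207 (BT.leaf cE207) (BT.leaf cE208)) (BT.leaf cE209)) (BT.node 211 (BT.node 210 (BT.leaf cE210) (BT.leaf cE211)) (BT.leaf cE212))) (BT.node 215 (BT.node 214 (BT.node 213 (BT.leaf cE213) (BT.leaf cE214)) (BT.leaf cE215)) (BT.node 216 (BT.leaf cE216) (BT.leaf cE217)))) (BT.node 222 (BT.node 220 (BT.node 219 (BT.node 218 (BT.leaf cE218) (BT.leaf cE219)) (BT.leaf cE220)) (BT.node 221 (BT.leaf cE221) (BT.leaf cE222))) (BT.node 225 (BT.node 224 (BT.node 223 (BT.leaf cE223) (BT.leaf cE224)) (BT.leaf cE225)) (BT.node 226 (BT.leaf cE226) (BT.leaf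 cE227))))) (BT.node 237 (BT.node 232 (BT.node 230 (BT.node 229 (BT.node 228 (BT.leaf cE228) (BT.leaf cE229)) (BT.leaf cE230)) (BT.node 231 (BT.leaf cE231) (BT.leaf cE232))) (BT.node 235 (BT.node 234 (BT.node 233 (BT.leaf cE233) (BT.leaf cE234)) (BT.leaf cE235)) (BT.node 236 (BT.leaf cE236) (BT.leaf cE237)))) (BT.node 242 (BT.node 240 (BT.node 239 (BT.node 238 (BT.leaf cE238) (BT.leaf cE239)) (BT.leaf cE240)) (BT.node 241 (BT.leaf cE241) (BT.leaf cE242))) (BT.node 245 (BT.node 244 (BT.node 243 (BT.leaf cE243) (BT.leaf cE244)) (BT.leaf cE245)) (BT.node 246 (BT.leaf cE246) (BT.leaf cE247))))))) (BT.node 288 (BT.node 268 (BT.node 258 (BT.node 253 (BT.node 250 (BT.node 249 (BT.node 248 (BT.leaf cE248) (BT.leaf cE249)) (BT.leaf cE250)) (BT.node 252 (BT.node 251 (BT.leaf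 cE251) (BT.leaf cE252)) (BT.leaf cE253))) (BT.node 256 (BT.node 255 (BT.node 254 (BT.leaf cE254) (BT.leaf cE255)) (BT.leaf cE256)) (BT.node 257 (BT.leaf cE257) (BT.leaf cE258)))) (BT.node 263 (BT.node 261 (BT.node 260 (BT.node 259 (BT.leaf cE259) (BT.leaf cE260)) (BT.leaf cE261)) (BT.node 262 (BT.leaf cE262) (BT.leaf cE263))) (BT.node 266 (BT.node 265 (BT.node 264 (BT.leaf cE264) (BT.leaf cE265)) (BT.leaf cE266)) (BT.node 267 (BT.leaf cE267) (BT.leaf cE268))))) (BT.node 278 (BT.node 273 (BT.node 271 (BT.node 270 (BT.node 269 (BT.leaf cE269) (BT.leaf cE270)) (BT.leaf cE271)) (BT.node 272 (BT.leaf cE272) (BT.leaf cE273))) (BT.node 276 (BT.node 275 (BT.node 274 (BT.leaf cE274) (BT.leaf cE275)) (BT.leaf cE276)) (BT.node 277 (BT.leaf cE277) (BT.leaf cE278)))) (BT.node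 283 (BT.node 281 (BT.node 280 (BT.node 279 (BT.leaf cE279) (BT.leaf cE280)) (BT.leaf cE281)) (BT.node 282 (BT.leaf cE282) (BT.leaf cE283))) (BT.node 286 (BT.node 285 (BT.node 284 (BT.leaf cE284) (BT.leaf cE285)) (BT.leaf cE286)) (BT.node 287 (BT.leaf cE287) (BT.leaf cE288)))))) (BT.node 309 (BT.node 299 (BT.node 294 (BT.node 291 (BT.node 290 (BT.node 289 (BT.leaf cE289) (BT.leaf cE290)) (BT.leaf cE291)) (BT.node 293 (BT.node 292 (BT.leaf cE292) (BT.leaf cE293)) (BT.leaf cE294))) (BT.node 297 (BT.node 296 (BT.node 295 (BT.leaf cE295) (BT.leaf cE296)) (BT.leaf cE297)) (BT.node 298 (BT.leaf cE298) (BT.leaf cE299)))) (BT.node 304 (BT.node 302 (BT.node 301 (BT.node 300 (BT.leaf cE300) (BT.leaf cE301)) (BT.leaf cE302)) (BT.node 303 (BT.leaf cE303) (BT.leaf cE304)))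 (BT.node 307 (BT.node 306 (BT.node 305 (BT.leaf cE305) (BT.leaf cE306)) (BT.leaf cE307)) (BT.node 308 (BT.leaf cE308) (BT.leaf cE309))))) (BT.node 319 (BT.node 314 (BT.node 312 (BT.node 311 (BT.node 310 (BT.leaf cE310) (BT.leaf cE311)) (BT.leaf cE312)) (BT.node 313 (BT.leaf cE313) (BT.leaf cE314))) (BT.node 317 (BT.node 316 (BT.node 315 (BT.leaf cE315) (BT.leaf cE316)) (BT.leaf cE317)) (BT.node 318 (BT.leaf cE318) (BT.leaf cE319)))) (BT.node 324 (BT.node 322 (BT.node 321 (BT.node 320 (BT.leaf cE320) (BT.leaf cE321)) (BT.leaf cE322)) (BT.node 323 (BT.leaf cE323) (BT.leaf cE324))) (BT.node 327 (BT.node 326 (BT.node 325 (BT.leaf cE325) (BT.leaf cE326)) (BT.leaf cE327)) (BT.node 328 (BT.leaf cE328) (BT.leaf cE329))))))))) (BT.node 494 (BT.node 412 (BT.node 371 (BT.node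 350 (BT.node 340 (BT.node 335 (BT.node 332 (BT.node 331 (BT.node 330 (BT.leaf cE330) (BT.leaf cE331)) (BT.leaf cE332)) (BT.node 334 (BT.node 333 (BT.leaf cE333) (BT.leaf cE334)) (BT.leaf cE335))) (BT.node 338 (BT.node 337 (BT.node 336 (BT.leaf cE336) (BT.leaf cE337)) (BT.leaf cE338)) (BT.node 339 (BT.leaf cE339) (BT.leaf cE340)))) (BT.node 345 (BT.node 343 (BT.node 342 (BT.node 341 (BT.leaf cE341) (BT.leaf cE342)) (BT.leaf cE343)) (BT.node 344 (BT.leaf cE344) (BT.leaf cE345))) (BT.node 348 (BT.node 347 (BT.node 346 (BT.leaf cE346) (BT.leaf cE347)) (BT.leaf cE348)) (BT.node 349 (BT.leaf cE349) (BT.leaf cE350))))) (BT.node 361 (BT.node 356 (BT.node 353 (BT.node 352 (BT.node 351 (BT.leaf cE351) (BT.leaf cE352)) (BT.leaf cE353)) (BT.node 355 (BT.node 354 (BT.leaf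 cE354) (BT.leaf cE355)) (BT.leaf cE356))) (BT.node 359 (BT.node 358 (BT.node 357 (BT.leaf cE357) (BT.leaf cE358)) (BT.leaf cE359)) (BT.node 360 (BT.leaf cE360) (BT.leaf cE361)))) (BT.node 366 (BT.node 364 (BT.node 363 (BT.node 362 (BT.leaf cE362) (BT.leaf cE363)) (BT.leaf cE364)) (BT.node 365 (BT.leaf cE365) (BT.leaf cE366))) (BT.node 369 (BT.node 368 (BT.node 367 (BT.leaf cE367) (BT.leaf cE368)) (BT.leaf cE369)) (BT.node 370 (BT.leaf cE370) (BT.leaf cE371)))))) (BT.node 392 (BT.node 382 (BT.node 377 (BT.node 374 (BT.node 373 (BT.node 372 (BT.leaf cE372) (BT.leaf cE373)) (BT.leaf cE374)) (BT.node 376 (BT.node 375 (BT.leaf cE375) (BT.leaf cE376)) (BT.leaf cE377))) (BT.node 380 (BT.node 379 (BT.node 378 (BT.leaf cE378) (BT.leaf cE379)) (BT.leaf cE380)) (BT.node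 381 (BT.leaf cE381) (BT.leaf cE382)))) (BT.node 387 (BT.node 385 (BT.node 384 (BT.node 383 (BT.leaf cE383) (BT.leaf cE384)) (BT.leaf cE385)) (BT.node 386 (BT.leaf cE386) (BT.leaf cE387))) (BT.node 390 (BT.node 389 (BT.node 388 (BT.leaf cE388) (BT.leaf cE389)) (BT.leaf cE390)) (BT.node 391 (BT.leaf cE391) (BT.leaf cE392))))) (BT.node 402 (BT.node 397 (BT.node 395 (BT.node 394 (BT.node 393 (BT.leaf cE393) (BT.leaf cE394)) (BT.leaf cE395)) (BT.node 396 (BT.leaf cE396) (BT.leaf cE397))) (BT.node 400 (BT.node 399 (BT.node 398 (BT.leaf cE398) (BT.leaf cE399)) (BT.leaf cE400)) (BT.node 401 (BT.leaf cE401) (BT.leaf cE402)))) (BT.node 407 (BT.node 405 (BT.node 404 (BT.node 403 (BT.leaf cE403) (BT.leaf cE404)) (BT.leaf cE405)) (BT.node 406 (BT.leaf cE406) (BT.leaf cE407)))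 (BT.node 410 (BT.node 409 (BT.node 408 (BT.leaf cE408) (BT.leaf cE409)) (BT.leaf cE410)) (BT.node 411 (BT.leaf cE411) (BT.leaf cE412))))))) (BT.node 453 (BT.node 433 (BT.node 423 (BT.node 418 (BT.node 415 (BT.node 414 (BT.node 413 (BT.leaf cE413) (BT.leaf cE414)) (BT.leaf cE415)) (BT.node 417 (BT.node 416 (BT.leaf cE416) (BT.leaf cE417)) (BT.leaf cE418))) (BT.node 421 (BT.node 420 (BT.node 419 (BT.leaf cE419) (BT.leaf cE420)) (BT.leaf cE421)) (BT.node 422 (BT.leaf cE422) (BT.leaf cE423)))) (BT.node 428 (BT.node 426 (BT.node 425 (BT.node 424 (BT.leaf cE424) (BT.leaf cE425)) (BT.leaf cE426)) (BT.node 427 (BT.leaf cE427) (BT.leaf cE428))) (BT.node 431 (BT.node 430 (BT.node 429 (BT.leaf cE429) (BT.leaf cE430)) (BT.leaf cE431)) (BT.node 432 (BT.leaf cE432) (BT.leaf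 cE433))))) (BT.node 443 (BT.node 438 (BT.node 436 (BT.node 435 (BT.node 434 (BT.leaf cE434) (BT.leaf cE435)) (BT.leaf cE436)) (BT.node 437 (BT.leaf cE437) (BT.leaf cE438))) (BT.node 441 (BT.node 440 (BT.node 439 (BT.leaf cE439) (BT.leaf cE440)) (BT.leaf cE441)) (BT.node 442 (BT.leaf cE442) (BT.leaf cE443)))) (BT.node 448 (BT.node 446 (BT.node 445 (BT.node 444 (BT.leaf cE444) (BT.leaf cE445)) (BT.leaf cE446)) (BT.node 447 (BT.leaf cE447) (BT.leaf cE448))) (BT.node 451 (BT.node 450 (BT.node 449 (BT.leaf cE449) (BT.leaf cE450)) (BT.leaf cE451)) (BT.node 452 (BT.leaf cE452) (BT.leaf cE453)))))) (BT.node 474 (BT.node 464 (BT.node 459 (BT.node 456 (BT.node 455 (BT.node 454 (BT.leaf cE454) (BT.leaf cE455)) (BT.leaf cE456)) (BT.node 458 (BT.node 457 (BT.leaf cE457)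 (BT.leaf cE458)) (BT.leaf cE459))) (BT.node 462 (BT.node 461 (BT.node 460 (BT.leaf cE460) (BT.leaf cE461)) (BT.leaf cE462)) (BT.node 463 (BT.leaf cE463) (BT.leaf cE464)))) (BT.node 469 (BT.node 467 (BT.node 466 (BT.node 465 (BT.leaf cE465) (BT.leaf cE466)) (BT.leaf cE467)) (BT.node 468 (BT.leaf cE468) (BT.leaf cE469))) (BT.node 472 (BT.node 471 (BT.node 470 (BT.leaf cE470) (BT.leaf cE471)) (BT.leaf cE472)) (BT.node 473 (BT.leaf cE473) (BT.leaf cE474))))) (BT.node 484 (BT.node 479 (BT.node 477 (BT.node 476 (BT.node 475 (BT.leaf cE475) (BT.leaf cE476)) (BT.leaf cE477)) (BT.node 478 (BT.leaf cE478) (BT.leaf cE479))) (BT.node 482 (BT.node 481 (BT.node 480 (BT.leaf cE480) (BT.leaf cE481)) (BT.leaf cE482)) (BT.node 483 (BT.leaf cE483) (BT.leaf cE484)))) (BT.node 489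 (BT.node 487 (BT.node 486 (BT.node 485 (BT.leaf cE485) (BT.leaf cE486)) (BT.leaf cE487)) (BT.node 488 (BT.leaf cE488) (BT.leaf cE489))) (BT.node 492 (BT.node 491 (BT.node 490 (BT.leaf cE490) (BT.leaf cE491)) (BT.leaf cE492)) (BT.node 493 (BT.leaf cE493) (BT.leaf cE494)))))))) (BT.node 577 (BT.node 536 (BT.node 515 (BT.node 505 (BT.node 500 (BT.node 497 (BT.node 496 (BT.node 495 (BT.leaf cE495) (BT.leaf cE496)) (BT.leaf cE497)) (BT.node 499 (BT.node 498 (BT.leaf cE498) (BT.leaf cE499)) (BT.leaf cE500))) (BT.node 503 (BT.node 502 (BT.node 501 (BT.leaf cE501) (BT.leaf cE502)) (BT.leaf cE503)) (BT.node 504 (BT.leaf cE504) (BT.leaf cE505)))) (BT.node 510 (BT.node 508 (BT.node 507 (BT.node 506 (BT.leaf cE506) (BT.leaf cE507)) (BT.leaf cE508)) (BT.node 509 (BT.leaf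 cE509) (BT.leaf cE510))) (BT.node 513 (BT.node 512 (BT.node 511 (BT.leaf cE511) (BT.leaf cE512)) (BT.leaf cE513)) (BT.node 514 (BT.leaf cE514) (BT.leaf cE515))))) (BT.node 526 (BT.node 521 (BT.node 518 (BT.node 517 (BT.node 516 (BT.leaf cE516) (BT.leaf cE517)) (BT.leaf cE518)) (BT.node 520 (BT.node 519 (BT.leaf cE519) (BT.leaf cE520)) (BT.leaf cE521))) (BT.node 524 (BT.node 523 (BT.node 522 (BT.leaf cE522) (BT.leaf cE523)) (BT.leaf cE524)) (BT.node 525 (BT.leaf cE525) (BT.leaf cE526)))) (BT.node 531 (BT.node 529 (BT.node 528 (BT.node 527 (BT.leaf cE527) (BT.leaf cE528)) (BT.leaf cE529)) (BT.node 530 (BT.leaf cE530) (BT.leaf cE531))) (BT.node 534 (BT.node 533 (BT.node 532 (BT.leaf cE532) (BT.leaf cE533)) (BT.leaf cE534)) (BT.node 535 (BT.leaf cE535) (BT.leaf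 cE536)))))) (BT.node 557 (BT.node 547 (BT.node 542 (BT.node 539 (BT.node 538 (BT.node 537 (BT.leaf cE537) (BT.leaf cE538)) (BT.leaf cE539)) (BT.node 541 (BT.node 540 (BT.leaf cE540) (BT.leaf cE541)) (BT.leaf cE542))) (BT.node 545 (BT.node 544 (BT.node 543 (BT.leaf cE543) (BT.leaf cE544)) (BT.leaf cE545)) (BT.node 546 (BT.leaf cE546) (BT.leaf cE547)))) (BT.node 552 (BT.node 550 (BT.node 549 (BT.node 548 (BT.leaf cE548) (BT.leaf cE549)) (BT.leaf cE550)) (BT.node 551 (BT.leaf cE551) (BT.leaf cE552))) (BT.node 555 (BT.node 554 (BT.node 553 (BT.leaf cE553) (BT.leaf cE554)) (BT.leaf cE555)) (BT.node 556 (BT.leaf cE556) (BT.leaf cE557))))) (BT.node 567 (BT.node 562 (BT.node 560 (BT.node 559 (BT.node 558 (BT.leaf cE558) (BT.leaf cE559)) (BT.leaf cE560)) (BT.node 561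 (BT.leaf cE561) (BT.leaf cE562))) (BT.node 565 (BT.node 564 (BT.node 563 (BT.leaf cE563) (BT.leaf cE564)) (BT.leaf cE565)) (BT.node 566 (BT.leaf cE566) (BT.leaf cE567)))) (BT.node 572 (BT.node 570 (BT.node 569 (BT.node 568 (BT.leaf cE568) (BT.leaf cE569)) (BT.leaf cE570)) (BT.node 571 (BT.leaf cE571) (BT.leaf cE572))) (BT.node 575 (BT.node 574 (BT.node 573 (BT.leaf cE573) (BT.leaf cE574)) (BT.leaf cE575)) (BT.node 576 (BT.leaf cE576) (BT.leaf cE577))))))) (BT.node 618 (BT.node 598 (BT.node 588 (BT.node 583 (BT.node 580 (BT.node 579 (BT.node 578 (BT.leaf cE578) (BT.leaf cE579)) (BT.leaf cE580)) (BT.node 582 (BT.node 581 (BT.leaf cE581) (BT.leaf cE582)) (BT.leaf cE583))) (BT.node 586 (BT.node 585 (BT.node 584 (BT.leaf cE584) (BT.leaf cE585)) (BT.leaf cE586)) (BT.node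 587 (BT.leaf cE587) (BT.leaf cE588)))) (BT.node 593 (BT.node 591 (BT.node 590 (BT.node 589 (BT.leaf cE589) (BT.leaf cE590)) (BT.leaf cE591)) (BT.node 592 (BT.leaf cE592) (BT.leaf cE593))) (BT.node 596 (BT.node 595 (BT.node 594 (BT.leaf cE594) (BT.leaf cE595)) (BT.leaf cE596)) (BT.node 597 (BT.leaf cE597) (BT.leaf cE598))))) (BT.node 608 (BT.node 603 (BT.node 601 (BT.node 600 (BT.node 599 (BT.leaf cE599) (BT.leaf cE600)) (BT.leaf cE601)) (BT.node 602 (BT.leaf cE602) (BT.leaf cE603))) (BT.node 606 (BT.node 605 (BT.node 604 (BT.leaf cE604) (BT.leaf cE605)) (BT.leaf cE606)) (BT.node 607 (BT.leaf cE607) (BT.leaf cE608)))) (BT.node 613 (BT.node 611 (BT.node 610 (BT.node 609 (BT.leaf cE609) (BT.leaf cE610)) (BT.leaf cE611)) (BT.node 612 (BT.leaf cE612) (BT.leaf cE613)))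 (BT.node 616 (BT.node 615 (BT.node 614 (BT.leaf cE614) (BT.leaf cE615)) (BT.leaf cE616)) (BT.node 617 (BT.leaf cE617) (BT.leaf cE618)))))) (BT.node 639 (BT.node 629 (BT.node 624 (BT.node 621 (BT.node 620 (BT.node 619 (BT.leaf cE619) (BT.leaf cE620)) (BT.leaf cE621)) (BT.node 623 (BT.node 622 (BT.leaf cE622) (BT.leaf cE623)) (BT.leaf cE624))) (BT.node 627 (BT.node 626 (BT.node 625 (BT.leaf cE625) (BT.leaf cE626)) (BT.leaf cE627)) (BT.node 628 (BT.leaf cE628) (BT.leaf cE629)))) (BT.node 634 (BT.node 632 (BT.node 631 (BT.node 630 (BT.leaf cE630) (BT.leaf cE631)) (BT.leaf cE632)) (BT.node 633 (BT.leaf cE633) (BT.leaf cE634))) (BT.node 637 (BT.node 636 (BT.node 635 (BT.leaf cE635) (BT.leaf cE636)) (BT.leaf cE637)) (BT.node 638 (BT.leaf cE638) (BT.leaf cE639)))))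 (BT.node 649 (BT.node 644 (BT.node 642 (BT.node 641 (BT.node 640 (BT.leaf cE640) (BT.leaf cE641)) (BT.leaf cE642)) (BT.node 643 (BT.leaf cE643) (BT.leaf cE644))) (BT.node 647 (BT.node 646 (BT.node 645 (BT.leaf cE645) (BT.leaf cE646)) (BT.leaf cE647)) (BT.node 648 (BT.leaf cE648) (BT.leaf cE649)))) (BT.node 654 (BT.node 652 (BT.node 651 (BT.node 650 (BT.leaf cE650) (BT.leaf cE651)) (BT.leaf cE652)) (BT.node 653 (BT.leaf cE653) (BT.leaf cE654))) (BT.node 657 (BT.node 656 (BT.node 655 (BT.leaf cE655) (BT.leaf cE656)) (BT.leaf cE657)) (BT.node 658 (BT.leaf cE658) (BT.leaf cE659))))))))))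
/-- justification chunks -/
def colJT : BT ℕ := (BT.node 329 (BT.node 164 (BT.node 82 (BT.node 41 (BT.node 20 (BT.node 10 (BT.node 5 (BT.node 2 (BT.node 1 (BT.node 0 (BT.leaf cJ0) (BT.leaf cJ1)) (BT.leaf cJ2)) (BT.node 4 (BT.node 3 (BT.leaf cJ3) (BT.leaf cJ4)) (BT.leaf cJ5))) (BT.node 8 (BT.node 7 (BT.node 6 (BT.leaf cJ6) (BT.leaf cJ7)) (BT.leaf cJ8)) (BT.node 9 (BT.leaf cJ9) (BT.leaf cJ10)))) (BT.node 15 (BT.node 13 (BT.node 12 (BT.node 11 (BT.leaf cJ11) (BT.leaf cJ12)) (BT.leaf cJ13)) (BT.node 14 (BT.leaf cJ14) (BT.leaf cJ15))) (BT.node 18 (BT.node 17 (BT.node 16 (BT.leaf cJ16) (BT.leaf cJ17)) (BT.leaf cJ18)) (BT.node 19 (BT.leaf cJ19) (BT.leaf cJ20))))) (BT.node 31 (BT.node 26 (BT.node 23 (BT.node 22 (BT.node 21 (BT.leaf cJ21) (BT.leaf cJ22)) (BT.leaf cJ23))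 (BT.node 25 (BT.node 24 (BT.leaf cJ24) (BT.leaf cJ25)) (BT.leaf cJ26))) (BT.node 29 (BT.node 28 (BT.node 27 (BT.leaf cJ27) (BT.leaf cJ28)) (BT.leaf cJ29)) (BT.node 30 (BT.leaf cJ30) (BT.leaf cJ31)))) (BT.node 36 (BT.node 34 (BT.node 33 (BT.node 32 (BT.leaf cJ32) (BT.leaf cJ33)) (BT.leaf cJ34)) (BT.node 35 (BT.leaf cJ35) (BT.leaf cJ36))) (BT.node 39 (BT.node 38 (BT.node 37 (BT.leaf cJ37) (BT.leaf cJ38)) (BT.leaf cJ39)) (BT.node 40 (BT.leaf cJ40) (BT.leaf cJ41)))))) (BT.node 62 (BT.node 52 (BT.node 47 (BT.node 44 (BT.node 43 (BT.node 42 (BT.leaf cJ42) (BT.leaf cJ43)) (BT.leaf cJ44)) (BT.node 46 (BT.node 45 (BT.leaf cJ45) (BT.leaf cJ46)) (BT.leaf cJ47))) (BT.node 50 (BT.node 49 (BT.node 48 (BT.leaf cJ48) (BT.leaf cJ49)) (BT.leaf cJ50)) (BT.node 51 (BT.leaf cJ51)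 (BT.leaf cJ52)))) (BT.node 57 (BT.node 55 (BT.node 54 (BT.node 53 (BT.leaf cJ53) (BT.leaf cJ54)) (BT.leaf cJ55)) (BT.node 56 (BT.leaf cJ56) (BT.leaf cJ57))) (BT.node 60 (BT.node 59 (BT.node 58 (BT.leaf cJ58) (BT.leaf cJ59)) (BT.leaf cJ60)) (BT.node 61 (BT.leaf cJ61) (BT.leaf cJ62))))) (BT.node 72 (BT.node 67 (BT.node 65 (BT.node 64 (BT.node 63 (BT.leaf cJ63) (BT.leaf cJ64)) (BT.leaf cJ65)) (BT.node 66 (BT.leaf cJ66) (BT.leaf cJ67))) (BT.node 70 (BT.node 69 (BT.node 68 (BT.leaf cJ68) (BT.leaf cJ69)) (BT.leaf cJ70)) (BT.node 71 (BT.leaf cJ71) (BT.leaf cJ72)))) (BT.node 77 (BT.node 75 (BT.node 74 (BT.node 73 (BT.leaf cJ73) (BT.leaf cJ74)) (BT.leaf cJ75)) (BT.node 76 (BT.leaf cJ76) (BT.leaf cJ77))) (BT.node 80 (BT.node 79 (BT.node 78 (BT.leaf cJ78) (BT.leaf cJ79))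 (BT.leaf cJ80)) (BT.node 81 (BT.leaf cJ81) (BT.leaf cJ82))))))) (BT.node 123 (BT.node 103 (BT.node 93 (BT.node 88 (BT.node 85 (BT.node 84 (BT.node 83 (BT.leaf cJ83) (BT.leaf cJ84)) (BT.leaf cJ85)) (BT.node 87 (BT.node 86 (BT.leaf cJ86) (BT.leaf cJ87)) (BT.leaf cJ88))) (BT.node 91 (BT.node 90 (BT.node 89 (BT.leaf cJ89) (BT.leaf cJ90)) (BT.leaf cJ91)) (BT.node 92 (BT.leaf cJ92) (BT.leaf cJ93)))) (BT.node 98 (BT.node 96 (BT.node 95 (BT.node 94 (BT.leaf cJ94) (BT.leaf cJ95)) (BT.leaf cJ96)) (BT.node 97 (BT.leaf cJ97) (BT.leaf cJ98))) (BT.node 101 (BT.node 100 (BT.node 99 (BT.leaf cJ99) (BT.leaf cJ100)) (BT.leaf cJ101)) (BT.node 102 (BT.leaf cJ102) (BT.leaf cJ103))))) (BT.node 113 (BT.node 108 (BT.node 106 (BT.node 105 (BT.node 104 (BT.leaf cJ104) (BT.leaf cJ105))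 (BT.leaf cJ106)) (BT.node 107 (BT.leaf cJ107) (BT.leaf cJ108))) (BT.node 111 (BT.node 110 (BT.node 109 (BT.leaf cJ109) (BT.leaf cJ110)) (BT.leaf cJ111)) (BT.node 112 (BT.leaf cJ112) (BT.leaf cJ113)))) (BT.node 118 (BT.node 116 (BT.node 115 (BT.node 114 (BT.leaf cJ114) (BT.leaf cJ115)) (BT.leaf cJ116)) (BT.node 117 (BT.leaf cJ117) (BT.leaf cJ118))) (BT.node 121 (BT.node 120 (BT.node 119 (BT.leaf cJ119) (BT.leaf cJ120)) (BT.leaf cJ121)) (BT.node 122 (BT.leaf cJ122) (BT.leaf cJ123)))))) (BT.node 144 (BT.node 134 (BT.node 129 (BT.node 126 (BT.node 125 (BT.node 124 (BT.leaf cJ124) (BT.leaf cJ125)) (BT.leaf cJ126)) (BT.node 128 (BT.node 127 (BT.leaf cJ127) (BT.leaf cJ128)) (BT.leaf cJ129))) (BT.node 132 (BT.node 131 (BT.node 130 (BT.leaf cJ130) (BT.leaf cJ131)) (BT.leaf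 cJ132)) (BT.node 133 (BT.leaf cJ133) (BT.leaf cJ134)))) (BT.node 139 (BT.node 137 (BT.node 136 (BT.node 135 (BT.leaf cJ135) (BT.leaf cJ136)) (BT.leaf cJ137)) (BT.node 138 (BT.leaf cJ138) (BT.leaf cJ139))) (BT.node 142 (BT.node 141 (BT.node 140 (BT.leaf cJ140) (BT.leaf cJ141)) (BT.leaf cJ142)) (BT.node 143 (BT.leaf cJ143) (BT.leaf cJ144))))) (BT.node 154 (BT.node 149 (BT.node 147 (BT.node 146 (BT.node 145 (BT.leaf cJ145) (BT.leaf cJ146)) (BT.leaf cJ147)) (BT.node 148 (BT.leaf cJ148) (BT.leaf cJ149))) (BT.node 152 (BT.node 151 (BT.node 150 (BT.leaf cJ150) (BT.leaf cJ151)) (BT.leaf cJ152)) (BT.node 153 (BT.leaf cJ153) (BT.leaf cJ154)))) (BT.node 159 (BT.node 157 (BT.node 156 (BT.node 155 (BT.leaf cJ155) (BT.leaf cJ156)) (BT.leaf cJ157)) (BT.node 158 (BT.leaf cJ158)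 (BT.leaf cJ159))) (BT.node 162 (BT.node 161 (BT.node 160 (BT.leaf cJ160) (BT.leaf cJ161)) (BT.leaf cJ162)) (BT.node 163 (BT.leaf cJ163) (BT.leaf cJ164)))))))) (BT.node 247 (BT.node 206 (BT.node 185 (BT.node 175 (BT.node 170 (BT.node 167 (BT.node 166 (BT.node 165 (BT.leaf cJ165) (BT.leaf cJ166)) (BT.leaf cJ167)) (BT.node 169 (BT.node 168 (BT.leaf cJ168) (BT.leaf cJ169)) (BT.leaf cJ170))) (BT.node 173 (BT.node 172 (BT.node 171 (BT.leaf cJ171) (BT.leaf cJ172)) (BT.leaf cJ173)) (BT.node 174 (BT.leaf cJ174) (BT.leaf cJ175)))) (BT.node 180 (BT.node 178 (BT.node 177 (BT.node 176 (BT.leaf cJ176) (BT.leaf cJ177)) (BT.leaf cJ178)) (BT.node 179 (BT.leaf cJ179) (BT.leaf cJ180))) (BT.node 183 (BT.node 182 (BT.node 181 (BT.leaf cJ181) (BT.leaf cJ182)) (BT.leaf cJ183)) (BT.node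 184 (BT.leaf cJ184) (BT.leaf cJ185))))) (BT.node 196 (BT.node 191 (BT.node 188 (BT.node 187 (BT.node 186 (BT.leaf cJ186) (BT.leaf cJ187)) (BT.leaf cJ188)) (BT.node 190 (BT.node 189 (BT.leaf cJ189) (BT.leaf cJ190)) (BT.leaf cJ191))) (BT.node 194 (BT.node 193 (BT.node 192 (BT.leaf cJ192) (BT.leaf cJ193)) (BT.leaf cJ194)) (BT.node 195 (BT.leaf cJ195) (BT.leaf cJ196)))) (BT.node 201 (BT.node 199 (BT.node 198 (BT.node 197 (BT.leaf cJ197) (BT.leaf cJ198)) (BT.leaf cJ199)) (BT.node 200 (BT.leaf cJ200) (BT.leaf cJ201))) (BT.node 204 (BT.node 203 (BT.node 202 (BT.leaf cJ202) (BT.leaf cJ203)) (BT.leaf cJ204)) (BT.node 205 (BT.leaf cJ205) (BT.leaf cJ206)))))) (BT.node 227 (BT.node 217 (BT.node 212 (BT.node 209 (BT.node 208 (BT.node 207 (BT.leaf cJ207) (BT.leaf cJ208))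 (BT.leaf cJ209)) (BT.node 211 (BT.node 210 (BT.leaf cJ210) (BT.leaf cJ211)) (BT.leaf cJ212))) (BT.node 215 (BT.node 214 (BT.node 213 (BT.leaf cJ213) (BT.leaf cJ214)) (BT.leaf cJ215)) (BT.node 216 (BT.leaf cJ216) (BT.leaf cJ217)))) (BT.node 222 (BT.node 220 (BT.node 219 (BT.node 218 (BT.leaf cJ218) (BT.leaf cJ219)) (BT.leaf cJ220)) (BT.node 221 (BT.leaf cJ221) (BT.leaf cJ222))) (BT.node 225 (BT.node 224 (BT.node 223 (BT.leaf cJ223) (BT.leaf cJ224)) (BT.leaf cJ225)) (BT.node 226 (BT.leaf cJ226) (BT.leaf cJ227))))) (BT.node 237 (BT.node 232 (BT.node 230 (BT.node 229 (BT.node 228 (BT.leaf cJ228) (BT.leaf cJ229)) (BT.leaf cJ230)) (BT.node 231 (BT.leaf cJ231) (BT.leaf cJ232))) (BT.node 235 (BT.node 234 (BT.node 233 (BT.leaf cJ233) (BT.leaf cJ234)) (BT.leaf cJ235))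 (BT.node 236 (BT.leaf cJ236) (BT.leaf cJ237)))) (BT.node 242 (BT.node 240 (BT.node 239 (BT.node 238 (BT.leaf cJ238) (BT.leaf cJ239)) (BT.leaf cJ240)) (BT.node 241 (BT.leaf cJ241) (BT.leaf cJ242))) (BT.node 245 (BT.node 244 (BT.node 243 (BT.leaf cJ243) (BT.leaf cJ244)) (BT.leaf cJ245)) (BT.node 246 (BT.leaf cJ246) (BT.leaf cJ247))))))) (BT.node 288 (BT.node 268 (BT.node 258 (BT.node 253 (BT.node 250 (BT.node 249 (BT.node 248 (BT.leaf cJ248) (BT.leaf cJ249)) (BT.leaf cJ250)) (BT.node 252 (BT.node 251 (BT.leaf cJ251) (BT.leaf cJ252)) (BT.leaf cJ253))) (BT.node 256 (BT.node 255 (BT.node 254 (BT.leaf cJ254) (BT.leaf cJ255)) (BT.leaf cJ256)) (BT.node 257 (BT.leaf cJ257) (BT.leaf cJ258)))) (BT.node 263 (BT.node 261 (BT.node 260 (BT.node 259 (BT.leaf cJ259) (BT.leaf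 cJ260)) (BT.leaf cJ261)) (BT.node 262 (BT.leaf cJ262) (BT.leaf cJ263))) (BT.node 266 (BT.node 265 (BT.node 264 (BT.leaf cJ264) (BT.leaf cJ265)) (BT.leaf cJ266)) (BT.node 267 (BT.leaf cJ267) (BT.leaf cJ268))))) (BT.node 278 (BT.node 273 (BT.node 271 (BT.node 270 (BT.node 269 (BT.leaf cJ269) (BT.leaf cJ270)) (BT.leaf cJ271)) (BT.node 272 (BT.leaf cJ272) (BT.leaf cJ273))) (BT.node 276 (BT.node 275 (BT.node 274 (BT.leaf cJ274) (BT.leaf cJ275)) (BT.leaf cJ276)) (BT.node 277 (BT.leaf cJ277) (BT.leaf cJ278)))) (BT.node 283 (BT.node 281 (BT.node 280 (BT.node 279 (BT.leaf cJ279) (BT.leaf cJ280)) (BT.leaf cJ281)) (BT.node 282 (BT.leaf cJ282) (BT.leaf cJ283))) (BT.node 286 (BT.node 285 (BT.node 284 (BT.leaf cJ284) (BT.leaf cJ285)) (BT.leaf cJ286)) (BT.node 287 (BT.leaf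 cJ287) (BT.leaf cJ288)))))) (BT.node 309 (BT.node 299 (BT.node 294 (BT.node 291 (BT.node 290 (BT.node 289 (BT.leaf cJ289) (BT.leaf cJ290)) (BT.leaf cJ291)) (BT.node 293 (BT.node 292 (BT.leaf cJ292) (BT.leaf cJ293)) (BT.leaf cJ294))) (BT.node 297 (BT.node 296 (BT.node 295 (BT.leaf cJ295) (BT.leaf cJ296)) (BT.leaf cJ297)) (BT.node 298 (BT.leaf cJ298) (BT.leaf cJ299)))) (BT.node 304 (BT.node 302 (BT.node 301 (BT.node 300 (BT.leaf cJ300) (BT.leaf cJ301)) (BT.leaf cJ302)) (BT.node 303 (BT.leaf cJ303) (BT.leaf cJ304))) (BT.node 307 (BT.node 306 (BT.node 305 (BT.leaf cJ305) (BT.leaf cJ306)) (BT.leaf cJ307)) (BT.node 308 (BT.leaf cJ308) (BT.leaf cJ309))))) (BT.node 319 (BT.node 314 (BT.node 312 (BT.node 311 (BT.node 310 (BT.leaf cJ310) (BT.leaf cJ311)) (BT.leaf cJ312))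 (BT.node 313 (BT.leaf cJ313) (BT.leaf cJ314))) (BT.node 317 (BT.node 316 (BT.node 315 (BT.leaf cJ315) (BT.leaf cJ316)) (BT.leaf cJ317)) (BT.node 318 (BT.leaf cJ318) (BT.leaf cJ319)))) (BT.node 324 (BT.node 322 (BT.node 321 (BT.node 320 (BT.leaf cJ320) (BT.leaf cJ321)) (BT.leaf cJ322)) (BT.node 323 (BT.leaf cJ323) (BT.leaf cJ324))) (BT.node 327 (BT.node 326 (BT.node 325 (BT.leaf cJ325) (BT.leaf cJ326)) (BT.leaf cJ327)) (BT.node 328 (BT.leaf cJ328) (BT.leaf cJ329))))))))) (BT.node 494 (BT.node 412 (BT.node 371 (BT.node 350 (BT.node 340 (BT.node 335 (BT.node 332 (BT.node 331 (BT.node 330 (BT.leaf cJ330) (BT.leaf cJ331)) (BT.leaf cJ332)) (BT.node 334 (BT.node 333 (BT.leaf cJ333) (BT.leaf cJ334)) (BT.leaf cJ335))) (BT.node 338 (BT.node 337 (BT.node 336 (BT.leaf cJ336)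 (BT.leaf cJ337)) (BT.leaf cJ338)) (BT.node 339 (BT.leaf cJ339) (BT.leaf cJ340)))) (BT.node 345 (BT.node 343 (BT.node 342 (BT.node 341 (BT.leaf cJ341) (BT.leaf cJ342)) (BT.leaf cJ343)) (BT.node 344 (BT.leaf cJ344) (BT.leaf cJ345))) (BT.node 348 (BT.node 347 (BT.node 346 (BT.leaf cJ346) (BT.leaf cJ347)) (BT.leaf cJ348)) (BT.node 349 (BT.leaf cJ349) (BT.leaf cJ350))))) (BT.node 361 (BT.node 356 (BT.node 353 (BT.node 352 (BT.node 351 (BT.leaf cJ351) (BT.leaf cJ352)) (BT.leaf cJ353)) (BT.node 355 (BT.node 354 (BT.leaf cJ354) (BT.leaf cJ355)) (BT.leaf cJ356))) (BT.node 359 (BT.node 358 (BT.node 357 (BT.leaf cJ357) (BT.leaf cJ358)) (BT.leaf cJ359)) (BT.node 360 (BT.leaf cJ360) (BT.leaf cJ361)))) (BT.node 366 (BT.node 364 (BT.node 363 (BT.node 362 (BT.leaf cJ362) (BT.leaf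 cJ363)) (BT.leaf cJ364)) (BT.node 365 (BT.leaf cJ365) (BT.leaf cJ366))) (BT.node 369 (BT.node 368 (BT.node 367 (BT.leaf cJ367) (BT.leaf cJ368)) (BT.leaf cJ369)) (BT.node 370 (BT.leaf cJ370) (BT.leaf cJ371)))))) (BT.node 392 (BT.node 382 (BT.node 377 (BT.node 374 (BT.node 373 (BT.node 372 (BT.leaf cJ372) (BT.leaf cJ373)) (BT.leaf cJ374)) (BT.node 376 (BT.node 375 (BT.leaf cJ375) (BT.leaf cJ376)) (BT.leaf cJ377))) (BT.node 380 (BT.node 379 (BT.node 378 (BT.leaf cJ378) (BT.leaf cJ379)) (BT.leaf cJ380)) (BT.node 381 (BT.leaf cJ381) (BT.leaf cJ382)))) (BT.node 387 (BT.node 385 (BT.node 384 (BT.node 383 (BT.leaf cJ383) (BT.leaf cJ384)) (BT.leaf cJ385)) (BT.node 386 (BT.leaf cJ386) (BT.leaf cJ387))) (BT.node 390 (BT.node 389 (BT.node 388 (BT.leaf cJ388) (BT.leaf cJ389))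 (BT.leaf cJ390)) (BT.node 391 (BT.leaf cJ391) (BT.leaf cJ392))))) (BT.node 402 (BT.node 397 (BT.node 395 (BT.node 394 (BT.node 393 (BT.leaf cJ393) (BT.leaf cJ394)) (BT.leaf cJ395)) (BT.node 396 (BT.leaf cJ396) (BT.leaf cJ397))) (BT.node 400 (BT.node 399 (BT.node 398 (BT.leaf cJ398) (BT.leaf cJ399)) (BT.leaf cJ400)) (BT.node 401 (BT.leaf cJ401) (BT.leaf cJ402)))) (BT.node 407 (BT.node 405 (BT.node 404 (BT.node 403 (BT.leaf cJ403) (BT.leaf cJ404)) (BT.leaf cJ405)) (BT.node 406 (BT.leaf cJ406) (BT.leaf cJ407))) (BT.node 410 (BT.node 409 (BT.node 408 (BT.leaf cJ408) (BT.leaf cJ409)) (BT.leaf cJ410)) (BT.node 411 (BT.leaf cJ411) (BT.leaf cJ412))))))) (BT.node 453 (BT.node 433 (BT.node 423 (BT.node 418 (BT.node 415 (BT.node 414 (BT.node 413 (BT.leaf cJ413) (BT.leaf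 cJ414)) (BT.leaf cJ415)) (BT.node 417 (BT.node 416 (BT.leaf cJ416) (BT.leaf cJ417)) (BT.leaf cJ418))) (BT.node 421 (BT.node 420 (BT.node 419 (BT.leaf cJ419) (BT.leaf cJ420)) (BT.leaf cJ421)) (BT.node 422 (BT.leaf cJ422) (BT.leaf cJ423)))) (BT.node 428 (BT.node 426 (BT.node 425 (BT.node 424 (BT.leaf cJ424) (BT.leaf cJ425)) (BT.leaf cJ426)) (BT.node 427 (BT.leaf cJ427) (BT.leaf cJ428))) (BT.node 431 (BT.node 430 (BT.node 429 (BT.leaf cJ429) (BT.leaf cJ430)) (BT.leaf cJ431)) (BT.node 432 (BT.leaf cJ432) (BT.leaf cJ433))))) (BT.node 443 (BT.node 438 (BT.node 436 (BT.node 435 (BT.node 434 (BT.leaf cJ434) (BT.leaf cJ435)) (BT.leaf cJ436)) (BT.node 437 (BT.leaf cJ437) (BT.leaf cJ438))) (BT.node 441 (BT.node 440 (BT.node 439 (BT.leaf cJ439) (BT.leaf cJ440)) (BT.leaf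 cJ441)) (BT.node 442 (BT.leaf cJ442) (BT.leaf cJ443)))) (BT.node 448 (BT.node 446 (BT.node 445 (BT.node 444 (BT.leaf cJ444) (BT.leaf cJ445)) (BT.leaf cJ446)) (BT.node 447 (BT.leaf cJ447) (BT.leaf cJ448))) (BT.node 451 (BT.node 450 (BT.node 449 (BT.leaf cJ449) (BT.leaf cJ450)) (BT.leaf cJ451)) (BT.node 452 (BT.leaf cJ452) (BT.leaf cJ453)))))) (BT.node 474 (BT.node 464 (BT.node 459 (BT.node 456 (BT.node 455 (BT.node 454 (BT.leaf cJ454) (BT.leaf cJ455)) (BT.leaf cJ456)) (BT.node 458 (BT.node 457 (BT.leaf cJ457) (BT.leaf cJ458)) (BT.leaf cJ459))) (BT.node 462 (BT.node 461 (BT.node 460 (BT.leaf cJ460) (BT.leaf cJ461)) (BT.leaf cJ462)) (BT.node 463 (BT.leaf cJ463) (BT.leaf cJ464)))) (BT.node 469 (BT.node 467 (BT.node 466 (BT.node 465 (BT.leaf cJ465) (BT.leaf cJ466))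 (BT.leaf cJ467)) (BT.node 468 (BT.leaf cJ468) (BT.leaf cJ469))) (BT.node 472 (BT.node 471 (BT.node 470 (BT.leaf cJ470) (BT.leaf cJ471)) (BT.leaf cJ472)) (BT.node 473 (BT.leaf cJ473) (BT.leaf cJ474))))) (BT.node 484 (BT.node 479 (BT.node 477 (BT.node 476 (BT.node 475 (BT.leaf cJ475) (BT.leaf cJ476)) (BT.leaf cJ477)) (BT.node 478 (BT.leaf cJ478) (BT.leaf cJ479))) (BT.node 482 (BT.node 481 (BT.node 480 (BT.leaf cJ480) (BT.leaf cJ481)) (BT.leaf cJ482)) (BT.node 483 (BT.leaf cJ483) (BT.leaf cJ484)))) (BT.node 489 (BT.node 487 (BT.node 486 (BT.node 485 (BT.leaf cJ485) (BT.leaf cJ486)) (BT.leaf cJ487)) (BT.node 488 (BT.leaf cJ488) (BT.leaf cJ489))) (BT.node 492 (BT.node 491 (BT.node 490 (BT.leaf cJ490) (BT.leaf cJ491)) (BT.leaf cJ492)) (BT.node 493 (BT.leaf cJ493)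 (BT.leaf cJ494)))))))) (BT.node 577 (BT.node 536 (BT.node 515 (BT.node 505 (BT.node 500 (BT.node 497 (BT.node 496 (BT.node 495 (BT.leaf cJ495) (BT.leaf cJ496)) (BT.leaf cJ497)) (BT.node 499 (BT.node 498 (BT.leaf cJ498) (BT.leaf cJ499)) (BT.leaf cJ500))) (BT.node 503 (BT.node 502 (BT.node 501 (BT.leaf cJ501) (BT.leaf cJ502)) (BT.leaf cJ503)) (BT.node 504 (BT.leaf cJ504) (BT.leaf cJ505)))) (BT.node 510 (BT.node 508 (BT.node 507 (BT.node 506 (BT.leaf cJ506) (BT.leaf cJ507)) (BT.leaf cJ508)) (BT.node 509 (BT.leaf cJ509) (BT.leaf cJ510))) (BT.node 513 (BT.node 512 (BT.node 511 (BT.leaf cJ511) (BT.leaf cJ512)) (BT.leaf cJ513)) (BT.node 514 (BT.leaf cJ514) (BT.leaf cJ515))))) (BT.node 526 (BT.node 521 (BT.node 518 (BT.node 517 (BT.node 516 (BT.leaf cJ516) (BT.leaf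 cJ517)) (BT.leaf cJ518)) (BT.node 520 (BT.node 519 (BT.leaf cJ519) (BT.leaf cJ520)) (BT.leaf cJ521))) (BT.node 524 (BT.node 523 (BT.node 522 (BT.leaf cJ522) (BT.leaf cJ523)) (BT.leaf cJ524)) (BT.node 525 (BT.leaf cJ525) (BT.leaf cJ526)))) (BT.node 531 (BT.node 529 (BT.node 528 (BT.node 527 (BT.leaf cJ527) (BT.leaf cJ528)) (BT.leaf cJ529)) (BT.node 530 (BT.leaf cJ530) (BT.leaf cJ531))) (BT.node 534 (BT.node 533 (BT.node 532 (BT.leaf cJ532) (BT.leaf cJ533)) (BT.leaf cJ534)) (BT.node 535 (BT.leaf cJ535) (BT.leaf cJ536)))))) (BT.node 557 (BT.node 547 (BT.node 542 (BT.node 539 (BT.node 538 (BT.node 537 (BT.leaf cJ537) (BT.leaf cJ538)) (BT.leaf cJ539)) (BT.node 541 (BT.node 540 (BT.leaf cJ540) (BT.leaf cJ541)) (BT.leaf cJ542))) (BT.node 545 (BT.node 544 (BT.node 543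 (BT.leaf cJ543) (BT.leaf cJ544)) (BT.leaf cJ545)) (BT.node 546 (BT.leaf cJ546) (BT.leaf cJ547)))) (BT.node 552 (BT.node 550 (BT.node 549 (BT.node 548 (BT.leaf cJ548) (BT.leaf cJ549)) (BT.leaf cJ550)) (BT.node 551 (BT.leaf cJ551) (BT.leaf cJ552))) (BT.node 555 (BT.node 554 (BT.node 553 (BT.leaf cJ553) (BT.leaf cJ554)) (BT.leaf cJ555)) (BT.node 556 (BT.leaf cJ556) (BT.leaf cJ557))))) (BT.node 567 (BT.node 562 (BT.node 560 (BT.node 559 (BT.node 558 (BT.leaf cJ558) (BT.leaf cJ559)) (BT.leaf cJ560)) (BT.node 561 (BT.leaf cJ561) (BT.leaf cJ562))) (BT.node 565 (BT.node 564 (BT.node 563 (BT.leaf cJ563) (BT.leaf cJ564)) (BT.leaf cJ565)) (BT.node 566 (BT.leaf cJ566) (BT.leaf cJ567)))) (BT.node 572 (BT.node 570 (BT.node 569 (BT.node 568 (BT.leaf cJ568) (BT.leaf cJ569))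 (BT.leaf cJ570)) (BT.node 571 (BT.leaf cJ571) (BT.leaf cJ572))) (BT.node 575 (BT.node 574 (BT.node 573 (BT.leaf cJ573) (BT.leaf cJ574)) (BT.leaf cJ575)) (BT.node 576 (BT.leaf cJ576) (BT.leaf cJ577))))))) (BT.node 618 (BT.node 598 (BT.node 588 (BT.node 583 (BT.node 580 (BT.node 579 (BT.node 578 (BT.leaf cJ578) (BT.leaf cJ579)) (BT.leaf cJ580)) (BT.node 582 (BT.node 581 (BT.leaf cJ581) (BT.leaf cJ582)) (BT.leaf cJ583))) (BT.node 586 (BT.node 585 (BT.node 584 (BT.leaf cJ584) (BT.leaf cJ585)) (BT.leaf cJ586)) (BT.node 587 (BT.leaf cJ587) (BT.leaf cJ588)))) (BT.node 593 (BT.node 591 (BT.node 590 (BT.node 589 (BT.leaf cJ589) (BT.leaf cJ590)) (BT.leaf cJ591)) (BT.node 592 (BT.leaf cJ592) (BT.leaf cJ593))) (BT.node 596 (BT.node 595 (BT.node 594 (BT.leaf cJ594) (BT.leaf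 cJ595)) (BT.leaf cJ596)) (BT.node 597 (BT.leaf cJ597) (BT.leaf cJ598))))) (BT.node 608 (BT.node 603 (BT.node 601 (BT.node 600 (BT.node 599 (BT.leaf cJ599) (BT.leaf cJ600)) (BT.leaf cJ601)) (BT.node 602 (BT.leaf cJ602) (BT.leaf cJ603))) (BT.node 606 (BT.node 605 (BT.node 604 (BT.leaf cJ604) (BT.leaf cJ605)) (BT.leaf cJ606)) (BT.node 607 (BT.leaf cJ607) (BT.leaf cJ608)))) (BT.node 613 (BT.node 611 (BT.node 610 (BT.node 609 (BT.leaf cJ609) (BT.leaf cJ610)) (BT.leaf cJ611)) (BT.node 612 (BT.leaf cJ612) (BT.leaf cJ613))) (BT.node 616 (BT.node 615 (BT.node 614 (BT.leaf cJ614) (BT.leaf cJ615)) (BT.leaf cJ616)) (BT.node 617 (BT.leaf cJ617) (BT.leaf cJ618)))))) (BT.node 639 (BT.node 629 (BT.node 624 (BT.node 621 (BT.node 620 (BT.node 619 (BT.leaf cJ619) (BT.leaf cJ620))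 (BT.leaf cJ621)) (BT.node 623 (BT.node 622 (BT.leaf cJ622) (BT.leaf cJ623)) (BT.leaf cJ624))) (BT.node 627 (BT.node 626 (BT.node 625 (BT.leaf cJ625) (BT.leaf cJ626)) (BT.leaf cJ627)) (BT.node 628 (BT.leaf cJ628) (BT.leaf cJ629)))) (BT.node 634 (BT.node 632 (BT.node 631 (BT.node 630 (BT.leaf cJ630) (BT.leaf cJ631)) (BT.leaf cJ632)) (BT.node 633 (BT.leaf cJ633) (BT.leaf cJ634))) (BT.node 637 (BT.node 636 (BT.node 635 (BT.leaf cJ635) (BT.leaf cJ636)) (BT.leaf cJ637)) (BT.node 638 (BT.leaf cJ638) (BT.leaf cJ639))))) (BT.node 649 (BT.node 644 (BT.node 642 (BT.node 641 (BT.node 640 (BT.leaf cJ640) (BT.leaf cJ641)) (BT.leaf cJ642)) (BT.node 643 (BT.leaf cJ643) (BT.leaf cJ644))) (BT.node 647 (BT.node 646 (BT.node 645 (BT.leaf cJ645) (BT.leaf cJ646)) (BT.leaf cJ647))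 (BT.node 648 (BT.leaf cJ648) (BT.leaf cJ649)))) (BT.node 654 (BT.node 652 (BT.node 651 (BT.node 650 (BT.leaf cJ650) (BT.leaf cJ651)) (BT.leaf cJ652)) (BT.node 653 (BT.leaf cJ653) (BT.leaf cJ654))) (BT.node 657 (BT.node 656 (BT.node 655 (BT.leaf cJ655) (BT.leaf cJ656)) (BT.leaf cJ657)) (BT.node 658 (BT.leaf cJ658) (BT.leaf cJ659))))))))))
/-- parent chunks -/
def parCT : BT ℕ := (BT.node 21 (BT.node 10 (BT.node 5 (BT.node 2 (BT.node 1 (BT.node 0 (BT.leaf cP0) (BT.leaf cP1)) (BT.leaf cP2)) (BT.node 4 (BT.node 3 (BT.leaf cP3) (BT.leaf cP4)) (BT.leaf cP5))) (BT.node 8 (BT.node 7 (BT.node 6 (BT.leaf cP6) (BT.leaf cP7)) (BT.leaf cP8)) (BT.node 9 (BT.leaf cP9) (BT.leaf cP10)))) (BT.node 16 (BT.node 13 (BT.node 12 (BT.node 11 (BT.leaf cP11) (BT.leaf cP12)) (BT.leaf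 cP13)) (BT.node 15 (BT.node 14 (BT.leaf cP14) (BT.leaf cP15)) (BT.leaf cP16))) (BT.node 19 (BT.node 18 (BT.node 17 (BT.leaf cP17) (BT.leaf cP18)) (BT.leaf cP19)) (BT.node 20 (BT.leaf cP20) (BT.leaf cP21))))) (BT.node 32 (BT.node 27 (BT.node 24 (BT.node 23 (BT.node 22 (BT.leaf cP22) (BT.leaf cP23)) (BT.leaf cP24)) (BT.node 26 (BT.node 25 (BT.leaf cP25) (BT.leaf cP26)) (BT.leaf cP27))) (BT.node 30 (BT.node 29 (BT.node 28 (BT.leaf cP28) (BT.leaf cP29)) (BT.leaf cP30)) (BT.node 31 (BT.leaf cP31) (BT.leaf cP32)))) (BT.node 38 (BT.node 35 (BT.node 34 (BT.node 33 (BT.leaf cP33) (BT.leaf cP34)) (BT.leaf cP35)) (BT.node 37 (BT.node 36 (BT.leaf cP36) (BT.leaf cP37)) (BT.leaf cP38))) (BT.node 41 (BT.node 40 (BT.node 39 (BT.leaf cP39) (BT.leaf cP40)) (BT.leaf cP41)) (BT.node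 42 (BT.leaf cP42) (BT.leaf cP43))))))
/-- the certificate -/
def data : Data where
  k := 14
  N := 22317
  W := 33
  MW := 8589934592
  B := 32768
  CH := 512
  NCH := 44
  colE := colET
  JW := 64
  MJ := 18446744073709551616
  A := 1048576
  colJ := colJT
  PW := 24
  MP := 16777216
  parC := parCT
  inv := (BT.node 7 (BT.node 3 (BT.node 1 (BT.node 0 (BT.leaf 1) (BT.leaf 0)) (BT.node 2 (BT.leaf 3) (BT.leaf 2))) (BT.node 5 (BT.node 4 (BT.leaf 5) (BT.leaf 4)) (BT.node 6 (BT.leaf 7) (BT.leaf 6)))) (BT.node 11 (BT.node 9 (BT.node 8 (BT.leaf 9) (BT.leaf 8)) (BT.node 10 (BT.leaf 11) (BT.leaf 10))) (BT.node 13 (BT.node 12 (BT.leaf 13) (BT.leaf 12)) (BT.leaf 14))))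
  rel := relT
  sub := subT
  fuel := 64

end Cfsg.Agent.Lib.Helper28.TCSuzEData
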