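import Cfsg.Agent.Lib.Helper28.TCSuzEData
set_option autoImplicit false
set_option maxRecDepth 100000
set_option maxHeartbeats 0

namespace Cfsg.Agent.Lib.Helper28.TCSuzEU3
open Cfsg.Agent.Lib.Helper28.TC2Upper Cfsg.Agent.Lib.Helper28.TCSuzEData

theorem chk15 : data.checkRange 7942 490 = true := by decide +kernel
theorem chk16 : data.checkRange 8432 505 = true := by decide +kernel
theorem chk17 : data.checkRange 8937 589 = true := by decide +kernel
theorem chk18 : data.checkRange 9526 715 = true := by decide +kernel
theorem chk19 : data.checkRange 10241 508 = true := by decide +kernel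

end Cfsg.Agent.Lib.Helper28.TCSuzEU3
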