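import Cfsg.Agent.Lib.Helper28.TCSuzEData
import Cfsg.Agent.Lib.Helper28.TCSuzEU1
set_option autoImplicit false
set_option maxRecDepth 100000
set_option maxHeartbeats 0

namespace Cfsg.Agent.Lib.Helper28.TCSuzEU5
open Cfsg.Agent.Lib.Helper28.TC2Upper Cfsg.Agent.Lib.Helper28.TCSuzEData

theorem chk25 : data.checkRange 14312 1236 = true := by decide +kernel
theorem chk26 : data.checkRange 15548 1551 = true := by decide +kernel
theorem chk27 : data.checkRange 17099 1122 = true := by decide +kernel
theorem chk28 : data.checkRange 18221 1215 = true := by decide +kernel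
theorem chk29 : data.checkRange 19436 1409 = true := by decide +kernel

end Cfsg.Agent.Lib.Helper28.TCSuzEU5
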