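import Cfsg.Agent.Lib.Helper28.TCSuzEData
import Cfsg.Agent.Lib.Helper28.TCSuzEU2
set_option autoImplicit false
set_option maxRecDepth 100000
set_option maxHeartbeats 0

namespace Cfsg.Agent.Lib.Helper28.TCSuzEU6
open Cfsg.Agent.Lib.Helper28.TC2Upper Cfsg.Agent.Lib.Helper28.TCSuzEData

theorem chk30 : data.checkRange 20845 1417 = true := by decide +kernel
theorem chk31 : data.checkRange 22262 55 = true := by decide +kernel

end Cfsg.Agent.Lib.Helper28.TCSuzEU6
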