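import Cfsg.Agent.Lib.Helper28.TC2Glue
import Cfsg.Agent.Lib.Helper28.TC2Range
import Cfsg.Agent.Lib.Helper28.TCSuzELink
import Cfsg.Agent.Lib.Helper28.TCSuzEM0
import Cfsg.Agent.Lib.Helper28.TCSuzEM1
import Cfsg.Agent.Lib.Helper28.TCSuzEU0
import Cfsg.Agent.Lib.Helper28.TCSuzEU1
import Cfsg.Agent.Lib.Helper28.TCSuzEU2
import Cfsg.Agent.Lib.Helper28.TCSuzEU3
import Cfsg.Agent.Lib.Helper28.TCSuzEU4
import Cfsg.Agent.Lib.Helper28.TCSuzEU5
import Cfsg.Agent.Lib.Helper28.TCSuzEU6

set_option autoImplicit false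
set_option maxRecDepth 100000
open Cfsg

namespace Cfsg.Agent.Lib.Helper28.TCSuzEMain
open Cfsg.Agent.Lib.Helper28.TC2Upper Cfsg.Agent.Lib.Helper28.TC2Lower Cfsg.Agent.Lib.Helper28.TC2Glue Cfsg.Agent.Lib.Helper28.TC2Range
open Cfsg.Agent.Lib.Helper28.TCSuzEData Cfsg.Agent.Lib.Helper28.TCSuzETable Cfsg.Agent.Lib.Helper28.TCSuzELink

theorem hchk : ∀ v, v < data.N → data.checkNode v = true := by
  intro v hv
  have hv' : v < 22317 := hv
  rcases Nat.lt_or_ge v 517 with h0 | h0
  · exact (data.checkRange_iff 0 517).mp Cfsg.Agent.Lib.Helper28.TCSuzEU0.chk0 v (by omega) (by omega)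
  rcases Nat.lt_or_ge v 953 with h1 | h1
  · exact (data.checkRange_iff 517 436).mp Cfsg.Agent.Lib.Helper28.TCSuzEU0.chk1 v (by omega) (by omega)
  rcases Nat.lt_or_ge v 1470 with h2 | h2
  · exact (data.checkRange_iff 953 517).mp Cfsg.Agent.Lib.Helper28.TCSuzEU0.chk2 v (by omega) (by omega)
  rcases Nat.lt_or_ge v 2093 with h3 | h3
  · exact (data.checkRange_iff 1470 623).mp Cfsg.Agent.Lib.Helper28.TCSuzEU0.chk3 v (by omega) (by omega)
  rcases Nat.lt_or_ge v 3036 with h4 | h4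
  · exact (data.checkRange_iff 2093 943).mp Cfsg.Agent.Lib.Helper28.TCSuzEU0.chk4 v (by omega) (by omega)
  rcases Nat.lt_or_ge v 4030 with h5 | h5
  · exact (data.checkRange_iff 3036 994).mp Cfsg.Agent.Lib.Helper28.TCSuzEU1.chk5 v (by omega) (by omega)
  rcases Nat.lt_or_ge v 4521 with h6 | h6
  · exact (data.checkRange_iff 4030 491).mp Cfsg.Agent.Lib.Helper28.TCSuzEU1.chk6 v (by omega) (by omega)
  rcases Nat.lt_or_ge v 4934 with h7 | h7
  · exact (data.checkRange_iff 4521 413).mp Cfsg.Agent.Lib.Helper28.TCSuzEU1.chk7 v (by omega) (by omega)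
  rcases Nat.lt_or_ge v 5352 with h8 | h8
  · exact (data.checkRange_iff 4934 418).mp Cfsg.Agent.Lib.Helper28.TCSuzEU1.chk8 v (by omega) (by omega)
  rcases Nat.lt_or_ge v 5758 with h9 | h9
  · exact (data.checkRange_iff 5352 406).mp Cfsg.Agent.Lib.Helper28.TCSuzEU1.chk9 v (by omega) (by omega)
  rcases Nat.lt_or_ge v 6182 with h10 | h10
  · exact (data.checkRange_iff 5758 424).mp Cfsg.Agent.Lib.Helper28.TCSuzEU2.chk10 v (by omega) (by omega)
  rcases Nat.lt_or_ge v 6621 with h11 | h11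
  · exact (data.checkRange_iff 6182 439).mp Cfsg.Agent.Lib.Helper28.TCSuzEU2.chk11 v (by omega) (by omega)
  rcases Nat.lt_or_ge v 7095 with h12 | h12
  · exact (data.checkRange_iff 6621 474).mp Cfsg.Agent.Lib.Helper28.TCSuzEU2.chk12 v (by omega) (by omega)
  rcases Nat.lt_or_ge v 7520 with h13 | h13
  · exact (data.checkRange_iff 7095 425).mp Cfsg.Agent.Lib.Helper28.TCSuzEU2.chk13 v (by omega) (by omega)
  rcases Nat.lt_or_ge v 7942 with h14 | h14
  · exact (data.checkRange_iff 7520 422).mp Cfsg.Agent.Lib.Helper28.TCSuzEU2.chk14 v (by omega) (by omega)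
  rcases Nat.lt_or_ge v 8432 with h15 | h15
  · exact (data.checkRange_iff 7942 490).mp Cfsg.Agent.Lib.Helper28.TCSuzEU3.chk15 v (by omega) (by omega)
  rcases Nat.lt_or_ge v 8937 with h16 | h16
  · exact (data.checkRange_iff 8432 505).mp Cfsg.Agent.Lib.Helper28.TCSuzEU3.chk16 v (by omega) (by omega)
  rcases Nat.lt_or_ge v 9526 with h17 | h17
  · exact (data.checkRange_iff 8937 589).mp Cfsg.Agent.Lib.Helper28.TCSuzEU3.chk17 v (by omega) (by omega)
  rcases Nat.lt_or_ge v 10241 with h18 | h18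
  · exact (data.checkRange_iff 9526 715).mp Cfsg.Agent.Lib.Helper28.TCSuzEU3.chk18 v (by omega) (by omega)
  rcases Nat.lt_or_ge v 10749 with h19 | h19
  · exact (data.checkRange_iff 10241 508).mp Cfsg.Agent.Lib.Helper28.TCSuzEU3.chk19 v (by omega) (by omega)
  rcases Nat.lt_or_ge v 11320 with h20 | h20
  · exact (data.checkRange_iff 10749 571).mp Cfsg.Agent.Lib.Helper28.TCSuzEU4.chk20 v (by omega) (by omega)
  rcases Nat.lt_or_ge v 11906 with h21 | h21
  · exact (data.checkRange_iff 11320 586).mp Cfsg.Agent.Lib.Helper28.TCSuzEU4.chk21 v (by omega) (by omega)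
  rcases Nat.lt_or_ge v 12532 with h22 | h22
  · exact (data.checkRange_iff 11906 626).mp Cfsg.Agent.Lib.Helper28.TCSuzEU4.chk22 v (by omega) (by omega)
  rcases Nat.lt_or_ge v 13375 with h23 | h23
  · exact (data.checkRange_iff 12532 843).mp Cfsg.Agent.Lib.Helper28.TCSuzEU4.chk23 v (by omega) (by omega)
  rcases Nat.lt_or_ge v 14312 with h24 | h24
  · exact (data.checkRange_iff 13375 937).mp Cfsg.Agent.Lib.Helper28.TCSuzEU4.chk24 v (by omega) (by omega)
  rcases Nat.lt_or_ge v 15548 with h25 | h25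
  · exact (data.checkRange_iff 14312 1236).mp Cfsg.Agent.Lib.Helper28.TCSuzEU5.chk25 v (by omega) (by omega)
  rcases Nat.lt_or_ge v 17099 with h26 | h26
  · exact (data.checkRange_iff 15548 1551).mp Cfsg.Agent.Lib.Helper28.TCSuzEU5.chk26 v (by omega) (by omega)
  rcases Nat.lt_or_ge v 18221 with h27 | h27
  · exact (data.checkRange_iff 17099 1122).mp Cfsg.Agent.Lib.Helper28.TCSuzEU5.chk27 v (by omega) (by omega)
  rcases Nat.lt_or_ge v 19436 with h28 | h28
  · exact (data.checkRange_iff 18221 1215).mp Cfsg.Agent.Lib.Helper28.TCSuzEU5.chk28 v (by omega) (by omega)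
  rcases Nat.lt_or_ge v 20845 with h29 | h29
  · exact (data.checkRange_iff 19436 1409).mp Cfsg.Agent.Lib.Helper28.TCSuzEU5.chk29 v (by omega) (by omega)
  rcases Nat.lt_or_ge v 22262 with h30 | h30
  · exact (data.checkRange_iff 20845 1417).mp Cfsg.Agent.Lib.Helper28.TCSuzEU6.chk30 v (by omega) (by omega)
  exact (data.checkRange_iff 22262 55).mp Cfsg.Agent.Lib.Helper28.TCSuzEU6.chk31 v (by omega) (by omega)

theorem hrows : ∀ v, v < data.N → Data.rowOK data v = true := by
  intro v hv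
  have hv' : v < 22317 := hv
  rcases Nat.lt_or_ge v 5952 with h0 | h0
  · exact (Data.finalRange_iff data 0 5952).mp Cfsg.Agent.Lib.Helper28.TCSuzEM0.fin0 v (by omega) (by omega)
  rcases Nat.lt_or_ge v 11904 with h1 | h1
  · exact (Data.finalRange_iff data 5952 5952).mp Cfsg.Agent.Lib.Helper28.TCSuzEM0.fin1 v (by omega) (by omega)
  rcases Nat.lt_or_ge v 17856 with h2 | h2
  · exact (Data.finalRange_iff data 11904 5952).mp Cfsg.Agent.Lib.Helper28.TCSuzEM0.fin2 v (by omega) (by omega)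
  exact (Data.finalRange_iff data 17856 4461).mp Cfsg.Agent.Lib.Helper28.TCSuzEM0.fin3 v (by omega) (by omega)

theorem hfin : data.finalOK = true := Data.finalOK_of_rows data Cfsg.Agent.Lib.Helper28.TCSuzEM1.hlive0 (by decide) hrows

theorem pc0 : Data.countFrom data 0 22317 = 5346 := Cfsg.Agent.Lib.Helper28.TCSuzEM0.cnt0

theorem hcount : data.countLive = 5346 := by
  rw [Data.countLive_eq]
  exact pc0

/-- the upper bound for the index -/
theorem mainU : Finite (PresentedGroup rels ⧸ (Subgroup.closure S).map (PresentedGroup.mk rels)) ∧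
    Nat.card (PresentedGroup rels ⧸ (Subgroup.closure S).map (PresentedGroup.mk rels)) ≤ 5346 := by
  have h := upper link hchk hfin
  rw [hcount] at h
  exact h

end Cfsg.Agent.Lib.Helper28.TCSuzEMain
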