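import Cfsg.Agent.Lib.Helper28.TCSuzF2Table
set_option autoImplicit false
set_option maxRecDepth 100000
set_option maxHeartbeats 0

namespace Cfsg.Agent.Lib.Helper28.TCSuzF2L1
open Cfsg.Agent.Lib.Helper28.TC2Upper Cfsg.Agent.Lib.Helper28.TC2Lower Cfsg.Agent.Lib.Helper28.TCSuzF2Table

theorem rel4 : table.relOK chkPaths 10712 2678 = true := by decide +kernel
theorem rel5 : table.relOK chkPaths 13390 2678 = true := by decide +kernel
theorem rel6 : table.relOK chkPaths 16068 2678 = true := by decide +kernel
theorem rel7 : table.relOK chkPaths 18746 2678 = true := by decide +kernel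

end Cfsg.Agent.Lib.Helper28.TCSuzF2L1
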