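import Cfsg.Agent.Lib.Helper28.TC2HomC
import Cfsg.Agent.Lib.Helper28.TC2Range
import Cfsg.Agent.Lib.Helper28.SuzCovDef
import Cfsg.Agent.Lib.Helper28.TCSuzF2Table
import Cfsg.Agent.Lib.Helper28.TCSuzF2P0
import Cfsg.Agent.Lib.Helper28.TCSuzF2L0
import Cfsg.Agent.Lib.Helper28.TCSuzF2L1
import Cfsg.Agent.Lib.Helper28.TCSuzF2L2
import Cfsg.Agent.Lib.Helper28.TCSuzF2L3
import Cfsg.Agent.Lib.Helper28.TCSuzF2L4
import Cfsg.Agent.Lib.Helper28.TCSuzF2L5
import Cfsg.Agent.Lib.Helper28.TCSuzF2L6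

set_option autoImplicit false
set_option maxRecDepth 100000

namespace Cfsg.Agent.Lib.Helper28.TCSuzF2Hom
open Cfsg.Agent.Lib.Helper28.TC2Upper Cfsg.Agent.Lib.Helper28.TC2Lower Cfsg.Agent.Lib.Helper28.TC2Glue Cfsg.Agent.Lib.Helper28.TC2Range Cfsg.Agent.Lib.Helper28.TC2HomC Cfsg.Agent.Lib.Helper28.TCSuzF2Table
open Cfsg.Agent.Lib.Helper3.Cover

/-- coding of the letters -/
def lw : Cfsg.Spor.Suz.Gen × Bool → ℕ
  | (.a, true) => 0
  | (.a, false) => 1
  | (.b, true) => 2
  | (.b, false) => 3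
  | (.c, true) => 4
  | (.c, false) => 5
  | (.d, true) => 6
  | (.d, false) => 7
  | (.e, true) => 8
  | (.e, false) => 9
  | (.f, true) => 10
  | (.f, false) => 11
  | (.g, true) => 12
  | (.g, false) => 13

/-- a relator of the group that is central of order 2 in the image -/
def rz : List (Cfsg.Spor.Suz.Gen × Bool) := [(.a, true), (.d, true), (.a, true), (.d, true)]

/-- the central words -/
def cw : List (List (Cfsg.Spor.Suz.Gen × Bool)) := [[], [(.d, false), (.a, false), (.d, false), (.a, false)]]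

theorem hinvOK : table.invOK = true := by decide +kernel

theorem hpermAll : ∀ p, p < table.n → Table.permRow table p = true := by
  intro p hp
  have hp' : p < 65520 := hp
  exact (Table.permRange_iff table 0 65520).mp Cfsg.Agent.Lib.Helper28.TCSuzF2P0.prm0 p (by omega) (by omega)

theorem hT : table.OK := Table.ok_of_rows table hinvOK hpermAll

theorem hchkT : ∀ P ∈ chkPaths, ∀ p, p < table.n → table.walkT P p = p := by
  intro P hm p hp
  have hp' : p < 65520 := hp
  rcases Nat.lt_or_ge p 2678 with h0 | h0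
  · exact (Table.relOK_iff chkPaths 0 2678).mp Cfsg.Agent.Lib.Helper28.TCSuzF2L0.rel0 p (by omega) (by omega) _ hm
  rcases Nat.lt_or_ge p 5356 with h1 | h1
  · exact (Table.relOK_iff chkPaths 2678 2678).mp Cfsg.Agent.Lib.Helper28.TCSuzF2L0.rel1 p (by omega) (by omega) _ hm
  rcases Nat.lt_or_ge p 8034 with h2 | h2
  · exact (Table.relOK_iff chkPaths 5356 2678).mp Cfsg.Agent.Lib.Helper28.TCSuzF2L0.rel2 p (by omega) (by omega) _ hm
  rcases Nat.lt_or_ge p 10712 with h3 | h3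
  · exact (Table.relOK_iff chkPaths 8034 2678).mp Cfsg.Agent.Lib.Helper28.TCSuzF2L0.rel3 p (by omega) (by omega) _ hm
  rcases Nat.lt_or_ge p 13390 with h4 | h4
  · exact (Table.relOK_iff chkPaths 10712 2678).mp Cfsg.Agent.Lib.Helper28.TCSuzF2L1.rel4 p (by omega) (by omega) _ hm
  rcases Nat.lt_or_ge p 16068 with h5 | h5
  · exact (Table.relOK_iff chkPaths 13390 2678).mp Cfsg.Agent.Lib.Helper28.TCSuzF2L1.rel5 p (by omega) (by omega) _ hm
  rcases Nat.lt_or_ge p 18746 with h6 | h6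
  · exact (Table.relOK_iff chkPaths 16068 2678).mp Cfsg.Agent.Lib.Helper28.TCSuzF2L1.rel6 p (by omega) (by omega) _ hm
  rcases Nat.lt_or_ge p 21424 with h7 | h7
  · exact (Table.relOK_iff chkPaths 18746 2678).mp Cfsg.Agent.Lib.Helper28.TCSuzF2L1.rel7 p (by omega) (by omega) _ hm
  rcases Nat.lt_or_ge p 24102 with h8 | h8
  · exact (Table.relOK_iff chkPaths 21424 2678).mp Cfsg.Agent.Lib.Helper28.TCSuzF2L2.rel8 p (by omega) (by omega) _ hm
  rcases Nat.lt_or_ge p 26780 with h9 | h9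
  · exact (Table.relOK_iff chkPaths 24102 2678).mp Cfsg.Agent.Lib.Helper28.TCSuzF2L2.rel9 p (by omega) (by omega) _ hm
  rcases Nat.lt_or_ge p 29458 with h10 | h10
  · exact (Table.relOK_iff chkPaths 26780 2678).mp Cfsg.Agent.Lib.Helper28.TCSuzF2L2.rel10 p (by omega) (by omega) _ hm
  rcases Nat.lt_or_ge p 32136 with h11 | h11
  · exact (Table.relOK_iff chkPaths 29458 2678).mp Cfsg.Agent.Lib.Helper28.TCSuzF2L2.rel11 p (by omega) (by omega) _ hm
  rcases Nat.lt_or_ge p 34814 with h12 | h12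
  · exact (Table.relOK_iff chkPaths 32136 2678).mp Cfsg.Agent.Lib.Helper28.TCSuzF2L3.rel12 p (by omega) (by omega) _ hm
  rcases Nat.lt_or_ge p 37492 with h13 | h13
  · exact (Table.relOK_iff chkPaths 34814 2678).mp Cfsg.Agent.Lib.Helper28.TCSuzF2L3.rel13 p (by omega) (by omega) _ hm
  rcases Nat.lt_or_ge p 40170 with h14 | h14
  · exact (Table.relOK_iff chkPaths 37492 2678).mp Cfsg.Agent.Lib.Helper28.TCSuzF2L3.rel14 p (by omega) (by omega) _ hm
  rcases Nat.lt_or_ge p 42848 with h15 | h15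
  · exact (Table.relOK_iff chkPaths 40170 2678).mp Cfsg.Agent.Lib.Helper28.TCSuzF2L3.rel15 p (by omega) (by omega) _ hm
  rcases Nat.lt_or_ge p 45526 with h16 | h16
  · exact (Table.relOK_iff chkPaths 42848 2678).mp Cfsg.Agent.Lib.Helper28.TCSuzF2L4.rel16 p (by omega) (by omega) _ hm
  rcases Nat.lt_or_ge p 48204 with h17 | h17
  · exact (Table.relOK_iff chkPaths 45526 2678).mp Cfsg.Agent.Lib.Helper28.TCSuzF2L4.rel17 p (by omega) (by omega) _ hm
  rcases Nat.lt_or_ge p 50882 with h18 | h18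
  · exact (Table.relOK_iff chkPaths 48204 2678).mp Cfsg.Agent.Lib.Helper28.TCSuzF2L4.rel18 p (by omega) (by omega) _ hm
  rcases Nat.lt_or_ge p 53560 with h19 | h19
  · exact (Table.relOK_iff chkPaths 50882 2678).mp Cfsg.Agent.Lib.Helper28.TCSuzF2L4.rel19 p (by omega) (by omega) _ hm
  rcases Nat.lt_or_ge p 56238 with h20 | h20
  · exact (Table.relOK_iff chkPaths 53560 2678).mp Cfsg.Agent.Lib.Helper28.TCSuzF2L5.rel20 p (by omega) (by omega) _ hm
  rcases Nat.lt_or_ge p 58916 with h21 | h21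
  · exact (Table.relOK_iff chkPaths 56238 2678).mp Cfsg.Agent.Lib.Helper28.TCSuzF2L5.rel21 p (by omega) (by omega) _ hm
  rcases Nat.lt_or_ge p 61594 with h22 | h22
  · exact (Table.relOK_iff chkPaths 58916 2678).mp Cfsg.Agent.Lib.Helper28.TCSuzF2L5.rel22 p (by omega) (by omega) _ hm
  rcases Nat.lt_or_ge p 64272 with h23 | h23
  · exact (Table.relOK_iff chkPaths 61594 2678).mp Cfsg.Agent.Lib.Helper28.TCSuzF2L5.rel23 p (by omega) (by omega) _ hm
  exact (Table.relOK_iff chkPaths 64272 1248).mp Cfsg.Agent.Lib.Helper28.TCSuzF2L6.rel24 p (by omega) (by omega) _ hm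

theorem hC : ∀ c ∈ cw, ∀ x ∈ (Cfsg.Agent.Lib.Helper28.SuzCovDef.cover).gens, pathOf lw (commWord c x) ∈ chkPaths := by decide +kernel
theorem hR : ∀ r ∈ (Cfsg.Agent.Lib.Helper28.SuzCovDef.cover).R, ∃ c ∈ cw, pathOf lw (r ++ c) ∈ chkPaths := by decide +kernel
theorem hN : ∀ L ∈ (Cfsg.Agent.Lib.Helper28.SuzCovDef.cover).norms, pathOf lw L ∈ chkPaths := by decide +kernel

/-- the permutation representation of the covering group -/
theorem main : ∃ φ : (Cfsg.Agent.Lib.Helper28.SuzCovDef.cover).E →* Equiv.Perm (Fin table.n),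
    ∀ (L : List (Cfsg.Spor.Suz.Gen × Bool)) (p : Fin table.n),
      (φ (PresentedGroup.mk (Cfsg.Agent.Lib.Helper28.SuzCovDef.cover).relsE (FreeGroup.mk L)) p).val = table.walkT (pathOf lw L) p.val :=
  hom_of_central_table (Cfsg.Agent.Lib.Helper28.SuzCovDef.cover) lw table hT
    (by rintro ⟨x, b⟩; cases x <;> cases b <;> decide)
    (by intro x; cases x <;> decide +kernel) cw chkPaths hchkT hC hR hN

theorem rz_mem : rz ∈ (Cfsg.Agent.Lib.Helper28.SuzCovDef.cover).R := by decide +kernel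

theorem rz_pow : ∀ p, p < table.n → table.walkT (pathOf lw (rz ++ rz)) p = p :=
  hchkT _ (by decide +kernel)

theorem rz_move : table.walkT (pathOf lw rz) 0 = 1 := by decide +kernel

end Cfsg.Agent.Lib.Helper28.TCSuzF2Hom
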