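import Cfsg.Agent.Lib.Helper28.TC2HomC
import Cfsg.Agent.Lib.Helper28.TC2Range
import Cfsg.Agent.Lib.Helper28.SuzCovDef
import Cfsg.Agent.Lib.Helper28.TCSuzF3Table
import Cfsg.Agent.Lib.Helper28.TCSuzF3P0
import Cfsg.Agent.Lib.Helper28.TCSuzF3L0
import Cfsg.Agent.Lib.Helper28.TCSuzF3L1

set_option autoImplicit false
set_option maxRecDepth 100000

namespace Cfsg.Agent.Lib.Helper28.TCSuzF3Hom
open Cfsg.Agent.Lib.Helper28.TC2Upper Cfsg.Agent.Lib.Helper28.TC2Lower Cfsg.Agent.Lib.Helper28.TC2Glue Cfsg.Agent.Lib.Helper28.TC2Range Cfsg.Agent.Lib.Helper28.TC2HomC Cfsg.Agent.Lib.Helper28.TCSuzF3Table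
open Cfsg.Agent.Lib.Helper3.Cover

/-- coding of the letters -/
def lw : Cfsg.Spor.Suz.Gen × Bool → ℕ
  | (.a, true) => 0
  | (.a, false) => 1
  | (.b, true) => 2
  | (.b, false) => 3
  | (.c, true) => 4
  | (.c, false) => 5
  | (.d, true) => 6
  | (.d, false) => 7
  | (.e, true) => 8
  | (.e, false) => 9
  | (.f, true) => 10
  | (.f, false) => 11
  | (.g, true) => 12
  | (.g, false) => 13

/-- a relator of the group that is central of order 3 in the image -/
def rz : List (Cfsg.Spor.Suz.Gen × Bool) := [(.b, true), (.f, true), (.g, true), (.b, true), (.f, true), (.g, true), (.b, true), (.f, true), (.g, true), (.b, true), (.f, true), (.g, true), (.b, true), (.f, true), (.g, true)]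

/-- the central words -/
def cw : List (List (Cfsg.Spor.Suz.Gen × Bool)) := [[], [(.g, false), (.f, false), (.b, false), (.g, false), (.f, false), (.b, false), (.g, false), (.f, false), (.b, false), (.g, false), (.f, false), (.b, false), (.g, false), (.f, false), (.b, false)], [(.b, true), (.f, true), (.g, true), (.b, true), (.f, true), (.g, true), (.b, true), (.f, true), (.g, true), (.b, true), (.f, true), (.g, true), (.b, true), (.f, true), (.g, true)]]

theorem hinvOK : table.invOK = true := by decide +kernel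

theorem hpermAll : ∀ p, p < table.n → Table.permRow table p = true := by
  intro p hp
  have hp' : p < 5346 := hp
  exact (Table.permRange_iff table 0 5346).mp Cfsg.Agent.Lib.Helper28.TCSuzF3P0.prm0 p (by omega) (by omega)

theorem hT : table.OK := Table.ok_of_rows table hinvOK hpermAll

theorem hchkT : ∀ P ∈ chkPaths, ∀ p, p < table.n → table.walkT P p = p := by
  intro P hm p hp
  have hp' : p < 5346 := hp
  rcases Nat.lt_or_ge p 1023 with h0 | h0
  · exact (Table.relOK_iff chkPaths 0 1023).mp Cfsg.Agent.Lib.Helper28.TCSuzF3L0.rel0 p (by omega) (by omega) _ hm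
  rcases Nat.lt_or_ge p 2046 with h1 | h1
  · exact (Table.relOK_iff chkPaths 1023 1023).mp Cfsg.Agent.Lib.Helper28.TCSuzF3L0.rel1 p (by omega) (by omega) _ hm
  rcases Nat.lt_or_ge p 3069 with h2 | h2
  · exact (Table.relOK_iff chkPaths 2046 1023).mp Cfsg.Agent.Lib.Helper28.TCSuzF3L0.rel2 p (by omega) (by omega) _ hm
  rcases Nat.lt_or_ge p 4092 with h3 | h3
  · exact (Table.relOK_iff chkPaths 3069 1023).mp Cfsg.Agent.Lib.Helper28.TCSuzF3L0.rel3 p (by omega) (by omega) _ hm
  rcases Nat.lt_or_ge p 5115 with h4 | h4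
  · exact (Table.relOK_iff chkPaths 4092 1023).mp Cfsg.Agent.Lib.Helper28.TCSuzF3L1.rel4 p (by omega) (by omega) _ hm
  exact (Table.relOK_iff chkPaths 5115 231).mp Cfsg.Agent.Lib.Helper28.TCSuzF3L1.rel5 p (by omega) (by omega) _ hm

theorem hC : ∀ c ∈ cw, ∀ x ∈ (Cfsg.Agent.Lib.Helper28.SuzCovDef.cover).gens, pathOf lw (commWord c x) ∈ chkPaths := by decide +kernel
theorem hR : ∀ r ∈ (Cfsg.Agent.Lib.Helper28.SuzCovDef.cover).R, ∃ c ∈ cw, pathOf lw (r ++ c) ∈ chkPaths := by decide +kernel
theorem hN : ∀ L ∈ (Cfsg.Agent.Lib.Helper28.SuzCovDef.cover).norms, pathOf lw L ∈ chkPaths := by decide +kernel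

/-- the permutation representation of the covering group -/
theorem main : ∃ φ : (Cfsg.Agent.Lib.Helper28.SuzCovDef.cover).E →* Equiv.Perm (Fin table.n),
    ∀ (L : List (Cfsg.Spor.Suz.Gen × Bool)) (p : Fin table.n),
      (φ (PresentedGroup.mk (Cfsg.Agent.Lib.Helper28.SuzCovDef.cover).relsE (FreeGroup.mk L)) p).val = table.walkT (pathOf lw L) p.val :=
  hom_of_central_table (Cfsg.Agent.Lib.Helper28.SuzCovDef.cover) lw table hT
    (by rintro ⟨x, b⟩; cases x <;> cases b <;> decide)
    (by intro x; cases x <;> decide +kernel) cw chkPaths hchkT hC hR hN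

theorem rz_mem : rz ∈ (Cfsg.Agent.Lib.Helper28.SuzCovDef.cover).R := by decide +kernel

theorem rz_pow : ∀ p, p < table.n → table.walkT (pathOf lw (rz ++ rz ++ rz)) p = p :=
  hchkT _ (by decide +kernel)

theorem rz_move : table.walkT (pathOf lw rz) 0 = 89 := by decide +kernel

end Cfsg.Agent.Lib.Helper28.TCSuzF3Hom
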