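import Cfsg.Agent.Lib.Helper28.TCSuzBTable
import Cfsg.Agent.Lib.Helper28.TCSuzW0Table
set_option autoImplicit false
set_option maxRecDepth 100000
set_option maxHeartbeats 0

namespace Cfsg.Agent.Lib.Helper28.TCSuzBChk3
open Cfsg.Agent.Lib.Helper28.TC2Upper Cfsg.Agent.Lib.Helper28.TC2Lower Cfsg.Agent.Lib.Helper28.TC2Orbit Cfsg.Agent.Lib.Helper28.TC2Range Cfsg.Agent.Lib.Helper28.TC2Bsgs Cfsg.Agent.Lib.Helper28.TCSuzBTable

theorem def20_0 : defRange btable defs 20 0 1782 = true := by decide +kernel
theorem def21_0 : defRange btable defs 21 0 1782 = true := by decide +kernel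
theorem def22_0 : defRange btable defs 22 0 1782 = true := by decide +kernel
theorem def23_0 : defRange btable defs 23 0 1782 = true := by decide +kernel
theorem def24_0 : defRange btable defs 24 0 1782 = true := by decide +kernel

end Cfsg.Agent.Lib.Helper28.TCSuzBChk3
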