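import Cfsg.Agent.Lib.Helper28.TCSuzBTable
import Cfsg.Agent.Lib.Helper28.TCSuzW0Table
set_option autoImplicit false
set_option maxRecDepth 100000
set_option maxHeartbeats 0

namespace Cfsg.Agent.Lib.Helper28.TCSuzBChk4
open Cfsg.Agent.Lib.Helper28.TC2Upper Cfsg.Agent.Lib.Helper28.TC2Lower Cfsg.Agent.Lib.Helper28.TC2Orbit Cfsg.Agent.Lib.Helper28.TC2Range Cfsg.Agent.Lib.Helper28.TC2Bsgs Cfsg.Agent.Lib.Helper28.TCSuzBTable

theorem conn0_0 : OrbData.connOKc orb0 btable 1 0 1782 = true := by decide +kernel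
theorem cnt0 : orb0.count 1782 1 = 1782 := by decide +kernel
theorem hgens0 : BT.all (fun s => decide (s ∈ A0.map fun l => [l])) orb0.gens = true := by decide +kernel
theorem hA0 : ∀ l ∈ A0, l < btable.k ∧ ∀ q ∈ ([] : List ℕ), btable.tau l q = q := by decide +kernel
theorem conn1_0 : OrbData.connOKc orb1 btable 1 0 1782 = true := by decide +kernel

end Cfsg.Agent.Lib.Helper28.TCSuzBChk4
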