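import Cfsg.Agent.Lib.Helper28.TCSuzBTable
import Cfsg.Agent.Lib.Helper28.TCSuzW0Table
import Cfsg.Agent.Lib.Helper28.TCSuzBChk1
set_option autoImplicit false
set_option maxRecDepth 100000
set_option maxHeartbeats 0

namespace Cfsg.Agent.Lib.Helper28.TCSuzBChk7
open Cfsg.Agent.Lib.Helper28.TC2Upper Cfsg.Agent.Lib.Helper28.TC2Lower Cfsg.Agent.Lib.Helper28.TC2Orbit Cfsg.Agent.Lib.Helper28.TC2Range Cfsg.Agent.Lib.Helper28.TC2Bsgs Cfsg.Agent.Lib.Helper28.TCSuzBTable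

theorem hA3 : ∀ l ∈ A3, l < btable.k ∧ ∀ q ∈ ([2, 1, 0] : List ℕ), btable.tau l q = q := by decide +kernel
theorem conn4_0 : OrbData.connOKc orb4 btable 1 0 1782 = true := by decide +kernel
theorem cnt4 : orb4.count 1782 1 = 4 := by decide +kernel
theorem hgens4 : BT.all (fun s => decide (s ∈ A4.map fun l => [l])) orb4.gens = true := by decide +kernel
theorem hA4 : ∀ l ∈ A4, l < btable.k ∧ ∀ q ∈ ([4, 2, 1, 0] : List ℕ), btable.tau l q = q := by decide +kernel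

end Cfsg.Agent.Lib.Helper28.TCSuzBChk7
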