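import Cfsg.Agent.Lib.Helper28.TCSuzBTable
import Cfsg.Agent.Lib.Helper28.TCSuzW0Table
import Cfsg.Agent.Lib.Helper28.TCSuzBChk2
set_option autoImplicit false
set_option maxRecDepth 100000
set_option maxHeartbeats 0

namespace Cfsg.Agent.Lib.Helper28.TCSuzBChk8
open Cfsg.Agent.Lib.Helper28.TC2Upper Cfsg.Agent.Lib.Helper28.TC2Lower Cfsg.Agent.Lib.Helper28.TC2Orbit Cfsg.Agent.Lib.Helper28.TC2Range Cfsg.Agent.Lib.Helper28.TC2Bsgs Cfsg.Agent.Lib.Helper28.TCSuzBTable

theorem conn5_0 : OrbData.connOKc orb5 btable 1 0 1782 = true := by decide +kernel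
theorem cnt5 : orb5.count 1782 1 = 3 := by decide +kernel
theorem hgens5 : BT.all (fun s => decide (s ∈ A5.map fun l => [l])) orb5.gens = true := by decide +kernel
theorem hA5 : ∀ l ∈ A5, l < btable.k ∧ ∀ q ∈ ([14, 4, 2, 1, 0] : List ℕ), btable.tau l q = q := by decide +kernel
theorem hinvOK : btable.invOK = true := by decide +kernel

end Cfsg.Agent.Lib.Helper28.TCSuzBChk8
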