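import Cfsg.Agent.Lib.Helper28.TC2GlueOrb
import Cfsg.Agent.Lib.Helper28.TC2Range
import Cfsg.Agent.Lib.Helper28.TCSuzW0Link
import Cfsg.Agent.Lib.Helper28.TCSuzW0M
import Cfsg.Agent.Lib.Helper28.TCSuzW0M0
import Cfsg.Agent.Lib.Helper28.TCSuzW0U0
import Cfsg.Agent.Lib.Helper28.TCSuzW0U1
import Cfsg.Agent.Lib.Helper28.TCSuzW0L0

set_option autoImplicit false
set_option maxRecDepth 100000
open Cfsg

namespace Cfsg.Agent.Lib.Helper28.TCSuzW0Main
open Cfsg.Agent.Lib.Helper28.TC2Upper Cfsg.Agent.Lib.Helper28.TC2Lower Cfsg.Agent.Lib.Helper28.TC2Glue Cfsg.Agent.Lib.Helper28.TC2GlueOrb Cfsg.Agent.Lib.Helper28.TC2Orbit Cfsg.Agent.Lib.Helper28.TC2Range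
open Cfsg.Agent.Lib.Helper28.TCSuzW0Data Cfsg.Agent.Lib.Helper28.TCSuzW0Table Cfsg.Agent.Lib.Helper28.TCSuzW0Link Cfsg.Agent.Lib.Helper28.TCSuzW0M

theorem hchk : ∀ v, v < data.N → data.checkNode v = true := by
  intro v hv
  have hv' : v < 12363 := hv
  rcases Nat.lt_or_ge v 1022 with h0 | h0
  · exact (data.checkRange_iff 0 1022).mp Cfsg.Agent.Lib.Helper28.TCSuzW0U0.chk0 v (by omega) (by omega)
  rcases Nat.lt_or_ge v 2664 with h1 | h1
  · exact (data.checkRange_iff 1022 1642).mp Cfsg.Agent.Lib.Helper28.TCSuzW0U0.chk1 v (by omega) (by omega)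
  rcases Nat.lt_or_ge v 3497 with h2 | h2
  · exact (data.checkRange_iff 2664 833).mp Cfsg.Agent.Lib.Helper28.TCSuzW0U0.chk2 v (by omega) (by omega)
  rcases Nat.lt_or_ge v 4514 with h3 | h3
  · exact (data.checkRange_iff 3497 1017).mp Cfsg.Agent.Lib.Helper28.TCSuzW0U0.chk3 v (by omega) (by omega)
  rcases Nat.lt_or_ge v 5684 with h4 | h4
  · exact (data.checkRange_iff 4514 1170).mp Cfsg.Agent.Lib.Helper28.TCSuzW0U0.chk4 v (by omega) (by omega)
  rcases Nat.lt_or_ge v 7154 with h5 | h5
  · exact (data.checkRange_iff 5684 1470).mp Cfsg.Agent.Lib.Helper28.TCSuzW0U1.chk5 v (by omega) (by omega)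
  rcases Nat.lt_or_ge v 9338 with h6 | h6
  · exact (data.checkRange_iff 7154 2184).mp Cfsg.Agent.Lib.Helper28.TCSuzW0U1.chk6 v (by omega) (by omega)
  rcases Nat.lt_or_ge v 12358 with h7 | h7
  · exact (data.checkRange_iff 9338 3020).mp Cfsg.Agent.Lib.Helper28.TCSuzW0U1.chk7 v (by omega) (by omega)
  exact (data.checkRange_iff 12358 5).mp Cfsg.Agent.Lib.Helper28.TCSuzW0U1.chk8 v (by omega) (by omega)

theorem hrows : ∀ v, v < data.N → Data.rowOK data v = true := by
  intro v hv
  have hv' : v < 12363 := hv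
  rcases Nat.lt_or_ge v 11904 with h0 | h0
  · exact (Data.finalRange_iff data 0 11904).mp Cfsg.Agent.Lib.Helper28.TCSuzW0M0.fin0 v (by omega) (by omega)
  exact (Data.finalRange_iff data 11904 459).mp Cfsg.Agent.Lib.Helper28.TCSuzW0M0.fin1 v (by omega) (by omega)

theorem hfin : data.finalOK = true := Data.finalOK_of_rows data hlive0 (by decide) hrows

theorem pc0 : Data.countFrom data 0 12363 = 1782 := Cfsg.Agent.Lib.Helper28.TCSuzW0M0.cnt0

theorem hcount : data.countLive = table.n := by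
  rw [Data.countLive_eq]
  exact pc0

theorem hpermAll : ∀ p, p < table.n → Table.permRow table p = true := by
  intro p hp
  have hp' : p < 1782 := hp
  exact (Table.permRange_iff table 0 1782).mp Cfsg.Agent.Lib.Helper28.TCSuzW0M0.prm0 p (by omega) (by omega)

theorem hT : table.OK := Table.ok_of_rows table hinvOK hpermAll

theorem htreeAll : ∀ i, i < Nat.pred table.n → Table.treeRow table i = true := by
  intro p hp
  have hp' : p < 1781 := hp
  exact (Table.treeRange_iff table 0 1781).mp Cfsg.Agent.Lib.Helper28.TCSuzW0M0.tre0 p (by omega) (by omega)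

theorem htree : table.treeOK = true := Table.treeOK_of_rows table htreeAll

theorem hchkT : ∀ P ∈ chkPaths, ∀ p, p < table.n → table.walkT P p = p := by
  intro P hm p hp
  have hp' : p < 1782 := hp
  rcases Nat.lt_or_ge p 1037 with h0 | h0
  · exact (Table.relOK_iff chkPaths 0 1037).mp Cfsg.Agent.Lib.Helper28.TCSuzW0L0.rel0 p (by omega) (by omega) _ hm
  exact (Table.relOK_iff chkPaths 1037 745).mp Cfsg.Agent.Lib.Helper28.TCSuzW0L0.rel1 p (by omega) (by omega) _ hm

theorem hrelT : ∀ L ∈ relWords, ∀ p, p < table.n → table.walkT (pathOf lw L) p = p :=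
  fun L hL => Table.fix_of_covered hT chkPaths hchkT _ (hcov _ (hrelmem L hL)).1 (hcov _ (hrelmem L hL)).2

theorem hsubT : ∀ L ∈ subWords, table.walkT (pathOf lw L) 0 = 0 :=
  fun L hL => (Table.subOK_iff subPaths).mp hsub0 _ (hsubmem L hL)

theorem hclosed : ∀ p, p < table.n → ∀ s ∈ subPaths, orbData.oid (table.walkT s p) = orbData.oid p := by
  intro p hp
  have hp' : p < 1782 := hp
  exact (orbData.closedOK_iff table subPaths 0 1782).mp clo0 p (by omega) (by omega)

theorem hconn : ∀ p, p < table.n →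
    (orbData.depth p = 0 ∧ orbData.roots.look (orbData.oid p) = p) ∨
    (orbData.depth p ≠ 0 ∧ orbData.parent p < table.n ∧ orbData.oid (orbData.parent p) = orbData.oid p ∧
      orbData.depth (orbData.parent p) + 1 = orbData.depth p ∧
      table.walkT (orbData.gens.look (orbData.gen p)) (orbData.parent p) = p) :=
  fun p hp => (orbData.connOK_iff table 0 1782).mp conn0 p (Nat.zero_le _) (by have : p < 1782 := hp; omega)

theorem cntc0 : orbData.count table.n 0 = 1 := by decide +kernel
theorem cntc1 : orbData.count table.n 1 = 1365 := by decide +kernel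
theorem cntc2 : orbData.count table.n 2 = 416 := by decide +kernel

theorem hn : 0 < table.n := by decide

theorem main : ((Subgroup.closure S).map (PresentedGroup.mk rels)).index = table.n ∧
    ∃ φ : PresentedGroup rels →* Equiv.Perm (Fin table.n),
      (∀ x, φ (PresentedGroup.of x) = Table.sigma hT (lw (x, true))) ∧
      ∃ f : PresentedGroup rels ⧸ (Subgroup.closure S).map (PresentedGroup.mk rels) → Fin table.n,
        Function.Bijective f ∧ (∀ g q, f (g • q) = φ g (f q)) ∧ f (QuotientGroup.mk 1) = ⟨0, hn⟩ :=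
  index_eq link hchk hfin hcount hT hn hrelT hsubT htree

end Cfsg.Agent.Lib.Helper28.TCSuzW0Main
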