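import Cfsg.Agent.Lib.Helper28.TC2Upper
import Cfsg.Agent.Lib.Helper28.TCSuzW3DataC0
set_option autoImplicit false
set_option maxRecDepth 100000

namespace Cfsg.Agent.Lib.Helper28.TCSuzW3Data
open Cfsg.Agent.Lib.Helper28.TC2Upper

/-- relators -/
def relT : BT (ℕ × List ℕ × List ℕ) := (BT.node 8 (BT.node 4 (BT.node 2 (BT.node 1 (BT.node 0 (BT.leaf (2, [0, 0], [0, 0])) (BT.leaf (10, [1, 0, 1, 0, 1, 0, 1, 0, 1, 0], [0, 1, 0, 1, 0, 1, 0, 1, 0, 1]))) (BT.leaf (4, [2, 0, 2, 0], [0, 2, 0, 2]))) (BT.node 3 (BT.leaf (4, [3, 0, 3, 0], [0, 3, 0, 3])) (BT.leaf (10, [0, 1, 0, 1, 0, 1, 0, 1, 0, 1], [1, 0, 1, 0, 1, 0, 1, 0, 1, 0])))) (BT.node 6 (BT.node 5 (BT.leaf (2, [1, 1], [1, 1])) (BT.leaf (6, [2, 1, 2, 1, 2, 1], [1, 2, 1, 2, 1, 2]))) (BT.node 7 (BT.leaf (4, [3, 1, 3, 1], [1, 3, 1, 3])) (BT.leaf (4, [0, 2, 0, 2], [2, 0, 2, 0]))))) (BT.node 12 (BT.node 10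 (BT.node 9 (BT.leaf (6, [1, 2, 1, 2, 1, 2], [2, 1, 2, 1, 2, 1])) (BT.leaf (2, [2, 2], [2, 2]))) (BT.node 11 (BT.leaf (16, [3, 2, 3, 2, 3, 2, 3, 2, 3, 2, 3, 2, 3, 2, 3, 2], [2, 3, 2, 3, 2, 3, 2, 3, 2, 3, 2, 3, 2, 3, 2, 3])) (BT.leaf (4, [0, 3, 0, 3], [3, 0, 3, 0])))) (BT.node 14 (BT.node 13 (BT.leaf (4, [1, 3, 1, 3], [3, 1, 3, 1])) (BT.leaf (16, [2, 3, 2, 3, 2, 3, 2, 3, 2, 3, 2, 3, 2, 3, 2, 3], [3, 2, 3, 2, 3, 2, 3, 2, 3, 2, 3, 2, 3, 2, 3, 2]))) (BT.node 15 (BT.leaf (2, [3, 3], [3, 3])) (BT.leaf (9, [2, 3, 2, 3, 2, 3, 2, 3, 0], [0, 3, 2, 3, 2, 3, 2, 3, 2]))))))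
/-- subgroup generators -/
def subT : BT (ℕ × List ℕ × List ℕ) := (BT.leaf (0, [], []))
/-- fact chunks -/
def colET : BT ℕ := (BT.node 109 (BT.node 54 (BT.node 27 (BT.node 13 (BT.node 6 (BT.node 3 (BT.node 1 (BT.node 0 (BT.leaf cE0) (BT.leaf cE1)) (BT.node 2 (BT.leaf cE2) (BT.leaf cE3))) (BT.node 5 (BT.node 4 (BT.leaf cE4) (BT.leaf cE5)) (BT.leaf cE6))) (BT.node 10 (BT.node 8 (BT.node 7 (BT.leaf cE7) (BT.leaf cE8)) (BT.node 9 (BT.leaf cE9) (BT.leaf cE10))) (BT.node 12 (BT.node 11 (BT.leaf cE11) (BT.leaf cE12)) (BT.leaf cE13)))) (BT.node 20 (BT.node 17 (BT.node 15 (BT.node 14 (BT.leaf cE14) (BT.leaf cE15)) (BT.node 16 (BT.leaf cE16) (BT.leaf cE17))) (BT.node 19 (BT.node 18 (BT.leaf cE18) (BT.leaf cE19)) (BT.leaf cE20))) (BT.node 24 (BT.node 22 (BT.node 21 (BT.leaf cE21) (BT.leaf cE22)) (BT.node 23 (BT.leaf cE23) (BT.leaf cE24))) (BT.node 26 (BT.node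 25 (BT.leaf cE25) (BT.leaf cE26)) (BT.leaf cE27))))) (BT.node 41 (BT.node 34 (BT.node 31 (BT.node 29 (BT.node 28 (BT.leaf cE28) (BT.leaf cE29)) (BT.node 30 (BT.leaf cE30) (BT.leaf cE31))) (BT.node 33 (BT.node 32 (BT.leaf cE32) (BT.leaf cE33)) (BT.leaf cE34))) (BT.node 38 (BT.node 36 (BT.node 35 (BT.leaf cE35) (BT.leaf cE36)) (BT.node 37 (BT.leaf cE37) (BT.leaf cE38))) (BT.node 40 (BT.node 39 (BT.leaf cE39) (BT.leaf cE40)) (BT.leaf cE41)))) (BT.node 48 (BT.node 45 (BT.node 43 (BT.node 42 (BT.leaf cE42) (BT.leaf cE43)) (BT.node 44 (BT.leaf cE44) (BT.leaf cE45))) (BT.node 47 (BT.node 46 (BT.leaf cE46) (BT.leaf cE47)) (BT.leaf cE48))) (BT.node 51 (BT.node 50 (BT.node 49 (BT.leaf cE49) (BT.leaf cE50)) (BT.leaf cE51)) (BT.node 53 (BT.node 52 (BT.leaf cE52) (BT.leaf cE53)) (BT.leaf cE54)))))) (BT.node 82 (BT.node 68 (BT.node 61 (BT.node 58 (BT.node 56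 (BT.node 55 (BT.leaf cE55) (BT.leaf cE56)) (BT.node 57 (BT.leaf cE57) (BT.leaf cE58))) (BT.node 60 (BT.node 59 (BT.leaf cE59) (BT.leaf cE60)) (BT.leaf cE61))) (BT.node 65 (BT.node 63 (BT.node 62 (BT.leaf cE62) (BT.leaf cE63)) (BT.node 64 (BT.leaf cE64) (BT.leaf cE65))) (BT.node 67 (BT.node 66 (BT.leaf cE66) (BT.leaf cE67)) (BT.leaf cE68)))) (BT.node 75 (BT.node 72 (BT.node 70 (BT.node 69 (BT.leaf cE69) (BT.leaf cE70)) (BT.node 71 (BT.leaf cE71) (BT.leaf cE72))) (BT.node 74 (BT.node 73 (BT.leaf cE73) (BT.leaf cE74)) (BT.leaf cE75))) (BT.node 79 (BT.node 77 (BT.node 76 (BT.leaf cE76) (BT.leaf cE77)) (BT.node 78 (BT.leaf cE78) (BT.leaf cE79))) (BT.node 81 (BT.node 80 (BT.leaf cE80) (BT.leaf cE81)) (BT.leaf cE82))))) (BT.node 96 (BT.node 89 (BT.node 86 (BT.node 84 (BT.node 83 (BT.leaf cE83) (BT.leaf cE84)) (BT.node 85 (BT.leaf cE85) (BT.leaf cE86)))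 (BT.node 88 (BT.node 87 (BT.leaf cE87) (BT.leaf cE88)) (BT.leaf cE89))) (BT.node 93 (BT.node 91 (BT.node 90 (BT.leaf cE90) (BT.leaf cE91)) (BT.node 92 (BT.leaf cE92) (BT.leaf cE93))) (BT.node 95 (BT.node 94 (BT.leaf cE94) (BT.leaf cE95)) (BT.leaf cE96)))) (BT.node 103 (BT.node 100 (BT.node 98 (BT.node 97 (BT.leaf cE97) (BT.leaf cE98)) (BT.node 99 (BT.leaf cE99) (BT.leaf cE100))) (BT.node 102 (BT.node 101 (BT.leaf cE101) (BT.leaf cE102)) (BT.leaf cE103))) (BT.node 106 (BT.node 105 (BT.node 104 (BT.leaf cE104) (BT.leaf cE105)) (BT.leaf cE106)) (BT.node 108 (BT.node 107 (BT.leaf cE107) (BT.leaf cE108)) (BT.leaf cE109))))))) (BT.node 164 (BT.node 137 (BT.node 123 (BT.node 116 (BT.node 113 (BT.node 111 (BT.node 110 (BT.leaf cE110) (BT.leaf cE111)) (BT.node 112 (BT.leaf cE112) (BT.leaf cE113))) (BT.node 115 (BT.node 114 (BT.leaf cE114) (BT.leaf cE115))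 (BT.leaf cE116))) (BT.node 120 (BT.node 118 (BT.node 117 (BT.leaf cE117) (BT.leaf cE118)) (BT.node 119 (BT.leaf cE119) (BT.leaf cE120))) (BT.node 122 (BT.node 121 (BT.leaf cE121) (BT.leaf cE122)) (BT.leaf cE123)))) (BT.node 130 (BT.node 127 (BT.node 125 (BT.node 124 (BT.leaf cE124) (BT.leaf cE125)) (BT.node 126 (BT.leaf cE126) (BT.leaf cE127))) (BT.node 129 (BT.node 128 (BT.leaf cE128) (BT.leaf cE129)) (BT.leaf cE130))) (BT.node 134 (BT.node 132 (BT.node 131 (BT.leaf cE131) (BT.leaf cE132)) (BT.node 133 (BT.leaf cE133) (BT.leaf cE134))) (BT.node 136 (BT.node 135 (BT.leaf cE135) (BT.leaf cE136)) (BT.leaf cE137))))) (BT.node 151 (BT.node 144 (BT.node 141 (BT.node 139 (BT.node 138 (BT.leaf cE138) (BT.leaf cE139)) (BT.node 140 (BT.leaf cE140) (BT.leaf cE141))) (BT.node 143 (BT.node 142 (BT.leaf cE142) (BT.leaf cE143)) (BT.leaf cE144))) (BT.node 148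 (BT.node 146 (BT.node 145 (BT.leaf cE145) (BT.leaf cE146)) (BT.node 147 (BT.leaf cE147) (BT.leaf cE148))) (BT.node 150 (BT.node 149 (BT.leaf cE149) (BT.leaf cE150)) (BT.leaf cE151)))) (BT.node 158 (BT.node 155 (BT.node 153 (BT.node 152 (BT.leaf cE152) (BT.leaf cE153)) (BT.node 154 (BT.leaf cE154) (BT.leaf cE155))) (BT.node 157 (BT.node 156 (BT.leaf cE156) (BT.leaf cE157)) (BT.leaf cE158))) (BT.node 161 (BT.node 160 (BT.node 159 (BT.leaf cE159) (BT.leaf cE160)) (BT.leaf cE161)) (BT.node 163 (BT.node 162 (BT.leaf cE162) (BT.leaf cE163)) (BT.leaf cE164)))))) (BT.node 192 (BT.node 178 (BT.node 171 (BT.node 168 (BT.node 166 (BT.node 165 (BT.leaf cE165) (BT.leaf cE166)) (BT.node 167 (BT.leaf cE167) (BT.leaf cE168))) (BT.node 170 (BT.node 169 (BT.leaf cE169) (BT.leaf cE170)) (BT.leaf cE171))) (BT.node 175 (BT.node 173 (BT.node 172 (BT.leaf cE172) (BT.leaf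 cE173)) (BT.node 174 (BT.leaf cE174) (BT.leaf cE175))) (BT.node 177 (BT.node 176 (BT.leaf cE176) (BT.leaf cE177)) (BT.leaf cE178)))) (BT.node 185 (BT.node 182 (BT.node 180 (BT.node 179 (BT.leaf cE179) (BT.leaf cE180)) (BT.node 181 (BT.leaf cE181) (BT.leaf cE182))) (BT.node 184 (BT.node 183 (BT.leaf cE183) (BT.leaf cE184)) (BT.leaf cE185))) (BT.node 189 (BT.node 187 (BT.node 186 (BT.leaf cE186) (BT.leaf cE187)) (BT.node 188 (BT.leaf cE188) (BT.leaf cE189))) (BT.node 191 (BT.node 190 (BT.leaf cE190) (BT.leaf cE191)) (BT.leaf cE192))))) (BT.node 206 (BT.node 199 (BT.node 196 (BT.node 194 (BT.node 193 (BT.leaf cE193) (BT.leaf cE194)) (BT.node 195 (BT.leaf cE195) (BT.leaf cE196))) (BT.node 198 (BT.node 197 (BT.leaf cE197) (BT.leaf cE198)) (BT.leaf cE199))) (BT.node 203 (BT.node 201 (BT.node 200 (BT.leaf cE200) (BT.leaf cE201)) (BT.node 202 (BT.leaf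 cE202) (BT.leaf cE203))) (BT.node 205 (BT.node 204 (BT.leaf cE204) (BT.leaf cE205)) (BT.leaf cE206)))) (BT.node 213 (BT.node 210 (BT.node 208 (BT.node 207 (BT.leaf cE207) (BT.leaf cE208)) (BT.node 209 (BT.leaf cE209) (BT.leaf cE210))) (BT.node 212 (BT.node 211 (BT.leaf cE211) (BT.leaf cE212)) (BT.leaf cE213))) (BT.node 216 (BT.node 215 (BT.node 214 (BT.leaf cE214) (BT.leaf cE215)) (BT.leaf cE216)) (BT.node 218 (BT.node 217 (BT.leaf cE217) (BT.leaf cE218)) (BT.leaf cE219))))))))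
/-- justification chunks -/
def colJT : BT ℕ := (BT.node 109 (BT.node 54 (BT.node 27 (BT.node 13 (BT.node 6 (BT.node 3 (BT.node 1 (BT.node 0 (BT.leaf cJ0) (BT.leaf cJ1)) (BT.node 2 (BT.leaf cJ2) (BT.leaf cJ3))) (BT.node 5 (BT.node 4 (BT.leaf cJ4) (BT.leaf cJ5)) (BT.leaf cJ6))) (BT.node 10 (BT.node 8 (BT.node 7 (BT.leaf cJ7) (BT.leaf cJ8)) (BT.node 9 (BT.leaf cJ9) (BT.leaf cJ10))) (BT.node 12 (BT.node 11 (BT.leaf cJ11) (BT.leaf cJ12)) (BT.leaf cJ13)))) (BT.node 20 (BT.node 17 (BT.node 15 (BT.node 14 (BT.leaf cJ14) (BT.leaf cJ15)) (BT.node 16 (BT.leaf cJ16) (BT.leaf cJ17))) (BT.node 19 (BT.node 18 (BT.leaf cJ18) (BT.leaf cJ19)) (BT.leaf cJ20))) (BT.node 24 (BT.node 22 (BT.node 21 (BT.leaf cJ21) (BT.leaf cJ22)) (BT.node 23 (BT.leaf cJ23) (BT.leaf cJ24))) (BT.node 26 (BT.node 25 (BT.leaf cJ25) (BT.leaf cJ26)) (BT.leaf cJ27))))) (BT.node 41 (BT.node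 34 (BT.node 31 (BT.node 29 (BT.node 28 (BT.leaf cJ28) (BT.leaf cJ29)) (BT.node 30 (BT.leaf cJ30) (BT.leaf cJ31))) (BT.node 33 (BT.node 32 (BT.leaf cJ32) (BT.leaf cJ33)) (BT.leaf cJ34))) (BT.node 38 (BT.node 36 (BT.node 35 (BT.leaf cJ35) (BT.leaf cJ36)) (BT.node 37 (BT.leaf cJ37) (BT.leaf cJ38))) (BT.node 40 (BT.node 39 (BT.leaf cJ39) (BT.leaf cJ40)) (BT.leaf cJ41)))) (BT.node 48 (BT.node 45 (BT.node 43 (BT.node 42 (BT.leaf cJ42) (BT.leaf cJ43)) (BT.node 44 (BT.leaf cJ44) (BT.leaf cJ45))) (BT.node 47 (BT.node 46 (BT.leaf cJ46) (BT.leaf cJ47)) (BT.leaf cJ48))) (BT.node 51 (BT.node 50 (BT.node 49 (BT.leaf cJ49) (BT.leaf cJ50)) (BT.leaf cJ51)) (BT.node 53 (BT.node 52 (BT.leaf cJ52) (BT.leaf cJ53)) (BT.leaf cJ54)))))) (BT.node 82 (BT.node 68 (BT.node 61 (BT.node 58 (BT.node 56 (BT.node 55 (BT.leaf cJ55) (BT.leaf cJ56)) (BT.node 57 (BT.leaf cJ57) (BT.leaf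 cJ58))) (BT.node 60 (BT.node 59 (BT.leaf cJ59) (BT.leaf cJ60)) (BT.leaf cJ61))) (BT.node 65 (BT.node 63 (BT.node 62 (BT.leaf cJ62) (BT.leaf cJ63)) (BT.node 64 (BT.leaf cJ64) (BT.leaf cJ65))) (BT.node 67 (BT.node 66 (BT.leaf cJ66) (BT.leaf cJ67)) (BT.leaf cJ68)))) (BT.node 75 (BT.node 72 (BT.node 70 (BT.node 69 (BT.leaf cJ69) (BT.leaf cJ70)) (BT.node 71 (BT.leaf cJ71) (BT.leaf cJ72))) (BT.node 74 (BT.node 73 (BT.leaf cJ73) (BT.leaf cJ74)) (BT.leaf cJ75))) (BT.node 79 (BT.node 77 (BT.node 76 (BT.leaf cJ76) (BT.leaf cJ77)) (BT.node 78 (BT.leaf cJ78) (BT.leaf cJ79))) (BT.node 81 (BT.node 80 (BT.leaf cJ80) (BT.leaf cJ81)) (BT.leaf cJ82))))) (BT.node 96 (BT.node 89 (BT.node 86 (BT.node 84 (BT.node 83 (BT.leaf cJ83) (BT.leaf cJ84)) (BT.node 85 (BT.leaf cJ85) (BT.leaf cJ86))) (BT.node 88 (BT.node 87 (BT.leaf cJ87) (BT.leaf cJ88)) (BT.leaf cJ89))) (BT.node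 93 (BT.node 91 (BT.node 90 (BT.leaf cJ90) (BT.leaf cJ91)) (BT.node 92 (BT.leaf cJ92) (BT.leaf cJ93))) (BT.node 95 (BT.node 94 (BT.leaf cJ94) (BT.leaf cJ95)) (BT.leaf cJ96)))) (BT.node 103 (BT.node 100 (BT.node 98 (BT.node 97 (BT.leaf cJ97) (BT.leaf cJ98)) (BT.node 99 (BT.leaf cJ99) (BT.leaf cJ100))) (BT.node 102 (BT.node 101 (BT.leaf cJ101) (BT.leaf cJ102)) (BT.leaf cJ103))) (BT.node 106 (BT.node 105 (BT.node 104 (BT.leaf cJ104) (BT.leaf cJ105)) (BT.leaf cJ106)) (BT.node 108 (BT.node 107 (BT.leaf cJ107) (BT.leaf cJ108)) (BT.leaf cJ109))))))) (BT.node 164 (BT.node 137 (BT.node 123 (BT.node 116 (BT.node 113 (BT.node 111 (BT.node 110 (BT.leaf cJ110) (BT.leaf cJ111)) (BT.node 112 (BT.leaf cJ112) (BT.leaf cJ113))) (BT.node 115 (BT.node 114 (BT.leaf cJ114) (BT.leaf cJ115)) (BT.leaf cJ116))) (BT.node 120 (BT.node 118 (BT.node 117 (BT.leaf cJ117) (BT.leaf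 cJ118)) (BT.node 119 (BT.leaf cJ119) (BT.leaf cJ120))) (BT.node 122 (BT.node 121 (BT.leaf cJ121) (BT.leaf cJ122)) (BT.leaf cJ123)))) (BT.node 130 (BT.node 127 (BT.node 125 (BT.node 124 (BT.leaf cJ124) (BT.leaf cJ125)) (BT.node 126 (BT.leaf cJ126) (BT.leaf cJ127))) (BT.node 129 (BT.node 128 (BT.leaf cJ128) (BT.leaf cJ129)) (BT.leaf cJ130))) (BT.node 134 (BT.node 132 (BT.node 131 (BT.leaf cJ131) (BT.leaf cJ132)) (BT.node 133 (BT.leaf cJ133) (BT.leaf cJ134))) (BT.node 136 (BT.node 135 (BT.leaf cJ135) (BT.leaf cJ136)) (BT.leaf cJ137))))) (BT.node 151 (BT.node 144 (BT.node 141 (BT.node 139 (BT.node 138 (BT.leaf cJ138) (BT.leaf cJ139)) (BT.node 140 (BT.leaf cJ140) (BT.leaf cJ141))) (BT.node 143 (BT.node 142 (BT.leaf cJ142) (BT.leaf cJ143)) (BT.leaf cJ144))) (BT.node 148 (BT.node 146 (BT.node 145 (BT.leaf cJ145) (BT.leaf cJ146)) (BT.node 147 (BT.leaf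 cJ147) (BT.leaf cJ148))) (BT.node 150 (BT.node 149 (BT.leaf cJ149) (BT.leaf cJ150)) (BT.leaf cJ151)))) (BT.node 158 (BT.node 155 (BT.node 153 (BT.node 152 (BT.leaf cJ152) (BT.leaf cJ153)) (BT.node 154 (BT.leaf cJ154) (BT.leaf cJ155))) (BT.node 157 (BT.node 156 (BT.leaf cJ156) (BT.leaf cJ157)) (BT.leaf cJ158))) (BT.node 161 (BT.node 160 (BT.node 159 (BT.leaf cJ159) (BT.leaf cJ160)) (BT.leaf cJ161)) (BT.node 163 (BT.node 162 (BT.leaf cJ162) (BT.leaf cJ163)) (BT.leaf cJ164)))))) (BT.node 192 (BT.node 178 (BT.node 171 (BT.node 168 (BT.node 166 (BT.node 165 (BT.leaf cJ165) (BT.leaf cJ166)) (BT.node 167 (BT.leaf cJ167) (BT.leaf cJ168))) (BT.node 170 (BT.node 169 (BT.leaf cJ169) (BT.leaf cJ170)) (BT.leaf cJ171))) (BT.node 175 (BT.node 173 (BT.node 172 (BT.leaf cJ172) (BT.leaf cJ173)) (BT.node 174 (BT.leaf cJ174) (BT.leaf cJ175))) (BT.node 177 (BT.node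 176 (BT.leaf cJ176) (BT.leaf cJ177)) (BT.leaf cJ178)))) (BT.node 185 (BT.node 182 (BT.node 180 (BT.node 179 (BT.leaf cJ179) (BT.leaf cJ180)) (BT.node 181 (BT.leaf cJ181) (BT.leaf cJ182))) (BT.node 184 (BT.node 183 (BT.leaf cJ183) (BT.leaf cJ184)) (BT.leaf cJ185))) (BT.node 189 (BT.node 187 (BT.node 186 (BT.leaf cJ186) (BT.leaf cJ187)) (BT.node 188 (BT.leaf cJ188) (BT.leaf cJ189))) (BT.node 191 (BT.node 190 (BT.leaf cJ190) (BT.leaf cJ191)) (BT.leaf cJ192))))) (BT.node 206 (BT.node 199 (BT.node 196 (BT.node 194 (BT.node 193 (BT.leaf cJ193) (BT.leaf cJ194)) (BT.node 195 (BT.leaf cJ195) (BT.leaf cJ196))) (BT.node 198 (BT.node 197 (BT.leaf cJ197) (BT.leaf cJ198)) (BT.leaf cJ199))) (BT.node 203 (BT.node 201 (BT.node 200 (BT.leaf cJ200) (BT.leaf cJ201)) (BT.node 202 (BT.leaf cJ202) (BT.leaf cJ203))) (BT.node 205 (BT.node 204 (BT.leaf cJ204) (BT.leaf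 cJ205)) (BT.leaf cJ206)))) (BT.node 213 (BT.node 210 (BT.node 208 (BT.node 207 (BT.leaf cJ207) (BT.leaf cJ208)) (BT.node 209 (BT.leaf cJ209) (BT.leaf cJ210))) (BT.node 212 (BT.node 211 (BT.leaf cJ211) (BT.leaf cJ212)) (BT.leaf cJ213))) (BT.node 216 (BT.node 215 (BT.node 214 (BT.leaf cJ214) (BT.leaf cJ215)) (BT.leaf cJ216)) (BT.node 218 (BT.node 217 (BT.leaf cJ217) (BT.leaf cJ218)) (BT.leaf cJ219))))))))
/-- parent chunks -/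
def parCT : BT ℕ := (BT.node 21 (BT.node 10 (BT.node 5 (BT.node 2 (BT.node 1 (BT.node 0 (BT.leaf cP0) (BT.leaf cP1)) (BT.leaf cP2)) (BT.node 4 (BT.node 3 (BT.leaf cP3) (BT.leaf cP4)) (BT.leaf cP5))) (BT.node 8 (BT.node 7 (BT.node 6 (BT.leaf cP6) (BT.leaf cP7)) (BT.leaf cP8)) (BT.node 9 (BT.leaf cP9) (BT.leaf cP10)))) (BT.node 16 (BT.node 13 (BT.node 12 (BT.node 11 (BT.leaf cP11) (BT.leaf cP12)) (BT.leaf cP13)) (BT.node 15 (BT.node 14 (BT.leaf cP14) (BT.leaf cP15)) (BT.leaf cP16))) (BT.node 19 (BT.node 18 (BT.node 17 (BT.leaf cP17) (BT.leaf cP18)) (BT.leaf cP19)) (BT.node 20 (BT.leaf cP20) (BT.leaf cP21))))) (BT.node 32 (BT.node 27 (BT.node 24 (BT.node 23 (BT.node 22 (BT.leaf cP22) (BT.leaf cP23)) (BT.leaf cP24)) (BT.node 26 (BT.node 25 (BT.leaf cP25) (BT.leaf cP26)) (BT.leaf cP27))) (BT.node 30 (BT.node 29 (BT.node 28 (BT.leaf cP28) (BT.leaf cP29))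 (BT.leaf cP30)) (BT.node 31 (BT.leaf cP31) (BT.leaf cP32)))) (BT.node 38 (BT.node 35 (BT.node 34 (BT.node 33 (BT.leaf cP33) (BT.leaf cP34)) (BT.leaf cP35)) (BT.node 37 (BT.node 36 (BT.leaf cP36) (BT.leaf cP37)) (BT.leaf cP38))) (BT.node 41 (BT.node 40 (BT.node 39 (BT.leaf cP39) (BT.leaf cP40)) (BT.leaf cP41)) (BT.node 42 (BT.leaf cP42) (BT.leaf cP43))))))
/-- the certificate -/
def data : Data where
  k := 4
  N := 22092
  W := 31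
  MW := 2147483648
  B := 32768
  CH := 512
  NCH := 44
  colE := colET
  JW := 64
  MJ := 18446744073709551616
  A := 1048576
  colJ := colJT
  PW := 24
  MP := 16777216
  parC := parCT
  inv := (BT.node 2 (BT.node 1 (BT.node 0 (BT.leaf 0) (BT.leaf 1)) (BT.leaf 2)) (BT.node 3 (BT.leaf 3) (BT.leaf 4)))
  rel := relT
  sub := subT
  fuel := 64

end Cfsg.Agent.Lib.Helper28.TCSuzW3Data
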