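import Cfsg.Prelude.Def_SporCoxeter
import Cfsg.Agent.Lib.Helper28.TCSuzW2Def
set_option autoImplicit false

namespace Cfsg.Agent.Lib.Helper28.TCSuzW3Def

/-- the generators -/
inductive Gen
  | a
  | b
  | c
  | d
  deriving DecidableEq

/-- the generators as generators of the larger presentation -/
def up : Gen → Cfsg.Agent.Lib.Helper28.TCSuzW2Def.Gen
  | .a => .a
  | .b => .b
  | .c => .c
  | .d => .d

/-- the Coxeter graph -/
def edges : List (Gen × ℕ × Gen) :=
  [(.a, 5, .b), (.b, 3, .c), (.c, 8, .d)]

/-- the further relators -/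
def extra : List (FreeGroup Gen) := [
  FreeGroup.mk [(.a, true), (.d, false), (.c, false), (.d, false), (.c, false), (.d, false), (.c, false), (.d, false), (.c, false)] ]

end Cfsg.Agent.Lib.Helper28.TCSuzW3Def
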