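import Cfsg.Agent.Lib.Helper28.TC2Upper
import Cfsg.Agent.Lib.Helper28.TCSuzWCDataC0
set_option autoImplicit false
set_option maxRecDepth 100000

namespace Cfsg.Agent.Lib.Helper28.TCSuzWCData
open Cfsg.Agent.Lib.Helper28.TC2Upper

/-- relators -/
def relT : BT (ℕ × List ℕ × List ℕ) := (BT.node 27 (BT.node 13 (BT.node 6 (BT.node 3 (BT.node 1 (BT.node 0 (BT.leaf (2, [0, 0], [0, 0])) (BT.leaf (10, [1, 0, 1, 0, 1, 0, 1, 0, 1, 0], [0, 1, 0, 1, 0, 1, 0, 1, 0, 1]))) (BT.node 2 (BT.leaf (4, [2, 0, 2, 0], [0, 2, 0, 2])) (BT.leaf (4, [3, 0, 3, 0], [0, 3, 0, 3])))) (BT.node 5 (BT.node 4 (BT.leaf (4, [5, 0, 5, 0], [0, 5, 0, 5])) (BT.leaf (4, [6, 0, 6, 0], [0, 6, 0, 6]))) (BT.leaf (4, [4, 0, 4, 0], [0, 4, 0, 4])))) (BT.node 10 (BT.node 8 (BT.node 7 (BT.leaf (10,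 [0, 1, 0, 1, 0, 1, 0, 1, 0, 1], [1, 0, 1, 0, 1, 0, 1, 0, 1, 0])) (BT.leaf (2, [1, 1], [1, 1]))) (BT.node 9 (BT.leaf (6, [2, 1, 2, 1, 2, 1], [1, 2, 1, 2, 1, 2])) (BT.leaf (4, [3, 1, 3, 1], [1, 3, 1, 3])))) (BT.node 12 (BT.node 11 (BT.leaf (6, [5, 1, 5, 1, 5, 1], [1, 5, 1, 5, 1, 5])) (BT.leaf (6, [6, 1, 6, 1, 6, 1], [1, 6, 1, 6, 1, 6]))) (BT.leaf (4, [4, 1, 4, 1], [1, 4, 1, 4]))))) (BT.node 20 (BT.node 17 (BT.node 15 (BT.node 14 (BT.leaf (4, [0, 2, 0, 2], [2, 0, 2, 0])) (BT.leaf (6, [1, 2, 1, 2, 1, 2], [2, 1, 2, 1, 2, 1]))) (BT.node 16 (BT.leaf (2, [2, 2], [2, 2])) (BT.leaf (16, [3, 2, 3, 2, 3, 2, 3, 2, 3, 2, 3, 2, 3, 2, 3, 2], [2, 3, 2, 3, 2, 3, 2, 3, 2, 3, 2, 3, 2, 3, 2, 3])))) (BT.node 19 (BT.node 18 (BT.leaf (4, [5, 2, 5, 2], [2, 5, 2, 5])) (BT.leaf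 (4, [6, 2, 6, 2], [2, 6, 2, 6]))) (BT.leaf (4, [4, 2, 4, 2], [2, 4, 2, 4])))) (BT.node 24 (BT.node 22 (BT.node 21 (BT.leaf (4, [0, 3, 0, 3], [3, 0, 3, 0])) (BT.leaf (4, [1, 3, 1, 3], [3, 1, 3, 1]))) (BT.node 23 (BT.leaf (16, [2, 3, 2, 3, 2, 3, 2, 3, 2, 3, 2, 3, 2, 3, 2, 3], [3, 2, 3, 2, 3, 2, 3, 2, 3, 2, 3, 2, 3, 2, 3, 2])) (BT.leaf (2, [3, 3], [3, 3])))) (BT.node 26 (BT.node 25 (BT.leaf (4, [5, 3, 5, 3], [3, 5, 3, 5])) (BT.leaf (4, [6, 3, 6, 3], [3, 6, 3, 6]))) (BT.leaf (6, [4, 3, 4, 3, 4, 3], [3, 4, 3, 4, 3, 4])))))) (BT.node 41 (BT.node 34 (BT.node 31 (BT.node 29 (BT.node 28 (BT.leaf (4, [0, 5, 0, 5], [5, 0, 5, 0])) (BT.leaf (6, [1, 5, 1, 5, 1, 5], [5, 1, 5, 1, 5, 1]))) (BT.node 30 (BT.leaf (4, [2, 5, 2, 5], [5, 2, 5, 2])) (BT.leaf (4, [3, 5,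 3, 5], [5, 3, 5, 3])))) (BT.node 33 (BT.node 32 (BT.leaf (2, [5, 5], [5, 5])) (BT.leaf (8, [6, 5, 6, 5, 6, 5, 6, 5], [5, 6, 5, 6, 5, 6, 5, 6]))) (BT.leaf (4, [4, 5, 4, 5], [5, 4, 5, 4])))) (BT.node 38 (BT.node 36 (BT.node 35 (BT.leaf (4, [0, 6, 0, 6], [6, 0, 6, 0])) (BT.leaf (6, [1, 6, 1, 6, 1, 6], [6, 1, 6, 1, 6, 1]))) (BT.node 37 (BT.leaf (4, [2, 6, 2, 6], [6, 2, 6, 2])) (BT.leaf (4, [3, 6, 3, 6], [6, 3, 6, 3])))) (BT.node 40 (BT.node 39 (BT.leaf (8, [5, 6, 5, 6, 5, 6, 5, 6], [6, 5, 6, 5, 6, 5, 6, 5])) (BT.leaf (2, [6, 6], [6, 6]))) (BT.leaf (4, [4, 6, 4, 6], [6, 4, 6, 4]))))) (BT.node 48 (BT.node 45 (BT.node 43 (BT.node 42 (BT.leaf (4, [0, 4, 0, 4], [4, 0, 4, 0])) (BT.leaf (4, [1, 4, 1, 4], [4, 1, 4, 1]))) (BT.node 44 (BT.leaf (4, [2, 4, 2, 4],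 [4, 2, 4, 2])) (BT.leaf (6, [3, 4, 3, 4, 3, 4], [4, 3, 4, 3, 4, 3])))) (BT.node 47 (BT.node 46 (BT.leaf (4, [5, 4, 5, 4], [4, 5, 4, 5])) (BT.leaf (4, [6, 4, 6, 4], [4, 6, 4, 6]))) (BT.leaf (2, [4, 4], [4, 4])))) (BT.node 51 (BT.node 50 (BT.node 49 (BT.leaf (9, [2, 3, 2, 3, 2, 3, 2, 3, 0], [0, 3, 2, 3, 2, 3, 2, 3, 2])) (BT.leaf (5, [5, 6, 5, 6, 0], [0, 6, 5, 6, 5]))) (BT.leaf (20, [5, 2, 1, 0, 5, 2, 1, 0, 5, 2, 1, 0, 5, 2, 1, 0, 5, 2, 1, 0], [0, 1, 2, 5, 0, 1, 2, 5, 0, 1, 2, 5, 0, 1, 2, 5, 0, 1, 2, 5]))) (BT.node 53 (BT.node 52 (BT.leaf (15, [6, 5, 1, 6, 5, 1, 6, 5, 1, 6, 5, 1, 6, 5, 1], [1, 5, 6, 1, 5, 6, 1, 5, 6, 1, 5, 6, 1, 5, 6])) (BT.leaf (78, [4, 3, 2, 3, 2, 1, 3, 2, 3, 2, 1, 3, 2, 3, 2, 1, 3, 2, 3, 2, 1, 3, 2, 3, 2, 1, 4, 3, 2, 3, 2, 1, 3,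 2, 3, 2, 1, 3, 2, 3, 2, 1, 3, 2, 3, 2, 1, 3, 2, 3, 2, 1, 4, 3, 2, 3, 2, 1, 3, 2, 3, 2, 1, 3, 2, 3, 2, 1, 3, 2, 3, 2, 1, 3, 2, 3, 2, 1], [1, 2, 3, 2, 3, 1, 2, 3, 2, 3, 1, 2, 3, 2, 3, 1, 2, 3, 2, 3, 1, 2, 3, 2, 3, 4, 1, 2, 3, 2, 3, 1, 2, 3, 2, 3, 1, 2, 3, 2, 3, 1, 2, 3, 2, 3, 1, 2, 3, 2, 3, 4, 1, 2, 3, 2, 3, 1, 2, 3, 2, 3, 1, 2, 3, 2, 3, 1, 2, 3, 2, 3, 1, 2, 3, 2, 3, 4]))) (BT.leaf (6, [6, 5, 4, 3, 2, 1], [1, 2, 3, 4, 5, 6])))))))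
/-- subgroup generators -/
def subT : BT (ℕ × List ℕ × List ℕ) := (BT.leaf (0, [], []))
/-- fact chunks -/
def colET : BT ℕ := (BT.node 3 (BT.node 1 (BT.node 0 (BT.leaf cE0) (BT.leaf cE1)) (BT.node 2 (BT.leaf cE2) (BT.leaf cE3))) (BT.node 5 (BT.node 4 (BT.leaf cE4) (BT.leaf cE5)) (BT.node 6 (BT.leaf cE6) (BT.leaf cE7))))
/-- justification chunks -/
def colJT : BT ℕ := (BT.node 3 (BT.node 1 (BT.node 0 (BT.leaf cJ0) (BT.leaf cJ1)) (BT.node 2 (BT.leaf cJ2) (BT.leaf cJ3))) (BT.node 5 (BT.node 4 (BT.leaf cJ4) (BT.leaf cJ5)) (BT.node 6 (BT.leaf cJ6) (BT.leaf cJ7))))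
/-- parent chunks -/
def parCT : BT ℕ := (BT.leaf cP0)
/-- the certificate -/
def data : Data where
  k := 7
  N := 65
  W := 15
  MW := 32768
  B := 128
  CH := 512
  NCH := 1
  colE := colET
  JW := 64
  MJ := 18446744073709551616
  A := 1048576
  colJ := colJT
  PW := 16
  MP := 65536
  parC := parCT
  inv := (BT.node 3 (BT.node 1 (BT.node 0 (BT.leaf 0) (BT.leaf 1)) (BT.node 2 (BT.leaf 2) (BT.leaf 3))) (BT.node 5 (BT.node 4 (BT.leaf 4) (BT.leaf 5)) (BT.node 6 (BT.leaf 6) (BT.leaf 7))))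
  rel := relT
  sub := subT
  fuel := 64

end Cfsg.Agent.Lib.Helper28.TCSuzWCData
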