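import Cfsg.Prelude.Def_SporCoxeter
import Cfsg.Prelude.Def_Spor_Suz
set_option autoImplicit false

namespace Cfsg.Agent.Lib.Helper28.TCSuzWCDef

/-- the generators -/
abbrev Gen : Type := Cfsg.Spor.Suz.Gen

/-- the Coxeter graph -/
def edges : List (Gen × ℕ × Gen) := Cfsg.Spor.Suz.edges

/-- the further relators -/
def extra : List (FreeGroup Gen) := Cfsg.Spor.Suz.extra ++ [
  FreeGroup.mk [(.b, true), (.c, true), (.d, true), (.e, true), (.f, true), (.g, true)] ]

end Cfsg.Agent.Lib.Helper28.TCSuzWCDef
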