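import Cfsg.Agent.Lib.Helper3.Cover.Finite
import Cfsg.Agent.Lib.Helper28.SuzCovDef
import Cfsg.Agent.Lib.Helper28.TCSuzEMain
import Cfsg.Agent.Lib.Helper28.TCSuzF2Hom
import Cfsg.Agent.Lib.Helper28.TCSuzF3Hom
import Cfsg.Agent.Lib.Helper28.G24CovMain
import Cfsg.Agent.Lib.Helper28.TCSuzW0Link
import Cfsg.Agent.S1694

set_option autoImplicit false
set_option maxRecDepth 100000

/-!
# The Schur multiplier of `Suz` is cyclic of order 6

The covering presentation `E` of the presentation of `Suz` (helper3's `CoverData`) has order at most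
`5346 * (2 * |G₂(4)|) = 6 * |Suz|`: the subgroup `⟨a, …, f⟩` of `E` is a quotient of the covering presentation
of the presented `G₂(4)` (of order at most `2 * |G₂(4)|`, `G24CovMain.cardEG`) and has at most 5346 cosets.
The kernel of `E → Suz` contains an element of order divisible by 3 (`E` acts on 5346 points) and an element
of order divisible by 2 (`E` acts on 65520 points: signed permutations of the 32760 cosets of `U₅(2)`).
-/

namespace Cfsg.Agent.Lib.Helper28.SuzCovMain

open Cfsg Cfsg.Agent.Lib.Helper3.Cover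
open Cfsg.Agent.Lib.Helper28.TC2Upper Cfsg.Agent.Lib.Helper28.TC2Lower Cfsg.Agent.Lib.Helper28.TC2Glue
open Cfsg.Agent.Lib.Helper28.TC2Tower Cfsg.Agent.Lib.Helper28.TC2Tower2

/-- the covering data of the presentation of `Suz` -/
abbrev DS : CoverData SuzCovDef.Gen := SuzCovDef.cover

/-! ### the presented group -/

theorem hsub1 : ∀ L ∈ SuzCovDef.R, L ∈ TCSuzW0Link.relWords := by decide +kernel
theorem hsub2 : ∀ L ∈ TCSuzW0Link.relWords, L ∈ SuzCovDef.R := by decide +kernel

theorem relSet_S : relSet SuzCovDef.R = TCSuzW0Link.rels := by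
  ext r
  rw [TCSuzW0Link.link.hrels r]
  constructor
  · rintro ⟨L, hL, rfl⟩; exact ⟨L, hsub1 L hL, rfl⟩
  · rintro ⟨L, hL, rfl⟩; exact ⟨L, hsub2 L hL, rfl⟩

/-- the presented group of the covering data is `Suz` -/
noncomputable def isoPS : DS.P ≃* Cfsg.Spor.Suz :=
  QuotientGroup.quotientMulEquivOfEq (by rw [show relSet DS.R = TCSuzW0Link.rels from relSet_S])

theorem cardPS : Finite DS.P ∧ Nat.card DS.P = 448345497600 := by
  have h := Cfsg.Agent.S1694.result
  haveI : Finite Cfsg.Spor.Suz := Nat.finite_of_card_ne_zero (by rw [h.2]; norm_num)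
  refine ⟨Finite.of_equiv _ isoPS.symm.toEquiv, ?_⟩
  rw [Nat.card_congr isoPS.toEquiv]
  exact h.2

/-! ### the order of the covering group -/

theorem upES : ∀ L ∈ G24CovDef.relWords, upWord SuzCovDef.upG L ∈ SuzCovDef.relWords := by
  decide +kernel

theorem hSES : ∀ s ∈ TCSuzELink.S, ∃ y, s = FreeGroup.of (SuzCovDef.upG y) := by
  intro s hs
  simp only [TCSuzELink.S, Set.mem_insert_iff, Set.mem_singleton_iff] at hs
  rcases hs with rfl | rfl | rfl | rfl | rfl | rfl
  exacts [⟨.a, rfl⟩, ⟨.b, rfl⟩, ⟨.c, rfl⟩, ⟨.d, rfl⟩, ⟨.e, rfl⟩, ⟨.f, rfl⟩]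

section
variable (hJ : Cfsg.HasCyclicSchurMultiplier Cfsg.Spor.J2 2)
include hJ

theorem cardES' : Finite (PresentedGroup TCSuzELink.rels) ∧
    Nat.card (PresentedGroup TCSuzELink.rels) ≤ 5346 * (416 * 1209600) := by
  haveI : Finite (PresentedGroup G24CovMain.DG.relsE) := (G24CovMain.cardEG hJ).1
  have hrel := hrel_of_words TCSuzELink.rels G24CovMain.DG.relsE SuzCovDef.upG TCSuzELink.relWords
    G24CovDef.relWords TCSuzELink.link.hrels (fun _ => Iff.rfl) upES
  obtain ⟨hfin, hle⟩ := card_le_of_subpres TCSuzELink.rels G24CovMain.DG.relsE SuzCovDef.upG hrel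
    TCSuzELink.S hSES
  exact card_le_of_quot _ hfin TCSuzEMain.mainU.1 TCSuzEMain.mainU.2
    (le_trans hle (G24CovMain.cardEG hJ).2)

theorem cardES : Finite DS.E ∧ Nat.card DS.E ≤ 5346 * (416 * 1209600) := cardES' hJ

end

/-! ### the kernel of the projection -/

/-- a kernel element detected by a permutation representation in which it has prime order `q` -/
theorem dvd_card_ker {n : ℕ} (φ : DS.E →* Equiv.Perm (Fin n)) (lw : SuzCovDef.Gen × Bool → ℕ) (T : Table)
    (h0 : 0 < n)
    (hφ : ∀ (L : List (SuzCovDef.Gen × Bool)) (p : Fin n),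
      (φ (PresentedGroup.mk DS.relsE (FreeGroup.mk L)) p).val = T.walkT (pathOf lw L) p.val)
    (rz : List (SuzCovDef.Gen × Bool)) (hrz : rz ∈ DS.R) (q : ℕ) [hq : Fact q.Prime] (m : ℕ) (hm : m ≠ 0)
    (hpow : ∀ p, p < n → T.walkT (pathOf lw (List.flatten (List.replicate q rz))) p = p)
    (hmove : T.walkT (pathOf lw rz) 0 = m) [Finite DS.proj.ker] :
    q ∣ Nat.card DS.proj.ker := by
  set z : DS.E := PresentedGroup.mk DS.relsE (FreeGroup.mk rz) with hz
  have hzker : z ∈ DS.proj.ker := by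
    rw [MonoidHom.mem_ker, hz, DS.proj_mk]
    exact PresentedGroup.one_of_mem ⟨rz, hrz, rfl⟩
  have h1 : φ z ≠ 1 := by
    intro h
    have h2 := hφ rz ⟨0, h0⟩
    rw [← hz, h, hmove] at h2
    exact hm h2.symm
  have h2 : (φ z) ^ q = 1 := by
    rw [← map_pow, hz, ← map_pow, ← mk_flatten_replicate]
    ext p
    rw [hφ, hpow p.val p.2]
    rfl
  have h3 : orderOf (φ z) = q := orderOf_eq_prime h2 h1
  have h4 : q ∣ orderOf z := by
    rw [← h3]
    exact orderOf_map_dvd φ z
  have h5 : orderOf (⟨z, hzker⟩ : DS.proj.ker) = orderOf z := Subgroup.orderOf_mk z hzker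
  exact dvd_trans (h5 ▸ h4) (orderOf_dvd_natCard _)

/-- a commutative group of order 6 is cyclic -/
theorem isCyclic_of_card_six {K : Type*} [Group K] [Finite K] (hc : ∀ a b : K, a * b = b * a)
    (h : Nat.card K = 6) : IsCyclic K := by
  haveI : Fact (Nat.Prime 2) := ⟨Nat.prime_two⟩
  haveI : Fact (Nat.Prime 3) := ⟨Nat.prime_three⟩
  obtain ⟨a, ha⟩ := exists_prime_orderOf_dvd_card' (G := K) 2 (by rw [h]; norm_num)
  obtain ⟨b, hb⟩ := exists_prime_orderOf_dvd_card' (G := K) 3 (by rw [h]; norm_num)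
  have hab : orderOf (a * b) = 6 := by
    have := (show Commute a b from hc a b).orderOf_mul_eq_mul_orderOf_of_coprime
      (by rw [ha, hb]; norm_num)
    rw [this, ha, hb]
  exact isCyclic_of_orderOf_eq_card (a * b) (by rw [hab, h])

section
variable (hJ : Cfsg.HasCyclicSchurMultiplier Cfsg.Spor.J2 2)
include hJ

theorem card_ker : Nat.card DS.proj.ker = 6 := by
  haveI := (cardES hJ).1
  have h1 := DS.card_E
  rw [cardPS.2] at h1
  have h2 := (cardES hJ).2
  have h3 : Nat.card DS.proj.ker ≤ 6 := by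
    rw [h1] at h2
    have h5 : Nat.card ↥DS.proj.ker * 448345497600 ≤ 6 * 448345497600 := by
      calc Nat.card ↥DS.proj.ker * 448345497600 ≤ 5346 * (416 * 1209600) := h2
        _ = 6 * 448345497600 := by norm_num
    exact Nat.le_of_mul_le_mul_right h5 (by norm_num)
  haveI : Fact (Nat.Prime 2) := ⟨Nat.prime_two⟩
  haveI : Fact (Nat.Prime 3) := ⟨Nat.prime_three⟩
  have d2 : 2 ∣ Nat.card DS.proj.ker := by
    obtain ⟨φ, hφ⟩ := TCSuzF2Hom.main
    exact dvd_card_ker φ TCSuzF2Hom.lw TCSuzF2Table.table (by decide) hφ TCSuzF2Hom.rz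
      TCSuzF2Hom.rz_mem 2 1 (by norm_num)
      (by
        have e : List.flatten (List.replicate 2 TCSuzF2Hom.rz) = TCSuzF2Hom.rz ++ TCSuzF2Hom.rz := by
          simp [List.replicate]
        rw [e]; exact TCSuzF2Hom.rz_pow)
      TCSuzF2Hom.rz_move
  have d3 : 3 ∣ Nat.card DS.proj.ker := by
    obtain ⟨φ, hφ⟩ := TCSuzF3Hom.main
    exact dvd_card_ker φ TCSuzF3Hom.lw TCSuzF3Table.table (by decide) hφ TCSuzF3Hom.rz
      TCSuzF3Hom.rz_mem 3 89 (by norm_num)
      (by
        have e : List.flatten (List.replicate 3 TCSuzF3Hom.rz) =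
            TCSuzF3Hom.rz ++ TCSuzF3Hom.rz ++ TCSuzF3Hom.rz := by
          simp [List.replicate]
        rw [e]; exact TCSuzF3Hom.rz_pow)
      TCSuzF3Hom.rz_move
  have d6 : 6 ∣ Nat.card DS.proj.ker :=
    (by norm_num : Nat.Coprime 2 3).mul_dvd_of_dvd_of_dvd d2 d3
  have hpos : 0 < Nat.card DS.proj.ker := Nat.card_pos
  exact le_antisymm h3 (Nat.le_of_dvd hpos d6)

/-- the Schur multiplier of `Suz` is cyclic of order 6 -/
theorem schur_Suz : Cfsg.HasCyclicSchurMultiplier Cfsg.Spor.Suz 6 := by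
  haveI := (cardES hJ).1
  have hc : IsCyclic DS.proj.ker := by
    apply isCyclic_of_card_six _ (card_ker hJ)
    intro a b
    have := DS.ker_proj_le_center b.2
    rw [Subgroup.mem_center_iff] at this
    exact Subtype.ext (this a.1)
  have e : Nat.card DS.proj.ker = Nat.card (Multiplicative (ZMod 6)) := by
    rw [card_ker hJ, Nat.card_eq_fintype_card]; rfl
  exact DS.hasSchurMultiplier isoPS (mulEquivOfCyclicCardEq e)

end

end Cfsg.Agent.Lib.Helper28.SuzCovMain
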