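import Mathlib
import Cfsg.Prelude.Def_Transfer
set_option autoImplicit false

/-!
# Normal elementary abelian subgroups of a Sylow 2-subgroup, from a certificate

Let `S` be a subgroup of Sylow order with a normal elementary abelian subgroup `V` of order `2 ^ m`, and let
`K` be a set with fewer than `2 ^ (m - 1)` elements.  If every element of `S` outside `V` and `K` has a square
different from one or does not commute with one of its conjugates under `S`, then in every Sylow 2-subgroup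
the normal elementary abelian subgroups have order at most `2 ^ m`, and exactly one of them has order `2 ^ m`.
-/

namespace Cfsg.Agent.Lib.Helper28.Syl2Abs

variable {G : Type*} [Group G]

/-- the property certified for the elements outside `V` and `K` -/
def Excl (S : Subgroup G) (x : G) : Prop :=
  x ^ 2 ≠ 1 ∨ ∃ g ∈ S, x * (g * x * g⁻¹) ≠ (g * x * g⁻¹) * x

theorem subset_of_excl (S V : Subgroup G) (K : Set G)
    (hJ : ∀ x ∈ S, x ∉ V → x ∉ K → Excl S x)
    (A : Subgroup G) (hAS : A ≤ S) (hAn : ∀ s ∈ S, ∀ a ∈ A, s * a * s⁻¹ ∈ A)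
    (hAc : ∀ a ∈ A, ∀ b ∈ A, a * b = b * a) (hA2 : ∀ a ∈ A, a ^ 2 = 1) :
    (A : Set G) ⊆ (V : Set G) ∪ K := by
  intro x hx
  by_contra hc
  rw [Set.mem_union, not_or] at hc
  rcases hJ x (hAS hx) hc.1 hc.2 with h | ⟨g, hg, h⟩
  · exact h (hA2 x hx)
  · exact h (hAc x hx _ (hAn g hg x hx))

section Finite
variable [Finite G]

theorem card_le_of_excl (S V : Subgroup G) (K : Set G) (n m : ℕ) (hS : Nat.card S = 2 ^ n)
    (hV : Nat.card V = 2 ^ m) (hK : 2 * K.ncard < 2 ^ m)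
    (hJ : ∀ x ∈ S, x ∉ V → x ∉ K → Excl S x)
    (A : Subgroup G) (hAS : A ≤ S) (hAn : ∀ s ∈ S, ∀ a ∈ A, s * a * s⁻¹ ∈ A)
    (hAc : ∀ a ∈ A, ∀ b ∈ A, a * b = b * a) (hA2 : ∀ a ∈ A, a ^ 2 = 1) :
    Nat.card A ≤ 2 ^ m := by
  have hsub := subset_of_excl S V K hJ A hAS hAn hAc hA2
  have hdvd : Nat.card A ∣ 2 ^ n := by
    rw [← hS]; exact Subgroup.card_dvd_of_le hAS
  obtain ⟨k, _, hk⟩ := (Nat.dvd_prime_pow Nat.prime_two).mp hdvd
  have h1 : Nat.card A = (A : Set G).ncard := (Nat.card_coe_set_eq (A : Set G)).symm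
  have h2 : Nat.card V = (V : Set G).ncard := (Nat.card_coe_set_eq (V : Set G)).symm
  have h3 : (A : Set G).ncard ≤ ((V : Set G) ∪ K).ncard := Set.ncard_le_ncard hsub (Set.toFinite _)
  have h4 := Set.ncard_union_le (V : Set G) K
  have h5 : 2 ^ k < 2 ^ (m + 1) := by
    rw [pow_succ]
    omega
  have h6 : k < m + 1 := (Nat.pow_lt_pow_iff_right (by norm_num)).mp h5
  rw [hk]
  exact Nat.pow_le_pow_right (by norm_num) (by omega)

theorem eq_of_excl (S V : Subgroup G) (K : Set G) (n m : ℕ) (hS : Nat.card S = 2 ^ n)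
    (hV : Nat.card V = 2 ^ m) (hK : 2 * K.ncard < 2 ^ m)
    (hJ : ∀ x ∈ S, x ∉ V → x ∉ K → Excl S x)
    (A : Subgroup G) (hAS : A ≤ S) (hAn : ∀ s ∈ S, ∀ a ∈ A, s * a * s⁻¹ ∈ A)
    (hAc : ∀ a ∈ A, ∀ b ∈ A, a * b = b * a) (hA2 : ∀ a ∈ A, a ^ 2 = 1)
    (hA : Nat.card A = 2 ^ m) : A = V := by
  have hsub := subset_of_excl S V K hJ A hAS hAn hAc hA2
  have hsub' : (A : Set G) ⊆ ((A ⊓ V : Subgroup G) : Set G) ∪ K := by
    intro x hx
    rcases hsub hx with h | h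
    · exact Or.inl ⟨hx, h⟩
    · exact Or.inr h
  have h1 : Nat.card A = (A : Set G).ncard := (Nat.card_coe_set_eq (A : Set G)).symm
  have h2 : Nat.card (A ⊓ V : Subgroup G) = ((A ⊓ V : Subgroup G) : Set G).ncard :=
    (Nat.card_coe_set_eq ((A ⊓ V : Subgroup G) : Set G)).symm
  have h3 : (A : Set G).ncard ≤ (((A ⊓ V : Subgroup G) : Set G) ∪ K).ncard :=
    Set.ncard_le_ncard hsub' (Set.toFinite _)
  have h4 := Set.ncard_union_le ((A ⊓ V : Subgroup G) : Set G) K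
  have hdvd : Nat.card (A ⊓ V : Subgroup G) ∣ 2 ^ m := by
    rw [← hV]; exact Subgroup.card_dvd_of_le inf_le_right
  obtain ⟨j, hj, hjk⟩ := (Nat.dvd_prime_pow Nat.prime_two).mp hdvd
  have h5 : 2 ^ m < 2 ^ (j + 1) := by
    rw [pow_succ]
    omega
  have h6 : m < j + 1 := (Nat.pow_lt_pow_iff_right (by norm_num)).mp h5
  have hjm : j = m := by omega
  have hAV : A ⊓ V = V := by
    apply Subgroup.eq_of_le_of_card_ge inf_le_right
    rw [hjk, hV, hjm]
  have hVA : V ≤ A := by rw [← hAV]; exact inf_le_left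
  exact (Subgroup.eq_of_le_of_card_ge hVA (by rw [hA, hV])).symm

/-- the statement for every Sylow 2-subgroup -/
theorem main (S V : Subgroup G) (K : Set G) (n m : ℕ) (hS : Nat.card S = 2 ^ n)
    (hGS : (Nat.card G).factorization 2 = n) (hVS : V ≤ S)
    (hV : Nat.card V = 2 ^ m) (hVc : ∀ a ∈ V, ∀ b ∈ V, a * b = b * a) (hV2 : ∀ a ∈ V, a ^ 2 = 1)
    (hVn : ∀ s ∈ S, ∀ v ∈ V, s * v * s⁻¹ ∈ V) (hK : 2 * K.ncard < 2 ^ m)
    (hJ : ∀ x ∈ S, x ∉ V → x ∉ K → Excl S x) (T : Sylow 2 G) :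
    (∀ A : Subgroup G, A ≤ T → (A.subgroupOf T).Normal → Cfsg.IsElementaryAbelian 2 A →
        Nat.card A ≤ 2 ^ m) ∧
    ∃! A : Subgroup G, A ≤ T ∧ (A.subgroupOf T).Normal ∧ Cfsg.IsElementaryAbelian 2 A ∧
        Nat.card A = 2 ^ m := by
  haveI : Fact (Nat.Prime 2) := ⟨Nat.prime_two⟩
  let S' : Sylow 2 G := Sylow.ofCard S (by rw [hS, hGS])
  obtain ⟨γ, hγ⟩ := MulAction.exists_smul_eq G S' T
  let α : G ≃* G := MulAut.conj γ
  have hα : ∀ x, α x = γ * x * γ⁻¹ := fun x => rfl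
  have hT : ∀ x, x ∈ (T : Subgroup G) ↔ ∃ s ∈ S, α s = x := by
    intro x
    rw [← hγ, Sylow.coe_subgroup_smul]
    exact Subgroup.mem_smul_pointwise_iff_exists x (MulAut.conj γ) S
  -- pulling a subgroup of `T` back to `S`
  have pull : ∀ A : Subgroup G, A ≤ T → (A.subgroupOf T).Normal → Cfsg.IsElementaryAbelian 2 A →
      ∃ A' : Subgroup G, (∀ x, x ∈ A' ↔ α x ∈ A) ∧ Nat.card A' = Nat.card A ∧ A' ≤ S ∧
        (∀ s ∈ S, ∀ a ∈ A', s * a * s⁻¹ ∈ A') ∧ (∀ a ∈ A', ∀ b ∈ A', a * b = b * a) ∧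
        (∀ a ∈ A', a ^ 2 = 1) := by
    intro A hAT hAn hAe
    have hmem : ∀ x, x ∈ A.map α.symm.toMonoidHom ↔ α x ∈ A := by
      intro x
      rw [Subgroup.mem_map_equiv]
      rfl
    refine ⟨A.map α.symm.toMonoidHom, hmem, ?_, ?_, ?_, ?_, ?_⟩
    · exact Nat.card_congr (α.symm.subgroupMap A).toEquiv.symm
    · intro x hx
      obtain ⟨s, hs, hsx⟩ := (hT _).mp (hAT ((hmem x).mp hx))
      rw [← α.injective hsx]; exact hs
    · intro s hs a ha
      rw [hmem] at ha ⊢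
      have hsT : α s ∈ (T : Subgroup G) := (hT _).mpr ⟨s, hs, rfl⟩
      have haT : α a ∈ (T : Subgroup G) := hAT ha
      have := hAn.conj_mem ⟨α a, haT⟩ (Subgroup.mem_subgroupOf.mpr ha) ⟨α s, hsT⟩
      rw [Subgroup.mem_subgroupOf] at this
      simpa only [map_mul, map_inv, Subgroup.coe_mul, Subgroup.coe_inv] using this
    · intro a ha b hb
      rw [hmem] at ha hb
      have hcomm := hAe.1.is_comm.comm (⟨α a, ha⟩ : A) ⟨α b, hb⟩
      have h1 := congrArg Subtype.val hcomm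
      simp only [Subgroup.coe_mul] at h1
      apply α.injective
      rw [map_mul, map_mul]; exact h1
    · intro a ha
      rw [hmem] at ha
      apply α.injective
      rw [map_pow, map_one]; exact hAe.2 _ ha
  constructor
  · intro A hAT hAn hAe
    obtain ⟨A', _, hcard, hA'S, hA'n, hA'c, hA'2⟩ := pull A hAT hAn hAe
    rw [← hcard]
    exact card_le_of_excl S V K n m hS hV hK hJ A' hA'S hA'n hA'c hA'2
  · refine ⟨V.map α.toMonoidHom, ⟨?_, ?_, ⟨?_, ?_⟩, ?_⟩, ?_⟩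
    · rintro x ⟨v, hv, rfl⟩
      exact (hT _).mpr ⟨v, hVS hv, rfl⟩
    · refine ⟨fun a ha t => ?_⟩
      rw [Subgroup.mem_subgroupOf] at ha ⊢
      obtain ⟨v, hv, hva⟩ := ha
      obtain ⟨s, hs, hst⟩ := (hT _).mp t.2
      refine ⟨s * v * s⁻¹, hVn s hs v hv, ?_⟩
      show α (s * v * s⁻¹) = ((t * a * t⁻¹ : (T : Subgroup G)) : G)
      have hva' : α v = (a : G) := hva
      rw [map_mul, map_mul, map_inv, hst, hva']
      simp only [Subgroup.coe_mul, Subgroup.coe_inv]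
    · refine ⟨⟨fun a b => ?_⟩⟩
      obtain ⟨a, va, hva, rfl⟩ := a
      obtain ⟨b, vb, hvb, rfl⟩ := b
      apply Subtype.ext
      show α.toMonoidHom va * α.toMonoidHom vb = α.toMonoidHom vb * α.toMonoidHom va
      rw [← map_mul, ← map_mul, hVc va hva vb hvb]
    · rintro a ⟨v, hv, rfl⟩
      show (α v) ^ 2 = 1
      rw [← map_pow, hV2 v hv, map_one]
    · rw [← hV]
      exact Nat.card_congr (α.subgroupMap V).toEquiv.symm
    · rintro A ⟨hAT, hAn, hAe, hAcard⟩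
      obtain ⟨A', hmem, hcard, hA'S, hA'n, hA'c, hA'2⟩ := pull A hAT hAn hAe
      have hA'V : A' = V := eq_of_excl S V K n m hS hV hK hJ A' hA'S hA'n hA'c hA'2 (by rw [hcard, hAcard])
      ext x
      constructor
      · intro hx
        obtain ⟨s, _, hsx⟩ := (hT _).mp (hAT hx)
        refine ⟨s, ?_, hsx⟩
        show s ∈ V
        rw [← hA'V, hmem, hsx]; exact hx
      · rintro ⟨v, hv, rfl⟩
        have : v ∈ A' := by rw [hA'V]; exact hv
        exact (hmem v).mp this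

end Finite

end Cfsg.Agent.Lib.Helper28.Syl2Abs
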