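import Cfsg.Agent.Lib.Helper28.TC2Bsgs
set_option autoImplicit false

/-!
# Chains of stabilisers with generators given by paths

The generators of the levels of a stabiliser chain are paths in the letters of the coset table itself (no derived
letters are tabulated); an exact order then makes the pointwise stabiliser of the base trivial.
-/

namespace Cfsg.Agent.Lib.Helper28.TC2BsgsW
open Cfsg.Agent.Lib.Helper28.TC2Upper Cfsg.Agent.Lib.Helper28.TC2Lower Cfsg.Agent.Lib.Helper28.TC2Orbit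
open Cfsg.Agent.Lib.Helper28.TC2Range Cfsg.Agent.Lib.Helper28.TC2Bsgs

section Level
variable {T : Table} (hT : T.OK)

/-- one level of a chain: the generators are paths fixing the earlier base points -/
theorem level_boundW (Γ : Subgroup (Equiv.Perm (Fin T.n))) (bs : List (Fin T.n)) (A : List (List ℕ))
    (O : TC2Orbit.OrbData) (c : ℕ) (hr : O.roots.look c < T.n)
    (hΓ : ∀ l, l < T.k → Table.sigma hT l ∈ Γ)
    (hA : ∀ w ∈ A, (∀ l ∈ w, l < T.k) ∧ ∀ q ∈ bs, T.walkT w q.val = q.val)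
    (hgens : BT.All (fun s => s ∈ A) O.gens)
    (hconn : ∀ p, p < T.n → O.oid p = c →
      (O.depth p = 0 ∧ O.roots.look c = p) ∨
      (O.depth p ≠ 0 ∧ O.parent p < T.n ∧ O.oid (O.parent p) = c ∧
        O.depth (O.parent p) + 1 = O.depth p ∧ T.walkT (O.gens.look (O.gen p)) (O.parent p) = p)) :
    O.count T.n c * Nat.card (pstab Γ ((⟨O.roots.look c, hr⟩ : Fin T.n) :: bs)) ≤ Nat.card (pstab Γ bs) := by
  have hlt : ∀ s ∈ A, ∀ l ∈ s, l < T.k := fun s hs => (hA s hs).1
  have hΛ : permGroup hT A ≤ pstab Γ bs := by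
    unfold permGroup
    rw [Subgroup.closure_le]
    rintro π ⟨s, hs, rfl⟩
    rw [SetLike.mem_coe, mem_pstab]
    refine ⟨pathProd_mem Γ _ s (fun l hl => hΓ l (hlt s hs l hl)), fun q hq => ?_⟩
    apply Fin.ext
    rw [Table.pathProd_sigma_apply hT s (hlt s hs)]
    exact (hA s hs).2 q hq
  rw [← ncard_class O T.n c]
  apply step_le Γ bs _ _ hΛ
  intro q hq
  exact mem_orbit_root_c hT c hlt hgens hconn hr q hq

/-- one level of a chain, with base points and sizes as numerals -/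
theorem level_boundWN (Γ : Subgroup (Equiv.Perm (Fin T.n))) (bs : List ℕ) (A : List (List ℕ))
    (O : TC2Orbit.OrbData) (c b s : ℕ) (hb : O.roots.look c = b) (hr : b < T.n) (hcnt : O.count T.n c = s)
    (hΓ : ∀ l, l < T.k → Table.sigma hT l ∈ Γ)
    (hA : ∀ w ∈ A, (∀ l ∈ w, l < T.k) ∧ ∀ q ∈ bs, T.walkT w q = q)
    (hgens : BT.All (fun s => s ∈ A) O.gens)
    (hconn : ∀ p, p < T.n → O.oid p = c →
      (O.depth p = 0 ∧ O.roots.look c = p) ∨
      (O.depth p ≠ 0 ∧ O.parent p < T.n ∧ O.oid (O.parent p) = c ∧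
        O.depth (O.parent p) + 1 = O.depth p ∧ T.walkT (O.gens.look (O.gen p)) (O.parent p) = p)) :
    s * Nat.card (pstab Γ (toFin T.n (b :: bs))) ≤ Nat.card (pstab Γ (toFin T.n bs)) := by
  subst hb
  subst hcnt
  rw [toFin_cons hr]
  apply level_boundW hT Γ (toFin T.n bs) A O c hr hΓ _ hgens hconn
  intro w hw
  exact ⟨(hA w hw).1, fun q hq => (hA w hw).2 q.val (val_mem_of_mem_toFin hq)⟩

end Level

section Rigid
variable {X : Type*} [Finite X]

/-- with the exact order, the pointwise stabiliser of the base is trivial -/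
theorem pstab_eq_bot (Γ : Subgroup (Equiv.Perm X)) (bs : List X) (E : ℕ) (hE : 0 < E)
    (h1 : E * Nat.card (pstab Γ bs) ≤ Nat.card Γ) (h2 : Nat.card Γ ≤ E) : pstab Γ bs = ⊥ := by
  have hpos : 0 < Nat.card (pstab Γ bs) := Nat.card_pos
  have hle : Nat.card (pstab Γ bs) ≤ 1 := by
    by_contra hcon
    rw [not_le] at hcon
    have : E * 2 ≤ E * Nat.card (pstab Γ bs) := Nat.mul_le_mul_left E hcon
    omega
  rw [Subgroup.eq_bot_iff_card]
  omega

/-- an element of the group fixing the base is the identity -/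
theorem eq_one_of_fix (Γ : Subgroup (Equiv.Perm X)) (bs : List X) (E : ℕ) (hE : 0 < E)
    (h1 : E * Nat.card (pstab Γ bs) ≤ Nat.card Γ) (h2 : Nat.card Γ ≤ E)
    (π : Equiv.Perm X) (hπ : π ∈ Γ) (hfix : ∀ b ∈ bs, π b = b) : π = 1 := by
  have hmem : π ∈ pstab Γ bs := (mem_pstab Γ bs π).mpr ⟨hπ, hfix⟩
  rw [pstab_eq_bot Γ bs E hE h1 h2, Subgroup.mem_bot] at hmem
  exact hmem

end Rigid

end Cfsg.Agent.Lib.Helper28.TC2BsgsW
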