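import Cfsg.Agent.Lib.Helper28.TC2Glue
set_option autoImplicit false

/-!
# Permutation representations of presented groups from tables

A table of mutually inverse maps on `[0, n)` all of whose relator paths are closed gives a
homomorphism from the presented group to the symmetric group (no coset enumeration certificate).
-/

namespace Cfsg.Agent.Lib.Helper28.TC2Hom

open Cfsg.Agent.Lib.Helper28.TC2Upper Cfsg.Agent.Lib.Helper28.TC2Lower Cfsg.Agent.Lib.Helper28.TC2Glue

variable {α : Type}

/-- the homomorphism given by a table, with its values on words -/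
theorem hom_of_table (rels : Set (FreeGroup α)) (relWords : List (List (α × Bool)))
    (hrels : ∀ r, r ∈ rels → ∃ L ∈ relWords, r = FreeGroup.mk L)
    (lw : α × Bool → ℕ) (T : Table) (hT : T.OK)
    (lwk : ∀ xb, lw xb < T.k) (lwinv : ∀ x, lw (x, false) = T.invl (lw (x, true)))
    (hrelT : ∀ L ∈ relWords, ∀ p, p < T.n → T.walkT (pathOf lw L) p = p) :
    ∃ φ : PresentedGroup rels →* Equiv.Perm (Fin T.n),
      ∀ (L : List (α × Bool)) (p : Fin T.n),
        (φ (PresentedGroup.mk rels (FreeGroup.mk L)) p).val = T.walkT (pathOf lw L) p.val := by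
  have hσ : ∀ x b, Table.sigma hT (lw (x, b)) =
      cond b (Table.sigma hT (lw (x, true))) (Table.sigma hT (lw (x, true)))⁻¹ := by
    intro x b
    cases b with
    | true => rfl
    | false =>
      show Table.sigma hT (lw (x, false)) = (Table.sigma hT (lw (x, true)))⁻¹
      rw [lwinv, Table.sigma_inv hT (lwk _)]
  have hlt : ∀ L : List (α × Bool), ∀ l ∈ pathOf lw L, l < T.k := by
    intro L l hl
    unfold pathOf at hl
    rw [List.mem_reverse, List.mem_map] at hl
    obtain ⟨xb, _, rfl⟩ := hl
    exact lwk _
  have hlift : ∀ L : List (α × Bool), FreeGroup.lift (fun x => Table.sigma hT (lw (x, true))) (FreeGroup.mk L) =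
      pathProd (Table.sigma hT) (pathOf lw L) :=
    fun L => lift_mk_eq_pathProd _ lw _ hσ L
  have hr : ∀ r ∈ rels, FreeGroup.lift (fun x => Table.sigma hT (lw (x, true))) r = 1 := by
    intro r hr
    obtain ⟨L, hLm, rfl⟩ := hrels r hr
    rw [hlift]
    exact Table.pathProd_sigma_eq_one hT _ (hlt L) (hrelT L hLm)
  refine ⟨PresentedGroup.toGroup hr, ?_⟩
  intro L p
  have h2 : PresentedGroup.toGroup hr (PresentedGroup.mk rels (FreeGroup.mk L)) =
      pathProd (Table.sigma hT) (pathOf lw L) := by
    rw [← hlift]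
    rfl
  rw [h2, Table.pathProd_sigma_apply hT _ (hlt L)]

end Cfsg.Agent.Lib.Helper28.TC2Hom
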