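import Cfsg.Agent.Lib.Helper28.TC2Hom
import Cfsg.Agent.Lib.Helper3.Cover.Basic
set_option autoImplicit false

/-!
# Permutation representations of covering presentations from tables

For a covering presentation `E = ⟨α | [r, x], nrm x⟩` it is enough to check on the table that every relator
`r` of the group, multiplied by one of a few "central" words `c`, is closed, that the commutator words
`[c, x]` are closed, and that the normalising words are closed.
-/

namespace Cfsg.Agent.Lib.Helper28.TC2HomC

open Cfsg.Agent.Lib.Helper28.TC2Upper Cfsg.Agent.Lib.Helper28.TC2Lower Cfsg.Agent.Lib.Helper28.TC2Glue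
open Cfsg.Agent.Lib.Helper3.Cover
open scoped commutatorElement

variable {α : Type} [DecidableEq α] [Fintype α]

/-- the homomorphism from a covering group given by a table -/
theorem hom_of_central_table (D : CoverData α)
    (lw : α × Bool → ℕ) (T : Table) (hT : T.OK)
    (lwk : ∀ xb, lw xb < T.k) (lwinv : ∀ x, lw (x, false) = T.invl (lw (x, true)))
    (C : List (List (α × Bool))) (chk : List (List ℕ))
    (hchk : ∀ P ∈ chk, ∀ p, p < T.n → T.walkT P p = p)
    (hC : ∀ c ∈ C, ∀ x ∈ D.gens, pathOf lw (commWord c x) ∈ chk)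
    (hR : ∀ r ∈ D.R, ∃ c ∈ C, pathOf lw (r ++ c) ∈ chk)
    (hN : ∀ L ∈ D.norms, pathOf lw L ∈ chk) :
    ∃ φ : D.E →* Equiv.Perm (Fin T.n),
      ∀ (L : List (α × Bool)) (p : Fin T.n),
        (φ (PresentedGroup.mk D.relsE (FreeGroup.mk L)) p).val = T.walkT (pathOf lw L) p.val := by
  have hσ : ∀ x b, Table.sigma hT (lw (x, b)) =
      cond b (Table.sigma hT (lw (x, true))) (Table.sigma hT (lw (x, true)))⁻¹ := by
    intro x b
    cases b with
    | true => rfl
    | false =>
      show Table.sigma hT (lw (x, false)) = (Table.sigma hT (lw (x, true)))⁻¹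
      rw [lwinv, Table.sigma_inv hT (lwk _)]
  have hlt : ∀ L : List (α × Bool), ∀ l ∈ pathOf lw L, l < T.k := by
    intro L l hl
    unfold pathOf at hl
    rw [List.mem_reverse, List.mem_map] at hl
    obtain ⟨xb, _, rfl⟩ := hl
    exact lwk _
  let F : FreeGroup α →* Equiv.Perm (Fin T.n) := FreeGroup.lift (fun x => Table.sigma hT (lw (x, true)))
  have hlift : ∀ L : List (α × Bool), F (FreeGroup.mk L) = pathProd (Table.sigma hT) (pathOf lw L) :=
    fun L => lift_mk_eq_pathProd _ lw _ hσ L
  have hclosed : ∀ L : List (α × Bool), pathOf lw L ∈ chk → F (FreeGroup.mk L) = 1 := by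
    intro L hL
    rw [hlift]
    exact Table.pathProd_sigma_eq_one hT _ (hlt L) (hchk _ hL)
  have hr : ∀ w ∈ D.relsE, F w = 1 := by
    intro w hw
    rcases D.mem_relsE hw with ⟨r, hr, x, rfl⟩ | ⟨x, rfl⟩
    · obtain ⟨c, hc, hrc⟩ := hR r hr
      have h1 : F (FreeGroup.mk r) * F (FreeGroup.mk c) = 1 := by
        rw [← map_mul, FreeGroup.mul_mk]
        exact hclosed _ hrc
      have h2 : ⁅F (FreeGroup.mk c), F (FreeGroup.of x)⁆ = 1 := by
        rw [← map_commutatorElement, ← mk_commWord]
        exact hclosed _ (hC c hc x (D.hgens x))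
      have h3 : F (FreeGroup.mk r) = (F (FreeGroup.mk c))⁻¹ := eq_inv_of_mul_eq_one_left h1
      rw [map_commutatorElement, h3, commutatorElement_eq_one_iff_mul_comm]
      rw [commutatorElement_eq_one_iff_mul_comm] at h2
      have h4 : Commute (F (FreeGroup.mk c)) (F (FreeGroup.of x)) := h2
      exact h4.inv_left.eq
    · exact hclosed _ (hN _ (D.hnorms x))
  refine ⟨PresentedGroup.toGroup hr, ?_⟩
  intro L p
  have h2 : PresentedGroup.toGroup hr (PresentedGroup.mk D.relsE (FreeGroup.mk L)) =
      pathProd (Table.sigma hT) (pathOf lw L) := by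
    rw [← hlift]
    rfl
  rw [h2, Table.pathProd_sigma_apply hT _ (hlt L)]

end Cfsg.Agent.Lib.Helper28.TC2HomC
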