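import Cfsg.Agent.Lib.Helper28.TC2Simple
set_option autoImplicit false

/-!
# Maximality of a subgroup from the suborbits of a coset action (any rank)
-/

namespace Cfsg.Agent.Lib.Helper28.TC2Simple2
open Cfsg.Agent.Lib.Helper28.TC2Upper Cfsg.Agent.Lib.Helper28.TC2Lower Cfsg.Agent.Lib.Helper28.TC2Glue
open Cfsg.Agent.Lib.Helper28.TC2Orbit Cfsg.Agent.Lib.Helper28.TC2GlueOrb Cfsg.Agent.Lib.Helper28.TC2Simple

section Steps
variable {G : Type*} [Group G]

/-- maximality of a subgroup: every nontrivial suborbit leads in one step to the suborbit of an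
element generating the group together with the subgroup -/
theorem max_of_steps (H : Subgroup G) {n : ℕ} (φ : G →* Equiv.Perm (Fin n))
    (f : G ⧸ H → Fin n) (hf : Function.Injective f) (hequiv : ∀ g q, f (g • q) = φ g (f q))
    (cls : Fin n → ℕ)
    (horb : ∀ p q, cls p = cls q → ∃ π ∈ H.map φ, π p = q)
    (g0 : G) (c1 m : ℕ)
    (hcls : ∀ x : G, x ∉ H → cls (f (QuotientGroup.mk x)) ≠ 0 ∧ cls (f (QuotientGroup.mk x)) < m)
    (hg0 : cls (f (QuotientGroup.mk g0)) = c1)
    (hstep : ∀ c, c ≠ 0 → c < m → c ≠ c1 → ∃ y h : G, h ∈ H ∧ cls (f (QuotientGroup.mk y)) = c ∧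
      cls (f (QuotientGroup.mk (y * h * y))) = c1)
    (hgen : ∀ K : Subgroup G, H ≤ K → g0 ∈ K → K = ⊤) :
    ∀ K : Subgroup G, H ≤ K → K = H ∨ K = ⊤ := by
  intro K hHK
  by_cases hK : K ≤ H
  · exact Or.inl (le_antisymm hK hHK)
  · right
    obtain ⟨x, hxK, hxH⟩ := SetLike.not_le_iff_exists.mp hK
    apply hgen K hHK
    obtain ⟨hne, hlt⟩ := hcls x hxH
    by_cases h1 : cls (f (QuotientGroup.mk x)) = c1
    · exact mem_of_same_orbit H K hHK φ f hf hequiv hxK (horb _ _ (h1.trans hg0.symm))
    · obtain ⟨y, h, hh, hy, hz⟩ := hstep _ hne hlt h1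
      have hyK : y ∈ K := mem_of_same_orbit H K hHK φ f hf hequiv hxK (horb _ _ hy.symm)
      have hzK : y * h * y ∈ K := K.mul_mem (K.mul_mem hyK (hHK hh)) hyK
      exact mem_of_same_orbit H K hHK φ f hf hequiv hzK (horb _ _ (hz.trans hg0.symm))

/-- the class of a coset other than the subgroup itself -/
theorem cls_of_not_mem' (H : Subgroup G) {n : ℕ} (hn : 0 < n)
    (f : G ⧸ H → Fin n) (hf : Function.Injective f) (h0 : f (QuotientGroup.mk 1) = ⟨0, hn⟩)
    (O : OrbData) (m : ℕ) (hlt : ∀ p, p < n → O.oid p < m) (h00 : O.oid 0 = 0) (hc : O.count n 0 = 1)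
    (x : G) (hx : x ∉ H) :
    O.oid (f (QuotientGroup.mk x)).val ≠ 0 ∧ O.oid (f (QuotientGroup.mk x)).val < m := by
  refine ⟨?_, hlt _ (f (QuotientGroup.mk x)).2⟩
  intro e
  have := eq_zero_of_oid O hn 0 h00 hc _ e
  rw [← h0] at this
  have e2 := hf this
  rw [QuotientGroup.eq, mul_one] at e2
  exact hx (by simpa using H.inv_mem e2)

end Steps

section Words
variable {α : Type}

/-- a word in the letters of a list of generators lies in the subgroup they generate -/
theorem mk_mem_closure (S : Set (FreeGroup α)) (gl : List α) (hS : ∀ x ∈ gl, FreeGroup.of x ∈ S)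
    (L : List (α × Bool)) (h : ∀ xb ∈ L, xb.1 ∈ gl) : FreeGroup.mk L ∈ Subgroup.closure S := by
  induction L with
  | nil => exact Subgroup.one_mem _
  | cons xb L ih =>
    have e : FreeGroup.mk (xb :: L) = FreeGroup.mk [xb] * FreeGroup.mk L := by
      rw [FreeGroup.mul_mk]; rfl
    rw [e]
    apply Subgroup.mul_mem _ _ (ih fun y hy => h y (List.mem_cons_of_mem _ hy))
    obtain ⟨x, b⟩ := xb
    have hx : FreeGroup.of x ∈ Subgroup.closure S :=
      Subgroup.subset_closure (hS x (h (x, b) List.mem_cons_self))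
    cases b with
    | true => exact hx
    | false =>
      have : FreeGroup.mk [(x, false)] = (FreeGroup.of x)⁻¹ := rfl
      rw [this]
      exact Subgroup.inv_mem _ hx

/-- a product of subgroup generator words lies in the subgroup they generate -/
theorem mk_flatten_mem_closure (S : Set (FreeGroup α)) (subWords : List (List (α × Bool)))
    (hS : ∀ L ∈ subWords, FreeGroup.mk L ∈ S) (Ls : List (List (α × Bool)))
    (h : ∀ L ∈ Ls, L ∈ subWords) : FreeGroup.mk Ls.flatten ∈ Subgroup.closure S := by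
  induction Ls with
  | nil => exact Subgroup.one_mem _
  | cons L Ls ih =>
    rw [List.flatten_cons, ← FreeGroup.mul_mk]
    exact Subgroup.mul_mem _ (Subgroup.subset_closure (hS L (h L List.mem_cons_self)))
      (ih fun M hM => h M (List.mem_cons_of_mem _ hM))

end Words

end Cfsg.Agent.Lib.Helper28.TC2Simple2
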