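import Cfsg.Agent.Lib.Helper28.TC2Transp
set_option autoImplicit false

/-!
# The centraliser of an involution from a rank 3 action

If `H` centralises `z`, acts with rank 3 on its cosets, and a representative of each of the two nontrivial double
cosets does not centralise `z`, then `H` is the centraliser of `z`.
-/

namespace Cfsg.Agent.Lib.Helper28.TC2Transp2

variable {G : Type*} [Group G]

theorem centralizer_eq_of_rank3 (H : Subgroup G) {n : ℕ} (φ : G →* Equiv.Perm (Fin n))
    (f : G ⧸ H → Fin n) (hf : Function.Injective f) (hequiv : ∀ g q, f (g • q) = φ g (f q))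
    (cls : Fin n → ℕ)
    (horb : ∀ p q, cls p = cls q → ∃ π ∈ H.map φ, π p = q)
    (z : G) (hzH : ∀ h ∈ H, h * z = z * h)
    (y1 y2 : G) (c1 c2 : ℕ)
    (hcls : ∀ x : G, x ∉ H → cls (f (QuotientGroup.mk x)) = c1 ∨ cls (f (QuotientGroup.mk x)) = c2)
    (hy1 : cls (f (QuotientGroup.mk y1)) = c1) (hy2 : cls (f (QuotientGroup.mk y2)) = c2)
    (h1 : y1 * z * y1⁻¹ ≠ z) (h2 : y2 * z * y2⁻¹ ≠ z) :
    Subgroup.centralizer {z} = H := by
  apply le_antisymm
  · intro g hg
    rw [Subgroup.mem_centralizer_iff] at hg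
    have hgz : g * z * g⁻¹ = z := by rw [← hg z rfl]; group
    by_contra hgH
    have key : ∀ y : G, cls (f (QuotientGroup.mk y)) = cls (f (QuotientGroup.mk g)) →
        y * z * y⁻¹ = z := by
      intro y hy
      obtain ⟨π, ⟨h0, hh0, rfl⟩, hπ⟩ := horb _ _ hy
      rw [← hequiv] at hπ
      have e' : (QuotientGroup.mk (h0 * y) : G ⧸ H) = QuotientGroup.mk g := hf hπ
      rw [QuotientGroup.eq] at e'
      set k := (h0 * y)⁻¹ * g with hk
      have hg' : g = h0 * y * k := by rw [hk]; group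
      have hkz : k * z * k⁻¹ = z := by rw [hzH k e']; group
      have hh0z : h0⁻¹ * z * h0 = z := by
        have := hzH h0 hh0
        calc h0⁻¹ * z * h0 = h0⁻¹ * (z * h0) := by group
          _ = h0⁻¹ * (h0 * z) := by rw [this]
          _ = z := by group
      have e1 : g * z * g⁻¹ = h0 * (y * z * y⁻¹) * h0⁻¹ := by
        calc g * z * g⁻¹ = h0 * y * (k * z * k⁻¹) * y⁻¹ * h0⁻¹ := by rw [hg']; group
          _ = h0 * (y * z * y⁻¹) * h0⁻¹ := by rw [hkz]; group
      rw [hgz] at e1
      calc y * z * y⁻¹ = h0⁻¹ * (h0 * (y * z * y⁻¹) * h0⁻¹) * h0 := by group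
        _ = h0⁻¹ * z * h0 := by rw [← e1]
        _ = z := hh0z
    rcases hcls g hgH with h | h
    · exact h1 (key y1 (hy1.trans h.symm))
    · exact h2 (key y2 (hy2.trans h.symm))
  · intro h hh
    rw [Subgroup.mem_centralizer_iff]
    intro y hy
    rw [Set.mem_singleton_iff] at hy
    rw [hy]
    exact (hzH h hh).symm

end Cfsg.Agent.Lib.Helper28.TC2Transp2
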