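import Cfsg.Agent.Lib.Helper28.TC2Upper
import Cfsg.Agent.Lib.Helper28.TCCo3DataC0
import Cfsg.Agent.Lib.Helper28.TCCo3DataC1
import Cfsg.Agent.Lib.Helper28.TCCo3DataC2
import Cfsg.Agent.Lib.Helper28.TCCo3DataC3
set_option autoImplicit false
set_option maxRecDepth 100000

namespace Cfsg.Agent.Lib.Helper28.TCCo3Data
open Cfsg.Agent.Lib.Helper28.TC2Upper

/-- relators -/
def relT : BT (ℕ × List ℕ × List ℕ) := (BT.node 36 (BT.node 18 (BT.node 9 (BT.node 4 (BT.node 2 (BT.node 1 (BT.node 0 (BT.leaf (2, [0, 0], [1, 1])) (BT.leaf (4, [2, 2, 2, 2], [3, 3, 3, 3]))) (BT.leaf (22, [2, 0, 2, 0, 2, 0, 2, 0, 2, 0, 2, 0, 2, 0, 2, 0, 2, 0, 2, 0, 2, 0], [1, 3, 1, 3, 1, 3, 1, 3, 1, 3, 1, 3, 1, 3, 1, 3, 1, 3, 1, 3, 1, 3]))) (BT.node 3 (BT.leaf (18, [2, 2, 0, 2, 2, 0, 2, 2, 0, 2, 2, 0, 2, 2, 0, 2, 2, 0], [1, 3, 3, 1, 3, 3, 1, 3, 3, 1, 3, 3, 1, 3, 3,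 1, 3, 3])) (BT.leaf (19, [3, 0, 3, 0, 2, 0, 3, 0, 2, 2, 0, 2, 0, 3, 0, 2, 0, 2, 0], [1, 3, 1, 3, 1, 2, 1, 3, 1, 3, 3, 1, 2, 1, 3, 1, 2, 1, 2])))) (BT.node 7 (BT.node 6 (BT.node 5 (BT.leaf (2, [4, 4], [5, 5])) (BT.leaf (8, [0, 4, 0, 4, 0, 4, 0, 4], [5, 1, 5, 1, 5, 1, 5, 1]))) (BT.leaf (12, [3, 3, 4, 3, 3, 4, 2, 2, 4, 2, 2, 4], [5, 3, 3, 5, 3, 3, 5, 2, 2, 5, 2, 2]))) (BT.node 8 (BT.leaf (12, [3, 4, 3, 3, 4, 3, 3, 4, 2, 2, 4, 3], [2, 5, 3, 3, 5, 2, 2, 5, 2, 2, 5, 2])) (BT.leaf (12, [3, 4, 3, 4, 2, 4, 3, 4, 3, 4, 2, 4], [5, 3, 5, 2, 5, 2, 5, 3, 5, 2, 5, 2]))))) (BT.node 14 (BT.node 12 (BT.node 11 (BT.node 10 (BT.leaf (17, [0, 3, 3, 4, 3, 3, 4, 0, 4, 0, 2, 2, 4, 2, 2, 0, 4], [5, 1, 3, 3, 5, 3, 3, 1, 5, 1, 5, 2, 2, 5, 2, 2, 1])) (BT.leaf (17, [0, 3, 3, 4, 3, 3, 0, 4, 0, 4, 2, 2, 4, 2, 2, 0, 4], [5, 1, 3, 3, 5, 3, 3, 5, 1, 5, 1, 2, 2, 5,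 2, 2, 1]))) (BT.leaf (21, [0, 2, 0, 3, 3, 0, 3, 0, 4, 3, 4, 0, 3, 0, 4, 0, 2, 0, 4, 2, 4], [5, 3, 5, 1, 3, 1, 5, 1, 2, 1, 5, 2, 5, 1, 2, 1, 2, 2, 1, 3, 1]))) (BT.node 13 (BT.leaf (21, [3, 0, 3, 4, 0, 3, 3, 0, 3, 3, 0, 3, 3, 4, 2, 0, 2, 4, 2, 2, 4], [5, 3, 3, 5, 3, 1, 3, 5, 2, 2, 1, 2, 2, 1, 2, 2, 1, 5, 2, 1, 2])) (BT.leaf (21, [3, 0, 2, 0, 3, 0, 2, 4, 3, 4, 0, 2, 4, 0, 4, 0, 3, 0, 4, 2, 4], [5, 3, 5, 1, 2, 1, 5, 1, 5, 3, 1, 5, 2, 5, 3, 1, 2, 1, 3, 1, 2])))) (BT.node 16 (BT.node 15 (BT.leaf (21, [0, 2, 0, 2, 0, 3, 0, 4, 2, 4, 2, 0, 4, 3, 4, 0, 2, 0, 3, 0, 4], [5, 1, 2, 1, 3, 1, 5, 2, 5, 1, 3, 5, 3, 5, 1, 2, 1, 3, 1, 3, 1])) (BT.leaf (21, [3, 3, 0, 3, 0, 3, 4, 0, 4, 3, 0, 4, 0, 4, 2, 2, 0, 3, 4, 3, 4], [5, 2, 5, 2, 1, 3, 3, 5, 1, 5, 1, 2, 5, 1, 5, 2, 1, 2, 1, 2, 2]))) (BT.node 17 (BT.leaf (22, [3, 3, 0, 3, 4, 0, 4, 2, 0, 2, 4, 3, 4,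 2, 0, 3, 4, 0, 4, 2, 0, 4], [5, 1, 3, 5, 1, 5, 2, 1, 3, 5, 2, 5, 3, 1, 3, 5, 1, 5, 2, 1, 2, 2])) (BT.leaf (22, [2, 0, 2, 0, 3, 0, 2, 0, 3, 0, 3, 4, 2, 4, 3, 3, 0, 2, 2, 4, 3, 4], [5, 2, 5, 3, 3, 1, 2, 2, 5, 3, 5, 2, 1, 2, 1, 3, 1, 2, 1, 3, 1, 3])))))) (BT.node 27 (BT.node 23 (BT.node 21 (BT.node 20 (BT.node 19 (BT.leaf (22, [0, 3, 3, 0, 4, 0, 4, 3, 0, 2, 4, 0, 2, 4, 0, 3, 4, 2, 0, 4, 3, 4], [5, 2, 5, 1, 3, 5, 2, 1, 5, 3, 1, 5, 3, 1, 2, 5, 1, 5, 1, 2, 2, 1])) (BT.leaf (23, [3, 0, 2, 0, 2, 0, 2, 0, 3, 3, 0, 3, 0, 3, 0, 3, 0, 2, 4, 2, 0, 3, 4], [5, 2, 1, 3, 5, 3, 1, 2, 1, 2, 1, 2, 1, 2, 2, 1, 3, 1, 3, 1, 3, 1, 2]))) (BT.leaf (2, [6, 6], [7, 7]))) (BT.node 22 (BT.leaf (16, [0, 4, 0, 6, 0, 4, 0, 6, 0, 4, 0, 6, 0, 4, 0, 6], [7, 1, 5, 1, 7, 1, 5, 1, 7, 1, 5, 1, 7, 1, 5, 1])) (BT.leaf (20, [0, 2, 4, 3, 0, 2, 0, 6, 0, 3, 0, 2, 4, 3, 0, 2,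 0, 6, 0, 3], [2, 1, 7, 1, 3, 1, 2, 5, 3, 1, 2, 1, 7, 1, 3, 1, 2, 5, 3, 1])))) (BT.node 25 (BT.node 24 (BT.leaf (21, [0, 3, 4, 0, 2, 6, 4, 2, 0, 4, 3, 0, 3, 0, 3, 6, 0, 3, 0, 3, 3], [2, 2, 1, 2, 1, 7, 2, 1, 2, 1, 2, 5, 1, 3, 5, 7, 3, 1, 5, 2, 1])) (BT.leaf (21, [0, 4, 0, 4, 3, 3, 0, 2, 6, 4, 0, 3, 0, 2, 0, 4, 6, 3, 0, 3, 3], [2, 2, 1, 2, 7, 5, 1, 3, 1, 2, 1, 5, 7, 3, 1, 2, 2, 5, 1, 5, 1]))) (BT.node 26 (BT.leaf (21, [0, 3, 0, 2, 6, 0, 2, 4, 2, 4, 3, 4, 3, 0, 6, 3, 0, 2, 0, 3, 3], [2, 2, 1, 3, 1, 2, 7, 1, 2, 5, 2, 5, 3, 5, 3, 1, 7, 3, 1, 2, 1])) (BT.leaf (21, [0, 3, 0, 2, 6, 0, 4, 2, 4, 3, 4, 2, 2, 0, 6, 3, 0, 2, 0, 3, 3], [2, 2, 1, 3, 1, 2, 7, 1, 3, 3, 5, 2, 5, 3, 5, 1, 7, 3, 1, 2, 1]))))) (BT.node 32 (BT.node 30 (BT.node 29 (BT.node 28 (BT.leaf (21, [0, 3, 0, 2, 6, 0, 3, 4, 2, 4, 3, 4, 2, 0, 6, 3, 0, 2, 0, 3, 3], [2, 2, 1, 3, 1,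 2, 7, 1, 3, 5, 2, 5, 3, 5, 2, 1, 7, 3, 1, 2, 1])) (BT.leaf (21, [0, 3, 0, 2, 6, 0, 3, 3, 4, 2, 4, 3, 4, 0, 6, 3, 0, 2, 0, 3, 3], [2, 2, 1, 3, 1, 2, 7, 1, 5, 2, 5, 3, 5, 2, 2, 1, 7, 3, 1, 2, 1]))) (BT.leaf (22, [4, 3, 4, 3, 3, 4, 6, 3, 0, 2, 4, 2, 2, 4, 2, 4, 3, 6, 3, 0, 3, 3], [2, 2, 1, 2, 7, 2, 5, 3, 5, 3, 3, 5, 3, 1, 2, 7, 5, 2, 2, 5, 2, 5]))) (BT.node 31 (BT.leaf (22, [4, 2, 4, 3, 4, 0, 6, 0, 3, 3, 0, 3, 0, 2, 0, 2, 2, 0, 6, 0, 3, 3], [2, 2, 1, 7, 1, 3, 3, 1, 3, 1, 2, 1, 2, 2, 1, 7, 1, 5, 2, 5, 3, 5])) (BT.leaf (23, [0, 4, 0, 2, 6, 2, 4, 0, 2, 0, 2, 0, 2, 4, 0, 6, 0, 3, 4, 3, 0, 3, 3], [2, 2, 1, 2, 5, 2, 1, 7, 1, 5, 3, 1, 3, 1, 3, 1, 5, 3, 7, 3, 1, 5, 1])))) (BT.node 34 (BT.node 33 (BT.leaf (23, [0, 2, 4, 2, 0, 6, 0, 4, 3, 0, 3, 0, 3, 0, 4, 3, 6, 3, 0, 4, 0, 3, 3], [2, 2, 1, 5, 1, 2, 7, 2, 5, 1, 2, 1, 2, 1, 2, 5, 1, 7, 1, 3, 5,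 3, 1])) (BT.leaf (25, [0, 4, 3, 3, 0, 3, 4, 3, 4, 6, 3, 3, 0, 4, 0, 3, 6, 0, 2, 0, 3, 3, 0, 3, 3], [2, 2, 1, 2, 2, 1, 3, 1, 7, 2, 1, 5, 1, 2, 2, 7, 5, 2, 5, 2, 1, 2, 2, 5, 1]))) (BT.node 35 (BT.leaf (26, [0, 3, 4, 3, 0, 4, 3, 6, 0, 2, 4, 3, 0, 2, 2, 0, 4, 2, 6, 0, 2, 0, 3, 0, 3, 3], [2, 2, 1, 2, 1, 3, 1, 7, 3, 5, 1, 3, 3, 1, 2, 5, 3, 1, 7, 2, 5, 1, 2, 5, 2, 1])) (BT.leaf (26, [0, 3, 0, 3, 0, 3, 4, 0, 4, 3, 0, 4, 2, 0, 6, 2, 0, 4, 0, 2, 2, 6, 3, 0, 3, 3], [2, 2, 1, 2, 7, 3, 3, 1, 5, 1, 3, 7, 1, 3, 5, 1, 2, 5, 1, 5, 2, 1, 2, 1, 2, 1]))))))) (BT.node 54 (BT.node 45 (BT.node 41 (BT.node 39 (BT.node 38 (BT.node 37 (BT.leaf (27, [0, 4, 3, 3, 4, 0, 3, 3, 0, 6, 4, 3, 4, 3, 4, 2, 6, 3, 3, 0, 3, 0, 3, 3, 0, 3, 3], [2, 2, 1, 2, 2, 1, 2, 1, 2, 2, 7, 3, 5, 2, 5, 2, 5, 7, 1, 2, 2, 1, 5, 2, 2, 5, 1])) (BT.leaf (27, [0, 4, 3, 3, 4, 0, 3, 3, 0, 6,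 3, 4, 2, 4, 2, 4, 6, 3, 3, 0, 3, 0, 3, 3, 0, 3, 3], [2, 2, 1, 2, 2, 1, 2, 1, 2, 2, 7, 5, 3, 5, 3, 5, 2, 7, 1, 2, 2, 1, 5, 2, 2, 5, 1]))) (BT.leaf (27, [0, 4, 3, 3, 0, 3, 4, 3, 4, 6, 3, 3, 4, 0, 4, 0, 4, 3, 6, 0, 2, 0, 3, 3, 0, 3, 3], [2, 2, 1, 2, 2, 1, 3, 1, 7, 2, 5, 1, 5, 1, 5, 2, 2, 7, 5, 2, 5, 2, 1, 2, 2, 5, 1]))) (BT.node 40 (BT.leaf (27, [6, 4, 2, 0, 4, 0, 3, 4, 6, 0, 3, 0, 2, 0, 3, 3, 0, 3, 0, 3, 0, 3, 0, 2, 0, 3, 3], [2, 2, 1, 3, 1, 2, 1, 2, 1, 2, 1, 2, 2, 1, 3, 1, 2, 1, 7, 5, 2, 1, 5, 1, 3, 5, 7])) (BT.leaf (27, [0, 2, 0, 4, 0, 3, 4, 3, 3, 4, 3, 6, 0, 4, 0, 2, 4, 3, 0, 4, 0, 6, 0, 2, 0, 3, 3], [2, 2, 1, 3, 1, 7, 1, 5, 1, 2, 5, 3, 1, 5, 1, 7, 2, 5, 2, 2, 5, 2, 1, 5, 1, 3, 1])))) (BT.node 43 (BT.node 42 (BT.leaf (28, [0, 4, 3, 4, 2, 0, 2, 4, 6, 0, 3, 0, 4, 3, 0, 4, 3, 6, 3, 0, 2, 0, 3, 0, 3, 0, 3, 3], [2, 2, 1, 2, 1, 2, 1,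 3, 1, 2, 7, 2, 5, 1, 2, 5, 1, 2, 1, 7, 5, 3, 1, 3, 5, 2, 5, 1])) (BT.leaf (28, [0, 2, 2, 0, 2, 6, 0, 4, 2, 0, 3, 0, 2, 4, 2, 0, 3, 0, 2, 2, 0, 3, 0, 6, 3, 0, 3, 3], [2, 2, 1, 2, 7, 1, 2, 1, 3, 3, 1, 2, 1, 3, 5, 3, 1, 2, 1, 3, 5, 1, 7, 3, 1, 3, 3, 1]))) (BT.node 44 (BT.leaf (28, [0, 3, 0, 3, 0, 3, 4, 0, 4, 3, 0, 4, 2, 0, 6, 2, 4, 0, 4, 0, 4, 2, 2, 6, 3, 0, 3, 3], [2, 2, 1, 2, 7, 3, 3, 5, 1, 5, 1, 5, 3, 7, 1, 3, 5, 1, 2, 5, 1, 5, 2, 1, 2, 1, 2, 1])) (BT.leaf (28, [0, 2, 0, 3, 4, 3, 0, 2, 0, 3, 4, 0, 6, 2, 0, 3, 3, 0, 2, 2, 0, 3, 6, 0, 2, 0, 3, 3], [2, 2, 1, 3, 1, 7, 2, 1, 3, 3, 1, 2, 2, 1, 3, 7, 1, 5, 2, 1, 3, 1, 2, 5, 2, 1, 3, 1]))))) (BT.node 50 (BT.node 48 (BT.node 47 (BT.node 46 (BT.leaf (28, [0, 3, 0, 2, 0, 2, 4, 3, 0, 2, 0, 4, 3, 6, 3, 3, 4, 0, 2, 0, 4, 3, 4, 6, 2, 0, 3, 3], [2, 2, 1, 3, 7, 5, 2, 5, 1, 3, 1, 5, 2, 2, 7, 2, 5,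 1, 3, 1, 2, 5, 3, 1, 3, 1, 2, 1])) (BT.leaf (29, [0, 4, 3, 3, 4, 0, 3, 3, 0, 6, 3, 3, 4, 3, 4, 3, 4, 3, 6, 3, 3, 0, 3, 0, 3, 3, 0, 3, 3], [2, 2, 1, 2, 2, 1, 2, 1, 2, 2, 7, 2, 5, 2, 5, 2, 5, 2, 2, 7, 1, 2, 2, 1, 5, 2, 2, 5, 1]))) (BT.leaf (29, [0, 3, 0, 3, 0, 3, 0, 4, 2, 4, 0, 2, 0, 4, 6, 2, 4, 0, 2, 4, 0, 2, 0, 6, 3, 3, 0, 3, 3], [2, 2, 1, 2, 2, 7, 1, 3, 1, 5, 3, 1, 5, 3, 7, 5, 1, 3, 1, 5, 3, 5, 1, 2, 1, 2, 1, 2, 1]))) (BT.node 49 (BT.leaf (29, [4, 3, 3, 0, 3, 4, 3, 4, 0, 6, 4, 0, 3, 4, 2, 2, 0, 3, 6, 0, 3, 0, 3, 3, 0, 3, 0, 3, 3], [2, 2, 1, 2, 1, 2, 2, 1, 2, 1, 7, 2, 1, 3, 3, 5, 2, 1, 5, 7, 1, 5, 2, 5, 2, 1, 2, 2, 5])) (BT.leaf (29, [0, 3, 4, 0, 2, 0, 3, 4, 6, 2, 4, 3, 0, 2, 4, 3, 6, 3, 0, 3, 0, 2, 0, 3, 0, 3, 0, 3, 3], [2, 2, 1, 2, 1, 2, 1, 3, 1, 2, 1, 2, 7, 2, 5, 3, 1, 2, 5, 3, 7, 5, 2, 1, 3, 1, 5, 2, 1])))) (BT.node 52 (BT.node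 51 (BT.leaf (29, [6, 4, 2, 4, 0, 4, 0, 4, 3, 4, 6, 0, 3, 0, 2, 0, 3, 3, 0, 3, 0, 3, 0, 3, 0, 2, 0, 3, 3], [2, 2, 1, 3, 1, 2, 1, 2, 1, 2, 1, 2, 2, 1, 3, 1, 2, 1, 7, 5, 2, 5, 1, 5, 1, 5, 3, 5, 7])) (BT.leaf (29, [0, 2, 4, 3, 4, 3, 3, 4, 0, 3, 6, 3, 4, 3, 4, 0, 4, 2, 4, 2, 6, 2, 0, 3, 0, 2, 0, 3, 3], [2, 2, 1, 3, 1, 2, 1, 3, 7, 3, 5, 3, 5, 1, 5, 2, 5, 2, 7, 2, 1, 5, 2, 2, 5, 2, 5, 3, 1]))) (BT.node 53 (BT.leaf (29, [0, 4, 3, 0, 2, 0, 4, 3, 3, 0, 6, 3, 4, 3, 3, 0, 4, 2, 4, 0, 6, 2, 0, 2, 0, 2, 0, 3, 3], [2, 2, 1, 3, 1, 3, 1, 3, 7, 1, 5, 3, 5, 1, 2, 2, 5, 2, 7, 1, 2, 2, 5, 1, 3, 1, 2, 5, 1])) (BT.leaf (29, [4, 2, 0, 4, 6, 0, 2, 0, 2, 0, 3, 0, 2, 0, 3, 0, 3, 4, 2, 4, 0, 2, 0, 4, 6, 2, 0, 3, 3], [2, 2, 1, 3, 7, 5, 1, 3, 1, 5, 3, 5, 2, 1, 2, 1, 3, 1, 2, 1, 3, 1, 3, 1, 7, 5, 1, 3, 5])))))) (BT.node 63 (BT.node 59 (BT.node 57 (BT.node 56 (BT.node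 55 (BT.leaf (29, [4, 2, 4, 2, 0, 2, 6, 2, 0, 4, 0, 2, 0, 2, 0, 2, 0, 2, 0, 3, 0, 2, 0, 3, 0, 2, 6, 3, 3], [2, 2, 7, 3, 1, 2, 1, 3, 1, 2, 1, 3, 1, 3, 1, 3, 1, 3, 1, 5, 1, 3, 7, 3, 1, 3, 5, 3, 5])) (BT.leaf (30, [4, 0, 3, 0, 4, 3, 4, 6, 0, 6, 3, 0, 4, 2, 0, 6, 4, 6, 2, 0, 3, 3, 0, 2, 0, 3, 3, 0, 3, 3], [2, 2, 1, 2, 2, 1, 3, 1, 2, 2, 1, 3, 7, 5, 7, 1, 3, 5, 1, 2, 7, 1, 7, 5, 2, 5, 1, 2, 1, 5]))) (BT.leaf (30, [0, 3, 0, 2, 0, 4, 0, 4, 3, 0, 4, 0, 2, 6, 0, 2, 4, 3, 3, 4, 0, 4, 2, 6, 2, 0, 3, 0, 3, 3], [2, 2, 1, 2, 1, 3, 7, 3, 5, 1, 5, 2, 2, 5, 3, 1, 7, 3, 1, 5, 1, 2, 5, 1, 5, 1, 3, 1, 2, 1]))) (BT.node 58 (BT.leaf (30, [4, 2, 2, 4, 6, 4, 2, 2, 4, 6, 4, 2, 2, 4, 6, 4, 2, 2, 4, 6, 4, 2, 2, 4, 6, 4, 2, 2, 4, 6], [7, 5, 3, 3, 5, 7, 5, 3, 3, 5, 7, 5, 3, 3, 5, 7, 5, 3, 3, 5, 7, 5, 3, 3, 5, 7, 5, 3, 3, 5])) (BT.leaf (31, [4, 2, 0, 2, 6, 2, 0,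 4, 0, 2, 0, 2, 0, 2, 0, 2, 0, 3, 0, 2, 0, 3, 0, 2, 6, 3, 3, 4, 3, 3, 3], [2, 2, 2, 5, 2, 2, 7, 3, 1, 2, 1, 3, 1, 2, 1, 3, 1, 3, 1, 3, 1, 3, 1, 5, 1, 3, 7, 3, 1, 3, 5])))) (BT.node 61 (BT.node 60 (BT.leaf (31, [0, 3, 0, 2, 0, 2, 0, 4, 0, 2, 4, 0, 3, 3, 6, 0, 2, 0, 3, 0, 2, 0, 2, 0, 6, 3, 0, 3, 0, 3, 3], [2, 2, 1, 2, 1, 2, 7, 1, 3, 1, 3, 1, 2, 1, 3, 1, 7, 2, 2, 1, 5, 3, 1, 5, 1, 3, 1, 3, 1, 2, 1])) (BT.leaf (31, [0, 3, 0, 2, 0, 2, 0, 2, 0, 3, 0, 2, 4, 0, 3, 4, 6, 2, 0, 3, 0, 3, 0, 4, 2, 6, 0, 3, 0, 3, 3], [2, 2, 1, 2, 1, 7, 3, 5, 1, 2, 1, 2, 1, 3, 7, 5, 2, 1, 5, 3, 1, 2, 1, 3, 1, 3, 1, 3, 1, 2, 1]))) (BT.node 62 (BT.leaf (31, [0, 2, 0, 3, 4, 3, 3, 4, 0, 2, 4, 6, 0, 4, 3, 0, 4, 2, 2, 4, 6, 2, 0, 2, 0, 2, 0, 2, 0, 3, 3], [2, 2, 1, 3, 1, 3, 1, 3, 1, 3, 7, 5, 3, 3, 5, 1, 2, 5, 1, 7, 5, 3, 1, 5, 2, 2, 5, 2, 1, 3, 1])) (BT.leaf (31, [0,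 4, 0, 3, 6, 3, 0, 4, 3, 4, 2, 4, 2, 4, 2, 6, 3, 0, 2, 0, 3, 0, 2, 0, 3, 0, 3, 0, 3, 0, 3], [2, 1, 2, 1, 2, 1, 2, 1, 3, 1, 2, 1, 3, 1, 2, 7, 3, 5, 3, 5, 3, 5, 2, 5, 1, 2, 7, 2, 1, 5, 1]))))) (BT.node 68 (BT.node 66 (BT.node 65 (BT.node 64 (BT.leaf (31, [4, 2, 0, 4, 6, 0, 4, 0, 2, 6, 2, 4, 2, 6, 0, 6, 0, 2, 0, 3, 0, 2, 0, 3, 0, 2, 4, 0, 3, 0, 3], [2, 1, 2, 1, 5, 3, 1, 2, 1, 3, 1, 2, 1, 3, 1, 7, 1, 7, 3, 5, 3, 7, 3, 1, 5, 1, 7, 5, 1, 3, 5])) (BT.leaf (32, [4, 3, 3, 4, 0, 2, 0, 2, 0, 3, 6, 2, 6, 3, 4, 0, 3, 4, 0, 6, 4, 6, 0, 2, 0, 2, 0, 3, 3, 0, 3, 3], [2, 2, 1, 2, 2, 1, 3, 1, 3, 1, 7, 5, 7, 1, 5, 2, 1, 5, 2, 7, 3, 7, 2, 1, 3, 1, 3, 1, 5, 2, 2, 5]))) (BT.leaf (32, [0, 2, 0, 3, 3, 0, 2, 0, 2, 4, 3, 4, 3, 4, 0, 4, 2, 0, 6, 0, 2, 4, 0, 4, 0, 2, 4, 6, 3, 0, 3, 3], [2, 2, 1, 2, 7, 5, 3, 1, 5, 1, 5, 3, 1, 7, 1, 3, 5, 1, 5, 2, 5, 2, 5, 3, 1,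 3, 1, 2, 2, 1, 3, 1]))) (BT.node 67 (BT.leaf (32, [0, 3, 4, 0, 4, 3, 0, 2, 4, 2, 6, 0, 3, 0, 4, 2, 0, 4, 3, 6, 0, 3, 3, 0, 3, 0, 2, 0, 2, 0, 3, 3], [2, 2, 1, 3, 1, 3, 1, 2, 1, 2, 2, 1, 7, 2, 5, 1, 3, 5, 1, 2, 1, 7, 3, 5, 3, 1, 2, 5, 1, 5, 2, 1])) (BT.leaf (32, [0, 3, 0, 3, 0, 2, 4, 3, 0, 4, 2, 4, 0, 4, 3, 6, 2, 4, 0, 6, 0, 4, 3, 6, 3, 4, 6, 0, 2, 0, 3, 3], [2, 2, 1, 3, 1, 7, 5, 2, 7, 2, 5, 1, 7, 1, 5, 3, 7, 2, 5, 1, 5, 3, 5, 1, 2, 5, 3, 1, 2, 1, 2, 1])))) (BT.node 70 (BT.node 69 (BT.leaf (32, [0, 3, 4, 2, 0, 6, 0, 2, 0, 3, 0, 2, 0, 3, 0, 3, 0, 2, 4, 0, 2, 0, 2, 4, 2, 0, 6, 3, 0, 4, 3, 3], [2, 2, 5, 1, 2, 7, 1, 3, 5, 3, 1, 3, 1, 5, 3, 1, 2, 1, 2, 1, 3, 1, 2, 1, 3, 1, 7, 1, 3, 5, 2, 1])) (BT.leaf (33, [0, 2, 0, 2, 0, 3, 0, 4, 3, 4, 3, 4, 0, 3, 4, 0, 6, 4, 2, 0, 2, 4, 3, 0, 2, 2, 0, 6, 0, 2, 0, 3, 3], [2, 2, 1, 3, 1, 7, 1, 3, 3, 1,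 2, 5, 3, 1, 3, 5, 7, 1, 5, 2, 1, 5, 2, 5, 2, 5, 1, 2, 1, 3, 1, 3, 1]))) (BT.node 71 (BT.leaf (33, [0, 2, 0, 3, 0, 6, 0, 4, 3, 0, 3, 0, 4, 0, 2, 0, 6, 2, 0, 4, 0, 2, 4, 0, 2, 0, 2, 0, 3, 0, 3, 0, 3], [2, 1, 2, 1, 2, 1, 3, 1, 3, 1, 5, 3, 1, 5, 1, 3, 7, 1, 3, 1, 5, 1, 2, 1, 2, 5, 1, 7, 1, 2, 1, 3, 1])) (BT.leaf (33, [2, 0, 6, 2, 0, 6, 2, 0, 6, 2, 0, 6, 2, 0, 6, 2, 0, 6, 2, 0, 6, 2, 0, 6, 2, 0, 6, 2, 0, 6, 2, 0, 6], [7, 1, 3, 7, 1, 3, 7, 1, 3, 7, 1, 3, 7, 1, 3, 7, 1, 3, 7, 1, 3, 7, 1, 3, 7, 1, 3, 7, 1, 3, 7, 1, 3]))))))))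
/-- subgroup generators -/
def subT : BT (ℕ × List ℕ × List ℕ) := (BT.node 1 (BT.node 0 (BT.leaf (1, [0], [1])) (BT.leaf (1, [2], [3]))) (BT.leaf (1, [4], [5])))
/-- fact chunks -/
def colET : BT ℕ := (BT.node 769 (BT.node 384 (BT.node 192 (BT.node 96 (BT.node 48 (BT.node 24 (BT.node 12 (BT.node 6 (BT.node 3 (BT.node 1 (BT.node 0 (BT.leaf cE0) (BT.leaf cE1)) (BT.node 2 (BT.leaf cE2) (BT.leaf cE3))) (BT.node 5 (BT.node 4 (BT.leaf cE4) (BT.leaf cE5)) (BT.leaf cE6))) (BT.node 9 (BT.node 8 (BT.node 7 (BT.leaf cE7) (BT.leaf cE8)) (BT.leaf cE9)) (BT.node 11 (BT.node 10 (BT.leaf cE10) (BT.leaf cE11)) (BT.leaf cE12)))) (BT.node 18 (BT.node 15 (BT.node 14 (BT.node 13 (BT.leaf cE13) (BT.leaf cE14)) (BT.leaf cE15)) (BT.node 17 (BT.node 16 (BT.leaf cE16) (BT.leaf cE17)) (BT.leaf cE18))) (BT.node 21 (BT.node 20 (BT.node 19 (BT.leaf cE19) (BT.leaf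 cE20)) (BT.leaf cE21)) (BT.node 23 (BT.node 22 (BT.leaf cE22) (BT.leaf cE23)) (BT.leaf cE24))))) (BT.node 36 (BT.node 30 (BT.node 27 (BT.node 26 (BT.node 25 (BT.leaf cE25) (BT.leaf cE26)) (BT.leaf cE27)) (BT.node 29 (BT.node 28 (BT.leaf cE28) (BT.leaf cE29)) (BT.leaf cE30))) (BT.node 33 (BT.node 32 (BT.node 31 (BT.leaf cE31) (BT.leaf cE32)) (BT.leaf cE33)) (BT.node 35 (BT.node 34 (BT.leaf cE34) (BT.leaf cE35)) (BT.leaf cE36)))) (BT.node 42 (BT.node 39 (BT.node 38 (BT.node 37 (BT.leaf cE37) (BT.leaf cE38)) (BT.leaf cE39)) (BT.node 41 (BT.node 40 (BT.leaf cE40) (BT.leaf cE41)) (BT.leaf cE42))) (BT.node 45 (BT.node 44 (BT.node 43 (BT.leaf cE43) (BT.leaf cE44)) (BT.leaf cE45)) (BT.node 47 (BT.node 46 (BT.leaf cE46) (BT.leaf cE47)) (BT.leaf cE48)))))) (BT.node 72 (BT.node 60 (BT.node 54 (BT.node 51 (BT.node 50 (BT.node 49 (BT.leaf cE49)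 (BT.leaf cE50)) (BT.leaf cE51)) (BT.node 53 (BT.node 52 (BT.leaf cE52) (BT.leaf cE53)) (BT.leaf cE54))) (BT.node 57 (BT.node 56 (BT.node 55 (BT.leaf cE55) (BT.leaf cE56)) (BT.leaf cE57)) (BT.node 59 (BT.node 58 (BT.leaf cE58) (BT.leaf cE59)) (BT.leaf cE60)))) (BT.node 66 (BT.node 63 (BT.node 62 (BT.node 61 (BT.leaf cE61) (BT.leaf cE62)) (BT.leaf cE63)) (BT.node 65 (BT.node 64 (BT.leaf cE64) (BT.leaf cE65)) (BT.leaf cE66))) (BT.node 69 (BT.node 68 (BT.node 67 (BT.leaf cE67) (BT.leaf cE68)) (BT.leaf cE69)) (BT.node 71 (BT.node 70 (BT.leaf cE70) (BT.leaf cE71)) (BT.leaf cE72))))) (BT.node 84 (BT.node 78 (BT.node 75 (BT.node 74 (BT.node 73 (BT.leaf cE73) (BT.leaf cE74)) (BT.leaf cE75)) (BT.node 77 (BT.node 76 (BT.leaf cE76) (BT.leaf cE77)) (BT.leaf cE78))) (BT.node 81 (BT.node 80 (BT.node 79 (BT.leaf cE79) (BT.leaf cE80)) (BT.leaf cE81))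 (BT.node 83 (BT.node 82 (BT.leaf cE82) (BT.leaf cE83)) (BT.leaf cE84)))) (BT.node 90 (BT.node 87 (BT.node 86 (BT.node 85 (BT.leaf cE85) (BT.leaf cE86)) (BT.leaf cE87)) (BT.node 89 (BT.node 88 (BT.leaf cE88) (BT.leaf cE89)) (BT.leaf cE90))) (BT.node 93 (BT.node 92 (BT.node 91 (BT.leaf cE91) (BT.leaf cE92)) (BT.leaf cE93)) (BT.node 95 (BT.node 94 (BT.leaf cE94) (BT.leaf cE95)) (BT.leaf cE96))))))) (BT.node 144 (BT.node 120 (BT.node 108 (BT.node 102 (BT.node 99 (BT.node 98 (BT.node 97 (BT.leaf cE97) (BT.leaf cE98)) (BT.leaf cE99)) (BT.node 101 (BT.node 100 (BT.leaf cE100) (BT.leaf cE101)) (BT.leaf cE102))) (BT.node 105 (BT.node 104 (BT.node 103 (BT.leaf cE103) (BT.leaf cE104)) (BT.leaf cE105)) (BT.node 107 (BT.node 106 (BT.leaf cE106) (BT.leaf cE107)) (BT.leaf cE108)))) (BT.node 114 (BT.node 111 (BT.node 110 (BT.node 109 (BT.leaf cE109)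 (BT.leaf cE110)) (BT.leaf cE111)) (BT.node 113 (BT.node 112 (BT.leaf cE112) (BT.leaf cE113)) (BT.leaf cE114))) (BT.node 117 (BT.node 116 (BT.node 115 (BT.leaf cE115) (BT.leaf cE116)) (BT.leaf cE117)) (BT.node 119 (BT.node 118 (BT.leaf cE118) (BT.leaf cE119)) (BT.leaf cE120))))) (BT.node 132 (BT.node 126 (BT.node 123 (BT.node 122 (BT.node 121 (BT.leaf cE121) (BT.leaf cE122)) (BT.leaf cE123)) (BT.node 125 (BT.node 124 (BT.leaf cE124) (BT.leaf cE125)) (BT.leaf cE126))) (BT.node 129 (BT.node 128 (BT.node 127 (BT.leaf cE127) (BT.leaf cE128)) (BT.leaf cE129)) (BT.node 131 (BT.node 130 (BT.leaf cE130) (BT.leaf cE131)) (BT.leaf cE132)))) (BT.node 138 (BT.node 135 (BT.node 134 (BT.node 133 (BT.leaf cE133) (BT.leaf cE134)) (BT.leaf cE135)) (BT.node 137 (BT.node 136 (BT.leaf cE136) (BT.leaf cE137)) (BT.leaf cE138))) (BT.node 141 (BT.node 140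 (BT.node 139 (BT.leaf cE139) (BT.leaf cE140)) (BT.leaf cE141)) (BT.node 143 (BT.node 142 (BT.leaf cE142) (BT.leaf cE143)) (BT.leaf cE144)))))) (BT.node 168 (BT.node 156 (BT.node 150 (BT.node 147 (BT.node 146 (BT.node 145 (BT.leaf cE145) (BT.leaf cE146)) (BT.leaf cE147)) (BT.node 149 (BT.node 148 (BT.leaf cE148) (BT.leaf cE149)) (BT.leaf cE150))) (BT.node 153 (BT.node 152 (BT.node 151 (BT.leaf cE151) (BT.leaf cE152)) (BT.leaf cE153)) (BT.node 155 (BT.node 154 (BT.leaf cE154) (BT.leaf cE155)) (BT.leaf cE156)))) (BT.node 162 (BT.node 159 (BT.node 158 (BT.node 157 (BT.leaf cE157) (BT.leaf cE158)) (BT.leaf cE159)) (BT.node 161 (BT.node 160 (BT.leaf cE160) (BT.leaf cE161)) (BT.leaf cE162))) (BT.node 165 (BT.node 164 (BT.node 163 (BT.leaf cE163) (BT.leaf cE164)) (BT.leaf cE165)) (BT.node 167 (BT.node 166 (BT.leaf cE166) (BT.leaf cE167))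 (BT.leaf cE168))))) (BT.node 180 (BT.node 174 (BT.node 171 (BT.node 170 (BT.node 169 (BT.leaf cE169) (BT.leaf cE170)) (BT.leaf cE171)) (BT.node 173 (BT.node 172 (BT.leaf cE172) (BT.leaf cE173)) (BT.leaf cE174))) (BT.node 177 (BT.node 176 (BT.node 175 (BT.leaf cE175) (BT.leaf cE176)) (BT.leaf cE177)) (BT.node 179 (BT.node 178 (BT.leaf cE178) (BT.leaf cE179)) (BT.leaf cE180)))) (BT.node 186 (BT.node 183 (BT.node 182 (BT.node 181 (BT.leaf cE181) (BT.leaf cE182)) (BT.leaf cE183)) (BT.node 185 (BT.node 184 (BT.leaf cE184) (BT.leaf cE185)) (BT.leaf cE186))) (BT.node 189 (BT.node 188 (BT.node 187 (BT.leaf cE187) (BT.leaf cE188)) (BT.leaf cE189)) (BT.node 191 (BT.node 190 (BT.leaf cE190) (BT.leaf cE191)) (BT.leaf cE192)))))))) (BT.node 288 (BT.node 240 (BT.node 216 (BT.node 204 (BT.node 198 (BT.node 195 (BT.node 194 (BT.node 193 (BT.leaf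 cE193) (BT.leaf cE194)) (BT.leaf cE195)) (BT.node 197 (BT.node 196 (BT.leaf cE196) (BT.leaf cE197)) (BT.leaf cE198))) (BT.node 201 (BT.node 200 (BT.node 199 (BT.leaf cE199) (BT.leaf cE200)) (BT.leaf cE201)) (BT.node 203 (BT.node 202 (BT.leaf cE202) (BT.leaf cE203)) (BT.leaf cE204)))) (BT.node 210 (BT.node 207 (BT.node 206 (BT.node 205 (BT.leaf cE205) (BT.leaf cE206)) (BT.leaf cE207)) (BT.node 209 (BT.node 208 (BT.leaf cE208) (BT.leaf cE209)) (BT.leaf cE210))) (BT.node 213 (BT.node 212 (BT.node 211 (BT.leaf cE211) (BT.leaf cE212)) (BT.leaf cE213)) (BT.node 215 (BT.node 214 (BT.leaf cE214) (BT.leaf cE215)) (BT.leaf cE216))))) (BT.node 228 (BT.node 222 (BT.node 219 (BT.node 218 (BT.node 217 (BT.leaf cE217) (BT.leaf cE218)) (BT.leaf cE219)) (BT.node 221 (BT.node 220 (BT.leaf cE220) (BT.leaf cE221)) (BT.leaf cE222))) (BT.node 225 (BT.node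 224 (BT.node 223 (BT.leaf cE223) (BT.leaf cE224)) (BT.leaf cE225)) (BT.node 227 (BT.node 226 (BT.leaf cE226) (BT.leaf cE227)) (BT.leaf cE228)))) (BT.node 234 (BT.node 231 (BT.node 230 (BT.node 229 (BT.leaf cE229) (BT.leaf cE230)) (BT.leaf cE231)) (BT.node 233 (BT.node 232 (BT.leaf cE232) (BT.leaf cE233)) (BT.leaf cE234))) (BT.node 237 (BT.node 236 (BT.node 235 (BT.leaf cE235) (BT.leaf cE236)) (BT.leaf cE237)) (BT.node 239 (BT.node 238 (BT.leaf cE238) (BT.leaf cE239)) (BT.leaf cE240)))))) (BT.node 264 (BT.node 252 (BT.node 246 (BT.node 243 (BT.node 242 (BT.node 241 (BT.leaf cE241) (BT.leaf cE242)) (BT.leaf cE243)) (BT.node 245 (BT.node 244 (BT.leaf cE244) (BT.leaf cE245)) (BT.leaf cE246))) (BT.node 249 (BT.node 248 (BT.node 247 (BT.leaf cE247) (BT.leaf cE248)) (BT.leaf cE249)) (BT.node 251 (BT.node 250 (BT.leaf cE250) (BT.leaf cE251))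 (BT.leaf cE252)))) (BT.node 258 (BT.node 255 (BT.node 254 (BT.node 253 (BT.leaf cE253) (BT.leaf cE254)) (BT.leaf cE255)) (BT.node 257 (BT.node 256 (BT.leaf cE256) (BT.leaf cE257)) (BT.leaf cE258))) (BT.node 261 (BT.node 260 (BT.node 259 (BT.leaf cE259) (BT.leaf cE260)) (BT.leaf cE261)) (BT.node 263 (BT.node 262 (BT.leaf cE262) (BT.leaf cE263)) (BT.leaf cE264))))) (BT.node 276 (BT.node 270 (BT.node 267 (BT.node 266 (BT.node 265 (BT.leaf cE265) (BT.leaf cE266)) (BT.leaf cE267)) (BT.node 269 (BT.node 268 (BT.leaf cE268) (BT.leaf cE269)) (BT.leaf cE270))) (BT.node 273 (BT.node 272 (BT.node 271 (BT.leaf cE271) (BT.leaf cE272)) (BT.leaf cE273)) (BT.node 275 (BT.node 274 (BT.leaf cE274) (BT.leaf cE275)) (BT.leaf cE276)))) (BT.node 282 (BT.node 279 (BT.node 278 (BT.node 277 (BT.leaf cE277) (BT.leaf cE278)) (BT.leaf cE279)) (BT.node 281 (BT.node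 280 (BT.leaf cE280) (BT.leaf cE281)) (BT.leaf cE282))) (BT.node 285 (BT.node 284 (BT.node 283 (BT.leaf cE283) (BT.leaf cE284)) (BT.leaf cE285)) (BT.node 287 (BT.node 286 (BT.leaf cE286) (BT.leaf cE287)) (BT.leaf cE288))))))) (BT.node 336 (BT.node 312 (BT.node 300 (BT.node 294 (BT.node 291 (BT.node 290 (BT.node 289 (BT.leaf cE289) (BT.leaf cE290)) (BT.leaf cE291)) (BT.node 293 (BT.node 292 (BT.leaf cE292) (BT.leaf cE293)) (BT.leaf cE294))) (BT.node 297 (BT.node 296 (BT.node 295 (BT.leaf cE295) (BT.leaf cE296)) (BT.leaf cE297)) (BT.node 299 (BT.node 298 (BT.leaf cE298) (BT.leaf cE299)) (BT.leaf cE300)))) (BT.node 306 (BT.node 303 (BT.node 302 (BT.node 301 (BT.leaf cE301) (BT.leaf cE302)) (BT.leaf cE303)) (BT.node 305 (BT.node 304 (BT.leaf cE304) (BT.leaf cE305)) (BT.leaf cE306))) (BT.node 309 (BT.node 308 (BT.node 307 (BT.leaf cE307)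 (BT.leaf cE308)) (BT.leaf cE309)) (BT.node 311 (BT.node 310 (BT.leaf cE310) (BT.leaf cE311)) (BT.leaf cE312))))) (BT.node 324 (BT.node 318 (BT.node 315 (BT.node 314 (BT.node 313 (BT.leaf cE313) (BT.leaf cE314)) (BT.leaf cE315)) (BT.node 317 (BT.node 316 (BT.leaf cE316) (BT.leaf cE317)) (BT.leaf cE318))) (BT.node 321 (BT.node 320 (BT.node 319 (BT.leaf cE319) (BT.leaf cE320)) (BT.leaf cE321)) (BT.node 323 (BT.node 322 (BT.leaf cE322) (BT.leaf cE323)) (BT.leaf cE324)))) (BT.node 330 (BT.node 327 (BT.node 326 (BT.node 325 (BT.leaf cE325) (BT.leaf cE326)) (BT.leaf cE327)) (BT.node 329 (BT.node 328 (BT.leaf cE328) (BT.leaf cE329)) (BT.leaf cE330))) (BT.node 333 (BT.node 332 (BT.node 331 (BT.leaf cE331) (BT.leaf cE332)) (BT.leaf cE333)) (BT.node 335 (BT.node 334 (BT.leaf cE334) (BT.leaf cE335)) (BT.leaf cE336)))))) (BT.node 360 (BT.node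 348 (BT.node 342 (BT.node 339 (BT.node 338 (BT.node 337 (BT.leaf cE337) (BT.leaf cE338)) (BT.leaf cE339)) (BT.node 341 (BT.node 340 (BT.leaf cE340) (BT.leaf cE341)) (BT.leaf cE342))) (BT.node 345 (BT.node 344 (BT.node 343 (BT.leaf cE343) (BT.leaf cE344)) (BT.leaf cE345)) (BT.node 347 (BT.node 346 (BT.leaf cE346) (BT.leaf cE347)) (BT.leaf cE348)))) (BT.node 354 (BT.node 351 (BT.node 350 (BT.node 349 (BT.leaf cE349) (BT.leaf cE350)) (BT.leaf cE351)) (BT.node 353 (BT.node 352 (BT.leaf cE352) (BT.leaf cE353)) (BT.leaf cE354))) (BT.node 357 (BT.node 356 (BT.node 355 (BT.leaf cE355) (BT.leaf cE356)) (BT.leaf cE357)) (BT.node 359 (BT.node 358 (BT.leaf cE358) (BT.leaf cE359)) (BT.leaf cE360))))) (BT.node 372 (BT.node 366 (BT.node 363 (BT.node 362 (BT.node 361 (BT.leaf cE361) (BT.leaf cE362)) (BT.leaf cE363)) (BT.node 365 (BT.node 364 (BT.leaf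 cE364) (BT.leaf cE365)) (BT.leaf cE366))) (BT.node 369 (BT.node 368 (BT.node 367 (BT.leaf cE367) (BT.leaf cE368)) (BT.leaf cE369)) (BT.node 371 (BT.node 370 (BT.leaf cE370) (BT.leaf cE371)) (BT.leaf cE372)))) (BT.node 378 (BT.node 375 (BT.node 374 (BT.node 373 (BT.leaf cE373) (BT.leaf cE374)) (BT.leaf cE375)) (BT.node 377 (BT.node 376 (BT.leaf cE376) (BT.leaf cE377)) (BT.leaf cE378))) (BT.node 381 (BT.node 380 (BT.node 379 (BT.leaf cE379) (BT.leaf cE380)) (BT.leaf cE381)) (BT.node 383 (BT.node 382 (BT.leaf cE382) (BT.leaf cE383)) (BT.leaf cE384))))))))) (BT.node 577 (BT.node 481 (BT.node 433 (BT.node 409 (BT.node 397 (BT.node 391 (BT.node 388 (BT.node 386 (BT.node 385 (BT.leaf cE385) (BT.leaf cE386)) (BT.node 387 (BT.leaf cE387) (BT.leaf cE388))) (BT.node 390 (BT.node 389 (BT.leaf cE389) (BT.leaf cE390)) (BT.leaf cE391))) (BT.node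 394 (BT.node 393 (BT.node 392 (BT.leaf cE392) (BT.leaf cE393)) (BT.leaf cE394)) (BT.node 396 (BT.node 395 (BT.leaf cE395) (BT.leaf cE396)) (BT.leaf cE397)))) (BT.node 403 (BT.node 400 (BT.node 399 (BT.node 398 (BT.leaf cE398) (BT.leaf cE399)) (BT.leaf cE400)) (BT.node 402 (BT.node 401 (BT.leaf cE401) (BT.leaf cE402)) (BT.leaf cE403))) (BT.node 406 (BT.node 405 (BT.node 404 (BT.leaf cE404) (BT.leaf cE405)) (BT.leaf cE406)) (BT.node 408 (BT.node 407 (BT.leaf cE407) (BT.leaf cE408)) (BT.leaf cE409))))) (BT.node 421 (BT.node 415 (BT.node 412 (BT.node 411 (BT.node 410 (BT.leaf cE410) (BT.leaf cE411)) (BT.leaf cE412)) (BT.node 414 (BT.node 413 (BT.leaf cE413) (BT.leaf cE414)) (BT.leaf cE415))) (BT.node 418 (BT.node 417 (BT.node 416 (BT.leaf cE416) (BT.leaf cE417)) (BT.leaf cE418)) (BT.node 420 (BT.node 419 (BT.leaf cE419) (BT.leaf cE420))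 (BT.leaf cE421)))) (BT.node 427 (BT.node 424 (BT.node 423 (BT.node 422 (BT.leaf cE422) (BT.leaf cE423)) (BT.leaf cE424)) (BT.node 426 (BT.node 425 (BT.leaf cE425) (BT.leaf cE426)) (BT.leaf cE427))) (BT.node 430 (BT.node 429 (BT.node 428 (BT.leaf cE428) (BT.leaf cE429)) (BT.leaf cE430)) (BT.node 432 (BT.node 431 (BT.leaf cE431) (BT.leaf cE432)) (BT.leaf cE433)))))) (BT.node 457 (BT.node 445 (BT.node 439 (BT.node 436 (BT.node 435 (BT.node 434 (BT.leaf cE434) (BT.leaf cE435)) (BT.leaf cE436)) (BT.node 438 (BT.node 437 (BT.leaf cE437) (BT.leaf cE438)) (BT.leaf cE439))) (BT.node 442 (BT.node 441 (BT.node 440 (BT.leaf cE440) (BT.leaf cE441)) (BT.leaf cE442)) (BT.node 444 (BT.node 443 (BT.leaf cE443) (BT.leaf cE444)) (BT.leaf cE445)))) (BT.node 451 (BT.node 448 (BT.node 447 (BT.node 446 (BT.leaf cE446) (BT.leaf cE447)) (BT.leaf cE448))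 (BT.node 450 (BT.node 449 (BT.leaf cE449) (BT.leaf cE450)) (BT.leaf cE451))) (BT.node 454 (BT.node 453 (BT.node 452 (BT.leaf cE452) (BT.leaf cE453)) (BT.leaf cE454)) (BT.node 456 (BT.node 455 (BT.leaf cE455) (BT.leaf cE456)) (BT.leaf cE457))))) (BT.node 469 (BT.node 463 (BT.node 460 (BT.node 459 (BT.node 458 (BT.leaf cE458) (BT.leaf cE459)) (BT.leaf cE460)) (BT.node 462 (BT.node 461 (BT.leaf cE461) (BT.leaf cE462)) (BT.leaf cE463))) (BT.node 466 (BT.node 465 (BT.node 464 (BT.leaf cE464) (BT.leaf cE465)) (BT.leaf cE466)) (BT.node 468 (BT.node 467 (BT.leaf cE467) (BT.leaf cE468)) (BT.leaf cE469)))) (BT.node 475 (BT.node 472 (BT.node 471 (BT.node 470 (BT.leaf cE470) (BT.leaf cE471)) (BT.leaf cE472)) (BT.node 474 (BT.node 473 (BT.leaf cE473) (BT.leaf cE474)) (BT.leaf cE475))) (BT.node 478 (BT.node 477 (BT.node 476 (BT.leaf cE476) (BT.leaf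 cE477)) (BT.leaf cE478)) (BT.node 480 (BT.node 479 (BT.leaf cE479) (BT.leaf cE480)) (BT.leaf cE481))))))) (BT.node 529 (BT.node 505 (BT.node 493 (BT.node 487 (BT.node 484 (BT.node 483 (BT.node 482 (BT.leaf cE482) (BT.leaf cE483)) (BT.leaf cE484)) (BT.node 486 (BT.node 485 (BT.leaf cE485) (BT.leaf cE486)) (BT.leaf cE487))) (BT.node 490 (BT.node 489 (BT.node 488 (BT.leaf cE488) (BT.leaf cE489)) (BT.leaf cE490)) (BT.node 492 (BT.node 491 (BT.leaf cE491) (BT.leaf cE492)) (BT.leaf cE493)))) (BT.node 499 (BT.node 496 (BT.node 495 (BT.node 494 (BT.leaf cE494) (BT.leaf cE495)) (BT.leaf cE496)) (BT.node 498 (BT.node 497 (BT.leaf cE497) (BT.leaf cE498)) (BT.leaf cE499))) (BT.node 502 (BT.node 501 (BT.node 500 (BT.leaf cE500) (BT.leaf cE501)) (BT.leaf cE502)) (BT.node 504 (BT.node 503 (BT.leaf cE503) (BT.leaf cE504)) (BT.leaf cE505))))) (BT.node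 517 (BT.node 511 (BT.node 508 (BT.node 507 (BT.node 506 (BT.leaf cE506) (BT.leaf cE507)) (BT.leaf cE508)) (BT.node 510 (BT.node 509 (BT.leaf cE509) (BT.leaf cE510)) (BT.leaf cE511))) (BT.node 514 (BT.node 513 (BT.node 512 (BT.leaf cE512) (BT.leaf cE513)) (BT.leaf cE514)) (BT.node 516 (BT.node 515 (BT.leaf cE515) (BT.leaf cE516)) (BT.leaf cE517)))) (BT.node 523 (BT.node 520 (BT.node 519 (BT.node 518 (BT.leaf cE518) (BT.leaf cE519)) (BT.leaf cE520)) (BT.node 522 (BT.node 521 (BT.leaf cE521) (BT.leaf cE522)) (BT.leaf cE523))) (BT.node 526 (BT.node 525 (BT.node 524 (BT.leaf cE524) (BT.leaf cE525)) (BT.leaf cE526)) (BT.node 528 (BT.node 527 (BT.leaf cE527) (BT.leaf cE528)) (BT.leaf cE529)))))) (BT.node 553 (BT.node 541 (BT.node 535 (BT.node 532 (BT.node 531 (BT.node 530 (BT.leaf cE530) (BT.leaf cE531)) (BT.leaf cE532)) (BT.node 534 (BT.node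 533 (BT.leaf cE533) (BT.leaf cE534)) (BT.leaf cE535))) (BT.node 538 (BT.node 537 (BT.node 536 (BT.leaf cE536) (BT.leaf cE537)) (BT.leaf cE538)) (BT.node 540 (BT.node 539 (BT.leaf cE539) (BT.leaf cE540)) (BT.leaf cE541)))) (BT.node 547 (BT.node 544 (BT.node 543 (BT.node 542 (BT.leaf cE542) (BT.leaf cE543)) (BT.leaf cE544)) (BT.node 546 (BT.node 545 (BT.leaf cE545) (BT.leaf cE546)) (BT.leaf cE547))) (BT.node 550 (BT.node 549 (BT.node 548 (BT.leaf cE548) (BT.leaf cE549)) (BT.leaf cE550)) (BT.node 552 (BT.node 551 (BT.leaf cE551) (BT.leaf cE552)) (BT.leaf cE553))))) (BT.node 565 (BT.node 559 (BT.node 556 (BT.node 555 (BT.node 554 (BT.leaf cE554) (BT.leaf cE555)) (BT.leaf cE556)) (BT.node 558 (BT.node 557 (BT.leaf cE557) (BT.leaf cE558)) (BT.leaf cE559))) (BT.node 562 (BT.node 561 (BT.node 560 (BT.leaf cE560) (BT.leaf cE561)) (BT.leaf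 cE562)) (BT.node 564 (BT.node 563 (BT.leaf cE563) (BT.leaf cE564)) (BT.leaf cE565)))) (BT.node 571 (BT.node 568 (BT.node 567 (BT.node 566 (BT.leaf cE566) (BT.leaf cE567)) (BT.leaf cE568)) (BT.node 570 (BT.node 569 (BT.leaf cE569) (BT.leaf cE570)) (BT.leaf cE571))) (BT.node 574 (BT.node 573 (BT.node 572 (BT.leaf cE572) (BT.leaf cE573)) (BT.leaf cE574)) (BT.node 576 (BT.node 575 (BT.leaf cE575) (BT.leaf cE576)) (BT.leaf cE577)))))))) (BT.node 673 (BT.node 625 (BT.node 601 (BT.node 589 (BT.node 583 (BT.node 580 (BT.node 579 (BT.node 578 (BT.leaf cE578) (BT.leaf cE579)) (BT.leaf cE580)) (BT.node 582 (BT.node 581 (BT.leaf cE581) (BT.leaf cE582)) (BT.leaf cE583))) (BT.node 586 (BT.node 585 (BT.node 584 (BT.leaf cE584) (BT.leaf cE585)) (BT.leaf cE586)) (BT.node 588 (BT.node 587 (BT.leaf cE587) (BT.leaf cE588)) (BT.leaf cE589)))) (BT.node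 595 (BT.node 592 (BT.node 591 (BT.node 590 (BT.leaf cE590) (BT.leaf cE591)) (BT.leaf cE592)) (BT.node 594 (BT.node 593 (BT.leaf cE593) (BT.leaf cE594)) (BT.leaf cE595))) (BT.node 598 (BT.node 597 (BT.node 596 (BT.leaf cE596) (BT.leaf cE597)) (BT.leaf cE598)) (BT.node 600 (BT.node 599 (BT.leaf cE599) (BT.leaf cE600)) (BT.leaf cE601))))) (BT.node 613 (BT.node 607 (BT.node 604 (BT.node 603 (BT.node 602 (BT.leaf cE602) (BT.leaf cE603)) (BT.leaf cE604)) (BT.node 606 (BT.node 605 (BT.leaf cE605) (BT.leaf cE606)) (BT.leaf cE607))) (BT.node 610 (BT.node 609 (BT.node 608 (BT.leaf cE608) (BT.leaf cE609)) (BT.leaf cE610)) (BT.node 612 (BT.node 611 (BT.leaf cE611) (BT.leaf cE612)) (BT.leaf cE613)))) (BT.node 619 (BT.node 616 (BT.node 615 (BT.node 614 (BT.leaf cE614) (BT.leaf cE615)) (BT.leaf cE616)) (BT.node 618 (BT.node 617 (BT.leaf cE617)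 (BT.leaf cE618)) (BT.leaf cE619))) (BT.node 622 (BT.node 621 (BT.node 620 (BT.leaf cE620) (BT.leaf cE621)) (BT.leaf cE622)) (BT.node 624 (BT.node 623 (BT.leaf cE623) (BT.leaf cE624)) (BT.leaf cE625)))))) (BT.node 649 (BT.node 637 (BT.node 631 (BT.node 628 (BT.node 627 (BT.node 626 (BT.leaf cE626) (BT.leaf cE627)) (BT.leaf cE628)) (BT.node 630 (BT.node 629 (BT.leaf cE629) (BT.leaf cE630)) (BT.leaf cE631))) (BT.node 634 (BT.node 633 (BT.node 632 (BT.leaf cE632) (BT.leaf cE633)) (BT.leaf cE634)) (BT.node 636 (BT.node 635 (BT.leaf cE635) (BT.leaf cE636)) (BT.leaf cE637)))) (BT.node 643 (BT.node 640 (BT.node 639 (BT.node 638 (BT.leaf cE638) (BT.leaf cE639)) (BT.leaf cE640)) (BT.node 642 (BT.node 641 (BT.leaf cE641) (BT.leaf cE642)) (BT.leaf cE643))) (BT.node 646 (BT.node 645 (BT.node 644 (BT.leaf cE644) (BT.leaf cE645)) (BT.leaf cE646))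 (BT.node 648 (BT.node 647 (BT.leaf cE647) (BT.leaf cE648)) (BT.leaf cE649))))) (BT.node 661 (BT.node 655 (BT.node 652 (BT.node 651 (BT.node 650 (BT.leaf cE650) (BT.leaf cE651)) (BT.leaf cE652)) (BT.node 654 (BT.node 653 (BT.leaf cE653) (BT.leaf cE654)) (BT.leaf cE655))) (BT.node 658 (BT.node 657 (BT.node 656 (BT.leaf cE656) (BT.leaf cE657)) (BT.leaf cE658)) (BT.node 660 (BT.node 659 (BT.leaf cE659) (BT.leaf cE660)) (BT.leaf cE661)))) (BT.node 667 (BT.node 664 (BT.node 663 (BT.node 662 (BT.leaf cE662) (BT.leaf cE663)) (BT.leaf cE664)) (BT.node 666 (BT.node 665 (BT.leaf cE665) (BT.leaf cE666)) (BT.leaf cE667))) (BT.node 670 (BT.node 669 (BT.node 668 (BT.leaf cE668) (BT.leaf cE669)) (BT.leaf cE670)) (BT.node 672 (BT.node 671 (BT.leaf cE671) (BT.leaf cE672)) (BT.leaf cE673))))))) (BT.node 721 (BT.node 697 (BT.node 685 (BT.node 679 (BT.node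 676 (BT.node 675 (BT.node 674 (BT.leaf cE674) (BT.leaf cE675)) (BT.leaf cE676)) (BT.node 678 (BT.node 677 (BT.leaf cE677) (BT.leaf cE678)) (BT.leaf cE679))) (BT.node 682 (BT.node 681 (BT.node 680 (BT.leaf cE680) (BT.leaf cE681)) (BT.leaf cE682)) (BT.node 684 (BT.node 683 (BT.leaf cE683) (BT.leaf cE684)) (BT.leaf cE685)))) (BT.node 691 (BT.node 688 (BT.node 687 (BT.node 686 (BT.leaf cE686) (BT.leaf cE687)) (BT.leaf cE688)) (BT.node 690 (BT.node 689 (BT.leaf cE689) (BT.leaf cE690)) (BT.leaf cE691))) (BT.node 694 (BT.node 693 (BT.node 692 (BT.leaf cE692) (BT.leaf cE693)) (BT.leaf cE694)) (BT.node 696 (BT.node 695 (BT.leaf cE695) (BT.leaf cE696)) (BT.leaf cE697))))) (BT.node 709 (BT.node 703 (BT.node 700 (BT.node 699 (BT.node 698 (BT.leaf cE698) (BT.leaf cE699)) (BT.leaf cE700)) (BT.node 702 (BT.node 701 (BT.leaf cE701) (BT.leaf cE702))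 (BT.leaf cE703))) (BT.node 706 (BT.node 705 (BT.node 704 (BT.leaf cE704) (BT.leaf cE705)) (BT.leaf cE706)) (BT.node 708 (BT.node 707 (BT.leaf cE707) (BT.leaf cE708)) (BT.leaf cE709)))) (BT.node 715 (BT.node 712 (BT.node 711 (BT.node 710 (BT.leaf cE710) (BT.leaf cE711)) (BT.leaf cE712)) (BT.node 714 (BT.node 713 (BT.leaf cE713) (BT.leaf cE714)) (BT.leaf cE715))) (BT.node 718 (BT.node 717 (BT.node 716 (BT.leaf cE716) (BT.leaf cE717)) (BT.leaf cE718)) (BT.node 720 (BT.node 719 (BT.leaf cE719) (BT.leaf cE720)) (BT.leaf cE721)))))) (BT.node 745 (BT.node 733 (BT.node 727 (BT.node 724 (BT.node 723 (BT.node 722 (BT.leaf cE722) (BT.leaf cE723)) (BT.leaf cE724)) (BT.node 726 (BT.node 725 (BT.leaf cE725) (BT.leaf cE726)) (BT.leaf cE727))) (BT.node 730 (BT.node 729 (BT.node 728 (BT.leaf cE728) (BT.leaf cE729)) (BT.leaf cE730)) (BT.node 732 (BT.node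 731 (BT.leaf cE731) (BT.leaf cE732)) (BT.leaf cE733)))) (BT.node 739 (BT.node 736 (BT.node 735 (BT.node 734 (BT.leaf cE734) (BT.leaf cE735)) (BT.leaf cE736)) (BT.node 738 (BT.node 737 (BT.leaf cE737) (BT.leaf cE738)) (BT.leaf cE739))) (BT.node 742 (BT.node 741 (BT.node 740 (BT.leaf cE740) (BT.leaf cE741)) (BT.leaf cE742)) (BT.node 744 (BT.node 743 (BT.leaf cE743) (BT.leaf cE744)) (BT.leaf cE745))))) (BT.node 757 (BT.node 751 (BT.node 748 (BT.node 747 (BT.node 746 (BT.leaf cE746) (BT.leaf cE747)) (BT.leaf cE748)) (BT.node 750 (BT.node 749 (BT.leaf cE749) (BT.leaf cE750)) (BT.leaf cE751))) (BT.node 754 (BT.node 753 (BT.node 752 (BT.leaf cE752) (BT.leaf cE753)) (BT.leaf cE754)) (BT.node 756 (BT.node 755 (BT.leaf cE755) (BT.leaf cE756)) (BT.leaf cE757)))) (BT.node 763 (BT.node 760 (BT.node 759 (BT.node 758 (BT.leaf cE758) (BT.leaf cE759))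 (BT.leaf cE760)) (BT.node 762 (BT.node 761 (BT.leaf cE761) (BT.leaf cE762)) (BT.leaf cE763))) (BT.node 766 (BT.node 765 (BT.node 764 (BT.leaf cE764) (BT.leaf cE765)) (BT.leaf cE766)) (BT.node 768 (BT.node 767 (BT.leaf cE767) (BT.leaf cE768)) (BT.leaf cE769)))))))))) (BT.node 1154 (BT.node 962 (BT.node 866 (BT.node 818 (BT.node 794 (BT.node 782 (BT.node 776 (BT.node 773 (BT.node 771 (BT.node 770 (BT.leaf cE770) (BT.leaf cE771)) (BT.node 772 (BT.leaf cE772) (BT.leaf cE773))) (BT.node 775 (BT.node 774 (BT.leaf cE774) (BT.leaf cE775)) (BT.leaf cE776))) (BT.node 779 (BT.node 778 (BT.node 777 (BT.leaf cE777) (BT.leaf cE778)) (BT.leaf cE779)) (BT.node 781 (BT.node 780 (BT.leaf cE780) (BT.leaf cE781)) (BT.leaf cE782)))) (BT.node 788 (BT.node 785 (BT.node 784 (BT.node 783 (BT.leaf cE783) (BT.leaf cE784)) (BT.leaf cE785)) (BT.node 787 (BT.node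 786 (BT.leaf cE786) (BT.leaf cE787)) (BT.leaf cE788))) (BT.node 791 (BT.node 790 (BT.node 789 (BT.leaf cE789) (BT.leaf cE790)) (BT.leaf cE791)) (BT.node 793 (BT.node 792 (BT.leaf cE792) (BT.leaf cE793)) (BT.leaf cE794))))) (BT.node 806 (BT.node 800 (BT.node 797 (BT.node 796 (BT.node 795 (BT.leaf cE795) (BT.leaf cE796)) (BT.leaf cE797)) (BT.node 799 (BT.node 798 (BT.leaf cE798) (BT.leaf cE799)) (BT.leaf cE800))) (BT.node 803 (BT.node 802 (BT.node 801 (BT.leaf cE801) (BT.leaf cE802)) (BT.leaf cE803)) (BT.node 805 (BT.node 804 (BT.leaf cE804) (BT.leaf cE805)) (BT.leaf cE806)))) (BT.node 812 (BT.node 809 (BT.node 808 (BT.node 807 (BT.leaf cE807) (BT.leaf cE808)) (BT.leaf cE809)) (BT.node 811 (BT.node 810 (BT.leaf cE810) (BT.leaf cE811)) (BT.leaf cE812))) (BT.node 815 (BT.node 814 (BT.node 813 (BT.leaf cE813) (BT.leaf cE814)) (BT.leaf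 cE815)) (BT.node 817 (BT.node 816 (BT.leaf cE816) (BT.leaf cE817)) (BT.leaf cE818)))))) (BT.node 842 (BT.node 830 (BT.node 824 (BT.node 821 (BT.node 820 (BT.node 819 (BT.leaf cE819) (BT.leaf cE820)) (BT.leaf cE821)) (BT.node 823 (BT.node 822 (BT.leaf cE822) (BT.leaf cE823)) (BT.leaf cE824))) (BT.node 827 (BT.node 826 (BT.node 825 (BT.leaf cE825) (BT.leaf cE826)) (BT.leaf cE827)) (BT.node 829 (BT.node 828 (BT.leaf cE828) (BT.leaf cE829)) (BT.leaf cE830)))) (BT.node 836 (BT.node 833 (BT.node 832 (BT.node 831 (BT.leaf cE831) (BT.leaf cE832)) (BT.leaf cE833)) (BT.node 835 (BT.node 834 (BT.leaf cE834) (BT.leaf cE835)) (BT.leaf cE836))) (BT.node 839 (BT.node 838 (BT.node 837 (BT.leaf cE837) (BT.leaf cE838)) (BT.leaf cE839)) (BT.node 841 (BT.node 840 (BT.leaf cE840) (BT.leaf cE841)) (BT.leaf cE842))))) (BT.node 854 (BT.node 848 (BT.node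 845 (BT.node 844 (BT.node 843 (BT.leaf cE843) (BT.leaf cE844)) (BT.leaf cE845)) (BT.node 847 (BT.node 846 (BT.leaf cE846) (BT.leaf cE847)) (BT.leaf cE848))) (BT.node 851 (BT.node 850 (BT.node 849 (BT.leaf cE849) (BT.leaf cE850)) (BT.leaf cE851)) (BT.node 853 (BT.node 852 (BT.leaf cE852) (BT.leaf cE853)) (BT.leaf cE854)))) (BT.node 860 (BT.node 857 (BT.node 856 (BT.node 855 (BT.leaf cE855) (BT.leaf cE856)) (BT.leaf cE857)) (BT.node 859 (BT.node 858 (BT.leaf cE858) (BT.leaf cE859)) (BT.leaf cE860))) (BT.node 863 (BT.node 862 (BT.node 861 (BT.leaf cE861) (BT.leaf cE862)) (BT.leaf cE863)) (BT.node 865 (BT.node 864 (BT.leaf cE864) (BT.leaf cE865)) (BT.leaf cE866))))))) (BT.node 914 (BT.node 890 (BT.node 878 (BT.node 872 (BT.node 869 (BT.node 868 (BT.node 867 (BT.leaf cE867) (BT.leaf cE868)) (BT.leaf cE869)) (BT.node 871 (BT.node 870 (BT.leaf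 cE870) (BT.leaf cE871)) (BT.leaf cE872))) (BT.node 875 (BT.node 874 (BT.node 873 (BT.leaf cE873) (BT.leaf cE874)) (BT.leaf cE875)) (BT.node 877 (BT.node 876 (BT.leaf cE876) (BT.leaf cE877)) (BT.leaf cE878)))) (BT.node 884 (BT.node 881 (BT.node 880 (BT.node 879 (BT.leaf cE879) (BT.leaf cE880)) (BT.leaf cE881)) (BT.node 883 (BT.node 882 (BT.leaf cE882) (BT.leaf cE883)) (BT.leaf cE884))) (BT.node 887 (BT.node 886 (BT.node 885 (BT.leaf cE885) (BT.leaf cE886)) (BT.leaf cE887)) (BT.node 889 (BT.node 888 (BT.leaf cE888) (BT.leaf cE889)) (BT.leaf cE890))))) (BT.node 902 (BT.node 896 (BT.node 893 (BT.node 892 (BT.node 891 (BT.leaf cE891) (BT.leaf cE892)) (BT.leaf cE893)) (BT.node 895 (BT.node 894 (BT.leaf cE894) (BT.leaf cE895)) (BT.leaf cE896))) (BT.node 899 (BT.node 898 (BT.node 897 (BT.leaf cE897) (BT.leaf cE898)) (BT.leaf cE899)) (BT.node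 901 (BT.node 900 (BT.leaf cE900) (BT.leaf cE901)) (BT.leaf cE902)))) (BT.node 908 (BT.node 905 (BT.node 904 (BT.node 903 (BT.leaf cE903) (BT.leaf cE904)) (BT.leaf cE905)) (BT.node 907 (BT.node 906 (BT.leaf cE906) (BT.leaf cE907)) (BT.leaf cE908))) (BT.node 911 (BT.node 910 (BT.node 909 (BT.leaf cE909) (BT.leaf cE910)) (BT.leaf cE911)) (BT.node 913 (BT.node 912 (BT.leaf cE912) (BT.leaf cE913)) (BT.leaf cE914)))))) (BT.node 938 (BT.node 926 (BT.node 920 (BT.node 917 (BT.node 916 (BT.node 915 (BT.leaf cE915) (BT.leaf cE916)) (BT.leaf cE917)) (BT.node 919 (BT.node 918 (BT.leaf cE918) (BT.leaf cE919)) (BT.leaf cE920))) (BT.node 923 (BT.node 922 (BT.node 921 (BT.leaf cE921) (BT.leaf cE922)) (BT.leaf cE923)) (BT.node 925 (BT.node 924 (BT.leaf cE924) (BT.leaf cE925)) (BT.leaf cE926)))) (BT.node 932 (BT.node 929 (BT.node 928 (BT.node 927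 (BT.leaf cE927) (BT.leaf cE928)) (BT.leaf cE929)) (BT.node 931 (BT.node 930 (BT.leaf cE930) (BT.leaf cE931)) (BT.leaf cE932))) (BT.node 935 (BT.node 934 (BT.node 933 (BT.leaf cE933) (BT.leaf cE934)) (BT.leaf cE935)) (BT.node 937 (BT.node 936 (BT.leaf cE936) (BT.leaf cE937)) (BT.leaf cE938))))) (BT.node 950 (BT.node 944 (BT.node 941 (BT.node 940 (BT.node 939 (BT.leaf cE939) (BT.leaf cE940)) (BT.leaf cE941)) (BT.node 943 (BT.node 942 (BT.leaf cE942) (BT.leaf cE943)) (BT.leaf cE944))) (BT.node 947 (BT.node 946 (BT.node 945 (BT.leaf cE945) (BT.leaf cE946)) (BT.leaf cE947)) (BT.node 949 (BT.node 948 (BT.leaf cE948) (BT.leaf cE949)) (BT.leaf cE950)))) (BT.node 956 (BT.node 953 (BT.node 952 (BT.node 951 (BT.leaf cE951) (BT.leaf cE952)) (BT.leaf cE953)) (BT.node 955 (BT.node 954 (BT.leaf cE954) (BT.leaf cE955)) (BT.leaf cE956))) (BT.node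 959 (BT.node 958 (BT.node 957 (BT.leaf cE957) (BT.leaf cE958)) (BT.leaf cE959)) (BT.node 961 (BT.node 960 (BT.leaf cE960) (BT.leaf cE961)) (BT.leaf cE962)))))))) (BT.node 1058 (BT.node 1010 (BT.node 986 (BT.node 974 (BT.node 968 (BT.node 965 (BT.node 964 (BT.node 963 (BT.leaf cE963) (BT.leaf cE964)) (BT.leaf cE965)) (BT.node 967 (BT.node 966 (BT.leaf cE966) (BT.leaf cE967)) (BT.leaf cE968))) (BT.node 971 (BT.node 970 (BT.node 969 (BT.leaf cE969) (BT.leaf cE970)) (BT.leaf cE971)) (BT.node 973 (BT.node 972 (BT.leaf cE972) (BT.leaf cE973)) (BT.leaf cE974)))) (BT.node 980 (BT.node 977 (BT.node 976 (BT.node 975 (BT.leaf cE975) (BT.leaf cE976)) (BT.leaf cE977)) (BT.node 979 (BT.node 978 (BT.leaf cE978) (BT.leaf cE979)) (BT.leaf cE980))) (BT.node 983 (BT.node 982 (BT.node 981 (BT.leaf cE981) (BT.leaf cE982)) (BT.leaf cE983)) (BT.node 985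 (BT.node 984 (BT.leaf cE984) (BT.leaf cE985)) (BT.leaf cE986))))) (BT.node 998 (BT.node 992 (BT.node 989 (BT.node 988 (BT.node 987 (BT.leaf cE987) (BT.leaf cE988)) (BT.leaf cE989)) (BT.node 991 (BT.node 990 (BT.leaf cE990) (BT.leaf cE991)) (BT.leaf cE992))) (BT.node 995 (BT.node 994 (BT.node 993 (BT.leaf cE993) (BT.leaf cE994)) (BT.leaf cE995)) (BT.node 997 (BT.node 996 (BT.leaf cE996) (BT.leaf cE997)) (BT.leaf cE998)))) (BT.node 1004 (BT.node 1001 (BT.node 1000 (BT.node 999 (BT.leaf cE999) (BT.leaf cE1000)) (BT.leaf cE1001)) (BT.node 1003 (BT.node 1002 (BT.leaf cE1002) (BT.leaf cE1003)) (BT.leaf cE1004))) (BT.node 1007 (BT.node 1006 (BT.node 1005 (BT.leaf cE1005) (BT.leaf cE1006)) (BT.leaf cE1007)) (BT.node 1009 (BT.node 1008 (BT.leaf cE1008) (BT.leaf cE1009)) (BT.leaf cE1010)))))) (BT.node 1034 (BT.node 1022 (BT.node 1016 (BT.node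 1013 (BT.node 1012 (BT.node 1011 (BT.leaf cE1011) (BT.leaf cE1012)) (BT.leaf cE1013)) (BT.node 1015 (BT.node 1014 (BT.leaf cE1014) (BT.leaf cE1015)) (BT.leaf cE1016))) (BT.node 1019 (BT.node 1018 (BT.node 1017 (BT.leaf cE1017) (BT.leaf cE1018)) (BT.leaf cE1019)) (BT.node 1021 (BT.node 1020 (BT.leaf cE1020) (BT.leaf cE1021)) (BT.leaf cE1022)))) (BT.node 1028 (BT.node 1025 (BT.node 1024 (BT.node 1023 (BT.leaf cE1023) (BT.leaf cE1024)) (BT.leaf cE1025)) (BT.node 1027 (BT.node 1026 (BT.leaf cE1026) (BT.leaf cE1027)) (BT.leaf cE1028))) (BT.node 1031 (BT.node 1030 (BT.node 1029 (BT.leaf cE1029) (BT.leaf cE1030)) (BT.leaf cE1031)) (BT.node 1033 (BT.node 1032 (BT.leaf cE1032) (BT.leaf cE1033)) (BT.leaf cE1034))))) (BT.node 1046 (BT.node 1040 (BT.node 1037 (BT.node 1036 (BT.node 1035 (BT.leaf cE1035) (BT.leaf cE1036)) (BT.leaf cE1037)) (BT.node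 1039 (BT.node 1038 (BT.leaf cE1038) (BT.leaf cE1039)) (BT.leaf cE1040))) (BT.node 1043 (BT.node 1042 (BT.node 1041 (BT.leaf cE1041) (BT.leaf cE1042)) (BT.leaf cE1043)) (BT.node 1045 (BT.node 1044 (BT.leaf cE1044) (BT.leaf cE1045)) (BT.leaf cE1046)))) (BT.node 1052 (BT.node 1049 (BT.node 1048 (BT.node 1047 (BT.leaf cE1047) (BT.leaf cE1048)) (BT.leaf cE1049)) (BT.node 1051 (BT.node 1050 (BT.leaf cE1050) (BT.leaf cE1051)) (BT.leaf cE1052))) (BT.node 1055 (BT.node 1054 (BT.node 1053 (BT.leaf cE1053) (BT.leaf cE1054)) (BT.leaf cE1055)) (BT.node 1057 (BT.node 1056 (BT.leaf cE1056) (BT.leaf cE1057)) (BT.leaf cE1058))))))) (BT.node 1106 (BT.node 1082 (BT.node 1070 (BT.node 1064 (BT.node 1061 (BT.node 1060 (BT.node 1059 (BT.leaf cE1059) (BT.leaf cE1060)) (BT.leaf cE1061)) (BT.node 1063 (BT.node 1062 (BT.leaf cE1062) (BT.leaf cE1063)) (BT.leaf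 cE1064))) (BT.node 1067 (BT.node 1066 (BT.node 1065 (BT.leaf cE1065) (BT.leaf cE1066)) (BT.leaf cE1067)) (BT.node 1069 (BT.node 1068 (BT.leaf cE1068) (BT.leaf cE1069)) (BT.leaf cE1070)))) (BT.node 1076 (BT.node 1073 (BT.node 1072 (BT.node 1071 (BT.leaf cE1071) (BT.leaf cE1072)) (BT.leaf cE1073)) (BT.node 1075 (BT.node 1074 (BT.leaf cE1074) (BT.leaf cE1075)) (BT.leaf cE1076))) (BT.node 1079 (BT.node 1078 (BT.node 1077 (BT.leaf cE1077) (BT.leaf cE1078)) (BT.leaf cE1079)) (BT.node 1081 (BT.node 1080 (BT.leaf cE1080) (BT.leaf cE1081)) (BT.leaf cE1082))))) (BT.node 1094 (BT.node 1088 (BT.node 1085 (BT.node 1084 (BT.node 1083 (BT.leaf cE1083) (BT.leaf cE1084)) (BT.leaf cE1085)) (BT.node 1087 (BT.node 1086 (BT.leaf cE1086) (BT.leaf cE1087)) (BT.leaf cE1088))) (BT.node 1091 (BT.node 1090 (BT.node 1089 (BT.leaf cE1089) (BT.leaf cE1090)) (BT.leaf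 cE1091)) (BT.node 1093 (BT.node 1092 (BT.leaf cE1092) (BT.leaf cE1093)) (BT.leaf cE1094)))) (BT.node 1100 (BT.node 1097 (BT.node 1096 (BT.node 1095 (BT.leaf cE1095) (BT.leaf cE1096)) (BT.leaf cE1097)) (BT.node 1099 (BT.node 1098 (BT.leaf cE1098) (BT.leaf cE1099)) (BT.leaf cE1100))) (BT.node 1103 (BT.node 1102 (BT.node 1101 (BT.leaf cE1101) (BT.leaf cE1102)) (BT.leaf cE1103)) (BT.node 1105 (BT.node 1104 (BT.leaf cE1104) (BT.leaf cE1105)) (BT.leaf cE1106)))))) (BT.node 1130 (BT.node 1118 (BT.node 1112 (BT.node 1109 (BT.node 1108 (BT.node 1107 (BT.leaf cE1107) (BT.leaf cE1108)) (BT.leaf cE1109)) (BT.node 1111 (BT.node 1110 (BT.leaf cE1110) (BT.leaf cE1111)) (BT.leaf cE1112))) (BT.node 1115 (BT.node 1114 (BT.node 1113 (BT.leaf cE1113) (BT.leaf cE1114)) (BT.leaf cE1115)) (BT.node 1117 (BT.node 1116 (BT.leaf cE1116) (BT.leaf cE1117)) (BT.leaf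 cE1118)))) (BT.node 1124 (BT.node 1121 (BT.node 1120 (BT.node 1119 (BT.leaf cE1119) (BT.leaf cE1120)) (BT.leaf cE1121)) (BT.node 1123 (BT.node 1122 (BT.leaf cE1122) (BT.leaf cE1123)) (BT.leaf cE1124))) (BT.node 1127 (BT.node 1126 (BT.node 1125 (BT.leaf cE1125) (BT.leaf cE1126)) (BT.leaf cE1127)) (BT.node 1129 (BT.node 1128 (BT.leaf cE1128) (BT.leaf cE1129)) (BT.leaf cE1130))))) (BT.node 1142 (BT.node 1136 (BT.node 1133 (BT.node 1132 (BT.node 1131 (BT.leaf cE1131) (BT.leaf cE1132)) (BT.leaf cE1133)) (BT.node 1135 (BT.node 1134 (BT.leaf cE1134) (BT.leaf cE1135)) (BT.leaf cE1136))) (BT.node 1139 (BT.node 1138 (BT.node 1137 (BT.leaf cE1137) (BT.leaf cE1138)) (BT.leaf cE1139)) (BT.node 1141 (BT.node 1140 (BT.leaf cE1140) (BT.leaf cE1141)) (BT.leaf cE1142)))) (BT.node 1148 (BT.node 1145 (BT.node 1144 (BT.node 1143 (BT.leaf cE1143) (BT.leaf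 cE1144)) (BT.leaf cE1145)) (BT.node 1147 (BT.node 1146 (BT.leaf cE1146) (BT.leaf cE1147)) (BT.leaf cE1148))) (BT.node 1151 (BT.node 1150 (BT.node 1149 (BT.leaf cE1149) (BT.leaf cE1150)) (BT.leaf cE1151)) (BT.node 1153 (BT.node 1152 (BT.leaf cE1152) (BT.leaf cE1153)) (BT.leaf cE1154))))))))) (BT.node 1346 (BT.node 1250 (BT.node 1202 (BT.node 1178 (BT.node 1166 (BT.node 1160 (BT.node 1157 (BT.node 1156 (BT.node 1155 (BT.leaf cE1155) (BT.leaf cE1156)) (BT.leaf cE1157)) (BT.node 1159 (BT.node 1158 (BT.leaf cE1158) (BT.leaf cE1159)) (BT.leaf cE1160))) (BT.node 1163 (BT.node 1162 (BT.node 1161 (BT.leaf cE1161) (BT.leaf cE1162)) (BT.leaf cE1163)) (BT.node 1165 (BT.node 1164 (BT.leaf cE1164) (BT.leaf cE1165)) (BT.leaf cE1166)))) (BT.node 1172 (BT.node 1169 (BT.node 1168 (BT.node 1167 (BT.leaf cE1167) (BT.leaf cE1168)) (BT.leaf cE1169)) (BT.node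 1171 (BT.node 1170 (BT.leaf cE1170) (BT.leaf cE1171)) (BT.leaf cE1172))) (BT.node 1175 (BT.node 1174 (BT.node 1173 (BT.leaf cE1173) (BT.leaf cE1174)) (BT.leaf cE1175)) (BT.node 1177 (BT.node 1176 (BT.leaf cE1176) (BT.leaf cE1177)) (BT.leaf cE1178))))) (BT.node 1190 (BT.node 1184 (BT.node 1181 (BT.node 1180 (BT.node 1179 (BT.leaf cE1179) (BT.leaf cE1180)) (BT.leaf cE1181)) (BT.node 1183 (BT.node 1182 (BT.leaf cE1182) (BT.leaf cE1183)) (BT.leaf cE1184))) (BT.node 1187 (BT.node 1186 (BT.node 1185 (BT.leaf cE1185) (BT.leaf cE1186)) (BT.leaf cE1187)) (BT.node 1189 (BT.node 1188 (BT.leaf cE1188) (BT.leaf cE1189)) (BT.leaf cE1190)))) (BT.node 1196 (BT.node 1193 (BT.node 1192 (BT.node 1191 (BT.leaf cE1191) (BT.leaf cE1192)) (BT.leaf cE1193)) (BT.node 1195 (BT.node 1194 (BT.leaf cE1194) (BT.leaf cE1195)) (BT.leaf cE1196))) (BT.node 1199 (BT.node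 1198 (BT.node 1197 (BT.leaf cE1197) (BT.leaf cE1198)) (BT.leaf cE1199)) (BT.node 1201 (BT.node 1200 (BT.leaf cE1200) (BT.leaf cE1201)) (BT.leaf cE1202)))))) (BT.node 1226 (BT.node 1214 (BT.node 1208 (BT.node 1205 (BT.node 1204 (BT.node 1203 (BT.leaf cE1203) (BT.leaf cE1204)) (BT.leaf cE1205)) (BT.node 1207 (BT.node 1206 (BT.leaf cE1206) (BT.leaf cE1207)) (BT.leaf cE1208))) (BT.node 1211 (BT.node 1210 (BT.node 1209 (BT.leaf cE1209) (BT.leaf cE1210)) (BT.leaf cE1211)) (BT.node 1213 (BT.node 1212 (BT.leaf cE1212) (BT.leaf cE1213)) (BT.leaf cE1214)))) (BT.node 1220 (BT.node 1217 (BT.node 1216 (BT.node 1215 (BT.leaf cE1215) (BT.leaf cE1216)) (BT.leaf cE1217)) (BT.node 1219 (BT.node 1218 (BT.leaf cE1218) (BT.leaf cE1219)) (BT.leaf cE1220))) (BT.node 1223 (BT.node 1222 (BT.node 1221 (BT.leaf cE1221) (BT.leaf cE1222)) (BT.leaf cE1223)) (BT.node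 1225 (BT.node 1224 (BT.leaf cE1224) (BT.leaf cE1225)) (BT.leaf cE1226))))) (BT.node 1238 (BT.node 1232 (BT.node 1229 (BT.node 1228 (BT.node 1227 (BT.leaf cE1227) (BT.leaf cE1228)) (BT.leaf cE1229)) (BT.node 1231 (BT.node 1230 (BT.leaf cE1230) (BT.leaf cE1231)) (BT.leaf cE1232))) (BT.node 1235 (BT.node 1234 (BT.node 1233 (BT.leaf cE1233) (BT.leaf cE1234)) (BT.leaf cE1235)) (BT.node 1237 (BT.node 1236 (BT.leaf cE1236) (BT.leaf cE1237)) (BT.leaf cE1238)))) (BT.node 1244 (BT.node 1241 (BT.node 1240 (BT.node 1239 (BT.leaf cE1239) (BT.leaf cE1240)) (BT.leaf cE1241)) (BT.node 1243 (BT.node 1242 (BT.leaf cE1242) (BT.leaf cE1243)) (BT.leaf cE1244))) (BT.node 1247 (BT.node 1246 (BT.node 1245 (BT.leaf cE1245) (BT.leaf cE1246)) (BT.leaf cE1247)) (BT.node 1249 (BT.node 1248 (BT.leaf cE1248) (BT.leaf cE1249)) (BT.leaf cE1250))))))) (BT.node 1298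 (BT.node 1274 (BT.node 1262 (BT.node 1256 (BT.node 1253 (BT.node 1252 (BT.node 1251 (BT.leaf cE1251) (BT.leaf cE1252)) (BT.leaf cE1253)) (BT.node 1255 (BT.node 1254 (BT.leaf cE1254) (BT.leaf cE1255)) (BT.leaf cE1256))) (BT.node 1259 (BT.node 1258 (BT.node 1257 (BT.leaf cE1257) (BT.leaf cE1258)) (BT.leaf cE1259)) (BT.node 1261 (BT.node 1260 (BT.leaf cE1260) (BT.leaf cE1261)) (BT.leaf cE1262)))) (BT.node 1268 (BT.node 1265 (BT.node 1264 (BT.node 1263 (BT.leaf cE1263) (BT.leaf cE1264)) (BT.leaf cE1265)) (BT.node 1267 (BT.node 1266 (BT.leaf cE1266) (BT.leaf cE1267)) (BT.leaf cE1268))) (BT.node 1271 (BT.node 1270 (BT.node 1269 (BT.leaf cE1269) (BT.leaf cE1270)) (BT.leaf cE1271)) (BT.node 1273 (BT.node 1272 (BT.leaf cE1272) (BT.leaf cE1273)) (BT.leaf cE1274))))) (BT.node 1286 (BT.node 1280 (BT.node 1277 (BT.node 1276 (BT.node 1275 (BT.leaf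 cE1275) (BT.leaf cE1276)) (BT.leaf cE1277)) (BT.node 1279 (BT.node 1278 (BT.leaf cE1278) (BT.leaf cE1279)) (BT.leaf cE1280))) (BT.node 1283 (BT.node 1282 (BT.node 1281 (BT.leaf cE1281) (BT.leaf cE1282)) (BT.leaf cE1283)) (BT.node 1285 (BT.node 1284 (BT.leaf cE1284) (BT.leaf cE1285)) (BT.leaf cE1286)))) (BT.node 1292 (BT.node 1289 (BT.node 1288 (BT.node 1287 (BT.leaf cE1287) (BT.leaf cE1288)) (BT.leaf cE1289)) (BT.node 1291 (BT.node 1290 (BT.leaf cE1290) (BT.leaf cE1291)) (BT.leaf cE1292))) (BT.node 1295 (BT.node 1294 (BT.node 1293 (BT.leaf cE1293) (BT.leaf cE1294)) (BT.leaf cE1295)) (BT.node 1297 (BT.node 1296 (BT.leaf cE1296) (BT.leaf cE1297)) (BT.leaf cE1298)))))) (BT.node 1322 (BT.node 1310 (BT.node 1304 (BT.node 1301 (BT.node 1300 (BT.node 1299 (BT.leaf cE1299) (BT.leaf cE1300)) (BT.leaf cE1301)) (BT.node 1303 (BT.node 1302 (BT.leaf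 cE1302) (BT.leaf cE1303)) (BT.leaf cE1304))) (BT.node 1307 (BT.node 1306 (BT.node 1305 (BT.leaf cE1305) (BT.leaf cE1306)) (BT.leaf cE1307)) (BT.node 1309 (BT.node 1308 (BT.leaf cE1308) (BT.leaf cE1309)) (BT.leaf cE1310)))) (BT.node 1316 (BT.node 1313 (BT.node 1312 (BT.node 1311 (BT.leaf cE1311) (BT.leaf cE1312)) (BT.leaf cE1313)) (BT.node 1315 (BT.node 1314 (BT.leaf cE1314) (BT.leaf cE1315)) (BT.leaf cE1316))) (BT.node 1319 (BT.node 1318 (BT.node 1317 (BT.leaf cE1317) (BT.leaf cE1318)) (BT.leaf cE1319)) (BT.node 1321 (BT.node 1320 (BT.leaf cE1320) (BT.leaf cE1321)) (BT.leaf cE1322))))) (BT.node 1334 (BT.node 1328 (BT.node 1325 (BT.node 1324 (BT.node 1323 (BT.leaf cE1323) (BT.leaf cE1324)) (BT.leaf cE1325)) (BT.node 1327 (BT.node 1326 (BT.leaf cE1326) (BT.leaf cE1327)) (BT.leaf cE1328))) (BT.node 1331 (BT.node 1330 (BT.node 1329 (BT.leaf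 cE1329) (BT.leaf cE1330)) (BT.leaf cE1331)) (BT.node 1333 (BT.node 1332 (BT.leaf cE1332) (BT.leaf cE1333)) (BT.leaf cE1334)))) (BT.node 1340 (BT.node 1337 (BT.node 1336 (BT.node 1335 (BT.leaf cE1335) (BT.leaf cE1336)) (BT.leaf cE1337)) (BT.node 1339 (BT.node 1338 (BT.leaf cE1338) (BT.leaf cE1339)) (BT.leaf cE1340))) (BT.node 1343 (BT.node 1342 (BT.node 1341 (BT.leaf cE1341) (BT.leaf cE1342)) (BT.leaf cE1343)) (BT.node 1345 (BT.node 1344 (BT.leaf cE1344) (BT.leaf cE1345)) (BT.leaf cE1346)))))))) (BT.node 1442 (BT.node 1394 (BT.node 1370 (BT.node 1358 (BT.node 1352 (BT.node 1349 (BT.node 1348 (BT.node 1347 (BT.leaf cE1347) (BT.leaf cE1348)) (BT.leaf cE1349)) (BT.node 1351 (BT.node 1350 (BT.leaf cE1350) (BT.leaf cE1351)) (BT.leaf cE1352))) (BT.node 1355 (BT.node 1354 (BT.node 1353 (BT.leaf cE1353) (BT.leaf cE1354)) (BT.leaf cE1355))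 (BT.node 1357 (BT.node 1356 (BT.leaf cE1356) (BT.leaf cE1357)) (BT.leaf cE1358)))) (BT.node 1364 (BT.node 1361 (BT.node 1360 (BT.node 1359 (BT.leaf cE1359) (BT.leaf cE1360)) (BT.leaf cE1361)) (BT.node 1363 (BT.node 1362 (BT.leaf cE1362) (BT.leaf cE1363)) (BT.leaf cE1364))) (BT.node 1367 (BT.node 1366 (BT.node 1365 (BT.leaf cE1365) (BT.leaf cE1366)) (BT.leaf cE1367)) (BT.node 1369 (BT.node 1368 (BT.leaf cE1368) (BT.leaf cE1369)) (BT.leaf cE1370))))) (BT.node 1382 (BT.node 1376 (BT.node 1373 (BT.node 1372 (BT.node 1371 (BT.leaf cE1371) (BT.leaf cE1372)) (BT.leaf cE1373)) (BT.node 1375 (BT.node 1374 (BT.leaf cE1374) (BT.leaf cE1375)) (BT.leaf cE1376))) (BT.node 1379 (BT.node 1378 (BT.node 1377 (BT.leaf cE1377) (BT.leaf cE1378)) (BT.leaf cE1379)) (BT.node 1381 (BT.node 1380 (BT.leaf cE1380) (BT.leaf cE1381)) (BT.leaf cE1382)))) (BT.node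 1388 (BT.node 1385 (BT.node 1384 (BT.node 1383 (BT.leaf cE1383) (BT.leaf cE1384)) (BT.leaf cE1385)) (BT.node 1387 (BT.node 1386 (BT.leaf cE1386) (BT.leaf cE1387)) (BT.leaf cE1388))) (BT.node 1391 (BT.node 1390 (BT.node 1389 (BT.leaf cE1389) (BT.leaf cE1390)) (BT.leaf cE1391)) (BT.node 1393 (BT.node 1392 (BT.leaf cE1392) (BT.leaf cE1393)) (BT.leaf cE1394)))))) (BT.node 1418 (BT.node 1406 (BT.node 1400 (BT.node 1397 (BT.node 1396 (BT.node 1395 (BT.leaf cE1395) (BT.leaf cE1396)) (BT.leaf cE1397)) (BT.node 1399 (BT.node 1398 (BT.leaf cE1398) (BT.leaf cE1399)) (BT.leaf cE1400))) (BT.node 1403 (BT.node 1402 (BT.node 1401 (BT.leaf cE1401) (BT.leaf cE1402)) (BT.leaf cE1403)) (BT.node 1405 (BT.node 1404 (BT.leaf cE1404) (BT.leaf cE1405)) (BT.leaf cE1406)))) (BT.node 1412 (BT.node 1409 (BT.node 1408 (BT.node 1407 (BT.leaf cE1407) (BT.leaf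 cE1408)) (BT.leaf cE1409)) (BT.node 1411 (BT.node 1410 (BT.leaf cE1410) (BT.leaf cE1411)) (BT.leaf cE1412))) (BT.node 1415 (BT.node 1414 (BT.node 1413 (BT.leaf cE1413) (BT.leaf cE1414)) (BT.leaf cE1415)) (BT.node 1417 (BT.node 1416 (BT.leaf cE1416) (BT.leaf cE1417)) (BT.leaf cE1418))))) (BT.node 1430 (BT.node 1424 (BT.node 1421 (BT.node 1420 (BT.node 1419 (BT.leaf cE1419) (BT.leaf cE1420)) (BT.leaf cE1421)) (BT.node 1423 (BT.node 1422 (BT.leaf cE1422) (BT.leaf cE1423)) (BT.leaf cE1424))) (BT.node 1427 (BT.node 1426 (BT.node 1425 (BT.leaf cE1425) (BT.leaf cE1426)) (BT.leaf cE1427)) (BT.node 1429 (BT.node 1428 (BT.leaf cE1428) (BT.leaf cE1429)) (BT.leaf cE1430)))) (BT.node 1436 (BT.node 1433 (BT.node 1432 (BT.node 1431 (BT.leaf cE1431) (BT.leaf cE1432)) (BT.leaf cE1433)) (BT.node 1435 (BT.node 1434 (BT.leaf cE1434) (BT.leaf cE1435))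 (BT.leaf cE1436))) (BT.node 1439 (BT.node 1438 (BT.node 1437 (BT.leaf cE1437) (BT.leaf cE1438)) (BT.leaf cE1439)) (BT.node 1441 (BT.node 1440 (BT.leaf cE1440) (BT.leaf cE1441)) (BT.leaf cE1442))))))) (BT.node 1490 (BT.node 1466 (BT.node 1454 (BT.node 1448 (BT.node 1445 (BT.node 1444 (BT.node 1443 (BT.leaf cE1443) (BT.leaf cE1444)) (BT.leaf cE1445)) (BT.node 1447 (BT.node 1446 (BT.leaf cE1446) (BT.leaf cE1447)) (BT.leaf cE1448))) (BT.node 1451 (BT.node 1450 (BT.node 1449 (BT.leaf cE1449) (BT.leaf cE1450)) (BT.leaf cE1451)) (BT.node 1453 (BT.node 1452 (BT.leaf cE1452) (BT.leaf cE1453)) (BT.leaf cE1454)))) (BT.node 1460 (BT.node 1457 (BT.node 1456 (BT.node 1455 (BT.leaf cE1455) (BT.leaf cE1456)) (BT.leaf cE1457)) (BT.node 1459 (BT.node 1458 (BT.leaf cE1458) (BT.leaf cE1459)) (BT.leaf cE1460))) (BT.node 1463 (BT.node 1462 (BT.node 1461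 (BT.leaf cE1461) (BT.leaf cE1462)) (BT.leaf cE1463)) (BT.node 1465 (BT.node 1464 (BT.leaf cE1464) (BT.leaf cE1465)) (BT.leaf cE1466))))) (BT.node 1478 (BT.node 1472 (BT.node 1469 (BT.node 1468 (BT.node 1467 (BT.leaf cE1467) (BT.leaf cE1468)) (BT.leaf cE1469)) (BT.node 1471 (BT.node 1470 (BT.leaf cE1470) (BT.leaf cE1471)) (BT.leaf cE1472))) (BT.node 1475 (BT.node 1474 (BT.node 1473 (BT.leaf cE1473) (BT.leaf cE1474)) (BT.leaf cE1475)) (BT.node 1477 (BT.node 1476 (BT.leaf cE1476) (BT.leaf cE1477)) (BT.leaf cE1478)))) (BT.node 1484 (BT.node 1481 (BT.node 1480 (BT.node 1479 (BT.leaf cE1479) (BT.leaf cE1480)) (BT.leaf cE1481)) (BT.node 1483 (BT.node 1482 (BT.leaf cE1482) (BT.leaf cE1483)) (BT.leaf cE1484))) (BT.node 1487 (BT.node 1486 (BT.node 1485 (BT.leaf cE1485) (BT.leaf cE1486)) (BT.leaf cE1487)) (BT.node 1489 (BT.node 1488 (BT.leaf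 cE1488) (BT.leaf cE1489)) (BT.leaf cE1490)))))) (BT.node 1514 (BT.node 1502 (BT.node 1496 (BT.node 1493 (BT.node 1492 (BT.node 1491 (BT.leaf cE1491) (BT.leaf cE1492)) (BT.leaf cE1493)) (BT.node 1495 (BT.node 1494 (BT.leaf cE1494) (BT.leaf cE1495)) (BT.leaf cE1496))) (BT.node 1499 (BT.node 1498 (BT.node 1497 (BT.leaf cE1497) (BT.leaf cE1498)) (BT.leaf cE1499)) (BT.node 1501 (BT.node 1500 (BT.leaf cE1500) (BT.leaf cE1501)) (BT.leaf cE1502)))) (BT.node 1508 (BT.node 1505 (BT.node 1504 (BT.node 1503 (BT.leaf cE1503) (BT.leaf cE1504)) (BT.leaf cE1505)) (BT.node 1507 (BT.node 1506 (BT.leaf cE1506) (BT.leaf cE1507)) (BT.leaf cE1508))) (BT.node 1511 (BT.node 1510 (BT.node 1509 (BT.leaf cE1509) (BT.leaf cE1510)) (BT.leaf cE1511)) (BT.node 1513 (BT.node 1512 (BT.leaf cE1512) (BT.leaf cE1513)) (BT.leaf cE1514))))) (BT.node 1526 (BT.node 1520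 (BT.node 1517 (BT.node 1516 (BT.node 1515 (BT.leaf cE1515) (BT.leaf cE1516)) (BT.leaf cE1517)) (BT.node 1519 (BT.node 1518 (BT.leaf cE1518) (BT.leaf cE1519)) (BT.leaf cE1520))) (BT.node 1523 (BT.node 1522 (BT.node 1521 (BT.leaf cE1521) (BT.leaf cE1522)) (BT.leaf cE1523)) (BT.node 1525 (BT.node 1524 (BT.leaf cE1524) (BT.leaf cE1525)) (BT.leaf cE1526)))) (BT.node 1532 (BT.node 1529 (BT.node 1528 (BT.node 1527 (BT.leaf cE1527) (BT.leaf cE1528)) (BT.leaf cE1529)) (BT.node 1531 (BT.node 1530 (BT.leaf cE1530) (BT.leaf cE1531)) (BT.leaf cE1532))) (BT.node 1535 (BT.node 1534 (BT.node 1533 (BT.leaf cE1533) (BT.leaf cE1534)) (BT.leaf cE1535)) (BT.node 1537 (BT.node 1536 (BT.leaf cE1536) (BT.leaf cE1537)) (BT.leaf cE1538)))))))))))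
/-- justification chunks -/
def colJT : BT ℕ := (BT.node 769 (BT.node 384 (BT.node 192 (BT.node 96 (BT.node 48 (BT.node 24 (BT.node 12 (BT.node 6 (BT.node 3 (BT.node 1 (BT.node 0 (BT.leaf cJ0) (BT.leaf cJ1)) (BT.node 2 (BT.leaf cJ2) (BT.leaf cJ3))) (BT.node 5 (BT.node 4 (BT.leaf cJ4) (BT.leaf cJ5)) (BT.leaf cJ6))) (BT.node 9 (BT.node 8 (BT.node 7 (BT.leaf cJ7) (BT.leaf cJ8)) (BT.leaf cJ9)) (BT.node 11 (BT.node 10 (BT.leaf cJ10) (BT.leaf cJ11)) (BT.leaf cJ12)))) (BT.node 18 (BT.node 15 (BT.node 14 (BT.node 13 (BT.leaf cJ13) (BT.leaf cJ14)) (BT.leaf cJ15)) (BT.node 17 (BT.node 16 (BT.leaf cJ16) (BT.leaf cJ17)) (BT.leaf cJ18))) (BT.node 21 (BT.node 20 (BT.node 19 (BT.leaf cJ19) (BT.leaf cJ20)) (BT.leaf cJ21)) (BT.node 23 (BT.node 22 (BT.leaf cJ22) (BT.leaf cJ23)) (BT.leaf cJ24))))) (BT.node 36 (BT.node 30 (BT.node 27 (BT.node 26 (BT.node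 25 (BT.leaf cJ25) (BT.leaf cJ26)) (BT.leaf cJ27)) (BT.node 29 (BT.node 28 (BT.leaf cJ28) (BT.leaf cJ29)) (BT.leaf cJ30))) (BT.node 33 (BT.node 32 (BT.node 31 (BT.leaf cJ31) (BT.leaf cJ32)) (BT.leaf cJ33)) (BT.node 35 (BT.node 34 (BT.leaf cJ34) (BT.leaf cJ35)) (BT.leaf cJ36)))) (BT.node 42 (BT.node 39 (BT.node 38 (BT.node 37 (BT.leaf cJ37) (BT.leaf cJ38)) (BT.leaf cJ39)) (BT.node 41 (BT.node 40 (BT.leaf cJ40) (BT.leaf cJ41)) (BT.leaf cJ42))) (BT.node 45 (BT.node 44 (BT.node 43 (BT.leaf cJ43) (BT.leaf cJ44)) (BT.leaf cJ45)) (BT.node 47 (BT.node 46 (BT.leaf cJ46) (BT.leaf cJ47)) (BT.leaf cJ48)))))) (BT.node 72 (BT.node 60 (BT.node 54 (BT.node 51 (BT.node 50 (BT.node 49 (BT.leaf cJ49) (BT.leaf cJ50)) (BT.leaf cJ51)) (BT.node 53 (BT.node 52 (BT.leaf cJ52) (BT.leaf cJ53)) (BT.leaf cJ54))) (BT.node 57 (BT.node 56 (BT.node 55 (BT.leaf cJ55)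 (BT.leaf cJ56)) (BT.leaf cJ57)) (BT.node 59 (BT.node 58 (BT.leaf cJ58) (BT.leaf cJ59)) (BT.leaf cJ60)))) (BT.node 66 (BT.node 63 (BT.node 62 (BT.node 61 (BT.leaf cJ61) (BT.leaf cJ62)) (BT.leaf cJ63)) (BT.node 65 (BT.node 64 (BT.leaf cJ64) (BT.leaf cJ65)) (BT.leaf cJ66))) (BT.node 69 (BT.node 68 (BT.node 67 (BT.leaf cJ67) (BT.leaf cJ68)) (BT.leaf cJ69)) (BT.node 71 (BT.node 70 (BT.leaf cJ70) (BT.leaf cJ71)) (BT.leaf cJ72))))) (BT.node 84 (BT.node 78 (BT.node 75 (BT.node 74 (BT.node 73 (BT.leaf cJ73) (BT.leaf cJ74)) (BT.leaf cJ75)) (BT.node 77 (BT.node 76 (BT.leaf cJ76) (BT.leaf cJ77)) (BT.leaf cJ78))) (BT.node 81 (BT.node 80 (BT.node 79 (BT.leaf cJ79) (BT.leaf cJ80)) (BT.leaf cJ81)) (BT.node 83 (BT.node 82 (BT.leaf cJ82) (BT.leaf cJ83)) (BT.leaf cJ84)))) (BT.node 90 (BT.node 87 (BT.node 86 (BT.node 85 (BT.leaf cJ85) (BT.leaf cJ86))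 (BT.leaf cJ87)) (BT.node 89 (BT.node 88 (BT.leaf cJ88) (BT.leaf cJ89)) (BT.leaf cJ90))) (BT.node 93 (BT.node 92 (BT.node 91 (BT.leaf cJ91) (BT.leaf cJ92)) (BT.leaf cJ93)) (BT.node 95 (BT.node 94 (BT.leaf cJ94) (BT.leaf cJ95)) (BT.leaf cJ96))))))) (BT.node 144 (BT.node 120 (BT.node 108 (BT.node 102 (BT.node 99 (BT.node 98 (BT.node 97 (BT.leaf cJ97) (BT.leaf cJ98)) (BT.leaf cJ99)) (BT.node 101 (BT.node 100 (BT.leaf cJ100) (BT.leaf cJ101)) (BT.leaf cJ102))) (BT.node 105 (BT.node 104 (BT.node 103 (BT.leaf cJ103) (BT.leaf cJ104)) (BT.leaf cJ105)) (BT.node 107 (BT.node 106 (BT.leaf cJ106) (BT.leaf cJ107)) (BT.leaf cJ108)))) (BT.node 114 (BT.node 111 (BT.node 110 (BT.node 109 (BT.leaf cJ109) (BT.leaf cJ110)) (BT.leaf cJ111)) (BT.node 113 (BT.node 112 (BT.leaf cJ112) (BT.leaf cJ113)) (BT.leaf cJ114))) (BT.node 117 (BT.node 116 (BT.node 115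 (BT.leaf cJ115) (BT.leaf cJ116)) (BT.leaf cJ117)) (BT.node 119 (BT.node 118 (BT.leaf cJ118) (BT.leaf cJ119)) (BT.leaf cJ120))))) (BT.node 132 (BT.node 126 (BT.node 123 (BT.node 122 (BT.node 121 (BT.leaf cJ121) (BT.leaf cJ122)) (BT.leaf cJ123)) (BT.node 125 (BT.node 124 (BT.leaf cJ124) (BT.leaf cJ125)) (BT.leaf cJ126))) (BT.node 129 (BT.node 128 (BT.node 127 (BT.leaf cJ127) (BT.leaf cJ128)) (BT.leaf cJ129)) (BT.node 131 (BT.node 130 (BT.leaf cJ130) (BT.leaf cJ131)) (BT.leaf cJ132)))) (BT.node 138 (BT.node 135 (BT.node 134 (BT.node 133 (BT.leaf cJ133) (BT.leaf cJ134)) (BT.leaf cJ135)) (BT.node 137 (BT.node 136 (BT.leaf cJ136) (BT.leaf cJ137)) (BT.leaf cJ138))) (BT.node 141 (BT.node 140 (BT.node 139 (BT.leaf cJ139) (BT.leaf cJ140)) (BT.leaf cJ141)) (BT.node 143 (BT.node 142 (BT.leaf cJ142) (BT.leaf cJ143)) (BT.leaf cJ144)))))) (BT.node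 168 (BT.node 156 (BT.node 150 (BT.node 147 (BT.node 146 (BT.node 145 (BT.leaf cJ145) (BT.leaf cJ146)) (BT.leaf cJ147)) (BT.node 149 (BT.node 148 (BT.leaf cJ148) (BT.leaf cJ149)) (BT.leaf cJ150))) (BT.node 153 (BT.node 152 (BT.node 151 (BT.leaf cJ151) (BT.leaf cJ152)) (BT.leaf cJ153)) (BT.node 155 (BT.node 154 (BT.leaf cJ154) (BT.leaf cJ155)) (BT.leaf cJ156)))) (BT.node 162 (BT.node 159 (BT.node 158 (BT.node 157 (BT.leaf cJ157) (BT.leaf cJ158)) (BT.leaf cJ159)) (BT.node 161 (BT.node 160 (BT.leaf cJ160) (BT.leaf cJ161)) (BT.leaf cJ162))) (BT.node 165 (BT.node 164 (BT.node 163 (BT.leaf cJ163) (BT.leaf cJ164)) (BT.leaf cJ165)) (BT.node 167 (BT.node 166 (BT.leaf cJ166) (BT.leaf cJ167)) (BT.leaf cJ168))))) (BT.node 180 (BT.node 174 (BT.node 171 (BT.node 170 (BT.node 169 (BT.leaf cJ169) (BT.leaf cJ170)) (BT.leaf cJ171)) (BT.node 173 (BT.node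 172 (BT.leaf cJ172) (BT.leaf cJ173)) (BT.leaf cJ174))) (BT.node 177 (BT.node 176 (BT.node 175 (BT.leaf cJ175) (BT.leaf cJ176)) (BT.leaf cJ177)) (BT.node 179 (BT.node 178 (BT.leaf cJ178) (BT.leaf cJ179)) (BT.leaf cJ180)))) (BT.node 186 (BT.node 183 (BT.node 182 (BT.node 181 (BT.leaf cJ181) (BT.leaf cJ182)) (BT.leaf cJ183)) (BT.node 185 (BT.node 184 (BT.leaf cJ184) (BT.leaf cJ185)) (BT.leaf cJ186))) (BT.node 189 (BT.node 188 (BT.node 187 (BT.leaf cJ187) (BT.leaf cJ188)) (BT.leaf cJ189)) (BT.node 191 (BT.node 190 (BT.leaf cJ190) (BT.leaf cJ191)) (BT.leaf cJ192)))))))) (BT.node 288 (BT.node 240 (BT.node 216 (BT.node 204 (BT.node 198 (BT.node 195 (BT.node 194 (BT.node 193 (BT.leaf cJ193) (BT.leaf cJ194)) (BT.leaf cJ195)) (BT.node 197 (BT.node 196 (BT.leaf cJ196) (BT.leaf cJ197)) (BT.leaf cJ198))) (BT.node 201 (BT.node 200 (BT.node 199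 (BT.leaf cJ199) (BT.leaf cJ200)) (BT.leaf cJ201)) (BT.node 203 (BT.node 202 (BT.leaf cJ202) (BT.leaf cJ203)) (BT.leaf cJ204)))) (BT.node 210 (BT.node 207 (BT.node 206 (BT.node 205 (BT.leaf cJ205) (BT.leaf cJ206)) (BT.leaf cJ207)) (BT.node 209 (BT.node 208 (BT.leaf cJ208) (BT.leaf cJ209)) (BT.leaf cJ210))) (BT.node 213 (BT.node 212 (BT.node 211 (BT.leaf cJ211) (BT.leaf cJ212)) (BT.leaf cJ213)) (BT.node 215 (BT.node 214 (BT.leaf cJ214) (BT.leaf cJ215)) (BT.leaf cJ216))))) (BT.node 228 (BT.node 222 (BT.node 219 (BT.node 218 (BT.node 217 (BT.leaf cJ217) (BT.leaf cJ218)) (BT.leaf cJ219)) (BT.node 221 (BT.node 220 (BT.leaf cJ220) (BT.leaf cJ221)) (BT.leaf cJ222))) (BT.node 225 (BT.node 224 (BT.node 223 (BT.leaf cJ223) (BT.leaf cJ224)) (BT.leaf cJ225)) (BT.node 227 (BT.node 226 (BT.leaf cJ226) (BT.leaf cJ227)) (BT.leaf cJ228)))) (BT.node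 234 (BT.node 231 (BT.node 230 (BT.node 229 (BT.leaf cJ229) (BT.leaf cJ230)) (BT.leaf cJ231)) (BT.node 233 (BT.node 232 (BT.leaf cJ232) (BT.leaf cJ233)) (BT.leaf cJ234))) (BT.node 237 (BT.node 236 (BT.node 235 (BT.leaf cJ235) (BT.leaf cJ236)) (BT.leaf cJ237)) (BT.node 239 (BT.node 238 (BT.leaf cJ238) (BT.leaf cJ239)) (BT.leaf cJ240)))))) (BT.node 264 (BT.node 252 (BT.node 246 (BT.node 243 (BT.node 242 (BT.node 241 (BT.leaf cJ241) (BT.leaf cJ242)) (BT.leaf cJ243)) (BT.node 245 (BT.node 244 (BT.leaf cJ244) (BT.leaf cJ245)) (BT.leaf cJ246))) (BT.node 249 (BT.node 248 (BT.node 247 (BT.leaf cJ247) (BT.leaf cJ248)) (BT.leaf cJ249)) (BT.node 251 (BT.node 250 (BT.leaf cJ250) (BT.leaf cJ251)) (BT.leaf cJ252)))) (BT.node 258 (BT.node 255 (BT.node 254 (BT.node 253 (BT.leaf cJ253) (BT.leaf cJ254)) (BT.leaf cJ255)) (BT.node 257 (BT.node 256 (BT.leaf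 cJ256) (BT.leaf cJ257)) (BT.leaf cJ258))) (BT.node 261 (BT.node 260 (BT.node 259 (BT.leaf cJ259) (BT.leaf cJ260)) (BT.leaf cJ261)) (BT.node 263 (BT.node 262 (BT.leaf cJ262) (BT.leaf cJ263)) (BT.leaf cJ264))))) (BT.node 276 (BT.node 270 (BT.node 267 (BT.node 266 (BT.node 265 (BT.leaf cJ265) (BT.leaf cJ266)) (BT.leaf cJ267)) (BT.node 269 (BT.node 268 (BT.leaf cJ268) (BT.leaf cJ269)) (BT.leaf cJ270))) (BT.node 273 (BT.node 272 (BT.node 271 (BT.leaf cJ271) (BT.leaf cJ272)) (BT.leaf cJ273)) (BT.node 275 (BT.node 274 (BT.leaf cJ274) (BT.leaf cJ275)) (BT.leaf cJ276)))) (BT.node 282 (BT.node 279 (BT.node 278 (BT.node 277 (BT.leaf cJ277) (BT.leaf cJ278)) (BT.leaf cJ279)) (BT.node 281 (BT.node 280 (BT.leaf cJ280) (BT.leaf cJ281)) (BT.leaf cJ282))) (BT.node 285 (BT.node 284 (BT.node 283 (BT.leaf cJ283) (BT.leaf cJ284)) (BT.leaf cJ285)) (BT.node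 287 (BT.node 286 (BT.leaf cJ286) (BT.leaf cJ287)) (BT.leaf cJ288))))))) (BT.node 336 (BT.node 312 (BT.node 300 (BT.node 294 (BT.node 291 (BT.node 290 (BT.node 289 (BT.leaf cJ289) (BT.leaf cJ290)) (BT.leaf cJ291)) (BT.node 293 (BT.node 292 (BT.leaf cJ292) (BT.leaf cJ293)) (BT.leaf cJ294))) (BT.node 297 (BT.node 296 (BT.node 295 (BT.leaf cJ295) (BT.leaf cJ296)) (BT.leaf cJ297)) (BT.node 299 (BT.node 298 (BT.leaf cJ298) (BT.leaf cJ299)) (BT.leaf cJ300)))) (BT.node 306 (BT.node 303 (BT.node 302 (BT.node 301 (BT.leaf cJ301) (BT.leaf cJ302)) (BT.leaf cJ303)) (BT.node 305 (BT.node 304 (BT.leaf cJ304) (BT.leaf cJ305)) (BT.leaf cJ306))) (BT.node 309 (BT.node 308 (BT.node 307 (BT.leaf cJ307) (BT.leaf cJ308)) (BT.leaf cJ309)) (BT.node 311 (BT.node 310 (BT.leaf cJ310) (BT.leaf cJ311)) (BT.leaf cJ312))))) (BT.node 324 (BT.node 318 (BT.node 315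 (BT.node 314 (BT.node 313 (BT.leaf cJ313) (BT.leaf cJ314)) (BT.leaf cJ315)) (BT.node 317 (BT.node 316 (BT.leaf cJ316) (BT.leaf cJ317)) (BT.leaf cJ318))) (BT.node 321 (BT.node 320 (BT.node 319 (BT.leaf cJ319) (BT.leaf cJ320)) (BT.leaf cJ321)) (BT.node 323 (BT.node 322 (BT.leaf cJ322) (BT.leaf cJ323)) (BT.leaf cJ324)))) (BT.node 330 (BT.node 327 (BT.node 326 (BT.node 325 (BT.leaf cJ325) (BT.leaf cJ326)) (BT.leaf cJ327)) (BT.node 329 (BT.node 328 (BT.leaf cJ328) (BT.leaf cJ329)) (BT.leaf cJ330))) (BT.node 333 (BT.node 332 (BT.node 331 (BT.leaf cJ331) (BT.leaf cJ332)) (BT.leaf cJ333)) (BT.node 335 (BT.node 334 (BT.leaf cJ334) (BT.leaf cJ335)) (BT.leaf cJ336)))))) (BT.node 360 (BT.node 348 (BT.node 342 (BT.node 339 (BT.node 338 (BT.node 337 (BT.leaf cJ337) (BT.leaf cJ338)) (BT.leaf cJ339)) (BT.node 341 (BT.node 340 (BT.leaf cJ340) (BT.leaf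 cJ341)) (BT.leaf cJ342))) (BT.node 345 (BT.node 344 (BT.node 343 (BT.leaf cJ343) (BT.leaf cJ344)) (BT.leaf cJ345)) (BT.node 347 (BT.node 346 (BT.leaf cJ346) (BT.leaf cJ347)) (BT.leaf cJ348)))) (BT.node 354 (BT.node 351 (BT.node 350 (BT.node 349 (BT.leaf cJ349) (BT.leaf cJ350)) (BT.leaf cJ351)) (BT.node 353 (BT.node 352 (BT.leaf cJ352) (BT.leaf cJ353)) (BT.leaf cJ354))) (BT.node 357 (BT.node 356 (BT.node 355 (BT.leaf cJ355) (BT.leaf cJ356)) (BT.leaf cJ357)) (BT.node 359 (BT.node 358 (BT.leaf cJ358) (BT.leaf cJ359)) (BT.leaf cJ360))))) (BT.node 372 (BT.node 366 (BT.node 363 (BT.node 362 (BT.node 361 (BT.leaf cJ361) (BT.leaf cJ362)) (BT.leaf cJ363)) (BT.node 365 (BT.node 364 (BT.leaf cJ364) (BT.leaf cJ365)) (BT.leaf cJ366))) (BT.node 369 (BT.node 368 (BT.node 367 (BT.leaf cJ367) (BT.leaf cJ368)) (BT.leaf cJ369)) (BT.node 371 (BT.node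 370 (BT.leaf cJ370) (BT.leaf cJ371)) (BT.leaf cJ372)))) (BT.node 378 (BT.node 375 (BT.node 374 (BT.node 373 (BT.leaf cJ373) (BT.leaf cJ374)) (BT.leaf cJ375)) (BT.node 377 (BT.node 376 (BT.leaf cJ376) (BT.leaf cJ377)) (BT.leaf cJ378))) (BT.node 381 (BT.node 380 (BT.node 379 (BT.leaf cJ379) (BT.leaf cJ380)) (BT.leaf cJ381)) (BT.node 383 (BT.node 382 (BT.leaf cJ382) (BT.leaf cJ383)) (BT.leaf cJ384))))))))) (BT.node 577 (BT.node 481 (BT.node 433 (BT.node 409 (BT.node 397 (BT.node 391 (BT.node 388 (BT.node 386 (BT.node 385 (BT.leaf cJ385) (BT.leaf cJ386)) (BT.node 387 (BT.leaf cJ387) (BT.leaf cJ388))) (BT.node 390 (BT.node 389 (BT.leaf cJ389) (BT.leaf cJ390)) (BT.leaf cJ391))) (BT.node 394 (BT.node 393 (BT.node 392 (BT.leaf cJ392) (BT.leaf cJ393)) (BT.leaf cJ394)) (BT.node 396 (BT.node 395 (BT.leaf cJ395) (BT.leaf cJ396)) (BT.leaf cJ397))))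 (BT.node 403 (BT.node 400 (BT.node 399 (BT.node 398 (BT.leaf cJ398) (BT.leaf cJ399)) (BT.leaf cJ400)) (BT.node 402 (BT.node 401 (BT.leaf cJ401) (BT.leaf cJ402)) (BT.leaf cJ403))) (BT.node 406 (BT.node 405 (BT.node 404 (BT.leaf cJ404) (BT.leaf cJ405)) (BT.leaf cJ406)) (BT.node 408 (BT.node 407 (BT.leaf cJ407) (BT.leaf cJ408)) (BT.leaf cJ409))))) (BT.node 421 (BT.node 415 (BT.node 412 (BT.node 411 (BT.node 410 (BT.leaf cJ410) (BT.leaf cJ411)) (BT.leaf cJ412)) (BT.node 414 (BT.node 413 (BT.leaf cJ413) (BT.leaf cJ414)) (BT.leaf cJ415))) (BT.node 418 (BT.node 417 (BT.node 416 (BT.leaf cJ416) (BT.leaf cJ417)) (BT.leaf cJ418)) (BT.node 420 (BT.node 419 (BT.leaf cJ419) (BT.leaf cJ420)) (BT.leaf cJ421)))) (BT.node 427 (BT.node 424 (BT.node 423 (BT.node 422 (BT.leaf cJ422) (BT.leaf cJ423)) (BT.leaf cJ424)) (BT.node 426 (BT.node 425 (BT.leaf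 cJ425) (BT.leaf cJ426)) (BT.leaf cJ427))) (BT.node 430 (BT.node 429 (BT.node 428 (BT.leaf cJ428) (BT.leaf cJ429)) (BT.leaf cJ430)) (BT.node 432 (BT.node 431 (BT.leaf cJ431) (BT.leaf cJ432)) (BT.leaf cJ433)))))) (BT.node 457 (BT.node 445 (BT.node 439 (BT.node 436 (BT.node 435 (BT.node 434 (BT.leaf cJ434) (BT.leaf cJ435)) (BT.leaf cJ436)) (BT.node 438 (BT.node 437 (BT.leaf cJ437) (BT.leaf cJ438)) (BT.leaf cJ439))) (BT.node 442 (BT.node 441 (BT.node 440 (BT.leaf cJ440) (BT.leaf cJ441)) (BT.leaf cJ442)) (BT.node 444 (BT.node 443 (BT.leaf cJ443) (BT.leaf cJ444)) (BT.leaf cJ445)))) (BT.node 451 (BT.node 448 (BT.node 447 (BT.node 446 (BT.leaf cJ446) (BT.leaf cJ447)) (BT.leaf cJ448)) (BT.node 450 (BT.node 449 (BT.leaf cJ449) (BT.leaf cJ450)) (BT.leaf cJ451))) (BT.node 454 (BT.node 453 (BT.node 452 (BT.leaf cJ452) (BT.leaf cJ453)) (BT.leaf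 cJ454)) (BT.node 456 (BT.node 455 (BT.leaf cJ455) (BT.leaf cJ456)) (BT.leaf cJ457))))) (BT.node 469 (BT.node 463 (BT.node 460 (BT.node 459 (BT.node 458 (BT.leaf cJ458) (BT.leaf cJ459)) (BT.leaf cJ460)) (BT.node 462 (BT.node 461 (BT.leaf cJ461) (BT.leaf cJ462)) (BT.leaf cJ463))) (BT.node 466 (BT.node 465 (BT.node 464 (BT.leaf cJ464) (BT.leaf cJ465)) (BT.leaf cJ466)) (BT.node 468 (BT.node 467 (BT.leaf cJ467) (BT.leaf cJ468)) (BT.leaf cJ469)))) (BT.node 475 (BT.node 472 (BT.node 471 (BT.node 470 (BT.leaf cJ470) (BT.leaf cJ471)) (BT.leaf cJ472)) (BT.node 474 (BT.node 473 (BT.leaf cJ473) (BT.leaf cJ474)) (BT.leaf cJ475))) (BT.node 478 (BT.node 477 (BT.node 476 (BT.leaf cJ476) (BT.leaf cJ477)) (BT.leaf cJ478)) (BT.node 480 (BT.node 479 (BT.leaf cJ479) (BT.leaf cJ480)) (BT.leaf cJ481))))))) (BT.node 529 (BT.node 505 (BT.node 493 (BT.node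 487 (BT.node 484 (BT.node 483 (BT.node 482 (BT.leaf cJ482) (BT.leaf cJ483)) (BT.leaf cJ484)) (BT.node 486 (BT.node 485 (BT.leaf cJ485) (BT.leaf cJ486)) (BT.leaf cJ487))) (BT.node 490 (BT.node 489 (BT.node 488 (BT.leaf cJ488) (BT.leaf cJ489)) (BT.leaf cJ490)) (BT.node 492 (BT.node 491 (BT.leaf cJ491) (BT.leaf cJ492)) (BT.leaf cJ493)))) (BT.node 499 (BT.node 496 (BT.node 495 (BT.node 494 (BT.leaf cJ494) (BT.leaf cJ495)) (BT.leaf cJ496)) (BT.node 498 (BT.node 497 (BT.leaf cJ497) (BT.leaf cJ498)) (BT.leaf cJ499))) (BT.node 502 (BT.node 501 (BT.node 500 (BT.leaf cJ500) (BT.leaf cJ501)) (BT.leaf cJ502)) (BT.node 504 (BT.node 503 (BT.leaf cJ503) (BT.leaf cJ504)) (BT.leaf cJ505))))) (BT.node 517 (BT.node 511 (BT.node 508 (BT.node 507 (BT.node 506 (BT.leaf cJ506) (BT.leaf cJ507)) (BT.leaf cJ508)) (BT.node 510 (BT.node 509 (BT.leaf cJ509)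 (BT.leaf cJ510)) (BT.leaf cJ511))) (BT.node 514 (BT.node 513 (BT.node 512 (BT.leaf cJ512) (BT.leaf cJ513)) (BT.leaf cJ514)) (BT.node 516 (BT.node 515 (BT.leaf cJ515) (BT.leaf cJ516)) (BT.leaf cJ517)))) (BT.node 523 (BT.node 520 (BT.node 519 (BT.node 518 (BT.leaf cJ518) (BT.leaf cJ519)) (BT.leaf cJ520)) (BT.node 522 (BT.node 521 (BT.leaf cJ521) (BT.leaf cJ522)) (BT.leaf cJ523))) (BT.node 526 (BT.node 525 (BT.node 524 (BT.leaf cJ524) (BT.leaf cJ525)) (BT.leaf cJ526)) (BT.node 528 (BT.node 527 (BT.leaf cJ527) (BT.leaf cJ528)) (BT.leaf cJ529)))))) (BT.node 553 (BT.node 541 (BT.node 535 (BT.node 532 (BT.node 531 (BT.node 530 (BT.leaf cJ530) (BT.leaf cJ531)) (BT.leaf cJ532)) (BT.node 534 (BT.node 533 (BT.leaf cJ533) (BT.leaf cJ534)) (BT.leaf cJ535))) (BT.node 538 (BT.node 537 (BT.node 536 (BT.leaf cJ536) (BT.leaf cJ537)) (BT.leaf cJ538))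 (BT.node 540 (BT.node 539 (BT.leaf cJ539) (BT.leaf cJ540)) (BT.leaf cJ541)))) (BT.node 547 (BT.node 544 (BT.node 543 (BT.node 542 (BT.leaf cJ542) (BT.leaf cJ543)) (BT.leaf cJ544)) (BT.node 546 (BT.node 545 (BT.leaf cJ545) (BT.leaf cJ546)) (BT.leaf cJ547))) (BT.node 550 (BT.node 549 (BT.node 548 (BT.leaf cJ548) (BT.leaf cJ549)) (BT.leaf cJ550)) (BT.node 552 (BT.node 551 (BT.leaf cJ551) (BT.leaf cJ552)) (BT.leaf cJ553))))) (BT.node 565 (BT.node 559 (BT.node 556 (BT.node 555 (BT.node 554 (BT.leaf cJ554) (BT.leaf cJ555)) (BT.leaf cJ556)) (BT.node 558 (BT.node 557 (BT.leaf cJ557) (BT.leaf cJ558)) (BT.leaf cJ559))) (BT.node 562 (BT.node 561 (BT.node 560 (BT.leaf cJ560) (BT.leaf cJ561)) (BT.leaf cJ562)) (BT.node 564 (BT.node 563 (BT.leaf cJ563) (BT.leaf cJ564)) (BT.leaf cJ565)))) (BT.node 571 (BT.node 568 (BT.node 567 (BT.node 566 (BT.leaf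 cJ566) (BT.leaf cJ567)) (BT.leaf cJ568)) (BT.node 570 (BT.node 569 (BT.leaf cJ569) (BT.leaf cJ570)) (BT.leaf cJ571))) (BT.node 574 (BT.node 573 (BT.node 572 (BT.leaf cJ572) (BT.leaf cJ573)) (BT.leaf cJ574)) (BT.node 576 (BT.node 575 (BT.leaf cJ575) (BT.leaf cJ576)) (BT.leaf cJ577)))))))) (BT.node 673 (BT.node 625 (BT.node 601 (BT.node 589 (BT.node 583 (BT.node 580 (BT.node 579 (BT.node 578 (BT.leaf cJ578) (BT.leaf cJ579)) (BT.leaf cJ580)) (BT.node 582 (BT.node 581 (BT.leaf cJ581) (BT.leaf cJ582)) (BT.leaf cJ583))) (BT.node 586 (BT.node 585 (BT.node 584 (BT.leaf cJ584) (BT.leaf cJ585)) (BT.leaf cJ586)) (BT.node 588 (BT.node 587 (BT.leaf cJ587) (BT.leaf cJ588)) (BT.leaf cJ589)))) (BT.node 595 (BT.node 592 (BT.node 591 (BT.node 590 (BT.leaf cJ590) (BT.leaf cJ591)) (BT.leaf cJ592)) (BT.node 594 (BT.node 593 (BT.leaf cJ593) (BT.leaf cJ594))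 (BT.leaf cJ595))) (BT.node 598 (BT.node 597 (BT.node 596 (BT.leaf cJ596) (BT.leaf cJ597)) (BT.leaf cJ598)) (BT.node 600 (BT.node 599 (BT.leaf cJ599) (BT.leaf cJ600)) (BT.leaf cJ601))))) (BT.node 613 (BT.node 607 (BT.node 604 (BT.node 603 (BT.node 602 (BT.leaf cJ602) (BT.leaf cJ603)) (BT.leaf cJ604)) (BT.node 606 (BT.node 605 (BT.leaf cJ605) (BT.leaf cJ606)) (BT.leaf cJ607))) (BT.node 610 (BT.node 609 (BT.node 608 (BT.leaf cJ608) (BT.leaf cJ609)) (BT.leaf cJ610)) (BT.node 612 (BT.node 611 (BT.leaf cJ611) (BT.leaf cJ612)) (BT.leaf cJ613)))) (BT.node 619 (BT.node 616 (BT.node 615 (BT.node 614 (BT.leaf cJ614) (BT.leaf cJ615)) (BT.leaf cJ616)) (BT.node 618 (BT.node 617 (BT.leaf cJ617) (BT.leaf cJ618)) (BT.leaf cJ619))) (BT.node 622 (BT.node 621 (BT.node 620 (BT.leaf cJ620) (BT.leaf cJ621)) (BT.leaf cJ622)) (BT.node 624 (BT.node 623 (BT.leaf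 cJ623) (BT.leaf cJ624)) (BT.leaf cJ625)))))) (BT.node 649 (BT.node 637 (BT.node 631 (BT.node 628 (BT.node 627 (BT.node 626 (BT.leaf cJ626) (BT.leaf cJ627)) (BT.leaf cJ628)) (BT.node 630 (BT.node 629 (BT.leaf cJ629) (BT.leaf cJ630)) (BT.leaf cJ631))) (BT.node 634 (BT.node 633 (BT.node 632 (BT.leaf cJ632) (BT.leaf cJ633)) (BT.leaf cJ634)) (BT.node 636 (BT.node 635 (BT.leaf cJ635) (BT.leaf cJ636)) (BT.leaf cJ637)))) (BT.node 643 (BT.node 640 (BT.node 639 (BT.node 638 (BT.leaf cJ638) (BT.leaf cJ639)) (BT.leaf cJ640)) (BT.node 642 (BT.node 641 (BT.leaf cJ641) (BT.leaf cJ642)) (BT.leaf cJ643))) (BT.node 646 (BT.node 645 (BT.node 644 (BT.leaf cJ644) (BT.leaf cJ645)) (BT.leaf cJ646)) (BT.node 648 (BT.node 647 (BT.leaf cJ647) (BT.leaf cJ648)) (BT.leaf cJ649))))) (BT.node 661 (BT.node 655 (BT.node 652 (BT.node 651 (BT.node 650 (BT.leaf cJ650)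 (BT.leaf cJ651)) (BT.leaf cJ652)) (BT.node 654 (BT.node 653 (BT.leaf cJ653) (BT.leaf cJ654)) (BT.leaf cJ655))) (BT.node 658 (BT.node 657 (BT.node 656 (BT.leaf cJ656) (BT.leaf cJ657)) (BT.leaf cJ658)) (BT.node 660 (BT.node 659 (BT.leaf cJ659) (BT.leaf cJ660)) (BT.leaf cJ661)))) (BT.node 667 (BT.node 664 (BT.node 663 (BT.node 662 (BT.leaf cJ662) (BT.leaf cJ663)) (BT.leaf cJ664)) (BT.node 666 (BT.node 665 (BT.leaf cJ665) (BT.leaf cJ666)) (BT.leaf cJ667))) (BT.node 670 (BT.node 669 (BT.node 668 (BT.leaf cJ668) (BT.leaf cJ669)) (BT.leaf cJ670)) (BT.node 672 (BT.node 671 (BT.leaf cJ671) (BT.leaf cJ672)) (BT.leaf cJ673))))))) (BT.node 721 (BT.node 697 (BT.node 685 (BT.node 679 (BT.node 676 (BT.node 675 (BT.node 674 (BT.leaf cJ674) (BT.leaf cJ675)) (BT.leaf cJ676)) (BT.node 678 (BT.node 677 (BT.leaf cJ677) (BT.leaf cJ678)) (BT.leaf cJ679)))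 (BT.node 682 (BT.node 681 (BT.node 680 (BT.leaf cJ680) (BT.leaf cJ681)) (BT.leaf cJ682)) (BT.node 684 (BT.node 683 (BT.leaf cJ683) (BT.leaf cJ684)) (BT.leaf cJ685)))) (BT.node 691 (BT.node 688 (BT.node 687 (BT.node 686 (BT.leaf cJ686) (BT.leaf cJ687)) (BT.leaf cJ688)) (BT.node 690 (BT.node 689 (BT.leaf cJ689) (BT.leaf cJ690)) (BT.leaf cJ691))) (BT.node 694 (BT.node 693 (BT.node 692 (BT.leaf cJ692) (BT.leaf cJ693)) (BT.leaf cJ694)) (BT.node 696 (BT.node 695 (BT.leaf cJ695) (BT.leaf cJ696)) (BT.leaf cJ697))))) (BT.node 709 (BT.node 703 (BT.node 700 (BT.node 699 (BT.node 698 (BT.leaf cJ698) (BT.leaf cJ699)) (BT.leaf cJ700)) (BT.node 702 (BT.node 701 (BT.leaf cJ701) (BT.leaf cJ702)) (BT.leaf cJ703))) (BT.node 706 (BT.node 705 (BT.node 704 (BT.leaf cJ704) (BT.leaf cJ705)) (BT.leaf cJ706)) (BT.node 708 (BT.node 707 (BT.leaf cJ707) (BT.leaf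 cJ708)) (BT.leaf cJ709)))) (BT.node 715 (BT.node 712 (BT.node 711 (BT.node 710 (BT.leaf cJ710) (BT.leaf cJ711)) (BT.leaf cJ712)) (BT.node 714 (BT.node 713 (BT.leaf cJ713) (BT.leaf cJ714)) (BT.leaf cJ715))) (BT.node 718 (BT.node 717 (BT.node 716 (BT.leaf cJ716) (BT.leaf cJ717)) (BT.leaf cJ718)) (BT.node 720 (BT.node 719 (BT.leaf cJ719) (BT.leaf cJ720)) (BT.leaf cJ721)))))) (BT.node 745 (BT.node 733 (BT.node 727 (BT.node 724 (BT.node 723 (BT.node 722 (BT.leaf cJ722) (BT.leaf cJ723)) (BT.leaf cJ724)) (BT.node 726 (BT.node 725 (BT.leaf cJ725) (BT.leaf cJ726)) (BT.leaf cJ727))) (BT.node 730 (BT.node 729 (BT.node 728 (BT.leaf cJ728) (BT.leaf cJ729)) (BT.leaf cJ730)) (BT.node 732 (BT.node 731 (BT.leaf cJ731) (BT.leaf cJ732)) (BT.leaf cJ733)))) (BT.node 739 (BT.node 736 (BT.node 735 (BT.node 734 (BT.leaf cJ734) (BT.leaf cJ735)) (BT.leaf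 cJ736)) (BT.node 738 (BT.node 737 (BT.leaf cJ737) (BT.leaf cJ738)) (BT.leaf cJ739))) (BT.node 742 (BT.node 741 (BT.node 740 (BT.leaf cJ740) (BT.leaf cJ741)) (BT.leaf cJ742)) (BT.node 744 (BT.node 743 (BT.leaf cJ743) (BT.leaf cJ744)) (BT.leaf cJ745))))) (BT.node 757 (BT.node 751 (BT.node 748 (BT.node 747 (BT.node 746 (BT.leaf cJ746) (BT.leaf cJ747)) (BT.leaf cJ748)) (BT.node 750 (BT.node 749 (BT.leaf cJ749) (BT.leaf cJ750)) (BT.leaf cJ751))) (BT.node 754 (BT.node 753 (BT.node 752 (BT.leaf cJ752) (BT.leaf cJ753)) (BT.leaf cJ754)) (BT.node 756 (BT.node 755 (BT.leaf cJ755) (BT.leaf cJ756)) (BT.leaf cJ757)))) (BT.node 763 (BT.node 760 (BT.node 759 (BT.node 758 (BT.leaf cJ758) (BT.leaf cJ759)) (BT.leaf cJ760)) (BT.node 762 (BT.node 761 (BT.leaf cJ761) (BT.leaf cJ762)) (BT.leaf cJ763))) (BT.node 766 (BT.node 765 (BT.node 764 (BT.leaf cJ764)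 (BT.leaf cJ765)) (BT.leaf cJ766)) (BT.node 768 (BT.node 767 (BT.leaf cJ767) (BT.leaf cJ768)) (BT.leaf cJ769)))))))))) (BT.node 1154 (BT.node 962 (BT.node 866 (BT.node 818 (BT.node 794 (BT.node 782 (BT.node 776 (BT.node 773 (BT.node 771 (BT.node 770 (BT.leaf cJ770) (BT.leaf cJ771)) (BT.node 772 (BT.leaf cJ772) (BT.leaf cJ773))) (BT.node 775 (BT.node 774 (BT.leaf cJ774) (BT.leaf cJ775)) (BT.leaf cJ776))) (BT.node 779 (BT.node 778 (BT.node 777 (BT.leaf cJ777) (BT.leaf cJ778)) (BT.leaf cJ779)) (BT.node 781 (BT.node 780 (BT.leaf cJ780) (BT.leaf cJ781)) (BT.leaf cJ782)))) (BT.node 788 (BT.node 785 (BT.node 784 (BT.node 783 (BT.leaf cJ783) (BT.leaf cJ784)) (BT.leaf cJ785)) (BT.node 787 (BT.node 786 (BT.leaf cJ786) (BT.leaf cJ787)) (BT.leaf cJ788))) (BT.node 791 (BT.node 790 (BT.node 789 (BT.leaf cJ789) (BT.leaf cJ790)) (BT.leaf cJ791))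 (BT.node 793 (BT.node 792 (BT.leaf cJ792) (BT.leaf cJ793)) (BT.leaf cJ794))))) (BT.node 806 (BT.node 800 (BT.node 797 (BT.node 796 (BT.node 795 (BT.leaf cJ795) (BT.leaf cJ796)) (BT.leaf cJ797)) (BT.node 799 (BT.node 798 (BT.leaf cJ798) (BT.leaf cJ799)) (BT.leaf cJ800))) (BT.node 803 (BT.node 802 (BT.node 801 (BT.leaf cJ801) (BT.leaf cJ802)) (BT.leaf cJ803)) (BT.node 805 (BT.node 804 (BT.leaf cJ804) (BT.leaf cJ805)) (BT.leaf cJ806)))) (BT.node 812 (BT.node 809 (BT.node 808 (BT.node 807 (BT.leaf cJ807) (BT.leaf cJ808)) (BT.leaf cJ809)) (BT.node 811 (BT.node 810 (BT.leaf cJ810) (BT.leaf cJ811)) (BT.leaf cJ812))) (BT.node 815 (BT.node 814 (BT.node 813 (BT.leaf cJ813) (BT.leaf cJ814)) (BT.leaf cJ815)) (BT.node 817 (BT.node 816 (BT.leaf cJ816) (BT.leaf cJ817)) (BT.leaf cJ818)))))) (BT.node 842 (BT.node 830 (BT.node 824 (BT.node 821 (BT.node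 820 (BT.node 819 (BT.leaf cJ819) (BT.leaf cJ820)) (BT.leaf cJ821)) (BT.node 823 (BT.node 822 (BT.leaf cJ822) (BT.leaf cJ823)) (BT.leaf cJ824))) (BT.node 827 (BT.node 826 (BT.node 825 (BT.leaf cJ825) (BT.leaf cJ826)) (BT.leaf cJ827)) (BT.node 829 (BT.node 828 (BT.leaf cJ828) (BT.leaf cJ829)) (BT.leaf cJ830)))) (BT.node 836 (BT.node 833 (BT.node 832 (BT.node 831 (BT.leaf cJ831) (BT.leaf cJ832)) (BT.leaf cJ833)) (BT.node 835 (BT.node 834 (BT.leaf cJ834) (BT.leaf cJ835)) (BT.leaf cJ836))) (BT.node 839 (BT.node 838 (BT.node 837 (BT.leaf cJ837) (BT.leaf cJ838)) (BT.leaf cJ839)) (BT.node 841 (BT.node 840 (BT.leaf cJ840) (BT.leaf cJ841)) (BT.leaf cJ842))))) (BT.node 854 (BT.node 848 (BT.node 845 (BT.node 844 (BT.node 843 (BT.leaf cJ843) (BT.leaf cJ844)) (BT.leaf cJ845)) (BT.node 847 (BT.node 846 (BT.leaf cJ846) (BT.leaf cJ847)) (BT.leaf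 cJ848))) (BT.node 851 (BT.node 850 (BT.node 849 (BT.leaf cJ849) (BT.leaf cJ850)) (BT.leaf cJ851)) (BT.node 853 (BT.node 852 (BT.leaf cJ852) (BT.leaf cJ853)) (BT.leaf cJ854)))) (BT.node 860 (BT.node 857 (BT.node 856 (BT.node 855 (BT.leaf cJ855) (BT.leaf cJ856)) (BT.leaf cJ857)) (BT.node 859 (BT.node 858 (BT.leaf cJ858) (BT.leaf cJ859)) (BT.leaf cJ860))) (BT.node 863 (BT.node 862 (BT.node 861 (BT.leaf cJ861) (BT.leaf cJ862)) (BT.leaf cJ863)) (BT.node 865 (BT.node 864 (BT.leaf cJ864) (BT.leaf cJ865)) (BT.leaf cJ866))))))) (BT.node 914 (BT.node 890 (BT.node 878 (BT.node 872 (BT.node 869 (BT.node 868 (BT.node 867 (BT.leaf cJ867) (BT.leaf cJ868)) (BT.leaf cJ869)) (BT.node 871 (BT.node 870 (BT.leaf cJ870) (BT.leaf cJ871)) (BT.leaf cJ872))) (BT.node 875 (BT.node 874 (BT.node 873 (BT.leaf cJ873) (BT.leaf cJ874)) (BT.leaf cJ875)) (BT.node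 877 (BT.node 876 (BT.leaf cJ876) (BT.leaf cJ877)) (BT.leaf cJ878)))) (BT.node 884 (BT.node 881 (BT.node 880 (BT.node 879 (BT.leaf cJ879) (BT.leaf cJ880)) (BT.leaf cJ881)) (BT.node 883 (BT.node 882 (BT.leaf cJ882) (BT.leaf cJ883)) (BT.leaf cJ884))) (BT.node 887 (BT.node 886 (BT.node 885 (BT.leaf cJ885) (BT.leaf cJ886)) (BT.leaf cJ887)) (BT.node 889 (BT.node 888 (BT.leaf cJ888) (BT.leaf cJ889)) (BT.leaf cJ890))))) (BT.node 902 (BT.node 896 (BT.node 893 (BT.node 892 (BT.node 891 (BT.leaf cJ891) (BT.leaf cJ892)) (BT.leaf cJ893)) (BT.node 895 (BT.node 894 (BT.leaf cJ894) (BT.leaf cJ895)) (BT.leaf cJ896))) (BT.node 899 (BT.node 898 (BT.node 897 (BT.leaf cJ897) (BT.leaf cJ898)) (BT.leaf cJ899)) (BT.node 901 (BT.node 900 (BT.leaf cJ900) (BT.leaf cJ901)) (BT.leaf cJ902)))) (BT.node 908 (BT.node 905 (BT.node 904 (BT.node 903 (BT.leaf cJ903)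 (BT.leaf cJ904)) (BT.leaf cJ905)) (BT.node 907 (BT.node 906 (BT.leaf cJ906) (BT.leaf cJ907)) (BT.leaf cJ908))) (BT.node 911 (BT.node 910 (BT.node 909 (BT.leaf cJ909) (BT.leaf cJ910)) (BT.leaf cJ911)) (BT.node 913 (BT.node 912 (BT.leaf cJ912) (BT.leaf cJ913)) (BT.leaf cJ914)))))) (BT.node 938 (BT.node 926 (BT.node 920 (BT.node 917 (BT.node 916 (BT.node 915 (BT.leaf cJ915) (BT.leaf cJ916)) (BT.leaf cJ917)) (BT.node 919 (BT.node 918 (BT.leaf cJ918) (BT.leaf cJ919)) (BT.leaf cJ920))) (BT.node 923 (BT.node 922 (BT.node 921 (BT.leaf cJ921) (BT.leaf cJ922)) (BT.leaf cJ923)) (BT.node 925 (BT.node 924 (BT.leaf cJ924) (BT.leaf cJ925)) (BT.leaf cJ926)))) (BT.node 932 (BT.node 929 (BT.node 928 (BT.node 927 (BT.leaf cJ927) (BT.leaf cJ928)) (BT.leaf cJ929)) (BT.node 931 (BT.node 930 (BT.leaf cJ930) (BT.leaf cJ931)) (BT.leaf cJ932))) (BT.node 935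 (BT.node 934 (BT.node 933 (BT.leaf cJ933) (BT.leaf cJ934)) (BT.leaf cJ935)) (BT.node 937 (BT.node 936 (BT.leaf cJ936) (BT.leaf cJ937)) (BT.leaf cJ938))))) (BT.node 950 (BT.node 944 (BT.node 941 (BT.node 940 (BT.node 939 (BT.leaf cJ939) (BT.leaf cJ940)) (BT.leaf cJ941)) (BT.node 943 (BT.node 942 (BT.leaf cJ942) (BT.leaf cJ943)) (BT.leaf cJ944))) (BT.node 947 (BT.node 946 (BT.node 945 (BT.leaf cJ945) (BT.leaf cJ946)) (BT.leaf cJ947)) (BT.node 949 (BT.node 948 (BT.leaf cJ948) (BT.leaf cJ949)) (BT.leaf cJ950)))) (BT.node 956 (BT.node 953 (BT.node 952 (BT.node 951 (BT.leaf cJ951) (BT.leaf cJ952)) (BT.leaf cJ953)) (BT.node 955 (BT.node 954 (BT.leaf cJ954) (BT.leaf cJ955)) (BT.leaf cJ956))) (BT.node 959 (BT.node 958 (BT.node 957 (BT.leaf cJ957) (BT.leaf cJ958)) (BT.leaf cJ959)) (BT.node 961 (BT.node 960 (BT.leaf cJ960) (BT.leaf cJ961))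 (BT.leaf cJ962)))))))) (BT.node 1058 (BT.node 1010 (BT.node 986 (BT.node 974 (BT.node 968 (BT.node 965 (BT.node 964 (BT.node 963 (BT.leaf cJ963) (BT.leaf cJ964)) (BT.leaf cJ965)) (BT.node 967 (BT.node 966 (BT.leaf cJ966) (BT.leaf cJ967)) (BT.leaf cJ968))) (BT.node 971 (BT.node 970 (BT.node 969 (BT.leaf cJ969) (BT.leaf cJ970)) (BT.leaf cJ971)) (BT.node 973 (BT.node 972 (BT.leaf cJ972) (BT.leaf cJ973)) (BT.leaf cJ974)))) (BT.node 980 (BT.node 977 (BT.node 976 (BT.node 975 (BT.leaf cJ975) (BT.leaf cJ976)) (BT.leaf cJ977)) (BT.node 979 (BT.node 978 (BT.leaf cJ978) (BT.leaf cJ979)) (BT.leaf cJ980))) (BT.node 983 (BT.node 982 (BT.node 981 (BT.leaf cJ981) (BT.leaf cJ982)) (BT.leaf cJ983)) (BT.node 985 (BT.node 984 (BT.leaf cJ984) (BT.leaf cJ985)) (BT.leaf cJ986))))) (BT.node 998 (BT.node 992 (BT.node 989 (BT.node 988 (BT.node 987 (BT.leaf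 cJ987) (BT.leaf cJ988)) (BT.leaf cJ989)) (BT.node 991 (BT.node 990 (BT.leaf cJ990) (BT.leaf cJ991)) (BT.leaf cJ992))) (BT.node 995 (BT.node 994 (BT.node 993 (BT.leaf cJ993) (BT.leaf cJ994)) (BT.leaf cJ995)) (BT.node 997 (BT.node 996 (BT.leaf cJ996) (BT.leaf cJ997)) (BT.leaf cJ998)))) (BT.node 1004 (BT.node 1001 (BT.node 1000 (BT.node 999 (BT.leaf cJ999) (BT.leaf cJ1000)) (BT.leaf cJ1001)) (BT.node 1003 (BT.node 1002 (BT.leaf cJ1002) (BT.leaf cJ1003)) (BT.leaf cJ1004))) (BT.node 1007 (BT.node 1006 (BT.node 1005 (BT.leaf cJ1005) (BT.leaf cJ1006)) (BT.leaf cJ1007)) (BT.node 1009 (BT.node 1008 (BT.leaf cJ1008) (BT.leaf cJ1009)) (BT.leaf cJ1010)))))) (BT.node 1034 (BT.node 1022 (BT.node 1016 (BT.node 1013 (BT.node 1012 (BT.node 1011 (BT.leaf cJ1011) (BT.leaf cJ1012)) (BT.leaf cJ1013)) (BT.node 1015 (BT.node 1014 (BT.leaf cJ1014) (BT.leaf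 cJ1015)) (BT.leaf cJ1016))) (BT.node 1019 (BT.node 1018 (BT.node 1017 (BT.leaf cJ1017) (BT.leaf cJ1018)) (BT.leaf cJ1019)) (BT.node 1021 (BT.node 1020 (BT.leaf cJ1020) (BT.leaf cJ1021)) (BT.leaf cJ1022)))) (BT.node 1028 (BT.node 1025 (BT.node 1024 (BT.node 1023 (BT.leaf cJ1023) (BT.leaf cJ1024)) (BT.leaf cJ1025)) (BT.node 1027 (BT.node 1026 (BT.leaf cJ1026) (BT.leaf cJ1027)) (BT.leaf cJ1028))) (BT.node 1031 (BT.node 1030 (BT.node 1029 (BT.leaf cJ1029) (BT.leaf cJ1030)) (BT.leaf cJ1031)) (BT.node 1033 (BT.node 1032 (BT.leaf cJ1032) (BT.leaf cJ1033)) (BT.leaf cJ1034))))) (BT.node 1046 (BT.node 1040 (BT.node 1037 (BT.node 1036 (BT.node 1035 (BT.leaf cJ1035) (BT.leaf cJ1036)) (BT.leaf cJ1037)) (BT.node 1039 (BT.node 1038 (BT.leaf cJ1038) (BT.leaf cJ1039)) (BT.leaf cJ1040))) (BT.node 1043 (BT.node 1042 (BT.node 1041 (BT.leaf cJ1041) (BT.leaf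 cJ1042)) (BT.leaf cJ1043)) (BT.node 1045 (BT.node 1044 (BT.leaf cJ1044) (BT.leaf cJ1045)) (BT.leaf cJ1046)))) (BT.node 1052 (BT.node 1049 (BT.node 1048 (BT.node 1047 (BT.leaf cJ1047) (BT.leaf cJ1048)) (BT.leaf cJ1049)) (BT.node 1051 (BT.node 1050 (BT.leaf cJ1050) (BT.leaf cJ1051)) (BT.leaf cJ1052))) (BT.node 1055 (BT.node 1054 (BT.node 1053 (BT.leaf cJ1053) (BT.leaf cJ1054)) (BT.leaf cJ1055)) (BT.node 1057 (BT.node 1056 (BT.leaf cJ1056) (BT.leaf cJ1057)) (BT.leaf cJ1058))))))) (BT.node 1106 (BT.node 1082 (BT.node 1070 (BT.node 1064 (BT.node 1061 (BT.node 1060 (BT.node 1059 (BT.leaf cJ1059) (BT.leaf cJ1060)) (BT.leaf cJ1061)) (BT.node 1063 (BT.node 1062 (BT.leaf cJ1062) (BT.leaf cJ1063)) (BT.leaf cJ1064))) (BT.node 1067 (BT.node 1066 (BT.node 1065 (BT.leaf cJ1065) (BT.leaf cJ1066)) (BT.leaf cJ1067)) (BT.node 1069 (BT.node 1068 (BT.leaf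 cJ1068) (BT.leaf cJ1069)) (BT.leaf cJ1070)))) (BT.node 1076 (BT.node 1073 (BT.node 1072 (BT.node 1071 (BT.leaf cJ1071) (BT.leaf cJ1072)) (BT.leaf cJ1073)) (BT.node 1075 (BT.node 1074 (BT.leaf cJ1074) (BT.leaf cJ1075)) (BT.leaf cJ1076))) (BT.node 1079 (BT.node 1078 (BT.node 1077 (BT.leaf cJ1077) (BT.leaf cJ1078)) (BT.leaf cJ1079)) (BT.node 1081 (BT.node 1080 (BT.leaf cJ1080) (BT.leaf cJ1081)) (BT.leaf cJ1082))))) (BT.node 1094 (BT.node 1088 (BT.node 1085 (BT.node 1084 (BT.node 1083 (BT.leaf cJ1083) (BT.leaf cJ1084)) (BT.leaf cJ1085)) (BT.node 1087 (BT.node 1086 (BT.leaf cJ1086) (BT.leaf cJ1087)) (BT.leaf cJ1088))) (BT.node 1091 (BT.node 1090 (BT.node 1089 (BT.leaf cJ1089) (BT.leaf cJ1090)) (BT.leaf cJ1091)) (BT.node 1093 (BT.node 1092 (BT.leaf cJ1092) (BT.leaf cJ1093)) (BT.leaf cJ1094)))) (BT.node 1100 (BT.node 1097 (BT.node 1096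 (BT.node 1095 (BT.leaf cJ1095) (BT.leaf cJ1096)) (BT.leaf cJ1097)) (BT.node 1099 (BT.node 1098 (BT.leaf cJ1098) (BT.leaf cJ1099)) (BT.leaf cJ1100))) (BT.node 1103 (BT.node 1102 (BT.node 1101 (BT.leaf cJ1101) (BT.leaf cJ1102)) (BT.leaf cJ1103)) (BT.node 1105 (BT.node 1104 (BT.leaf cJ1104) (BT.leaf cJ1105)) (BT.leaf cJ1106)))))) (BT.node 1130 (BT.node 1118 (BT.node 1112 (BT.node 1109 (BT.node 1108 (BT.node 1107 (BT.leaf cJ1107) (BT.leaf cJ1108)) (BT.leaf cJ1109)) (BT.node 1111 (BT.node 1110 (BT.leaf cJ1110) (BT.leaf cJ1111)) (BT.leaf cJ1112))) (BT.node 1115 (BT.node 1114 (BT.node 1113 (BT.leaf cJ1113) (BT.leaf cJ1114)) (BT.leaf cJ1115)) (BT.node 1117 (BT.node 1116 (BT.leaf cJ1116) (BT.leaf cJ1117)) (BT.leaf cJ1118)))) (BT.node 1124 (BT.node 1121 (BT.node 1120 (BT.node 1119 (BT.leaf cJ1119) (BT.leaf cJ1120)) (BT.leaf cJ1121)) (BT.node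 1123 (BT.node 1122 (BT.leaf cJ1122) (BT.leaf cJ1123)) (BT.leaf cJ1124))) (BT.node 1127 (BT.node 1126 (BT.node 1125 (BT.leaf cJ1125) (BT.leaf cJ1126)) (BT.leaf cJ1127)) (BT.node 1129 (BT.node 1128 (BT.leaf cJ1128) (BT.leaf cJ1129)) (BT.leaf cJ1130))))) (BT.node 1142 (BT.node 1136 (BT.node 1133 (BT.node 1132 (BT.node 1131 (BT.leaf cJ1131) (BT.leaf cJ1132)) (BT.leaf cJ1133)) (BT.node 1135 (BT.node 1134 (BT.leaf cJ1134) (BT.leaf cJ1135)) (BT.leaf cJ1136))) (BT.node 1139 (BT.node 1138 (BT.node 1137 (BT.leaf cJ1137) (BT.leaf cJ1138)) (BT.leaf cJ1139)) (BT.node 1141 (BT.node 1140 (BT.leaf cJ1140) (BT.leaf cJ1141)) (BT.leaf cJ1142)))) (BT.node 1148 (BT.node 1145 (BT.node 1144 (BT.node 1143 (BT.leaf cJ1143) (BT.leaf cJ1144)) (BT.leaf cJ1145)) (BT.node 1147 (BT.node 1146 (BT.leaf cJ1146) (BT.leaf cJ1147)) (BT.leaf cJ1148))) (BT.node 1151 (BT.node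 1150 (BT.node 1149 (BT.leaf cJ1149) (BT.leaf cJ1150)) (BT.leaf cJ1151)) (BT.node 1153 (BT.node 1152 (BT.leaf cJ1152) (BT.leaf cJ1153)) (BT.leaf cJ1154))))))))) (BT.node 1346 (BT.node 1250 (BT.node 1202 (BT.node 1178 (BT.node 1166 (BT.node 1160 (BT.node 1157 (BT.node 1156 (BT.node 1155 (BT.leaf cJ1155) (BT.leaf cJ1156)) (BT.leaf cJ1157)) (BT.node 1159 (BT.node 1158 (BT.leaf cJ1158) (BT.leaf cJ1159)) (BT.leaf cJ1160))) (BT.node 1163 (BT.node 1162 (BT.node 1161 (BT.leaf cJ1161) (BT.leaf cJ1162)) (BT.leaf cJ1163)) (BT.node 1165 (BT.node 1164 (BT.leaf cJ1164) (BT.leaf cJ1165)) (BT.leaf cJ1166)))) (BT.node 1172 (BT.node 1169 (BT.node 1168 (BT.node 1167 (BT.leaf cJ1167) (BT.leaf cJ1168)) (BT.leaf cJ1169)) (BT.node 1171 (BT.node 1170 (BT.leaf cJ1170) (BT.leaf cJ1171)) (BT.leaf cJ1172))) (BT.node 1175 (BT.node 1174 (BT.node 1173 (BT.leaf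 cJ1173) (BT.leaf cJ1174)) (BT.leaf cJ1175)) (BT.node 1177 (BT.node 1176 (BT.leaf cJ1176) (BT.leaf cJ1177)) (BT.leaf cJ1178))))) (BT.node 1190 (BT.node 1184 (BT.node 1181 (BT.node 1180 (BT.node 1179 (BT.leaf cJ1179) (BT.leaf cJ1180)) (BT.leaf cJ1181)) (BT.node 1183 (BT.node 1182 (BT.leaf cJ1182) (BT.leaf cJ1183)) (BT.leaf cJ1184))) (BT.node 1187 (BT.node 1186 (BT.node 1185 (BT.leaf cJ1185) (BT.leaf cJ1186)) (BT.leaf cJ1187)) (BT.node 1189 (BT.node 1188 (BT.leaf cJ1188) (BT.leaf cJ1189)) (BT.leaf cJ1190)))) (BT.node 1196 (BT.node 1193 (BT.node 1192 (BT.node 1191 (BT.leaf cJ1191) (BT.leaf cJ1192)) (BT.leaf cJ1193)) (BT.node 1195 (BT.node 1194 (BT.leaf cJ1194) (BT.leaf cJ1195)) (BT.leaf cJ1196))) (BT.node 1199 (BT.node 1198 (BT.node 1197 (BT.leaf cJ1197) (BT.leaf cJ1198)) (BT.leaf cJ1199)) (BT.node 1201 (BT.node 1200 (BT.leaf cJ1200)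 (BT.leaf cJ1201)) (BT.leaf cJ1202)))))) (BT.node 1226 (BT.node 1214 (BT.node 1208 (BT.node 1205 (BT.node 1204 (BT.node 1203 (BT.leaf cJ1203) (BT.leaf cJ1204)) (BT.leaf cJ1205)) (BT.node 1207 (BT.node 1206 (BT.leaf cJ1206) (BT.leaf cJ1207)) (BT.leaf cJ1208))) (BT.node 1211 (BT.node 1210 (BT.node 1209 (BT.leaf cJ1209) (BT.leaf cJ1210)) (BT.leaf cJ1211)) (BT.node 1213 (BT.node 1212 (BT.leaf cJ1212) (BT.leaf cJ1213)) (BT.leaf cJ1214)))) (BT.node 1220 (BT.node 1217 (BT.node 1216 (BT.node 1215 (BT.leaf cJ1215) (BT.leaf cJ1216)) (BT.leaf cJ1217)) (BT.node 1219 (BT.node 1218 (BT.leaf cJ1218) (BT.leaf cJ1219)) (BT.leaf cJ1220))) (BT.node 1223 (BT.node 1222 (BT.node 1221 (BT.leaf cJ1221) (BT.leaf cJ1222)) (BT.leaf cJ1223)) (BT.node 1225 (BT.node 1224 (BT.leaf cJ1224) (BT.leaf cJ1225)) (BT.leaf cJ1226))))) (BT.node 1238 (BT.node 1232 (BT.node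 1229 (BT.node 1228 (BT.node 1227 (BT.leaf cJ1227) (BT.leaf cJ1228)) (BT.leaf cJ1229)) (BT.node 1231 (BT.node 1230 (BT.leaf cJ1230) (BT.leaf cJ1231)) (BT.leaf cJ1232))) (BT.node 1235 (BT.node 1234 (BT.node 1233 (BT.leaf cJ1233) (BT.leaf cJ1234)) (BT.leaf cJ1235)) (BT.node 1237 (BT.node 1236 (BT.leaf cJ1236) (BT.leaf cJ1237)) (BT.leaf cJ1238)))) (BT.node 1244 (BT.node 1241 (BT.node 1240 (BT.node 1239 (BT.leaf cJ1239) (BT.leaf cJ1240)) (BT.leaf cJ1241)) (BT.node 1243 (BT.node 1242 (BT.leaf cJ1242) (BT.leaf cJ1243)) (BT.leaf cJ1244))) (BT.node 1247 (BT.node 1246 (BT.node 1245 (BT.leaf cJ1245) (BT.leaf cJ1246)) (BT.leaf cJ1247)) (BT.node 1249 (BT.node 1248 (BT.leaf cJ1248) (BT.leaf cJ1249)) (BT.leaf cJ1250))))))) (BT.node 1298 (BT.node 1274 (BT.node 1262 (BT.node 1256 (BT.node 1253 (BT.node 1252 (BT.node 1251 (BT.leaf cJ1251) (BT.leaf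 cJ1252)) (BT.leaf cJ1253)) (BT.node 1255 (BT.node 1254 (BT.leaf cJ1254) (BT.leaf cJ1255)) (BT.leaf cJ1256))) (BT.node 1259 (BT.node 1258 (BT.node 1257 (BT.leaf cJ1257) (BT.leaf cJ1258)) (BT.leaf cJ1259)) (BT.node 1261 (BT.node 1260 (BT.leaf cJ1260) (BT.leaf cJ1261)) (BT.leaf cJ1262)))) (BT.node 1268 (BT.node 1265 (BT.node 1264 (BT.node 1263 (BT.leaf cJ1263) (BT.leaf cJ1264)) (BT.leaf cJ1265)) (BT.node 1267 (BT.node 1266 (BT.leaf cJ1266) (BT.leaf cJ1267)) (BT.leaf cJ1268))) (BT.node 1271 (BT.node 1270 (BT.node 1269 (BT.leaf cJ1269) (BT.leaf cJ1270)) (BT.leaf cJ1271)) (BT.node 1273 (BT.node 1272 (BT.leaf cJ1272) (BT.leaf cJ1273)) (BT.leaf cJ1274))))) (BT.node 1286 (BT.node 1280 (BT.node 1277 (BT.node 1276 (BT.node 1275 (BT.leaf cJ1275) (BT.leaf cJ1276)) (BT.leaf cJ1277)) (BT.node 1279 (BT.node 1278 (BT.leaf cJ1278) (BT.leaf cJ1279))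 (BT.leaf cJ1280))) (BT.node 1283 (BT.node 1282 (BT.node 1281 (BT.leaf cJ1281) (BT.leaf cJ1282)) (BT.leaf cJ1283)) (BT.node 1285 (BT.node 1284 (BT.leaf cJ1284) (BT.leaf cJ1285)) (BT.leaf cJ1286)))) (BT.node 1292 (BT.node 1289 (BT.node 1288 (BT.node 1287 (BT.leaf cJ1287) (BT.leaf cJ1288)) (BT.leaf cJ1289)) (BT.node 1291 (BT.node 1290 (BT.leaf cJ1290) (BT.leaf cJ1291)) (BT.leaf cJ1292))) (BT.node 1295 (BT.node 1294 (BT.node 1293 (BT.leaf cJ1293) (BT.leaf cJ1294)) (BT.leaf cJ1295)) (BT.node 1297 (BT.node 1296 (BT.leaf cJ1296) (BT.leaf cJ1297)) (BT.leaf cJ1298)))))) (BT.node 1322 (BT.node 1310 (BT.node 1304 (BT.node 1301 (BT.node 1300 (BT.node 1299 (BT.leaf cJ1299) (BT.leaf cJ1300)) (BT.leaf cJ1301)) (BT.node 1303 (BT.node 1302 (BT.leaf cJ1302) (BT.leaf cJ1303)) (BT.leaf cJ1304))) (BT.node 1307 (BT.node 1306 (BT.node 1305 (BT.leaf cJ1305)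 (BT.leaf cJ1306)) (BT.leaf cJ1307)) (BT.node 1309 (BT.node 1308 (BT.leaf cJ1308) (BT.leaf cJ1309)) (BT.leaf cJ1310)))) (BT.node 1316 (BT.node 1313 (BT.node 1312 (BT.node 1311 (BT.leaf cJ1311) (BT.leaf cJ1312)) (BT.leaf cJ1313)) (BT.node 1315 (BT.node 1314 (BT.leaf cJ1314) (BT.leaf cJ1315)) (BT.leaf cJ1316))) (BT.node 1319 (BT.node 1318 (BT.node 1317 (BT.leaf cJ1317) (BT.leaf cJ1318)) (BT.leaf cJ1319)) (BT.node 1321 (BT.node 1320 (BT.leaf cJ1320) (BT.leaf cJ1321)) (BT.leaf cJ1322))))) (BT.node 1334 (BT.node 1328 (BT.node 1325 (BT.node 1324 (BT.node 1323 (BT.leaf cJ1323) (BT.leaf cJ1324)) (BT.leaf cJ1325)) (BT.node 1327 (BT.node 1326 (BT.leaf cJ1326) (BT.leaf cJ1327)) (BT.leaf cJ1328))) (BT.node 1331 (BT.node 1330 (BT.node 1329 (BT.leaf cJ1329) (BT.leaf cJ1330)) (BT.leaf cJ1331)) (BT.node 1333 (BT.node 1332 (BT.leaf cJ1332) (BT.leaf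 cJ1333)) (BT.leaf cJ1334)))) (BT.node 1340 (BT.node 1337 (BT.node 1336 (BT.node 1335 (BT.leaf cJ1335) (BT.leaf cJ1336)) (BT.leaf cJ1337)) (BT.node 1339 (BT.node 1338 (BT.leaf cJ1338) (BT.leaf cJ1339)) (BT.leaf cJ1340))) (BT.node 1343 (BT.node 1342 (BT.node 1341 (BT.leaf cJ1341) (BT.leaf cJ1342)) (BT.leaf cJ1343)) (BT.node 1345 (BT.node 1344 (BT.leaf cJ1344) (BT.leaf cJ1345)) (BT.leaf cJ1346)))))))) (BT.node 1442 (BT.node 1394 (BT.node 1370 (BT.node 1358 (BT.node 1352 (BT.node 1349 (BT.node 1348 (BT.node 1347 (BT.leaf cJ1347) (BT.leaf cJ1348)) (BT.leaf cJ1349)) (BT.node 1351 (BT.node 1350 (BT.leaf cJ1350) (BT.leaf cJ1351)) (BT.leaf cJ1352))) (BT.node 1355 (BT.node 1354 (BT.node 1353 (BT.leaf cJ1353) (BT.leaf cJ1354)) (BT.leaf cJ1355)) (BT.node 1357 (BT.node 1356 (BT.leaf cJ1356) (BT.leaf cJ1357)) (BT.leaf cJ1358)))) (BT.node 1364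 (BT.node 1361 (BT.node 1360 (BT.node 1359 (BT.leaf cJ1359) (BT.leaf cJ1360)) (BT.leaf cJ1361)) (BT.node 1363 (BT.node 1362 (BT.leaf cJ1362) (BT.leaf cJ1363)) (BT.leaf cJ1364))) (BT.node 1367 (BT.node 1366 (BT.node 1365 (BT.leaf cJ1365) (BT.leaf cJ1366)) (BT.leaf cJ1367)) (BT.node 1369 (BT.node 1368 (BT.leaf cJ1368) (BT.leaf cJ1369)) (BT.leaf cJ1370))))) (BT.node 1382 (BT.node 1376 (BT.node 1373 (BT.node 1372 (BT.node 1371 (BT.leaf cJ1371) (BT.leaf cJ1372)) (BT.leaf cJ1373)) (BT.node 1375 (BT.node 1374 (BT.leaf cJ1374) (BT.leaf cJ1375)) (BT.leaf cJ1376))) (BT.node 1379 (BT.node 1378 (BT.node 1377 (BT.leaf cJ1377) (BT.leaf cJ1378)) (BT.leaf cJ1379)) (BT.node 1381 (BT.node 1380 (BT.leaf cJ1380) (BT.leaf cJ1381)) (BT.leaf cJ1382)))) (BT.node 1388 (BT.node 1385 (BT.node 1384 (BT.node 1383 (BT.leaf cJ1383) (BT.leaf cJ1384)) (BT.leaf cJ1385))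 (BT.node 1387 (BT.node 1386 (BT.leaf cJ1386) (BT.leaf cJ1387)) (BT.leaf cJ1388))) (BT.node 1391 (BT.node 1390 (BT.node 1389 (BT.leaf cJ1389) (BT.leaf cJ1390)) (BT.leaf cJ1391)) (BT.node 1393 (BT.node 1392 (BT.leaf cJ1392) (BT.leaf cJ1393)) (BT.leaf cJ1394)))))) (BT.node 1418 (BT.node 1406 (BT.node 1400 (BT.node 1397 (BT.node 1396 (BT.node 1395 (BT.leaf cJ1395) (BT.leaf cJ1396)) (BT.leaf cJ1397)) (BT.node 1399 (BT.node 1398 (BT.leaf cJ1398) (BT.leaf cJ1399)) (BT.leaf cJ1400))) (BT.node 1403 (BT.node 1402 (BT.node 1401 (BT.leaf cJ1401) (BT.leaf cJ1402)) (BT.leaf cJ1403)) (BT.node 1405 (BT.node 1404 (BT.leaf cJ1404) (BT.leaf cJ1405)) (BT.leaf cJ1406)))) (BT.node 1412 (BT.node 1409 (BT.node 1408 (BT.node 1407 (BT.leaf cJ1407) (BT.leaf cJ1408)) (BT.leaf cJ1409)) (BT.node 1411 (BT.node 1410 (BT.leaf cJ1410) (BT.leaf cJ1411)) (BT.leaf cJ1412)))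 (BT.node 1415 (BT.node 1414 (BT.node 1413 (BT.leaf cJ1413) (BT.leaf cJ1414)) (BT.leaf cJ1415)) (BT.node 1417 (BT.node 1416 (BT.leaf cJ1416) (BT.leaf cJ1417)) (BT.leaf cJ1418))))) (BT.node 1430 (BT.node 1424 (BT.node 1421 (BT.node 1420 (BT.node 1419 (BT.leaf cJ1419) (BT.leaf cJ1420)) (BT.leaf cJ1421)) (BT.node 1423 (BT.node 1422 (BT.leaf cJ1422) (BT.leaf cJ1423)) (BT.leaf cJ1424))) (BT.node 1427 (BT.node 1426 (BT.node 1425 (BT.leaf cJ1425) (BT.leaf cJ1426)) (BT.leaf cJ1427)) (BT.node 1429 (BT.node 1428 (BT.leaf cJ1428) (BT.leaf cJ1429)) (BT.leaf cJ1430)))) (BT.node 1436 (BT.node 1433 (BT.node 1432 (BT.node 1431 (BT.leaf cJ1431) (BT.leaf cJ1432)) (BT.leaf cJ1433)) (BT.node 1435 (BT.node 1434 (BT.leaf cJ1434) (BT.leaf cJ1435)) (BT.leaf cJ1436))) (BT.node 1439 (BT.node 1438 (BT.node 1437 (BT.leaf cJ1437) (BT.leaf cJ1438)) (BT.leaf cJ1439))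 (BT.node 1441 (BT.node 1440 (BT.leaf cJ1440) (BT.leaf cJ1441)) (BT.leaf cJ1442))))))) (BT.node 1490 (BT.node 1466 (BT.node 1454 (BT.node 1448 (BT.node 1445 (BT.node 1444 (BT.node 1443 (BT.leaf cJ1443) (BT.leaf cJ1444)) (BT.leaf cJ1445)) (BT.node 1447 (BT.node 1446 (BT.leaf cJ1446) (BT.leaf cJ1447)) (BT.leaf cJ1448))) (BT.node 1451 (BT.node 1450 (BT.node 1449 (BT.leaf cJ1449) (BT.leaf cJ1450)) (BT.leaf cJ1451)) (BT.node 1453 (BT.node 1452 (BT.leaf cJ1452) (BT.leaf cJ1453)) (BT.leaf cJ1454)))) (BT.node 1460 (BT.node 1457 (BT.node 1456 (BT.node 1455 (BT.leaf cJ1455) (BT.leaf cJ1456)) (BT.leaf cJ1457)) (BT.node 1459 (BT.node 1458 (BT.leaf cJ1458) (BT.leaf cJ1459)) (BT.leaf cJ1460))) (BT.node 1463 (BT.node 1462 (BT.node 1461 (BT.leaf cJ1461) (BT.leaf cJ1462)) (BT.leaf cJ1463)) (BT.node 1465 (BT.node 1464 (BT.leaf cJ1464) (BT.leaf cJ1465))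 (BT.leaf cJ1466))))) (BT.node 1478 (BT.node 1472 (BT.node 1469 (BT.node 1468 (BT.node 1467 (BT.leaf cJ1467) (BT.leaf cJ1468)) (BT.leaf cJ1469)) (BT.node 1471 (BT.node 1470 (BT.leaf cJ1470) (BT.leaf cJ1471)) (BT.leaf cJ1472))) (BT.node 1475 (BT.node 1474 (BT.node 1473 (BT.leaf cJ1473) (BT.leaf cJ1474)) (BT.leaf cJ1475)) (BT.node 1477 (BT.node 1476 (BT.leaf cJ1476) (BT.leaf cJ1477)) (BT.leaf cJ1478)))) (BT.node 1484 (BT.node 1481 (BT.node 1480 (BT.node 1479 (BT.leaf cJ1479) (BT.leaf cJ1480)) (BT.leaf cJ1481)) (BT.node 1483 (BT.node 1482 (BT.leaf cJ1482) (BT.leaf cJ1483)) (BT.leaf cJ1484))) (BT.node 1487 (BT.node 1486 (BT.node 1485 (BT.leaf cJ1485) (BT.leaf cJ1486)) (BT.leaf cJ1487)) (BT.node 1489 (BT.node 1488 (BT.leaf cJ1488) (BT.leaf cJ1489)) (BT.leaf cJ1490)))))) (BT.node 1514 (BT.node 1502 (BT.node 1496 (BT.node 1493 (BT.node 1492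 (BT.node 1491 (BT.leaf cJ1491) (BT.leaf cJ1492)) (BT.leaf cJ1493)) (BT.node 1495 (BT.node 1494 (BT.leaf cJ1494) (BT.leaf cJ1495)) (BT.leaf cJ1496))) (BT.node 1499 (BT.node 1498 (BT.node 1497 (BT.leaf cJ1497) (BT.leaf cJ1498)) (BT.leaf cJ1499)) (BT.node 1501 (BT.node 1500 (BT.leaf cJ1500) (BT.leaf cJ1501)) (BT.leaf cJ1502)))) (BT.node 1508 (BT.node 1505 (BT.node 1504 (BT.node 1503 (BT.leaf cJ1503) (BT.leaf cJ1504)) (BT.leaf cJ1505)) (BT.node 1507 (BT.node 1506 (BT.leaf cJ1506) (BT.leaf cJ1507)) (BT.leaf cJ1508))) (BT.node 1511 (BT.node 1510 (BT.node 1509 (BT.leaf cJ1509) (BT.leaf cJ1510)) (BT.leaf cJ1511)) (BT.node 1513 (BT.node 1512 (BT.leaf cJ1512) (BT.leaf cJ1513)) (BT.leaf cJ1514))))) (BT.node 1526 (BT.node 1520 (BT.node 1517 (BT.node 1516 (BT.node 1515 (BT.leaf cJ1515) (BT.leaf cJ1516)) (BT.leaf cJ1517)) (BT.node 1519 (BT.node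 1518 (BT.leaf cJ1518) (BT.leaf cJ1519)) (BT.leaf cJ1520))) (BT.node 1523 (BT.node 1522 (BT.node 1521 (BT.leaf cJ1521) (BT.leaf cJ1522)) (BT.leaf cJ1523)) (BT.node 1525 (BT.node 1524 (BT.leaf cJ1524) (BT.leaf cJ1525)) (BT.leaf cJ1526)))) (BT.node 1532 (BT.node 1529 (BT.node 1528 (BT.node 1527 (BT.leaf cJ1527) (BT.leaf cJ1528)) (BT.leaf cJ1529)) (BT.node 1531 (BT.node 1530 (BT.leaf cJ1530) (BT.leaf cJ1531)) (BT.leaf cJ1532))) (BT.node 1535 (BT.node 1534 (BT.node 1533 (BT.leaf cJ1533) (BT.leaf cJ1534)) (BT.leaf cJ1535)) (BT.node 1537 (BT.node 1536 (BT.leaf cJ1536) (BT.leaf cJ1537)) (BT.leaf cJ1538)))))))))))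
/-- parent chunks -/
def parCT : BT ℕ := (BT.node 85 (BT.node 42 (BT.node 21 (BT.node 10 (BT.node 5 (BT.node 2 (BT.node 1 (BT.node 0 (BT.leaf cP0) (BT.leaf cP1)) (BT.leaf cP2)) (BT.node 4 (BT.node 3 (BT.leaf cP3) (BT.leaf cP4)) (BT.leaf cP5))) (BT.node 8 (BT.node 7 (BT.node 6 (BT.leaf cP6) (BT.leaf cP7)) (BT.leaf cP8)) (BT.node 9 (BT.leaf cP9) (BT.leaf cP10)))) (BT.node 16 (BT.node 13 (BT.node 12 (BT.node 11 (BT.leaf cP11) (BT.leaf cP12)) (BT.leaf cP13)) (BT.node 15 (BT.node 14 (BT.leaf cP14) (BT.leaf cP15)) (BT.leaf cP16))) (BT.node 19 (BT.node 18 (BT.node 17 (BT.leaf cP17) (BT.leaf cP18)) (BT.leaf cP19)) (BT.node 20 (BT.leaf cP20) (BT.leaf cP21))))) (BT.node 32 (BT.node 27 (BT.node 24 (BT.node 23 (BT.node 22 (BT.leaf cP22) (BT.leaf cP23)) (BT.leaf cP24)) (BT.node 26 (BT.node 25 (BT.leaf cP25) (BT.leaf cP26)) (BT.leaf cP27))) (BT.node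 30 (BT.node 29 (BT.node 28 (BT.leaf cP28) (BT.leaf cP29)) (BT.leaf cP30)) (BT.node 31 (BT.leaf cP31) (BT.leaf cP32)))) (BT.node 37 (BT.node 35 (BT.node 34 (BT.node 33 (BT.leaf cP33) (BT.leaf cP34)) (BT.leaf cP35)) (BT.node 36 (BT.leaf cP36) (BT.leaf cP37))) (BT.node 40 (BT.node 39 (BT.node 38 (BT.leaf cP38) (BT.leaf cP39)) (BT.leaf cP40)) (BT.node 41 (BT.leaf cP41) (BT.leaf cP42)))))) (BT.node 64 (BT.node 53 (BT.node 48 (BT.node 45 (BT.node 44 (BT.node 43 (BT.leaf cP43) (BT.leaf cP44)) (BT.leaf cP45)) (BT.node 47 (BT.node 46 (BT.leaf cP46) (BT.leaf cP47)) (BT.leaf cP48))) (BT.node 51 (BT.node 50 (BT.node 49 (BT.leaf cP49) (BT.leaf cP50)) (BT.leaf cP51)) (BT.node 52 (BT.leaf cP52) (BT.leaf cP53)))) (BT.node 59 (BT.node 56 (BT.node 55 (BT.node 54 (BT.leaf cP54) (BT.leaf cP55)) (BT.leaf cP56)) (BT.node 58 (BT.node 57 (BT.leaf cP57)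 (BT.leaf cP58)) (BT.leaf cP59))) (BT.node 62 (BT.node 61 (BT.node 60 (BT.leaf cP60) (BT.leaf cP61)) (BT.leaf cP62)) (BT.node 63 (BT.leaf cP63) (BT.leaf cP64))))) (BT.node 75 (BT.node 70 (BT.node 67 (BT.node 66 (BT.node 65 (BT.leaf cP65) (BT.leaf cP66)) (BT.leaf cP67)) (BT.node 69 (BT.node 68 (BT.leaf cP68) (BT.leaf cP69)) (BT.leaf cP70))) (BT.node 73 (BT.node 72 (BT.node 71 (BT.leaf cP71) (BT.leaf cP72)) (BT.leaf cP73)) (BT.node 74 (BT.leaf cP74) (BT.leaf cP75)))) (BT.node 80 (BT.node 78 (BT.node 77 (BT.node 76 (BT.leaf cP76) (BT.leaf cP77)) (BT.leaf cP78)) (BT.node 79 (BT.leaf cP79) (BT.leaf cP80))) (BT.node 83 (BT.node 82 (BT.node 81 (BT.leaf cP81) (BT.leaf cP82)) (BT.leaf cP83)) (BT.node 84 (BT.leaf cP84) (BT.leaf cP85))))))) (BT.node 128 (BT.node 107 (BT.node 96 (BT.node 91 (BT.node 88 (BT.node 87 (BT.node 86 (BT.leaf cP86) (BT.leaf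 cP87)) (BT.leaf cP88)) (BT.node 90 (BT.node 89 (BT.leaf cP89) (BT.leaf cP90)) (BT.leaf cP91))) (BT.node 94 (BT.node 93 (BT.node 92 (BT.leaf cP92) (BT.leaf cP93)) (BT.leaf cP94)) (BT.node 95 (BT.leaf cP95) (BT.leaf cP96)))) (BT.node 102 (BT.node 99 (BT.node 98 (BT.node 97 (BT.leaf cP97) (BT.leaf cP98)) (BT.leaf cP99)) (BT.node 101 (BT.node 100 (BT.leaf cP100) (BT.leaf cP101)) (BT.leaf cP102))) (BT.node 105 (BT.node 104 (BT.node 103 (BT.leaf cP103) (BT.leaf cP104)) (BT.leaf cP105)) (BT.node 106 (BT.leaf cP106) (BT.leaf cP107))))) (BT.node 118 (BT.node 113 (BT.node 110 (BT.node 109 (BT.node 108 (BT.leaf cP108) (BT.leaf cP109)) (BT.leaf cP110)) (BT.node 112 (BT.node 111 (BT.leaf cP111) (BT.leaf cP112)) (BT.leaf cP113))) (BT.node 116 (BT.node 115 (BT.node 114 (BT.leaf cP114) (BT.leaf cP115)) (BT.leaf cP116)) (BT.node 117 (BT.leaf cP117)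 (BT.leaf cP118)))) (BT.node 123 (BT.node 121 (BT.node 120 (BT.node 119 (BT.leaf cP119) (BT.leaf cP120)) (BT.leaf cP121)) (BT.node 122 (BT.leaf cP122) (BT.leaf cP123))) (BT.node 126 (BT.node 125 (BT.node 124 (BT.leaf cP124) (BT.leaf cP125)) (BT.leaf cP126)) (BT.node 127 (BT.leaf cP127) (BT.leaf cP128)))))) (BT.node 149 (BT.node 139 (BT.node 134 (BT.node 131 (BT.node 130 (BT.node 129 (BT.leaf cP129) (BT.leaf cP130)) (BT.leaf cP131)) (BT.node 133 (BT.node 132 (BT.leaf cP132) (BT.leaf cP133)) (BT.leaf cP134))) (BT.node 137 (BT.node 136 (BT.node 135 (BT.leaf cP135) (BT.leaf cP136)) (BT.leaf cP137)) (BT.node 138 (BT.leaf cP138) (BT.leaf cP139)))) (BT.node 144 (BT.node 142 (BT.node 141 (BT.node 140 (BT.leaf cP140) (BT.leaf cP141)) (BT.leaf cP142)) (BT.node 143 (BT.leaf cP143) (BT.leaf cP144))) (BT.node 147 (BT.node 146 (BT.node 145 (BT.leaf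 cP145) (BT.leaf cP146)) (BT.leaf cP147)) (BT.node 148 (BT.leaf cP148) (BT.leaf cP149))))) (BT.node 160 (BT.node 155 (BT.node 152 (BT.node 151 (BT.node 150 (BT.leaf cP150) (BT.leaf cP151)) (BT.leaf cP152)) (BT.node 154 (BT.node 153 (BT.leaf cP153) (BT.leaf cP154)) (BT.leaf cP155))) (BT.node 158 (BT.node 157 (BT.node 156 (BT.leaf cP156) (BT.leaf cP157)) (BT.leaf cP158)) (BT.node 159 (BT.leaf cP159) (BT.leaf cP160)))) (BT.node 165 (BT.node 163 (BT.node 162 (BT.node 161 (BT.leaf cP161) (BT.leaf cP162)) (BT.leaf cP163)) (BT.node 164 (BT.leaf cP164) (BT.leaf cP165))) (BT.node 168 (BT.node 167 (BT.node 166 (BT.leaf cP166) (BT.leaf cP167)) (BT.leaf cP168)) (BT.node 169 (BT.leaf cP169) (BT.leaf cP170))))))))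
/-- the certificate -/
def data : Data where
  k := 8
  N := 87549
  W := 36
  MW := 68719476736
  B := 131072
  CH := 512
  NCH := 171
  colE := colET
  JW := 64
  MJ := 18446744073709551616
  A := 1048576
  colJ := colJT
  PW := 26
  MP := 67108864
  parC := parCT
  inv := (BT.node 4 (BT.node 2 (BT.node 1 (BT.node 0 (BT.leaf 1) (BT.leaf 0)) (BT.leaf 3)) (BT.node 3 (BT.leaf 2) (BT.leaf 5))) (BT.node 6 (BT.node 5 (BT.leaf 4) (BT.leaf 7)) (BT.node 7 (BT.leaf 6) (BT.leaf 8))))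
  rel := relT
  sub := subT
  fuel := 64

end Cfsg.Agent.Lib.Helper28.TCCo3Data
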