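import Cfsg.Agent.Lib.Helper28.TCCo3Table
set_option autoImplicit false
set_option maxRecDepth 100000
set_option maxHeartbeats 0

namespace Cfsg.Agent.Lib.Helper28.TCCo3L1
open Cfsg.Agent.Lib.Helper28.TC2Upper Cfsg.Agent.Lib.Helper28.TC2Lower Cfsg.Agent.Lib.Helper28.TCCo3Table

theorem rel6 : table.relOK chkPaths 858 143 = true := by decide +kernel
theorem rel7 : table.relOK chkPaths 1001 143 = true := by decide +kernel
theorem rel8 : table.relOK chkPaths 1144 143 = true := by decide +kernel
theorem rel9 : table.relOK chkPaths 1287 143 = true := by decide +kernel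
theorem rel10 : table.relOK chkPaths 1430 143 = true := by decide +kernel
theorem rel11 : table.relOK chkPaths 1573 143 = true := by decide +kernel

end Cfsg.Agent.Lib.Helper28.TCCo3L1
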