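import Cfsg.Agent.Lib.Helper28.TCCo3Table
import Cfsg.Agent.Lib.Helper28.TCCo3L2
set_option autoImplicit false
set_option maxRecDepth 100000
set_option maxHeartbeats 0

namespace Cfsg.Agent.Lib.Helper28.TCCo3L6
open Cfsg.Agent.Lib.Helper28.TC2Upper Cfsg.Agent.Lib.Helper28.TC2Lower Cfsg.Agent.Lib.Helper28.TCCo3Table

theorem rel36 : table.relOK chkPaths 5148 143 = true := by decide +kernel
theorem rel37 : table.relOK chkPaths 5291 143 = true := by decide +kernel
theorem rel38 : table.relOK chkPaths 5434 143 = true := by decide +kernel
theorem rel39 : table.relOK chkPaths 5577 143 = true := by decide +kernel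
theorem rel40 : table.relOK chkPaths 5720 143 = true := by decide +kernel
theorem rel41 : table.relOK chkPaths 5863 143 = true := by decide +kernel

end Cfsg.Agent.Lib.Helper28.TCCo3L6
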