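import Cfsg.Agent.Lib.Helper28.TCCo3Table
import Cfsg.Agent.Lib.Helper28.TCCo3L6
set_option autoImplicit false
set_option maxRecDepth 100000
set_option maxHeartbeats 0

namespace Cfsg.Agent.Lib.Helper28.TCCo3L10
open Cfsg.Agent.Lib.Helper28.TC2Upper Cfsg.Agent.Lib.Helper28.TC2Lower Cfsg.Agent.Lib.Helper28.TCCo3Table

theorem rel60 : table.relOK chkPaths 8580 143 = true := by decide +kernel
theorem rel61 : table.relOK chkPaths 8723 143 = true := by decide +kernel
theorem rel62 : table.relOK chkPaths 8866 143 = true := by decide +kernel
theorem rel63 : table.relOK chkPaths 9009 143 = true := by decide +kernel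
theorem rel64 : table.relOK chkPaths 9152 143 = true := by decide +kernel
theorem rel65 : table.relOK chkPaths 9295 143 = true := by decide +kernel

end Cfsg.Agent.Lib.Helper28.TCCo3L10
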