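import Cfsg.Agent.Lib.Helper28.TCCo3Table
set_option autoImplicit false
set_option maxRecDepth 100000
set_option maxHeartbeats 0

namespace Cfsg.Agent.Lib.Helper28.TCCo3L3
open Cfsg.Agent.Lib.Helper28.TC2Upper Cfsg.Agent.Lib.Helper28.TC2Lower Cfsg.Agent.Lib.Helper28.TCCo3Table

theorem rel18 : table.relOK chkPaths 2574 143 = true := by decide +kernel
theorem rel19 : table.relOK chkPaths 2717 143 = true := by decide +kernel
theorem rel20 : table.relOK chkPaths 2860 143 = true := by decide +kernel
theorem rel21 : table.relOK chkPaths 3003 143 = true := by decide +kernel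
theorem rel22 : table.relOK chkPaths 3146 143 = true := by decide +kernel
theorem rel23 : table.relOK chkPaths 3289 143 = true := by decide +kernel

end Cfsg.Agent.Lib.Helper28.TCCo3L3
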