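import Cfsg.Agent.Lib.Helper28.TCCo3Table
import Cfsg.Agent.Lib.Helper28.TCCo3L4
set_option autoImplicit false
set_option maxRecDepth 100000
set_option maxHeartbeats 0

namespace Cfsg.Agent.Lib.Helper28.TCCo3L8
open Cfsg.Agent.Lib.Helper28.TC2Upper Cfsg.Agent.Lib.Helper28.TC2Lower Cfsg.Agent.Lib.Helper28.TCCo3Table

theorem rel48 : table.relOK chkPaths 6864 143 = true := by decide +kernel
theorem rel49 : table.relOK chkPaths 7007 143 = true := by decide +kernel
theorem rel50 : table.relOK chkPaths 7150 143 = true := by decide +kernel
theorem rel51 : table.relOK chkPaths 7293 143 = true := by decide +kernel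
theorem rel52 : table.relOK chkPaths 7436 143 = true := by decide +kernel
theorem rel53 : table.relOK chkPaths 7579 143 = true := by decide +kernel

end Cfsg.Agent.Lib.Helper28.TCCo3L8
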