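import Cfsg.Agent.Lib.Helper28.TCCo3Table
import Cfsg.Agent.Lib.Helper28.TCCo3L8
set_option autoImplicit false
set_option maxRecDepth 100000
set_option maxHeartbeats 0

namespace Cfsg.Agent.Lib.Helper28.TCCo3L12
open Cfsg.Agent.Lib.Helper28.TC2Upper Cfsg.Agent.Lib.Helper28.TC2Lower Cfsg.Agent.Lib.Helper28.TCCo3Table

theorem rel72 : table.relOK chkPaths 10296 143 = true := by decide +kernel
theorem rel73 : table.relOK chkPaths 10439 143 = true := by decide +kernel
theorem rel74 : table.relOK chkPaths 10582 143 = true := by decide +kernel
theorem rel75 : table.relOK chkPaths 10725 143 = true := by decide +kernel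
theorem rel76 : table.relOK chkPaths 10868 143 = true := by decide +kernel
theorem rel77 : table.relOK chkPaths 11011 143 = true := by decide +kernel

end Cfsg.Agent.Lib.Helper28.TCCo3L12
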