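import Cfsg.Agent.Lib.Helper28.TCCo3Table
import Cfsg.Agent.Lib.Helper28.TCCo3L1
set_option autoImplicit false
set_option maxRecDepth 100000
set_option maxHeartbeats 0

namespace Cfsg.Agent.Lib.Helper28.TCCo3L5
open Cfsg.Agent.Lib.Helper28.TC2Upper Cfsg.Agent.Lib.Helper28.TC2Lower Cfsg.Agent.Lib.Helper28.TCCo3Table

theorem rel30 : table.relOK chkPaths 4290 143 = true := by decide +kernel
theorem rel31 : table.relOK chkPaths 4433 143 = true := by decide +kernel
theorem rel32 : table.relOK chkPaths 4576 143 = true := by decide +kernel
theorem rel33 : table.relOK chkPaths 4719 143 = true := by decide +kernel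
theorem rel34 : table.relOK chkPaths 4862 143 = true := by decide +kernel
theorem rel35 : table.relOK chkPaths 5005 143 = true := by decide +kernel

end Cfsg.Agent.Lib.Helper28.TCCo3L5
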