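import Cfsg.Agent.Lib.Helper28.TCCo3Table
import Cfsg.Agent.Lib.Helper28.TCCo3L5
set_option autoImplicit false
set_option maxRecDepth 100000
set_option maxHeartbeats 0

namespace Cfsg.Agent.Lib.Helper28.TCCo3L9
open Cfsg.Agent.Lib.Helper28.TC2Upper Cfsg.Agent.Lib.Helper28.TC2Lower Cfsg.Agent.Lib.Helper28.TCCo3Table

theorem rel54 : table.relOK chkPaths 7722 143 = true := by decide +kernel
theorem rel55 : table.relOK chkPaths 7865 143 = true := by decide +kernel
theorem rel56 : table.relOK chkPaths 8008 143 = true := by decide +kernel
theorem rel57 : table.relOK chkPaths 8151 143 = true := by decide +kernel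
theorem rel58 : table.relOK chkPaths 8294 143 = true := by decide +kernel
theorem rel59 : table.relOK chkPaths 8437 143 = true := by decide +kernel

end Cfsg.Agent.Lib.Helper28.TCCo3L9
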