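import Cfsg.Agent.Lib.Helper28.TCCo3Table
import Cfsg.Agent.Lib.Helper28.TCCo3L9
set_option autoImplicit false
set_option maxRecDepth 100000
set_option maxHeartbeats 0

namespace Cfsg.Agent.Lib.Helper28.TCCo3L13
open Cfsg.Agent.Lib.Helper28.TC2Upper Cfsg.Agent.Lib.Helper28.TC2Lower Cfsg.Agent.Lib.Helper28.TCCo3Table

theorem rel78 : table.relOK chkPaths 11154 143 = true := by decide +kernel
theorem rel79 : table.relOK chkPaths 11297 143 = true := by decide +kernel
theorem rel80 : table.relOK chkPaths 11440 143 = true := by decide +kernel
theorem rel81 : table.relOK chkPaths 11583 143 = true := by decide +kernel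
theorem rel82 : table.relOK chkPaths 11726 143 = true := by decide +kernel
theorem rel83 : table.relOK chkPaths 11869 143 = true := by decide +kernel

end Cfsg.Agent.Lib.Helper28.TCCo3L13
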