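import Cfsg.Agent.Lib.Helper28.TCCo3Table
import Cfsg.Agent.Lib.Helper28.TCCo3L10
set_option autoImplicit false
set_option maxRecDepth 100000
set_option maxHeartbeats 0

namespace Cfsg.Agent.Lib.Helper28.TCCo3L14
open Cfsg.Agent.Lib.Helper28.TC2Upper Cfsg.Agent.Lib.Helper28.TC2Lower Cfsg.Agent.Lib.Helper28.TCCo3Table

theorem rel84 : table.relOK chkPaths 12012 143 = true := by decide +kernel
theorem rel85 : table.relOK chkPaths 12155 143 = true := by decide +kernel
theorem rel86 : table.relOK chkPaths 12298 143 = true := by decide +kernel
theorem rel87 : table.relOK chkPaths 12441 143 = true := by decide +kernel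
theorem rel88 : table.relOK chkPaths 12584 143 = true := by decide +kernel
theorem rel89 : table.relOK chkPaths 12727 143 = true := by decide +kernel

end Cfsg.Agent.Lib.Helper28.TCCo3L14
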