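import Cfsg.Agent.Lib.Helper28.TCCo3Table
import Cfsg.Agent.Lib.Helper28.TCCo3L11
set_option autoImplicit false
set_option maxRecDepth 100000
set_option maxHeartbeats 0

namespace Cfsg.Agent.Lib.Helper28.TCCo3L15
open Cfsg.Agent.Lib.Helper28.TC2Upper Cfsg.Agent.Lib.Helper28.TC2Lower Cfsg.Agent.Lib.Helper28.TCCo3Table

theorem rel90 : table.relOK chkPaths 12870 143 = true := by decide +kernel
theorem rel91 : table.relOK chkPaths 13013 143 = true := by decide +kernel
theorem rel92 : table.relOK chkPaths 13156 143 = true := by decide +kernel
theorem rel93 : table.relOK chkPaths 13299 143 = true := by decide +kernel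
theorem rel94 : table.relOK chkPaths 13442 143 = true := by decide +kernel
theorem rel95 : table.relOK chkPaths 13585 143 = true := by decide +kernel

end Cfsg.Agent.Lib.Helper28.TCCo3L15
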