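import Cfsg.Agent.Lib.Helper28.TCCo3Table
import Cfsg.Agent.Lib.Helper28.TCCo3L12
set_option autoImplicit false
set_option maxRecDepth 100000
set_option maxHeartbeats 0

namespace Cfsg.Agent.Lib.Helper28.TCCo3L16
open Cfsg.Agent.Lib.Helper28.TC2Upper Cfsg.Agent.Lib.Helper28.TC2Lower Cfsg.Agent.Lib.Helper28.TCCo3Table

theorem rel96 : table.relOK chkPaths 13728 143 = true := by decide +kernel
theorem rel97 : table.relOK chkPaths 13871 143 = true := by decide +kernel
theorem rel98 : table.relOK chkPaths 14014 143 = true := by decide +kernel
theorem rel99 : table.relOK chkPaths 14157 143 = true := by decide +kernel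
theorem rel100 : table.relOK chkPaths 14300 143 = true := by decide +kernel
theorem rel101 : table.relOK chkPaths 14443 143 = true := by decide +kernel

end Cfsg.Agent.Lib.Helper28.TCCo3L16
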