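import Cfsg.Agent.Lib.Helper28.TCCo3Table
import Cfsg.Agent.Lib.Helper28.TCCo3L13
set_option autoImplicit false
set_option maxRecDepth 100000
set_option maxHeartbeats 0

namespace Cfsg.Agent.Lib.Helper28.TCCo3L17
open Cfsg.Agent.Lib.Helper28.TC2Upper Cfsg.Agent.Lib.Helper28.TC2Lower Cfsg.Agent.Lib.Helper28.TCCo3Table

theorem rel102 : table.relOK chkPaths 14586 143 = true := by decide +kernel
theorem rel103 : table.relOK chkPaths 14729 143 = true := by decide +kernel
theorem rel104 : table.relOK chkPaths 14872 143 = true := by decide +kernel
theorem rel105 : table.relOK chkPaths 15015 143 = true := by decide +kernel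
theorem rel106 : table.relOK chkPaths 15158 143 = true := by decide +kernel
theorem rel107 : table.relOK chkPaths 15301 143 = true := by decide +kernel

end Cfsg.Agent.Lib.Helper28.TCCo3L17
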