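import Cfsg.Agent.Lib.Helper28.TCCo3Table
import Cfsg.Agent.Lib.Helper28.TCCo3L14
set_option autoImplicit false
set_option maxRecDepth 100000
set_option maxHeartbeats 0

namespace Cfsg.Agent.Lib.Helper28.TCCo3L18
open Cfsg.Agent.Lib.Helper28.TC2Upper Cfsg.Agent.Lib.Helper28.TC2Lower Cfsg.Agent.Lib.Helper28.TCCo3Table

theorem rel108 : table.relOK chkPaths 15444 143 = true := by decide +kernel
theorem rel109 : table.relOK chkPaths 15587 143 = true := by decide +kernel
theorem rel110 : table.relOK chkPaths 15730 143 = true := by decide +kernel
theorem rel111 : table.relOK chkPaths 15873 143 = true := by decide +kernel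
theorem rel112 : table.relOK chkPaths 16016 143 = true := by decide +kernel
theorem rel113 : table.relOK chkPaths 16159 143 = true := by decide +kernel

end Cfsg.Agent.Lib.Helper28.TCCo3L18
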