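import Cfsg.Agent.Lib.Helper28.TCCo3Table
import Cfsg.Agent.Lib.Helper28.TCCo3L15
set_option autoImplicit false
set_option maxRecDepth 100000
set_option maxHeartbeats 0

namespace Cfsg.Agent.Lib.Helper28.TCCo3L19
open Cfsg.Agent.Lib.Helper28.TC2Upper Cfsg.Agent.Lib.Helper28.TC2Lower Cfsg.Agent.Lib.Helper28.TCCo3Table

theorem rel114 : table.relOK chkPaths 16302 143 = true := by decide +kernel
theorem rel115 : table.relOK chkPaths 16445 143 = true := by decide +kernel
theorem rel116 : table.relOK chkPaths 16588 143 = true := by decide +kernel
theorem rel117 : table.relOK chkPaths 16731 143 = true := by decide +kernel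
theorem rel118 : table.relOK chkPaths 16874 143 = true := by decide +kernel
theorem rel119 : table.relOK chkPaths 17017 143 = true := by decide +kernel

end Cfsg.Agent.Lib.Helper28.TCCo3L19
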