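import Cfsg.Agent.Lib.Helper28.TCCo3Table
import Cfsg.Agent.Lib.Helper28.TCCo3L16
set_option autoImplicit false
set_option maxRecDepth 100000
set_option maxHeartbeats 0

namespace Cfsg.Agent.Lib.Helper28.TCCo3L20
open Cfsg.Agent.Lib.Helper28.TC2Upper Cfsg.Agent.Lib.Helper28.TC2Lower Cfsg.Agent.Lib.Helper28.TCCo3Table

theorem rel120 : table.relOK chkPaths 17160 143 = true := by decide +kernel
theorem rel121 : table.relOK chkPaths 17303 143 = true := by decide +kernel
theorem rel122 : table.relOK chkPaths 17446 143 = true := by decide +kernel
theorem rel123 : table.relOK chkPaths 17589 143 = true := by decide +kernel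
theorem rel124 : table.relOK chkPaths 17732 143 = true := by decide +kernel
theorem rel125 : table.relOK chkPaths 17875 143 = true := by decide +kernel

end Cfsg.Agent.Lib.Helper28.TCCo3L20
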