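import Cfsg.Agent.Lib.Helper28.TCCo3Table
import Cfsg.Agent.Lib.Helper28.TCCo3L17
set_option autoImplicit false
set_option maxRecDepth 100000
set_option maxHeartbeats 0

namespace Cfsg.Agent.Lib.Helper28.TCCo3L21
open Cfsg.Agent.Lib.Helper28.TC2Upper Cfsg.Agent.Lib.Helper28.TC2Lower Cfsg.Agent.Lib.Helper28.TCCo3Table

theorem rel126 : table.relOK chkPaths 18018 143 = true := by decide +kernel
theorem rel127 : table.relOK chkPaths 18161 143 = true := by decide +kernel
theorem rel128 : table.relOK chkPaths 18304 143 = true := by decide +kernel
theorem rel129 : table.relOK chkPaths 18447 143 = true := by decide +kernel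
theorem rel130 : table.relOK chkPaths 18590 143 = true := by decide +kernel
theorem rel131 : table.relOK chkPaths 18733 143 = true := by decide +kernel

end Cfsg.Agent.Lib.Helper28.TCCo3L21
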