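import Cfsg.Agent.Lib.Helper28.TCCo3Table
import Cfsg.Agent.Lib.Helper28.TCCo3L18
set_option autoImplicit false
set_option maxRecDepth 100000
set_option maxHeartbeats 0

namespace Cfsg.Agent.Lib.Helper28.TCCo3L22
open Cfsg.Agent.Lib.Helper28.TC2Upper Cfsg.Agent.Lib.Helper28.TC2Lower Cfsg.Agent.Lib.Helper28.TCCo3Table

theorem rel132 : table.relOK chkPaths 18876 143 = true := by decide +kernel
theorem rel133 : table.relOK chkPaths 19019 143 = true := by decide +kernel
theorem rel134 : table.relOK chkPaths 19162 143 = true := by decide +kernel
theorem rel135 : table.relOK chkPaths 19305 143 = true := by decide +kernel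
theorem rel136 : table.relOK chkPaths 19448 143 = true := by decide +kernel
theorem rel137 : table.relOK chkPaths 19591 143 = true := by decide +kernel

end Cfsg.Agent.Lib.Helper28.TCCo3L22
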