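import Cfsg.Agent.Lib.Helper28.TCCo3Table
import Cfsg.Agent.Lib.Helper28.TCCo3L19
set_option autoImplicit false
set_option maxRecDepth 100000
set_option maxHeartbeats 0

namespace Cfsg.Agent.Lib.Helper28.TCCo3L23
open Cfsg.Agent.Lib.Helper28.TC2Upper Cfsg.Agent.Lib.Helper28.TC2Lower Cfsg.Agent.Lib.Helper28.TCCo3Table

theorem rel138 : table.relOK chkPaths 19734 143 = true := by decide +kernel
theorem rel139 : table.relOK chkPaths 19877 143 = true := by decide +kernel
theorem rel140 : table.relOK chkPaths 20020 143 = true := by decide +kernel
theorem rel141 : table.relOK chkPaths 20163 143 = true := by decide +kernel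
theorem rel142 : table.relOK chkPaths 20306 143 = true := by decide +kernel
theorem rel143 : table.relOK chkPaths 20449 143 = true := by decide +kernel

end Cfsg.Agent.Lib.Helper28.TCCo3L23
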