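import Cfsg.Agent.Lib.Helper28.TCCo3Table
import Cfsg.Agent.Lib.Helper28.TCCo3L20
set_option autoImplicit false
set_option maxRecDepth 100000
set_option maxHeartbeats 0

namespace Cfsg.Agent.Lib.Helper28.TCCo3L24
open Cfsg.Agent.Lib.Helper28.TC2Upper Cfsg.Agent.Lib.Helper28.TC2Lower Cfsg.Agent.Lib.Helper28.TCCo3Table

theorem rel144 : table.relOK chkPaths 20592 143 = true := by decide +kernel
theorem rel145 : table.relOK chkPaths 20735 143 = true := by decide +kernel
theorem rel146 : table.relOK chkPaths 20878 143 = true := by decide +kernel
theorem rel147 : table.relOK chkPaths 21021 143 = true := by decide +kernel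
theorem rel148 : table.relOK chkPaths 21164 143 = true := by decide +kernel
theorem rel149 : table.relOK chkPaths 21307 143 = true := by decide +kernel

end Cfsg.Agent.Lib.Helper28.TCCo3L24
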