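import Cfsg.Agent.Lib.Helper28.TCCo3Table
import Cfsg.Agent.Lib.Helper28.TCCo3L21
set_option autoImplicit false
set_option maxRecDepth 100000
set_option maxHeartbeats 0

namespace Cfsg.Agent.Lib.Helper28.TCCo3L25
open Cfsg.Agent.Lib.Helper28.TC2Upper Cfsg.Agent.Lib.Helper28.TC2Lower Cfsg.Agent.Lib.Helper28.TCCo3Table

theorem rel150 : table.relOK chkPaths 21450 143 = true := by decide +kernel
theorem rel151 : table.relOK chkPaths 21593 143 = true := by decide +kernel
theorem rel152 : table.relOK chkPaths 21736 143 = true := by decide +kernel
theorem rel153 : table.relOK chkPaths 21879 143 = true := by decide +kernel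
theorem rel154 : table.relOK chkPaths 22022 143 = true := by decide +kernel
theorem rel155 : table.relOK chkPaths 22165 143 = true := by decide +kernel

end Cfsg.Agent.Lib.Helper28.TCCo3L25
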