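import Cfsg.Agent.Lib.Helper28.TCCo3Table
import Cfsg.Agent.Lib.Helper28.TCCo3L22
set_option autoImplicit false
set_option maxRecDepth 100000
set_option maxHeartbeats 0

namespace Cfsg.Agent.Lib.Helper28.TCCo3L26
open Cfsg.Agent.Lib.Helper28.TC2Upper Cfsg.Agent.Lib.Helper28.TC2Lower Cfsg.Agent.Lib.Helper28.TCCo3Table

theorem rel156 : table.relOK chkPaths 22308 143 = true := by decide +kernel
theorem rel157 : table.relOK chkPaths 22451 143 = true := by decide +kernel
theorem rel158 : table.relOK chkPaths 22594 143 = true := by decide +kernel
theorem rel159 : table.relOK chkPaths 22737 143 = true := by decide +kernel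
theorem rel160 : table.relOK chkPaths 22880 143 = true := by decide +kernel
theorem rel161 : table.relOK chkPaths 23023 143 = true := by decide +kernel

end Cfsg.Agent.Lib.Helper28.TCCo3L26
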