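import Cfsg.Agent.Lib.Helper28.TCCo3Table
import Cfsg.Agent.Lib.Helper28.TCCo3L24
set_option autoImplicit false
set_option maxRecDepth 100000
set_option maxHeartbeats 0

namespace Cfsg.Agent.Lib.Helper28.TCCo3L28
open Cfsg.Agent.Lib.Helper28.TC2Upper Cfsg.Agent.Lib.Helper28.TC2Lower Cfsg.Agent.Lib.Helper28.TCCo3Table

theorem rel168 : table.relOK chkPaths 24024 143 = true := by decide +kernel
theorem rel169 : table.relOK chkPaths 24167 143 = true := by decide +kernel
theorem rel170 : table.relOK chkPaths 24310 143 = true := by decide +kernel
theorem rel171 : table.relOK chkPaths 24453 143 = true := by decide +kernel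
theorem rel172 : table.relOK chkPaths 24596 143 = true := by decide +kernel
theorem rel173 : table.relOK chkPaths 24739 143 = true := by decide +kernel

end Cfsg.Agent.Lib.Helper28.TCCo3L28
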