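import Cfsg.Agent.Lib.Helper28.TCCo3Table
import Cfsg.Agent.Lib.Helper28.TCCo3L25
set_option autoImplicit false
set_option maxRecDepth 100000
set_option maxHeartbeats 0

namespace Cfsg.Agent.Lib.Helper28.TCCo3L29
open Cfsg.Agent.Lib.Helper28.TC2Upper Cfsg.Agent.Lib.Helper28.TC2Lower Cfsg.Agent.Lib.Helper28.TCCo3Table

theorem rel174 : table.relOK chkPaths 24882 143 = true := by decide +kernel
theorem rel175 : table.relOK chkPaths 25025 143 = true := by decide +kernel
theorem rel176 : table.relOK chkPaths 25168 143 = true := by decide +kernel
theorem rel177 : table.relOK chkPaths 25311 143 = true := by decide +kernel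
theorem rel178 : table.relOK chkPaths 25454 143 = true := by decide +kernel
theorem rel179 : table.relOK chkPaths 25597 143 = true := by decide +kernel

end Cfsg.Agent.Lib.Helper28.TCCo3L29
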