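import Cfsg.Agent.Lib.Helper28.TCCo3Table
import Cfsg.Agent.Lib.Helper28.TCCo3L26
set_option autoImplicit false
set_option maxRecDepth 100000
set_option maxHeartbeats 0

namespace Cfsg.Agent.Lib.Helper28.TCCo3L30
open Cfsg.Agent.Lib.Helper28.TC2Upper Cfsg.Agent.Lib.Helper28.TC2Lower Cfsg.Agent.Lib.Helper28.TCCo3Table

theorem rel180 : table.relOK chkPaths 25740 143 = true := by decide +kernel
theorem rel181 : table.relOK chkPaths 25883 143 = true := by decide +kernel
theorem rel182 : table.relOK chkPaths 26026 143 = true := by decide +kernel
theorem rel183 : table.relOK chkPaths 26169 143 = true := by decide +kernel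
theorem rel184 : table.relOK chkPaths 26312 143 = true := by decide +kernel
theorem rel185 : table.relOK chkPaths 26455 143 = true := by decide +kernel

end Cfsg.Agent.Lib.Helper28.TCCo3L30
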