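import Cfsg.Agent.Lib.Helper28.TCCo3Table
import Cfsg.Agent.Lib.Helper28.TCCo3L27
set_option autoImplicit false
set_option maxRecDepth 100000
set_option maxHeartbeats 0

namespace Cfsg.Agent.Lib.Helper28.TCCo3L31
open Cfsg.Agent.Lib.Helper28.TC2Upper Cfsg.Agent.Lib.Helper28.TC2Lower Cfsg.Agent.Lib.Helper28.TCCo3Table

theorem rel186 : table.relOK chkPaths 26598 143 = true := by decide +kernel
theorem rel187 : table.relOK chkPaths 26741 143 = true := by decide +kernel
theorem rel188 : table.relOK chkPaths 26884 143 = true := by decide +kernel
theorem rel189 : table.relOK chkPaths 27027 143 = true := by decide +kernel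
theorem rel190 : table.relOK chkPaths 27170 143 = true := by decide +kernel
theorem rel191 : table.relOK chkPaths 27313 143 = true := by decide +kernel

end Cfsg.Agent.Lib.Helper28.TCCo3L31
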