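import Cfsg.Agent.Lib.Helper28.TCCo3Table
import Cfsg.Agent.Lib.Helper28.TCCo3L28
set_option autoImplicit false
set_option maxRecDepth 100000
set_option maxHeartbeats 0

namespace Cfsg.Agent.Lib.Helper28.TCCo3L32
open Cfsg.Agent.Lib.Helper28.TC2Upper Cfsg.Agent.Lib.Helper28.TC2Lower Cfsg.Agent.Lib.Helper28.TCCo3Table

theorem rel192 : table.relOK chkPaths 27456 143 = true := by decide +kernel
theorem rel193 : table.relOK chkPaths 27599 143 = true := by decide +kernel
theorem rel194 : table.relOK chkPaths 27742 143 = true := by decide +kernel
theorem rel195 : table.relOK chkPaths 27885 143 = true := by decide +kernel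
theorem rel196 : table.relOK chkPaths 28028 143 = true := by decide +kernel
theorem rel197 : table.relOK chkPaths 28171 143 = true := by decide +kernel

end Cfsg.Agent.Lib.Helper28.TCCo3L32
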