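import Cfsg.Agent.Lib.Helper28.TCCo3Table
import Cfsg.Agent.Lib.Helper28.TCCo3L29
set_option autoImplicit false
set_option maxRecDepth 100000
set_option maxHeartbeats 0

namespace Cfsg.Agent.Lib.Helper28.TCCo3L33
open Cfsg.Agent.Lib.Helper28.TC2Upper Cfsg.Agent.Lib.Helper28.TC2Lower Cfsg.Agent.Lib.Helper28.TCCo3Table

theorem rel198 : table.relOK chkPaths 28314 143 = true := by decide +kernel
theorem rel199 : table.relOK chkPaths 28457 143 = true := by decide +kernel
theorem rel200 : table.relOK chkPaths 28600 143 = true := by decide +kernel
theorem rel201 : table.relOK chkPaths 28743 143 = true := by decide +kernel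
theorem rel202 : table.relOK chkPaths 28886 143 = true := by decide +kernel
theorem rel203 : table.relOK chkPaths 29029 143 = true := by decide +kernel

end Cfsg.Agent.Lib.Helper28.TCCo3L33
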