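import Cfsg.Agent.Lib.Helper28.TCCo3Table
import Cfsg.Agent.Lib.Helper28.TCCo3L30
set_option autoImplicit false
set_option maxRecDepth 100000
set_option maxHeartbeats 0

namespace Cfsg.Agent.Lib.Helper28.TCCo3L34
open Cfsg.Agent.Lib.Helper28.TC2Upper Cfsg.Agent.Lib.Helper28.TC2Lower Cfsg.Agent.Lib.Helper28.TCCo3Table

theorem rel204 : table.relOK chkPaths 29172 143 = true := by decide +kernel
theorem rel205 : table.relOK chkPaths 29315 143 = true := by decide +kernel
theorem rel206 : table.relOK chkPaths 29458 143 = true := by decide +kernel
theorem rel207 : table.relOK chkPaths 29601 143 = true := by decide +kernel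
theorem rel208 : table.relOK chkPaths 29744 143 = true := by decide +kernel
theorem rel209 : table.relOK chkPaths 29887 143 = true := by decide +kernel

end Cfsg.Agent.Lib.Helper28.TCCo3L34
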