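import Cfsg.Agent.Lib.Helper28.TCCo3Table
import Cfsg.Agent.Lib.Helper28.TCCo3L31
set_option autoImplicit false
set_option maxRecDepth 100000
set_option maxHeartbeats 0

namespace Cfsg.Agent.Lib.Helper28.TCCo3L35
open Cfsg.Agent.Lib.Helper28.TC2Upper Cfsg.Agent.Lib.Helper28.TC2Lower Cfsg.Agent.Lib.Helper28.TCCo3Table

theorem rel210 : table.relOK chkPaths 30030 143 = true := by decide +kernel
theorem rel211 : table.relOK chkPaths 30173 143 = true := by decide +kernel
theorem rel212 : table.relOK chkPaths 30316 143 = true := by decide +kernel
theorem rel213 : table.relOK chkPaths 30459 143 = true := by decide +kernel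
theorem rel214 : table.relOK chkPaths 30602 143 = true := by decide +kernel
theorem rel215 : table.relOK chkPaths 30745 143 = true := by decide +kernel

end Cfsg.Agent.Lib.Helper28.TCCo3L35
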