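import Cfsg.Agent.Lib.Helper28.TCCo3Table
import Cfsg.Agent.Lib.Helper28.TCCo3L33
set_option autoImplicit false
set_option maxRecDepth 100000
set_option maxHeartbeats 0

namespace Cfsg.Agent.Lib.Helper28.TCCo3L37
open Cfsg.Agent.Lib.Helper28.TC2Upper Cfsg.Agent.Lib.Helper28.TC2Lower Cfsg.Agent.Lib.Helper28.TCCo3Table

theorem rel222 : table.relOK chkPaths 31746 143 = true := by decide +kernel
theorem rel223 : table.relOK chkPaths 31889 143 = true := by decide +kernel
theorem rel224 : table.relOK chkPaths 32032 143 = true := by decide +kernel
theorem rel225 : table.relOK chkPaths 32175 143 = true := by decide +kernel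
theorem rel226 : table.relOK chkPaths 32318 143 = true := by decide +kernel
theorem rel227 : table.relOK chkPaths 32461 143 = true := by decide +kernel

end Cfsg.Agent.Lib.Helper28.TCCo3L37
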