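import Cfsg.Agent.Lib.Helper28.TCCo3Table
import Cfsg.Agent.Lib.Helper28.TCCo3L34
set_option autoImplicit false
set_option maxRecDepth 100000
set_option maxHeartbeats 0

namespace Cfsg.Agent.Lib.Helper28.TCCo3L38
open Cfsg.Agent.Lib.Helper28.TC2Upper Cfsg.Agent.Lib.Helper28.TC2Lower Cfsg.Agent.Lib.Helper28.TCCo3Table

theorem rel228 : table.relOK chkPaths 32604 143 = true := by decide +kernel
theorem rel229 : table.relOK chkPaths 32747 143 = true := by decide +kernel
theorem rel230 : table.relOK chkPaths 32890 143 = true := by decide +kernel
theorem rel231 : table.relOK chkPaths 33033 143 = true := by decide +kernel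
theorem rel232 : table.relOK chkPaths 33176 143 = true := by decide +kernel
theorem rel233 : table.relOK chkPaths 33319 143 = true := by decide +kernel

end Cfsg.Agent.Lib.Helper28.TCCo3L38
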