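import Cfsg.Agent.Lib.Helper28.TCCo3Table
import Cfsg.Agent.Lib.Helper28.TCCo3L35
set_option autoImplicit false
set_option maxRecDepth 100000
set_option maxHeartbeats 0

namespace Cfsg.Agent.Lib.Helper28.TCCo3L39
open Cfsg.Agent.Lib.Helper28.TC2Upper Cfsg.Agent.Lib.Helper28.TC2Lower Cfsg.Agent.Lib.Helper28.TCCo3Table

theorem rel234 : table.relOK chkPaths 33462 143 = true := by decide +kernel
theorem rel235 : table.relOK chkPaths 33605 143 = true := by decide +kernel
theorem rel236 : table.relOK chkPaths 33748 143 = true := by decide +kernel
theorem rel237 : table.relOK chkPaths 33891 143 = true := by decide +kernel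
theorem rel238 : table.relOK chkPaths 34034 143 = true := by decide +kernel
theorem rel239 : table.relOK chkPaths 34177 143 = true := by decide +kernel

end Cfsg.Agent.Lib.Helper28.TCCo3L39
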