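import Cfsg.Agent.Lib.Helper28.TCCo3Table
import Cfsg.Agent.Lib.Helper28.TCCo3L36
set_option autoImplicit false
set_option maxRecDepth 100000
set_option maxHeartbeats 0

namespace Cfsg.Agent.Lib.Helper28.TCCo3L40
open Cfsg.Agent.Lib.Helper28.TC2Upper Cfsg.Agent.Lib.Helper28.TC2Lower Cfsg.Agent.Lib.Helper28.TCCo3Table

theorem rel240 : table.relOK chkPaths 34320 143 = true := by decide +kernel
theorem rel241 : table.relOK chkPaths 34463 143 = true := by decide +kernel
theorem rel242 : table.relOK chkPaths 34606 143 = true := by decide +kernel
theorem rel243 : table.relOK chkPaths 34749 143 = true := by decide +kernel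
theorem rel244 : table.relOK chkPaths 34892 143 = true := by decide +kernel
theorem rel245 : table.relOK chkPaths 35035 143 = true := by decide +kernel

end Cfsg.Agent.Lib.Helper28.TCCo3L40
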