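import Cfsg.Agent.Lib.Helper28.TCCo3Table
import Cfsg.Agent.Lib.Helper28.TCCo3L38
set_option autoImplicit false
set_option maxRecDepth 100000
set_option maxHeartbeats 0

namespace Cfsg.Agent.Lib.Helper28.TCCo3L42
open Cfsg.Agent.Lib.Helper28.TC2Upper Cfsg.Agent.Lib.Helper28.TC2Lower Cfsg.Agent.Lib.Helper28.TCCo3Table

theorem rel252 : table.relOK chkPaths 36036 143 = true := by decide +kernel
theorem rel253 : table.relOK chkPaths 36179 143 = true := by decide +kernel
theorem rel254 : table.relOK chkPaths 36322 143 = true := by decide +kernel
theorem rel255 : table.relOK chkPaths 36465 143 = true := by decide +kernel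
theorem rel256 : table.relOK chkPaths 36608 143 = true := by decide +kernel
theorem rel257 : table.relOK chkPaths 36751 143 = true := by decide +kernel

end Cfsg.Agent.Lib.Helper28.TCCo3L42
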