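import Cfsg.Agent.Lib.Helper28.TCCo3Table
import Cfsg.Agent.Lib.Helper28.TCCo3L39
set_option autoImplicit false
set_option maxRecDepth 100000
set_option maxHeartbeats 0

namespace Cfsg.Agent.Lib.Helper28.TCCo3L43
open Cfsg.Agent.Lib.Helper28.TC2Upper Cfsg.Agent.Lib.Helper28.TC2Lower Cfsg.Agent.Lib.Helper28.TCCo3Table

theorem rel258 : table.relOK chkPaths 36894 143 = true := by decide +kernel
theorem rel259 : table.relOK chkPaths 37037 143 = true := by decide +kernel
theorem rel260 : table.relOK chkPaths 37180 143 = true := by decide +kernel
theorem rel261 : table.relOK chkPaths 37323 143 = true := by decide +kernel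
theorem rel262 : table.relOK chkPaths 37466 143 = true := by decide +kernel
theorem rel263 : table.relOK chkPaths 37609 143 = true := by decide +kernel

end Cfsg.Agent.Lib.Helper28.TCCo3L43
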