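import Cfsg.Agent.Lib.Helper28.TCCo3Table
import Cfsg.Agent.Lib.Helper28.TCCo3L40
set_option autoImplicit false
set_option maxRecDepth 100000
set_option maxHeartbeats 0

namespace Cfsg.Agent.Lib.Helper28.TCCo3L44
open Cfsg.Agent.Lib.Helper28.TC2Upper Cfsg.Agent.Lib.Helper28.TC2Lower Cfsg.Agent.Lib.Helper28.TCCo3Table

theorem rel264 : table.relOK chkPaths 37752 143 = true := by decide +kernel
theorem rel265 : table.relOK chkPaths 37895 143 = true := by decide +kernel
theorem rel266 : table.relOK chkPaths 38038 143 = true := by decide +kernel
theorem rel267 : table.relOK chkPaths 38181 143 = true := by decide +kernel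
theorem rel268 : table.relOK chkPaths 38324 143 = true := by decide +kernel
theorem rel269 : table.relOK chkPaths 38467 143 = true := by decide +kernel

end Cfsg.Agent.Lib.Helper28.TCCo3L44
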