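import Cfsg.Agent.Lib.Helper28.TCCo3Table
import Cfsg.Agent.Lib.Helper28.TCCo3L42
set_option autoImplicit false
set_option maxRecDepth 100000
set_option maxHeartbeats 0

namespace Cfsg.Agent.Lib.Helper28.TCCo3L46
open Cfsg.Agent.Lib.Helper28.TC2Upper Cfsg.Agent.Lib.Helper28.TC2Lower Cfsg.Agent.Lib.Helper28.TCCo3Table

theorem rel276 : table.relOK chkPaths 39468 143 = true := by decide +kernel
theorem rel277 : table.relOK chkPaths 39611 143 = true := by decide +kernel
theorem rel278 : table.relOK chkPaths 39754 143 = true := by decide +kernel
theorem rel279 : table.relOK chkPaths 39897 143 = true := by decide +kernel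
theorem rel280 : table.relOK chkPaths 40040 143 = true := by decide +kernel
theorem rel281 : table.relOK chkPaths 40183 143 = true := by decide +kernel

end Cfsg.Agent.Lib.Helper28.TCCo3L46
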