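import Cfsg.Agent.Lib.Helper28.TCCo3Table
import Cfsg.Agent.Lib.Helper28.TCCo3L43
set_option autoImplicit false
set_option maxRecDepth 100000
set_option maxHeartbeats 0

namespace Cfsg.Agent.Lib.Helper28.TCCo3L47
open Cfsg.Agent.Lib.Helper28.TC2Upper Cfsg.Agent.Lib.Helper28.TC2Lower Cfsg.Agent.Lib.Helper28.TCCo3Table

theorem rel282 : table.relOK chkPaths 40326 143 = true := by decide +kernel
theorem rel283 : table.relOK chkPaths 40469 143 = true := by decide +kernel
theorem rel284 : table.relOK chkPaths 40612 143 = true := by decide +kernel
theorem rel285 : table.relOK chkPaths 40755 143 = true := by decide +kernel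
theorem rel286 : table.relOK chkPaths 40898 143 = true := by decide +kernel
theorem rel287 : table.relOK chkPaths 41041 143 = true := by decide +kernel

end Cfsg.Agent.Lib.Helper28.TCCo3L47
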