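import Cfsg.Agent.Lib.Helper28.TCCo3Table
import Cfsg.Agent.Lib.Helper28.TCCo3L45
set_option autoImplicit false
set_option maxRecDepth 100000
set_option maxHeartbeats 0

namespace Cfsg.Agent.Lib.Helper28.TCCo3L49
open Cfsg.Agent.Lib.Helper28.TC2Upper Cfsg.Agent.Lib.Helper28.TC2Lower Cfsg.Agent.Lib.Helper28.TCCo3Table

theorem rel294 : table.relOK chkPaths 42042 143 = true := by decide +kernel
theorem rel295 : table.relOK chkPaths 42185 143 = true := by decide +kernel
theorem rel296 : table.relOK chkPaths 42328 143 = true := by decide +kernel
theorem rel297 : table.relOK chkPaths 42471 143 = true := by decide +kernel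
theorem rel298 : table.relOK chkPaths 42614 143 = true := by decide +kernel
theorem rel299 : table.relOK chkPaths 42757 143 = true := by decide +kernel

end Cfsg.Agent.Lib.Helper28.TCCo3L49
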