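import Cfsg.Agent.Lib.Helper28.TCCo3Table
import Cfsg.Agent.Lib.Helper28.TCCo3L46
set_option autoImplicit false
set_option maxRecDepth 100000
set_option maxHeartbeats 0

namespace Cfsg.Agent.Lib.Helper28.TCCo3L50
open Cfsg.Agent.Lib.Helper28.TC2Upper Cfsg.Agent.Lib.Helper28.TC2Lower Cfsg.Agent.Lib.Helper28.TCCo3Table

theorem rel300 : table.relOK chkPaths 42900 143 = true := by decide +kernel
theorem rel301 : table.relOK chkPaths 43043 143 = true := by decide +kernel
theorem rel302 : table.relOK chkPaths 43186 143 = true := by decide +kernel
theorem rel303 : table.relOK chkPaths 43329 143 = true := by decide +kernel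
theorem rel304 : table.relOK chkPaths 43472 143 = true := by decide +kernel
theorem rel305 : table.relOK chkPaths 43615 143 = true := by decide +kernel

end Cfsg.Agent.Lib.Helper28.TCCo3L50
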