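import Cfsg.Agent.Lib.Helper28.TCCo3Table
import Cfsg.Agent.Lib.Helper28.TCCo3L47
set_option autoImplicit false
set_option maxRecDepth 100000
set_option maxHeartbeats 0

namespace Cfsg.Agent.Lib.Helper28.TCCo3L51
open Cfsg.Agent.Lib.Helper28.TC2Upper Cfsg.Agent.Lib.Helper28.TC2Lower Cfsg.Agent.Lib.Helper28.TCCo3Table

theorem rel306 : table.relOK chkPaths 43758 143 = true := by decide +kernel
theorem rel307 : table.relOK chkPaths 43901 143 = true := by decide +kernel
theorem rel308 : table.relOK chkPaths 44044 143 = true := by decide +kernel
theorem rel309 : table.relOK chkPaths 44187 143 = true := by decide +kernel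
theorem rel310 : table.relOK chkPaths 44330 143 = true := by decide +kernel
theorem rel311 : table.relOK chkPaths 44473 143 = true := by decide +kernel

end Cfsg.Agent.Lib.Helper28.TCCo3L51
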