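import Cfsg.Agent.Lib.Helper28.TCCo3Table
import Cfsg.Agent.Lib.Helper28.TCCo3L48
set_option autoImplicit false
set_option maxRecDepth 100000
set_option maxHeartbeats 0

namespace Cfsg.Agent.Lib.Helper28.TCCo3L52
open Cfsg.Agent.Lib.Helper28.TC2Upper Cfsg.Agent.Lib.Helper28.TC2Lower Cfsg.Agent.Lib.Helper28.TCCo3Table

theorem rel312 : table.relOK chkPaths 44616 143 = true := by decide +kernel
theorem rel313 : table.relOK chkPaths 44759 143 = true := by decide +kernel
theorem rel314 : table.relOK chkPaths 44902 143 = true := by decide +kernel
theorem rel315 : table.relOK chkPaths 45045 143 = true := by decide +kernel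
theorem rel316 : table.relOK chkPaths 45188 143 = true := by decide +kernel
theorem rel317 : table.relOK chkPaths 45331 143 = true := by decide +kernel

end Cfsg.Agent.Lib.Helper28.TCCo3L52
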