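import Cfsg.Agent.Lib.Helper28.TCCo3Table
import Cfsg.Agent.Lib.Helper28.TCCo3L49
set_option autoImplicit false
set_option maxRecDepth 100000
set_option maxHeartbeats 0

namespace Cfsg.Agent.Lib.Helper28.TCCo3L53
open Cfsg.Agent.Lib.Helper28.TC2Upper Cfsg.Agent.Lib.Helper28.TC2Lower Cfsg.Agent.Lib.Helper28.TCCo3Table

theorem rel318 : table.relOK chkPaths 45474 143 = true := by decide +kernel
theorem rel319 : table.relOK chkPaths 45617 143 = true := by decide +kernel
theorem rel320 : table.relOK chkPaths 45760 143 = true := by decide +kernel
theorem rel321 : table.relOK chkPaths 45903 143 = true := by decide +kernel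
theorem rel322 : table.relOK chkPaths 46046 143 = true := by decide +kernel
theorem rel323 : table.relOK chkPaths 46189 143 = true := by decide +kernel

end Cfsg.Agent.Lib.Helper28.TCCo3L53
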