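import Cfsg.Agent.Lib.Helper28.TCCo3Table
import Cfsg.Agent.Lib.Helper28.TCCo3L50
set_option autoImplicit false
set_option maxRecDepth 100000
set_option maxHeartbeats 0

namespace Cfsg.Agent.Lib.Helper28.TCCo3L54
open Cfsg.Agent.Lib.Helper28.TC2Upper Cfsg.Agent.Lib.Helper28.TC2Lower Cfsg.Agent.Lib.Helper28.TCCo3Table

theorem rel324 : table.relOK chkPaths 46332 143 = true := by decide +kernel
theorem rel325 : table.relOK chkPaths 46475 143 = true := by decide +kernel
theorem rel326 : table.relOK chkPaths 46618 143 = true := by decide +kernel
theorem rel327 : table.relOK chkPaths 46761 143 = true := by decide +kernel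
theorem rel328 : table.relOK chkPaths 46904 143 = true := by decide +kernel
theorem rel329 : table.relOK chkPaths 47047 143 = true := by decide +kernel

end Cfsg.Agent.Lib.Helper28.TCCo3L54
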