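import Cfsg.Agent.Lib.Helper28.TCCo3Table
import Cfsg.Agent.Lib.Helper28.TCCo3L51
set_option autoImplicit false
set_option maxRecDepth 100000
set_option maxHeartbeats 0

namespace Cfsg.Agent.Lib.Helper28.TCCo3L55
open Cfsg.Agent.Lib.Helper28.TC2Upper Cfsg.Agent.Lib.Helper28.TC2Lower Cfsg.Agent.Lib.Helper28.TCCo3Table

theorem rel330 : table.relOK chkPaths 47190 143 = true := by decide +kernel
theorem rel331 : table.relOK chkPaths 47333 143 = true := by decide +kernel
theorem rel332 : table.relOK chkPaths 47476 143 = true := by decide +kernel
theorem rel333 : table.relOK chkPaths 47619 143 = true := by decide +kernel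
theorem rel334 : table.relOK chkPaths 47762 143 = true := by decide +kernel
theorem rel335 : table.relOK chkPaths 47905 143 = true := by decide +kernel

end Cfsg.Agent.Lib.Helper28.TCCo3L55
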