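import Cfsg.Agent.Lib.Helper28.TCCo3Data
import Cfsg.Agent.Lib.Helper28.TCCo3U8
set_option autoImplicit false
set_option maxRecDepth 100000
set_option maxHeartbeats 0

namespace Cfsg.Agent.Lib.Helper28.TCCo3U14
open Cfsg.Agent.Lib.Helper28.TC2Upper Cfsg.Agent.Lib.Helper28.TCCo3Data

theorem chk70 : data.checkRange 61465 1129 = true := by decide +kernel
theorem chk71 : data.checkRange 62594 1207 = true := by decide +kernel
theorem chk72 : data.checkRange 63801 1150 = true := by decide +kernel
theorem chk73 : data.checkRange 64951 1188 = true := by decide +kernel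
theorem chk74 : data.checkRange 66139 1291 = true := by decide +kernel

end Cfsg.Agent.Lib.Helper28.TCCo3U14
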