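import Cfsg.Agent.Lib.Helper28.TCCo3Data
import Cfsg.Agent.Lib.Helper28.TCCo3U9
set_option autoImplicit false
set_option maxRecDepth 100000
set_option maxHeartbeats 0

namespace Cfsg.Agent.Lib.Helper28.TCCo3U15
open Cfsg.Agent.Lib.Helper28.TC2Upper Cfsg.Agent.Lib.Helper28.TCCo3Data

theorem chk75 : data.checkRange 67430 1240 = true := by decide +kernel
theorem chk76 : data.checkRange 68670 1453 = true := by decide +kernel
theorem chk77 : data.checkRange 70123 1247 = true := by decide +kernel
theorem chk78 : data.checkRange 71370 1396 = true := by decide +kernel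
theorem chk79 : data.checkRange 72766 1335 = true := by decide +kernel

end Cfsg.Agent.Lib.Helper28.TCCo3U15
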