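import Cfsg.Agent.Lib.Helper28.TCCo3Data
import Cfsg.Agent.Lib.Helper28.TCCo3U10
set_option autoImplicit false
set_option maxRecDepth 100000
set_option maxHeartbeats 0

namespace Cfsg.Agent.Lib.Helper28.TCCo3U16
open Cfsg.Agent.Lib.Helper28.TC2Upper Cfsg.Agent.Lib.Helper28.TCCo3Data

theorem chk80 : data.checkRange 74101 1310 = true := by decide +kernel
theorem chk81 : data.checkRange 75411 1354 = true := by decide +kernel
theorem chk82 : data.checkRange 76765 1131 = true := by decide +kernel
theorem chk83 : data.checkRange 77896 1233 = true := by decide +kernel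
theorem chk84 : data.checkRange 79129 1328 = true := by decide +kernel

end Cfsg.Agent.Lib.Helper28.TCCo3U16
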