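import Cfsg.Agent.Lib.Helper28.TC2GlueOrb
import Cfsg.Agent.Lib.Helper28.TC2Range
import Cfsg.Agent.Lib.Helper28.TCCo3Link
import Cfsg.Agent.Lib.Helper28.TCCo3M
import Cfsg.Agent.Lib.Helper28.TCCo3M0
import Cfsg.Agent.Lib.Helper28.TCCo3M1
import Cfsg.Agent.Lib.Helper28.TCCo3M2
import Cfsg.Agent.Lib.Helper28.TCCo3M3
import Cfsg.Agent.Lib.Helper28.TCCo3U0
import Cfsg.Agent.Lib.Helper28.TCCo3U1
import Cfsg.Agent.Lib.Helper28.TCCo3U2
import Cfsg.Agent.Lib.Helper28.TCCo3U3
import Cfsg.Agent.Lib.Helper28.TCCo3U4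
import Cfsg.Agent.Lib.Helper28.TCCo3U5
import Cfsg.Agent.Lib.Helper28.TCCo3U6
import Cfsg.Agent.Lib.Helper28.TCCo3U7
import Cfsg.Agent.Lib.Helper28.TCCo3U8
import Cfsg.Agent.Lib.Helper28.TCCo3U9
import Cfsg.Agent.Lib.Helper28.TCCo3U10
import Cfsg.Agent.Lib.Helper28.TCCo3U11
import Cfsg.Agent.Lib.Helper28.TCCo3U12
import Cfsg.Agent.Lib.Helper28.TCCo3U13
import Cfsg.Agent.Lib.Helper28.TCCo3U14
import Cfsg.Agent.Lib.Helper28.TCCo3U15
import Cfsg.Agent.Lib.Helper28.TCCo3U16
import Cfsg.Agent.Lib.Helper28.TCCo3U17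
import Cfsg.Agent.Lib.Helper28.TCCo3U18
import Cfsg.Agent.Lib.Helper28.TCCo3U19
import Cfsg.Agent.Lib.Helper28.TCCo3L0
import Cfsg.Agent.Lib.Helper28.TCCo3L1
import Cfsg.Agent.Lib.Helper28.TCCo3L2
import Cfsg.Agent.Lib.Helper28.TCCo3L3
import Cfsg.Agent.Lib.Helper28.TCCo3L4
import Cfsg.Agent.Lib.Helper28.TCCo3L5
import Cfsg.Agent.Lib.Helper28.TCCo3L6
import Cfsg.Agent.Lib.Helper28.TCCo3L7
import Cfsg.Agent.Lib.Helper28.TCCo3L8
import Cfsg.Agent.Lib.Helper28.TCCo3L9
import Cfsg.Agent.Lib.Helper28.TCCo3L10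
import Cfsg.Agent.Lib.Helper28.TCCo3L11
import Cfsg.Agent.Lib.Helper28.TCCo3L12
import Cfsg.Agent.Lib.Helper28.TCCo3L13
import Cfsg.Agent.Lib.Helper28.TCCo3L14
import Cfsg.Agent.Lib.Helper28.TCCo3L15
import Cfsg.Agent.Lib.Helper28.TCCo3L16
import Cfsg.Agent.Lib.Helper28.TCCo3L17
import Cfsg.Agent.Lib.Helper28.TCCo3L18
import Cfsg.Agent.Lib.Helper28.TCCo3L19
import Cfsg.Agent.Lib.Helper28.TCCo3L20
import Cfsg.Agent.Lib.Helper28.TCCo3L21
import Cfsg.Agent.Lib.Helper28.TCCo3L22
import Cfsg.Agent.Lib.Helper28.TCCo3L23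
import Cfsg.Agent.Lib.Helper28.TCCo3L24
import Cfsg.Agent.Lib.Helper28.TCCo3L25
import Cfsg.Agent.Lib.Helper28.TCCo3L26
import Cfsg.Agent.Lib.Helper28.TCCo3L27
import Cfsg.Agent.Lib.Helper28.TCCo3L28
import Cfsg.Agent.Lib.Helper28.TCCo3L29
import Cfsg.Agent.Lib.Helper28.TCCo3L30
import Cfsg.Agent.Lib.Helper28.TCCo3L31
import Cfsg.Agent.Lib.Helper28.TCCo3L32
import Cfsg.Agent.Lib.Helper28.TCCo3L33
import Cfsg.Agent.Lib.Helper28.TCCo3L34
import Cfsg.Agent.Lib.Helper28.TCCo3L35
import Cfsg.Agent.Lib.Helper28.TCCo3L36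
import Cfsg.Agent.Lib.Helper28.TCCo3L37
import Cfsg.Agent.Lib.Helper28.TCCo3L38
import Cfsg.Agent.Lib.Helper28.TCCo3L39
import Cfsg.Agent.Lib.Helper28.TCCo3L40
import Cfsg.Agent.Lib.Helper28.TCCo3L41
import Cfsg.Agent.Lib.Helper28.TCCo3L42
import Cfsg.Agent.Lib.Helper28.TCCo3L43
import Cfsg.Agent.Lib.Helper28.TCCo3L44
import Cfsg.Agent.Lib.Helper28.TCCo3L45
import Cfsg.Agent.Lib.Helper28.TCCo3L46
import Cfsg.Agent.Lib.Helper28.TCCo3L47
import Cfsg.Agent.Lib.Helper28.TCCo3L48
import Cfsg.Agent.Lib.Helper28.TCCo3L49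
import Cfsg.Agent.Lib.Helper28.TCCo3L50
import Cfsg.Agent.Lib.Helper28.TCCo3L51
import Cfsg.Agent.Lib.Helper28.TCCo3L52
import Cfsg.Agent.Lib.Helper28.TCCo3L53
import Cfsg.Agent.Lib.Helper28.TCCo3L54
import Cfsg.Agent.Lib.Helper28.TCCo3L55
import Cfsg.Agent.Lib.Helper28.TCCo3L56

set_option autoImplicit false
set_option maxRecDepth 100000
open Cfsg

namespace Cfsg.Agent.Lib.Helper28.TCCo3Main
open Cfsg.Agent.Lib.Helper28.TC2Upper Cfsg.Agent.Lib.Helper28.TC2Lower Cfsg.Agent.Lib.Helper28.TC2Glue Cfsg.Agent.Lib.Helper28.TC2GlueOrb Cfsg.Agent.Lib.Helper28.TC2Orbit Cfsg.Agent.Lib.Helper28.TC2Range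
open Cfsg.Agent.Lib.Helper28.TCCo3Data Cfsg.Agent.Lib.Helper28.TCCo3Table Cfsg.Agent.Lib.Helper28.TCCo3Link Cfsg.Agent.Lib.Helper28.TCCo3M

theorem hchk : ∀ v, v < data.N → data.checkNode v = true := by
  intro v hv
  have hv' : v < 87549 := hv
  rcases Nat.lt_or_ge v 674 with h0 | h0
  · exact (data.checkRange_iff 0 674).mp Cfsg.Agent.Lib.Helper28.TCCo3U0.chk0 v (by omega) (by omega)
  rcases Nat.lt_or_ge v 1353 with h1 | h1
  · exact (data.checkRange_iff 674 679).mp Cfsg.Agent.Lib.Helper28.TCCo3U0.chk1 v (by omega) (by omega)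
  rcases Nat.lt_or_ge v 2054 with h2 | h2
  · exact (data.checkRange_iff 1353 701).mp Cfsg.Agent.Lib.Helper28.TCCo3U0.chk2 v (by omega) (by omega)
  rcases Nat.lt_or_ge v 2753 with h3 | h3
  · exact (data.checkRange_iff 2054 699).mp Cfsg.Agent.Lib.Helper28.TCCo3U0.chk3 v (by omega) (by omega)
  rcases Nat.lt_or_ge v 3475 with h4 | h4
  · exact (data.checkRange_iff 2753 722).mp Cfsg.Agent.Lib.Helper28.TCCo3U0.chk4 v (by omega) (by omega)
  rcases Nat.lt_or_ge v 4208 with h5 | h5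
  · exact (data.checkRange_iff 3475 733).mp Cfsg.Agent.Lib.Helper28.TCCo3U1.chk5 v (by omega) (by omega)
  rcases Nat.lt_or_ge v 4930 with h6 | h6
  · exact (data.checkRange_iff 4208 722).mp Cfsg.Agent.Lib.Helper28.TCCo3U1.chk6 v (by omega) (by omega)
  rcases Nat.lt_or_ge v 5634 with h7 | h7
  · exact (data.checkRange_iff 4930 704).mp Cfsg.Agent.Lib.Helper28.TCCo3U1.chk7 v (by omega) (by omega)
  rcases Nat.lt_or_ge v 6354 with h8 | h8
  · exact (data.checkRange_iff 5634 720).mp Cfsg.Agent.Lib.Helper28.TCCo3U1.chk8 v (by omega) (by omega)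
  rcases Nat.lt_or_ge v 7102 with h9 | h9
  · exact (data.checkRange_iff 6354 748).mp Cfsg.Agent.Lib.Helper28.TCCo3U1.chk9 v (by omega) (by omega)
  rcases Nat.lt_or_ge v 7881 with h10 | h10
  · exact (data.checkRange_iff 7102 779).mp Cfsg.Agent.Lib.Helper28.TCCo3U2.chk10 v (by omega) (by omega)
  rcases Nat.lt_or_ge v 8635 with h11 | h11
  · exact (data.checkRange_iff 7881 754).mp Cfsg.Agent.Lib.Helper28.TCCo3U2.chk11 v (by omega) (by omega)
  rcases Nat.lt_or_ge v 9371 with h12 | h12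
  · exact (data.checkRange_iff 8635 736).mp Cfsg.Agent.Lib.Helper28.TCCo3U2.chk12 v (by omega) (by omega)
  rcases Nat.lt_or_ge v 10100 with h13 | h13
  · exact (data.checkRange_iff 9371 729).mp Cfsg.Agent.Lib.Helper28.TCCo3U2.chk13 v (by omega) (by omega)
  rcases Nat.lt_or_ge v 10817 with h14 | h14
  · exact (data.checkRange_iff 10100 717).mp Cfsg.Agent.Lib.Helper28.TCCo3U2.chk14 v (by omega) (by omega)
  rcases Nat.lt_or_ge v 11548 with h15 | h15
  · exact (data.checkRange_iff 10817 731).mp Cfsg.Agent.Lib.Helper28.TCCo3U3.chk15 v (by omega) (by omega)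
  rcases Nat.lt_or_ge v 12299 with h16 | h16
  · exact (data.checkRange_iff 11548 751).mp Cfsg.Agent.Lib.Helper28.TCCo3U3.chk16 v (by omega) (by omega)
  rcases Nat.lt_or_ge v 13029 with h17 | h17
  · exact (data.checkRange_iff 12299 730).mp Cfsg.Agent.Lib.Helper28.TCCo3U3.chk17 v (by omega) (by omega)
  rcases Nat.lt_or_ge v 13765 with h18 | h18
  · exact (data.checkRange_iff 13029 736).mp Cfsg.Agent.Lib.Helper28.TCCo3U3.chk18 v (by omega) (by omega)
  rcases Nat.lt_or_ge v 14486 with h19 | h19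
  · exact (data.checkRange_iff 13765 721).mp Cfsg.Agent.Lib.Helper28.TCCo3U3.chk19 v (by omega) (by omega)
  rcases Nat.lt_or_ge v 15226 with h20 | h20
  · exact (data.checkRange_iff 14486 740).mp Cfsg.Agent.Lib.Helper28.TCCo3U4.chk20 v (by omega) (by omega)
  rcases Nat.lt_or_ge v 15996 with h21 | h21
  · exact (data.checkRange_iff 15226 770).mp Cfsg.Agent.Lib.Helper28.TCCo3U4.chk21 v (by omega) (by omega)
  rcases Nat.lt_or_ge v 16761 with h22 | h22
  · exact (data.checkRange_iff 15996 765).mp Cfsg.Agent.Lib.Helper28.TCCo3U4.chk22 v (by omega) (by omega)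
  rcases Nat.lt_or_ge v 17538 with h23 | h23
  · exact (data.checkRange_iff 16761 777).mp Cfsg.Agent.Lib.Helper28.TCCo3U4.chk23 v (by omega) (by omega)
  rcases Nat.lt_or_ge v 18306 with h24 | h24
  · exact (data.checkRange_iff 17538 768).mp Cfsg.Agent.Lib.Helper28.TCCo3U4.chk24 v (by omega) (by omega)
  rcases Nat.lt_or_ge v 19078 with h25 | h25
  · exact (data.checkRange_iff 18306 772).mp Cfsg.Agent.Lib.Helper28.TCCo3U5.chk25 v (by omega) (by omega)
  rcases Nat.lt_or_ge v 19828 with h26 | h26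
  · exact (data.checkRange_iff 19078 750).mp Cfsg.Agent.Lib.Helper28.TCCo3U5.chk26 v (by omega) (by omega)
  rcases Nat.lt_or_ge v 20591 with h27 | h27
  · exact (data.checkRange_iff 19828 763).mp Cfsg.Agent.Lib.Helper28.TCCo3U5.chk27 v (by omega) (by omega)
  rcases Nat.lt_or_ge v 21375 with h28 | h28
  · exact (data.checkRange_iff 20591 784).mp Cfsg.Agent.Lib.Helper28.TCCo3U5.chk28 v (by omega) (by omega)
  rcases Nat.lt_or_ge v 22191 with h29 | h29
  · exact (data.checkRange_iff 21375 816).mp Cfsg.Agent.Lib.Helper28.TCCo3U5.chk29 v (by omega) (by omega)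
  rcases Nat.lt_or_ge v 22987 with h30 | h30
  · exact (data.checkRange_iff 22191 796).mp Cfsg.Agent.Lib.Helper28.TCCo3U6.chk30 v (by omega) (by omega)
  rcases Nat.lt_or_ge v 23787 with h31 | h31
  · exact (data.checkRange_iff 22987 800).mp Cfsg.Agent.Lib.Helper28.TCCo3U6.chk31 v (by omega) (by omega)
  rcases Nat.lt_or_ge v 24529 with h32 | h32
  · exact (data.checkRange_iff 23787 742).mp Cfsg.Agent.Lib.Helper28.TCCo3U6.chk32 v (by omega) (by omega)
  rcases Nat.lt_or_ge v 25338 with h33 | h33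
  · exact (data.checkRange_iff 24529 809).mp Cfsg.Agent.Lib.Helper28.TCCo3U6.chk33 v (by omega) (by omega)
  rcases Nat.lt_or_ge v 26181 with h34 | h34
  · exact (data.checkRange_iff 25338 843).mp Cfsg.Agent.Lib.Helper28.TCCo3U6.chk34 v (by omega) (by omega)
  rcases Nat.lt_or_ge v 27038 with h35 | h35
  · exact (data.checkRange_iff 26181 857).mp Cfsg.Agent.Lib.Helper28.TCCo3U7.chk35 v (by omega) (by omega)
  rcases Nat.lt_or_ge v 27895 with h36 | h36
  · exact (data.checkRange_iff 27038 857).mp Cfsg.Agent.Lib.Helper28.TCCo3U7.chk36 v (by omega) (by omega)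
  rcases Nat.lt_or_ge v 28776 with h37 | h37
  · exact (data.checkRange_iff 27895 881).mp Cfsg.Agent.Lib.Helper28.TCCo3U7.chk37 v (by omega) (by omega)
  rcases Nat.lt_or_ge v 29600 with h38 | h38
  · exact (data.checkRange_iff 28776 824).mp Cfsg.Agent.Lib.Helper28.TCCo3U7.chk38 v (by omega) (by omega)
  rcases Nat.lt_or_ge v 30423 with h39 | h39
  · exact (data.checkRange_iff 29600 823).mp Cfsg.Agent.Lib.Helper28.TCCo3U7.chk39 v (by omega) (by omega)
  rcases Nat.lt_or_ge v 31318 with h40 | h40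
  · exact (data.checkRange_iff 30423 895).mp Cfsg.Agent.Lib.Helper28.TCCo3U8.chk40 v (by omega) (by omega)
  rcases Nat.lt_or_ge v 32181 with h41 | h41
  · exact (data.checkRange_iff 31318 863).mp Cfsg.Agent.Lib.Helper28.TCCo3U8.chk41 v (by omega) (by omega)
  rcases Nat.lt_or_ge v 33095 with h42 | h42
  · exact (data.checkRange_iff 32181 914).mp Cfsg.Agent.Lib.Helper28.TCCo3U8.chk42 v (by omega) (by omega)
  rcases Nat.lt_or_ge v 34054 with h43 | h43
  · exact (data.checkRange_iff 33095 959).mp Cfsg.Agent.Lib.Helper28.TCCo3U8.chk43 v (by omega) (by omega)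
  rcases Nat.lt_or_ge v 34964 with h44 | h44
  · exact (data.checkRange_iff 34054 910).mp Cfsg.Agent.Lib.Helper28.TCCo3U8.chk44 v (by omega) (by omega)
  rcases Nat.lt_or_ge v 35852 with h45 | h45
  · exact (data.checkRange_iff 34964 888).mp Cfsg.Agent.Lib.Helper28.TCCo3U9.chk45 v (by omega) (by omega)
  rcases Nat.lt_or_ge v 36751 with h46 | h46
  · exact (data.checkRange_iff 35852 899).mp Cfsg.Agent.Lib.Helper28.TCCo3U9.chk46 v (by omega) (by omega)
  rcases Nat.lt_or_ge v 37716 with h47 | h47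
  · exact (data.checkRange_iff 36751 965).mp Cfsg.Agent.Lib.Helper28.TCCo3U9.chk47 v (by omega) (by omega)
  rcases Nat.lt_or_ge v 38699 with h48 | h48
  · exact (data.checkRange_iff 37716 983).mp Cfsg.Agent.Lib.Helper28.TCCo3U9.chk48 v (by omega) (by omega)
  rcases Nat.lt_or_ge v 39679 with h49 | h49
  · exact (data.checkRange_iff 38699 980).mp Cfsg.Agent.Lib.Helper28.TCCo3U9.chk49 v (by omega) (by omega)
  rcases Nat.lt_or_ge v 40600 with h50 | h50
  · exact (data.checkRange_iff 39679 921).mp Cfsg.Agent.Lib.Helper28.TCCo3U10.chk50 v (by omega) (by omega)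
  rcases Nat.lt_or_ge v 41597 with h51 | h51
  · exact (data.checkRange_iff 40600 997).mp Cfsg.Agent.Lib.Helper28.TCCo3U10.chk51 v (by omega) (by omega)
  rcases Nat.lt_or_ge v 42648 with h52 | h52
  · exact (data.checkRange_iff 41597 1051).mp Cfsg.Agent.Lib.Helper28.TCCo3U10.chk52 v (by omega) (by omega)
  rcases Nat.lt_or_ge v 43600 with h53 | h53
  · exact (data.checkRange_iff 42648 952).mp Cfsg.Agent.Lib.Helper28.TCCo3U10.chk53 v (by omega) (by omega)
  rcases Nat.lt_or_ge v 44562 with h54 | h54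
  · exact (data.checkRange_iff 43600 962).mp Cfsg.Agent.Lib.Helper28.TCCo3U10.chk54 v (by omega) (by omega)
  rcases Nat.lt_or_ge v 45547 with h55 | h55
  · exact (data.checkRange_iff 44562 985).mp Cfsg.Agent.Lib.Helper28.TCCo3U11.chk55 v (by omega) (by omega)
  rcases Nat.lt_or_ge v 46604 with h56 | h56
  · exact (data.checkRange_iff 45547 1057).mp Cfsg.Agent.Lib.Helper28.TCCo3U11.chk56 v (by omega) (by omega)
  rcases Nat.lt_or_ge v 47668 with h57 | h57
  · exact (data.checkRange_iff 46604 1064).mp Cfsg.Agent.Lib.Helper28.TCCo3U11.chk57 v (by omega) (by omega)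
  rcases Nat.lt_or_ge v 48721 with h58 | h58
  · exact (data.checkRange_iff 47668 1053).mp Cfsg.Agent.Lib.Helper28.TCCo3U11.chk58 v (by omega) (by omega)
  rcases Nat.lt_or_ge v 49837 with h59 | h59
  · exact (data.checkRange_iff 48721 1116).mp Cfsg.Agent.Lib.Helper28.TCCo3U11.chk59 v (by omega) (by omega)
  rcases Nat.lt_or_ge v 50992 with h60 | h60
  · exact (data.checkRange_iff 49837 1155).mp Cfsg.Agent.Lib.Helper28.TCCo3U12.chk60 v (by omega) (by omega)
  rcases Nat.lt_or_ge v 52096 with h61 | h61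
  · exact (data.checkRange_iff 50992 1104).mp Cfsg.Agent.Lib.Helper28.TCCo3U12.chk61 v (by omega) (by omega)
  rcases Nat.lt_or_ge v 53328 with h62 | h62
  · exact (data.checkRange_iff 52096 1232).mp Cfsg.Agent.Lib.Helper28.TCCo3U12.chk62 v (by omega) (by omega)
  rcases Nat.lt_or_ge v 54478 with h63 | h63
  · exact (data.checkRange_iff 53328 1150).mp Cfsg.Agent.Lib.Helper28.TCCo3U12.chk63 v (by omega) (by omega)
  rcases Nat.lt_or_ge v 55649 with h64 | h64
  · exact (data.checkRange_iff 54478 1171).mp Cfsg.Agent.Lib.Helper28.TCCo3U12.chk64 v (by omega) (by omega)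
  rcases Nat.lt_or_ge v 56824 with h65 | h65
  · exact (data.checkRange_iff 55649 1175).mp Cfsg.Agent.Lib.Helper28.TCCo3U13.chk65 v (by omega) (by omega)
  rcases Nat.lt_or_ge v 57975 with h66 | h66
  · exact (data.checkRange_iff 56824 1151).mp Cfsg.Agent.Lib.Helper28.TCCo3U13.chk66 v (by omega) (by omega)
  rcases Nat.lt_or_ge v 59062 with h67 | h67
  · exact (data.checkRange_iff 57975 1087).mp Cfsg.Agent.Lib.Helper28.TCCo3U13.chk67 v (by omega) (by omega)
  rcases Nat.lt_or_ge v 60282 with h68 | h68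
  · exact (data.checkRange_iff 59062 1220).mp Cfsg.Agent.Lib.Helper28.TCCo3U13.chk68 v (by omega) (by omega)
  rcases Nat.lt_or_ge v 61465 with h69 | h69
  · exact (data.checkRange_iff 60282 1183).mp Cfsg.Agent.Lib.Helper28.TCCo3U13.chk69 v (by omega) (by omega)
  rcases Nat.lt_or_ge v 62594 with h70 | h70
  · exact (data.checkRange_iff 61465 1129).mp Cfsg.Agent.Lib.Helper28.TCCo3U14.chk70 v (by omega) (by omega)
  rcases Nat.lt_or_ge v 63801 with h71 | h71
  · exact (data.checkRange_iff 62594 1207).mp Cfsg.Agent.Lib.Helper28.TCCo3U14.chk71 v (by omega) (by omega)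
  rcases Nat.lt_or_ge v 64951 with h72 | h72
  · exact (data.checkRange_iff 63801 1150).mp Cfsg.Agent.Lib.Helper28.TCCo3U14.chk72 v (by omega) (by omega)
  rcases Nat.lt_or_ge v 66139 with h73 | h73
  · exact (data.checkRange_iff 64951 1188).mp Cfsg.Agent.Lib.Helper28.TCCo3U14.chk73 v (by omega) (by omega)
  rcases Nat.lt_or_ge v 67430 with h74 | h74
  · exact (data.checkRange_iff 66139 1291).mp Cfsg.Agent.Lib.Helper28.TCCo3U14.chk74 v (by omega) (by omega)
  rcases Nat.lt_or_ge v 68670 with h75 | h75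
  · exact (data.checkRange_iff 67430 1240).mp Cfsg.Agent.Lib.Helper28.TCCo3U15.chk75 v (by omega) (by omega)
  rcases Nat.lt_or_ge v 70123 with h76 | h76
  · exact (data.checkRange_iff 68670 1453).mp Cfsg.Agent.Lib.Helper28.TCCo3U15.chk76 v (by omega) (by omega)
  rcases Nat.lt_or_ge v 71370 with h77 | h77
  · exact (data.checkRange_iff 70123 1247).mp Cfsg.Agent.Lib.Helper28.TCCo3U15.chk77 v (by omega) (by omega)
  rcases Nat.lt_or_ge v 72766 with h78 | h78
  · exact (data.checkRange_iff 71370 1396).mp Cfsg.Agent.Lib.Helper28.TCCo3U15.chk78 v (by omega) (by omega)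
  rcases Nat.lt_or_ge v 74101 with h79 | h79
  · exact (data.checkRange_iff 72766 1335).mp Cfsg.Agent.Lib.Helper28.TCCo3U15.chk79 v (by omega) (by omega)
  rcases Nat.lt_or_ge v 75411 with h80 | h80
  · exact (data.checkRange_iff 74101 1310).mp Cfsg.Agent.Lib.Helper28.TCCo3U16.chk80 v (by omega) (by omega)
  rcases Nat.lt_or_ge v 76765 with h81 | h81
  · exact (data.checkRange_iff 75411 1354).mp Cfsg.Agent.Lib.Helper28.TCCo3U16.chk81 v (by omega) (by omega)
  rcases Nat.lt_or_ge v 77896 with h82 | h82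
  · exact (data.checkRange_iff 76765 1131).mp Cfsg.Agent.Lib.Helper28.TCCo3U16.chk82 v (by omega) (by omega)
  rcases Nat.lt_or_ge v 79129 with h83 | h83
  · exact (data.checkRange_iff 77896 1233).mp Cfsg.Agent.Lib.Helper28.TCCo3U16.chk83 v (by omega) (by omega)
  rcases Nat.lt_or_ge v 80457 with h84 | h84
  · exact (data.checkRange_iff 79129 1328).mp Cfsg.Agent.Lib.Helper28.TCCo3U16.chk84 v (by omega) (by omega)
  rcases Nat.lt_or_ge v 81126 with h85 | h85
  · exact (data.checkRange_iff 80457 669).mp Cfsg.Agent.Lib.Helper28.TCCo3U17.chk85 v (by omega) (by omega)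
  rcases Nat.lt_or_ge v 81794 with h86 | h86
  · exact (data.checkRange_iff 81126 668).mp Cfsg.Agent.Lib.Helper28.TCCo3U17.chk86 v (by omega) (by omega)
  rcases Nat.lt_or_ge v 82461 with h87 | h87
  · exact (data.checkRange_iff 81794 667).mp Cfsg.Agent.Lib.Helper28.TCCo3U17.chk87 v (by omega) (by omega)
  rcases Nat.lt_or_ge v 83128 with h88 | h88
  · exact (data.checkRange_iff 82461 667).mp Cfsg.Agent.Lib.Helper28.TCCo3U17.chk88 v (by omega) (by omega)
  rcases Nat.lt_or_ge v 83795 with h89 | h89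
  · exact (data.checkRange_iff 83128 667).mp Cfsg.Agent.Lib.Helper28.TCCo3U17.chk89 v (by omega) (by omega)
  rcases Nat.lt_or_ge v 84462 with h90 | h90
  · exact (data.checkRange_iff 83795 667).mp Cfsg.Agent.Lib.Helper28.TCCo3U18.chk90 v (by omega) (by omega)
  rcases Nat.lt_or_ge v 85129 with h91 | h91
  · exact (data.checkRange_iff 84462 667).mp Cfsg.Agent.Lib.Helper28.TCCo3U18.chk91 v (by omega) (by omega)
  rcases Nat.lt_or_ge v 85797 with h92 | h92
  · exact (data.checkRange_iff 85129 668).mp Cfsg.Agent.Lib.Helper28.TCCo3U18.chk92 v (by omega) (by omega)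
  rcases Nat.lt_or_ge v 86464 with h93 | h93
  · exact (data.checkRange_iff 85797 667).mp Cfsg.Agent.Lib.Helper28.TCCo3U18.chk93 v (by omega) (by omega)
  rcases Nat.lt_or_ge v 87131 with h94 | h94
  · exact (data.checkRange_iff 86464 667).mp Cfsg.Agent.Lib.Helper28.TCCo3U18.chk94 v (by omega) (by omega)
  exact (data.checkRange_iff 87131 418).mp Cfsg.Agent.Lib.Helper28.TCCo3U19.chk95 v (by omega) (by omega)

theorem hrows : ∀ v, v < data.N → Data.rowOK data v = true := by
  intro v hv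
  have hv' : v < 87549 := hv
  rcases Nat.lt_or_ge v 10416 with h0 | h0
  · exact (Data.finalRange_iff data 0 10416).mp Cfsg.Agent.Lib.Helper28.TCCo3M0.fin0 v (by omega) (by omega)
  rcases Nat.lt_or_ge v 20832 with h1 | h1
  · exact (Data.finalRange_iff data 10416 10416).mp Cfsg.Agent.Lib.Helper28.TCCo3M0.fin1 v (by omega) (by omega)
  rcases Nat.lt_or_ge v 31248 with h2 | h2
  · exact (Data.finalRange_iff data 20832 10416).mp Cfsg.Agent.Lib.Helper28.TCCo3M0.fin2 v (by omega) (by omega)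
  rcases Nat.lt_or_ge v 41664 with h3 | h3
  · exact (Data.finalRange_iff data 31248 10416).mp Cfsg.Agent.Lib.Helper28.TCCo3M0.fin3 v (by omega) (by omega)
  rcases Nat.lt_or_ge v 52080 with h4 | h4
  · exact (Data.finalRange_iff data 41664 10416).mp Cfsg.Agent.Lib.Helper28.TCCo3M0.fin4 v (by omega) (by omega)
  rcases Nat.lt_or_ge v 62496 with h5 | h5
  · exact (Data.finalRange_iff data 52080 10416).mp Cfsg.Agent.Lib.Helper28.TCCo3M1.fin5 v (by omega) (by omega)
  rcases Nat.lt_or_ge v 72912 with h6 | h6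
  · exact (Data.finalRange_iff data 62496 10416).mp Cfsg.Agent.Lib.Helper28.TCCo3M1.fin6 v (by omega) (by omega)
  rcases Nat.lt_or_ge v 83328 with h7 | h7
  · exact (Data.finalRange_iff data 72912 10416).mp Cfsg.Agent.Lib.Helper28.TCCo3M1.fin7 v (by omega) (by omega)
  exact (Data.finalRange_iff data 83328 4221).mp Cfsg.Agent.Lib.Helper28.TCCo3M1.fin8 v (by omega) (by omega)

theorem hfin : data.finalOK = true := Data.finalOK_of_rows data hlive0 (by decide) hrows

theorem pc0 : Data.countFrom data 0 40000 = 28925 := Cfsg.Agent.Lib.Helper28.TCCo3M1.cnt0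
theorem pc1 : Data.countFrom data 0 80000 = 41359 := Data.countFrom_step data pc0 Cfsg.Agent.Lib.Helper28.TCCo3M2.cnt1 (by norm_num) (by norm_num)
theorem pc2 : Data.countFrom data 0 87549 = 48600 := Data.countFrom_step data pc1 Cfsg.Agent.Lib.Helper28.TCCo3M2.cnt2 (by norm_num) (by norm_num)

theorem hcount : data.countLive = table.n := by
  rw [Data.countLive_eq]
  exact pc2

theorem hpermAll : ∀ p, p < table.n → Table.permRow table p = true := by
  intro p hp
  have hp' : p < 48600 := hp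
  rcases Nat.lt_or_ge p 15625 with h0 | h0
  · exact (Table.permRange_iff table 0 15625).mp Cfsg.Agent.Lib.Helper28.TCCo3M2.prm0 p (by omega) (by omega)
  rcases Nat.lt_or_ge p 31250 with h1 | h1
  · exact (Table.permRange_iff table 15625 15625).mp Cfsg.Agent.Lib.Helper28.TCCo3M2.prm1 p (by omega) (by omega)
  rcases Nat.lt_or_ge p 46875 with h2 | h2
  · exact (Table.permRange_iff table 31250 15625).mp Cfsg.Agent.Lib.Helper28.TCCo3M2.prm2 p (by omega) (by omega)
  exact (Table.permRange_iff table 46875 1725).mp Cfsg.Agent.Lib.Helper28.TCCo3M3.prm3 p (by omega) (by omega)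

theorem hT : table.OK := Table.ok_of_rows table hinvOK hpermAll

theorem htreeAll : ∀ i, i < Nat.pred table.n → Table.treeRow table i = true := by
  intro p hp
  have hp' : p < 48599 := hp
  exact (Table.treeRange_iff table 0 48599).mp Cfsg.Agent.Lib.Helper28.TCCo3M3.tre0 p (by omega) (by omega)

theorem htree : table.treeOK = true := Table.treeOK_of_rows table htreeAll

theorem hchkT : ∀ P ∈ chkPaths, ∀ p, p < table.n → table.walkT P p = p := by
  intro P hm p hp
  have hp' : p < 48600 := hp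
  rcases Nat.lt_or_ge p 143 with h0 | h0
  · exact (Table.relOK_iff chkPaths 0 143).mp Cfsg.Agent.Lib.Helper28.TCCo3L0.rel0 p (by omega) (by omega) _ hm
  rcases Nat.lt_or_ge p 286 with h1 | h1
  · exact (Table.relOK_iff chkPaths 143 143).mp Cfsg.Agent.Lib.Helper28.TCCo3L0.rel1 p (by omega) (by omega) _ hm
  rcases Nat.lt_or_ge p 429 with h2 | h2
  · exact (Table.relOK_iff chkPaths 286 143).mp Cfsg.Agent.Lib.Helper28.TCCo3L0.rel2 p (by omega) (by omega) _ hm
  rcases Nat.lt_or_ge p 572 with h3 | h3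
  · exact (Table.relOK_iff chkPaths 429 143).mp Cfsg.Agent.Lib.Helper28.TCCo3L0.rel3 p (by omega) (by omega) _ hm
  rcases Nat.lt_or_ge p 715 with h4 | h4
  · exact (Table.relOK_iff chkPaths 572 143).mp Cfsg.Agent.Lib.Helper28.TCCo3L0.rel4 p (by omega) (by omega) _ hm
  rcases Nat.lt_or_ge p 858 with h5 | h5
  · exact (Table.relOK_iff chkPaths 715 143).mp Cfsg.Agent.Lib.Helper28.TCCo3L0.rel5 p (by omega) (by omega) _ hm
  rcases Nat.lt_or_ge p 1001 with h6 | h6
  · exact (Table.relOK_iff chkPaths 858 143).mp Cfsg.Agent.Lib.Helper28.TCCo3L1.rel6 p (by omega) (by omega) _ hm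
  rcases Nat.lt_or_ge p 1144 with h7 | h7
  · exact (Table.relOK_iff chkPaths 1001 143).mp Cfsg.Agent.Lib.Helper28.TCCo3L1.rel7 p (by omega) (by omega) _ hm
  rcases Nat.lt_or_ge p 1287 with h8 | h8
  · exact (Table.relOK_iff chkPaths 1144 143).mp Cfsg.Agent.Lib.Helper28.TCCo3L1.rel8 p (by omega) (by omega) _ hm
  rcases Nat.lt_or_ge p 1430 with h9 | h9
  · exact (Table.relOK_iff chkPaths 1287 143).mp Cfsg.Agent.Lib.Helper28.TCCo3L1.rel9 p (by omega) (by omega) _ hm
  rcases Nat.lt_or_ge p 1573 with h10 | h10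
  · exact (Table.relOK_iff chkPaths 1430 143).mp Cfsg.Agent.Lib.Helper28.TCCo3L1.rel10 p (by omega) (by omega) _ hm
  rcases Nat.lt_or_ge p 1716 with h11 | h11
  · exact (Table.relOK_iff chkPaths 1573 143).mp Cfsg.Agent.Lib.Helper28.TCCo3L1.rel11 p (by omega) (by omega) _ hm
  rcases Nat.lt_or_ge p 1859 with h12 | h12
  · exact (Table.relOK_iff chkPaths 1716 143).mp Cfsg.Agent.Lib.Helper28.TCCo3L2.rel12 p (by omega) (by omega) _ hm
  rcases Nat.lt_or_ge p 2002 with h13 | h13
  · exact (Table.relOK_iff chkPaths 1859 143).mp Cfsg.Agent.Lib.Helper28.TCCo3L2.rel13 p (by omega) (by omega) _ hm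
  rcases Nat.lt_or_ge p 2145 with h14 | h14
  · exact (Table.relOK_iff chkPaths 2002 143).mp Cfsg.Agent.Lib.Helper28.TCCo3L2.rel14 p (by omega) (by omega) _ hm
  rcases Nat.lt_or_ge p 2288 with h15 | h15
  · exact (Table.relOK_iff chkPaths 2145 143).mp Cfsg.Agent.Lib.Helper28.TCCo3L2.rel15 p (by omega) (by omega) _ hm
  rcases Nat.lt_or_ge p 2431 with h16 | h16
  · exact (Table.relOK_iff chkPaths 2288 143).mp Cfsg.Agent.Lib.Helper28.TCCo3L2.rel16 p (by omega) (by omega) _ hm
  rcases Nat.lt_or_ge p 2574 with h17 | h17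
  · exact (Table.relOK_iff chkPaths 2431 143).mp Cfsg.Agent.Lib.Helper28.TCCo3L2.rel17 p (by omega) (by omega) _ hm
  rcases Nat.lt_or_ge p 2717 with h18 | h18
  · exact (Table.relOK_iff chkPaths 2574 143).mp Cfsg.Agent.Lib.Helper28.TCCo3L3.rel18 p (by omega) (by omega) _ hm
  rcases Nat.lt_or_ge p 2860 with h19 | h19
  · exact (Table.relOK_iff chkPaths 2717 143).mp Cfsg.Agent.Lib.Helper28.TCCo3L3.rel19 p (by omega) (by omega) _ hm
  rcases Nat.lt_or_ge p 3003 with h20 | h20
  · exact (Table.relOK_iff chkPaths 2860 143).mp Cfsg.Agent.Lib.Helper28.TCCo3L3.rel20 p (by omega) (by omega) _ hm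
  rcases Nat.lt_or_ge p 3146 with h21 | h21
  · exact (Table.relOK_iff chkPaths 3003 143).mp Cfsg.Agent.Lib.Helper28.TCCo3L3.rel21 p (by omega) (by omega) _ hm
  rcases Nat.lt_or_ge p 3289 with h22 | h22
  · exact (Table.relOK_iff chkPaths 3146 143).mp Cfsg.Agent.Lib.Helper28.TCCo3L3.rel22 p (by omega) (by omega) _ hm
  rcases Nat.lt_or_ge p 3432 with h23 | h23
  · exact (Table.relOK_iff chkPaths 3289 143).mp Cfsg.Agent.Lib.Helper28.TCCo3L3.rel23 p (by omega) (by omega) _ hm
  rcases Nat.lt_or_ge p 3575 with h24 | h24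
  · exact (Table.relOK_iff chkPaths 3432 143).mp Cfsg.Agent.Lib.Helper28.TCCo3L4.rel24 p (by omega) (by omega) _ hm
  rcases Nat.lt_or_ge p 3718 with h25 | h25
  · exact (Table.relOK_iff chkPaths 3575 143).mp Cfsg.Agent.Lib.Helper28.TCCo3L4.rel25 p (by omega) (by omega) _ hm
  rcases Nat.lt_or_ge p 3861 with h26 | h26
  · exact (Table.relOK_iff chkPaths 3718 143).mp Cfsg.Agent.Lib.Helper28.TCCo3L4.rel26 p (by omega) (by omega) _ hm
  rcases Nat.lt_or_ge p 4004 with h27 | h27
  · exact (Table.relOK_iff chkPaths 3861 143).mp Cfsg.Agent.Lib.Helper28.TCCo3L4.rel27 p (by omega) (by omega) _ hm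
  rcases Nat.lt_or_ge p 4147 with h28 | h28
  · exact (Table.relOK_iff chkPaths 4004 143).mp Cfsg.Agent.Lib.Helper28.TCCo3L4.rel28 p (by omega) (by omega) _ hm
  rcases Nat.lt_or_ge p 4290 with h29 | h29
  · exact (Table.relOK_iff chkPaths 4147 143).mp Cfsg.Agent.Lib.Helper28.TCCo3L4.rel29 p (by omega) (by omega) _ hm
  rcases Nat.lt_or_ge p 4433 with h30 | h30
  · exact (Table.relOK_iff chkPaths 4290 143).mp Cfsg.Agent.Lib.Helper28.TCCo3L5.rel30 p (by omega) (by omega) _ hm
  rcases Nat.lt_or_ge p 4576 with h31 | h31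
  · exact (Table.relOK_iff chkPaths 4433 143).mp Cfsg.Agent.Lib.Helper28.TCCo3L5.rel31 p (by omega) (by omega) _ hm
  rcases Nat.lt_or_ge p 4719 with h32 | h32
  · exact (Table.relOK_iff chkPaths 4576 143).mp Cfsg.Agent.Lib.Helper28.TCCo3L5.rel32 p (by omega) (by omega) _ hm
  rcases Nat.lt_or_ge p 4862 with h33 | h33
  · exact (Table.relOK_iff chkPaths 4719 143).mp Cfsg.Agent.Lib.Helper28.TCCo3L5.rel33 p (by omega) (by omega) _ hm
  rcases Nat.lt_or_ge p 5005 with h34 | h34
  · exact (Table.relOK_iff chkPaths 4862 143).mp Cfsg.Agent.Lib.Helper28.TCCo3L5.rel34 p (by omega) (by omega) _ hm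
  rcases Nat.lt_or_ge p 5148 with h35 | h35
  · exact (Table.relOK_iff chkPaths 5005 143).mp Cfsg.Agent.Lib.Helper28.TCCo3L5.rel35 p (by omega) (by omega) _ hm
  rcases Nat.lt_or_ge p 5291 with h36 | h36
  · exact (Table.relOK_iff chkPaths 5148 143).mp Cfsg.Agent.Lib.Helper28.TCCo3L6.rel36 p (by omega) (by omega) _ hm
  rcases Nat.lt_or_ge p 5434 with h37 | h37
  · exact (Table.relOK_iff chkPaths 5291 143).mp Cfsg.Agent.Lib.Helper28.TCCo3L6.rel37 p (by omega) (by omega) _ hm
  rcases Nat.lt_or_ge p 5577 with h38 | h38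
  · exact (Table.relOK_iff chkPaths 5434 143).mp Cfsg.Agent.Lib.Helper28.TCCo3L6.rel38 p (by omega) (by omega) _ hm
  rcases Nat.lt_or_ge p 5720 with h39 | h39
  · exact (Table.relOK_iff chkPaths 5577 143).mp Cfsg.Agent.Lib.Helper28.TCCo3L6.rel39 p (by omega) (by omega) _ hm
  rcases Nat.lt_or_ge p 5863 with h40 | h40
  · exact (Table.relOK_iff chkPaths 5720 143).mp Cfsg.Agent.Lib.Helper28.TCCo3L6.rel40 p (by omega) (by omega) _ hm
  rcases Nat.lt_or_ge p 6006 with h41 | h41
  · exact (Table.relOK_iff chkPaths 5863 143).mp Cfsg.Agent.Lib.Helper28.TCCo3L6.rel41 p (by omega) (by omega) _ hm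
  rcases Nat.lt_or_ge p 6149 with h42 | h42
  · exact (Table.relOK_iff chkPaths 6006 143).mp Cfsg.Agent.Lib.Helper28.TCCo3L7.rel42 p (by omega) (by omega) _ hm
  rcases Nat.lt_or_ge p 6292 with h43 | h43
  · exact (Table.relOK_iff chkPaths 6149 143).mp Cfsg.Agent.Lib.Helper28.TCCo3L7.rel43 p (by omega) (by omega) _ hm
  rcases Nat.lt_or_ge p 6435 with h44 | h44
  · exact (Table.relOK_iff chkPaths 6292 143).mp Cfsg.Agent.Lib.Helper28.TCCo3L7.rel44 p (by omega) (by omega) _ hm
  rcases Nat.lt_or_ge p 6578 with h45 | h45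
  · exact (Table.relOK_iff chkPaths 6435 143).mp Cfsg.Agent.Lib.Helper28.TCCo3L7.rel45 p (by omega) (by omega) _ hm
  rcases Nat.lt_or_ge p 6721 with h46 | h46
  · exact (Table.relOK_iff chkPaths 6578 143).mp Cfsg.Agent.Lib.Helper28.TCCo3L7.rel46 p (by omega) (by omega) _ hm
  rcases Nat.lt_or_ge p 6864 with h47 | h47
  · exact (Table.relOK_iff chkPaths 6721 143).mp Cfsg.Agent.Lib.Helper28.TCCo3L7.rel47 p (by omega) (by omega) _ hm
  rcases Nat.lt_or_ge p 7007 with h48 | h48
  · exact (Table.relOK_iff chkPaths 6864 143).mp Cfsg.Agent.Lib.Helper28.TCCo3L8.rel48 p (by omega) (by omega) _ hm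
  rcases Nat.lt_or_ge p 7150 with h49 | h49
  · exact (Table.relOK_iff chkPaths 7007 143).mp Cfsg.Agent.Lib.Helper28.TCCo3L8.rel49 p (by omega) (by omega) _ hm
  rcases Nat.lt_or_ge p 7293 with h50 | h50
  · exact (Table.relOK_iff chkPaths 7150 143).mp Cfsg.Agent.Lib.Helper28.TCCo3L8.rel50 p (by omega) (by omega) _ hm
  rcases Nat.lt_or_ge p 7436 with h51 | h51
  · exact (Table.relOK_iff chkPaths 7293 143).mp Cfsg.Agent.Lib.Helper28.TCCo3L8.rel51 p (by omega) (by omega) _ hm
  rcases Nat.lt_or_ge p 7579 with h52 | h52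
  · exact (Table.relOK_iff chkPaths 7436 143).mp Cfsg.Agent.Lib.Helper28.TCCo3L8.rel52 p (by omega) (by omega) _ hm
  rcases Nat.lt_or_ge p 7722 with h53 | h53
  · exact (Table.relOK_iff chkPaths 7579 143).mp Cfsg.Agent.Lib.Helper28.TCCo3L8.rel53 p (by omega) (by omega) _ hm
  rcases Nat.lt_or_ge p 7865 with h54 | h54
  · exact (Table.relOK_iff chkPaths 7722 143).mp Cfsg.Agent.Lib.Helper28.TCCo3L9.rel54 p (by omega) (by omega) _ hm
  rcases Nat.lt_or_ge p 8008 with h55 | h55
  · exact (Table.relOK_iff chkPaths 7865 143).mp Cfsg.Agent.Lib.Helper28.TCCo3L9.rel55 p (by omega) (by omega) _ hm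
  rcases Nat.lt_or_ge p 8151 with h56 | h56
  · exact (Table.relOK_iff chkPaths 8008 143).mp Cfsg.Agent.Lib.Helper28.TCCo3L9.rel56 p (by omega) (by omega) _ hm
  rcases Nat.lt_or_ge p 8294 with h57 | h57
  · exact (Table.relOK_iff chkPaths 8151 143).mp Cfsg.Agent.Lib.Helper28.TCCo3L9.rel57 p (by omega) (by omega) _ hm
  rcases Nat.lt_or_ge p 8437 with h58 | h58
  · exact (Table.relOK_iff chkPaths 8294 143).mp Cfsg.Agent.Lib.Helper28.TCCo3L9.rel58 p (by omega) (by omega) _ hm
  rcases Nat.lt_or_ge p 8580 with h59 | h59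
  · exact (Table.relOK_iff chkPaths 8437 143).mp Cfsg.Agent.Lib.Helper28.TCCo3L9.rel59 p (by omega) (by omega) _ hm
  rcases Nat.lt_or_ge p 8723 with h60 | h60
  · exact (Table.relOK_iff chkPaths 8580 143).mp Cfsg.Agent.Lib.Helper28.TCCo3L10.rel60 p (by omega) (by omega) _ hm
  rcases Nat.lt_or_ge p 8866 with h61 | h61
  · exact (Table.relOK_iff chkPaths 8723 143).mp Cfsg.Agent.Lib.Helper28.TCCo3L10.rel61 p (by omega) (by omega) _ hm
  rcases Nat.lt_or_ge p 9009 with h62 | h62
  · exact (Table.relOK_iff chkPaths 8866 143).mp Cfsg.Agent.Lib.Helper28.TCCo3L10.rel62 p (by omega) (by omega) _ hm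
  rcases Nat.lt_or_ge p 9152 with h63 | h63
  · exact (Table.relOK_iff chkPaths 9009 143).mp Cfsg.Agent.Lib.Helper28.TCCo3L10.rel63 p (by omega) (by omega) _ hm
  rcases Nat.lt_or_ge p 9295 with h64 | h64
  · exact (Table.relOK_iff chkPaths 9152 143).mp Cfsg.Agent.Lib.Helper28.TCCo3L10.rel64 p (by omega) (by omega) _ hm
  rcases Nat.lt_or_ge p 9438 with h65 | h65
  · exact (Table.relOK_iff chkPaths 9295 143).mp Cfsg.Agent.Lib.Helper28.TCCo3L10.rel65 p (by omega) (by omega) _ hm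
  rcases Nat.lt_or_ge p 9581 with h66 | h66
  · exact (Table.relOK_iff chkPaths 9438 143).mp Cfsg.Agent.Lib.Helper28.TCCo3L11.rel66 p (by omega) (by omega) _ hm
  rcases Nat.lt_or_ge p 9724 with h67 | h67
  · exact (Table.relOK_iff chkPaths 9581 143).mp Cfsg.Agent.Lib.Helper28.TCCo3L11.rel67 p (by omega) (by omega) _ hm
  rcases Nat.lt_or_ge p 9867 with h68 | h68
  · exact (Table.relOK_iff chkPaths 9724 143).mp Cfsg.Agent.Lib.Helper28.TCCo3L11.rel68 p (by omega) (by omega) _ hm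
  rcases Nat.lt_or_ge p 10010 with h69 | h69
  · exact (Table.relOK_iff chkPaths 9867 143).mp Cfsg.Agent.Lib.Helper28.TCCo3L11.rel69 p (by omega) (by omega) _ hm
  rcases Nat.lt_or_ge p 10153 with h70 | h70
  · exact (Table.relOK_iff chkPaths 10010 143).mp Cfsg.Agent.Lib.Helper28.TCCo3L11.rel70 p (by omega) (by omega) _ hm
  rcases Nat.lt_or_ge p 10296 with h71 | h71
  · exact (Table.relOK_iff chkPaths 10153 143).mp Cfsg.Agent.Lib.Helper28.TCCo3L11.rel71 p (by omega) (by omega) _ hm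
  rcases Nat.lt_or_ge p 10439 with h72 | h72
  · exact (Table.relOK_iff chkPaths 10296 143).mp Cfsg.Agent.Lib.Helper28.TCCo3L12.rel72 p (by omega) (by omega) _ hm
  rcases Nat.lt_or_ge p 10582 with h73 | h73
  · exact (Table.relOK_iff chkPaths 10439 143).mp Cfsg.Agent.Lib.Helper28.TCCo3L12.rel73 p (by omega) (by omega) _ hm
  rcases Nat.lt_or_ge p 10725 with h74 | h74
  · exact (Table.relOK_iff chkPaths 10582 143).mp Cfsg.Agent.Lib.Helper28.TCCo3L12.rel74 p (by omega) (by omega) _ hm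
  rcases Nat.lt_or_ge p 10868 with h75 | h75
  · exact (Table.relOK_iff chkPaths 10725 143).mp Cfsg.Agent.Lib.Helper28.TCCo3L12.rel75 p (by omega) (by omega) _ hm
  rcases Nat.lt_or_ge p 11011 with h76 | h76
  · exact (Table.relOK_iff chkPaths 10868 143).mp Cfsg.Agent.Lib.Helper28.TCCo3L12.rel76 p (by omega) (by omega) _ hm
  rcases Nat.lt_or_ge p 11154 with h77 | h77
  · exact (Table.relOK_iff chkPaths 11011 143).mp Cfsg.Agent.Lib.Helper28.TCCo3L12.rel77 p (by omega) (by omega) _ hm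
  rcases Nat.lt_or_ge p 11297 with h78 | h78
  · exact (Table.relOK_iff chkPaths 11154 143).mp Cfsg.Agent.Lib.Helper28.TCCo3L13.rel78 p (by omega) (by omega) _ hm
  rcases Nat.lt_or_ge p 11440 with h79 | h79
  · exact (Table.relOK_iff chkPaths 11297 143).mp Cfsg.Agent.Lib.Helper28.TCCo3L13.rel79 p (by omega) (by omega) _ hm
  rcases Nat.lt_or_ge p 11583 with h80 | h80
  · exact (Table.relOK_iff chkPaths 11440 143).mp Cfsg.Agent.Lib.Helper28.TCCo3L13.rel80 p (by omega) (by omega) _ hm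
  rcases Nat.lt_or_ge p 11726 with h81 | h81
  · exact (Table.relOK_iff chkPaths 11583 143).mp Cfsg.Agent.Lib.Helper28.TCCo3L13.rel81 p (by omega) (by omega) _ hm
  rcases Nat.lt_or_ge p 11869 with h82 | h82
  · exact (Table.relOK_iff chkPaths 11726 143).mp Cfsg.Agent.Lib.Helper28.TCCo3L13.rel82 p (by omega) (by omega) _ hm
  rcases Nat.lt_or_ge p 12012 with h83 | h83
  · exact (Table.relOK_iff chkPaths 11869 143).mp Cfsg.Agent.Lib.Helper28.TCCo3L13.rel83 p (by omega) (by omega) _ hm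
  rcases Nat.lt_or_ge p 12155 with h84 | h84
  · exact (Table.relOK_iff chkPaths 12012 143).mp Cfsg.Agent.Lib.Helper28.TCCo3L14.rel84 p (by omega) (by omega) _ hm
  rcases Nat.lt_or_ge p 12298 with h85 | h85
  · exact (Table.relOK_iff chkPaths 12155 143).mp Cfsg.Agent.Lib.Helper28.TCCo3L14.rel85 p (by omega) (by omega) _ hm
  rcases Nat.lt_or_ge p 12441 with h86 | h86
  · exact (Table.relOK_iff chkPaths 12298 143).mp Cfsg.Agent.Lib.Helper28.TCCo3L14.rel86 p (by omega) (by omega) _ hm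
  rcases Nat.lt_or_ge p 12584 with h87 | h87
  · exact (Table.relOK_iff chkPaths 12441 143).mp Cfsg.Agent.Lib.Helper28.TCCo3L14.rel87 p (by omega) (by omega) _ hm
  rcases Nat.lt_or_ge p 12727 with h88 | h88
  · exact (Table.relOK_iff chkPaths 12584 143).mp Cfsg.Agent.Lib.Helper28.TCCo3L14.rel88 p (by omega) (by omega) _ hm
  rcases Nat.lt_or_ge p 12870 with h89 | h89
  · exact (Table.relOK_iff chkPaths 12727 143).mp Cfsg.Agent.Lib.Helper28.TCCo3L14.rel89 p (by omega) (by omega) _ hm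
  rcases Nat.lt_or_ge p 13013 with h90 | h90
  · exact (Table.relOK_iff chkPaths 12870 143).mp Cfsg.Agent.Lib.Helper28.TCCo3L15.rel90 p (by omega) (by omega) _ hm
  rcases Nat.lt_or_ge p 13156 with h91 | h91
  · exact (Table.relOK_iff chkPaths 13013 143).mp Cfsg.Agent.Lib.Helper28.TCCo3L15.rel91 p (by omega) (by omega) _ hm
  rcases Nat.lt_or_ge p 13299 with h92 | h92
  · exact (Table.relOK_iff chkPaths 13156 143).mp Cfsg.Agent.Lib.Helper28.TCCo3L15.rel92 p (by omega) (by omega) _ hm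
  rcases Nat.lt_or_ge p 13442 with h93 | h93
  · exact (Table.relOK_iff chkPaths 13299 143).mp Cfsg.Agent.Lib.Helper28.TCCo3L15.rel93 p (by omega) (by omega) _ hm
  rcases Nat.lt_or_ge p 13585 with h94 | h94
  · exact (Table.relOK_iff chkPaths 13442 143).mp Cfsg.Agent.Lib.Helper28.TCCo3L15.rel94 p (by omega) (by omega) _ hm
  rcases Nat.lt_or_ge p 13728 with h95 | h95
  · exact (Table.relOK_iff chkPaths 13585 143).mp Cfsg.Agent.Lib.Helper28.TCCo3L15.rel95 p (by omega) (by omega) _ hm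
  rcases Nat.lt_or_ge p 13871 with h96 | h96
  · exact (Table.relOK_iff chkPaths 13728 143).mp Cfsg.Agent.Lib.Helper28.TCCo3L16.rel96 p (by omega) (by omega) _ hm
  rcases Nat.lt_or_ge p 14014 with h97 | h97
  · exact (Table.relOK_iff chkPaths 13871 143).mp Cfsg.Agent.Lib.Helper28.TCCo3L16.rel97 p (by omega) (by omega) _ hm
  rcases Nat.lt_or_ge p 14157 with h98 | h98
  · exact (Table.relOK_iff chkPaths 14014 143).mp Cfsg.Agent.Lib.Helper28.TCCo3L16.rel98 p (by omega) (by omega) _ hm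
  rcases Nat.lt_or_ge p 14300 with h99 | h99
  · exact (Table.relOK_iff chkPaths 14157 143).mp Cfsg.Agent.Lib.Helper28.TCCo3L16.rel99 p (by omega) (by omega) _ hm
  rcases Nat.lt_or_ge p 14443 with h100 | h100
  · exact (Table.relOK_iff chkPaths 14300 143).mp Cfsg.Agent.Lib.Helper28.TCCo3L16.rel100 p (by omega) (by omega) _ hm
  rcases Nat.lt_or_ge p 14586 with h101 | h101
  · exact (Table.relOK_iff chkPaths 14443 143).mp Cfsg.Agent.Lib.Helper28.TCCo3L16.rel101 p (by omega) (by omega) _ hm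
  rcases Nat.lt_or_ge p 14729 with h102 | h102
  · exact (Table.relOK_iff chkPaths 14586 143).mp Cfsg.Agent.Lib.Helper28.TCCo3L17.rel102 p (by omega) (by omega) _ hm
  rcases Nat.lt_or_ge p 14872 with h103 | h103
  · exact (Table.relOK_iff chkPaths 14729 143).mp Cfsg.Agent.Lib.Helper28.TCCo3L17.rel103 p (by omega) (by omega) _ hm
  rcases Nat.lt_or_ge p 15015 with h104 | h104
  · exact (Table.relOK_iff chkPaths 14872 143).mp Cfsg.Agent.Lib.Helper28.TCCo3L17.rel104 p (by omega) (by omega) _ hm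
  rcases Nat.lt_or_ge p 15158 with h105 | h105
  · exact (Table.relOK_iff chkPaths 15015 143).mp Cfsg.Agent.Lib.Helper28.TCCo3L17.rel105 p (by omega) (by omega) _ hm
  rcases Nat.lt_or_ge p 15301 with h106 | h106
  · exact (Table.relOK_iff chkPaths 15158 143).mp Cfsg.Agent.Lib.Helper28.TCCo3L17.rel106 p (by omega) (by omega) _ hm
  rcases Nat.lt_or_ge p 15444 with h107 | h107
  · exact (Table.relOK_iff chkPaths 15301 143).mp Cfsg.Agent.Lib.Helper28.TCCo3L17.rel107 p (by omega) (by omega) _ hm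
  rcases Nat.lt_or_ge p 15587 with h108 | h108
  · exact (Table.relOK_iff chkPaths 15444 143).mp Cfsg.Agent.Lib.Helper28.TCCo3L18.rel108 p (by omega) (by omega) _ hm
  rcases Nat.lt_or_ge p 15730 with h109 | h109
  · exact (Table.relOK_iff chkPaths 15587 143).mp Cfsg.Agent.Lib.Helper28.TCCo3L18.rel109 p (by omega) (by omega) _ hm
  rcases Nat.lt_or_ge p 15873 with h110 | h110
  · exact (Table.relOK_iff chkPaths 15730 143).mp Cfsg.Agent.Lib.Helper28.TCCo3L18.rel110 p (by omega) (by omega) _ hm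
  rcases Nat.lt_or_ge p 16016 with h111 | h111
  · exact (Table.relOK_iff chkPaths 15873 143).mp Cfsg.Agent.Lib.Helper28.TCCo3L18.rel111 p (by omega) (by omega) _ hm
  rcases Nat.lt_or_ge p 16159 with h112 | h112
  · exact (Table.relOK_iff chkPaths 16016 143).mp Cfsg.Agent.Lib.Helper28.TCCo3L18.rel112 p (by omega) (by omega) _ hm
  rcases Nat.lt_or_ge p 16302 with h113 | h113
  · exact (Table.relOK_iff chkPaths 16159 143).mp Cfsg.Agent.Lib.Helper28.TCCo3L18.rel113 p (by omega) (by omega) _ hm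
  rcases Nat.lt_or_ge p 16445 with h114 | h114
  · exact (Table.relOK_iff chkPaths 16302 143).mp Cfsg.Agent.Lib.Helper28.TCCo3L19.rel114 p (by omega) (by omega) _ hm
  rcases Nat.lt_or_ge p 16588 with h115 | h115
  · exact (Table.relOK_iff chkPaths 16445 143).mp Cfsg.Agent.Lib.Helper28.TCCo3L19.rel115 p (by omega) (by omega) _ hm
  rcases Nat.lt_or_ge p 16731 with h116 | h116
  · exact (Table.relOK_iff chkPaths 16588 143).mp Cfsg.Agent.Lib.Helper28.TCCo3L19.rel116 p (by omega) (by omega) _ hm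
  rcases Nat.lt_or_ge p 16874 with h117 | h117
  · exact (Table.relOK_iff chkPaths 16731 143).mp Cfsg.Agent.Lib.Helper28.TCCo3L19.rel117 p (by omega) (by omega) _ hm
  rcases Nat.lt_or_ge p 17017 with h118 | h118
  · exact (Table.relOK_iff chkPaths 16874 143).mp Cfsg.Agent.Lib.Helper28.TCCo3L19.rel118 p (by omega) (by omega) _ hm
  rcases Nat.lt_or_ge p 17160 with h119 | h119
  · exact (Table.relOK_iff chkPaths 17017 143).mp Cfsg.Agent.Lib.Helper28.TCCo3L19.rel119 p (by omega) (by omega) _ hm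
  rcases Nat.lt_or_ge p 17303 with h120 | h120
  · exact (Table.relOK_iff chkPaths 17160 143).mp Cfsg.Agent.Lib.Helper28.TCCo3L20.rel120 p (by omega) (by omega) _ hm
  rcases Nat.lt_or_ge p 17446 with h121 | h121
  · exact (Table.relOK_iff chkPaths 17303 143).mp Cfsg.Agent.Lib.Helper28.TCCo3L20.rel121 p (by omega) (by omega) _ hm
  rcases Nat.lt_or_ge p 17589 with h122 | h122
  · exact (Table.relOK_iff chkPaths 17446 143).mp Cfsg.Agent.Lib.Helper28.TCCo3L20.rel122 p (by omega) (by omega) _ hm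
  rcases Nat.lt_or_ge p 17732 with h123 | h123
  · exact (Table.relOK_iff chkPaths 17589 143).mp Cfsg.Agent.Lib.Helper28.TCCo3L20.rel123 p (by omega) (by omega) _ hm
  rcases Nat.lt_or_ge p 17875 with h124 | h124
  · exact (Table.relOK_iff chkPaths 17732 143).mp Cfsg.Agent.Lib.Helper28.TCCo3L20.rel124 p (by omega) (by omega) _ hm
  rcases Nat.lt_or_ge p 18018 with h125 | h125
  · exact (Table.relOK_iff chkPaths 17875 143).mp Cfsg.Agent.Lib.Helper28.TCCo3L20.rel125 p (by omega) (by omega) _ hm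
  rcases Nat.lt_or_ge p 18161 with h126 | h126
  · exact (Table.relOK_iff chkPaths 18018 143).mp Cfsg.Agent.Lib.Helper28.TCCo3L21.rel126 p (by omega) (by omega) _ hm
  rcases Nat.lt_or_ge p 18304 with h127 | h127
  · exact (Table.relOK_iff chkPaths 18161 143).mp Cfsg.Agent.Lib.Helper28.TCCo3L21.rel127 p (by omega) (by omega) _ hm
  rcases Nat.lt_or_ge p 18447 with h128 | h128
  · exact (Table.relOK_iff chkPaths 18304 143).mp Cfsg.Agent.Lib.Helper28.TCCo3L21.rel128 p (by omega) (by omega) _ hm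
  rcases Nat.lt_or_ge p 18590 with h129 | h129
  · exact (Table.relOK_iff chkPaths 18447 143).mp Cfsg.Agent.Lib.Helper28.TCCo3L21.rel129 p (by omega) (by omega) _ hm
  rcases Nat.lt_or_ge p 18733 with h130 | h130
  · exact (Table.relOK_iff chkPaths 18590 143).mp Cfsg.Agent.Lib.Helper28.TCCo3L21.rel130 p (by omega) (by omega) _ hm
  rcases Nat.lt_or_ge p 18876 with h131 | h131
  · exact (Table.relOK_iff chkPaths 18733 143).mp Cfsg.Agent.Lib.Helper28.TCCo3L21.rel131 p (by omega) (by omega) _ hm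
  rcases Nat.lt_or_ge p 19019 with h132 | h132
  · exact (Table.relOK_iff chkPaths 18876 143).mp Cfsg.Agent.Lib.Helper28.TCCo3L22.rel132 p (by omega) (by omega) _ hm
  rcases Nat.lt_or_ge p 19162 with h133 | h133
  · exact (Table.relOK_iff chkPaths 19019 143).mp Cfsg.Agent.Lib.Helper28.TCCo3L22.rel133 p (by omega) (by omega) _ hm
  rcases Nat.lt_or_ge p 19305 with h134 | h134
  · exact (Table.relOK_iff chkPaths 19162 143).mp Cfsg.Agent.Lib.Helper28.TCCo3L22.rel134 p (by omega) (by omega) _ hm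
  rcases Nat.lt_or_ge p 19448 with h135 | h135
  · exact (Table.relOK_iff chkPaths 19305 143).mp Cfsg.Agent.Lib.Helper28.TCCo3L22.rel135 p (by omega) (by omega) _ hm
  rcases Nat.lt_or_ge p 19591 with h136 | h136
  · exact (Table.relOK_iff chkPaths 19448 143).mp Cfsg.Agent.Lib.Helper28.TCCo3L22.rel136 p (by omega) (by omega) _ hm
  rcases Nat.lt_or_ge p 19734 with h137 | h137
  · exact (Table.relOK_iff chkPaths 19591 143).mp Cfsg.Agent.Lib.Helper28.TCCo3L22.rel137 p (by omega) (by omega) _ hm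
  rcases Nat.lt_or_ge p 19877 with h138 | h138
  · exact (Table.relOK_iff chkPaths 19734 143).mp Cfsg.Agent.Lib.Helper28.TCCo3L23.rel138 p (by omega) (by omega) _ hm
  rcases Nat.lt_or_ge p 20020 with h139 | h139
  · exact (Table.relOK_iff chkPaths 19877 143).mp Cfsg.Agent.Lib.Helper28.TCCo3L23.rel139 p (by omega) (by omega) _ hm
  rcases Nat.lt_or_ge p 20163 with h140 | h140
  · exact (Table.relOK_iff chkPaths 20020 143).mp Cfsg.Agent.Lib.Helper28.TCCo3L23.rel140 p (by omega) (by omega) _ hm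
  rcases Nat.lt_or_ge p 20306 with h141 | h141
  · exact (Table.relOK_iff chkPaths 20163 143).mp Cfsg.Agent.Lib.Helper28.TCCo3L23.rel141 p (by omega) (by omega) _ hm
  rcases Nat.lt_or_ge p 20449 with h142 | h142
  · exact (Table.relOK_iff chkPaths 20306 143).mp Cfsg.Agent.Lib.Helper28.TCCo3L23.rel142 p (by omega) (by omega) _ hm
  rcases Nat.lt_or_ge p 20592 with h143 | h143
  · exact (Table.relOK_iff chkPaths 20449 143).mp Cfsg.Agent.Lib.Helper28.TCCo3L23.rel143 p (by omega) (by omega) _ hm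
  rcases Nat.lt_or_ge p 20735 with h144 | h144
  · exact (Table.relOK_iff chkPaths 20592 143).mp Cfsg.Agent.Lib.Helper28.TCCo3L24.rel144 p (by omega) (by omega) _ hm
  rcases Nat.lt_or_ge p 20878 with h145 | h145
  · exact (Table.relOK_iff chkPaths 20735 143).mp Cfsg.Agent.Lib.Helper28.TCCo3L24.rel145 p (by omega) (by omega) _ hm
  rcases Nat.lt_or_ge p 21021 with h146 | h146
  · exact (Table.relOK_iff chkPaths 20878 143).mp Cfsg.Agent.Lib.Helper28.TCCo3L24.rel146 p (by omega) (by omega) _ hm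
  rcases Nat.lt_or_ge p 21164 with h147 | h147
  · exact (Table.relOK_iff chkPaths 21021 143).mp Cfsg.Agent.Lib.Helper28.TCCo3L24.rel147 p (by omega) (by omega) _ hm
  rcases Nat.lt_or_ge p 21307 with h148 | h148
  · exact (Table.relOK_iff chkPaths 21164 143).mp Cfsg.Agent.Lib.Helper28.TCCo3L24.rel148 p (by omega) (by omega) _ hm
  rcases Nat.lt_or_ge p 21450 with h149 | h149
  · exact (Table.relOK_iff chkPaths 21307 143).mp Cfsg.Agent.Lib.Helper28.TCCo3L24.rel149 p (by omega) (by omega) _ hm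
  rcases Nat.lt_or_ge p 21593 with h150 | h150
  · exact (Table.relOK_iff chkPaths 21450 143).mp Cfsg.Agent.Lib.Helper28.TCCo3L25.rel150 p (by omega) (by omega) _ hm
  rcases Nat.lt_or_ge p 21736 with h151 | h151
  · exact (Table.relOK_iff chkPaths 21593 143).mp Cfsg.Agent.Lib.Helper28.TCCo3L25.rel151 p (by omega) (by omega) _ hm
  rcases Nat.lt_or_ge p 21879 with h152 | h152
  · exact (Table.relOK_iff chkPaths 21736 143).mp Cfsg.Agent.Lib.Helper28.TCCo3L25.rel152 p (by omega) (by omega) _ hm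
  rcases Nat.lt_or_ge p 22022 with h153 | h153
  · exact (Table.relOK_iff chkPaths 21879 143).mp Cfsg.Agent.Lib.Helper28.TCCo3L25.rel153 p (by omega) (by omega) _ hm
  rcases Nat.lt_or_ge p 22165 with h154 | h154
  · exact (Table.relOK_iff chkPaths 22022 143).mp Cfsg.Agent.Lib.Helper28.TCCo3L25.rel154 p (by omega) (by omega) _ hm
  rcases Nat.lt_or_ge p 22308 with h155 | h155
  · exact (Table.relOK_iff chkPaths 22165 143).mp Cfsg.Agent.Lib.Helper28.TCCo3L25.rel155 p (by omega) (by omega) _ hm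
  rcases Nat.lt_or_ge p 22451 with h156 | h156
  · exact (Table.relOK_iff chkPaths 22308 143).mp Cfsg.Agent.Lib.Helper28.TCCo3L26.rel156 p (by omega) (by omega) _ hm
  rcases Nat.lt_or_ge p 22594 with h157 | h157
  · exact (Table.relOK_iff chkPaths 22451 143).mp Cfsg.Agent.Lib.Helper28.TCCo3L26.rel157 p (by omega) (by omega) _ hm
  rcases Nat.lt_or_ge p 22737 with h158 | h158
  · exact (Table.relOK_iff chkPaths 22594 143).mp Cfsg.Agent.Lib.Helper28.TCCo3L26.rel158 p (by omega) (by omega) _ hm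
  rcases Nat.lt_or_ge p 22880 with h159 | h159
  · exact (Table.relOK_iff chkPaths 22737 143).mp Cfsg.Agent.Lib.Helper28.TCCo3L26.rel159 p (by omega) (by omega) _ hm
  rcases Nat.lt_or_ge p 23023 with h160 | h160
  · exact (Table.relOK_iff chkPaths 22880 143).mp Cfsg.Agent.Lib.Helper28.TCCo3L26.rel160 p (by omega) (by omega) _ hm
  rcases Nat.lt_or_ge p 23166 with h161 | h161
  · exact (Table.relOK_iff chkPaths 23023 143).mp Cfsg.Agent.Lib.Helper28.TCCo3L26.rel161 p (by omega) (by omega) _ hm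
  rcases Nat.lt_or_ge p 23309 with h162 | h162
  · exact (Table.relOK_iff chkPaths 23166 143).mp Cfsg.Agent.Lib.Helper28.TCCo3L27.rel162 p (by omega) (by omega) _ hm
  rcases Nat.lt_or_ge p 23452 with h163 | h163
  · exact (Table.relOK_iff chkPaths 23309 143).mp Cfsg.Agent.Lib.Helper28.TCCo3L27.rel163 p (by omega) (by omega) _ hm
  rcases Nat.lt_or_ge p 23595 with h164 | h164
  · exact (Table.relOK_iff chkPaths 23452 143).mp Cfsg.Agent.Lib.Helper28.TCCo3L27.rel164 p (by omega) (by omega) _ hm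
  rcases Nat.lt_or_ge p 23738 with h165 | h165
  · exact (Table.relOK_iff chkPaths 23595 143).mp Cfsg.Agent.Lib.Helper28.TCCo3L27.rel165 p (by omega) (by omega) _ hm
  rcases Nat.lt_or_ge p 23881 with h166 | h166
  · exact (Table.relOK_iff chkPaths 23738 143).mp Cfsg.Agent.Lib.Helper28.TCCo3L27.rel166 p (by omega) (by omega) _ hm
  rcases Nat.lt_or_ge p 24024 with h167 | h167
  · exact (Table.relOK_iff chkPaths 23881 143).mp Cfsg.Agent.Lib.Helper28.TCCo3L27.rel167 p (by omega) (by omega) _ hm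
  rcases Nat.lt_or_ge p 24167 with h168 | h168
  · exact (Table.relOK_iff chkPaths 24024 143).mp Cfsg.Agent.Lib.Helper28.TCCo3L28.rel168 p (by omega) (by omega) _ hm
  rcases Nat.lt_or_ge p 24310 with h169 | h169
  · exact (Table.relOK_iff chkPaths 24167 143).mp Cfsg.Agent.Lib.Helper28.TCCo3L28.rel169 p (by omega) (by omega) _ hm
  rcases Nat.lt_or_ge p 24453 with h170 | h170
  · exact (Table.relOK_iff chkPaths 24310 143).mp Cfsg.Agent.Lib.Helper28.TCCo3L28.rel170 p (by omega) (by omega) _ hm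
  rcases Nat.lt_or_ge p 24596 with h171 | h171
  · exact (Table.relOK_iff chkPaths 24453 143).mp Cfsg.Agent.Lib.Helper28.TCCo3L28.rel171 p (by omega) (by omega) _ hm
  rcases Nat.lt_or_ge p 24739 with h172 | h172
  · exact (Table.relOK_iff chkPaths 24596 143).mp Cfsg.Agent.Lib.Helper28.TCCo3L28.rel172 p (by omega) (by omega) _ hm
  rcases Nat.lt_or_ge p 24882 with h173 | h173
  · exact (Table.relOK_iff chkPaths 24739 143).mp Cfsg.Agent.Lib.Helper28.TCCo3L28.rel173 p (by omega) (by omega) _ hm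
  rcases Nat.lt_or_ge p 25025 with h174 | h174
  · exact (Table.relOK_iff chkPaths 24882 143).mp Cfsg.Agent.Lib.Helper28.TCCo3L29.rel174 p (by omega) (by omega) _ hm
  rcases Nat.lt_or_ge p 25168 with h175 | h175
  · exact (Table.relOK_iff chkPaths 25025 143).mp Cfsg.Agent.Lib.Helper28.TCCo3L29.rel175 p (by omega) (by omega) _ hm
  rcases Nat.lt_or_ge p 25311 with h176 | h176
  · exact (Table.relOK_iff chkPaths 25168 143).mp Cfsg.Agent.Lib.Helper28.TCCo3L29.rel176 p (by omega) (by omega) _ hm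
  rcases Nat.lt_or_ge p 25454 with h177 | h177
  · exact (Table.relOK_iff chkPaths 25311 143).mp Cfsg.Agent.Lib.Helper28.TCCo3L29.rel177 p (by omega) (by omega) _ hm
  rcases Nat.lt_or_ge p 25597 with h178 | h178
  · exact (Table.relOK_iff chkPaths 25454 143).mp Cfsg.Agent.Lib.Helper28.TCCo3L29.rel178 p (by omega) (by omega) _ hm
  rcases Nat.lt_or_ge p 25740 with h179 | h179
  · exact (Table.relOK_iff chkPaths 25597 143).mp Cfsg.Agent.Lib.Helper28.TCCo3L29.rel179 p (by omega) (by omega) _ hm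
  rcases Nat.lt_or_ge p 25883 with h180 | h180
  · exact (Table.relOK_iff chkPaths 25740 143).mp Cfsg.Agent.Lib.Helper28.TCCo3L30.rel180 p (by omega) (by omega) _ hm
  rcases Nat.lt_or_ge p 26026 with h181 | h181
  · exact (Table.relOK_iff chkPaths 25883 143).mp Cfsg.Agent.Lib.Helper28.TCCo3L30.rel181 p (by omega) (by omega) _ hm
  rcases Nat.lt_or_ge p 26169 with h182 | h182
  · exact (Table.relOK_iff chkPaths 26026 143).mp Cfsg.Agent.Lib.Helper28.TCCo3L30.rel182 p (by omega) (by omega) _ hm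
  rcases Nat.lt_or_ge p 26312 with h183 | h183
  · exact (Table.relOK_iff chkPaths 26169 143).mp Cfsg.Agent.Lib.Helper28.TCCo3L30.rel183 p (by omega) (by omega) _ hm
  rcases Nat.lt_or_ge p 26455 with h184 | h184
  · exact (Table.relOK_iff chkPaths 26312 143).mp Cfsg.Agent.Lib.Helper28.TCCo3L30.rel184 p (by omega) (by omega) _ hm
  rcases Nat.lt_or_ge p 26598 with h185 | h185
  · exact (Table.relOK_iff chkPaths 26455 143).mp Cfsg.Agent.Lib.Helper28.TCCo3L30.rel185 p (by omega) (by omega) _ hm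
  rcases Nat.lt_or_ge p 26741 with h186 | h186
  · exact (Table.relOK_iff chkPaths 26598 143).mp Cfsg.Agent.Lib.Helper28.TCCo3L31.rel186 p (by omega) (by omega) _ hm
  rcases Nat.lt_or_ge p 26884 with h187 | h187
  · exact (Table.relOK_iff chkPaths 26741 143).mp Cfsg.Agent.Lib.Helper28.TCCo3L31.rel187 p (by omega) (by omega) _ hm
  rcases Nat.lt_or_ge p 27027 with h188 | h188
  · exact (Table.relOK_iff chkPaths 26884 143).mp Cfsg.Agent.Lib.Helper28.TCCo3L31.rel188 p (by omega) (by omega) _ hm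
  rcases Nat.lt_or_ge p 27170 with h189 | h189
  · exact (Table.relOK_iff chkPaths 27027 143).mp Cfsg.Agent.Lib.Helper28.TCCo3L31.rel189 p (by omega) (by omega) _ hm
  rcases Nat.lt_or_ge p 27313 with h190 | h190
  · exact (Table.relOK_iff chkPaths 27170 143).mp Cfsg.Agent.Lib.Helper28.TCCo3L31.rel190 p (by omega) (by omega) _ hm
  rcases Nat.lt_or_ge p 27456 with h191 | h191
  · exact (Table.relOK_iff chkPaths 27313 143).mp Cfsg.Agent.Lib.Helper28.TCCo3L31.rel191 p (by omega) (by omega) _ hm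
  rcases Nat.lt_or_ge p 27599 with h192 | h192
  · exact (Table.relOK_iff chkPaths 27456 143).mp Cfsg.Agent.Lib.Helper28.TCCo3L32.rel192 p (by omega) (by omega) _ hm
  rcases Nat.lt_or_ge p 27742 with h193 | h193
  · exact (Table.relOK_iff chkPaths 27599 143).mp Cfsg.Agent.Lib.Helper28.TCCo3L32.rel193 p (by omega) (by omega) _ hm
  rcases Nat.lt_or_ge p 27885 with h194 | h194
  · exact (Table.relOK_iff chkPaths 27742 143).mp Cfsg.Agent.Lib.Helper28.TCCo3L32.rel194 p (by omega) (by omega) _ hm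
  rcases Nat.lt_or_ge p 28028 with h195 | h195
  · exact (Table.relOK_iff chkPaths 27885 143).mp Cfsg.Agent.Lib.Helper28.TCCo3L32.rel195 p (by omega) (by omega) _ hm
  rcases Nat.lt_or_ge p 28171 with h196 | h196
  · exact (Table.relOK_iff chkPaths 28028 143).mp Cfsg.Agent.Lib.Helper28.TCCo3L32.rel196 p (by omega) (by omega) _ hm
  rcases Nat.lt_or_ge p 28314 with h197 | h197
  · exact (Table.relOK_iff chkPaths 28171 143).mp Cfsg.Agent.Lib.Helper28.TCCo3L32.rel197 p (by omega) (by omega) _ hm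
  rcases Nat.lt_or_ge p 28457 with h198 | h198
  · exact (Table.relOK_iff chkPaths 28314 143).mp Cfsg.Agent.Lib.Helper28.TCCo3L33.rel198 p (by omega) (by omega) _ hm
  rcases Nat.lt_or_ge p 28600 with h199 | h199
  · exact (Table.relOK_iff chkPaths 28457 143).mp Cfsg.Agent.Lib.Helper28.TCCo3L33.rel199 p (by omega) (by omega) _ hm
  rcases Nat.lt_or_ge p 28743 with h200 | h200
  · exact (Table.relOK_iff chkPaths 28600 143).mp Cfsg.Agent.Lib.Helper28.TCCo3L33.rel200 p (by omega) (by omega) _ hm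
  rcases Nat.lt_or_ge p 28886 with h201 | h201
  · exact (Table.relOK_iff chkPaths 28743 143).mp Cfsg.Agent.Lib.Helper28.TCCo3L33.rel201 p (by omega) (by omega) _ hm
  rcases Nat.lt_or_ge p 29029 with h202 | h202
  · exact (Table.relOK_iff chkPaths 28886 143).mp Cfsg.Agent.Lib.Helper28.TCCo3L33.rel202 p (by omega) (by omega) _ hm
  rcases Nat.lt_or_ge p 29172 with h203 | h203
  · exact (Table.relOK_iff chkPaths 29029 143).mp Cfsg.Agent.Lib.Helper28.TCCo3L33.rel203 p (by omega) (by omega) _ hm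
  rcases Nat.lt_or_ge p 29315 with h204 | h204
  · exact (Table.relOK_iff chkPaths 29172 143).mp Cfsg.Agent.Lib.Helper28.TCCo3L34.rel204 p (by omega) (by omega) _ hm
  rcases Nat.lt_or_ge p 29458 with h205 | h205
  · exact (Table.relOK_iff chkPaths 29315 143).mp Cfsg.Agent.Lib.Helper28.TCCo3L34.rel205 p (by omega) (by omega) _ hm
  rcases Nat.lt_or_ge p 29601 with h206 | h206
  · exact (Table.relOK_iff chkPaths 29458 143).mp Cfsg.Agent.Lib.Helper28.TCCo3L34.rel206 p (by omega) (by omega) _ hm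
  rcases Nat.lt_or_ge p 29744 with h207 | h207
  · exact (Table.relOK_iff chkPaths 29601 143).mp Cfsg.Agent.Lib.Helper28.TCCo3L34.rel207 p (by omega) (by omega) _ hm
  rcases Nat.lt_or_ge p 29887 with h208 | h208
  · exact (Table.relOK_iff chkPaths 29744 143).mp Cfsg.Agent.Lib.Helper28.TCCo3L34.rel208 p (by omega) (by omega) _ hm
  rcases Nat.lt_or_ge p 30030 with h209 | h209
  · exact (Table.relOK_iff chkPaths 29887 143).mp Cfsg.Agent.Lib.Helper28.TCCo3L34.rel209 p (by omega) (by omega) _ hm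
  rcases Nat.lt_or_ge p 30173 with h210 | h210
  · exact (Table.relOK_iff chkPaths 30030 143).mp Cfsg.Agent.Lib.Helper28.TCCo3L35.rel210 p (by omega) (by omega) _ hm
  rcases Nat.lt_or_ge p 30316 with h211 | h211
  · exact (Table.relOK_iff chkPaths 30173 143).mp Cfsg.Agent.Lib.Helper28.TCCo3L35.rel211 p (by omega) (by omega) _ hm
  rcases Nat.lt_or_ge p 30459 with h212 | h212
  · exact (Table.relOK_iff chkPaths 30316 143).mp Cfsg.Agent.Lib.Helper28.TCCo3L35.rel212 p (by omega) (by omega) _ hm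
  rcases Nat.lt_or_ge p 30602 with h213 | h213
  · exact (Table.relOK_iff chkPaths 30459 143).mp Cfsg.Agent.Lib.Helper28.TCCo3L35.rel213 p (by omega) (by omega) _ hm
  rcases Nat.lt_or_ge p 30745 with h214 | h214
  · exact (Table.relOK_iff chkPaths 30602 143).mp Cfsg.Agent.Lib.Helper28.TCCo3L35.rel214 p (by omega) (by omega) _ hm
  rcases Nat.lt_or_ge p 30888 with h215 | h215
  · exact (Table.relOK_iff chkPaths 30745 143).mp Cfsg.Agent.Lib.Helper28.TCCo3L35.rel215 p (by omega) (by omega) _ hm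
  rcases Nat.lt_or_ge p 31031 with h216 | h216
  · exact (Table.relOK_iff chkPaths 30888 143).mp Cfsg.Agent.Lib.Helper28.TCCo3L36.rel216 p (by omega) (by omega) _ hm
  rcases Nat.lt_or_ge p 31174 with h217 | h217
  · exact (Table.relOK_iff chkPaths 31031 143).mp Cfsg.Agent.Lib.Helper28.TCCo3L36.rel217 p (by omega) (by omega) _ hm
  rcases Nat.lt_or_ge p 31317 with h218 | h218
  · exact (Table.relOK_iff chkPaths 31174 143).mp Cfsg.Agent.Lib.Helper28.TCCo3L36.rel218 p (by omega) (by omega) _ hm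
  rcases Nat.lt_or_ge p 31460 with h219 | h219
  · exact (Table.relOK_iff chkPaths 31317 143).mp Cfsg.Agent.Lib.Helper28.TCCo3L36.rel219 p (by omega) (by omega) _ hm
  rcases Nat.lt_or_ge p 31603 with h220 | h220
  · exact (Table.relOK_iff chkPaths 31460 143).mp Cfsg.Agent.Lib.Helper28.TCCo3L36.rel220 p (by omega) (by omega) _ hm
  rcases Nat.lt_or_ge p 31746 with h221 | h221
  · exact (Table.relOK_iff chkPaths 31603 143).mp Cfsg.Agent.Lib.Helper28.TCCo3L36.rel221 p (by omega) (by omega) _ hm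
  rcases Nat.lt_or_ge p 31889 with h222 | h222
  · exact (Table.relOK_iff chkPaths 31746 143).mp Cfsg.Agent.Lib.Helper28.TCCo3L37.rel222 p (by omega) (by omega) _ hm
  rcases Nat.lt_or_ge p 32032 with h223 | h223
  · exact (Table.relOK_iff chkPaths 31889 143).mp Cfsg.Agent.Lib.Helper28.TCCo3L37.rel223 p (by omega) (by omega) _ hm
  rcases Nat.lt_or_ge p 32175 with h224 | h224
  · exact (Table.relOK_iff chkPaths 32032 143).mp Cfsg.Agent.Lib.Helper28.TCCo3L37.rel224 p (by omega) (by omega) _ hm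
  rcases Nat.lt_or_ge p 32318 with h225 | h225
  · exact (Table.relOK_iff chkPaths 32175 143).mp Cfsg.Agent.Lib.Helper28.TCCo3L37.rel225 p (by omega) (by omega) _ hm
  rcases Nat.lt_or_ge p 32461 with h226 | h226
  · exact (Table.relOK_iff chkPaths 32318 143).mp Cfsg.Agent.Lib.Helper28.TCCo3L37.rel226 p (by omega) (by omega) _ hm
  rcases Nat.lt_or_ge p 32604 with h227 | h227
  · exact (Table.relOK_iff chkPaths 32461 143).mp Cfsg.Agent.Lib.Helper28.TCCo3L37.rel227 p (by omega) (by omega) _ hm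
  rcases Nat.lt_or_ge p 32747 with h228 | h228
  · exact (Table.relOK_iff chkPaths 32604 143).mp Cfsg.Agent.Lib.Helper28.TCCo3L38.rel228 p (by omega) (by omega) _ hm
  rcases Nat.lt_or_ge p 32890 with h229 | h229
  · exact (Table.relOK_iff chkPaths 32747 143).mp Cfsg.Agent.Lib.Helper28.TCCo3L38.rel229 p (by omega) (by omega) _ hm
  rcases Nat.lt_or_ge p 33033 with h230 | h230
  · exact (Table.relOK_iff chkPaths 32890 143).mp Cfsg.Agent.Lib.Helper28.TCCo3L38.rel230 p (by omega) (by omega) _ hm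
  rcases Nat.lt_or_ge p 33176 with h231 | h231
  · exact (Table.relOK_iff chkPaths 33033 143).mp Cfsg.Agent.Lib.Helper28.TCCo3L38.rel231 p (by omega) (by omega) _ hm
  rcases Nat.lt_or_ge p 33319 with h232 | h232
  · exact (Table.relOK_iff chkPaths 33176 143).mp Cfsg.Agent.Lib.Helper28.TCCo3L38.rel232 p (by omega) (by omega) _ hm
  rcases Nat.lt_or_ge p 33462 with h233 | h233
  · exact (Table.relOK_iff chkPaths 33319 143).mp Cfsg.Agent.Lib.Helper28.TCCo3L38.rel233 p (by omega) (by omega) _ hm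
  rcases Nat.lt_or_ge p 33605 with h234 | h234
  · exact (Table.relOK_iff chkPaths 33462 143).mp Cfsg.Agent.Lib.Helper28.TCCo3L39.rel234 p (by omega) (by omega) _ hm
  rcases Nat.lt_or_ge p 33748 with h235 | h235
  · exact (Table.relOK_iff chkPaths 33605 143).mp Cfsg.Agent.Lib.Helper28.TCCo3L39.rel235 p (by omega) (by omega) _ hm
  rcases Nat.lt_or_ge p 33891 with h236 | h236
  · exact (Table.relOK_iff chkPaths 33748 143).mp Cfsg.Agent.Lib.Helper28.TCCo3L39.rel236 p (by omega) (by omega) _ hm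
  rcases Nat.lt_or_ge p 34034 with h237 | h237
  · exact (Table.relOK_iff chkPaths 33891 143).mp Cfsg.Agent.Lib.Helper28.TCCo3L39.rel237 p (by omega) (by omega) _ hm
  rcases Nat.lt_or_ge p 34177 with h238 | h238
  · exact (Table.relOK_iff chkPaths 34034 143).mp Cfsg.Agent.Lib.Helper28.TCCo3L39.rel238 p (by omega) (by omega) _ hm
  rcases Nat.lt_or_ge p 34320 with h239 | h239
  · exact (Table.relOK_iff chkPaths 34177 143).mp Cfsg.Agent.Lib.Helper28.TCCo3L39.rel239 p (by omega) (by omega) _ hm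
  rcases Nat.lt_or_ge p 34463 with h240 | h240
  · exact (Table.relOK_iff chkPaths 34320 143).mp Cfsg.Agent.Lib.Helper28.TCCo3L40.rel240 p (by omega) (by omega) _ hm
  rcases Nat.lt_or_ge p 34606 with h241 | h241
  · exact (Table.relOK_iff chkPaths 34463 143).mp Cfsg.Agent.Lib.Helper28.TCCo3L40.rel241 p (by omega) (by omega) _ hm
  rcases Nat.lt_or_ge p 34749 with h242 | h242
  · exact (Table.relOK_iff chkPaths 34606 143).mp Cfsg.Agent.Lib.Helper28.TCCo3L40.rel242 p (by omega) (by omega) _ hm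
  rcases Nat.lt_or_ge p 34892 with h243 | h243
  · exact (Table.relOK_iff chkPaths 34749 143).mp Cfsg.Agent.Lib.Helper28.TCCo3L40.rel243 p (by omega) (by omega) _ hm
  rcases Nat.lt_or_ge p 35035 with h244 | h244
  · exact (Table.relOK_iff chkPaths 34892 143).mp Cfsg.Agent.Lib.Helper28.TCCo3L40.rel244 p (by omega) (by omega) _ hm
  rcases Nat.lt_or_ge p 35178 with h245 | h245
  · exact (Table.relOK_iff chkPaths 35035 143).mp Cfsg.Agent.Lib.Helper28.TCCo3L40.rel245 p (by omega) (by omega) _ hm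
  rcases Nat.lt_or_ge p 35321 with h246 | h246
  · exact (Table.relOK_iff chkPaths 35178 143).mp Cfsg.Agent.Lib.Helper28.TCCo3L41.rel246 p (by omega) (by omega) _ hm
  rcases Nat.lt_or_ge p 35464 with h247 | h247
  · exact (Table.relOK_iff chkPaths 35321 143).mp Cfsg.Agent.Lib.Helper28.TCCo3L41.rel247 p (by omega) (by omega) _ hm
  rcases Nat.lt_or_ge p 35607 with h248 | h248
  · exact (Table.relOK_iff chkPaths 35464 143).mp Cfsg.Agent.Lib.Helper28.TCCo3L41.rel248 p (by omega) (by omega) _ hm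
  rcases Nat.lt_or_ge p 35750 with h249 | h249
  · exact (Table.relOK_iff chkPaths 35607 143).mp Cfsg.Agent.Lib.Helper28.TCCo3L41.rel249 p (by omega) (by omega) _ hm
  rcases Nat.lt_or_ge p 35893 with h250 | h250
  · exact (Table.relOK_iff chkPaths 35750 143).mp Cfsg.Agent.Lib.Helper28.TCCo3L41.rel250 p (by omega) (by omega) _ hm
  rcases Nat.lt_or_ge p 36036 with h251 | h251
  · exact (Table.relOK_iff chkPaths 35893 143).mp Cfsg.Agent.Lib.Helper28.TCCo3L41.rel251 p (by omega) (by omega) _ hm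
  rcases Nat.lt_or_ge p 36179 with h252 | h252
  · exact (Table.relOK_iff chkPaths 36036 143).mp Cfsg.Agent.Lib.Helper28.TCCo3L42.rel252 p (by omega) (by omega) _ hm
  rcases Nat.lt_or_ge p 36322 with h253 | h253
  · exact (Table.relOK_iff chkPaths 36179 143).mp Cfsg.Agent.Lib.Helper28.TCCo3L42.rel253 p (by omega) (by omega) _ hm
  rcases Nat.lt_or_ge p 36465 with h254 | h254
  · exact (Table.relOK_iff chkPaths 36322 143).mp Cfsg.Agent.Lib.Helper28.TCCo3L42.rel254 p (by omega) (by omega) _ hm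
  rcases Nat.lt_or_ge p 36608 with h255 | h255
  · exact (Table.relOK_iff chkPaths 36465 143).mp Cfsg.Agent.Lib.Helper28.TCCo3L42.rel255 p (by omega) (by omega) _ hm
  rcases Nat.lt_or_ge p 36751 with h256 | h256
  · exact (Table.relOK_iff chkPaths 36608 143).mp Cfsg.Agent.Lib.Helper28.TCCo3L42.rel256 p (by omega) (by omega) _ hm
  rcases Nat.lt_or_ge p 36894 with h257 | h257
  · exact (Table.relOK_iff chkPaths 36751 143).mp Cfsg.Agent.Lib.Helper28.TCCo3L42.rel257 p (by omega) (by omega) _ hm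
  rcases Nat.lt_or_ge p 37037 with h258 | h258
  · exact (Table.relOK_iff chkPaths 36894 143).mp Cfsg.Agent.Lib.Helper28.TCCo3L43.rel258 p (by omega) (by omega) _ hm
  rcases Nat.lt_or_ge p 37180 with h259 | h259
  · exact (Table.relOK_iff chkPaths 37037 143).mp Cfsg.Agent.Lib.Helper28.TCCo3L43.rel259 p (by omega) (by omega) _ hm
  rcases Nat.lt_or_ge p 37323 with h260 | h260
  · exact (Table.relOK_iff chkPaths 37180 143).mp Cfsg.Agent.Lib.Helper28.TCCo3L43.rel260 p (by omega) (by omega) _ hm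
  rcases Nat.lt_or_ge p 37466 with h261 | h261
  · exact (Table.relOK_iff chkPaths 37323 143).mp Cfsg.Agent.Lib.Helper28.TCCo3L43.rel261 p (by omega) (by omega) _ hm
  rcases Nat.lt_or_ge p 37609 with h262 | h262
  · exact (Table.relOK_iff chkPaths 37466 143).mp Cfsg.Agent.Lib.Helper28.TCCo3L43.rel262 p (by omega) (by omega) _ hm
  rcases Nat.lt_or_ge p 37752 with h263 | h263
  · exact (Table.relOK_iff chkPaths 37609 143).mp Cfsg.Agent.Lib.Helper28.TCCo3L43.rel263 p (by omega) (by omega) _ hm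
  rcases Nat.lt_or_ge p 37895 with h264 | h264
  · exact (Table.relOK_iff chkPaths 37752 143).mp Cfsg.Agent.Lib.Helper28.TCCo3L44.rel264 p (by omega) (by omega) _ hm
  rcases Nat.lt_or_ge p 38038 with h265 | h265
  · exact (Table.relOK_iff chkPaths 37895 143).mp Cfsg.Agent.Lib.Helper28.TCCo3L44.rel265 p (by omega) (by omega) _ hm
  rcases Nat.lt_or_ge p 38181 with h266 | h266
  · exact (Table.relOK_iff chkPaths 38038 143).mp Cfsg.Agent.Lib.Helper28.TCCo3L44.rel266 p (by omega) (by omega) _ hm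
  rcases Nat.lt_or_ge p 38324 with h267 | h267
  · exact (Table.relOK_iff chkPaths 38181 143).mp Cfsg.Agent.Lib.Helper28.TCCo3L44.rel267 p (by omega) (by omega) _ hm
  rcases Nat.lt_or_ge p 38467 with h268 | h268
  · exact (Table.relOK_iff chkPaths 38324 143).mp Cfsg.Agent.Lib.Helper28.TCCo3L44.rel268 p (by omega) (by omega) _ hm
  rcases Nat.lt_or_ge p 38610 with h269 | h269
  · exact (Table.relOK_iff chkPaths 38467 143).mp Cfsg.Agent.Lib.Helper28.TCCo3L44.rel269 p (by omega) (by omega) _ hm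
  rcases Nat.lt_or_ge p 38753 with h270 | h270
  · exact (Table.relOK_iff chkPaths 38610 143).mp Cfsg.Agent.Lib.Helper28.TCCo3L45.rel270 p (by omega) (by omega) _ hm
  rcases Nat.lt_or_ge p 38896 with h271 | h271
  · exact (Table.relOK_iff chkPaths 38753 143).mp Cfsg.Agent.Lib.Helper28.TCCo3L45.rel271 p (by omega) (by omega) _ hm
  rcases Nat.lt_or_ge p 39039 with h272 | h272
  · exact (Table.relOK_iff chkPaths 38896 143).mp Cfsg.Agent.Lib.Helper28.TCCo3L45.rel272 p (by omega) (by omega) _ hm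
  rcases Nat.lt_or_ge p 39182 with h273 | h273
  · exact (Table.relOK_iff chkPaths 39039 143).mp Cfsg.Agent.Lib.Helper28.TCCo3L45.rel273 p (by omega) (by omega) _ hm
  rcases Nat.lt_or_ge p 39325 with h274 | h274
  · exact (Table.relOK_iff chkPaths 39182 143).mp Cfsg.Agent.Lib.Helper28.TCCo3L45.rel274 p (by omega) (by omega) _ hm
  rcases Nat.lt_or_ge p 39468 with h275 | h275
  · exact (Table.relOK_iff chkPaths 39325 143).mp Cfsg.Agent.Lib.Helper28.TCCo3L45.rel275 p (by omega) (by omega) _ hm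
  rcases Nat.lt_or_ge p 39611 with h276 | h276
  · exact (Table.relOK_iff chkPaths 39468 143).mp Cfsg.Agent.Lib.Helper28.TCCo3L46.rel276 p (by omega) (by omega) _ hm
  rcases Nat.lt_or_ge p 39754 with h277 | h277
  · exact (Table.relOK_iff chkPaths 39611 143).mp Cfsg.Agent.Lib.Helper28.TCCo3L46.rel277 p (by omega) (by omega) _ hm
  rcases Nat.lt_or_ge p 39897 with h278 | h278
  · exact (Table.relOK_iff chkPaths 39754 143).mp Cfsg.Agent.Lib.Helper28.TCCo3L46.rel278 p (by omega) (by omega) _ hm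
  rcases Nat.lt_or_ge p 40040 with h279 | h279
  · exact (Table.relOK_iff chkPaths 39897 143).mp Cfsg.Agent.Lib.Helper28.TCCo3L46.rel279 p (by omega) (by omega) _ hm
  rcases Nat.lt_or_ge p 40183 with h280 | h280
  · exact (Table.relOK_iff chkPaths 40040 143).mp Cfsg.Agent.Lib.Helper28.TCCo3L46.rel280 p (by omega) (by omega) _ hm
  rcases Nat.lt_or_ge p 40326 with h281 | h281
  · exact (Table.relOK_iff chkPaths 40183 143).mp Cfsg.Agent.Lib.Helper28.TCCo3L46.rel281 p (by omega) (by omega) _ hm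
  rcases Nat.lt_or_ge p 40469 with h282 | h282
  · exact (Table.relOK_iff chkPaths 40326 143).mp Cfsg.Agent.Lib.Helper28.TCCo3L47.rel282 p (by omega) (by omega) _ hm
  rcases Nat.lt_or_ge p 40612 with h283 | h283
  · exact (Table.relOK_iff chkPaths 40469 143).mp Cfsg.Agent.Lib.Helper28.TCCo3L47.rel283 p (by omega) (by omega) _ hm
  rcases Nat.lt_or_ge p 40755 with h284 | h284
  · exact (Table.relOK_iff chkPaths 40612 143).mp Cfsg.Agent.Lib.Helper28.TCCo3L47.rel284 p (by omega) (by omega) _ hm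
  rcases Nat.lt_or_ge p 40898 with h285 | h285
  · exact (Table.relOK_iff chkPaths 40755 143).mp Cfsg.Agent.Lib.Helper28.TCCo3L47.rel285 p (by omega) (by omega) _ hm
  rcases Nat.lt_or_ge p 41041 with h286 | h286
  · exact (Table.relOK_iff chkPaths 40898 143).mp Cfsg.Agent.Lib.Helper28.TCCo3L47.rel286 p (by omega) (by omega) _ hm
  rcases Nat.lt_or_ge p 41184 with h287 | h287
  · exact (Table.relOK_iff chkPaths 41041 143).mp Cfsg.Agent.Lib.Helper28.TCCo3L47.rel287 p (by omega) (by omega) _ hm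
  rcases Nat.lt_or_ge p 41327 with h288 | h288
  · exact (Table.relOK_iff chkPaths 41184 143).mp Cfsg.Agent.Lib.Helper28.TCCo3L48.rel288 p (by omega) (by omega) _ hm
  rcases Nat.lt_or_ge p 41470 with h289 | h289
  · exact (Table.relOK_iff chkPaths 41327 143).mp Cfsg.Agent.Lib.Helper28.TCCo3L48.rel289 p (by omega) (by omega) _ hm
  rcases Nat.lt_or_ge p 41613 with h290 | h290
  · exact (Table.relOK_iff chkPaths 41470 143).mp Cfsg.Agent.Lib.Helper28.TCCo3L48.rel290 p (by omega) (by omega) _ hm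
  rcases Nat.lt_or_ge p 41756 with h291 | h291
  · exact (Table.relOK_iff chkPaths 41613 143).mp Cfsg.Agent.Lib.Helper28.TCCo3L48.rel291 p (by omega) (by omega) _ hm
  rcases Nat.lt_or_ge p 41899 with h292 | h292
  · exact (Table.relOK_iff chkPaths 41756 143).mp Cfsg.Agent.Lib.Helper28.TCCo3L48.rel292 p (by omega) (by omega) _ hm
  rcases Nat.lt_or_ge p 42042 with h293 | h293
  · exact (Table.relOK_iff chkPaths 41899 143).mp Cfsg.Agent.Lib.Helper28.TCCo3L48.rel293 p (by omega) (by omega) _ hm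
  rcases Nat.lt_or_ge p 42185 with h294 | h294
  · exact (Table.relOK_iff chkPaths 42042 143).mp Cfsg.Agent.Lib.Helper28.TCCo3L49.rel294 p (by omega) (by omega) _ hm
  rcases Nat.lt_or_ge p 42328 with h295 | h295
  · exact (Table.relOK_iff chkPaths 42185 143).mp Cfsg.Agent.Lib.Helper28.TCCo3L49.rel295 p (by omega) (by omega) _ hm
  rcases Nat.lt_or_ge p 42471 with h296 | h296
  · exact (Table.relOK_iff chkPaths 42328 143).mp Cfsg.Agent.Lib.Helper28.TCCo3L49.rel296 p (by omega) (by omega) _ hm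
  rcases Nat.lt_or_ge p 42614 with h297 | h297
  · exact (Table.relOK_iff chkPaths 42471 143).mp Cfsg.Agent.Lib.Helper28.TCCo3L49.rel297 p (by omega) (by omega) _ hm
  rcases Nat.lt_or_ge p 42757 with h298 | h298
  · exact (Table.relOK_iff chkPaths 42614 143).mp Cfsg.Agent.Lib.Helper28.TCCo3L49.rel298 p (by omega) (by omega) _ hm
  rcases Nat.lt_or_ge p 42900 with h299 | h299
  · exact (Table.relOK_iff chkPaths 42757 143).mp Cfsg.Agent.Lib.Helper28.TCCo3L49.rel299 p (by omega) (by omega) _ hm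
  rcases Nat.lt_or_ge p 43043 with h300 | h300
  · exact (Table.relOK_iff chkPaths 42900 143).mp Cfsg.Agent.Lib.Helper28.TCCo3L50.rel300 p (by omega) (by omega) _ hm
  rcases Nat.lt_or_ge p 43186 with h301 | h301
  · exact (Table.relOK_iff chkPaths 43043 143).mp Cfsg.Agent.Lib.Helper28.TCCo3L50.rel301 p (by omega) (by omega) _ hm
  rcases Nat.lt_or_ge p 43329 with h302 | h302
  · exact (Table.relOK_iff chkPaths 43186 143).mp Cfsg.Agent.Lib.Helper28.TCCo3L50.rel302 p (by omega) (by omega) _ hm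
  rcases Nat.lt_or_ge p 43472 with h303 | h303
  · exact (Table.relOK_iff chkPaths 43329 143).mp Cfsg.Agent.Lib.Helper28.TCCo3L50.rel303 p (by omega) (by omega) _ hm
  rcases Nat.lt_or_ge p 43615 with h304 | h304
  · exact (Table.relOK_iff chkPaths 43472 143).mp Cfsg.Agent.Lib.Helper28.TCCo3L50.rel304 p (by omega) (by omega) _ hm
  rcases Nat.lt_or_ge p 43758 with h305 | h305
  · exact (Table.relOK_iff chkPaths 43615 143).mp Cfsg.Agent.Lib.Helper28.TCCo3L50.rel305 p (by omega) (by omega) _ hm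
  rcases Nat.lt_or_ge p 43901 with h306 | h306
  · exact (Table.relOK_iff chkPaths 43758 143).mp Cfsg.Agent.Lib.Helper28.TCCo3L51.rel306 p (by omega) (by omega) _ hm
  rcases Nat.lt_or_ge p 44044 with h307 | h307
  · exact (Table.relOK_iff chkPaths 43901 143).mp Cfsg.Agent.Lib.Helper28.TCCo3L51.rel307 p (by omega) (by omega) _ hm
  rcases Nat.lt_or_ge p 44187 with h308 | h308
  · exact (Table.relOK_iff chkPaths 44044 143).mp Cfsg.Agent.Lib.Helper28.TCCo3L51.rel308 p (by omega) (by omega) _ hm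
  rcases Nat.lt_or_ge p 44330 with h309 | h309
  · exact (Table.relOK_iff chkPaths 44187 143).mp Cfsg.Agent.Lib.Helper28.TCCo3L51.rel309 p (by omega) (by omega) _ hm
  rcases Nat.lt_or_ge p 44473 with h310 | h310
  · exact (Table.relOK_iff chkPaths 44330 143).mp Cfsg.Agent.Lib.Helper28.TCCo3L51.rel310 p (by omega) (by omega) _ hm
  rcases Nat.lt_or_ge p 44616 with h311 | h311
  · exact (Table.relOK_iff chkPaths 44473 143).mp Cfsg.Agent.Lib.Helper28.TCCo3L51.rel311 p (by omega) (by omega) _ hm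
  rcases Nat.lt_or_ge p 44759 with h312 | h312
  · exact (Table.relOK_iff chkPaths 44616 143).mp Cfsg.Agent.Lib.Helper28.TCCo3L52.rel312 p (by omega) (by omega) _ hm
  rcases Nat.lt_or_ge p 44902 with h313 | h313
  · exact (Table.relOK_iff chkPaths 44759 143).mp Cfsg.Agent.Lib.Helper28.TCCo3L52.rel313 p (by omega) (by omega) _ hm
  rcases Nat.lt_or_ge p 45045 with h314 | h314
  · exact (Table.relOK_iff chkPaths 44902 143).mp Cfsg.Agent.Lib.Helper28.TCCo3L52.rel314 p (by omega) (by omega) _ hm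
  rcases Nat.lt_or_ge p 45188 with h315 | h315
  · exact (Table.relOK_iff chkPaths 45045 143).mp Cfsg.Agent.Lib.Helper28.TCCo3L52.rel315 p (by omega) (by omega) _ hm
  rcases Nat.lt_or_ge p 45331 with h316 | h316
  · exact (Table.relOK_iff chkPaths 45188 143).mp Cfsg.Agent.Lib.Helper28.TCCo3L52.rel316 p (by omega) (by omega) _ hm
  rcases Nat.lt_or_ge p 45474 with h317 | h317
  · exact (Table.relOK_iff chkPaths 45331 143).mp Cfsg.Agent.Lib.Helper28.TCCo3L52.rel317 p (by omega) (by omega) _ hm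
  rcases Nat.lt_or_ge p 45617 with h318 | h318
  · exact (Table.relOK_iff chkPaths 45474 143).mp Cfsg.Agent.Lib.Helper28.TCCo3L53.rel318 p (by omega) (by omega) _ hm
  rcases Nat.lt_or_ge p 45760 with h319 | h319
  · exact (Table.relOK_iff chkPaths 45617 143).mp Cfsg.Agent.Lib.Helper28.TCCo3L53.rel319 p (by omega) (by omega) _ hm
  rcases Nat.lt_or_ge p 45903 with h320 | h320
  · exact (Table.relOK_iff chkPaths 45760 143).mp Cfsg.Agent.Lib.Helper28.TCCo3L53.rel320 p (by omega) (by omega) _ hm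
  rcases Nat.lt_or_ge p 46046 with h321 | h321
  · exact (Table.relOK_iff chkPaths 45903 143).mp Cfsg.Agent.Lib.Helper28.TCCo3L53.rel321 p (by omega) (by omega) _ hm
  rcases Nat.lt_or_ge p 46189 with h322 | h322
  · exact (Table.relOK_iff chkPaths 46046 143).mp Cfsg.Agent.Lib.Helper28.TCCo3L53.rel322 p (by omega) (by omega) _ hm
  rcases Nat.lt_or_ge p 46332 with h323 | h323
  · exact (Table.relOK_iff chkPaths 46189 143).mp Cfsg.Agent.Lib.Helper28.TCCo3L53.rel323 p (by omega) (by omega) _ hm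
  rcases Nat.lt_or_ge p 46475 with h324 | h324
  · exact (Table.relOK_iff chkPaths 46332 143).mp Cfsg.Agent.Lib.Helper28.TCCo3L54.rel324 p (by omega) (by omega) _ hm
  rcases Nat.lt_or_ge p 46618 with h325 | h325
  · exact (Table.relOK_iff chkPaths 46475 143).mp Cfsg.Agent.Lib.Helper28.TCCo3L54.rel325 p (by omega) (by omega) _ hm
  rcases Nat.lt_or_ge p 46761 with h326 | h326
  · exact (Table.relOK_iff chkPaths 46618 143).mp Cfsg.Agent.Lib.Helper28.TCCo3L54.rel326 p (by omega) (by omega) _ hm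
  rcases Nat.lt_or_ge p 46904 with h327 | h327
  · exact (Table.relOK_iff chkPaths 46761 143).mp Cfsg.Agent.Lib.Helper28.TCCo3L54.rel327 p (by omega) (by omega) _ hm
  rcases Nat.lt_or_ge p 47047 with h328 | h328
  · exact (Table.relOK_iff chkPaths 46904 143).mp Cfsg.Agent.Lib.Helper28.TCCo3L54.rel328 p (by omega) (by omega) _ hm
  rcases Nat.lt_or_ge p 47190 with h329 | h329
  · exact (Table.relOK_iff chkPaths 47047 143).mp Cfsg.Agent.Lib.Helper28.TCCo3L54.rel329 p (by omega) (by omega) _ hm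
  rcases Nat.lt_or_ge p 47333 with h330 | h330
  · exact (Table.relOK_iff chkPaths 47190 143).mp Cfsg.Agent.Lib.Helper28.TCCo3L55.rel330 p (by omega) (by omega) _ hm
  rcases Nat.lt_or_ge p 47476 with h331 | h331
  · exact (Table.relOK_iff chkPaths 47333 143).mp Cfsg.Agent.Lib.Helper28.TCCo3L55.rel331 p (by omega) (by omega) _ hm
  rcases Nat.lt_or_ge p 47619 with h332 | h332
  · exact (Table.relOK_iff chkPaths 47476 143).mp Cfsg.Agent.Lib.Helper28.TCCo3L55.rel332 p (by omega) (by omega) _ hm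
  rcases Nat.lt_or_ge p 47762 with h333 | h333
  · exact (Table.relOK_iff chkPaths 47619 143).mp Cfsg.Agent.Lib.Helper28.TCCo3L55.rel333 p (by omega) (by omega) _ hm
  rcases Nat.lt_or_ge p 47905 with h334 | h334
  · exact (Table.relOK_iff chkPaths 47762 143).mp Cfsg.Agent.Lib.Helper28.TCCo3L55.rel334 p (by omega) (by omega) _ hm
  rcases Nat.lt_or_ge p 48048 with h335 | h335
  · exact (Table.relOK_iff chkPaths 47905 143).mp Cfsg.Agent.Lib.Helper28.TCCo3L55.rel335 p (by omega) (by omega) _ hm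
  rcases Nat.lt_or_ge p 48191 with h336 | h336
  · exact (Table.relOK_iff chkPaths 48048 143).mp Cfsg.Agent.Lib.Helper28.TCCo3L56.rel336 p (by omega) (by omega) _ hm
  rcases Nat.lt_or_ge p 48334 with h337 | h337
  · exact (Table.relOK_iff chkPaths 48191 143).mp Cfsg.Agent.Lib.Helper28.TCCo3L56.rel337 p (by omega) (by omega) _ hm
  rcases Nat.lt_or_ge p 48477 with h338 | h338
  · exact (Table.relOK_iff chkPaths 48334 143).mp Cfsg.Agent.Lib.Helper28.TCCo3L56.rel338 p (by omega) (by omega) _ hm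
  exact (Table.relOK_iff chkPaths 48477 123).mp Cfsg.Agent.Lib.Helper28.TCCo3L56.rel339 p (by omega) (by omega) _ hm

theorem hrelT : ∀ L ∈ relWords, ∀ p, p < table.n → table.walkT (pathOf lw L) p = p :=
  fun L hL => Table.fix_of_covered hT chkPaths hchkT _ (hcov _ (hrelmem L hL)).1 (hcov _ (hrelmem L hL)).2

theorem hsubT : ∀ L ∈ subWords, table.walkT (pathOf lw L) 0 = 0 :=
  fun L hL => (Table.subOK_iff subPaths).mp hsub0 _ (hsubmem L hL)

theorem hn : 0 < table.n := by decide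

theorem main : ((Subgroup.closure S).map (PresentedGroup.mk rels)).index = table.n ∧
    ∃ φ : PresentedGroup rels →* Equiv.Perm (Fin table.n),
      (∀ x, φ (PresentedGroup.of x) = Table.sigma hT (lw (x, true))) ∧
      ∃ f : PresentedGroup rels ⧸ (Subgroup.closure S).map (PresentedGroup.mk rels) → Fin table.n,
        Function.Bijective f ∧ (∀ g q, f (g • q) = φ g (f q)) ∧ f (QuotientGroup.mk 1) = ⟨0, hn⟩ :=
  index_eq link hchk hfin hcount hT hn hrelT hsubT htree

end Cfsg.Agent.Lib.Helper28.TCCo3Main
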