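import Cfsg.Agent.Lib.Helper28.TC2Upper
import Cfsg.Agent.Lib.Helper28.TCF23NW0DataC0
import Cfsg.Agent.Lib.Helper28.TCF23NW0DataC1
import Cfsg.Agent.Lib.Helper28.TCF23NW0DataC2
import Cfsg.Agent.Lib.Helper28.TCF23NW0DataC3
import Cfsg.Agent.Lib.Helper28.TCF23NW0DataC4
import Cfsg.Agent.Lib.Helper28.TCF23NW0DataC5
import Cfsg.Agent.Lib.Helper28.TCF23NW0DataC6
import Cfsg.Agent.Lib.Helper28.TCF23NW0DataC7
import Cfsg.Agent.Lib.Helper28.TCF23NW0DataC8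
import Cfsg.Agent.Lib.Helper28.TCF23NW0DataC9
import Cfsg.Agent.Lib.Helper28.TCF23NW0DataC10
import Cfsg.Agent.Lib.Helper28.TCF23NW0DataC11
import Cfsg.Agent.Lib.Helper28.TCF23NW0DataC12
import Cfsg.Agent.Lib.Helper28.TCF23NW0DataC13
import Cfsg.Agent.Lib.Helper28.TCF23NW0DataC14
import Cfsg.Agent.Lib.Helper28.TCF23NW0DataC15
set_option autoImplicit false
set_option maxRecDepth 100000

namespace Cfsg.Agent.Lib.Helper28.TCF23NW0Data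
open Cfsg.Agent.Lib.Helper28.TC2Upper

/-- relators -/
def relT : BT (ℕ × List ℕ × List ℕ) := (BT.node 50 (BT.node 25 (BT.node 12 (BT.node 6 (BT.node 3 (BT.node 1 (BT.node 0 (BT.leaf (2, [0, 0], [0, 0])) (BT.leaf (6, [1, 0, 1, 0, 1, 0], [0, 1, 0, 1, 0, 1]))) (BT.node 2 (BT.leaf (4, [2, 0, 2, 0], [0, 2, 0, 2])) (BT.leaf (4, [3, 0, 3, 0], [0, 3, 0, 3])))) (BT.node 5 (BT.node 4 (BT.leaf (4, [4, 0, 4, 0], [0, 4, 0, 4])) (BT.leaf (4, [5, 0, 5, 0], [0, 5, 0, 5]))) (BT.leaf (4, [6, 0, 6, 0], [0, 6, 0, 6])))) (BT.node 9 (BT.node 8 (BT.node 7 (BT.leaf (4, [8, 0, 8, 0], [0, 8, 0, 8])) (BT.leaf (4, [7, 0, 7, 0], [0, 7, 0, 7]))) (BT.leaf (4, [9, 0, 9, 0], [0, 9, 0, 9]))) (BT.node 11 (BT.node 10 (BT.leaf (6, [0, 1, 0, 1, 0, 1], [1, 0, 1, 0, 1, 0])) (BT.leaf (2, [1, 1], [1, 1]))) (BT.leaf (6, [2, 1, 2, 1, 2, 1], [1, 2, 1, 2, 1, 2]))))) (BT.node 19 (BT.node 16 (BT.node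 14 (BT.node 13 (BT.leaf (4, [3, 1, 3, 1], [1, 3, 1, 3])) (BT.leaf (4, [4, 1, 4, 1], [1, 4, 1, 4]))) (BT.node 15 (BT.leaf (4, [5, 1, 5, 1], [1, 5, 1, 5])) (BT.leaf (4, [6, 1, 6, 1], [1, 6, 1, 6])))) (BT.node 18 (BT.node 17 (BT.leaf (4, [8, 1, 8, 1], [1, 8, 1, 8])) (BT.leaf (4, [7, 1, 7, 1], [1, 7, 1, 7]))) (BT.leaf (4, [9, 1, 9, 1], [1, 9, 1, 9])))) (BT.node 22 (BT.node 21 (BT.node 20 (BT.leaf (4, [0, 2, 0, 2], [2, 0, 2, 0])) (BT.leaf (6, [1, 2, 1, 2, 1, 2], [2, 1, 2, 1, 2, 1]))) (BT.leaf (2, [2, 2], [2, 2]))) (BT.node 24 (BT.node 23 (BT.leaf (6, [3, 2, 3, 2, 3, 2], [2, 3, 2, 3, 2, 3])) (BT.leaf (4, [4, 2, 4, 2], [2, 4, 2, 4]))) (BT.leaf (4, [5, 2, 5, 2], [2, 5, 2, 5])))))) (BT.node 38 (BT.node 32 (BT.node 29 (BT.node 27 (BT.node 26 (BT.leaf (4, [6, 2, 6, 2], [2, 6, 2, 6])) (BT.leaf (4, [8, 2, 8, 2], [2, 8, 2, 8]))) (BT.node 28 (BT.leaf (4, [7, 2, 7, 2], [2,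 7, 2, 7])) (BT.leaf (4, [9, 2, 9, 2], [2, 9, 2, 9])))) (BT.node 31 (BT.node 30 (BT.leaf (4, [0, 3, 0, 3], [3, 0, 3, 0])) (BT.leaf (4, [1, 3, 1, 3], [3, 1, 3, 1]))) (BT.leaf (6, [2, 3, 2, 3, 2, 3], [3, 2, 3, 2, 3, 2])))) (BT.node 35 (BT.node 34 (BT.node 33 (BT.leaf (2, [3, 3], [3, 3])) (BT.leaf (6, [4, 3, 4, 3, 4, 3], [3, 4, 3, 4, 3, 4]))) (BT.leaf (4, [5, 3, 5, 3], [3, 5, 3, 5]))) (BT.node 37 (BT.node 36 (BT.leaf (4, [6, 3, 6, 3], [3, 6, 3, 6])) (BT.leaf (6, [8, 3, 8, 3, 8, 3], [3, 8, 3, 8, 3, 8]))) (BT.leaf (4, [7, 3, 7, 3], [3, 7, 3, 7]))))) (BT.node 44 (BT.node 41 (BT.node 40 (BT.node 39 (BT.leaf (4, [9, 3, 9, 3], [3, 9, 3, 9])) (BT.leaf (4, [0, 4, 0, 4], [4, 0, 4, 0]))) (BT.leaf (4, [1, 4, 1, 4], [4, 1, 4, 1]))) (BT.node 43 (BT.node 42 (BT.leaf (4, [2, 4, 2, 4], [4, 2, 4, 2])) (BT.leaf (6, [3, 4, 3, 4, 3, 4], [4, 3, 4, 3, 4, 3]))) (BT.leaf (2, [4, 4],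 [4, 4])))) (BT.node 47 (BT.node 46 (BT.node 45 (BT.leaf (6, [5, 4, 5, 4, 5, 4], [4, 5, 4, 5, 4, 5])) (BT.leaf (4, [6, 4, 6, 4], [4, 6, 4, 6]))) (BT.leaf (4, [8, 4, 8, 4], [4, 8, 4, 8]))) (BT.node 49 (BT.node 48 (BT.leaf (4, [7, 4, 7, 4], [4, 7, 4, 7])) (BT.leaf (4, [9, 4, 9, 4], [4, 9, 4, 9]))) (BT.leaf (4, [0, 5, 0, 5], [5, 0, 5, 0]))))))) (BT.node 75 (BT.node 63 (BT.node 57 (BT.node 54 (BT.node 52 (BT.node 51 (BT.leaf (4, [1, 5, 1, 5], [5, 1, 5, 1])) (BT.leaf (4, [2, 5, 2, 5], [5, 2, 5, 2]))) (BT.node 53 (BT.leaf (4, [3, 5, 3, 5], [5, 3, 5, 3])) (BT.leaf (6, [4, 5, 4, 5, 4, 5], [5, 4, 5, 4, 5, 4])))) (BT.node 56 (BT.node 55 (BT.leaf (2, [5, 5], [5, 5])) (BT.leaf (6, [6, 5, 6, 5, 6, 5], [5, 6, 5, 6, 5, 6]))) (BT.leaf (4, [8, 5, 8, 5], [5, 8, 5, 8])))) (BT.node 60 (BT.node 59 (BT.node 58 (BT.leaf (4, [7, 5, 7, 5], [5, 7, 5, 7])) (BT.leaf (4, [9, 5, 9, 5],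 [5, 9, 5, 9]))) (BT.leaf (4, [0, 6, 0, 6], [6, 0, 6, 0]))) (BT.node 62 (BT.node 61 (BT.leaf (4, [1, 6, 1, 6], [6, 1, 6, 1])) (BT.leaf (4, [2, 6, 2, 6], [6, 2, 6, 2]))) (BT.leaf (4, [3, 6, 3, 6], [6, 3, 6, 3]))))) (BT.node 69 (BT.node 66 (BT.node 65 (BT.node 64 (BT.leaf (4, [4, 6, 4, 6], [6, 4, 6, 4])) (BT.leaf (6, [5, 6, 5, 6, 5, 6], [6, 5, 6, 5, 6, 5]))) (BT.leaf (2, [6, 6], [6, 6]))) (BT.node 68 (BT.node 67 (BT.leaf (4, [8, 6, 8, 6], [6, 8, 6, 8])) (BT.leaf (6, [7, 6, 7, 6, 7, 6], [6, 7, 6, 7, 6, 7]))) (BT.leaf (4, [9, 6, 9, 6], [6, 9, 6, 9])))) (BT.node 72 (BT.node 71 (BT.node 70 (BT.leaf (4, [0, 8, 0, 8], [8, 0, 8, 0])) (BT.leaf (4, [1, 8, 1, 8], [8, 1, 8, 1]))) (BT.leaf (4, [2, 8, 2, 8], [8, 2, 8, 2]))) (BT.node 74 (BT.node 73 (BT.leaf (6, [3, 8, 3, 8, 3, 8], [8, 3, 8, 3, 8, 3])) (BT.leaf (4, [4, 8, 4, 8], [8, 4, 8, 4]))) (BT.leaf (4, [5, 8, 5, 8], [8,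 5, 8, 5])))))) (BT.node 88 (BT.node 82 (BT.node 79 (BT.node 77 (BT.node 76 (BT.leaf (4, [6, 8, 6, 8], [8, 6, 8, 6])) (BT.leaf (2, [8, 8], [8, 8]))) (BT.node 78 (BT.leaf (4, [7, 8, 7, 8], [8, 7, 8, 7])) (BT.leaf (6, [9, 8, 9, 8, 9, 8], [8, 9, 8, 9, 8, 9])))) (BT.node 81 (BT.node 80 (BT.leaf (4, [0, 7, 0, 7], [7, 0, 7, 0])) (BT.leaf (4, [1, 7, 1, 7], [7, 1, 7, 1]))) (BT.leaf (4, [2, 7, 2, 7], [7, 2, 7, 2])))) (BT.node 85 (BT.node 84 (BT.node 83 (BT.leaf (4, [3, 7, 3, 7], [7, 3, 7, 3])) (BT.leaf (4, [4, 7, 4, 7], [7, 4, 7, 4]))) (BT.leaf (4, [5, 7, 5, 7], [7, 5, 7, 5]))) (BT.node 87 (BT.node 86 (BT.leaf (6, [6, 7, 6, 7, 6, 7], [7, 6, 7, 6, 7, 6])) (BT.leaf (4, [8, 7, 8, 7], [7, 8, 7, 8]))) (BT.leaf (2, [7, 7], [7, 7]))))) (BT.node 94 (BT.node 91 (BT.node 90 (BT.node 89 (BT.leaf (4, [9, 7, 9, 7], [7, 9, 7, 9])) (BT.leaf (4, [0, 9, 0, 9], [9, 0, 9, 0]))) (BT.leaf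 (4, [1, 9, 1, 9], [9, 1, 9, 1]))) (BT.node 93 (BT.node 92 (BT.leaf (4, [2, 9, 2, 9], [9, 2, 9, 2])) (BT.leaf (4, [3, 9, 3, 9], [9, 3, 9, 3]))) (BT.leaf (4, [4, 9, 4, 9], [9, 4, 9, 4])))) (BT.node 97 (BT.node 96 (BT.node 95 (BT.leaf (4, [5, 9, 5, 9], [9, 5, 9, 5])) (BT.leaf (4, [6, 9, 6, 9], [9, 6, 9, 6]))) (BT.leaf (6, [8, 9, 8, 9, 8, 9], [9, 8, 9, 8, 9, 8]))) (BT.node 99 (BT.node 98 (BT.leaf (4, [7, 9, 7, 9], [9, 7, 9, 7])) (BT.leaf (2, [9, 9], [9, 9]))) (BT.leaf (63, [8, 5, 4, 3, 2, 1, 0, 8, 5, 4, 3, 2, 1, 0, 8, 5, 4, 3, 2, 1, 0, 8, 5, 4, 3, 2, 1, 0, 8, 5, 4, 3, 2, 1, 0, 8, 5, 4, 3, 2, 1, 0, 8, 5, 4, 3, 2, 1, 0, 8, 5, 4, 3, 2, 1, 0, 8, 5, 4, 3, 2, 1, 0], [0, 1, 2, 3, 4, 5, 8, 0, 1, 2, 3, 4, 5, 8, 0, 1, 2, 3, 4, 5, 8, 0, 1, 2, 3, 4, 5, 8, 0, 1, 2, 3, 4, 5, 8, 0, 1, 2, 3, 4, 5, 8, 0, 1, 2, 3, 4, 5, 8, 0, 1, 2, 3, 4, 5, 8, 0, 1, 2, 3, 4, 5, 8]))))))))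
/-- subgroup generators -/
def subT : BT (ℕ × List ℕ × List ℕ) := (BT.node 4 (BT.node 2 (BT.node 1 (BT.node 0 (BT.leaf (1, [0], [0])) (BT.leaf (1, [1], [1]))) (BT.leaf (1, [2], [2]))) (BT.node 3 (BT.leaf (1, [3], [3])) (BT.leaf (1, [4], [4])))) (BT.node 6 (BT.node 5 (BT.leaf (1, [5], [5])) (BT.leaf (1, [6], [6]))) (BT.node 7 (BT.leaf (1, [8], [8])) (BT.leaf (1, [9], [9])))))
/-- fact chunks -/
def colET : BT ℕ := (BT.node 3371 (BT.node 1685 (BT.node 842 (BT.node 421 (BT.node 210 (BT.node 105 (BT.node 52 (BT.node 26 (BT.node 13 (BT.node 6 (BT.node 3 (BT.node 1 (BT.node 0 (BT.leaf cE0) (BT.leaf cE1)) (BT.node 2 (BT.leaf cE2) (BT.leaf cE3))) (BT.node 5 (BT.node 4 (BT.leaf cE4) (BT.leaf cE5)) (BT.leaf cE6))) (BT.node 10 (BT.node 8 (BT.node 7 (BT.leaf cE7) (BT.leaf cE8)) (BT.node 9 (BT.leaf cE9) (BT.leaf cE10))) (BT.node 12 (BT.node 11 (BT.leaf cE11) (BT.leaf cE12)) (BT.leaf cE13)))) (BT.node 20 (BT.node 17 (BT.node 15 (BT.node 14 (BT.leaf cE14) (BT.leaf cE15)) (BT.node 16 (BT.leaf cE16) (BT.leaf cE17))) (BT.node 19 (BT.node 18 (BT.leaf cE18) (BT.leaf cE19)) (BT.leaf cE20))) (BT.node 23 (BT.node 22 (BT.node 21 (BT.leaf cE21) (BT.leaf cE22)) (BT.leaf cE23)) (BT.node 25 (BT.node 24 (BT.leaf cE24) (BT.leaf cE25)) (BT.leaf cE26))))) (BT.node 39 (BT.node 33 (BT.node 30 (BT.node 28 (BT.node 27 (BT.leaf cE27) (BT.leaf cE28)) (BT.node 29 (BT.leaf cE29) (BT.leaf cE30))) (BT.node 32 (BT.node 31 (BT.leaf cE31) (BT.leaf cE32)) (BT.leaf cE33))) (BT.node 36 (BT.node 35 (BT.node 34 (BT.leaf cE34) (BT.leaf cE35)) (BT.leaf cE36)) (BT.node 38 (BT.node 37 (BT.leaf cE37) (BT.leaf cE38)) (BT.leaf cE39)))) (BT.node 46 (BT.node 43 (BT.node 41 (BT.node 40 (BT.leaf cE40) (BT.leaf cE41)) (BT.node 42 (BT.leaf cE42) (BT.leaf cE43))) (BT.node 45 (BT.node 44 (BT.leaf cE44) (BT.leaf cE45)) (BT.leaf cE46))) (BT.node 49 (BT.node 48 (BT.node 47 (BT.leaf cE47) (BT.leaf cE48)) (BT.leaf cE49)) (BT.node 51 (BT.node 50 (BT.leaf cE50) (BT.leaf cE51)) (BT.leaf cE52)))))) (BT.node 79 (BT.node 66 (BT.node 59 (BT.node 56 (BT.node 54 (BT.node 53 (BT.leaf cE53) (BT.leaf cE54)) (BT.node 55 (BT.leaf cE55) (BT.leaf cE56))) (BT.node 58 (BT.node 57 (BT.leaf cE57) (BT.leaf cE58)) (BT.leaf cE59))) (BT.node 63 (BT.node 61 (BT.node 60 (BT.leaf cE60) (BT.leaf cE61)) (BT.node 62 (BT.leaf cE62) (BT.leaf cE63))) (BT.node 65 (BT.node 64 (BT.leaf cE64) (BT.leaf cE65)) (BT.leaf cE66)))) (BT.node 73 (BT.node 70 (BT.node 68 (BT.node 67 (BT.leaf cE67) (BT.leaf cE68)) (BT.node 69 (BT.leaf cE69) (BT.leaf cE70))) (BT.node 72 (BT.node 71 (BT.leaf cE71) (BT.leaf cE72)) (BT.leaf cE73))) (BT.node 76 (BT.node 75 (BT.node 74 (BT.leaf cE74) (BT.leaf cE75)) (BT.leaf cE76)) (BT.node 78 (BT.node 77 (BT.leaf cE77) (BT.leaf cE78)) (BT.leaf cE79))))) (BT.node 92 (BT.node 86 (BT.node 83 (BT.node 81 (BT.node 80 (BT.leaf cE80) (BT.leaf cE81)) (BT.node 82 (BT.leaf cE82) (BT.leaf cE83))) (BT.node 85 (BT.node 84 (BT.leaf cE84) (BT.leaf cE85)) (BT.leaf cE86))) (BT.node 89 (BT.node 88 (BT.node 87 (BT.leaf cE87) (BT.leaf cE88)) (BT.leaf cE89)) (BT.node 91 (BT.node 90 (BT.leaf cE90) (BT.leaf cE91)) (BT.leaf cE92)))) (BT.node 99 (BT.node 96 (BT.node 94 (BT.node 93 (BT.leaf cE93) (BT.leaf cE94)) (BT.node 95 (BT.leaf cE95) (BT.leaf cE96))) (BT.node 98 (BT.node 97 (BT.leaf cE97) (BT.leaf cE98)) (BT.leaf cE99))) (BT.node 102 (BT.node 101 (BT.node 100 (BT.leaf cE100) (BT.leaf cE101)) (BT.leaf cE102)) (BT.node 104 (BT.node 103 (BT.leaf cE103) (BT.leaf cE104)) (BT.leaf cE105))))))) (BT.node 158 (BT.node 132 (BT.node 119 (BT.node 112 (BT.node 109 (BT.node 107 (BT.node 106 (BT.leaf cE106) (BT.leaf cE107)) (BT.node 108 (BT.leaf cE108) (BT.leaf cE109))) (BT.node 111 (BT.node 110 (BT.leaf cE110) (BT.leaf cE111)) (BT.leaf cE112))) (BT.node 116 (BT.node 114 (BT.node 113 (BT.leaf cE113) (BT.leaf cE114)) (BT.node 115 (BT.leaf cE115) (BT.leaf cE116))) (BT.node 118 (BT.node 117 (BT.leaf cE117) (BT.leaf cE118)) (BT.leaf cE119)))) (BT.node 126 (BT.node 123 (BT.node 121 (BT.node 120 (BT.leaf cE120) (BT.leaf cE121)) (BT.node 122 (BT.leaf cE122) (BT.leaf cE123))) (BT.node 125 (BT.node 124 (BT.leaf cE124) (BT.leaf cE125)) (BT.leaf cE126))) (BT.node 129 (BT.node 128 (BT.node 127 (BT.leaf cE127) (BT.leaf cE128)) (BT.leaf cE129)) (BT.node 131 (BT.node 130 (BT.leaf cE130) (BT.leaf cE131)) (BT.leaf cE132))))) (BT.node 145 (BT.node 139 (BT.node 136 (BT.node 134 (BT.node 133 (BT.leaf cE133) (BT.leaf cE134)) (BT.node 135 (BT.leaf cE135) (BT.leaf cE136))) (BT.node 138 (BT.node 137 (BT.leaf cE137) (BT.leaf cE138)) (BT.leaf cE139))) (BT.node 142 (BT.node 141 (BT.node 140 (BT.leaf cE140) (BT.leaf cE141)) (BT.leaf cE142)) (BT.node 144 (BT.node 143 (BT.leaf cE143) (BT.leaf cE144)) (BT.leaf cE145)))) (BT.node 152 (BT.node 149 (BT.node 147 (BT.node 146 (BT.leaf cE146) (BT.leaf cE147)) (BT.node 148 (BT.leaf cE148) (BT.leaf cE149))) (BT.node 151 (BT.node 150 (BT.leaf cE150) (BT.leaf cE151)) (BT.leaf cE152))) (BT.node 155 (BT.node 154 (BT.node 153 (BT.leaf cE153) (BT.leaf cE154)) (BT.leaf cE155)) (BT.node 157 (BT.node 156 (BT.leaf cE156) (BT.leaf cE157)) (BT.leaf cE158)))))) (BT.node 184 (BT.node 171 (BT.node 165 (BT.node 162 (BT.node 160 (BT.node 159 (BT.leaf cE159) (BT.leaf cE160)) (BT.node 161 (BT.leaf cE161) (BT.leaf cE162))) (BT.node 164 (BT.node 163 (BT.leaf cE163) (BT.leaf cE164)) (BT.leaf cE165))) (BT.node 168 (BT.node 167 (BT.node 166 (BT.leaf cE166) (BT.leaf cE167)) (BT.leaf cE168)) (BT.node 170 (BT.node 169 (BT.leaf cE169) (BT.leaf cE170)) (BT.leaf cE171)))) (BT.node 178 (BT.node 175 (BT.node 173 (BT.node 172 (BT.leaf cE172) (BT.leaf cE173)) (BT.node 174 (BT.leaf cE174) (BT.leaf cE175))) (BT.node 177 (BT.node 176 (BT.leaf cE176) (BT.leaf cE177)) (BT.leaf cE178))) (BT.node 181 (BT.node 180 (BT.node 179 (BT.leaf cE179) (BT.leaf cE180)) (BT.leaf cE181)) (BT.node 183 (BT.node 182 (BT.leaf cE182) (BT.leaf cE183)) (BT.leaf cE184))))) (BT.node 197 (BT.node 191 (BT.node 188 (BT.node 186 (BT.node 185 (BT.leaf cE185) (BT.leaf cE186)) (BT.node 187 (BT.leaf cE187) (BT.leaf cE188))) (BT.node 190 (BT.node 189 (BT.leaf cE189) (BT.leaf cE190)) (BT.leaf cE191))) (BT.node 194 (BT.node 193 (BT.node 192 (BT.leaf cE192) (BT.leaf cE193)) (BT.leaf cE194)) (BT.node 196 (BT.node 195 (BT.leaf cE195) (BT.leaf cE196)) (BT.leaf cE197)))) (BT.node 204 (BT.node 201 (BT.node 199 (BT.node 198 (BT.leaf cE198) (BT.leaf cE199)) (BT.node 200 (BT.leaf cE200) (BT.leaf cE201))) (BT.node 203 (BT.node 202 (BT.leaf cE202) (BT.leaf cE203)) (BT.leaf cE204))) (BT.node 207 (BT.node 206 (BT.node 205 (BT.leaf cE205) (BT.leaf cE206)) (BT.leaf cE207)) (BT.node 209 (BT.node 208 (BT.leaf cE208) (BT.leaf cE209)) (BT.leaf cE210)))))))) (BT.node 316 (BT.node 263 (BT.node 237 (BT.node 224 (BT.node 217 (BT.node 214 (BT.node 212 (BT.node 211 (BT.leaf cE211) (BT.leaf cE212)) (BT.node 213 (BT.leaf cE213) (BT.leaf cE214))) (BT.node 216 (BT.node 215 (BT.leaf cE215) (BT.leaf cE216)) (BT.leaf cE217))) (BT.node 221 (BT.node 219 (BT.node 218 (BT.leaf cE218) (BT.leaf cE219)) (BT.node 220 (BT.leaf cE220) (BT.leaf cE221))) (BT.node 223 (BT.node 222 (BT.leaf cE222) (BT.leaf cE223)) (BT.leaf cE224)))) (BT.node 231 (BT.node 228 (BT.node 226 (BT.node 225 (BT.leaf cE225) (BT.leaf cE226)) (BT.node 227 (BT.leaf cE227) (BT.leaf cE228))) (BT.node 230 (BT.node 229 (BT.leaf cE229) (BT.leaf cE230)) (BT.leaf cE231))) (BT.node 234 (BT.node 233 (BT.node 232 (BT.leaf cE232) (BT.leaf cE233)) (BT.leaf cE234)) (BT.node 236 (BT.node 235 (BT.leaf cE235) (BT.leaf cE236)) (BT.leaf cE237))))) (BT.node 250 (BT.node 244 (BT.node 241 (BT.node 239 (BT.node 238 (BT.leaf cE238) (BT.leaf cE239)) (BT.node 240 (BT.leaf cE240) (BT.leaf cE241))) (BT.node 243 (BT.node 242 (BT.leaf cE242) (BT.leaf cE243)) (BT.leaf cE244))) (BT.node 247 (BT.node 246 (BT.node 245 (BT.leaf cE245) (BT.leaf cE246)) (BT.leaf cE247)) (BT.node 249 (BT.node 248 (BT.leaf cE248) (BT.leaf cE249)) (BT.leaf cE250)))) (BT.node 257 (BT.node 254 (BT.node 252 (BT.node 251 (BT.leaf cE251) (BT.leaf cE252)) (BT.node 253 (BT.leaf cE253) (BT.leaf cE254))) (BT.node 256 (BT.node 255 (BT.leaf cE255) (BT.leaf cE256)) (BT.leaf cE257))) (BT.node 260 (BT.node 259 (BT.node 258 (BT.leaf cE258) (BT.leaf cE259)) (BT.leaf cE260)) (BT.node 262 (BT.node 261 (BT.leaf cE261) (BT.leaf cE262)) (BT.leaf cE263)))))) (BT.node 290 (BT.node 277 (BT.node 270 (BT.node 267 (BT.node 265 (BT.node 264 (BT.leaf cE264) (BT.leaf cE265)) (BT.node 266 (BT.leaf cE266) (BT.leaf cE267))) (BT.node 269 (BT.node 268 (BT.leaf cE268) (BT.leaf cE269)) (BT.leaf cE270))) (BT.node 274 (BT.node 272 (BT.node 271 (BT.leaf cE271) (BT.leaf cE272)) (BT.node 273 (BT.leaf cE273) (BT.leaf cE274))) (BT.node 276 (BT.node 275 (BT.leaf cE275) (BT.leaf cE276)) (BT.leaf cE277)))) (BT.node 284 (BT.node 281 (BT.node 279 (BT.node 278 (BT.leaf cE278) (BT.leaf cE279)) (BT.node 280 (BT.leaf cE280) (BT.leaf cE281))) (BT.node 283 (BT.node 282 (BT.leaf cE282) (BT.leaf cE283)) (BT.leaf cE284))) (BT.node 287 (BT.node 286 (BT.node 285 (BT.leaf cE285) (BT.leaf cE286)) (BT.leaf cE287)) (BT.node 289 (BT.node 288 (BT.leaf cE288) (BT.leaf cE289)) (BT.leaf cE290))))) (BT.node 303 (BT.node 297 (BT.node 294 (BT.node 292 (BT.node 291 (BT.leaf cE291) (BT.leaf cE292)) (BT.node 293 (BT.leaf cE293) (BT.leaf cE294))) (BT.node 296 (BT.node 295 (BT.leaf cE295) (BT.leaf cE296)) (BT.leaf cE297))) (BT.node 300 (BT.node 299 (BT.node 298 (BT.leaf cE298) (BT.leaf cE299)) (BT.leaf cE300)) (BT.node 302 (BT.node 301 (BT.leaf cE301) (BT.leaf cE302)) (BT.leaf cE303)))) (BT.node 310 (BT.node 307 (BT.node 305 (BT.node 304 (BT.leaf cE304) (BT.leaf cE305)) (BT.node 306 (BT.leaf cE306) (BT.leaf cE307))) (BT.node 309 (BT.node 308 (BT.leaf cE308) (BT.leaf cE309)) (BT.leaf cE310))) (BT.node 313 (BT.node 312 (BT.node 311 (BT.leaf cE311) (BT.leaf cE312)) (BT.leaf cE313)) (BT.node 315 (BT.node 314 (BT.leaf cE314) (BT.leaf cE315)) (BT.leaf cE316))))))) (BT.node 369 (BT.node 343 (BT.node 330 (BT.node 323 (BT.node 320 (BT.node 318 (BT.node 317 (BT.leaf cE317) (BT.leaf cE318)) (BT.node 319 (BT.leaf cE319) (BT.leaf cE320))) (BT.node 322 (BT.node 321 (BT.leaf cE321) (BT.leaf cE322)) (BT.leaf cE323))) (BT.node 327 (BT.node 325 (BT.node 324 (BT.leaf cE324) (BT.leaf cE325)) (BT.node 326 (BT.leaf cE326) (BT.leaf cE327))) (BT.node 329 (BT.node 328 (BT.leaf cE328) (BT.leaf cE329)) (BT.leaf cE330)))) (BT.node 337 (BT.node 334 (BT.node 332 (BT.node 331 (BT.leaf cE331) (BT.leaf cE332)) (BT.node 333 (BT.leaf cE333) (BT.leaf cE334))) (BT.node 336 (BT.node 335 (BT.leaf cE335) (BT.leaf cE336)) (BT.leaf cE337))) (BT.node 340 (BT.node 339 (BT.node 338 (BT.leaf cE338) (BT.leaf cE339)) (BT.leaf cE340)) (BT.node 342 (BT.node 341 (BT.leaf cE341) (BT.leaf cE342)) (BT.leaf cE343))))) (BT.node 356 (BT.node 350 (BT.node 347 (BT.node 345 (BT.node 344 (BT.leaf cE344) (BT.leaf cE345)) (BT.node 346 (BT.leaf cE346) (BT.leaf cE347))) (BT.node 349 (BT.node 348 (BT.leaf cE348) (BT.leaf cE349)) (BT.leaf cE350))) (BT.node 353 (BT.node 352 (BT.node 351 (BT.leaf cE351) (BT.leaf cE352)) (BT.leaf cE353)) (BT.node 355 (BT.node 354 (BT.leaf cE354) (BT.leaf cE355)) (BT.leaf cE356)))) (BT.node 363 (BT.node 360 (BT.node 358 (BT.node 357 (BT.leaf cE357) (BT.leaf cE358)) (BT.node 359 (BT.leaf cE359) (BT.leaf cE360))) (BT.node 362 (BT.node 361 (BT.leaf cE361) (BT.leaf cE362)) (BT.leaf cE363))) (BT.node 366 (BT.node 365 (BT.node 364 (BT.leaf cE364) (BT.leaf cE365)) (BT.leaf cE366)) (BT.node 368 (BT.node 367 (BT.leaf cE367) (BT.leaf cE368)) (BT.leaf cE369)))))) (BT.node 395 (BT.node 382 (BT.node 376 (BT.node 373 (BT.node 371 (BT.node 370 (BT.leaf cE370) (BT.leaf cE371)) (BT.node 372 (BT.leaf cE372) (BT.leaf cE373))) (BT.node 375 (BT.node 374 (BT.leaf cE374) (BT.leaf cE375)) (BT.leaf cE376))) (BT.node 379 (BT.node 378 (BT.node 377 (BT.leaf cE377) (BT.leaf cE378)) (BT.leaf cE379)) (BT.node 381 (BT.node 380 (BT.leaf cE380) (BT.leaf cE381)) (BT.leaf cE382)))) (BT.node 389 (BT.node 386 (BT.node 384 (BT.node 383 (BT.leaf cE383) (BT.leaf cE384)) (BT.node 385 (BT.leaf cE385) (BT.leaf cE386))) (BT.node 388 (BT.node 387 (BT.leaf cE387) (BT.leaf cE388)) (BT.leaf cE389))) (BT.node 392 (BT.node 391 (BT.node 390 (BT.leaf cE390) (BT.leaf cE391)) (BT.leaf cE392)) (BT.node 394 (BT.node 393 (BT.leaf cE393) (BT.leaf cE394)) (BT.leaf cE395))))) (BT.node 408 (BT.node 402 (BT.node 399 (BT.node 397 (BT.node 396 (BT.leaf cE396) (BT.leaf cE397)) (BT.node 398 (BT.leaf cE398) (BT.leaf cE399))) (BT.node 401 (BT.node 400 (BT.leaf cE400) (BT.leaf cE401)) (BT.leaf cE402))) (BT.node 405 (BT.node 404 (BT.node 403 (BT.leaf cE403) (BT.leaf cE404)) (BT.leaf cE405)) (BT.node 407 (BT.node 406 (BT.leaf cE406) (BT.leaf cE407)) (BT.leaf cE408)))) (BT.node 415 (BT.node 412 (BT.node 410 (BT.node 409 (BT.leaf cE409) (BT.leaf cE410)) (BT.node 411 (BT.leaf cE411) (BT.leaf cE412))) (BT.node 414 (BT.node 413 (BT.leaf cE413) (BT.leaf cE414)) (BT.leaf cE415))) (BT.node 418 (BT.node 417 (BT.node 416 (BT.leaf cE416) (BT.leaf cE417)) (BT.leaf cE418)) (BT.node 420 (BT.node 419 (BT.leaf cE419) (BT.leaf cE420)) (BT.leaf cE421))))))))) (BT.node 632 (BT.node 527 (BT.node 474 (BT.node 448 (BT.node 435 (BT.node 428 (BT.node 425 (BT.node 423 (BT.node 422 (BT.leaf cE422) (BT.leaf cE423)) (BT.node 424 (BT.leaf cE424) (BT.leaf cE425))) (BT.node 427 (BT.node 426 (BT.leaf cE426) (BT.leaf cE427)) (BT.leaf cE428))) (BT.node 432 (BT.node 430 (BT.node 429 (BT.leaf cE429) (BT.leaf cE430)) (BT.node 431 (BT.leaf cE431) (BT.leaf cE432))) (BT.node 434 (BT.node 433 (BT.leaf cE433) (BT.leaf cE434)) (BT.leaf cE435)))) (BT.node 442 (BT.node 439 (BT.node 437 (BT.node 436 (BT.leaf cE436) (BT.leaf cE437)) (BT.node 438 (BT.leaf cE438) (BT.leaf cE439))) (BT.node 441 (BT.node 440 (BT.leaf cE440) (BT.leaf cE441)) (BT.leaf cE442))) (BT.node 445 (BT.node 444 (BT.node 443 (BT.leaf cE443) (BT.leaf cE444)) (BT.leaf cE445)) (BT.node 447 (BT.node 446 (BT.leaf cE446) (BT.leaf cE447)) (BT.leaf cE448))))) (BT.node 461 (BT.node 455 (BT.node 452 (BT.node 450 (BT.node 449 (BT.leaf cE449) (BT.leaf cE450)) (BT.node 451 (BT.leaf cE451) (BT.leaf cE452))) (BT.node 454 (BT.node 453 (BT.leaf cE453) (BT.leaf cE454)) (BT.leaf cE455))) (BT.node 458 (BT.node 457 (BT.node 456 (BT.leaf cE456) (BT.leaf cE457)) (BT.leaf cE458)) (BT.node 460 (BT.node 459 (BT.leaf cE459) (BT.leaf cE460)) (BT.leaf cE461)))) (BT.node 468 (BT.node 465 (BT.node 463 (BT.node 462 (BT.leaf cE462) (BT.leaf cE463)) (BT.node 464 (BT.leaf cE464) (BT.leaf cE465))) (BT.node 467 (BT.node 466 (BT.leaf cE466) (BT.leaf cE467)) (BT.leaf cE468))) (BT.node 471 (BT.node 470 (BT.node 469 (BT.leaf cE469) (BT.leaf cE470)) (BT.leaf cE471)) (BT.node 473 (BT.node 472 (BT.leaf cE472) (BT.leaf cE473)) (BT.leaf cE474)))))) (BT.node 501 (BT.node 488 (BT.node 481 (BT.node 478 (BT.node 476 (BT.node 475 (BT.leaf cE475) (BT.leaf cE476)) (BT.node 477 (BT.leaf cE477) (BT.leaf cE478))) (BT.node 480 (BT.node 479 (BT.leaf cE479) (BT.leaf cE480)) (BT.leaf cE481))) (BT.node 485 (BT.node 483 (BT.node 482 (BT.leaf cE482) (BT.leaf cE483)) (BT.node 484 (BT.leaf cE484) (BT.leaf cE485))) (BT.node 487 (BT.node 486 (BT.leaf cE486) (BT.leaf cE487)) (BT.leaf cE488)))) (BT.node 495 (BT.node 492 (BT.node 490 (BT.node 489 (BT.leaf cE489) (BT.leaf cE490)) (BT.node 491 (BT.leaf cE491) (BT.leaf cE492))) (BT.node 494 (BT.node 493 (BT.leaf cE493) (BT.leaf cE494)) (BT.leaf cE495))) (BT.node 498 (BT.node 497 (BT.node 496 (BT.leaf cE496) (BT.leaf cE497)) (BT.leaf cE498)) (BT.node 500 (BT.node 499 (BT.leaf cE499) (BT.leaf cE500)) (BT.leaf cE501))))) (BT.node 514 (BT.node 508 (BT.node 505 (BT.node 503 (BT.node 502 (BT.leaf cE502) (BT.leaf cE503)) (BT.node 504 (BT.leaf cE504) (BT.leaf cE505))) (BT.node 507 (BT.node 506 (BT.leaf cE506) (BT.leaf cE507)) (BT.leaf cE508))) (BT.node 511 (BT.node 510 (BT.node 509 (BT.leaf cE509) (BT.leaf cE510)) (BT.leaf cE511)) (BT.node 513 (BT.node 512 (BT.leaf cE512) (BT.leaf cE513)) (BT.leaf cE514)))) (BT.node 521 (BT.node 518 (BT.node 516 (BT.node 515 (BT.leaf cE515) (BT.leaf cE516)) (BT.node 517 (BT.leaf cE517) (BT.leaf cE518))) (BT.node 520 (BT.node 519 (BT.leaf cE519) (BT.leaf cE520)) (BT.leaf cE521))) (BT.node 524 (BT.node 523 (BT.node 522 (BT.leaf cE522) (BT.leaf cE523)) (BT.leaf cE524)) (BT.node 526 (BT.node 525 (BT.leaf cE525) (BT.leaf cE526)) (BT.leaf cE527))))))) (BT.node 580 (BT.node 554 (BT.node 541 (BT.node 534 (BT.node 531 (BT.node 529 (BT.node 528 (BT.leaf cE528) (BT.leaf cE529)) (BT.node 530 (BT.leaf cE530) (BT.leaf cE531))) (BT.node 533 (BT.node 532 (BT.leaf cE532) (BT.leaf cE533)) (BT.leaf cE534))) (BT.node 538 (BT.node 536 (BT.node 535 (BT.leaf cE535) (BT.leaf cE536)) (BT.node 537 (BT.leaf cE537) (BT.leaf cE538))) (BT.node 540 (BT.node 539 (BT.leaf cE539) (BT.leaf cE540)) (BT.leaf cE541)))) (BT.node 548 (BT.node 545 (BT.node 543 (BT.node 542 (BT.leaf cE542) (BT.leaf cE543)) (BT.node 544 (BT.leaf cE544) (BT.leaf cE545))) (BT.node 547 (BT.node 546 (BT.leaf cE546) (BT.leaf cE547)) (BT.leaf cE548))) (BT.node 551 (BT.node 550 (BT.node 549 (BT.leaf cE549) (BT.leaf cE550)) (BT.leaf cE551)) (BT.node 553 (BT.node 552 (BT.leaf cE552) (BT.leaf cE553)) (BT.leaf cE554))))) (BT.node 567 (BT.node 561 (BT.node 558 (BT.node 556 (BT.node 555 (BT.leaf cE555) (BT.leaf cE556)) (BT.node 557 (BT.leaf cE557) (BT.leaf cE558))) (BT.node 560 (BT.node 559 (BT.leaf cE559) (BT.leaf cE560)) (BT.leaf cE561))) (BT.node 564 (BT.node 563 (BT.node 562 (BT.leaf cE562) (BT.leaf cE563)) (BT.leaf cE564)) (BT.node 566 (BT.node 565 (BT.leaf cE565) (BT.leaf cE566)) (BT.leaf cE567)))) (BT.node 574 (BT.node 571 (BT.node 569 (BT.node 568 (BT.leaf cE568) (BT.leaf cE569)) (BT.node 570 (BT.leaf cE570) (BT.leaf cE571))) (BT.node 573 (BT.node 572 (BT.leaf cE572) (BT.leaf cE573)) (BT.leaf cE574))) (BT.node 577 (BT.node 576 (BT.node 575 (BT.leaf cE575) (BT.leaf cE576)) (BT.leaf cE577)) (BT.node 579 (BT.node 578 (BT.leaf cE578) (BT.leaf cE579)) (BT.leaf cE580)))))) (BT.node 606 (BT.node 593 (BT.node 587 (BT.node 584 (BT.node 582 (BT.node 581 (BT.leaf cE581) (BT.leaf cE582)) (BT.node 583 (BT.leaf cE583) (BT.leaf cE584))) (BT.node 586 (BT.node 585 (BT.leaf cE585) (BT.leaf cE586)) (BT.leaf cE587))) (BT.node 590 (BT.node 589 (BT.node 588 (BT.leaf cE588) (BT.leaf cE589)) (BT.leaf cE590)) (BT.node 592 (BT.node 591 (BT.leaf cE591) (BT.leaf cE592)) (BT.leaf cE593)))) (BT.node 600 (BT.node 597 (BT.node 595 (BT.node 594 (BT.leaf cE594) (BT.leaf cE595)) (BT.node 596 (BT.leaf cE596) (BT.leaf cE597))) (BT.node 599 (BT.node 598 (BT.leaf cE598) (BT.leaf cE599)) (BT.leaf cE600))) (BT.node 603 (BT.node 602 (BT.node 601 (BT.leaf cE601) (BT.leaf cE602)) (BT.leaf cE603)) (BT.node 605 (BT.node 604 (BT.leaf cE604) (BT.leaf cE605)) (BT.leaf cE606))))) (BT.node 619 (BT.node 613 (BT.node 610 (BT.node 608 (BT.node 607 (BT.leaf cE607) (BT.leaf cE608)) (BT.node 609 (BT.leaf cE609) (BT.leaf cE610))) (BT.node 612 (BT.node 611 (BT.leaf cE611) (BT.leaf cE612)) (BT.leaf cE613))) (BT.node 616 (BT.node 615 (BT.node 614 (BT.leaf cE614) (BT.leaf cE615)) (BT.leaf cE616)) (BT.node 618 (BT.node 617 (BT.leaf cE617) (BT.leaf cE618)) (BT.leaf cE619)))) (BT.node 626 (BT.node 623 (BT.node 621 (BT.node 620 (BT.leaf cE620) (BT.leaf cE621)) (BT.node 622 (BT.leaf cE622) (BT.leaf cE623))) (BT.node 625 (BT.node 624 (BT.leaf cE624) (BT.leaf cE625)) (BT.leaf cE626))) (BT.node 629 (BT.node 628 (BT.node 627 (BT.leaf cE627) (BT.leaf cE628)) (BT.leaf cE629)) (BT.node 631 (BT.node 630 (BT.leaf cE630) (BT.leaf cE631)) (BT.leaf cE632)))))))) (BT.node 737 (BT.node 685 (BT.node 659 (BT.node 646 (BT.node 639 (BT.node 636 (BT.node 634 (BT.node 633 (BT.leaf cE633) (BT.leaf cE634)) (BT.node 635 (BT.leaf cE635) (BT.leaf cE636))) (BT.node 638 (BT.node 637 (BT.leaf cE637) (BT.leaf cE638)) (BT.leaf cE639))) (BT.node 643 (BT.node 641 (BT.node 640 (BT.leaf cE640) (BT.leaf cE641)) (BT.node 642 (BT.leaf cE642) (BT.leaf cE643))) (BT.node 645 (BT.node 644 (BT.leaf cE644) (BT.leaf cE645)) (BT.leaf cE646)))) (BT.node 653 (BT.node 650 (BT.node 648 (BT.node 647 (BT.leaf cE647) (BT.leaf cE648)) (BT.node 649 (BT.leaf cE649) (BT.leaf cE650))) (BT.node 652 (BT.node 651 (BT.leaf cE651) (BT.leaf cE652)) (BT.leaf cE653))) (BT.node 656 (BT.node 655 (BT.node 654 (BT.leaf cE654) (BT.leaf cE655)) (BT.leaf cE656)) (BT.node 658 (BT.node 657 (BT.leaf cE657) (BT.leaf cE658)) (BT.leaf cE659))))) (BT.node 672 (BT.node 666 (BT.node 663 (BT.node 661 (BT.node 660 (BT.leaf cE660) (BT.leaf cE661)) (BT.node 662 (BT.leaf cE662) (BT.leaf cE663))) (BT.node 665 (BT.node 664 (BT.leaf cE664) (BT.leaf cE665)) (BT.leaf cE666))) (BT.node 669 (BT.node 668 (BT.node 667 (BT.leaf cE667) (BT.leaf cE668)) (BT.leaf cE669)) (BT.node 671 (BT.node 670 (BT.leaf cE670) (BT.leaf cE671)) (BT.leaf cE672)))) (BT.node 679 (BT.node 676 (BT.node 674 (BT.node 673 (BT.leaf cE673) (BT.leaf cE674)) (BT.node 675 (BT.leaf cE675) (BT.leaf cE676))) (BT.node 678 (BT.node 677 (BT.leaf cE677) (BT.leaf cE678)) (BT.leaf cE679))) (BT.node 682 (BT.node 681 (BT.node 680 (BT.leaf cE680) (BT.leaf cE681)) (BT.leaf cE682)) (BT.node 684 (BT.node 683 (BT.leaf cE683) (BT.leaf cE684)) (BT.leaf cE685)))))) (BT.node 711 (BT.node 698 (BT.node 692 (BT.node 689 (BT.node 687 (BT.node 686 (BT.leaf cE686) (BT.leaf cE687)) (BT.node 688 (BT.leaf cE688) (BT.leaf cE689))) (BT.node 691 (BT.node 690 (BT.leaf cE690) (BT.leaf cE691)) (BT.leaf cE692))) (BT.node 695 (BT.node 694 (BT.node 693 (BT.leaf cE693) (BT.leaf cE694)) (BT.leaf cE695)) (BT.node 697 (BT.node 696 (BT.leaf cE696) (BT.leaf cE697)) (BT.leaf cE698)))) (BT.node 705 (BT.node 702 (BT.node 700 (BT.node 699 (BT.leaf cE699) (BT.leaf cE700)) (BT.node 701 (BT.leaf cE701) (BT.leaf cE702))) (BT.node 704 (BT.node 703 (BT.leaf cE703) (BT.leaf cE704)) (BT.leaf cE705))) (BT.node 708 (BT.node 707 (BT.node 706 (BT.leaf cE706) (BT.leaf cE707)) (BT.leaf cE708)) (BT.node 710 (BT.node 709 (BT.leaf cE709) (BT.leaf cE710)) (BT.leaf cE711))))) (BT.node 724 (BT.node 718 (BT.node 715 (BT.node 713 (BT.node 712 (BT.leaf cE712) (BT.leaf cE713)) (BT.node 714 (BT.leaf cE714) (BT.leaf cE715))) (BT.node 717 (BT.node 716 (BT.leaf cE716) (BT.leaf cE717)) (BT.leaf cE718))) (BT.node 721 (BT.node 720 (BT.node 719 (BT.leaf cE719) (BT.leaf cE720)) (BT.leaf cE721)) (BT.node 723 (BT.node 722 (BT.leaf cE722) (BT.leaf cE723)) (BT.leaf cE724)))) (BT.node 731 (BT.node 728 (BT.node 726 (BT.node 725 (BT.leaf cE725) (BT.leaf cE726)) (BT.node 727 (BT.leaf cE727) (BT.leaf cE728))) (BT.node 730 (BT.node 729 (BT.leaf cE729) (BT.leaf cE730)) (BT.leaf cE731))) (BT.node 734 (BT.node 733 (BT.node 732 (BT.leaf cE732) (BT.leaf cE733)) (BT.leaf cE734)) (BT.node 736 (BT.node 735 (BT.leaf cE735) (BT.leaf cE736)) (BT.leaf cE737))))))) (BT.node 790 (BT.node 764 (BT.node 751 (BT.node 744 (BT.node 741 (BT.node 739 (BT.node 738 (BT.leaf cE738) (BT.leaf cE739)) (BT.node 740 (BT.leaf cE740) (BT.leaf cE741))) (BT.node 743 (BT.node 742 (BT.leaf cE742) (BT.leaf cE743)) (BT.leaf cE744))) (BT.node 748 (BT.node 746 (BT.node 745 (BT.leaf cE745) (BT.leaf cE746)) (BT.node 747 (BT.leaf cE747) (BT.leaf cE748))) (BT.node 750 (BT.node 749 (BT.leaf cE749) (BT.leaf cE750)) (BT.leaf cE751)))) (BT.node 758 (BT.node 755 (BT.node 753 (BT.node 752 (BT.leaf cE752) (BT.leaf cE753)) (BT.node 754 (BT.leaf cE754) (BT.leaf cE755))) (BT.node 757 (BT.node 756 (BT.leaf cE756) (BT.leaf cE757)) (BT.leaf cE758))) (BT.node 761 (BT.node 760 (BT.node 759 (BT.leaf cE759) (BT.leaf cE760)) (BT.leaf cE761)) (BT.node 763 (BT.node 762 (BT.leaf cE762) (BT.leaf cE763)) (BT.leaf cE764))))) (BT.node 777 (BT.node 771 (BT.node 768 (BT.node 766 (BT.node 765 (BT.leaf cE765) (BT.leaf cE766)) (BT.node 767 (BT.leaf cE767) (BT.leaf cE768))) (BT.node 770 (BT.node 769 (BT.leaf cE769) (BT.leaf cE770)) (BT.leaf cE771))) (BT.node 774 (BT.node 773 (BT.node 772 (BT.leaf cE772) (BT.leaf cE773)) (BT.leaf cE774)) (BT.node 776 (BT.node 775 (BT.leaf cE775) (BT.leaf cE776)) (BT.leaf cE777)))) (BT.node 784 (BT.node 781 (BT.node 779 (BT.node 778 (BT.leaf cE778) (BT.leaf cE779)) (BT.node 780 (BT.leaf cE780) (BT.leaf cE781))) (BT.node 783 (BT.node 782 (BT.leaf cE782) (BT.leaf cE783)) (BT.leaf cE784))) (BT.node 787 (BT.node 786 (BT.node 785 (BT.leaf cE785) (BT.leaf cE786)) (BT.leaf cE787)) (BT.node 789 (BT.node 788 (BT.leaf cE788) (BT.leaf cE789)) (BT.leaf cE790)))))) (BT.node 816 (BT.node 803 (BT.node 797 (BT.node 794 (BT.node 792 (BT.node 791 (BT.leaf cE791) (BT.leaf cE792)) (BT.node 793 (BT.leaf cE793) (BT.leaf cE794))) (BT.node 796 (BT.node 795 (BT.leaf cE795) (BT.leaf cE796)) (BT.leaf cE797))) (BT.node 800 (BT.node 799 (BT.node 798 (BT.leaf cE798) (BT.leaf cE799)) (BT.leaf cE800)) (BT.node 802 (BT.node 801 (BT.leaf cE801) (BT.leaf cE802)) (BT.leaf cE803)))) (BT.node 810 (BT.node 807 (BT.node 805 (BT.node 804 (BT.leaf cE804) (BT.leaf cE805)) (BT.node 806 (BT.leaf cE806) (BT.leaf cE807))) (BT.node 809 (BT.node 808 (BT.leaf cE808) (BT.leaf cE809)) (BT.leaf cE810))) (BT.node 813 (BT.node 812 (BT.node 811 (BT.leaf cE811) (BT.leaf cE812)) (BT.leaf cE813)) (BT.node 815 (BT.node 814 (BT.leaf cE814) (BT.leaf cE815)) (BT.leaf cE816))))) (BT.node 829 (BT.node 823 (BT.node 820 (BT.node 818 (BT.node 817 (BT.leaf cE817) (BT.leaf cE818)) (BT.node 819 (BT.leaf cE819) (BT.leaf cE820))) (BT.node 822 (BT.node 821 (BT.leaf cE821) (BT.leaf cE822)) (BT.leaf cE823))) (BT.node 826 (BT.node 825 (BT.node 824 (BT.leaf cE824) (BT.leaf cE825)) (BT.leaf cE826)) (BT.node 828 (BT.node 827 (BT.leaf cE827) (BT.leaf cE828)) (BT.leaf cE829)))) (BT.node 836 (BT.node 833 (BT.node 831 (BT.node 830 (BT.leaf cE830) (BT.leaf cE831)) (BT.node 832 (BT.leaf cE832) (BT.leaf cE833))) (BT.node 835 (BT.node 834 (BT.leaf cE834) (BT.leaf cE835)) (BT.leaf cE836))) (BT.node 839 (BT.node 838 (BT.node 837 (BT.leaf cE837) (BT.leaf cE838)) (BT.leaf cE839)) (BT.node 841 (BT.node 840 (BT.leaf cE840) (BT.leaf cE841)) (BT.leaf cE842)))))))))) (BT.node 1264 (BT.node 1053 (BT.node 948 (BT.node 895 (BT.node 869 (BT.node 856 (BT.node 849 (BT.node 846 (BT.node 844 (BT.node 843 (BT.leaf cE843) (BT.leaf cE844)) (BT.node 845 (BT.leaf cE845) (BT.leaf cE846))) (BT.node 848 (BT.node 847 (BT.leaf cE847) (BT.leaf cE848)) (BT.leaf cE849))) (BT.node 853 (BT.node 851 (BT.node 850 (BT.leaf cE850) (BT.leaf cE851)) (BT.node 852 (BT.leaf cE852) (BT.leaf cE853))) (BT.node 855 (BT.node 854 (BT.leaf cE854) (BT.leaf cE855)) (BT.leaf cE856)))) (BT.node 863 (BT.node 860 (BT.node 858 (BT.node 857 (BT.leaf cE857) (BT.leaf cE858)) (BT.node 859 (BT.leaf cE859) (BT.leaf cE860))) (BT.node 862 (BT.node 861 (BT.leaf cE861) (BT.leaf cE862)) (BT.leaf cE863))) (BT.node 866 (BT.node 865 (BT.node 864 (BT.leaf cE864) (BT.leaf cE865)) (BT.leaf cE866)) (BT.node 868 (BT.node 867 (BT.leaf cE867) (BT.leaf cE868)) (BT.leaf cE869))))) (BT.node 882 (BT.node 876 (BT.node 873 (BT.node 871 (BT.node 870 (BT.leaf cE870) (BT.leaf cE871)) (BT.node 872 (BT.leaf cE872) (BT.leaf cE873))) (BT.node 875 (BT.node 874 (BT.leaf cE874) (BT.leaf cE875)) (BT.leaf cE876))) (BT.node 879 (BT.node 878 (BT.node 877 (BT.leaf cE877) (BT.leaf cE878)) (BT.leaf cE879)) (BT.node 881 (BT.node 880 (BT.leaf cE880) (BT.leaf cE881)) (BT.leaf cE882)))) (BT.node 889 (BT.node 886 (BT.node 884 (BT.node 883 (BT.leaf cE883) (BT.leaf cE884)) (BT.node 885 (BT.leaf cE885) (BT.leaf cE886))) (BT.node 888 (BT.node 887 (BT.leaf cE887) (BT.leaf cE888)) (BT.leaf cE889))) (BT.node 892 (BT.node 891 (BT.node 890 (BT.leaf cE890) (BT.leaf cE891)) (BT.leaf cE892)) (BT.node 894 (BT.node 893 (BT.leaf cE893) (BT.leaf cE894)) (BT.leaf cE895)))))) (BT.node 922 (BT.node 909 (BT.node 902 (BT.node 899 (BT.node 897 (BT.node 896 (BT.leaf cE896) (BT.leaf cE897)) (BT.node 898 (BT.leaf cE898) (BT.leaf cE899))) (BT.node 901 (BT.node 900 (BT.leaf cE900) (BT.leaf cE901)) (BT.leaf cE902))) (BT.node 906 (BT.node 904 (BT.node 903 (BT.leaf cE903) (BT.leaf cE904)) (BT.node 905 (BT.leaf cE905) (BT.leaf cE906))) (BT.node 908 (BT.node 907 (BT.leaf cE907) (BT.leaf cE908)) (BT.leaf cE909)))) (BT.node 916 (BT.node 913 (BT.node 911 (BT.node 910 (BT.leaf cE910) (BT.leaf cE911)) (BT.node 912 (BT.leaf cE912) (BT.leaf cE913))) (BT.node 915 (BT.node 914 (BT.leaf cE914) (BT.leaf cE915)) (BT.leaf cE916))) (BT.node 919 (BT.node 918 (BT.node 917 (BT.leaf cE917) (BT.leaf cE918)) (BT.leaf cE919)) (BT.node 921 (BT.node 920 (BT.leaf cE920) (BT.leaf cE921)) (BT.leaf cE922))))) (BT.node 935 (BT.node 929 (BT.node 926 (BT.node 924 (BT.node 923 (BT.leaf cE923) (BT.leaf cE924)) (BT.node 925 (BT.leaf cE925) (BT.leaf cE926))) (BT.node 928 (BT.node 927 (BT.leaf cE927) (BT.leaf cE928)) (BT.leaf cE929))) (BT.node 932 (BT.node 931 (BT.node 930 (BT.leaf cE930) (BT.leaf cE931)) (BT.leaf cE932)) (BT.node 934 (BT.node 933 (BT.leaf cE933) (BT.leaf cE934)) (BT.leaf cE935)))) (BT.node 942 (BT.node 939 (BT.node 937 (BT.node 936 (BT.leaf cE936) (BT.leaf cE937)) (BT.node 938 (BT.leaf cE938) (BT.leaf cE939))) (BT.node 941 (BT.node 940 (BT.leaf cE940) (BT.leaf cE941)) (BT.leaf cE942))) (BT.node 945 (BT.node 944 (BT.node 943 (BT.leaf cE943) (BT.leaf cE944)) (BT.leaf cE945)) (BT.node 947 (BT.node 946 (BT.leaf cE946) (BT.leaf cE947)) (BT.leaf cE948))))))) (BT.node 1001 (BT.node 975 (BT.node 962 (BT.node 955 (BT.node 952 (BT.node 950 (BT.node 949 (BT.leaf cE949) (BT.leaf cE950)) (BT.node 951 (BT.leaf cE951) (BT.leaf cE952))) (BT.node 954 (BT.node 953 (BT.leaf cE953) (BT.leaf cE954)) (BT.leaf cE955))) (BT.node 959 (BT.node 957 (BT.node 956 (BT.leaf cE956) (BT.leaf cE957)) (BT.node 958 (BT.leaf cE958) (BT.leaf cE959))) (BT.node 961 (BT.node 960 (BT.leaf cE960) (BT.leaf cE961)) (BT.leaf cE962)))) (BT.node 969 (BT.node 966 (BT.node 964 (BT.node 963 (BT.leaf cE963) (BT.leaf cE964)) (BT.node 965 (BT.leaf cE965) (BT.leaf cE966))) (BT.node 968 (BT.node 967 (BT.leaf cE967) (BT.leaf cE968)) (BT.leaf cE969))) (BT.node 972 (BT.node 971 (BT.node 970 (BT.leaf cE970) (BT.leaf cE971)) (BT.leaf cE972)) (BT.node 974 (BT.node 973 (BT.leaf cE973) (BT.leaf cE974)) (BT.leaf cE975))))) (BT.node 988 (BT.node 982 (BT.node 979 (BT.node 977 (BT.node 976 (BT.leaf cE976) (BT.leaf cE977)) (BT.node 978 (BT.leaf cE978) (BT.leaf cE979))) (BT.node 981 (BT.node 980 (BT.leaf cE980) (BT.leaf cE981)) (BT.leaf cE982))) (BT.node 985 (BT.node 984 (BT.node 983 (BT.leaf cE983) (BT.leaf cE984)) (BT.leaf cE985)) (BT.node 987 (BT.node 986 (BT.leaf cE986) (BT.leaf cE987)) (BT.leaf cE988)))) (BT.node 995 (BT.node 992 (BT.node 990 (BT.node 989 (BT.leaf cE989) (BT.leaf cE990)) (BT.node 991 (BT.leaf cE991) (BT.leaf cE992))) (BT.node 994 (BT.node 993 (BT.leaf cE993) (BT.leaf cE994)) (BT.leaf cE995))) (BT.node 998 (BT.node 997 (BT.node 996 (BT.leaf cE996) (BT.leaf cE997)) (BT.leaf cE998)) (BT.node 1000 (BT.node 999 (BT.leaf cE999) (BT.leaf cE1000)) (BT.leaf cE1001)))))) (BT.node 1027 (BT.node 1014 (BT.node 1008 (BT.node 1005 (BT.node 1003 (BT.node 1002 (BT.leaf cE1002) (BT.leaf cE1003)) (BT.node 1004 (BT.leaf cE1004) (BT.leaf cE1005))) (BT.node 1007 (BT.node 1006 (BT.leaf cE1006) (BT.leaf cE1007)) (BT.leaf cE1008))) (BT.node 1011 (BT.node 1010 (BT.node 1009 (BT.leaf cE1009) (BT.leaf cE1010)) (BT.leaf cE1011)) (BT.node 1013 (BT.node 1012 (BT.leaf cE1012) (BT.leaf cE1013)) (BT.leaf cE1014)))) (BT.node 1021 (BT.node 1018 (BT.node 1016 (BT.node 1015 (BT.leaf cE1015) (BT.leaf cE1016)) (BT.node 1017 (BT.leaf cE1017) (BT.leaf cE1018))) (BT.node 1020 (BT.node 1019 (BT.leaf cE1019) (BT.leaf cE1020)) (BT.leaf cE1021))) (BT.node 1024 (BT.node 1023 (BT.node 1022 (BT.leaf cE1022) (BT.leaf cE1023)) (BT.leaf cE1024)) (BT.node 1026 (BT.node 1025 (BT.leaf cE1025) (BT.leaf cE1026)) (BT.leaf cE1027))))) (BT.node 1040 (BT.node 1034 (BT.node 1031 (BT.node 1029 (BT.node 1028 (BT.leaf cE1028) (BT.leaf cE1029)) (BT.node 1030 (BT.leaf cE1030) (BT.leaf cE1031))) (BT.node 1033 (BT.node 1032 (BT.leaf cE1032) (BT.leaf cE1033)) (BT.leaf cE1034))) (BT.node 1037 (BT.node 1036 (BT.node 1035 (BT.leaf cE1035) (BT.leaf cE1036)) (BT.leaf cE1037)) (BT.node 1039 (BT.node 1038 (BT.leaf cE1038) (BT.leaf cE1039)) (BT.leaf cE1040)))) (BT.node 1047 (BT.node 1044 (BT.node 1042 (BT.node 1041 (BT.leaf cE1041) (BT.leaf cE1042)) (BT.node 1043 (BT.leaf cE1043) (BT.leaf cE1044))) (BT.node 1046 (BT.node 1045 (BT.leaf cE1045) (BT.leaf cE1046)) (BT.leaf cE1047))) (BT.node 1050 (BT.node 1049 (BT.node 1048 (BT.leaf cE1048) (BT.leaf cE1049)) (BT.leaf cE1050)) (BT.node 1052 (BT.node 1051 (BT.leaf cE1051) (BT.leaf cE1052)) (BT.leaf cE1053)))))))) (BT.node 1159 (BT.node 1106 (BT.node 1080 (BT.node 1067 (BT.node 1060 (BT.node 1057 (BT.node 1055 (BT.node 1054 (BT.leaf cE1054) (BT.leaf cE1055)) (BT.node 1056 (BT.leaf cE1056) (BT.leaf cE1057))) (BT.node 1059 (BT.node 1058 (BT.leaf cE1058) (BT.leaf cE1059)) (BT.leaf cE1060))) (BT.node 1064 (BT.node 1062 (BT.node 1061 (BT.leaf cE1061) (BT.leaf cE1062)) (BT.node 1063 (BT.leaf cE1063) (BT.leaf cE1064))) (BT.node 1066 (BT.node 1065 (BT.leaf cE1065) (BT.leaf cE1066)) (BT.leaf cE1067)))) (BT.node 1074 (BT.node 1071 (BT.node 1069 (BT.node 1068 (BT.leaf cE1068) (BT.leaf cE1069)) (BT.node 1070 (BT.leaf cE1070) (BT.leaf cE1071))) (BT.node 1073 (BT.node 1072 (BT.leaf cE1072) (BT.leaf cE1073)) (BT.leaf cE1074))) (BT.node 1077 (BT.node 1076 (BT.node 1075 (BT.leaf cE1075) (BT.leaf cE1076)) (BT.leaf cE1077)) (BT.node 1079 (BT.node 1078 (BT.leaf cE1078) (BT.leaf cE1079)) (BT.leaf cE1080))))) (BT.node 1093 (BT.node 1087 (BT.node 1084 (BT.node 1082 (BT.node 1081 (BT.leaf cE1081) (BT.leaf cE1082)) (BT.node 1083 (BT.leaf cE1083) (BT.leaf cE1084))) (BT.node 1086 (BT.node 1085 (BT.leaf cE1085) (BT.leaf cE1086)) (BT.leaf cE1087))) (BT.node 1090 (BT.node 1089 (BT.node 1088 (BT.leaf cE1088) (BT.leaf cE1089)) (BT.leaf cE1090)) (BT.node 1092 (BT.node 1091 (BT.leaf cE1091) (BT.leaf cE1092)) (BT.leaf cE1093)))) (BT.node 1100 (BT.node 1097 (BT.node 1095 (BT.node 1094 (BT.leaf cE1094) (BT.leaf cE1095)) (BT.node 1096 (BT.leaf cE1096) (BT.leaf cE1097))) (BT.node 1099 (BT.node 1098 (BT.leaf cE1098) (BT.leaf cE1099)) (BT.leaf cE1100))) (BT.node 1103 (BT.node 1102 (BT.node 1101 (BT.leaf cE1101) (BT.leaf cE1102)) (BT.leaf cE1103)) (BT.node 1105 (BT.node 1104 (BT.leaf cE1104) (BT.leaf cE1105)) (BT.leaf cE1106)))))) (BT.node 1133 (BT.node 1120 (BT.node 1113 (BT.node 1110 (BT.node 1108 (BT.node 1107 (BT.leaf cE1107) (BT.leaf cE1108)) (BT.node 1109 (BT.leaf cE1109) (BT.leaf cE1110))) (BT.node 1112 (BT.node 1111 (BT.leaf cE1111) (BT.leaf cE1112)) (BT.leaf cE1113))) (BT.node 1117 (BT.node 1115 (BT.node 1114 (BT.leaf cE1114) (BT.leaf cE1115)) (BT.node 1116 (BT.leaf cE1116) (BT.leaf cE1117))) (BT.node 1119 (BT.node 1118 (BT.leaf cE1118) (BT.leaf cE1119)) (BT.leaf cE1120)))) (BT.node 1127 (BT.node 1124 (BT.node 1122 (BT.node 1121 (BT.leaf cE1121) (BT.leaf cE1122)) (BT.node 1123 (BT.leaf cE1123) (BT.leaf cE1124))) (BT.node 1126 (BT.node 1125 (BT.leaf cE1125) (BT.leaf cE1126)) (BT.leaf cE1127))) (BT.node 1130 (BT.node 1129 (BT.node 1128 (BT.leaf cE1128) (BT.leaf cE1129)) (BT.leaf cE1130)) (BT.node 1132 (BT.node 1131 (BT.leaf cE1131) (BT.leaf cE1132)) (BT.leaf cE1133))))) (BT.node 1146 (BT.node 1140 (BT.node 1137 (BT.node 1135 (BT.node 1134 (BT.leaf cE1134) (BT.leaf cE1135)) (BT.node 1136 (BT.leaf cE1136) (BT.leaf cE1137))) (BT.node 1139 (BT.node 1138 (BT.leaf cE1138) (BT.leaf cE1139)) (BT.leaf cE1140))) (BT.node 1143 (BT.node 1142 (BT.node 1141 (BT.leaf cE1141) (BT.leaf cE1142)) (BT.leaf cE1143)) (BT.node 1145 (BT.node 1144 (BT.leaf cE1144) (BT.leaf cE1145)) (BT.leaf cE1146)))) (BT.node 1153 (BT.node 1150 (BT.node 1148 (BT.node 1147 (BT.leaf cE1147) (BT.leaf cE1148)) (BT.node 1149 (BT.leaf cE1149) (BT.leaf cE1150))) (BT.node 1152 (BT.node 1151 (BT.leaf cE1151) (BT.leaf cE1152)) (BT.leaf cE1153))) (BT.node 1156 (BT.node 1155 (BT.node 1154 (BT.leaf cE1154) (BT.leaf cE1155)) (BT.leaf cE1156)) (BT.node 1158 (BT.node 1157 (BT.leaf cE1157) (BT.leaf cE1158)) (BT.leaf cE1159))))))) (BT.node 1212 (BT.node 1186 (BT.node 1173 (BT.node 1166 (BT.node 1163 (BT.node 1161 (BT.node 1160 (BT.leaf cE1160) (BT.leaf cE1161)) (BT.node 1162 (BT.leaf cE1162) (BT.leaf cE1163))) (BT.node 1165 (BT.node 1164 (BT.leaf cE1164) (BT.leaf cE1165)) (BT.leaf cE1166))) (BT.node 1170 (BT.node 1168 (BT.node 1167 (BT.leaf cE1167) (BT.leaf cE1168)) (BT.node 1169 (BT.leaf cE1169) (BT.leaf cE1170))) (BT.node 1172 (BT.node 1171 (BT.leaf cE1171) (BT.leaf cE1172)) (BT.leaf cE1173)))) (BT.node 1180 (BT.node 1177 (BT.node 1175 (BT.node 1174 (BT.leaf cE1174) (BT.leaf cE1175)) (BT.node 1176 (BT.leaf cE1176) (BT.leaf cE1177))) (BT.node 1179 (BT.node 1178 (BT.leaf cE1178) (BT.leaf cE1179)) (BT.leaf cE1180))) (BT.node 1183 (BT.node 1182 (BT.node 1181 (BT.leaf cE1181) (BT.leaf cE1182)) (BT.leaf cE1183)) (BT.node 1185 (BT.node 1184 (BT.leaf cE1184) (BT.leaf cE1185)) (BT.leaf cE1186))))) (BT.node 1199 (BT.node 1193 (BT.node 1190 (BT.node 1188 (BT.node 1187 (BT.leaf cE1187) (BT.leaf cE1188)) (BT.node 1189 (BT.leaf cE1189) (BT.leaf cE1190))) (BT.node 1192 (BT.node 1191 (BT.leaf cE1191) (BT.leaf cE1192)) (BT.leaf cE1193))) (BT.node 1196 (BT.node 1195 (BT.node 1194 (BT.leaf cE1194) (BT.leaf cE1195)) (BT.leaf cE1196)) (BT.node 1198 (BT.node 1197 (BT.leaf cE1197) (BT.leaf cE1198)) (BT.leaf cE1199)))) (BT.node 1206 (BT.node 1203 (BT.node 1201 (BT.node 1200 (BT.leaf cE1200) (BT.leaf cE1201)) (BT.node 1202 (BT.leaf cE1202) (BT.leaf cE1203))) (BT.node 1205 (BT.node 1204 (BT.leaf cE1204) (BT.leaf cE1205)) (BT.leaf cE1206))) (BT.node 1209 (BT.node 1208 (BT.node 1207 (BT.leaf cE1207) (BT.leaf cE1208)) (BT.leaf cE1209)) (BT.node 1211 (BT.node 1210 (BT.leaf cE1210) (BT.leaf cE1211)) (BT.leaf cE1212)))))) (BT.node 1238 (BT.node 1225 (BT.node 1219 (BT.node 1216 (BT.node 1214 (BT.node 1213 (BT.leaf cE1213) (BT.leaf cE1214)) (BT.node 1215 (BT.leaf cE1215) (BT.leaf cE1216))) (BT.node 1218 (BT.node 1217 (BT.leaf cE1217) (BT.leaf cE1218)) (BT.leaf cE1219))) (BT.node 1222 (BT.node 1221 (BT.node 1220 (BT.leaf cE1220) (BT.leaf cE1221)) (BT.leaf cE1222)) (BT.node 1224 (BT.node 1223 (BT.leaf cE1223) (BT.leaf cE1224)) (BT.leaf cE1225)))) (BT.node 1232 (BT.node 1229 (BT.node 1227 (BT.node 1226 (BT.leaf cE1226) (BT.leaf cE1227)) (BT.node 1228 (BT.leaf cE1228) (BT.leaf cE1229))) (BT.node 1231 (BT.node 1230 (BT.leaf cE1230) (BT.leaf cE1231)) (BT.leaf cE1232))) (BT.node 1235 (BT.node 1234 (BT.node 1233 (BT.leaf cE1233) (BT.leaf cE1234)) (BT.leaf cE1235)) (BT.node 1237 (BT.node 1236 (BT.leaf cE1236) (BT.leaf cE1237)) (BT.leaf cE1238))))) (BT.node 1251 (BT.node 1245 (BT.node 1242 (BT.node 1240 (BT.node 1239 (BT.leaf cE1239) (BT.leaf cE1240)) (BT.node 1241 (BT.leaf cE1241) (BT.leaf cE1242))) (BT.node 1244 (BT.node 1243 (BT.leaf cE1243) (BT.leaf cE1244)) (BT.leaf cE1245))) (BT.node 1248 (BT.node 1247 (BT.node 1246 (BT.leaf cE1246) (BT.leaf cE1247)) (BT.leaf cE1248)) (BT.node 1250 (BT.node 1249 (BT.leaf cE1249) (BT.leaf cE1250)) (BT.leaf cE1251)))) (BT.node 1258 (BT.node 1255 (BT.node 1253 (BT.node 1252 (BT.leaf cE1252) (BT.leaf cE1253)) (BT.node 1254 (BT.leaf cE1254) (BT.leaf cE1255))) (BT.node 1257 (BT.node 1256 (BT.leaf cE1256) (BT.leaf cE1257)) (BT.leaf cE1258))) (BT.node 1261 (BT.node 1260 (BT.node 1259 (BT.leaf cE1259) (BT.leaf cE1260)) (BT.leaf cE1261)) (BT.node 1263 (BT.node 1262 (BT.leaf cE1262) (BT.leaf cE1263)) (BT.leaf cE1264))))))))) (BT.node 1475 (BT.node 1370 (BT.node 1317 (BT.node 1291 (BT.node 1278 (BT.node 1271 (BT.node 1268 (BT.node 1266 (BT.node 1265 (BT.leaf cE1265) (BT.leaf cE1266)) (BT.node 1267 (BT.leaf cE1267) (BT.leaf cE1268))) (BT.node 1270 (BT.node 1269 (BT.leaf cE1269) (BT.leaf cE1270)) (BT.leaf cE1271))) (BT.node 1275 (BT.node 1273 (BT.node 1272 (BT.leaf cE1272) (BT.leaf cE1273)) (BT.node 1274 (BT.leaf cE1274) (BT.leaf cE1275))) (BT.node 1277 (BT.node 1276 (BT.leaf cE1276) (BT.leaf cE1277)) (BT.leaf cE1278)))) (BT.node 1285 (BT.node 1282 (BT.node 1280 (BT.node 1279 (BT.leaf cE1279) (BT.leaf cE1280)) (BT.node 1281 (BT.leaf cE1281) (BT.leaf cE1282))) (BT.node 1284 (BT.node 1283 (BT.leaf cE1283) (BT.leaf cE1284)) (BT.leaf cE1285))) (BT.node 1288 (BT.node 1287 (BT.node 1286 (BT.leaf cE1286) (BT.leaf cE1287)) (BT.leaf cE1288)) (BT.node 1290 (BT.node 1289 (BT.leaf cE1289) (BT.leaf cE1290)) (BT.leaf cE1291))))) (BT.node 1304 (BT.node 1298 (BT.node 1295 (BT.node 1293 (BT.node 1292 (BT.leaf cE1292) (BT.leaf cE1293)) (BT.node 1294 (BT.leaf cE1294) (BT.leaf cE1295))) (BT.node 1297 (BT.node 1296 (BT.leaf cE1296) (BT.leaf cE1297)) (BT.leaf cE1298))) (BT.node 1301 (BT.node 1300 (BT.node 1299 (BT.leaf cE1299) (BT.leaf cE1300)) (BT.leaf cE1301)) (BT.node 1303 (BT.node 1302 (BT.leaf cE1302) (BT.leaf cE1303)) (BT.leaf cE1304)))) (BT.node 1311 (BT.node 1308 (BT.node 1306 (BT.node 1305 (BT.leaf cE1305) (BT.leaf cE1306)) (BT.node 1307 (BT.leaf cE1307) (BT.leaf cE1308))) (BT.node 1310 (BT.node 1309 (BT.leaf cE1309) (BT.leaf cE1310)) (BT.leaf cE1311))) (BT.node 1314 (BT.node 1313 (BT.node 1312 (BT.leaf cE1312) (BT.leaf cE1313)) (BT.leaf cE1314)) (BT.node 1316 (BT.node 1315 (BT.leaf cE1315) (BT.leaf cE1316)) (BT.leaf cE1317)))))) (BT.node 1344 (BT.node 1331 (BT.node 1324 (BT.node 1321 (BT.node 1319 (BT.node 1318 (BT.leaf cE1318) (BT.leaf cE1319)) (BT.node 1320 (BT.leaf cE1320) (BT.leaf cE1321))) (BT.node 1323 (BT.node 1322 (BT.leaf cE1322) (BT.leaf cE1323)) (BT.leaf cE1324))) (BT.node 1328 (BT.node 1326 (BT.node 1325 (BT.leaf cE1325) (BT.leaf cE1326)) (BT.node 1327 (BT.leaf cE1327) (BT.leaf cE1328))) (BT.node 1330 (BT.node 1329 (BT.leaf cE1329) (BT.leaf cE1330)) (BT.leaf cE1331)))) (BT.node 1338 (BT.node 1335 (BT.node 1333 (BT.node 1332 (BT.leaf cE1332) (BT.leaf cE1333)) (BT.node 1334 (BT.leaf cE1334) (BT.leaf cE1335))) (BT.node 1337 (BT.node 1336 (BT.leaf cE1336) (BT.leaf cE1337)) (BT.leaf cE1338))) (BT.node 1341 (BT.node 1340 (BT.node 1339 (BT.leaf cE1339) (BT.leaf cE1340)) (BT.leaf cE1341)) (BT.node 1343 (BT.node 1342 (BT.leaf cE1342) (BT.leaf cE1343)) (BT.leaf cE1344))))) (BT.node 1357 (BT.node 1351 (BT.node 1348 (BT.node 1346 (BT.node 1345 (BT.leaf cE1345) (BT.leaf cE1346)) (BT.node 1347 (BT.leaf cE1347) (BT.leaf cE1348))) (BT.node 1350 (BT.node 1349 (BT.leaf cE1349) (BT.leaf cE1350)) (BT.leaf cE1351))) (BT.node 1354 (BT.node 1353 (BT.node 1352 (BT.leaf cE1352) (BT.leaf cE1353)) (BT.leaf cE1354)) (BT.node 1356 (BT.node 1355 (BT.leaf cE1355) (BT.leaf cE1356)) (BT.leaf cE1357)))) (BT.node 1364 (BT.node 1361 (BT.node 1359 (BT.node 1358 (BT.leaf cE1358) (BT.leaf cE1359)) (BT.node 1360 (BT.leaf cE1360) (BT.leaf cE1361))) (BT.node 1363 (BT.node 1362 (BT.leaf cE1362) (BT.leaf cE1363)) (BT.leaf cE1364))) (BT.node 1367 (BT.node 1366 (BT.node 1365 (BT.leaf cE1365) (BT.leaf cE1366)) (BT.leaf cE1367)) (BT.node 1369 (BT.node 1368 (BT.leaf cE1368) (BT.leaf cE1369)) (BT.leaf cE1370))))))) (BT.node 1423 (BT.node 1397 (BT.node 1384 (BT.node 1377 (BT.node 1374 (BT.node 1372 (BT.node 1371 (BT.leaf cE1371) (BT.leaf cE1372)) (BT.node 1373 (BT.leaf cE1373) (BT.leaf cE1374))) (BT.node 1376 (BT.node 1375 (BT.leaf cE1375) (BT.leaf cE1376)) (BT.leaf cE1377))) (BT.node 1381 (BT.node 1379 (BT.node 1378 (BT.leaf cE1378) (BT.leaf cE1379)) (BT.node 1380 (BT.leaf cE1380) (BT.leaf cE1381))) (BT.node 1383 (BT.node 1382 (BT.leaf cE1382) (BT.leaf cE1383)) (BT.leaf cE1384)))) (BT.node 1391 (BT.node 1388 (BT.node 1386 (BT.node 1385 (BT.leaf cE1385) (BT.leaf cE1386)) (BT.node 1387 (BT.leaf cE1387) (BT.leaf cE1388))) (BT.node 1390 (BT.node 1389 (BT.leaf cE1389) (BT.leaf cE1390)) (BT.leaf cE1391))) (BT.node 1394 (BT.node 1393 (BT.node 1392 (BT.leaf cE1392) (BT.leaf cE1393)) (BT.leaf cE1394)) (BT.node 1396 (BT.node 1395 (BT.leaf cE1395) (BT.leaf cE1396)) (BT.leaf cE1397))))) (BT.node 1410 (BT.node 1404 (BT.node 1401 (BT.node 1399 (BT.node 1398 (BT.leaf cE1398) (BT.leaf cE1399)) (BT.node 1400 (BT.leaf cE1400) (BT.leaf cE1401))) (BT.node 1403 (BT.node 1402 (BT.leaf cE1402) (BT.leaf cE1403)) (BT.leaf cE1404))) (BT.node 1407 (BT.node 1406 (BT.node 1405 (BT.leaf cE1405) (BT.leaf cE1406)) (BT.leaf cE1407)) (BT.node 1409 (BT.node 1408 (BT.leaf cE1408) (BT.leaf cE1409)) (BT.leaf cE1410)))) (BT.node 1417 (BT.node 1414 (BT.node 1412 (BT.node 1411 (BT.leaf cE1411) (BT.leaf cE1412)) (BT.node 1413 (BT.leaf cE1413) (BT.leaf cE1414))) (BT.node 1416 (BT.node 1415 (BT.leaf cE1415) (BT.leaf cE1416)) (BT.leaf cE1417))) (BT.node 1420 (BT.node 1419 (BT.node 1418 (BT.leaf cE1418) (BT.leaf cE1419)) (BT.leaf cE1420)) (BT.node 1422 (BT.node 1421 (BT.leaf cE1421) (BT.leaf cE1422)) (BT.leaf cE1423)))))) (BT.node 1449 (BT.node 1436 (BT.node 1430 (BT.node 1427 (BT.node 1425 (BT.node 1424 (BT.leaf cE1424) (BT.leaf cE1425)) (BT.node 1426 (BT.leaf cE1426) (BT.leaf cE1427))) (BT.node 1429 (BT.node 1428 (BT.leaf cE1428) (BT.leaf cE1429)) (BT.leaf cE1430))) (BT.node 1433 (BT.node 1432 (BT.node 1431 (BT.leaf cE1431) (BT.leaf cE1432)) (BT.leaf cE1433)) (BT.node 1435 (BT.node 1434 (BT.leaf cE1434) (BT.leaf cE1435)) (BT.leaf cE1436)))) (BT.node 1443 (BT.node 1440 (BT.node 1438 (BT.node 1437 (BT.leaf cE1437) (BT.leaf cE1438)) (BT.node 1439 (BT.leaf cE1439) (BT.leaf cE1440))) (BT.node 1442 (BT.node 1441 (BT.leaf cE1441) (BT.leaf cE1442)) (BT.leaf cE1443))) (BT.node 1446 (BT.node 1445 (BT.node 1444 (BT.leaf cE1444) (BT.leaf cE1445)) (BT.leaf cE1446)) (BT.node 1448 (BT.node 1447 (BT.leaf cE1447) (BT.leaf cE1448)) (BT.leaf cE1449))))) (BT.node 1462 (BT.node 1456 (BT.node 1453 (BT.node 1451 (BT.node 1450 (BT.leaf cE1450) (BT.leaf cE1451)) (BT.node 1452 (BT.leaf cE1452) (BT.leaf cE1453))) (BT.node 1455 (BT.node 1454 (BT.leaf cE1454) (BT.leaf cE1455)) (BT.leaf cE1456))) (BT.node 1459 (BT.node 1458 (BT.node 1457 (BT.leaf cE1457) (BT.leaf cE1458)) (BT.leaf cE1459)) (BT.node 1461 (BT.node 1460 (BT.leaf cE1460) (BT.leaf cE1461)) (BT.leaf cE1462)))) (BT.node 1469 (BT.node 1466 (BT.node 1464 (BT.node 1463 (BT.leaf cE1463) (BT.leaf cE1464)) (BT.node 1465 (BT.leaf cE1465) (BT.leaf cE1466))) (BT.node 1468 (BT.node 1467 (BT.leaf cE1467) (BT.leaf cE1468)) (BT.leaf cE1469))) (BT.node 1472 (BT.node 1471 (BT.node 1470 (BT.leaf cE1470) (BT.leaf cE1471)) (BT.leaf cE1472)) (BT.node 1474 (BT.node 1473 (BT.leaf cE1473) (BT.leaf cE1474)) (BT.leaf cE1475)))))))) (BT.node 1580 (BT.node 1528 (BT.node 1502 (BT.node 1489 (BT.node 1482 (BT.node 1479 (BT.node 1477 (BT.node 1476 (BT.leaf cE1476) (BT.leaf cE1477)) (BT.node 1478 (BT.leaf cE1478) (BT.leaf cE1479))) (BT.node 1481 (BT.node 1480 (BT.leaf cE1480) (BT.leaf cE1481)) (BT.leaf cE1482))) (BT.node 1486 (BT.node 1484 (BT.node 1483 (BT.leaf cE1483) (BT.leaf cE1484)) (BT.node 1485 (BT.leaf cE1485) (BT.leaf cE1486))) (BT.node 1488 (BT.node 1487 (BT.leaf cE1487) (BT.leaf cE1488)) (BT.leaf cE1489)))) (BT.node 1496 (BT.node 1493 (BT.node 1491 (BT.node 1490 (BT.leaf cE1490) (BT.leaf cE1491)) (BT.node 1492 (BT.leaf cE1492) (BT.leaf cE1493))) (BT.node 1495 (BT.node 1494 (BT.leaf cE1494) (BT.leaf cE1495)) (BT.leaf cE1496))) (BT.node 1499 (BT.node 1498 (BT.node 1497 (BT.leaf cE1497) (BT.leaf cE1498)) (BT.leaf cE1499)) (BT.node 1501 (BT.node 1500 (BT.leaf cE1500) (BT.leaf cE1501)) (BT.leaf cE1502))))) (BT.node 1515 (BT.node 1509 (BT.node 1506 (BT.node 1504 (BT.node 1503 (BT.leaf cE1503) (BT.leaf cE1504)) (BT.node 1505 (BT.leaf cE1505) (BT.leaf cE1506))) (BT.node 1508 (BT.node 1507 (BT.leaf cE1507) (BT.leaf cE1508)) (BT.leaf cE1509))) (BT.node 1512 (BT.node 1511 (BT.node 1510 (BT.leaf cE1510) (BT.leaf cE1511)) (BT.leaf cE1512)) (BT.node 1514 (BT.node 1513 (BT.leaf cE1513) (BT.leaf cE1514)) (BT.leaf cE1515)))) (BT.node 1522 (BT.node 1519 (BT.node 1517 (BT.node 1516 (BT.leaf cE1516) (BT.leaf cE1517)) (BT.node 1518 (BT.leaf cE1518) (BT.leaf cE1519))) (BT.node 1521 (BT.node 1520 (BT.leaf cE1520) (BT.leaf cE1521)) (BT.leaf cE1522))) (BT.node 1525 (BT.node 1524 (BT.node 1523 (BT.leaf cE1523) (BT.leaf cE1524)) (BT.leaf cE1525)) (BT.node 1527 (BT.node 1526 (BT.leaf cE1526) (BT.leaf cE1527)) (BT.leaf cE1528)))))) (BT.node 1554 (BT.node 1541 (BT.node 1535 (BT.node 1532 (BT.node 1530 (BT.node 1529 (BT.leaf cE1529) (BT.leaf cE1530)) (BT.node 1531 (BT.leaf cE1531) (BT.leaf cE1532))) (BT.node 1534 (BT.node 1533 (BT.leaf cE1533) (BT.leaf cE1534)) (BT.leaf cE1535))) (BT.node 1538 (BT.node 1537 (BT.node 1536 (BT.leaf cE1536) (BT.leaf cE1537)) (BT.leaf cE1538)) (BT.node 1540 (BT.node 1539 (BT.leaf cE1539) (BT.leaf cE1540)) (BT.leaf cE1541)))) (BT.node 1548 (BT.node 1545 (BT.node 1543 (BT.node 1542 (BT.leaf cE1542) (BT.leaf cE1543)) (BT.node 1544 (BT.leaf cE1544) (BT.leaf cE1545))) (BT.node 1547 (BT.node 1546 (BT.leaf cE1546) (BT.leaf cE1547)) (BT.leaf cE1548))) (BT.node 1551 (BT.node 1550 (BT.node 1549 (BT.leaf cE1549) (BT.leaf cE1550)) (BT.leaf cE1551)) (BT.node 1553 (BT.node 1552 (BT.leaf cE1552) (BT.leaf cE1553)) (BT.leaf cE1554))))) (BT.node 1567 (BT.node 1561 (BT.node 1558 (BT.node 1556 (BT.node 1555 (BT.leaf cE1555) (BT.leaf cE1556)) (BT.node 1557 (BT.leaf cE1557) (BT.leaf cE1558))) (BT.node 1560 (BT.node 1559 (BT.leaf cE1559) (BT.leaf cE1560)) (BT.leaf cE1561))) (BT.node 1564 (BT.node 1563 (BT.node 1562 (BT.leaf cE1562) (BT.leaf cE1563)) (BT.leaf cE1564)) (BT.node 1566 (BT.node 1565 (BT.leaf cE1565) (BT.leaf cE1566)) (BT.leaf cE1567)))) (BT.node 1574 (BT.node 1571 (BT.node 1569 (BT.node 1568 (BT.leaf cE1568) (BT.leaf cE1569)) (BT.node 1570 (BT.leaf cE1570) (BT.leaf cE1571))) (BT.node 1573 (BT.node 1572 (BT.leaf cE1572) (BT.leaf cE1573)) (BT.leaf cE1574))) (BT.node 1577 (BT.node 1576 (BT.node 1575 (BT.leaf cE1575) (BT.leaf cE1576)) (BT.leaf cE1577)) (BT.node 1579 (BT.node 1578 (BT.leaf cE1578) (BT.leaf cE1579)) (BT.leaf cE1580))))))) (BT.node 1633 (BT.node 1607 (BT.node 1594 (BT.node 1587 (BT.node 1584 (BT.node 1582 (BT.node 1581 (BT.leaf cE1581) (BT.leaf cE1582)) (BT.node 1583 (BT.leaf cE1583) (BT.leaf cE1584))) (BT.node 1586 (BT.node 1585 (BT.leaf cE1585) (BT.leaf cE1586)) (BT.leaf cE1587))) (BT.node 1591 (BT.node 1589 (BT.node 1588 (BT.leaf cE1588) (BT.leaf cE1589)) (BT.node 1590 (BT.leaf cE1590) (BT.leaf cE1591))) (BT.node 1593 (BT.node 1592 (BT.leaf cE1592) (BT.leaf cE1593)) (BT.leaf cE1594)))) (BT.node 1601 (BT.node 1598 (BT.node 1596 (BT.node 1595 (BT.leaf cE1595) (BT.leaf cE1596)) (BT.node 1597 (BT.leaf cE1597) (BT.leaf cE1598))) (BT.node 1600 (BT.node 1599 (BT.leaf cE1599) (BT.leaf cE1600)) (BT.leaf cE1601))) (BT.node 1604 (BT.node 1603 (BT.node 1602 (BT.leaf cE1602) (BT.leaf cE1603)) (BT.leaf cE1604)) (BT.node 1606 (BT.node 1605 (BT.leaf cE1605) (BT.leaf cE1606)) (BT.leaf cE1607))))) (BT.node 1620 (BT.node 1614 (BT.node 1611 (BT.node 1609 (BT.node 1608 (BT.leaf cE1608) (BT.leaf cE1609)) (BT.node 1610 (BT.leaf cE1610) (BT.leaf cE1611))) (BT.node 1613 (BT.node 1612 (BT.leaf cE1612) (BT.leaf cE1613)) (BT.leaf cE1614))) (BT.node 1617 (BT.node 1616 (BT.node 1615 (BT.leaf cE1615) (BT.leaf cE1616)) (BT.leaf cE1617)) (BT.node 1619 (BT.node 1618 (BT.leaf cE1618) (BT.leaf cE1619)) (BT.leaf cE1620)))) (BT.node 1627 (BT.node 1624 (BT.node 1622 (BT.node 1621 (BT.leaf cE1621) (BT.leaf cE1622)) (BT.node 1623 (BT.leaf cE1623) (BT.leaf cE1624))) (BT.node 1626 (BT.node 1625 (BT.leaf cE1625) (BT.leaf cE1626)) (BT.leaf cE1627))) (BT.node 1630 (BT.node 1629 (BT.node 1628 (BT.leaf cE1628) (BT.leaf cE1629)) (BT.leaf cE1630)) (BT.node 1632 (BT.node 1631 (BT.leaf cE1631) (BT.leaf cE1632)) (BT.leaf cE1633)))))) (BT.node 1659 (BT.node 1646 (BT.node 1640 (BT.node 1637 (BT.node 1635 (BT.node 1634 (BT.leaf cE1634) (BT.leaf cE1635)) (BT.node 1636 (BT.leaf cE1636) (BT.leaf cE1637))) (BT.node 1639 (BT.node 1638 (BT.leaf cE1638) (BT.leaf cE1639)) (BT.leaf cE1640))) (BT.node 1643 (BT.node 1642 (BT.node 1641 (BT.leaf cE1641) (BT.leaf cE1642)) (BT.leaf cE1643)) (BT.node 1645 (BT.node 1644 (BT.leaf cE1644) (BT.leaf cE1645)) (BT.leaf cE1646)))) (BT.node 1653 (BT.node 1650 (BT.node 1648 (BT.node 1647 (BT.leaf cE1647) (BT.leaf cE1648)) (BT.node 1649 (BT.leaf cE1649) (BT.leaf cE1650))) (BT.node 1652 (BT.node 1651 (BT.leaf cE1651) (BT.leaf cE1652)) (BT.leaf cE1653))) (BT.node 1656 (BT.node 1655 (BT.node 1654 (BT.leaf cE1654) (BT.leaf cE1655)) (BT.leaf cE1656)) (BT.node 1658 (BT.node 1657 (BT.leaf cE1657) (BT.leaf cE1658)) (BT.leaf cE1659))))) (BT.node 1672 (BT.node 1666 (BT.node 1663 (BT.node 1661 (BT.node 1660 (BT.leaf cE1660) (BT.leaf cE1661)) (BT.node 1662 (BT.leaf cE1662) (BT.leaf cE1663))) (BT.node 1665 (BT.node 1664 (BT.leaf cE1664) (BT.leaf cE1665)) (BT.leaf cE1666))) (BT.node 1669 (BT.node 1668 (BT.node 1667 (BT.leaf cE1667) (BT.leaf cE1668)) (BT.leaf cE1669)) (BT.node 1671 (BT.node 1670 (BT.leaf cE1670) (BT.leaf cE1671)) (BT.leaf cE1672)))) (BT.node 1679 (BT.node 1676 (BT.node 1674 (BT.node 1673 (BT.leaf cE1673) (BT.leaf cE1674)) (BT.node 1675 (BT.leaf cE1675) (BT.leaf cE1676))) (BT.node 1678 (BT.node 1677 (BT.leaf cE1677) (BT.leaf cE1678)) (BT.leaf cE1679))) (BT.node 1682 (BT.node 1681 (BT.node 1680 (BT.leaf cE1680) (BT.leaf cE1681)) (BT.leaf cE1682)) (BT.node 1684 (BT.node 1683 (BT.leaf cE1683) (BT.leaf cE1684)) (BT.leaf cE1685))))))))))) (BT.node 2528 (BT.node 2107 (BT.node 1896 (BT.node 1791 (BT.node 1738 (BT.node 1712 (BT.node 1699 (BT.node 1692 (BT.node 1689 (BT.node 1687 (BT.node 1686 (BT.leaf cE1686) (BT.leaf cE1687)) (BT.node 1688 (BT.leaf cE1688) (BT.leaf cE1689))) (BT.node 1691 (BT.node 1690 (BT.leaf cE1690) (BT.leaf cE1691)) (BT.leaf cE1692))) (BT.node 1696 (BT.node 1694 (BT.node 1693 (BT.leaf cE1693) (BT.leaf cE1694)) (BT.node 1695 (BT.leaf cE1695) (BT.leaf cE1696))) (BT.node 1698 (BT.node 1697 (BT.leaf cE1697) (BT.leaf cE1698)) (BT.leaf cE1699)))) (BT.node 1706 (BT.node 1703 (BT.node 1701 (BT.node 1700 (BT.leaf cE1700) (BT.leaf cE1701)) (BT.node 1702 (BT.leaf cE1702) (BT.leaf cE1703))) (BT.node 1705 (BT.node 1704 (BT.leaf cE1704) (BT.leaf cE1705)) (BT.leaf cE1706))) (BT.node 1709 (BT.node 1708 (BT.node 1707 (BT.leaf cE1707) (BT.leaf cE1708)) (BT.leaf cE1709)) (BT.node 1711 (BT.node 1710 (BT.leaf cE1710) (BT.leaf cE1711)) (BT.leaf cE1712))))) (BT.node 1725 (BT.node 1719 (BT.node 1716 (BT.node 1714 (BT.node 1713 (BT.leaf cE1713) (BT.leaf cE1714)) (BT.node 1715 (BT.leaf cE1715) (BT.leaf cE1716))) (BT.node 1718 (BT.node 1717 (BT.leaf cE1717) (BT.leaf cE1718)) (BT.leaf cE1719))) (BT.node 1722 (BT.node 1721 (BT.node 1720 (BT.leaf cE1720) (BT.leaf cE1721)) (BT.leaf cE1722)) (BT.node 1724 (BT.node 1723 (BT.leaf cE1723) (BT.leaf cE1724)) (BT.leaf cE1725)))) (BT.node 1732 (BT.node 1729 (BT.node 1727 (BT.node 1726 (BT.leaf cE1726) (BT.leaf cE1727)) (BT.node 1728 (BT.leaf cE1728) (BT.leaf cE1729))) (BT.node 1731 (BT.node 1730 (BT.leaf cE1730) (BT.leaf cE1731)) (BT.leaf cE1732))) (BT.node 1735 (BT.node 1734 (BT.node 1733 (BT.leaf cE1733) (BT.leaf cE1734)) (BT.leaf cE1735)) (BT.node 1737 (BT.node 1736 (BT.leaf cE1736) (BT.leaf cE1737)) (BT.leaf cE1738)))))) (BT.node 1765 (BT.node 1752 (BT.node 1745 (BT.node 1742 (BT.node 1740 (BT.node 1739 (BT.leaf cE1739) (BT.leaf cE1740)) (BT.node 1741 (BT.leaf cE1741) (BT.leaf cE1742))) (BT.node 1744 (BT.node 1743 (BT.leaf cE1743) (BT.leaf cE1744)) (BT.leaf cE1745))) (BT.node 1749 (BT.node 1747 (BT.node 1746 (BT.leaf cE1746) (BT.leaf cE1747)) (BT.node 1748 (BT.leaf cE1748) (BT.leaf cE1749))) (BT.node 1751 (BT.node 1750 (BT.leaf cE1750) (BT.leaf cE1751)) (BT.leaf cE1752)))) (BT.node 1759 (BT.node 1756 (BT.node 1754 (BT.node 1753 (BT.leaf cE1753) (BT.leaf cE1754)) (BT.node 1755 (BT.leaf cE1755) (BT.leaf cE1756))) (BT.node 1758 (BT.node 1757 (BT.leaf cE1757) (BT.leaf cE1758)) (BT.leaf cE1759))) (BT.node 1762 (BT.node 1761 (BT.node 1760 (BT.leaf cE1760) (BT.leaf cE1761)) (BT.leaf cE1762)) (BT.node 1764 (BT.node 1763 (BT.leaf cE1763) (BT.leaf cE1764)) (BT.leaf cE1765))))) (BT.node 1778 (BT.node 1772 (BT.node 1769 (BT.node 1767 (BT.node 1766 (BT.leaf cE1766) (BT.leaf cE1767)) (BT.node 1768 (BT.leaf cE1768) (BT.leaf cE1769))) (BT.node 1771 (BT.node 1770 (BT.leaf cE1770) (BT.leaf cE1771)) (BT.leaf cE1772))) (BT.node 1775 (BT.node 1774 (BT.node 1773 (BT.leaf cE1773) (BT.leaf cE1774)) (BT.leaf cE1775)) (BT.node 1777 (BT.node 1776 (BT.leaf cE1776) (BT.leaf cE1777)) (BT.leaf cE1778)))) (BT.node 1785 (BT.node 1782 (BT.node 1780 (BT.node 1779 (BT.leaf cE1779) (BT.leaf cE1780)) (BT.node 1781 (BT.leaf cE1781) (BT.leaf cE1782))) (BT.node 1784 (BT.node 1783 (BT.leaf cE1783) (BT.leaf cE1784)) (BT.leaf cE1785))) (BT.node 1788 (BT.node 1787 (BT.node 1786 (BT.leaf cE1786) (BT.leaf cE1787)) (BT.leaf cE1788)) (BT.node 1790 (BT.node 1789 (BT.leaf cE1789) (BT.leaf cE1790)) (BT.leaf cE1791))))))) (BT.node 1844 (BT.node 1818 (BT.node 1805 (BT.node 1798 (BT.node 1795 (BT.node 1793 (BT.node 1792 (BT.leaf cE1792) (BT.leaf cE1793)) (BT.node 1794 (BT.leaf cE1794) (BT.leaf cE1795))) (BT.node 1797 (BT.node 1796 (BT.leaf cE1796) (BT.leaf cE1797)) (BT.leaf cE1798))) (BT.node 1802 (BT.node 1800 (BT.node 1799 (BT.leaf cE1799) (BT.leaf cE1800)) (BT.node 1801 (BT.leaf cE1801) (BT.leaf cE1802))) (BT.node 1804 (BT.node 1803 (BT.leaf cE1803) (BT.leaf cE1804)) (BT.leaf cE1805)))) (BT.node 1812 (BT.node 1809 (BT.node 1807 (BT.node 1806 (BT.leaf cE1806) (BT.leaf cE1807)) (BT.node 1808 (BT.leaf cE1808) (BT.leaf cE1809))) (BT.node 1811 (BT.node 1810 (BT.leaf cE1810) (BT.leaf cE1811)) (BT.leaf cE1812))) (BT.node 1815 (BT.node 1814 (BT.node 1813 (BT.leaf cE1813) (BT.leaf cE1814)) (BT.leaf cE1815)) (BT.node 1817 (BT.node 1816 (BT.leaf cE1816) (BT.leaf cE1817)) (BT.leaf cE1818))))) (BT.node 1831 (BT.node 1825 (BT.node 1822 (BT.node 1820 (BT.node 1819 (BT.leaf cE1819) (BT.leaf cE1820)) (BT.node 1821 (BT.leaf cE1821) (BT.leaf cE1822))) (BT.node 1824 (BT.node 1823 (BT.leaf cE1823) (BT.leaf cE1824)) (BT.leaf cE1825))) (BT.node 1828 (BT.node 1827 (BT.node 1826 (BT.leaf cE1826) (BT.leaf cE1827)) (BT.leaf cE1828)) (BT.node 1830 (BT.node 1829 (BT.leaf cE1829) (BT.leaf cE1830)) (BT.leaf cE1831)))) (BT.node 1838 (BT.node 1835 (BT.node 1833 (BT.node 1832 (BT.leaf cE1832) (BT.leaf cE1833)) (BT.node 1834 (BT.leaf cE1834) (BT.leaf cE1835))) (BT.node 1837 (BT.node 1836 (BT.leaf cE1836) (BT.leaf cE1837)) (BT.leaf cE1838))) (BT.node 1841 (BT.node 1840 (BT.node 1839 (BT.leaf cE1839) (BT.leaf cE1840)) (BT.leaf cE1841)) (BT.node 1843 (BT.node 1842 (BT.leaf cE1842) (BT.leaf cE1843)) (BT.leaf cE1844)))))) (BT.node 1870 (BT.node 1857 (BT.node 1851 (BT.node 1848 (BT.node 1846 (BT.node 1845 (BT.leaf cE1845) (BT.leaf cE1846)) (BT.node 1847 (BT.leaf cE1847) (BT.leaf cE1848))) (BT.node 1850 (BT.node 1849 (BT.leaf cE1849) (BT.leaf cE1850)) (BT.leaf cE1851))) (BT.node 1854 (BT.node 1853 (BT.node 1852 (BT.leaf cE1852) (BT.leaf cE1853)) (BT.leaf cE1854)) (BT.node 1856 (BT.node 1855 (BT.leaf cE1855) (BT.leaf cE1856)) (BT.leaf cE1857)))) (BT.node 1864 (BT.node 1861 (BT.node 1859 (BT.node 1858 (BT.leaf cE1858) (BT.leaf cE1859)) (BT.node 1860 (BT.leaf cE1860) (BT.leaf cE1861))) (BT.node 1863 (BT.node 1862 (BT.leaf cE1862) (BT.leaf cE1863)) (BT.leaf cE1864))) (BT.node 1867 (BT.node 1866 (BT.node 1865 (BT.leaf cE1865) (BT.leaf cE1866)) (BT.leaf cE1867)) (BT.node 1869 (BT.node 1868 (BT.leaf cE1868) (BT.leaf cE1869)) (BT.leaf cE1870))))) (BT.node 1883 (BT.node 1877 (BT.node 1874 (BT.node 1872 (BT.node 1871 (BT.leaf cE1871) (BT.leaf cE1872)) (BT.node 1873 (BT.leaf cE1873) (BT.leaf cE1874))) (BT.node 1876 (BT.node 1875 (BT.leaf cE1875) (BT.leaf cE1876)) (BT.leaf cE1877))) (BT.node 1880 (BT.node 1879 (BT.node 1878 (BT.leaf cE1878) (BT.leaf cE1879)) (BT.leaf cE1880)) (BT.node 1882 (BT.node 1881 (BT.leaf cE1881) (BT.leaf cE1882)) (BT.leaf cE1883)))) (BT.node 1890 (BT.node 1887 (BT.node 1885 (BT.node 1884 (BT.leaf cE1884) (BT.leaf cE1885)) (BT.node 1886 (BT.leaf cE1886) (BT.leaf cE1887))) (BT.node 1889 (BT.node 1888 (BT.leaf cE1888) (BT.leaf cE1889)) (BT.leaf cE1890))) (BT.node 1893 (BT.node 1892 (BT.node 1891 (BT.leaf cE1891) (BT.leaf cE1892)) (BT.leaf cE1893)) (BT.node 1895 (BT.node 1894 (BT.leaf cE1894) (BT.leaf cE1895)) (BT.leaf cE1896)))))))) (BT.node 2002 (BT.node 1949 (BT.node 1923 (BT.node 1910 (BT.node 1903 (BT.node 1900 (BT.node 1898 (BT.node 1897 (BT.leaf cE1897) (BT.leaf cE1898)) (BT.node 1899 (BT.leaf cE1899) (BT.leaf cE1900))) (BT.node 1902 (BT.node 1901 (BT.leaf cE1901) (BT.leaf cE1902)) (BT.leaf cE1903))) (BT.node 1907 (BT.node 1905 (BT.node 1904 (BT.leaf cE1904) (BT.leaf cE1905)) (BT.node 1906 (BT.leaf cE1906) (BT.leaf cE1907))) (BT.node 1909 (BT.node 1908 (BT.leaf cE1908) (BT.leaf cE1909)) (BT.leaf cE1910)))) (BT.node 1917 (BT.node 1914 (BT.node 1912 (BT.node 1911 (BT.leaf cE1911) (BT.leaf cE1912)) (BT.node 1913 (BT.leaf cE1913) (BT.leaf cE1914))) (BT.node 1916 (BT.node 1915 (BT.leaf cE1915) (BT.leaf cE1916)) (BT.leaf cE1917))) (BT.node 1920 (BT.node 1919 (BT.node 1918 (BT.leaf cE1918) (BT.leaf cE1919)) (BT.leaf cE1920)) (BT.node 1922 (BT.node 1921 (BT.leaf cE1921) (BT.leaf cE1922)) (BT.leaf cE1923))))) (BT.node 1936 (BT.node 1930 (BT.node 1927 (BT.node 1925 (BT.node 1924 (BT.leaf cE1924) (BT.leaf cE1925)) (BT.node 1926 (BT.leaf cE1926) (BT.leaf cE1927))) (BT.node 1929 (BT.node 1928 (BT.leaf cE1928) (BT.leaf cE1929)) (BT.leaf cE1930))) (BT.node 1933 (BT.node 1932 (BT.node 1931 (BT.leaf cE1931) (BT.leaf cE1932)) (BT.leaf cE1933)) (BT.node 1935 (BT.node 1934 (BT.leaf cE1934) (BT.leaf cE1935)) (BT.leaf cE1936)))) (BT.node 1943 (BT.node 1940 (BT.node 1938 (BT.node 1937 (BT.leaf cE1937) (BT.leaf cE1938)) (BT.node 1939 (BT.leaf cE1939) (BT.leaf cE1940))) (BT.node 1942 (BT.node 1941 (BT.leaf cE1941) (BT.leaf cE1942)) (BT.leaf cE1943))) (BT.node 1946 (BT.node 1945 (BT.node 1944 (BT.leaf cE1944) (BT.leaf cE1945)) (BT.leaf cE1946)) (BT.node 1948 (BT.node 1947 (BT.leaf cE1947) (BT.leaf cE1948)) (BT.leaf cE1949)))))) (BT.node 1976 (BT.node 1963 (BT.node 1956 (BT.node 1953 (BT.node 1951 (BT.node 1950 (BT.leaf cE1950) (BT.leaf cE1951)) (BT.node 1952 (BT.leaf cE1952) (BT.leaf cE1953))) (BT.node 1955 (BT.node 1954 (BT.leaf cE1954) (BT.leaf cE1955)) (BT.leaf cE1956))) (BT.node 1960 (BT.node 1958 (BT.node 1957 (BT.leaf cE1957) (BT.leaf cE1958)) (BT.node 1959 (BT.leaf cE1959) (BT.leaf cE1960))) (BT.node 1962 (BT.node 1961 (BT.leaf cE1961) (BT.leaf cE1962)) (BT.leaf cE1963)))) (BT.node 1970 (BT.node 1967 (BT.node 1965 (BT.node 1964 (BT.leaf cE1964) (BT.leaf cE1965)) (BT.node 1966 (BT.leaf cE1966) (BT.leaf cE1967))) (BT.node 1969 (BT.node 1968 (BT.leaf cE1968) (BT.leaf cE1969)) (BT.leaf cE1970))) (BT.node 1973 (BT.node 1972 (BT.node 1971 (BT.leaf cE1971) (BT.leaf cE1972)) (BT.leaf cE1973)) (BT.node 1975 (BT.node 1974 (BT.leaf cE1974) (BT.leaf cE1975)) (BT.leaf cE1976))))) (BT.node 1989 (BT.node 1983 (BT.node 1980 (BT.node 1978 (BT.node 1977 (BT.leaf cE1977) (BT.leaf cE1978)) (BT.node 1979 (BT.leaf cE1979) (BT.leaf cE1980))) (BT.node 1982 (BT.node 1981 (BT.leaf cE1981) (BT.leaf cE1982)) (BT.leaf cE1983))) (BT.node 1986 (BT.node 1985 (BT.node 1984 (BT.leaf cE1984) (BT.leaf cE1985)) (BT.leaf cE1986)) (BT.node 1988 (BT.node 1987 (BT.leaf cE1987) (BT.leaf cE1988)) (BT.leaf cE1989)))) (BT.node 1996 (BT.node 1993 (BT.node 1991 (BT.node 1990 (BT.leaf cE1990) (BT.leaf cE1991)) (BT.node 1992 (BT.leaf cE1992) (BT.leaf cE1993))) (BT.node 1995 (BT.node 1994 (BT.leaf cE1994) (BT.leaf cE1995)) (BT.leaf cE1996))) (BT.node 1999 (BT.node 1998 (BT.node 1997 (BT.leaf cE1997) (BT.leaf cE1998)) (BT.leaf cE1999)) (BT.node 2001 (BT.node 2000 (BT.leaf cE2000) (BT.leaf cE2001)) (BT.leaf cE2002))))))) (BT.node 2055 (BT.node 2029 (BT.node 2016 (BT.node 2009 (BT.node 2006 (BT.node 2004 (BT.node 2003 (BT.leaf cE2003) (BT.leaf cE2004)) (BT.node 2005 (BT.leaf cE2005) (BT.leaf cE2006))) (BT.node 2008 (BT.node 2007 (BT.leaf cE2007) (BT.leaf cE2008)) (BT.leaf cE2009))) (BT.node 2013 (BT.node 2011 (BT.node 2010 (BT.leaf cE2010) (BT.leaf cE2011)) (BT.node 2012 (BT.leaf cE2012) (BT.leaf cE2013))) (BT.node 2015 (BT.node 2014 (BT.leaf cE2014) (BT.leaf cE2015)) (BT.leaf cE2016)))) (BT.node 2023 (BT.node 2020 (BT.node 2018 (BT.node 2017 (BT.leaf cE2017) (BT.leaf cE2018)) (BT.node 2019 (BT.leaf cE2019) (BT.leaf cE2020))) (BT.node 2022 (BT.node 2021 (BT.leaf cE2021) (BT.leaf cE2022)) (BT.leaf cE2023))) (BT.node 2026 (BT.node 2025 (BT.node 2024 (BT.leaf cE2024) (BT.leaf cE2025)) (BT.leaf cE2026)) (BT.node 2028 (BT.node 2027 (BT.leaf cE2027) (BT.leaf cE2028)) (BT.leaf cE2029))))) (BT.node 2042 (BT.node 2036 (BT.node 2033 (BT.node 2031 (BT.node 2030 (BT.leaf cE2030) (BT.leaf cE2031)) (BT.node 2032 (BT.leaf cE2032) (BT.leaf cE2033))) (BT.node 2035 (BT.node 2034 (BT.leaf cE2034) (BT.leaf cE2035)) (BT.leaf cE2036))) (BT.node 2039 (BT.node 2038 (BT.node 2037 (BT.leaf cE2037) (BT.leaf cE2038)) (BT.leaf cE2039)) (BT.node 2041 (BT.node 2040 (BT.leaf cE2040) (BT.leaf cE2041)) (BT.leaf cE2042)))) (BT.node 2049 (BT.node 2046 (BT.node 2044 (BT.node 2043 (BT.leaf cE2043) (BT.leaf cE2044)) (BT.node 2045 (BT.leaf cE2045) (BT.leaf cE2046))) (BT.node 2048 (BT.node 2047 (BT.leaf cE2047) (BT.leaf cE2048)) (BT.leaf cE2049))) (BT.node 2052 (BT.node 2051 (BT.node 2050 (BT.leaf cE2050) (BT.leaf cE2051)) (BT.leaf cE2052)) (BT.node 2054 (BT.node 2053 (BT.leaf cE2053) (BT.leaf cE2054)) (BT.leaf cE2055)))))) (BT.node 2081 (BT.node 2068 (BT.node 2062 (BT.node 2059 (BT.node 2057 (BT.node 2056 (BT.leaf cE2056) (BT.leaf cE2057)) (BT.node 2058 (BT.leaf cE2058) (BT.leaf cE2059))) (BT.node 2061 (BT.node 2060 (BT.leaf cE2060) (BT.leaf cE2061)) (BT.leaf cE2062))) (BT.node 2065 (BT.node 2064 (BT.node 2063 (BT.leaf cE2063) (BT.leaf cE2064)) (BT.leaf cE2065)) (BT.node 2067 (BT.node 2066 (BT.leaf cE2066) (BT.leaf cE2067)) (BT.leaf cE2068)))) (BT.node 2075 (BT.node 2072 (BT.node 2070 (BT.node 2069 (BT.leaf cE2069) (BT.leaf cE2070)) (BT.node 2071 (BT.leaf cE2071) (BT.leaf cE2072))) (BT.node 2074 (BT.node 2073 (BT.leaf cE2073) (BT.leaf cE2074)) (BT.leaf cE2075))) (BT.node 2078 (BT.node 2077 (BT.node 2076 (BT.leaf cE2076) (BT.leaf cE2077)) (BT.leaf cE2078)) (BT.node 2080 (BT.node 2079 (BT.leaf cE2079) (BT.leaf cE2080)) (BT.leaf cE2081))))) (BT.node 2094 (BT.node 2088 (BT.node 2085 (BT.node 2083 (BT.node 2082 (BT.leaf cE2082) (BT.leaf cE2083)) (BT.node 2084 (BT.leaf cE2084) (BT.leaf cE2085))) (BT.node 2087 (BT.node 2086 (BT.leaf cE2086) (BT.leaf cE2087)) (BT.leaf cE2088))) (BT.node 2091 (BT.node 2090 (BT.node 2089 (BT.leaf cE2089) (BT.leaf cE2090)) (BT.leaf cE2091)) (BT.node 2093 (BT.node 2092 (BT.leaf cE2092) (BT.leaf cE2093)) (BT.leaf cE2094)))) (BT.node 2101 (BT.node 2098 (BT.node 2096 (BT.node 2095 (BT.leaf cE2095) (BT.leaf cE2096)) (BT.node 2097 (BT.leaf cE2097) (BT.leaf cE2098))) (BT.node 2100 (BT.node 2099 (BT.leaf cE2099) (BT.leaf cE2100)) (BT.leaf cE2101))) (BT.node 2104 (BT.node 2103 (BT.node 2102 (BT.leaf cE2102) (BT.leaf cE2103)) (BT.leaf cE2104)) (BT.node 2106 (BT.node 2105 (BT.leaf cE2105) (BT.leaf cE2106)) (BT.leaf cE2107))))))))) (BT.node 2318 (BT.node 2213 (BT.node 2160 (BT.node 2134 (BT.node 2121 (BT.node 2114 (BT.node 2111 (BT.node 2109 (BT.node 2108 (BT.leaf cE2108) (BT.leaf cE2109)) (BT.node 2110 (BT.leaf cE2110) (BT.leaf cE2111))) (BT.node 2113 (BT.node 2112 (BT.leaf cE2112) (BT.leaf cE2113)) (BT.leaf cE2114))) (BT.node 2118 (BT.node 2116 (BT.node 2115 (BT.leaf cE2115) (BT.leaf cE2116)) (BT.node 2117 (BT.leaf cE2117) (BT.leaf cE2118))) (BT.node 2120 (BT.node 2119 (BT.leaf cE2119) (BT.leaf cE2120)) (BT.leaf cE2121)))) (BT.node 2128 (BT.node 2125 (BT.node 2123 (BT.node 2122 (BT.leaf cE2122) (BT.leaf cE2123)) (BT.node 2124 (BT.leaf cE2124) (BT.leaf cE2125))) (BT.node 2127 (BT.node 2126 (BT.leaf cE2126) (BT.leaf cE2127)) (BT.leaf cE2128))) (BT.node 2131 (BT.node 2130 (BT.node 2129 (BT.leaf cE2129) (BT.leaf cE2130)) (BT.leaf cE2131)) (BT.node 2133 (BT.node 2132 (BT.leaf cE2132) (BT.leaf cE2133)) (BT.leaf cE2134))))) (BT.node 2147 (BT.node 2141 (BT.node 2138 (BT.node 2136 (BT.node 2135 (BT.leaf cE2135) (BT.leaf cE2136)) (BT.node 2137 (BT.leaf cE2137) (BT.leaf cE2138))) (BT.node 2140 (BT.node 2139 (BT.leaf cE2139) (BT.leaf cE2140)) (BT.leaf cE2141))) (BT.node 2144 (BT.node 2143 (BT.node 2142 (BT.leaf cE2142) (BT.leaf cE2143)) (BT.leaf cE2144)) (BT.node 2146 (BT.node 2145 (BT.leaf cE2145) (BT.leaf cE2146)) (BT.leaf cE2147)))) (BT.node 2154 (BT.node 2151 (BT.node 2149 (BT.node 2148 (BT.leaf cE2148) (BT.leaf cE2149)) (BT.node 2150 (BT.leaf cE2150) (BT.leaf cE2151))) (BT.node 2153 (BT.node 2152 (BT.leaf cE2152) (BT.leaf cE2153)) (BT.leaf cE2154))) (BT.node 2157 (BT.node 2156 (BT.node 2155 (BT.leaf cE2155) (BT.leaf cE2156)) (BT.leaf cE2157)) (BT.node 2159 (BT.node 2158 (BT.leaf cE2158) (BT.leaf cE2159)) (BT.leaf cE2160)))))) (BT.node 2187 (BT.node 2174 (BT.node 2167 (BT.node 2164 (BT.node 2162 (BT.node 2161 (BT.leaf cE2161) (BT.leaf cE2162)) (BT.node 2163 (BT.leaf cE2163) (BT.leaf cE2164))) (BT.node 2166 (BT.node 2165 (BT.leaf cE2165) (BT.leaf cE2166)) (BT.leaf cE2167))) (BT.node 2171 (BT.node 2169 (BT.node 2168 (BT.leaf cE2168) (BT.leaf cE2169)) (BT.node 2170 (BT.leaf cE2170) (BT.leaf cE2171))) (BT.node 2173 (BT.node 2172 (BT.leaf cE2172) (BT.leaf cE2173)) (BT.leaf cE2174)))) (BT.node 2181 (BT.node 2178 (BT.node 2176 (BT.node 2175 (BT.leaf cE2175) (BT.leaf cE2176)) (BT.node 2177 (BT.leaf cE2177) (BT.leaf cE2178))) (BT.node 2180 (BT.node 2179 (BT.leaf cE2179) (BT.leaf cE2180)) (BT.leaf cE2181))) (BT.node 2184 (BT.node 2183 (BT.node 2182 (BT.leaf cE2182) (BT.leaf cE2183)) (BT.leaf cE2184)) (BT.node 2186 (BT.node 2185 (BT.leaf cE2185) (BT.leaf cE2186)) (BT.leaf cE2187))))) (BT.node 2200 (BT.node 2194 (BT.node 2191 (BT.node 2189 (BT.node 2188 (BT.leaf cE2188) (BT.leaf cE2189)) (BT.node 2190 (BT.leaf cE2190) (BT.leaf cE2191))) (BT.node 2193 (BT.node 2192 (BT.leaf cE2192) (BT.leaf cE2193)) (BT.leaf cE2194))) (BT.node 2197 (BT.node 2196 (BT.node 2195 (BT.leaf cE2195) (BT.leaf cE2196)) (BT.leaf cE2197)) (BT.node 2199 (BT.node 2198 (BT.leaf cE2198) (BT.leaf cE2199)) (BT.leaf cE2200)))) (BT.node 2207 (BT.node 2204 (BT.node 2202 (BT.node 2201 (BT.leaf cE2201) (BT.leaf cE2202)) (BT.node 2203 (BT.leaf cE2203) (BT.leaf cE2204))) (BT.node 2206 (BT.node 2205 (BT.leaf cE2205) (BT.leaf cE2206)) (BT.leaf cE2207))) (BT.node 2210 (BT.node 2209 (BT.node 2208 (BT.leaf cE2208) (BT.leaf cE2209)) (BT.leaf cE2210)) (BT.node 2212 (BT.node 2211 (BT.leaf cE2211) (BT.leaf cE2212)) (BT.leaf cE2213))))))) (BT.node 2266 (BT.node 2240 (BT.node 2227 (BT.node 2220 (BT.node 2217 (BT.node 2215 (BT.node 2214 (BT.leaf cE2214) (BT.leaf cE2215)) (BT.node 2216 (BT.leaf cE2216) (BT.leaf cE2217))) (BT.node 2219 (BT.node 2218 (BT.leaf cE2218) (BT.leaf cE2219)) (BT.leaf cE2220))) (BT.node 2224 (BT.node 2222 (BT.node 2221 (BT.leaf cE2221) (BT.leaf cE2222)) (BT.node 2223 (BT.leaf cE2223) (BT.leaf cE2224))) (BT.node 2226 (BT.node 2225 (BT.leaf cE2225) (BT.leaf cE2226)) (BT.leaf cE2227)))) (BT.node 2234 (BT.node 2231 (BT.node 2229 (BT.node 2228 (BT.leaf cE2228) (BT.leaf cE2229)) (BT.node 2230 (BT.leaf cE2230) (BT.leaf cE2231))) (BT.node 2233 (BT.node 2232 (BT.leaf cE2232) (BT.leaf cE2233)) (BT.leaf cE2234))) (BT.node 2237 (BT.node 2236 (BT.node 2235 (BT.leaf cE2235) (BT.leaf cE2236)) (BT.leaf cE2237)) (BT.node 2239 (BT.node 2238 (BT.leaf cE2238) (BT.leaf cE2239)) (BT.leaf cE2240))))) (BT.node 2253 (BT.node 2247 (BT.node 2244 (BT.node 2242 (BT.node 2241 (BT.leaf cE2241) (BT.leaf cE2242)) (BT.node 2243 (BT.leaf cE2243) (BT.leaf cE2244))) (BT.node 2246 (BT.node 2245 (BT.leaf cE2245) (BT.leaf cE2246)) (BT.leaf cE2247))) (BT.node 2250 (BT.node 2249 (BT.node 2248 (BT.leaf cE2248) (BT.leaf cE2249)) (BT.leaf cE2250)) (BT.node 2252 (BT.node 2251 (BT.leaf cE2251) (BT.leaf cE2252)) (BT.leaf cE2253)))) (BT.node 2260 (BT.node 2257 (BT.node 2255 (BT.node 2254 (BT.leaf cE2254) (BT.leaf cE2255)) (BT.node 2256 (BT.leaf cE2256) (BT.leaf cE2257))) (BT.node 2259 (BT.node 2258 (BT.leaf cE2258) (BT.leaf cE2259)) (BT.leaf cE2260))) (BT.node 2263 (BT.node 2262 (BT.node 2261 (BT.leaf cE2261) (BT.leaf cE2262)) (BT.leaf cE2263)) (BT.node 2265 (BT.node 2264 (BT.leaf cE2264) (BT.leaf cE2265)) (BT.leaf cE2266)))))) (BT.node 2292 (BT.node 2279 (BT.node 2273 (BT.node 2270 (BT.node 2268 (BT.node 2267 (BT.leaf cE2267) (BT.leaf cE2268)) (BT.node 2269 (BT.leaf cE2269) (BT.leaf cE2270))) (BT.node 2272 (BT.node 2271 (BT.leaf cE2271) (BT.leaf cE2272)) (BT.leaf cE2273))) (BT.node 2276 (BT.node 2275 (BT.node 2274 (BT.leaf cE2274) (BT.leaf cE2275)) (BT.leaf cE2276)) (BT.node 2278 (BT.node 2277 (BT.leaf cE2277) (BT.leaf cE2278)) (BT.leaf cE2279)))) (BT.node 2286 (BT.node 2283 (BT.node 2281 (BT.node 2280 (BT.leaf cE2280) (BT.leaf cE2281)) (BT.node 2282 (BT.leaf cE2282) (BT.leaf cE2283))) (BT.node 2285 (BT.node 2284 (BT.leaf cE2284) (BT.leaf cE2285)) (BT.leaf cE2286))) (BT.node 2289 (BT.node 2288 (BT.node 2287 (BT.leaf cE2287) (BT.leaf cE2288)) (BT.leaf cE2289)) (BT.node 2291 (BT.node 2290 (BT.leaf cE2290) (BT.leaf cE2291)) (BT.leaf cE2292))))) (BT.node 2305 (BT.node 2299 (BT.node 2296 (BT.node 2294 (BT.node 2293 (BT.leaf cE2293) (BT.leaf cE2294)) (BT.node 2295 (BT.leaf cE2295) (BT.leaf cE2296))) (BT.node 2298 (BT.node 2297 (BT.leaf cE2297) (BT.leaf cE2298)) (BT.leaf cE2299))) (BT.node 2302 (BT.node 2301 (BT.node 2300 (BT.leaf cE2300) (BT.leaf cE2301)) (BT.leaf cE2302)) (BT.node 2304 (BT.node 2303 (BT.leaf cE2303) (BT.leaf cE2304)) (BT.leaf cE2305)))) (BT.node 2312 (BT.node 2309 (BT.node 2307 (BT.node 2306 (BT.leaf cE2306) (BT.leaf cE2307)) (BT.node 2308 (BT.leaf cE2308) (BT.leaf cE2309))) (BT.node 2311 (BT.node 2310 (BT.leaf cE2310) (BT.leaf cE2311)) (BT.leaf cE2312))) (BT.node 2315 (BT.node 2314 (BT.node 2313 (BT.leaf cE2313) (BT.leaf cE2314)) (BT.leaf cE2315)) (BT.node 2317 (BT.node 2316 (BT.leaf cE2316) (BT.leaf cE2317)) (BT.leaf cE2318)))))))) (BT.node 2423 (BT.node 2371 (BT.node 2345 (BT.node 2332 (BT.node 2325 (BT.node 2322 (BT.node 2320 (BT.node 2319 (BT.leaf cE2319) (BT.leaf cE2320)) (BT.node 2321 (BT.leaf cE2321) (BT.leaf cE2322))) (BT.node 2324 (BT.node 2323 (BT.leaf cE2323) (BT.leaf cE2324)) (BT.leaf cE2325))) (BT.node 2329 (BT.node 2327 (BT.node 2326 (BT.leaf cE2326) (BT.leaf cE2327)) (BT.node 2328 (BT.leaf cE2328) (BT.leaf cE2329))) (BT.node 2331 (BT.node 2330 (BT.leaf cE2330) (BT.leaf cE2331)) (BT.leaf cE2332)))) (BT.node 2339 (BT.node 2336 (BT.node 2334 (BT.node 2333 (BT.leaf cE2333) (BT.leaf cE2334)) (BT.node 2335 (BT.leaf cE2335) (BT.leaf cE2336))) (BT.node 2338 (BT.node 2337 (BT.leaf cE2337) (BT.leaf cE2338)) (BT.leaf cE2339))) (BT.node 2342 (BT.node 2341 (BT.node 2340 (BT.leaf cE2340) (BT.leaf cE2341)) (BT.leaf cE2342)) (BT.node 2344 (BT.node 2343 (BT.leaf cE2343) (BT.leaf cE2344)) (BT.leaf cE2345))))) (BT.node 2358 (BT.node 2352 (BT.node 2349 (BT.node 2347 (BT.node 2346 (BT.leaf cE2346) (BT.leaf cE2347)) (BT.node 2348 (BT.leaf cE2348) (BT.leaf cE2349))) (BT.node 2351 (BT.node 2350 (BT.leaf cE2350) (BT.leaf cE2351)) (BT.leaf cE2352))) (BT.node 2355 (BT.node 2354 (BT.node 2353 (BT.leaf cE2353) (BT.leaf cE2354)) (BT.leaf cE2355)) (BT.node 2357 (BT.node 2356 (BT.leaf cE2356) (BT.leaf cE2357)) (BT.leaf cE2358)))) (BT.node 2365 (BT.node 2362 (BT.node 2360 (BT.node 2359 (BT.leaf cE2359) (BT.leaf cE2360)) (BT.node 2361 (BT.leaf cE2361) (BT.leaf cE2362))) (BT.node 2364 (BT.node 2363 (BT.leaf cE2363) (BT.leaf cE2364)) (BT.leaf cE2365))) (BT.node 2368 (BT.node 2367 (BT.node 2366 (BT.leaf cE2366) (BT.leaf cE2367)) (BT.leaf cE2368)) (BT.node 2370 (BT.node 2369 (BT.leaf cE2369) (BT.leaf cE2370)) (BT.leaf cE2371)))))) (BT.node 2397 (BT.node 2384 (BT.node 2378 (BT.node 2375 (BT.node 2373 (BT.node 2372 (BT.leaf cE2372) (BT.leaf cE2373)) (BT.node 2374 (BT.leaf cE2374) (BT.leaf cE2375))) (BT.node 2377 (BT.node 2376 (BT.leaf cE2376) (BT.leaf cE2377)) (BT.leaf cE2378))) (BT.node 2381 (BT.node 2380 (BT.node 2379 (BT.leaf cE2379) (BT.leaf cE2380)) (BT.leaf cE2381)) (BT.node 2383 (BT.node 2382 (BT.leaf cE2382) (BT.leaf cE2383)) (BT.leaf cE2384)))) (BT.node 2391 (BT.node 2388 (BT.node 2386 (BT.node 2385 (BT.leaf cE2385) (BT.leaf cE2386)) (BT.node 2387 (BT.leaf cE2387) (BT.leaf cE2388))) (BT.node 2390 (BT.node 2389 (BT.leaf cE2389) (BT.leaf cE2390)) (BT.leaf cE2391))) (BT.node 2394 (BT.node 2393 (BT.node 2392 (BT.leaf cE2392) (BT.leaf cE2393)) (BT.leaf cE2394)) (BT.node 2396 (BT.node 2395 (BT.leaf cE2395) (BT.leaf cE2396)) (BT.leaf cE2397))))) (BT.node 2410 (BT.node 2404 (BT.node 2401 (BT.node 2399 (BT.node 2398 (BT.leaf cE2398) (BT.leaf cE2399)) (BT.node 2400 (BT.leaf cE2400) (BT.leaf cE2401))) (BT.node 2403 (BT.node 2402 (BT.leaf cE2402) (BT.leaf cE2403)) (BT.leaf cE2404))) (BT.node 2407 (BT.node 2406 (BT.node 2405 (BT.leaf cE2405) (BT.leaf cE2406)) (BT.leaf cE2407)) (BT.node 2409 (BT.node 2408 (BT.leaf cE2408) (BT.leaf cE2409)) (BT.leaf cE2410)))) (BT.node 2417 (BT.node 2414 (BT.node 2412 (BT.node 2411 (BT.leaf cE2411) (BT.leaf cE2412)) (BT.node 2413 (BT.leaf cE2413) (BT.leaf cE2414))) (BT.node 2416 (BT.node 2415 (BT.leaf cE2415) (BT.leaf cE2416)) (BT.leaf cE2417))) (BT.node 2420 (BT.node 2419 (BT.node 2418 (BT.leaf cE2418) (BT.leaf cE2419)) (BT.leaf cE2420)) (BT.node 2422 (BT.node 2421 (BT.leaf cE2421) (BT.leaf cE2422)) (BT.leaf cE2423))))))) (BT.node 2476 (BT.node 2450 (BT.node 2437 (BT.node 2430 (BT.node 2427 (BT.node 2425 (BT.node 2424 (BT.leaf cE2424) (BT.leaf cE2425)) (BT.node 2426 (BT.leaf cE2426) (BT.leaf cE2427))) (BT.node 2429 (BT.node 2428 (BT.leaf cE2428) (BT.leaf cE2429)) (BT.leaf cE2430))) (BT.node 2434 (BT.node 2432 (BT.node 2431 (BT.leaf cE2431) (BT.leaf cE2432)) (BT.node 2433 (BT.leaf cE2433) (BT.leaf cE2434))) (BT.node 2436 (BT.node 2435 (BT.leaf cE2435) (BT.leaf cE2436)) (BT.leaf cE2437)))) (BT.node 2444 (BT.node 2441 (BT.node 2439 (BT.node 2438 (BT.leaf cE2438) (BT.leaf cE2439)) (BT.node 2440 (BT.leaf cE2440) (BT.leaf cE2441))) (BT.node 2443 (BT.node 2442 (BT.leaf cE2442) (BT.leaf cE2443)) (BT.leaf cE2444))) (BT.node 2447 (BT.node 2446 (BT.node 2445 (BT.leaf cE2445) (BT.leaf cE2446)) (BT.leaf cE2447)) (BT.node 2449 (BT.node 2448 (BT.leaf cE2448) (BT.leaf cE2449)) (BT.leaf cE2450))))) (BT.node 2463 (BT.node 2457 (BT.node 2454 (BT.node 2452 (BT.node 2451 (BT.leaf cE2451) (BT.leaf cE2452)) (BT.node 2453 (BT.leaf cE2453) (BT.leaf cE2454))) (BT.node 2456 (BT.node 2455 (BT.leaf cE2455) (BT.leaf cE2456)) (BT.leaf cE2457))) (BT.node 2460 (BT.node 2459 (BT.node 2458 (BT.leaf cE2458) (BT.leaf cE2459)) (BT.leaf cE2460)) (BT.node 2462 (BT.node 2461 (BT.leaf cE2461) (BT.leaf cE2462)) (BT.leaf cE2463)))) (BT.node 2470 (BT.node 2467 (BT.node 2465 (BT.node 2464 (BT.leaf cE2464) (BT.leaf cE2465)) (BT.node 2466 (BT.leaf cE2466) (BT.leaf cE2467))) (BT.node 2469 (BT.node 2468 (BT.leaf cE2468) (BT.leaf cE2469)) (BT.leaf cE2470))) (BT.node 2473 (BT.node 2472 (BT.node 2471 (BT.leaf cE2471) (BT.leaf cE2472)) (BT.leaf cE2473)) (BT.node 2475 (BT.node 2474 (BT.leaf cE2474) (BT.leaf cE2475)) (BT.leaf cE2476)))))) (BT.node 2502 (BT.node 2489 (BT.node 2483 (BT.node 2480 (BT.node 2478 (BT.node 2477 (BT.leaf cE2477) (BT.leaf cE2478)) (BT.node 2479 (BT.leaf cE2479) (BT.leaf cE2480))) (BT.node 2482 (BT.node 2481 (BT.leaf cE2481) (BT.leaf cE2482)) (BT.leaf cE2483))) (BT.node 2486 (BT.node 2485 (BT.node 2484 (BT.leaf cE2484) (BT.leaf cE2485)) (BT.leaf cE2486)) (BT.node 2488 (BT.node 2487 (BT.leaf cE2487) (BT.leaf cE2488)) (BT.leaf cE2489)))) (BT.node 2496 (BT.node 2493 (BT.node 2491 (BT.node 2490 (BT.leaf cE2490) (BT.leaf cE2491)) (BT.node 2492 (BT.leaf cE2492) (BT.leaf cE2493))) (BT.node 2495 (BT.node 2494 (BT.leaf cE2494) (BT.leaf cE2495)) (BT.leaf cE2496))) (BT.node 2499 (BT.node 2498 (BT.node 2497 (BT.leaf cE2497) (BT.leaf cE2498)) (BT.leaf cE2499)) (BT.node 2501 (BT.node 2500 (BT.leaf cE2500) (BT.leaf cE2501)) (BT.leaf cE2502))))) (BT.node 2515 (BT.node 2509 (BT.node 2506 (BT.node 2504 (BT.node 2503 (BT.leaf cE2503) (BT.leaf cE2504)) (BT.node 2505 (BT.leaf cE2505) (BT.leaf cE2506))) (BT.node 2508 (BT.node 2507 (BT.leaf cE2507) (BT.leaf cE2508)) (BT.leaf cE2509))) (BT.node 2512 (BT.node 2511 (BT.node 2510 (BT.leaf cE2510) (BT.leaf cE2511)) (BT.leaf cE2512)) (BT.node 2514 (BT.node 2513 (BT.leaf cE2513) (BT.leaf cE2514)) (BT.leaf cE2515)))) (BT.node 2522 (BT.node 2519 (BT.node 2517 (BT.node 2516 (BT.leaf cE2516) (BT.leaf cE2517)) (BT.node 2518 (BT.leaf cE2518) (BT.leaf cE2519))) (BT.node 2521 (BT.node 2520 (BT.leaf cE2520) (BT.leaf cE2521)) (BT.leaf cE2522))) (BT.node 2525 (BT.node 2524 (BT.node 2523 (BT.leaf cE2523) (BT.leaf cE2524)) (BT.leaf cE2525)) (BT.node 2527 (BT.node 2526 (BT.leaf cE2526) (BT.leaf cE2527)) (BT.leaf cE2528)))))))))) (BT.node 2950 (BT.node 2739 (BT.node 2634 (BT.node 2581 (BT.node 2555 (BT.node 2542 (BT.node 2535 (BT.node 2532 (BT.node 2530 (BT.node 2529 (BT.leaf cE2529) (BT.leaf cE2530)) (BT.node 2531 (BT.leaf cE2531) (BT.leaf cE2532))) (BT.node 2534 (BT.node 2533 (BT.leaf cE2533) (BT.leaf cE2534)) (BT.leaf cE2535))) (BT.node 2539 (BT.node 2537 (BT.node 2536 (BT.leaf cE2536) (BT.leaf cE2537)) (BT.node 2538 (BT.leaf cE2538) (BT.leaf cE2539))) (BT.node 2541 (BT.node 2540 (BT.leaf cE2540) (BT.leaf cE2541)) (BT.leaf cE2542)))) (BT.node 2549 (BT.node 2546 (BT.node 2544 (BT.node 2543 (BT.leaf cE2543) (BT.leaf cE2544)) (BT.node 2545 (BT.leaf cE2545) (BT.leaf cE2546))) (BT.node 2548 (BT.node 2547 (BT.leaf cE2547) (BT.leaf cE2548)) (BT.leaf cE2549))) (BT.node 2552 (BT.node 2551 (BT.node 2550 (BT.leaf cE2550) (BT.leaf cE2551)) (BT.leaf cE2552)) (BT.node 2554 (BT.node 2553 (BT.leaf cE2553) (BT.leaf cE2554)) (BT.leaf cE2555))))) (BT.node 2568 (BT.node 2562 (BT.node 2559 (BT.node 2557 (BT.node 2556 (BT.leaf cE2556) (BT.leaf cE2557)) (BT.node 2558 (BT.leaf cE2558) (BT.leaf cE2559))) (BT.node 2561 (BT.node 2560 (BT.leaf cE2560) (BT.leaf cE2561)) (BT.leaf cE2562))) (BT.node 2565 (BT.node 2564 (BT.node 2563 (BT.leaf cE2563) (BT.leaf cE2564)) (BT.leaf cE2565)) (BT.node 2567 (BT.node 2566 (BT.leaf cE2566) (BT.leaf cE2567)) (BT.leaf cE2568)))) (BT.node 2575 (BT.node 2572 (BT.node 2570 (BT.node 2569 (BT.leaf cE2569) (BT.leaf cE2570)) (BT.node 2571 (BT.leaf cE2571) (BT.leaf cE2572))) (BT.node 2574 (BT.node 2573 (BT.leaf cE2573) (BT.leaf cE2574)) (BT.leaf cE2575))) (BT.node 2578 (BT.node 2577 (BT.node 2576 (BT.leaf cE2576) (BT.leaf cE2577)) (BT.leaf cE2578)) (BT.node 2580 (BT.node 2579 (BT.leaf cE2579) (BT.leaf cE2580)) (BT.leaf cE2581)))))) (BT.node 2608 (BT.node 2595 (BT.node 2588 (BT.node 2585 (BT.node 2583 (BT.node 2582 (BT.leaf cE2582) (BT.leaf cE2583)) (BT.node 2584 (BT.leaf cE2584) (BT.leaf cE2585))) (BT.node 2587 (BT.node 2586 (BT.leaf cE2586) (BT.leaf cE2587)) (BT.leaf cE2588))) (BT.node 2592 (BT.node 2590 (BT.node 2589 (BT.leaf cE2589) (BT.leaf cE2590)) (BT.node 2591 (BT.leaf cE2591) (BT.leaf cE2592))) (BT.node 2594 (BT.node 2593 (BT.leaf cE2593) (BT.leaf cE2594)) (BT.leaf cE2595)))) (BT.node 2602 (BT.node 2599 (BT.node 2597 (BT.node 2596 (BT.leaf cE2596) (BT.leaf cE2597)) (BT.node 2598 (BT.leaf cE2598) (BT.leaf cE2599))) (BT.node 2601 (BT.node 2600 (BT.leaf cE2600) (BT.leaf cE2601)) (BT.leaf cE2602))) (BT.node 2605 (BT.node 2604 (BT.node 2603 (BT.leaf cE2603) (BT.leaf cE2604)) (BT.leaf cE2605)) (BT.node 2607 (BT.node 2606 (BT.leaf cE2606) (BT.leaf cE2607)) (BT.leaf cE2608))))) (BT.node 2621 (BT.node 2615 (BT.node 2612 (BT.node 2610 (BT.node 2609 (BT.leaf cE2609) (BT.leaf cE2610)) (BT.node 2611 (BT.leaf cE2611) (BT.leaf cE2612))) (BT.node 2614 (BT.node 2613 (BT.leaf cE2613) (BT.leaf cE2614)) (BT.leaf cE2615))) (BT.node 2618 (BT.node 2617 (BT.node 2616 (BT.leaf cE2616) (BT.leaf cE2617)) (BT.leaf cE2618)) (BT.node 2620 (BT.node 2619 (BT.leaf cE2619) (BT.leaf cE2620)) (BT.leaf cE2621)))) (BT.node 2628 (BT.node 2625 (BT.node 2623 (BT.node 2622 (BT.leaf cE2622) (BT.leaf cE2623)) (BT.node 2624 (BT.leaf cE2624) (BT.leaf cE2625))) (BT.node 2627 (BT.node 2626 (BT.leaf cE2626) (BT.leaf cE2627)) (BT.leaf cE2628))) (BT.node 2631 (BT.node 2630 (BT.node 2629 (BT.leaf cE2629) (BT.leaf cE2630)) (BT.leaf cE2631)) (BT.node 2633 (BT.node 2632 (BT.leaf cE2632) (BT.leaf cE2633)) (BT.leaf cE2634))))))) (BT.node 2687 (BT.node 2661 (BT.node 2648 (BT.node 2641 (BT.node 2638 (BT.node 2636 (BT.node 2635 (BT.leaf cE2635) (BT.leaf cE2636)) (BT.node 2637 (BT.leaf cE2637) (BT.leaf cE2638))) (BT.node 2640 (BT.node 2639 (BT.leaf cE2639) (BT.leaf cE2640)) (BT.leaf cE2641))) (BT.node 2645 (BT.node 2643 (BT.node 2642 (BT.leaf cE2642) (BT.leaf cE2643)) (BT.node 2644 (BT.leaf cE2644) (BT.leaf cE2645))) (BT.node 2647 (BT.node 2646 (BT.leaf cE2646) (BT.leaf cE2647)) (BT.leaf cE2648)))) (BT.node 2655 (BT.node 2652 (BT.node 2650 (BT.node 2649 (BT.leaf cE2649) (BT.leaf cE2650)) (BT.node 2651 (BT.leaf cE2651) (BT.leaf cE2652))) (BT.node 2654 (BT.node 2653 (BT.leaf cE2653) (BT.leaf cE2654)) (BT.leaf cE2655))) (BT.node 2658 (BT.node 2657 (BT.node 2656 (BT.leaf cE2656) (BT.leaf cE2657)) (BT.leaf cE2658)) (BT.node 2660 (BT.node 2659 (BT.leaf cE2659) (BT.leaf cE2660)) (BT.leaf cE2661))))) (BT.node 2674 (BT.node 2668 (BT.node 2665 (BT.node 2663 (BT.node 2662 (BT.leaf cE2662) (BT.leaf cE2663)) (BT.node 2664 (BT.leaf cE2664) (BT.leaf cE2665))) (BT.node 2667 (BT.node 2666 (BT.leaf cE2666) (BT.leaf cE2667)) (BT.leaf cE2668))) (BT.node 2671 (BT.node 2670 (BT.node 2669 (BT.leaf cE2669) (BT.leaf cE2670)) (BT.leaf cE2671)) (BT.node 2673 (BT.node 2672 (BT.leaf cE2672) (BT.leaf cE2673)) (BT.leaf cE2674)))) (BT.node 2681 (BT.node 2678 (BT.node 2676 (BT.node 2675 (BT.leaf cE2675) (BT.leaf cE2676)) (BT.node 2677 (BT.leaf cE2677) (BT.leaf cE2678))) (BT.node 2680 (BT.node 2679 (BT.leaf cE2679) (BT.leaf cE2680)) (BT.leaf cE2681))) (BT.node 2684 (BT.node 2683 (BT.node 2682 (BT.leaf cE2682) (BT.leaf cE2683)) (BT.leaf cE2684)) (BT.node 2686 (BT.node 2685 (BT.leaf cE2685) (BT.leaf cE2686)) (BT.leaf cE2687)))))) (BT.node 2713 (BT.node 2700 (BT.node 2694 (BT.node 2691 (BT.node 2689 (BT.node 2688 (BT.leaf cE2688) (BT.leaf cE2689)) (BT.node 2690 (BT.leaf cE2690) (BT.leaf cE2691))) (BT.node 2693 (BT.node 2692 (BT.leaf cE2692) (BT.leaf cE2693)) (BT.leaf cE2694))) (BT.node 2697 (BT.node 2696 (BT.node 2695 (BT.leaf cE2695) (BT.leaf cE2696)) (BT.leaf cE2697)) (BT.node 2699 (BT.node 2698 (BT.leaf cE2698) (BT.leaf cE2699)) (BT.leaf cE2700)))) (BT.node 2707 (BT.node 2704 (BT.node 2702 (BT.node 2701 (BT.leaf cE2701) (BT.leaf cE2702)) (BT.node 2703 (BT.leaf cE2703) (BT.leaf cE2704))) (BT.node 2706 (BT.node 2705 (BT.leaf cE2705) (BT.leaf cE2706)) (BT.leaf cE2707))) (BT.node 2710 (BT.node 2709 (BT.node 2708 (BT.leaf cE2708) (BT.leaf cE2709)) (BT.leaf cE2710)) (BT.node 2712 (BT.node 2711 (BT.leaf cE2711) (BT.leaf cE2712)) (BT.leaf cE2713))))) (BT.node 2726 (BT.node 2720 (BT.node 2717 (BT.node 2715 (BT.node 2714 (BT.leaf cE2714) (BT.leaf cE2715)) (BT.node 2716 (BT.leaf cE2716) (BT.leaf cE2717))) (BT.node 2719 (BT.node 2718 (BT.leaf cE2718) (BT.leaf cE2719)) (BT.leaf cE2720))) (BT.node 2723 (BT.node 2722 (BT.node 2721 (BT.leaf cE2721) (BT.leaf cE2722)) (BT.leaf cE2723)) (BT.node 2725 (BT.node 2724 (BT.leaf cE2724) (BT.leaf cE2725)) (BT.leaf cE2726)))) (BT.node 2733 (BT.node 2730 (BT.node 2728 (BT.node 2727 (BT.leaf cE2727) (BT.leaf cE2728)) (BT.node 2729 (BT.leaf cE2729) (BT.leaf cE2730))) (BT.node 2732 (BT.node 2731 (BT.leaf cE2731) (BT.leaf cE2732)) (BT.leaf cE2733))) (BT.node 2736 (BT.node 2735 (BT.node 2734 (BT.leaf cE2734) (BT.leaf cE2735)) (BT.leaf cE2736)) (BT.node 2738 (BT.node 2737 (BT.leaf cE2737) (BT.leaf cE2738)) (BT.leaf cE2739)))))))) (BT.node 2845 (BT.node 2792 (BT.node 2766 (BT.node 2753 (BT.node 2746 (BT.node 2743 (BT.node 2741 (BT.node 2740 (BT.leaf cE2740) (BT.leaf cE2741)) (BT.node 2742 (BT.leaf cE2742) (BT.leaf cE2743))) (BT.node 2745 (BT.node 2744 (BT.leaf cE2744) (BT.leaf cE2745)) (BT.leaf cE2746))) (BT.node 2750 (BT.node 2748 (BT.node 2747 (BT.leaf cE2747) (BT.leaf cE2748)) (BT.node 2749 (BT.leaf cE2749) (BT.leaf cE2750))) (BT.node 2752 (BT.node 2751 (BT.leaf cE2751) (BT.leaf cE2752)) (BT.leaf cE2753)))) (BT.node 2760 (BT.node 2757 (BT.node 2755 (BT.node 2754 (BT.leaf cE2754) (BT.leaf cE2755)) (BT.node 2756 (BT.leaf cE2756) (BT.leaf cE2757))) (BT.node 2759 (BT.node 2758 (BT.leaf cE2758) (BT.leaf cE2759)) (BT.leaf cE2760))) (BT.node 2763 (BT.node 2762 (BT.node 2761 (BT.leaf cE2761) (BT.leaf cE2762)) (BT.leaf cE2763)) (BT.node 2765 (BT.node 2764 (BT.leaf cE2764) (BT.leaf cE2765)) (BT.leaf cE2766))))) (BT.node 2779 (BT.node 2773 (BT.node 2770 (BT.node 2768 (BT.node 2767 (BT.leaf cE2767) (BT.leaf cE2768)) (BT.node 2769 (BT.leaf cE2769) (BT.leaf cE2770))) (BT.node 2772 (BT.node 2771 (BT.leaf cE2771) (BT.leaf cE2772)) (BT.leaf cE2773))) (BT.node 2776 (BT.node 2775 (BT.node 2774 (BT.leaf cE2774) (BT.leaf cE2775)) (BT.leaf cE2776)) (BT.node 2778 (BT.node 2777 (BT.leaf cE2777) (BT.leaf cE2778)) (BT.leaf cE2779)))) (BT.node 2786 (BT.node 2783 (BT.node 2781 (BT.node 2780 (BT.leaf cE2780) (BT.leaf cE2781)) (BT.node 2782 (BT.leaf cE2782) (BT.leaf cE2783))) (BT.node 2785 (BT.node 2784 (BT.leaf cE2784) (BT.leaf cE2785)) (BT.leaf cE2786))) (BT.node 2789 (BT.node 2788 (BT.node 2787 (BT.leaf cE2787) (BT.leaf cE2788)) (BT.leaf cE2789)) (BT.node 2791 (BT.node 2790 (BT.leaf cE2790) (BT.leaf cE2791)) (BT.leaf cE2792)))))) (BT.node 2819 (BT.node 2806 (BT.node 2799 (BT.node 2796 (BT.node 2794 (BT.node 2793 (BT.leaf cE2793) (BT.leaf cE2794)) (BT.node 2795 (BT.leaf cE2795) (BT.leaf cE2796))) (BT.node 2798 (BT.node 2797 (BT.leaf cE2797) (BT.leaf cE2798)) (BT.leaf cE2799))) (BT.node 2803 (BT.node 2801 (BT.node 2800 (BT.leaf cE2800) (BT.leaf cE2801)) (BT.node 2802 (BT.leaf cE2802) (BT.leaf cE2803))) (BT.node 2805 (BT.node 2804 (BT.leaf cE2804) (BT.leaf cE2805)) (BT.leaf cE2806)))) (BT.node 2813 (BT.node 2810 (BT.node 2808 (BT.node 2807 (BT.leaf cE2807) (BT.leaf cE2808)) (BT.node 2809 (BT.leaf cE2809) (BT.leaf cE2810))) (BT.node 2812 (BT.node 2811 (BT.leaf cE2811) (BT.leaf cE2812)) (BT.leaf cE2813))) (BT.node 2816 (BT.node 2815 (BT.node 2814 (BT.leaf cE2814) (BT.leaf cE2815)) (BT.leaf cE2816)) (BT.node 2818 (BT.node 2817 (BT.leaf cE2817) (BT.leaf cE2818)) (BT.leaf cE2819))))) (BT.node 2832 (BT.node 2826 (BT.node 2823 (BT.node 2821 (BT.node 2820 (BT.leaf cE2820) (BT.leaf cE2821)) (BT.node 2822 (BT.leaf cE2822) (BT.leaf cE2823))) (BT.node 2825 (BT.node 2824 (BT.leaf cE2824) (BT.leaf cE2825)) (BT.leaf cE2826))) (BT.node 2829 (BT.node 2828 (BT.node 2827 (BT.leaf cE2827) (BT.leaf cE2828)) (BT.leaf cE2829)) (BT.node 2831 (BT.node 2830 (BT.leaf cE2830) (BT.leaf cE2831)) (BT.leaf cE2832)))) (BT.node 2839 (BT.node 2836 (BT.node 2834 (BT.node 2833 (BT.leaf cE2833) (BT.leaf cE2834)) (BT.node 2835 (BT.leaf cE2835) (BT.leaf cE2836))) (BT.node 2838 (BT.node 2837 (BT.leaf cE2837) (BT.leaf cE2838)) (BT.leaf cE2839))) (BT.node 2842 (BT.node 2841 (BT.node 2840 (BT.leaf cE2840) (BT.leaf cE2841)) (BT.leaf cE2842)) (BT.node 2844 (BT.node 2843 (BT.leaf cE2843) (BT.leaf cE2844)) (BT.leaf cE2845))))))) (BT.node 2898 (BT.node 2872 (BT.node 2859 (BT.node 2852 (BT.node 2849 (BT.node 2847 (BT.node 2846 (BT.leaf cE2846) (BT.leaf cE2847)) (BT.node 2848 (BT.leaf cE2848) (BT.leaf cE2849))) (BT.node 2851 (BT.node 2850 (BT.leaf cE2850) (BT.leaf cE2851)) (BT.leaf cE2852))) (BT.node 2856 (BT.node 2854 (BT.node 2853 (BT.leaf cE2853) (BT.leaf cE2854)) (BT.node 2855 (BT.leaf cE2855) (BT.leaf cE2856))) (BT.node 2858 (BT.node 2857 (BT.leaf cE2857) (BT.leaf cE2858)) (BT.leaf cE2859)))) (BT.node 2866 (BT.node 2863 (BT.node 2861 (BT.node 2860 (BT.leaf cE2860) (BT.leaf cE2861)) (BT.node 2862 (BT.leaf cE2862) (BT.leaf cE2863))) (BT.node 2865 (BT.node 2864 (BT.leaf cE2864) (BT.leaf cE2865)) (BT.leaf cE2866))) (BT.node 2869 (BT.node 2868 (BT.node 2867 (BT.leaf cE2867) (BT.leaf cE2868)) (BT.leaf cE2869)) (BT.node 2871 (BT.node 2870 (BT.leaf cE2870) (BT.leaf cE2871)) (BT.leaf cE2872))))) (BT.node 2885 (BT.node 2879 (BT.node 2876 (BT.node 2874 (BT.node 2873 (BT.leaf cE2873) (BT.leaf cE2874)) (BT.node 2875 (BT.leaf cE2875) (BT.leaf cE2876))) (BT.node 2878 (BT.node 2877 (BT.leaf cE2877) (BT.leaf cE2878)) (BT.leaf cE2879))) (BT.node 2882 (BT.node 2881 (BT.node 2880 (BT.leaf cE2880) (BT.leaf cE2881)) (BT.leaf cE2882)) (BT.node 2884 (BT.node 2883 (BT.leaf cE2883) (BT.leaf cE2884)) (BT.leaf cE2885)))) (BT.node 2892 (BT.node 2889 (BT.node 2887 (BT.node 2886 (BT.leaf cE2886) (BT.leaf cE2887)) (BT.node 2888 (BT.leaf cE2888) (BT.leaf cE2889))) (BT.node 2891 (BT.node 2890 (BT.leaf cE2890) (BT.leaf cE2891)) (BT.leaf cE2892))) (BT.node 2895 (BT.node 2894 (BT.node 2893 (BT.leaf cE2893) (BT.leaf cE2894)) (BT.leaf cE2895)) (BT.node 2897 (BT.node 2896 (BT.leaf cE2896) (BT.leaf cE2897)) (BT.leaf cE2898)))))) (BT.node 2924 (BT.node 2911 (BT.node 2905 (BT.node 2902 (BT.node 2900 (BT.node 2899 (BT.leaf cE2899) (BT.leaf cE2900)) (BT.node 2901 (BT.leaf cE2901) (BT.leaf cE2902))) (BT.node 2904 (BT.node 2903 (BT.leaf cE2903) (BT.leaf cE2904)) (BT.leaf cE2905))) (BT.node 2908 (BT.node 2907 (BT.node 2906 (BT.leaf cE2906) (BT.leaf cE2907)) (BT.leaf cE2908)) (BT.node 2910 (BT.node 2909 (BT.leaf cE2909) (BT.leaf cE2910)) (BT.leaf cE2911)))) (BT.node 2918 (BT.node 2915 (BT.node 2913 (BT.node 2912 (BT.leaf cE2912) (BT.leaf cE2913)) (BT.node 2914 (BT.leaf cE2914) (BT.leaf cE2915))) (BT.node 2917 (BT.node 2916 (BT.leaf cE2916) (BT.leaf cE2917)) (BT.leaf cE2918))) (BT.node 2921 (BT.node 2920 (BT.node 2919 (BT.leaf cE2919) (BT.leaf cE2920)) (BT.leaf cE2921)) (BT.node 2923 (BT.node 2922 (BT.leaf cE2922) (BT.leaf cE2923)) (BT.leaf cE2924))))) (BT.node 2937 (BT.node 2931 (BT.node 2928 (BT.node 2926 (BT.node 2925 (BT.leaf cE2925) (BT.leaf cE2926)) (BT.node 2927 (BT.leaf cE2927) (BT.leaf cE2928))) (BT.node 2930 (BT.node 2929 (BT.leaf cE2929) (BT.leaf cE2930)) (BT.leaf cE2931))) (BT.node 2934 (BT.node 2933 (BT.node 2932 (BT.leaf cE2932) (BT.leaf cE2933)) (BT.leaf cE2934)) (BT.node 2936 (BT.node 2935 (BT.leaf cE2935) (BT.leaf cE2936)) (BT.leaf cE2937)))) (BT.node 2944 (BT.node 2941 (BT.node 2939 (BT.node 2938 (BT.leaf cE2938) (BT.leaf cE2939)) (BT.node 2940 (BT.leaf cE2940) (BT.leaf cE2941))) (BT.node 2943 (BT.node 2942 (BT.leaf cE2942) (BT.leaf cE2943)) (BT.leaf cE2944))) (BT.node 2947 (BT.node 2946 (BT.node 2945 (BT.leaf cE2945) (BT.leaf cE2946)) (BT.leaf cE2947)) (BT.node 2949 (BT.node 2948 (BT.leaf cE2948) (BT.leaf cE2949)) (BT.leaf cE2950))))))))) (BT.node 3161 (BT.node 3056 (BT.node 3003 (BT.node 2977 (BT.node 2964 (BT.node 2957 (BT.node 2954 (BT.node 2952 (BT.node 2951 (BT.leaf cE2951) (BT.leaf cE2952)) (BT.node 2953 (BT.leaf cE2953) (BT.leaf cE2954))) (BT.node 2956 (BT.node 2955 (BT.leaf cE2955) (BT.leaf cE2956)) (BT.leaf cE2957))) (BT.node 2961 (BT.node 2959 (BT.node 2958 (BT.leaf cE2958) (BT.leaf cE2959)) (BT.node 2960 (BT.leaf cE2960) (BT.leaf cE2961))) (BT.node 2963 (BT.node 2962 (BT.leaf cE2962) (BT.leaf cE2963)) (BT.leaf cE2964)))) (BT.node 2971 (BT.node 2968 (BT.node 2966 (BT.node 2965 (BT.leaf cE2965) (BT.leaf cE2966)) (BT.node 2967 (BT.leaf cE2967) (BT.leaf cE2968))) (BT.node 2970 (BT.node 2969 (BT.leaf cE2969) (BT.leaf cE2970)) (BT.leaf cE2971))) (BT.node 2974 (BT.node 2973 (BT.node 2972 (BT.leaf cE2972) (BT.leaf cE2973)) (BT.leaf cE2974)) (BT.node 2976 (BT.node 2975 (BT.leaf cE2975) (BT.leaf cE2976)) (BT.leaf cE2977))))) (BT.node 2990 (BT.node 2984 (BT.node 2981 (BT.node 2979 (BT.node 2978 (BT.leaf cE2978) (BT.leaf cE2979)) (BT.node 2980 (BT.leaf cE2980) (BT.leaf cE2981))) (BT.node 2983 (BT.node 2982 (BT.leaf cE2982) (BT.leaf cE2983)) (BT.leaf cE2984))) (BT.node 2987 (BT.node 2986 (BT.node 2985 (BT.leaf cE2985) (BT.leaf cE2986)) (BT.leaf cE2987)) (BT.node 2989 (BT.node 2988 (BT.leaf cE2988) (BT.leaf cE2989)) (BT.leaf cE2990)))) (BT.node 2997 (BT.node 2994 (BT.node 2992 (BT.node 2991 (BT.leaf cE2991) (BT.leaf cE2992)) (BT.node 2993 (BT.leaf cE2993) (BT.leaf cE2994))) (BT.node 2996 (BT.node 2995 (BT.leaf cE2995) (BT.leaf cE2996)) (BT.leaf cE2997))) (BT.node 3000 (BT.node 2999 (BT.node 2998 (BT.leaf cE2998) (BT.leaf cE2999)) (BT.leaf cE3000)) (BT.node 3002 (BT.node 3001 (BT.leaf cE3001) (BT.leaf cE3002)) (BT.leaf cE3003)))))) (BT.node 3030 (BT.node 3017 (BT.node 3010 (BT.node 3007 (BT.node 3005 (BT.node 3004 (BT.leaf cE3004) (BT.leaf cE3005)) (BT.node 3006 (BT.leaf cE3006) (BT.leaf cE3007))) (BT.node 3009 (BT.node 3008 (BT.leaf cE3008) (BT.leaf cE3009)) (BT.leaf cE3010))) (BT.node 3014 (BT.node 3012 (BT.node 3011 (BT.leaf cE3011) (BT.leaf cE3012)) (BT.node 3013 (BT.leaf cE3013) (BT.leaf cE3014))) (BT.node 3016 (BT.node 3015 (BT.leaf cE3015) (BT.leaf cE3016)) (BT.leaf cE3017)))) (BT.node 3024 (BT.node 3021 (BT.node 3019 (BT.node 3018 (BT.leaf cE3018) (BT.leaf cE3019)) (BT.node 3020 (BT.leaf cE3020) (BT.leaf cE3021))) (BT.node 3023 (BT.node 3022 (BT.leaf cE3022) (BT.leaf cE3023)) (BT.leaf cE3024))) (BT.node 3027 (BT.node 3026 (BT.node 3025 (BT.leaf cE3025) (BT.leaf cE3026)) (BT.leaf cE3027)) (BT.node 3029 (BT.node 3028 (BT.leaf cE3028) (BT.leaf cE3029)) (BT.leaf cE3030))))) (BT.node 3043 (BT.node 3037 (BT.node 3034 (BT.node 3032 (BT.node 3031 (BT.leaf cE3031) (BT.leaf cE3032)) (BT.node 3033 (BT.leaf cE3033) (BT.leaf cE3034))) (BT.node 3036 (BT.node 3035 (BT.leaf cE3035) (BT.leaf cE3036)) (BT.leaf cE3037))) (BT.node 3040 (BT.node 3039 (BT.node 3038 (BT.leaf cE3038) (BT.leaf cE3039)) (BT.leaf cE3040)) (BT.node 3042 (BT.node 3041 (BT.leaf cE3041) (BT.leaf cE3042)) (BT.leaf cE3043)))) (BT.node 3050 (BT.node 3047 (BT.node 3045 (BT.node 3044 (BT.leaf cE3044) (BT.leaf cE3045)) (BT.node 3046 (BT.leaf cE3046) (BT.leaf cE3047))) (BT.node 3049 (BT.node 3048 (BT.leaf cE3048) (BT.leaf cE3049)) (BT.leaf cE3050))) (BT.node 3053 (BT.node 3052 (BT.node 3051 (BT.leaf cE3051) (BT.leaf cE3052)) (BT.leaf cE3053)) (BT.node 3055 (BT.node 3054 (BT.leaf cE3054) (BT.leaf cE3055)) (BT.leaf cE3056))))))) (BT.node 3109 (BT.node 3083 (BT.node 3070 (BT.node 3063 (BT.node 3060 (BT.node 3058 (BT.node 3057 (BT.leaf cE3057) (BT.leaf cE3058)) (BT.node 3059 (BT.leaf cE3059) (BT.leaf cE3060))) (BT.node 3062 (BT.node 3061 (BT.leaf cE3061) (BT.leaf cE3062)) (BT.leaf cE3063))) (BT.node 3067 (BT.node 3065 (BT.node 3064 (BT.leaf cE3064) (BT.leaf cE3065)) (BT.node 3066 (BT.leaf cE3066) (BT.leaf cE3067))) (BT.node 3069 (BT.node 3068 (BT.leaf cE3068) (BT.leaf cE3069)) (BT.leaf cE3070)))) (BT.node 3077 (BT.node 3074 (BT.node 3072 (BT.node 3071 (BT.leaf cE3071) (BT.leaf cE3072)) (BT.node 3073 (BT.leaf cE3073) (BT.leaf cE3074))) (BT.node 3076 (BT.node 3075 (BT.leaf cE3075) (BT.leaf cE3076)) (BT.leaf cE3077))) (BT.node 3080 (BT.node 3079 (BT.node 3078 (BT.leaf cE3078) (BT.leaf cE3079)) (BT.leaf cE3080)) (BT.node 3082 (BT.node 3081 (BT.leaf cE3081) (BT.leaf cE3082)) (BT.leaf cE3083))))) (BT.node 3096 (BT.node 3090 (BT.node 3087 (BT.node 3085 (BT.node 3084 (BT.leaf cE3084) (BT.leaf cE3085)) (BT.node 3086 (BT.leaf cE3086) (BT.leaf cE3087))) (BT.node 3089 (BT.node 3088 (BT.leaf cE3088) (BT.leaf cE3089)) (BT.leaf cE3090))) (BT.node 3093 (BT.node 3092 (BT.node 3091 (BT.leaf cE3091) (BT.leaf cE3092)) (BT.leaf cE3093)) (BT.node 3095 (BT.node 3094 (BT.leaf cE3094) (BT.leaf cE3095)) (BT.leaf cE3096)))) (BT.node 3103 (BT.node 3100 (BT.node 3098 (BT.node 3097 (BT.leaf cE3097) (BT.leaf cE3098)) (BT.node 3099 (BT.leaf cE3099) (BT.leaf cE3100))) (BT.node 3102 (BT.node 3101 (BT.leaf cE3101) (BT.leaf cE3102)) (BT.leaf cE3103))) (BT.node 3106 (BT.node 3105 (BT.node 3104 (BT.leaf cE3104) (BT.leaf cE3105)) (BT.leaf cE3106)) (BT.node 3108 (BT.node 3107 (BT.leaf cE3107) (BT.leaf cE3108)) (BT.leaf cE3109)))))) (BT.node 3135 (BT.node 3122 (BT.node 3116 (BT.node 3113 (BT.node 3111 (BT.node 3110 (BT.leaf cE3110) (BT.leaf cE3111)) (BT.node 3112 (BT.leaf cE3112) (BT.leaf cE3113))) (BT.node 3115 (BT.node 3114 (BT.leaf cE3114) (BT.leaf cE3115)) (BT.leaf cE3116))) (BT.node 3119 (BT.node 3118 (BT.node 3117 (BT.leaf cE3117) (BT.leaf cE3118)) (BT.leaf cE3119)) (BT.node 3121 (BT.node 3120 (BT.leaf cE3120) (BT.leaf cE3121)) (BT.leaf cE3122)))) (BT.node 3129 (BT.node 3126 (BT.node 3124 (BT.node 3123 (BT.leaf cE3123) (BT.leaf cE3124)) (BT.node 3125 (BT.leaf cE3125) (BT.leaf cE3126))) (BT.node 3128 (BT.node 3127 (BT.leaf cE3127) (BT.leaf cE3128)) (BT.leaf cE3129))) (BT.node 3132 (BT.node 3131 (BT.node 3130 (BT.leaf cE3130) (BT.leaf cE3131)) (BT.leaf cE3132)) (BT.node 3134 (BT.node 3133 (BT.leaf cE3133) (BT.leaf cE3134)) (BT.leaf cE3135))))) (BT.node 3148 (BT.node 3142 (BT.node 3139 (BT.node 3137 (BT.node 3136 (BT.leaf cE3136) (BT.leaf cE3137)) (BT.node 3138 (BT.leaf cE3138) (BT.leaf cE3139))) (BT.node 3141 (BT.node 3140 (BT.leaf cE3140) (BT.leaf cE3141)) (BT.leaf cE3142))) (BT.node 3145 (BT.node 3144 (BT.node 3143 (BT.leaf cE3143) (BT.leaf cE3144)) (BT.leaf cE3145)) (BT.node 3147 (BT.node 3146 (BT.leaf cE3146) (BT.leaf cE3147)) (BT.leaf cE3148)))) (BT.node 3155 (BT.node 3152 (BT.node 3150 (BT.node 3149 (BT.leaf cE3149) (BT.leaf cE3150)) (BT.node 3151 (BT.leaf cE3151) (BT.leaf cE3152))) (BT.node 3154 (BT.node 3153 (BT.leaf cE3153) (BT.leaf cE3154)) (BT.leaf cE3155))) (BT.node 3158 (BT.node 3157 (BT.node 3156 (BT.leaf cE3156) (BT.leaf cE3157)) (BT.leaf cE3158)) (BT.node 3160 (BT.node 3159 (BT.leaf cE3159) (BT.leaf cE3160)) (BT.leaf cE3161)))))))) (BT.node 3266 (BT.node 3214 (BT.node 3188 (BT.node 3175 (BT.node 3168 (BT.node 3165 (BT.node 3163 (BT.node 3162 (BT.leaf cE3162) (BT.leaf cE3163)) (BT.node 3164 (BT.leaf cE3164) (BT.leaf cE3165))) (BT.node 3167 (BT.node 3166 (BT.leaf cE3166) (BT.leaf cE3167)) (BT.leaf cE3168))) (BT.node 3172 (BT.node 3170 (BT.node 3169 (BT.leaf cE3169) (BT.leaf cE3170)) (BT.node 3171 (BT.leaf cE3171) (BT.leaf cE3172))) (BT.node 3174 (BT.node 3173 (BT.leaf cE3173) (BT.leaf cE3174)) (BT.leaf cE3175)))) (BT.node 3182 (BT.node 3179 (BT.node 3177 (BT.node 3176 (BT.leaf cE3176) (BT.leaf cE3177)) (BT.node 3178 (BT.leaf cE3178) (BT.leaf cE3179))) (BT.node 3181 (BT.node 3180 (BT.leaf cE3180) (BT.leaf cE3181)) (BT.leaf cE3182))) (BT.node 3185 (BT.node 3184 (BT.node 3183 (BT.leaf cE3183) (BT.leaf cE3184)) (BT.leaf cE3185)) (BT.node 3187 (BT.node 3186 (BT.leaf cE3186) (BT.leaf cE3187)) (BT.leaf cE3188))))) (BT.node 3201 (BT.node 3195 (BT.node 3192 (BT.node 3190 (BT.node 3189 (BT.leaf cE3189) (BT.leaf cE3190)) (BT.node 3191 (BT.leaf cE3191) (BT.leaf cE3192))) (BT.node 3194 (BT.node 3193 (BT.leaf cE3193) (BT.leaf cE3194)) (BT.leaf cE3195))) (BT.node 3198 (BT.node 3197 (BT.node 3196 (BT.leaf cE3196) (BT.leaf cE3197)) (BT.leaf cE3198)) (BT.node 3200 (BT.node 3199 (BT.leaf cE3199) (BT.leaf cE3200)) (BT.leaf cE3201)))) (BT.node 3208 (BT.node 3205 (BT.node 3203 (BT.node 3202 (BT.leaf cE3202) (BT.leaf cE3203)) (BT.node 3204 (BT.leaf cE3204) (BT.leaf cE3205))) (BT.node 3207 (BT.node 3206 (BT.leaf cE3206) (BT.leaf cE3207)) (BT.leaf cE3208))) (BT.node 3211 (BT.node 3210 (BT.node 3209 (BT.leaf cE3209) (BT.leaf cE3210)) (BT.leaf cE3211)) (BT.node 3213 (BT.node 3212 (BT.leaf cE3212) (BT.leaf cE3213)) (BT.leaf cE3214)))))) (BT.node 3240 (BT.node 3227 (BT.node 3221 (BT.node 3218 (BT.node 3216 (BT.node 3215 (BT.leaf cE3215) (BT.leaf cE3216)) (BT.node 3217 (BT.leaf cE3217) (BT.leaf cE3218))) (BT.node 3220 (BT.node 3219 (BT.leaf cE3219) (BT.leaf cE3220)) (BT.leaf cE3221))) (BT.node 3224 (BT.node 3223 (BT.node 3222 (BT.leaf cE3222) (BT.leaf cE3223)) (BT.leaf cE3224)) (BT.node 3226 (BT.node 3225 (BT.leaf cE3225) (BT.leaf cE3226)) (BT.leaf cE3227)))) (BT.node 3234 (BT.node 3231 (BT.node 3229 (BT.node 3228 (BT.leaf cE3228) (BT.leaf cE3229)) (BT.node 3230 (BT.leaf cE3230) (BT.leaf cE3231))) (BT.node 3233 (BT.node 3232 (BT.leaf cE3232) (BT.leaf cE3233)) (BT.leaf cE3234))) (BT.node 3237 (BT.node 3236 (BT.node 3235 (BT.leaf cE3235) (BT.leaf cE3236)) (BT.leaf cE3237)) (BT.node 3239 (BT.node 3238 (BT.leaf cE3238) (BT.leaf cE3239)) (BT.leaf cE3240))))) (BT.node 3253 (BT.node 3247 (BT.node 3244 (BT.node 3242 (BT.node 3241 (BT.leaf cE3241) (BT.leaf cE3242)) (BT.node 3243 (BT.leaf cE3243) (BT.leaf cE3244))) (BT.node 3246 (BT.node 3245 (BT.leaf cE3245) (BT.leaf cE3246)) (BT.leaf cE3247))) (BT.node 3250 (BT.node 3249 (BT.node 3248 (BT.leaf cE3248) (BT.leaf cE3249)) (BT.leaf cE3250)) (BT.node 3252 (BT.node 3251 (BT.leaf cE3251) (BT.leaf cE3252)) (BT.leaf cE3253)))) (BT.node 3260 (BT.node 3257 (BT.node 3255 (BT.node 3254 (BT.leaf cE3254) (BT.leaf cE3255)) (BT.node 3256 (BT.leaf cE3256) (BT.leaf cE3257))) (BT.node 3259 (BT.node 3258 (BT.leaf cE3258) (BT.leaf cE3259)) (BT.leaf cE3260))) (BT.node 3263 (BT.node 3262 (BT.node 3261 (BT.leaf cE3261) (BT.leaf cE3262)) (BT.leaf cE3263)) (BT.node 3265 (BT.node 3264 (BT.leaf cE3264) (BT.leaf cE3265)) (BT.leaf cE3266))))))) (BT.node 3319 (BT.node 3293 (BT.node 3280 (BT.node 3273 (BT.node 3270 (BT.node 3268 (BT.node 3267 (BT.leaf cE3267) (BT.leaf cE3268)) (BT.node 3269 (BT.leaf cE3269) (BT.leaf cE3270))) (BT.node 3272 (BT.node 3271 (BT.leaf cE3271) (BT.leaf cE3272)) (BT.leaf cE3273))) (BT.node 3277 (BT.node 3275 (BT.node 3274 (BT.leaf cE3274) (BT.leaf cE3275)) (BT.node 3276 (BT.leaf cE3276) (BT.leaf cE3277))) (BT.node 3279 (BT.node 3278 (BT.leaf cE3278) (BT.leaf cE3279)) (BT.leaf cE3280)))) (BT.node 3287 (BT.node 3284 (BT.node 3282 (BT.node 3281 (BT.leaf cE3281) (BT.leaf cE3282)) (BT.node 3283 (BT.leaf cE3283) (BT.leaf cE3284))) (BT.node 3286 (BT.node 3285 (BT.leaf cE3285) (BT.leaf cE3286)) (BT.leaf cE3287))) (BT.node 3290 (BT.node 3289 (BT.node 3288 (BT.leaf cE3288) (BT.leaf cE3289)) (BT.leaf cE3290)) (BT.node 3292 (BT.node 3291 (BT.leaf cE3291) (BT.leaf cE3292)) (BT.leaf cE3293))))) (BT.node 3306 (BT.node 3300 (BT.node 3297 (BT.node 3295 (BT.node 3294 (BT.leaf cE3294) (BT.leaf cE3295)) (BT.node 3296 (BT.leaf cE3296) (BT.leaf cE3297))) (BT.node 3299 (BT.node 3298 (BT.leaf cE3298) (BT.leaf cE3299)) (BT.leaf cE3300))) (BT.node 3303 (BT.node 3302 (BT.node 3301 (BT.leaf cE3301) (BT.leaf cE3302)) (BT.leaf cE3303)) (BT.node 3305 (BT.node 3304 (BT.leaf cE3304) (BT.leaf cE3305)) (BT.leaf cE3306)))) (BT.node 3313 (BT.node 3310 (BT.node 3308 (BT.node 3307 (BT.leaf cE3307) (BT.leaf cE3308)) (BT.node 3309 (BT.leaf cE3309) (BT.leaf cE3310))) (BT.node 3312 (BT.node 3311 (BT.leaf cE3311) (BT.leaf cE3312)) (BT.leaf cE3313))) (BT.node 3316 (BT.node 3315 (BT.node 3314 (BT.leaf cE3314) (BT.leaf cE3315)) (BT.leaf cE3316)) (BT.node 3318 (BT.node 3317 (BT.leaf cE3317) (BT.leaf cE3318)) (BT.leaf cE3319)))))) (BT.node 3345 (BT.node 3332 (BT.node 3326 (BT.node 3323 (BT.node 3321 (BT.node 3320 (BT.leaf cE3320) (BT.leaf cE3321)) (BT.node 3322 (BT.leaf cE3322) (BT.leaf cE3323))) (BT.node 3325 (BT.node 3324 (BT.leaf cE3324) (BT.leaf cE3325)) (BT.leaf cE3326))) (BT.node 3329 (BT.node 3328 (BT.node 3327 (BT.leaf cE3327) (BT.leaf cE3328)) (BT.leaf cE3329)) (BT.node 3331 (BT.node 3330 (BT.leaf cE3330) (BT.leaf cE3331)) (BT.leaf cE3332)))) (BT.node 3339 (BT.node 3336 (BT.node 3334 (BT.node 3333 (BT.leaf cE3333) (BT.leaf cE3334)) (BT.node 3335 (BT.leaf cE3335) (BT.leaf cE3336))) (BT.node 3338 (BT.node 3337 (BT.leaf cE3337) (BT.leaf cE3338)) (BT.leaf cE3339))) (BT.node 3342 (BT.node 3341 (BT.node 3340 (BT.leaf cE3340) (BT.leaf cE3341)) (BT.leaf cE3342)) (BT.node 3344 (BT.node 3343 (BT.leaf cE3343) (BT.leaf cE3344)) (BT.leaf cE3345))))) (BT.node 3358 (BT.node 3352 (BT.node 3349 (BT.node 3347 (BT.node 3346 (BT.leaf cE3346) (BT.leaf cE3347)) (BT.node 3348 (BT.leaf cE3348) (BT.leaf cE3349))) (BT.node 3351 (BT.node 3350 (BT.leaf cE3350) (BT.leaf cE3351)) (BT.leaf cE3352))) (BT.node 3355 (BT.node 3354 (BT.node 3353 (BT.leaf cE3353) (BT.leaf cE3354)) (BT.leaf cE3355)) (BT.node 3357 (BT.node 3356 (BT.leaf cE3356) (BT.leaf cE3357)) (BT.leaf cE3358)))) (BT.node 3365 (BT.node 3362 (BT.node 3360 (BT.node 3359 (BT.leaf cE3359) (BT.leaf cE3360)) (BT.node 3361 (BT.leaf cE3361) (BT.leaf cE3362))) (BT.node 3364 (BT.node 3363 (BT.leaf cE3363) (BT.leaf cE3364)) (BT.leaf cE3365))) (BT.node 3368 (BT.node 3367 (BT.node 3366 (BT.leaf cE3366) (BT.leaf cE3367)) (BT.leaf cE3368)) (BT.node 3370 (BT.node 3369 (BT.leaf cE3369) (BT.leaf cE3370)) (BT.leaf cE3371)))))))))))) (BT.node 5057 (BT.node 4214 (BT.node 3793 (BT.node 3582 (BT.node 3477 (BT.node 3424 (BT.node 3398 (BT.node 3385 (BT.node 3378 (BT.node 3375 (BT.node 3373 (BT.node 3372 (BT.leaf cE3372) (BT.leaf cE3373)) (BT.node 3374 (BT.leaf cE3374) (BT.leaf cE3375))) (BT.node 3377 (BT.node 3376 (BT.leaf cE3376) (BT.leaf cE3377)) (BT.leaf cE3378))) (BT.node 3382 (BT.node 3380 (BT.node 3379 (BT.leaf cE3379) (BT.leaf cE3380)) (BT.node 3381 (BT.leaf cE3381) (BT.leaf cE3382))) (BT.node 3384 (BT.node 3383 (BT.leaf cE3383) (BT.leaf cE3384)) (BT.leaf cE3385)))) (BT.node 3392 (BT.node 3389 (BT.node 3387 (BT.node 3386 (BT.leaf cE3386) (BT.leaf cE3387)) (BT.node 3388 (BT.leaf cE3388) (BT.leaf cE3389))) (BT.node 3391 (BT.node 3390 (BT.leaf cE3390) (BT.leaf cE3391)) (BT.leaf cE3392))) (BT.node 3395 (BT.node 3394 (BT.node 3393 (BT.leaf cE3393) (BT.leaf cE3394)) (BT.leaf cE3395)) (BT.node 3397 (BT.node 3396 (BT.leaf cE3396) (BT.leaf cE3397)) (BT.leaf cE3398))))) (BT.node 3411 (BT.node 3405 (BT.node 3402 (BT.node 3400 (BT.node 3399 (BT.leaf cE3399) (BT.leaf cE3400)) (BT.node 3401 (BT.leaf cE3401) (BT.leaf cE3402))) (BT.node 3404 (BT.node 3403 (BT.leaf cE3403) (BT.leaf cE3404)) (BT.leaf cE3405))) (BT.node 3408 (BT.node 3407 (BT.node 3406 (BT.leaf cE3406) (BT.leaf cE3407)) (BT.leaf cE3408)) (BT.node 3410 (BT.node 3409 (BT.leaf cE3409) (BT.leaf cE3410)) (BT.leaf cE3411)))) (BT.node 3418 (BT.node 3415 (BT.node 3413 (BT.node 3412 (BT.leaf cE3412) (BT.leaf cE3413)) (BT.node 3414 (BT.leaf cE3414) (BT.leaf cE3415))) (BT.node 3417 (BT.node 3416 (BT.leaf cE3416) (BT.leaf cE3417)) (BT.leaf cE3418))) (BT.node 3421 (BT.node 3420 (BT.node 3419 (BT.leaf cE3419) (BT.leaf cE3420)) (BT.leaf cE3421)) (BT.node 3423 (BT.node 3422 (BT.leaf cE3422) (BT.leaf cE3423)) (BT.leaf cE3424)))))) (BT.node 3451 (BT.node 3438 (BT.node 3431 (BT.node 3428 (BT.node 3426 (BT.node 3425 (BT.leaf cE3425) (BT.leaf cE3426)) (BT.node 3427 (BT.leaf cE3427) (BT.leaf cE3428))) (BT.node 3430 (BT.node 3429 (BT.leaf cE3429) (BT.leaf cE3430)) (BT.leaf cE3431))) (BT.node 3435 (BT.node 3433 (BT.node 3432 (BT.leaf cE3432) (BT.leaf cE3433)) (BT.node 3434 (BT.leaf cE3434) (BT.leaf cE3435))) (BT.node 3437 (BT.node 3436 (BT.leaf cE3436) (BT.leaf cE3437)) (BT.leaf cE3438)))) (BT.node 3445 (BT.node 3442 (BT.node 3440 (BT.node 3439 (BT.leaf cE3439) (BT.leaf cE3440)) (BT.node 3441 (BT.leaf cE3441) (BT.leaf cE3442))) (BT.node 3444 (BT.node 3443 (BT.leaf cE3443) (BT.leaf cE3444)) (BT.leaf cE3445))) (BT.node 3448 (BT.node 3447 (BT.node 3446 (BT.leaf cE3446) (BT.leaf cE3447)) (BT.leaf cE3448)) (BT.node 3450 (BT.node 3449 (BT.leaf cE3449) (BT.leaf cE3450)) (BT.leaf cE3451))))) (BT.node 3464 (BT.node 3458 (BT.node 3455 (BT.node 3453 (BT.node 3452 (BT.leaf cE3452) (BT.leaf cE3453)) (BT.node 3454 (BT.leaf cE3454) (BT.leaf cE3455))) (BT.node 3457 (BT.node 3456 (BT.leaf cE3456) (BT.leaf cE3457)) (BT.leaf cE3458))) (BT.node 3461 (BT.node 3460 (BT.node 3459 (BT.leaf cE3459) (BT.leaf cE3460)) (BT.leaf cE3461)) (BT.node 3463 (BT.node 3462 (BT.leaf cE3462) (BT.leaf cE3463)) (BT.leaf cE3464)))) (BT.node 3471 (BT.node 3468 (BT.node 3466 (BT.node 3465 (BT.leaf cE3465) (BT.leaf cE3466)) (BT.node 3467 (BT.leaf cE3467) (BT.leaf cE3468))) (BT.node 3470 (BT.node 3469 (BT.leaf cE3469) (BT.leaf cE3470)) (BT.leaf cE3471))) (BT.node 3474 (BT.node 3473 (BT.node 3472 (BT.leaf cE3472) (BT.leaf cE3473)) (BT.leaf cE3474)) (BT.node 3476 (BT.node 3475 (BT.leaf cE3475) (BT.leaf cE3476)) (BT.leaf cE3477))))))) (BT.node 3530 (BT.node 3504 (BT.node 3491 (BT.node 3484 (BT.node 3481 (BT.node 3479 (BT.node 3478 (BT.leaf cE3478) (BT.leaf cE3479)) (BT.node 3480 (BT.leaf cE3480) (BT.leaf cE3481))) (BT.node 3483 (BT.node 3482 (BT.leaf cE3482) (BT.leaf cE3483)) (BT.leaf cE3484))) (BT.node 3488 (BT.node 3486 (BT.node 3485 (BT.leaf cE3485) (BT.leaf cE3486)) (BT.node 3487 (BT.leaf cE3487) (BT.leaf cE3488))) (BT.node 3490 (BT.node 3489 (BT.leaf cE3489) (BT.leaf cE3490)) (BT.leaf cE3491)))) (BT.node 3498 (BT.node 3495 (BT.node 3493 (BT.node 3492 (BT.leaf cE3492) (BT.leaf cE3493)) (BT.node 3494 (BT.leaf cE3494) (BT.leaf cE3495))) (BT.node 3497 (BT.node 3496 (BT.leaf cE3496) (BT.leaf cE3497)) (BT.leaf cE3498))) (BT.node 3501 (BT.node 3500 (BT.node 3499 (BT.leaf cE3499) (BT.leaf cE3500)) (BT.leaf cE3501)) (BT.node 3503 (BT.node 3502 (BT.leaf cE3502) (BT.leaf cE3503)) (BT.leaf cE3504))))) (BT.node 3517 (BT.node 3511 (BT.node 3508 (BT.node 3506 (BT.node 3505 (BT.leaf cE3505) (BT.leaf cE3506)) (BT.node 3507 (BT.leaf cE3507) (BT.leaf cE3508))) (BT.node 3510 (BT.node 3509 (BT.leaf cE3509) (BT.leaf cE3510)) (BT.leaf cE3511))) (BT.node 3514 (BT.node 3513 (BT.node 3512 (BT.leaf cE3512) (BT.leaf cE3513)) (BT.leaf cE3514)) (BT.node 3516 (BT.node 3515 (BT.leaf cE3515) (BT.leaf cE3516)) (BT.leaf cE3517)))) (BT.node 3524 (BT.node 3521 (BT.node 3519 (BT.node 3518 (BT.leaf cE3518) (BT.leaf cE3519)) (BT.node 3520 (BT.leaf cE3520) (BT.leaf cE3521))) (BT.node 3523 (BT.node 3522 (BT.leaf cE3522) (BT.leaf cE3523)) (BT.leaf cE3524))) (BT.node 3527 (BT.node 3526 (BT.node 3525 (BT.leaf cE3525) (BT.leaf cE3526)) (BT.leaf cE3527)) (BT.node 3529 (BT.node 3528 (BT.leaf cE3528) (BT.leaf cE3529)) (BT.leaf cE3530)))))) (BT.node 3556 (BT.node 3543 (BT.node 3537 (BT.node 3534 (BT.node 3532 (BT.node 3531 (BT.leaf cE3531) (BT.leaf cE3532)) (BT.node 3533 (BT.leaf cE3533) (BT.leaf cE3534))) (BT.node 3536 (BT.node 3535 (BT.leaf cE3535) (BT.leaf cE3536)) (BT.leaf cE3537))) (BT.node 3540 (BT.node 3539 (BT.node 3538 (BT.leaf cE3538) (BT.leaf cE3539)) (BT.leaf cE3540)) (BT.node 3542 (BT.node 3541 (BT.leaf cE3541) (BT.leaf cE3542)) (BT.leaf cE3543)))) (BT.node 3550 (BT.node 3547 (BT.node 3545 (BT.node 3544 (BT.leaf cE3544) (BT.leaf cE3545)) (BT.node 3546 (BT.leaf cE3546) (BT.leaf cE3547))) (BT.node 3549 (BT.node 3548 (BT.leaf cE3548) (BT.leaf cE3549)) (BT.leaf cE3550))) (BT.node 3553 (BT.node 3552 (BT.node 3551 (BT.leaf cE3551) (BT.leaf cE3552)) (BT.leaf cE3553)) (BT.node 3555 (BT.node 3554 (BT.leaf cE3554) (BT.leaf cE3555)) (BT.leaf cE3556))))) (BT.node 3569 (BT.node 3563 (BT.node 3560 (BT.node 3558 (BT.node 3557 (BT.leaf cE3557) (BT.leaf cE3558)) (BT.node 3559 (BT.leaf cE3559) (BT.leaf cE3560))) (BT.node 3562 (BT.node 3561 (BT.leaf cE3561) (BT.leaf cE3562)) (BT.leaf cE3563))) (BT.node 3566 (BT.node 3565 (BT.node 3564 (BT.leaf cE3564) (BT.leaf cE3565)) (BT.leaf cE3566)) (BT.node 3568 (BT.node 3567 (BT.leaf cE3567) (BT.leaf cE3568)) (BT.leaf cE3569)))) (BT.node 3576 (BT.node 3573 (BT.node 3571 (BT.node 3570 (BT.leaf cE3570) (BT.leaf cE3571)) (BT.node 3572 (BT.leaf cE3572) (BT.leaf cE3573))) (BT.node 3575 (BT.node 3574 (BT.leaf cE3574) (BT.leaf cE3575)) (BT.leaf cE3576))) (BT.node 3579 (BT.node 3578 (BT.node 3577 (BT.leaf cE3577) (BT.leaf cE3578)) (BT.leaf cE3579)) (BT.node 3581 (BT.node 3580 (BT.leaf cE3580) (BT.leaf cE3581)) (BT.leaf cE3582)))))))) (BT.node 3688 (BT.node 3635 (BT.node 3609 (BT.node 3596 (BT.node 3589 (BT.node 3586 (BT.node 3584 (BT.node 3583 (BT.leaf cE3583) (BT.leaf cE3584)) (BT.node 3585 (BT.leaf cE3585) (BT.leaf cE3586))) (BT.node 3588 (BT.node 3587 (BT.leaf cE3587) (BT.leaf cE3588)) (BT.leaf cE3589))) (BT.node 3593 (BT.node 3591 (BT.node 3590 (BT.leaf cE3590) (BT.leaf cE3591)) (BT.node 3592 (BT.leaf cE3592) (BT.leaf cE3593))) (BT.node 3595 (BT.node 3594 (BT.leaf cE3594) (BT.leaf cE3595)) (BT.leaf cE3596)))) (BT.node 3603 (BT.node 3600 (BT.node 3598 (BT.node 3597 (BT.leaf cE3597) (BT.leaf cE3598)) (BT.node 3599 (BT.leaf cE3599) (BT.leaf cE3600))) (BT.node 3602 (BT.node 3601 (BT.leaf cE3601) (BT.leaf cE3602)) (BT.leaf cE3603))) (BT.node 3606 (BT.node 3605 (BT.node 3604 (BT.leaf cE3604) (BT.leaf cE3605)) (BT.leaf cE3606)) (BT.node 3608 (BT.node 3607 (BT.leaf cE3607) (BT.leaf cE3608)) (BT.leaf cE3609))))) (BT.node 3622 (BT.node 3616 (BT.node 3613 (BT.node 3611 (BT.node 3610 (BT.leaf cE3610) (BT.leaf cE3611)) (BT.node 3612 (BT.leaf cE3612) (BT.leaf cE3613))) (BT.node 3615 (BT.node 3614 (BT.leaf cE3614) (BT.leaf cE3615)) (BT.leaf cE3616))) (BT.node 3619 (BT.node 3618 (BT.node 3617 (BT.leaf cE3617) (BT.leaf cE3618)) (BT.leaf cE3619)) (BT.node 3621 (BT.node 3620 (BT.leaf cE3620) (BT.leaf cE3621)) (BT.leaf cE3622)))) (BT.node 3629 (BT.node 3626 (BT.node 3624 (BT.node 3623 (BT.leaf cE3623) (BT.leaf cE3624)) (BT.node 3625 (BT.leaf cE3625) (BT.leaf cE3626))) (BT.node 3628 (BT.node 3627 (BT.leaf cE3627) (BT.leaf cE3628)) (BT.leaf cE3629))) (BT.node 3632 (BT.node 3631 (BT.node 3630 (BT.leaf cE3630) (BT.leaf cE3631)) (BT.leaf cE3632)) (BT.node 3634 (BT.node 3633 (BT.leaf cE3633) (BT.leaf cE3634)) (BT.leaf cE3635)))))) (BT.node 3662 (BT.node 3649 (BT.node 3642 (BT.node 3639 (BT.node 3637 (BT.node 3636 (BT.leaf cE3636) (BT.leaf cE3637)) (BT.node 3638 (BT.leaf cE3638) (BT.leaf cE3639))) (BT.node 3641 (BT.node 3640 (BT.leaf cE3640) (BT.leaf cE3641)) (BT.leaf cE3642))) (BT.node 3646 (BT.node 3644 (BT.node 3643 (BT.leaf cE3643) (BT.leaf cE3644)) (BT.node 3645 (BT.leaf cE3645) (BT.leaf cE3646))) (BT.node 3648 (BT.node 3647 (BT.leaf cE3647) (BT.leaf cE3648)) (BT.leaf cE3649)))) (BT.node 3656 (BT.node 3653 (BT.node 3651 (BT.node 3650 (BT.leaf cE3650) (BT.leaf cE3651)) (BT.node 3652 (BT.leaf cE3652) (BT.leaf cE3653))) (BT.node 3655 (BT.node 3654 (BT.leaf cE3654) (BT.leaf cE3655)) (BT.leaf cE3656))) (BT.node 3659 (BT.node 3658 (BT.node 3657 (BT.leaf cE3657) (BT.leaf cE3658)) (BT.leaf cE3659)) (BT.node 3661 (BT.node 3660 (BT.leaf cE3660) (BT.leaf cE3661)) (BT.leaf cE3662))))) (BT.node 3675 (BT.node 3669 (BT.node 3666 (BT.node 3664 (BT.node 3663 (BT.leaf cE3663) (BT.leaf cE3664)) (BT.node 3665 (BT.leaf cE3665) (BT.leaf cE3666))) (BT.node 3668 (BT.node 3667 (BT.leaf cE3667) (BT.leaf cE3668)) (BT.leaf cE3669))) (BT.node 3672 (BT.node 3671 (BT.node 3670 (BT.leaf cE3670) (BT.leaf cE3671)) (BT.leaf cE3672)) (BT.node 3674 (BT.node 3673 (BT.leaf cE3673) (BT.leaf cE3674)) (BT.leaf cE3675)))) (BT.node 3682 (BT.node 3679 (BT.node 3677 (BT.node 3676 (BT.leaf cE3676) (BT.leaf cE3677)) (BT.node 3678 (BT.leaf cE3678) (BT.leaf cE3679))) (BT.node 3681 (BT.node 3680 (BT.leaf cE3680) (BT.leaf cE3681)) (BT.leaf cE3682))) (BT.node 3685 (BT.node 3684 (BT.node 3683 (BT.leaf cE3683) (BT.leaf cE3684)) (BT.leaf cE3685)) (BT.node 3687 (BT.node 3686 (BT.leaf cE3686) (BT.leaf cE3687)) (BT.leaf cE3688))))))) (BT.node 3741 (BT.node 3715 (BT.node 3702 (BT.node 3695 (BT.node 3692 (BT.node 3690 (BT.node 3689 (BT.leaf cE3689) (BT.leaf cE3690)) (BT.node 3691 (BT.leaf cE3691) (BT.leaf cE3692))) (BT.node 3694 (BT.node 3693 (BT.leaf cE3693) (BT.leaf cE3694)) (BT.leaf cE3695))) (BT.node 3699 (BT.node 3697 (BT.node 3696 (BT.leaf cE3696) (BT.leaf cE3697)) (BT.node 3698 (BT.leaf cE3698) (BT.leaf cE3699))) (BT.node 3701 (BT.node 3700 (BT.leaf cE3700) (BT.leaf cE3701)) (BT.leaf cE3702)))) (BT.node 3709 (BT.node 3706 (BT.node 3704 (BT.node 3703 (BT.leaf cE3703) (BT.leaf cE3704)) (BT.node 3705 (BT.leaf cE3705) (BT.leaf cE3706))) (BT.node 3708 (BT.node 3707 (BT.leaf cE3707) (BT.leaf cE3708)) (BT.leaf cE3709))) (BT.node 3712 (BT.node 3711 (BT.node 3710 (BT.leaf cE3710) (BT.leaf cE3711)) (BT.leaf cE3712)) (BT.node 3714 (BT.node 3713 (BT.leaf cE3713) (BT.leaf cE3714)) (BT.leaf cE3715))))) (BT.node 3728 (BT.node 3722 (BT.node 3719 (BT.node 3717 (BT.node 3716 (BT.leaf cE3716) (BT.leaf cE3717)) (BT.node 3718 (BT.leaf cE3718) (BT.leaf cE3719))) (BT.node 3721 (BT.node 3720 (BT.leaf cE3720) (BT.leaf cE3721)) (BT.leaf cE3722))) (BT.node 3725 (BT.node 3724 (BT.node 3723 (BT.leaf cE3723) (BT.leaf cE3724)) (BT.leaf cE3725)) (BT.node 3727 (BT.node 3726 (BT.leaf cE3726) (BT.leaf cE3727)) (BT.leaf cE3728)))) (BT.node 3735 (BT.node 3732 (BT.node 3730 (BT.node 3729 (BT.leaf cE3729) (BT.leaf cE3730)) (BT.node 3731 (BT.leaf cE3731) (BT.leaf cE3732))) (BT.node 3734 (BT.node 3733 (BT.leaf cE3733) (BT.leaf cE3734)) (BT.leaf cE3735))) (BT.node 3738 (BT.node 3737 (BT.node 3736 (BT.leaf cE3736) (BT.leaf cE3737)) (BT.leaf cE3738)) (BT.node 3740 (BT.node 3739 (BT.leaf cE3739) (BT.leaf cE3740)) (BT.leaf cE3741)))))) (BT.node 3767 (BT.node 3754 (BT.node 3748 (BT.node 3745 (BT.node 3743 (BT.node 3742 (BT.leaf cE3742) (BT.leaf cE3743)) (BT.node 3744 (BT.leaf cE3744) (BT.leaf cE3745))) (BT.node 3747 (BT.node 3746 (BT.leaf cE3746) (BT.leaf cE3747)) (BT.leaf cE3748))) (BT.node 3751 (BT.node 3750 (BT.node 3749 (BT.leaf cE3749) (BT.leaf cE3750)) (BT.leaf cE3751)) (BT.node 3753 (BT.node 3752 (BT.leaf cE3752) (BT.leaf cE3753)) (BT.leaf cE3754)))) (BT.node 3761 (BT.node 3758 (BT.node 3756 (BT.node 3755 (BT.leaf cE3755) (BT.leaf cE3756)) (BT.node 3757 (BT.leaf cE3757) (BT.leaf cE3758))) (BT.node 3760 (BT.node 3759 (BT.leaf cE3759) (BT.leaf cE3760)) (BT.leaf cE3761))) (BT.node 3764 (BT.node 3763 (BT.node 3762 (BT.leaf cE3762) (BT.leaf cE3763)) (BT.leaf cE3764)) (BT.node 3766 (BT.node 3765 (BT.leaf cE3765) (BT.leaf cE3766)) (BT.leaf cE3767))))) (BT.node 3780 (BT.node 3774 (BT.node 3771 (BT.node 3769 (BT.node 3768 (BT.leaf cE3768) (BT.leaf cE3769)) (BT.node 3770 (BT.leaf cE3770) (BT.leaf cE3771))) (BT.node 3773 (BT.node 3772 (BT.leaf cE3772) (BT.leaf cE3773)) (BT.leaf cE3774))) (BT.node 3777 (BT.node 3776 (BT.node 3775 (BT.leaf cE3775) (BT.leaf cE3776)) (BT.leaf cE3777)) (BT.node 3779 (BT.node 3778 (BT.leaf cE3778) (BT.leaf cE3779)) (BT.leaf cE3780)))) (BT.node 3787 (BT.node 3784 (BT.node 3782 (BT.node 3781 (BT.leaf cE3781) (BT.leaf cE3782)) (BT.node 3783 (BT.leaf cE3783) (BT.leaf cE3784))) (BT.node 3786 (BT.node 3785 (BT.leaf cE3785) (BT.leaf cE3786)) (BT.leaf cE3787))) (BT.node 3790 (BT.node 3789 (BT.node 3788 (BT.leaf cE3788) (BT.leaf cE3789)) (BT.leaf cE3790)) (BT.node 3792 (BT.node 3791 (BT.leaf cE3791) (BT.leaf cE3792)) (BT.leaf cE3793))))))))) (BT.node 4004 (BT.node 3899 (BT.node 3846 (BT.node 3820 (BT.node 3807 (BT.node 3800 (BT.node 3797 (BT.node 3795 (BT.node 3794 (BT.leaf cE3794) (BT.leaf cE3795)) (BT.node 3796 (BT.leaf cE3796) (BT.leaf cE3797))) (BT.node 3799 (BT.node 3798 (BT.leaf cE3798) (BT.leaf cE3799)) (BT.leaf cE3800))) (BT.node 3804 (BT.node 3802 (BT.node 3801 (BT.leaf cE3801) (BT.leaf cE3802)) (BT.node 3803 (BT.leaf cE3803) (BT.leaf cE3804))) (BT.node 3806 (BT.node 3805 (BT.leaf cE3805) (BT.leaf cE3806)) (BT.leaf cE3807)))) (BT.node 3814 (BT.node 3811 (BT.node 3809 (BT.node 3808 (BT.leaf cE3808) (BT.leaf cE3809)) (BT.node 3810 (BT.leaf cE3810) (BT.leaf cE3811))) (BT.node 3813 (BT.node 3812 (BT.leaf cE3812) (BT.leaf cE3813)) (BT.leaf cE3814))) (BT.node 3817 (BT.node 3816 (BT.node 3815 (BT.leaf cE3815) (BT.leaf cE3816)) (BT.leaf cE3817)) (BT.node 3819 (BT.node 3818 (BT.leaf cE3818) (BT.leaf cE3819)) (BT.leaf cE3820))))) (BT.node 3833 (BT.node 3827 (BT.node 3824 (BT.node 3822 (BT.node 3821 (BT.leaf cE3821) (BT.leaf cE3822)) (BT.node 3823 (BT.leaf cE3823) (BT.leaf cE3824))) (BT.node 3826 (BT.node 3825 (BT.leaf cE3825) (BT.leaf cE3826)) (BT.leaf cE3827))) (BT.node 3830 (BT.node 3829 (BT.node 3828 (BT.leaf cE3828) (BT.leaf cE3829)) (BT.leaf cE3830)) (BT.node 3832 (BT.node 3831 (BT.leaf cE3831) (BT.leaf cE3832)) (BT.leaf cE3833)))) (BT.node 3840 (BT.node 3837 (BT.node 3835 (BT.node 3834 (BT.leaf cE3834) (BT.leaf cE3835)) (BT.node 3836 (BT.leaf cE3836) (BT.leaf cE3837))) (BT.node 3839 (BT.node 3838 (BT.leaf cE3838) (BT.leaf cE3839)) (BT.leaf cE3840))) (BT.node 3843 (BT.node 3842 (BT.node 3841 (BT.leaf cE3841) (BT.leaf cE3842)) (BT.leaf cE3843)) (BT.node 3845 (BT.node 3844 (BT.leaf cE3844) (BT.leaf cE3845)) (BT.leaf cE3846)))))) (BT.node 3873 (BT.node 3860 (BT.node 3853 (BT.node 3850 (BT.node 3848 (BT.node 3847 (BT.leaf cE3847) (BT.leaf cE3848)) (BT.node 3849 (BT.leaf cE3849) (BT.leaf cE3850))) (BT.node 3852 (BT.node 3851 (BT.leaf cE3851) (BT.leaf cE3852)) (BT.leaf cE3853))) (BT.node 3857 (BT.node 3855 (BT.node 3854 (BT.leaf cE3854) (BT.leaf cE3855)) (BT.node 3856 (BT.leaf cE3856) (BT.leaf cE3857))) (BT.node 3859 (BT.node 3858 (BT.leaf cE3858) (BT.leaf cE3859)) (BT.leaf cE3860)))) (BT.node 3867 (BT.node 3864 (BT.node 3862 (BT.node 3861 (BT.leaf cE3861) (BT.leaf cE3862)) (BT.node 3863 (BT.leaf cE3863) (BT.leaf cE3864))) (BT.node 3866 (BT.node 3865 (BT.leaf cE3865) (BT.leaf cE3866)) (BT.leaf cE3867))) (BT.node 3870 (BT.node 3869 (BT.node 3868 (BT.leaf cE3868) (BT.leaf cE3869)) (BT.leaf cE3870)) (BT.node 3872 (BT.node 3871 (BT.leaf cE3871) (BT.leaf cE3872)) (BT.leaf cE3873))))) (BT.node 3886 (BT.node 3880 (BT.node 3877 (BT.node 3875 (BT.node 3874 (BT.leaf cE3874) (BT.leaf cE3875)) (BT.node 3876 (BT.leaf cE3876) (BT.leaf cE3877))) (BT.node 3879 (BT.node 3878 (BT.leaf cE3878) (BT.leaf cE3879)) (BT.leaf cE3880))) (BT.node 3883 (BT.node 3882 (BT.node 3881 (BT.leaf cE3881) (BT.leaf cE3882)) (BT.leaf cE3883)) (BT.node 3885 (BT.node 3884 (BT.leaf cE3884) (BT.leaf cE3885)) (BT.leaf cE3886)))) (BT.node 3893 (BT.node 3890 (BT.node 3888 (BT.node 3887 (BT.leaf cE3887) (BT.leaf cE3888)) (BT.node 3889 (BT.leaf cE3889) (BT.leaf cE3890))) (BT.node 3892 (BT.node 3891 (BT.leaf cE3891) (BT.leaf cE3892)) (BT.leaf cE3893))) (BT.node 3896 (BT.node 3895 (BT.node 3894 (BT.leaf cE3894) (BT.leaf cE3895)) (BT.leaf cE3896)) (BT.node 3898 (BT.node 3897 (BT.leaf cE3897) (BT.leaf cE3898)) (BT.leaf cE3899))))))) (BT.node 3952 (BT.node 3926 (BT.node 3913 (BT.node 3906 (BT.node 3903 (BT.node 3901 (BT.node 3900 (BT.leaf cE3900) (BT.leaf cE3901)) (BT.node 3902 (BT.leaf cE3902) (BT.leaf cE3903))) (BT.node 3905 (BT.node 3904 (BT.leaf cE3904) (BT.leaf cE3905)) (BT.leaf cE3906))) (BT.node 3910 (BT.node 3908 (BT.node 3907 (BT.leaf cE3907) (BT.leaf cE3908)) (BT.node 3909 (BT.leaf cE3909) (BT.leaf cE3910))) (BT.node 3912 (BT.node 3911 (BT.leaf cE3911) (BT.leaf cE3912)) (BT.leaf cE3913)))) (BT.node 3920 (BT.node 3917 (BT.node 3915 (BT.node 3914 (BT.leaf cE3914) (BT.leaf cE3915)) (BT.node 3916 (BT.leaf cE3916) (BT.leaf cE3917))) (BT.node 3919 (BT.node 3918 (BT.leaf cE3918) (BT.leaf cE3919)) (BT.leaf cE3920))) (BT.node 3923 (BT.node 3922 (BT.node 3921 (BT.leaf cE3921) (BT.leaf cE3922)) (BT.leaf cE3923)) (BT.node 3925 (BT.node 3924 (BT.leaf cE3924) (BT.leaf cE3925)) (BT.leaf cE3926))))) (BT.node 3939 (BT.node 3933 (BT.node 3930 (BT.node 3928 (BT.node 3927 (BT.leaf cE3927) (BT.leaf cE3928)) (BT.node 3929 (BT.leaf cE3929) (BT.leaf cE3930))) (BT.node 3932 (BT.node 3931 (BT.leaf cE3931) (BT.leaf cE3932)) (BT.leaf cE3933))) (BT.node 3936 (BT.node 3935 (BT.node 3934 (BT.leaf cE3934) (BT.leaf cE3935)) (BT.leaf cE3936)) (BT.node 3938 (BT.node 3937 (BT.leaf cE3937) (BT.leaf cE3938)) (BT.leaf cE3939)))) (BT.node 3946 (BT.node 3943 (BT.node 3941 (BT.node 3940 (BT.leaf cE3940) (BT.leaf cE3941)) (BT.node 3942 (BT.leaf cE3942) (BT.leaf cE3943))) (BT.node 3945 (BT.node 3944 (BT.leaf cE3944) (BT.leaf cE3945)) (BT.leaf cE3946))) (BT.node 3949 (BT.node 3948 (BT.node 3947 (BT.leaf cE3947) (BT.leaf cE3948)) (BT.leaf cE3949)) (BT.node 3951 (BT.node 3950 (BT.leaf cE3950) (BT.leaf cE3951)) (BT.leaf cE3952)))))) (BT.node 3978 (BT.node 3965 (BT.node 3959 (BT.node 3956 (BT.node 3954 (BT.node 3953 (BT.leaf cE3953) (BT.leaf cE3954)) (BT.node 3955 (BT.leaf cE3955) (BT.leaf cE3956))) (BT.node 3958 (BT.node 3957 (BT.leaf cE3957) (BT.leaf cE3958)) (BT.leaf cE3959))) (BT.node 3962 (BT.node 3961 (BT.node 3960 (BT.leaf cE3960) (BT.leaf cE3961)) (BT.leaf cE3962)) (BT.node 3964 (BT.node 3963 (BT.leaf cE3963) (BT.leaf cE3964)) (BT.leaf cE3965)))) (BT.node 3972 (BT.node 3969 (BT.node 3967 (BT.node 3966 (BT.leaf cE3966) (BT.leaf cE3967)) (BT.node 3968 (BT.leaf cE3968) (BT.leaf cE3969))) (BT.node 3971 (BT.node 3970 (BT.leaf cE3970) (BT.leaf cE3971)) (BT.leaf cE3972))) (BT.node 3975 (BT.node 3974 (BT.node 3973 (BT.leaf cE3973) (BT.leaf cE3974)) (BT.leaf cE3975)) (BT.node 3977 (BT.node 3976 (BT.leaf cE3976) (BT.leaf cE3977)) (BT.leaf cE3978))))) (BT.node 3991 (BT.node 3985 (BT.node 3982 (BT.node 3980 (BT.node 3979 (BT.leaf cE3979) (BT.leaf cE3980)) (BT.node 3981 (BT.leaf cE3981) (BT.leaf cE3982))) (BT.node 3984 (BT.node 3983 (BT.leaf cE3983) (BT.leaf cE3984)) (BT.leaf cE3985))) (BT.node 3988 (BT.node 3987 (BT.node 3986 (BT.leaf cE3986) (BT.leaf cE3987)) (BT.leaf cE3988)) (BT.node 3990 (BT.node 3989 (BT.leaf cE3989) (BT.leaf cE3990)) (BT.leaf cE3991)))) (BT.node 3998 (BT.node 3995 (BT.node 3993 (BT.node 3992 (BT.leaf cE3992) (BT.leaf cE3993)) (BT.node 3994 (BT.leaf cE3994) (BT.leaf cE3995))) (BT.node 3997 (BT.node 3996 (BT.leaf cE3996) (BT.leaf cE3997)) (BT.leaf cE3998))) (BT.node 4001 (BT.node 4000 (BT.node 3999 (BT.leaf cE3999) (BT.leaf cE4000)) (BT.leaf cE4001)) (BT.node 4003 (BT.node 4002 (BT.leaf cE4002) (BT.leaf cE4003)) (BT.leaf cE4004)))))))) (BT.node 4109 (BT.node 4057 (BT.node 4031 (BT.node 4018 (BT.node 4011 (BT.node 4008 (BT.node 4006 (BT.node 4005 (BT.leaf cE4005) (BT.leaf cE4006)) (BT.node 4007 (BT.leaf cE4007) (BT.leaf cE4008))) (BT.node 4010 (BT.node 4009 (BT.leaf cE4009) (BT.leaf cE4010)) (BT.leaf cE4011))) (BT.node 4015 (BT.node 4013 (BT.node 4012 (BT.leaf cE4012) (BT.leaf cE4013)) (BT.node 4014 (BT.leaf cE4014) (BT.leaf cE4015))) (BT.node 4017 (BT.node 4016 (BT.leaf cE4016) (BT.leaf cE4017)) (BT.leaf cE4018)))) (BT.node 4025 (BT.node 4022 (BT.node 4020 (BT.node 4019 (BT.leaf cE4019) (BT.leaf cE4020)) (BT.node 4021 (BT.leaf cE4021) (BT.leaf cE4022))) (BT.node 4024 (BT.node 4023 (BT.leaf cE4023) (BT.leaf cE4024)) (BT.leaf cE4025))) (BT.node 4028 (BT.node 4027 (BT.node 4026 (BT.leaf cE4026) (BT.leaf cE4027)) (BT.leaf cE4028)) (BT.node 4030 (BT.node 4029 (BT.leaf cE4029) (BT.leaf cE4030)) (BT.leaf cE4031))))) (BT.node 4044 (BT.node 4038 (BT.node 4035 (BT.node 4033 (BT.node 4032 (BT.leaf cE4032) (BT.leaf cE4033)) (BT.node 4034 (BT.leaf cE4034) (BT.leaf cE4035))) (BT.node 4037 (BT.node 4036 (BT.leaf cE4036) (BT.leaf cE4037)) (BT.leaf cE4038))) (BT.node 4041 (BT.node 4040 (BT.node 4039 (BT.leaf cE4039) (BT.leaf cE4040)) (BT.leaf cE4041)) (BT.node 4043 (BT.node 4042 (BT.leaf cE4042) (BT.leaf cE4043)) (BT.leaf cE4044)))) (BT.node 4051 (BT.node 4048 (BT.node 4046 (BT.node 4045 (BT.leaf cE4045) (BT.leaf cE4046)) (BT.node 4047 (BT.leaf cE4047) (BT.leaf cE4048))) (BT.node 4050 (BT.node 4049 (BT.leaf cE4049) (BT.leaf cE4050)) (BT.leaf cE4051))) (BT.node 4054 (BT.node 4053 (BT.node 4052 (BT.leaf cE4052) (BT.leaf cE4053)) (BT.leaf cE4054)) (BT.node 4056 (BT.node 4055 (BT.leaf cE4055) (BT.leaf cE4056)) (BT.leaf cE4057)))))) (BT.node 4083 (BT.node 4070 (BT.node 4064 (BT.node 4061 (BT.node 4059 (BT.node 4058 (BT.leaf cE4058) (BT.leaf cE4059)) (BT.node 4060 (BT.leaf cE4060) (BT.leaf cE4061))) (BT.node 4063 (BT.node 4062 (BT.leaf cE4062) (BT.leaf cE4063)) (BT.leaf cE4064))) (BT.node 4067 (BT.node 4066 (BT.node 4065 (BT.leaf cE4065) (BT.leaf cE4066)) (BT.leaf cE4067)) (BT.node 4069 (BT.node 4068 (BT.leaf cE4068) (BT.leaf cE4069)) (BT.leaf cE4070)))) (BT.node 4077 (BT.node 4074 (BT.node 4072 (BT.node 4071 (BT.leaf cE4071) (BT.leaf cE4072)) (BT.node 4073 (BT.leaf cE4073) (BT.leaf cE4074))) (BT.node 4076 (BT.node 4075 (BT.leaf cE4075) (BT.leaf cE4076)) (BT.leaf cE4077))) (BT.node 4080 (BT.node 4079 (BT.node 4078 (BT.leaf cE4078) (BT.leaf cE4079)) (BT.leaf cE4080)) (BT.node 4082 (BT.node 4081 (BT.leaf cE4081) (BT.leaf cE4082)) (BT.leaf cE4083))))) (BT.node 4096 (BT.node 4090 (BT.node 4087 (BT.node 4085 (BT.node 4084 (BT.leaf cE4084) (BT.leaf cE4085)) (BT.node 4086 (BT.leaf cE4086) (BT.leaf cE4087))) (BT.node 4089 (BT.node 4088 (BT.leaf cE4088) (BT.leaf cE4089)) (BT.leaf cE4090))) (BT.node 4093 (BT.node 4092 (BT.node 4091 (BT.leaf cE4091) (BT.leaf cE4092)) (BT.leaf cE4093)) (BT.node 4095 (BT.node 4094 (BT.leaf cE4094) (BT.leaf cE4095)) (BT.leaf cE4096)))) (BT.node 4103 (BT.node 4100 (BT.node 4098 (BT.node 4097 (BT.leaf cE4097) (BT.leaf cE4098)) (BT.node 4099 (BT.leaf cE4099) (BT.leaf cE4100))) (BT.node 4102 (BT.node 4101 (BT.leaf cE4101) (BT.leaf cE4102)) (BT.leaf cE4103))) (BT.node 4106 (BT.node 4105 (BT.node 4104 (BT.leaf cE4104) (BT.leaf cE4105)) (BT.leaf cE4106)) (BT.node 4108 (BT.node 4107 (BT.leaf cE4107) (BT.leaf cE4108)) (BT.leaf cE4109))))))) (BT.node 4162 (BT.node 4136 (BT.node 4123 (BT.node 4116 (BT.node 4113 (BT.node 4111 (BT.node 4110 (BT.leaf cE4110) (BT.leaf cE4111)) (BT.node 4112 (BT.leaf cE4112) (BT.leaf cE4113))) (BT.node 4115 (BT.node 4114 (BT.leaf cE4114) (BT.leaf cE4115)) (BT.leaf cE4116))) (BT.node 4120 (BT.node 4118 (BT.node 4117 (BT.leaf cE4117) (BT.leaf cE4118)) (BT.node 4119 (BT.leaf cE4119) (BT.leaf cE4120))) (BT.node 4122 (BT.node 4121 (BT.leaf cE4121) (BT.leaf cE4122)) (BT.leaf cE4123)))) (BT.node 4130 (BT.node 4127 (BT.node 4125 (BT.node 4124 (BT.leaf cE4124) (BT.leaf cE4125)) (BT.node 4126 (BT.leaf cE4126) (BT.leaf cE4127))) (BT.node 4129 (BT.node 4128 (BT.leaf cE4128) (BT.leaf cE4129)) (BT.leaf cE4130))) (BT.node 4133 (BT.node 4132 (BT.node 4131 (BT.leaf cE4131) (BT.leaf cE4132)) (BT.leaf cE4133)) (BT.node 4135 (BT.node 4134 (BT.leaf cE4134) (BT.leaf cE4135)) (BT.leaf cE4136))))) (BT.node 4149 (BT.node 4143 (BT.node 4140 (BT.node 4138 (BT.node 4137 (BT.leaf cE4137) (BT.leaf cE4138)) (BT.node 4139 (BT.leaf cE4139) (BT.leaf cE4140))) (BT.node 4142 (BT.node 4141 (BT.leaf cE4141) (BT.leaf cE4142)) (BT.leaf cE4143))) (BT.node 4146 (BT.node 4145 (BT.node 4144 (BT.leaf cE4144) (BT.leaf cE4145)) (BT.leaf cE4146)) (BT.node 4148 (BT.node 4147 (BT.leaf cE4147) (BT.leaf cE4148)) (BT.leaf cE4149)))) (BT.node 4156 (BT.node 4153 (BT.node 4151 (BT.node 4150 (BT.leaf cE4150) (BT.leaf cE4151)) (BT.node 4152 (BT.leaf cE4152) (BT.leaf cE4153))) (BT.node 4155 (BT.node 4154 (BT.leaf cE4154) (BT.leaf cE4155)) (BT.leaf cE4156))) (BT.node 4159 (BT.node 4158 (BT.node 4157 (BT.leaf cE4157) (BT.leaf cE4158)) (BT.leaf cE4159)) (BT.node 4161 (BT.node 4160 (BT.leaf cE4160) (BT.leaf cE4161)) (BT.leaf cE4162)))))) (BT.node 4188 (BT.node 4175 (BT.node 4169 (BT.node 4166 (BT.node 4164 (BT.node 4163 (BT.leaf cE4163) (BT.leaf cE4164)) (BT.node 4165 (BT.leaf cE4165) (BT.leaf cE4166))) (BT.node 4168 (BT.node 4167 (BT.leaf cE4167) (BT.leaf cE4168)) (BT.leaf cE4169))) (BT.node 4172 (BT.node 4171 (BT.node 4170 (BT.leaf cE4170) (BT.leaf cE4171)) (BT.leaf cE4172)) (BT.node 4174 (BT.node 4173 (BT.leaf cE4173) (BT.leaf cE4174)) (BT.leaf cE4175)))) (BT.node 4182 (BT.node 4179 (BT.node 4177 (BT.node 4176 (BT.leaf cE4176) (BT.leaf cE4177)) (BT.node 4178 (BT.leaf cE4178) (BT.leaf cE4179))) (BT.node 4181 (BT.node 4180 (BT.leaf cE4180) (BT.leaf cE4181)) (BT.leaf cE4182))) (BT.node 4185 (BT.node 4184 (BT.node 4183 (BT.leaf cE4183) (BT.leaf cE4184)) (BT.leaf cE4185)) (BT.node 4187 (BT.node 4186 (BT.leaf cE4186) (BT.leaf cE4187)) (BT.leaf cE4188))))) (BT.node 4201 (BT.node 4195 (BT.node 4192 (BT.node 4190 (BT.node 4189 (BT.leaf cE4189) (BT.leaf cE4190)) (BT.node 4191 (BT.leaf cE4191) (BT.leaf cE4192))) (BT.node 4194 (BT.node 4193 (BT.leaf cE4193) (BT.leaf cE4194)) (BT.leaf cE4195))) (BT.node 4198 (BT.node 4197 (BT.node 4196 (BT.leaf cE4196) (BT.leaf cE4197)) (BT.leaf cE4198)) (BT.node 4200 (BT.node 4199 (BT.leaf cE4199) (BT.leaf cE4200)) (BT.leaf cE4201)))) (BT.node 4208 (BT.node 4205 (BT.node 4203 (BT.node 4202 (BT.leaf cE4202) (BT.leaf cE4203)) (BT.node 4204 (BT.leaf cE4204) (BT.leaf cE4205))) (BT.node 4207 (BT.node 4206 (BT.leaf cE4206) (BT.leaf cE4207)) (BT.leaf cE4208))) (BT.node 4211 (BT.node 4210 (BT.node 4209 (BT.leaf cE4209) (BT.leaf cE4210)) (BT.leaf cE4211)) (BT.node 4213 (BT.node 4212 (BT.leaf cE4212) (BT.leaf cE4213)) (BT.leaf cE4214)))))))))) (BT.node 4636 (BT.node 4425 (BT.node 4320 (BT.node 4267 (BT.node 4241 (BT.node 4228 (BT.node 4221 (BT.node 4218 (BT.node 4216 (BT.node 4215 (BT.leaf cE4215) (BT.leaf cE4216)) (BT.node 4217 (BT.leaf cE4217) (BT.leaf cE4218))) (BT.node 4220 (BT.node 4219 (BT.leaf cE4219) (BT.leaf cE4220)) (BT.leaf cE4221))) (BT.node 4225 (BT.node 4223 (BT.node 4222 (BT.leaf cE4222) (BT.leaf cE4223)) (BT.node 4224 (BT.leaf cE4224) (BT.leaf cE4225))) (BT.node 4227 (BT.node 4226 (BT.leaf cE4226) (BT.leaf cE4227)) (BT.leaf cE4228)))) (BT.node 4235 (BT.node 4232 (BT.node 4230 (BT.node 4229 (BT.leaf cE4229) (BT.leaf cE4230)) (BT.node 4231 (BT.leaf cE4231) (BT.leaf cE4232))) (BT.node 4234 (BT.node 4233 (BT.leaf cE4233) (BT.leaf cE4234)) (BT.leaf cE4235))) (BT.node 4238 (BT.node 4237 (BT.node 4236 (BT.leaf cE4236) (BT.leaf cE4237)) (BT.leaf cE4238)) (BT.node 4240 (BT.node 4239 (BT.leaf cE4239) (BT.leaf cE4240)) (BT.leaf cE4241))))) (BT.node 4254 (BT.node 4248 (BT.node 4245 (BT.node 4243 (BT.node 4242 (BT.leaf cE4242) (BT.leaf cE4243)) (BT.node 4244 (BT.leaf cE4244) (BT.leaf cE4245))) (BT.node 4247 (BT.node 4246 (BT.leaf cE4246) (BT.leaf cE4247)) (BT.leaf cE4248))) (BT.node 4251 (BT.node 4250 (BT.node 4249 (BT.leaf cE4249) (BT.leaf cE4250)) (BT.leaf cE4251)) (BT.node 4253 (BT.node 4252 (BT.leaf cE4252) (BT.leaf cE4253)) (BT.leaf cE4254)))) (BT.node 4261 (BT.node 4258 (BT.node 4256 (BT.node 4255 (BT.leaf cE4255) (BT.leaf cE4256)) (BT.node 4257 (BT.leaf cE4257) (BT.leaf cE4258))) (BT.node 4260 (BT.node 4259 (BT.leaf cE4259) (BT.leaf cE4260)) (BT.leaf cE4261))) (BT.node 4264 (BT.node 4263 (BT.node 4262 (BT.leaf cE4262) (BT.leaf cE4263)) (BT.leaf cE4264)) (BT.node 4266 (BT.node 4265 (BT.leaf cE4265) (BT.leaf cE4266)) (BT.leaf cE4267)))))) (BT.node 4294 (BT.node 4281 (BT.node 4274 (BT.node 4271 (BT.node 4269 (BT.node 4268 (BT.leaf cE4268) (BT.leaf cE4269)) (BT.node 4270 (BT.leaf cE4270) (BT.leaf cE4271))) (BT.node 4273 (BT.node 4272 (BT.leaf cE4272) (BT.leaf cE4273)) (BT.leaf cE4274))) (BT.node 4278 (BT.node 4276 (BT.node 4275 (BT.leaf cE4275) (BT.leaf cE4276)) (BT.node 4277 (BT.leaf cE4277) (BT.leaf cE4278))) (BT.node 4280 (BT.node 4279 (BT.leaf cE4279) (BT.leaf cE4280)) (BT.leaf cE4281)))) (BT.node 4288 (BT.node 4285 (BT.node 4283 (BT.node 4282 (BT.leaf cE4282) (BT.leaf cE4283)) (BT.node 4284 (BT.leaf cE4284) (BT.leaf cE4285))) (BT.node 4287 (BT.node 4286 (BT.leaf cE4286) (BT.leaf cE4287)) (BT.leaf cE4288))) (BT.node 4291 (BT.node 4290 (BT.node 4289 (BT.leaf cE4289) (BT.leaf cE4290)) (BT.leaf cE4291)) (BT.node 4293 (BT.node 4292 (BT.leaf cE4292) (BT.leaf cE4293)) (BT.leaf cE4294))))) (BT.node 4307 (BT.node 4301 (BT.node 4298 (BT.node 4296 (BT.node 4295 (BT.leaf cE4295) (BT.leaf cE4296)) (BT.node 4297 (BT.leaf cE4297) (BT.leaf cE4298))) (BT.node 4300 (BT.node 4299 (BT.leaf cE4299) (BT.leaf cE4300)) (BT.leaf cE4301))) (BT.node 4304 (BT.node 4303 (BT.node 4302 (BT.leaf cE4302) (BT.leaf cE4303)) (BT.leaf cE4304)) (BT.node 4306 (BT.node 4305 (BT.leaf cE4305) (BT.leaf cE4306)) (BT.leaf cE4307)))) (BT.node 4314 (BT.node 4311 (BT.node 4309 (BT.node 4308 (BT.leaf cE4308) (BT.leaf cE4309)) (BT.node 4310 (BT.leaf cE4310) (BT.leaf cE4311))) (BT.node 4313 (BT.node 4312 (BT.leaf cE4312) (BT.leaf cE4313)) (BT.leaf cE4314))) (BT.node 4317 (BT.node 4316 (BT.node 4315 (BT.leaf cE4315) (BT.leaf cE4316)) (BT.leaf cE4317)) (BT.node 4319 (BT.node 4318 (BT.leaf cE4318) (BT.leaf cE4319)) (BT.leaf cE4320))))))) (BT.node 4373 (BT.node 4347 (BT.node 4334 (BT.node 4327 (BT.node 4324 (BT.node 4322 (BT.node 4321 (BT.leaf cE4321) (BT.leaf cE4322)) (BT.node 4323 (BT.leaf cE4323) (BT.leaf cE4324))) (BT.node 4326 (BT.node 4325 (BT.leaf cE4325) (BT.leaf cE4326)) (BT.leaf cE4327))) (BT.node 4331 (BT.node 4329 (BT.node 4328 (BT.leaf cE4328) (BT.leaf cE4329)) (BT.node 4330 (BT.leaf cE4330) (BT.leaf cE4331))) (BT.node 4333 (BT.node 4332 (BT.leaf cE4332) (BT.leaf cE4333)) (BT.leaf cE4334)))) (BT.node 4341 (BT.node 4338 (BT.node 4336 (BT.node 4335 (BT.leaf cE4335) (BT.leaf cE4336)) (BT.node 4337 (BT.leaf cE4337) (BT.leaf cE4338))) (BT.node 4340 (BT.node 4339 (BT.leaf cE4339) (BT.leaf cE4340)) (BT.leaf cE4341))) (BT.node 4344 (BT.node 4343 (BT.node 4342 (BT.leaf cE4342) (BT.leaf cE4343)) (BT.leaf cE4344)) (BT.node 4346 (BT.node 4345 (BT.leaf cE4345) (BT.leaf cE4346)) (BT.leaf cE4347))))) (BT.node 4360 (BT.node 4354 (BT.node 4351 (BT.node 4349 (BT.node 4348 (BT.leaf cE4348) (BT.leaf cE4349)) (BT.node 4350 (BT.leaf cE4350) (BT.leaf cE4351))) (BT.node 4353 (BT.node 4352 (BT.leaf cE4352) (BT.leaf cE4353)) (BT.leaf cE4354))) (BT.node 4357 (BT.node 4356 (BT.node 4355 (BT.leaf cE4355) (BT.leaf cE4356)) (BT.leaf cE4357)) (BT.node 4359 (BT.node 4358 (BT.leaf cE4358) (BT.leaf cE4359)) (BT.leaf cE4360)))) (BT.node 4367 (BT.node 4364 (BT.node 4362 (BT.node 4361 (BT.leaf cE4361) (BT.leaf cE4362)) (BT.node 4363 (BT.leaf cE4363) (BT.leaf cE4364))) (BT.node 4366 (BT.node 4365 (BT.leaf cE4365) (BT.leaf cE4366)) (BT.leaf cE4367))) (BT.node 4370 (BT.node 4369 (BT.node 4368 (BT.leaf cE4368) (BT.leaf cE4369)) (BT.leaf cE4370)) (BT.node 4372 (BT.node 4371 (BT.leaf cE4371) (BT.leaf cE4372)) (BT.leaf cE4373)))))) (BT.node 4399 (BT.node 4386 (BT.node 4380 (BT.node 4377 (BT.node 4375 (BT.node 4374 (BT.leaf cE4374) (BT.leaf cE4375)) (BT.node 4376 (BT.leaf cE4376) (BT.leaf cE4377))) (BT.node 4379 (BT.node 4378 (BT.leaf cE4378) (BT.leaf cE4379)) (BT.leaf cE4380))) (BT.node 4383 (BT.node 4382 (BT.node 4381 (BT.leaf cE4381) (BT.leaf cE4382)) (BT.leaf cE4383)) (BT.node 4385 (BT.node 4384 (BT.leaf cE4384) (BT.leaf cE4385)) (BT.leaf cE4386)))) (BT.node 4393 (BT.node 4390 (BT.node 4388 (BT.node 4387 (BT.leaf cE4387) (BT.leaf cE4388)) (BT.node 4389 (BT.leaf cE4389) (BT.leaf cE4390))) (BT.node 4392 (BT.node 4391 (BT.leaf cE4391) (BT.leaf cE4392)) (BT.leaf cE4393))) (BT.node 4396 (BT.node 4395 (BT.node 4394 (BT.leaf cE4394) (BT.leaf cE4395)) (BT.leaf cE4396)) (BT.node 4398 (BT.node 4397 (BT.leaf cE4397) (BT.leaf cE4398)) (BT.leaf cE4399))))) (BT.node 4412 (BT.node 4406 (BT.node 4403 (BT.node 4401 (BT.node 4400 (BT.leaf cE4400) (BT.leaf cE4401)) (BT.node 4402 (BT.leaf cE4402) (BT.leaf cE4403))) (BT.node 4405 (BT.node 4404 (BT.leaf cE4404) (BT.leaf cE4405)) (BT.leaf cE4406))) (BT.node 4409 (BT.node 4408 (BT.node 4407 (BT.leaf cE4407) (BT.leaf cE4408)) (BT.leaf cE4409)) (BT.node 4411 (BT.node 4410 (BT.leaf cE4410) (BT.leaf cE4411)) (BT.leaf cE4412)))) (BT.node 4419 (BT.node 4416 (BT.node 4414 (BT.node 4413 (BT.leaf cE4413) (BT.leaf cE4414)) (BT.node 4415 (BT.leaf cE4415) (BT.leaf cE4416))) (BT.node 4418 (BT.node 4417 (BT.leaf cE4417) (BT.leaf cE4418)) (BT.leaf cE4419))) (BT.node 4422 (BT.node 4421 (BT.node 4420 (BT.leaf cE4420) (BT.leaf cE4421)) (BT.leaf cE4422)) (BT.node 4424 (BT.node 4423 (BT.leaf cE4423) (BT.leaf cE4424)) (BT.leaf cE4425)))))))) (BT.node 4531 (BT.node 4478 (BT.node 4452 (BT.node 4439 (BT.node 4432 (BT.node 4429 (BT.node 4427 (BT.node 4426 (BT.leaf cE4426) (BT.leaf cE4427)) (BT.node 4428 (BT.leaf cE4428) (BT.leaf cE4429))) (BT.node 4431 (BT.node 4430 (BT.leaf cE4430) (BT.leaf cE4431)) (BT.leaf cE4432))) (BT.node 4436 (BT.node 4434 (BT.node 4433 (BT.leaf cE4433) (BT.leaf cE4434)) (BT.node 4435 (BT.leaf cE4435) (BT.leaf cE4436))) (BT.node 4438 (BT.node 4437 (BT.leaf cE4437) (BT.leaf cE4438)) (BT.leaf cE4439)))) (BT.node 4446 (BT.node 4443 (BT.node 4441 (BT.node 4440 (BT.leaf cE4440) (BT.leaf cE4441)) (BT.node 4442 (BT.leaf cE4442) (BT.leaf cE4443))) (BT.node 4445 (BT.node 4444 (BT.leaf cE4444) (BT.leaf cE4445)) (BT.leaf cE4446))) (BT.node 4449 (BT.node 4448 (BT.node 4447 (BT.leaf cE4447) (BT.leaf cE4448)) (BT.leaf cE4449)) (BT.node 4451 (BT.node 4450 (BT.leaf cE4450) (BT.leaf cE4451)) (BT.leaf cE4452))))) (BT.node 4465 (BT.node 4459 (BT.node 4456 (BT.node 4454 (BT.node 4453 (BT.leaf cE4453) (BT.leaf cE4454)) (BT.node 4455 (BT.leaf cE4455) (BT.leaf cE4456))) (BT.node 4458 (BT.node 4457 (BT.leaf cE4457) (BT.leaf cE4458)) (BT.leaf cE4459))) (BT.node 4462 (BT.node 4461 (BT.node 4460 (BT.leaf cE4460) (BT.leaf cE4461)) (BT.leaf cE4462)) (BT.node 4464 (BT.node 4463 (BT.leaf cE4463) (BT.leaf cE4464)) (BT.leaf cE4465)))) (BT.node 4472 (BT.node 4469 (BT.node 4467 (BT.node 4466 (BT.leaf cE4466) (BT.leaf cE4467)) (BT.node 4468 (BT.leaf cE4468) (BT.leaf cE4469))) (BT.node 4471 (BT.node 4470 (BT.leaf cE4470) (BT.leaf cE4471)) (BT.leaf cE4472))) (BT.node 4475 (BT.node 4474 (BT.node 4473 (BT.leaf cE4473) (BT.leaf cE4474)) (BT.leaf cE4475)) (BT.node 4477 (BT.node 4476 (BT.leaf cE4476) (BT.leaf cE4477)) (BT.leaf cE4478)))))) (BT.node 4505 (BT.node 4492 (BT.node 4485 (BT.node 4482 (BT.node 4480 (BT.node 4479 (BT.leaf cE4479) (BT.leaf cE4480)) (BT.node 4481 (BT.leaf cE4481) (BT.leaf cE4482))) (BT.node 4484 (BT.node 4483 (BT.leaf cE4483) (BT.leaf cE4484)) (BT.leaf cE4485))) (BT.node 4489 (BT.node 4487 (BT.node 4486 (BT.leaf cE4486) (BT.leaf cE4487)) (BT.node 4488 (BT.leaf cE4488) (BT.leaf cE4489))) (BT.node 4491 (BT.node 4490 (BT.leaf cE4490) (BT.leaf cE4491)) (BT.leaf cE4492)))) (BT.node 4499 (BT.node 4496 (BT.node 4494 (BT.node 4493 (BT.leaf cE4493) (BT.leaf cE4494)) (BT.node 4495 (BT.leaf cE4495) (BT.leaf cE4496))) (BT.node 4498 (BT.node 4497 (BT.leaf cE4497) (BT.leaf cE4498)) (BT.leaf cE4499))) (BT.node 4502 (BT.node 4501 (BT.node 4500 (BT.leaf cE4500) (BT.leaf cE4501)) (BT.leaf cE4502)) (BT.node 4504 (BT.node 4503 (BT.leaf cE4503) (BT.leaf cE4504)) (BT.leaf cE4505))))) (BT.node 4518 (BT.node 4512 (BT.node 4509 (BT.node 4507 (BT.node 4506 (BT.leaf cE4506) (BT.leaf cE4507)) (BT.node 4508 (BT.leaf cE4508) (BT.leaf cE4509))) (BT.node 4511 (BT.node 4510 (BT.leaf cE4510) (BT.leaf cE4511)) (BT.leaf cE4512))) (BT.node 4515 (BT.node 4514 (BT.node 4513 (BT.leaf cE4513) (BT.leaf cE4514)) (BT.leaf cE4515)) (BT.node 4517 (BT.node 4516 (BT.leaf cE4516) (BT.leaf cE4517)) (BT.leaf cE4518)))) (BT.node 4525 (BT.node 4522 (BT.node 4520 (BT.node 4519 (BT.leaf cE4519) (BT.leaf cE4520)) (BT.node 4521 (BT.leaf cE4521) (BT.leaf cE4522))) (BT.node 4524 (BT.node 4523 (BT.leaf cE4523) (BT.leaf cE4524)) (BT.leaf cE4525))) (BT.node 4528 (BT.node 4527 (BT.node 4526 (BT.leaf cE4526) (BT.leaf cE4527)) (BT.leaf cE4528)) (BT.node 4530 (BT.node 4529 (BT.leaf cE4529) (BT.leaf cE4530)) (BT.leaf cE4531))))))) (BT.node 4584 (BT.node 4558 (BT.node 4545 (BT.node 4538 (BT.node 4535 (BT.node 4533 (BT.node 4532 (BT.leaf cE4532) (BT.leaf cE4533)) (BT.node 4534 (BT.leaf cE4534) (BT.leaf cE4535))) (BT.node 4537 (BT.node 4536 (BT.leaf cE4536) (BT.leaf cE4537)) (BT.leaf cE4538))) (BT.node 4542 (BT.node 4540 (BT.node 4539 (BT.leaf cE4539) (BT.leaf cE4540)) (BT.node 4541 (BT.leaf cE4541) (BT.leaf cE4542))) (BT.node 4544 (BT.node 4543 (BT.leaf cE4543) (BT.leaf cE4544)) (BT.leaf cE4545)))) (BT.node 4552 (BT.node 4549 (BT.node 4547 (BT.node 4546 (BT.leaf cE4546) (BT.leaf cE4547)) (BT.node 4548 (BT.leaf cE4548) (BT.leaf cE4549))) (BT.node 4551 (BT.node 4550 (BT.leaf cE4550) (BT.leaf cE4551)) (BT.leaf cE4552))) (BT.node 4555 (BT.node 4554 (BT.node 4553 (BT.leaf cE4553) (BT.leaf cE4554)) (BT.leaf cE4555)) (BT.node 4557 (BT.node 4556 (BT.leaf cE4556) (BT.leaf cE4557)) (BT.leaf cE4558))))) (BT.node 4571 (BT.node 4565 (BT.node 4562 (BT.node 4560 (BT.node 4559 (BT.leaf cE4559) (BT.leaf cE4560)) (BT.node 4561 (BT.leaf cE4561) (BT.leaf cE4562))) (BT.node 4564 (BT.node 4563 (BT.leaf cE4563) (BT.leaf cE4564)) (BT.leaf cE4565))) (BT.node 4568 (BT.node 4567 (BT.node 4566 (BT.leaf cE4566) (BT.leaf cE4567)) (BT.leaf cE4568)) (BT.node 4570 (BT.node 4569 (BT.leaf cE4569) (BT.leaf cE4570)) (BT.leaf cE4571)))) (BT.node 4578 (BT.node 4575 (BT.node 4573 (BT.node 4572 (BT.leaf cE4572) (BT.leaf cE4573)) (BT.node 4574 (BT.leaf cE4574) (BT.leaf cE4575))) (BT.node 4577 (BT.node 4576 (BT.leaf cE4576) (BT.leaf cE4577)) (BT.leaf cE4578))) (BT.node 4581 (BT.node 4580 (BT.node 4579 (BT.leaf cE4579) (BT.leaf cE4580)) (BT.leaf cE4581)) (BT.node 4583 (BT.node 4582 (BT.leaf cE4582) (BT.leaf cE4583)) (BT.leaf cE4584)))))) (BT.node 4610 (BT.node 4597 (BT.node 4591 (BT.node 4588 (BT.node 4586 (BT.node 4585 (BT.leaf cE4585) (BT.leaf cE4586)) (BT.node 4587 (BT.leaf cE4587) (BT.leaf cE4588))) (BT.node 4590 (BT.node 4589 (BT.leaf cE4589) (BT.leaf cE4590)) (BT.leaf cE4591))) (BT.node 4594 (BT.node 4593 (BT.node 4592 (BT.leaf cE4592) (BT.leaf cE4593)) (BT.leaf cE4594)) (BT.node 4596 (BT.node 4595 (BT.leaf cE4595) (BT.leaf cE4596)) (BT.leaf cE4597)))) (BT.node 4604 (BT.node 4601 (BT.node 4599 (BT.node 4598 (BT.leaf cE4598) (BT.leaf cE4599)) (BT.node 4600 (BT.leaf cE4600) (BT.leaf cE4601))) (BT.node 4603 (BT.node 4602 (BT.leaf cE4602) (BT.leaf cE4603)) (BT.leaf cE4604))) (BT.node 4607 (BT.node 4606 (BT.node 4605 (BT.leaf cE4605) (BT.leaf cE4606)) (BT.leaf cE4607)) (BT.node 4609 (BT.node 4608 (BT.leaf cE4608) (BT.leaf cE4609)) (BT.leaf cE4610))))) (BT.node 4623 (BT.node 4617 (BT.node 4614 (BT.node 4612 (BT.node 4611 (BT.leaf cE4611) (BT.leaf cE4612)) (BT.node 4613 (BT.leaf cE4613) (BT.leaf cE4614))) (BT.node 4616 (BT.node 4615 (BT.leaf cE4615) (BT.leaf cE4616)) (BT.leaf cE4617))) (BT.node 4620 (BT.node 4619 (BT.node 4618 (BT.leaf cE4618) (BT.leaf cE4619)) (BT.leaf cE4620)) (BT.node 4622 (BT.node 4621 (BT.leaf cE4621) (BT.leaf cE4622)) (BT.leaf cE4623)))) (BT.node 4630 (BT.node 4627 (BT.node 4625 (BT.node 4624 (BT.leaf cE4624) (BT.leaf cE4625)) (BT.node 4626 (BT.leaf cE4626) (BT.leaf cE4627))) (BT.node 4629 (BT.node 4628 (BT.leaf cE4628) (BT.leaf cE4629)) (BT.leaf cE4630))) (BT.node 4633 (BT.node 4632 (BT.node 4631 (BT.leaf cE4631) (BT.leaf cE4632)) (BT.leaf cE4633)) (BT.node 4635 (BT.node 4634 (BT.leaf cE4634) (BT.leaf cE4635)) (BT.leaf cE4636))))))))) (BT.node 4847 (BT.node 4742 (BT.node 4689 (BT.node 4663 (BT.node 4650 (BT.node 4643 (BT.node 4640 (BT.node 4638 (BT.node 4637 (BT.leaf cE4637) (BT.leaf cE4638)) (BT.node 4639 (BT.leaf cE4639) (BT.leaf cE4640))) (BT.node 4642 (BT.node 4641 (BT.leaf cE4641) (BT.leaf cE4642)) (BT.leaf cE4643))) (BT.node 4647 (BT.node 4645 (BT.node 4644 (BT.leaf cE4644) (BT.leaf cE4645)) (BT.node 4646 (BT.leaf cE4646) (BT.leaf cE4647))) (BT.node 4649 (BT.node 4648 (BT.leaf cE4648) (BT.leaf cE4649)) (BT.leaf cE4650)))) (BT.node 4657 (BT.node 4654 (BT.node 4652 (BT.node 4651 (BT.leaf cE4651) (BT.leaf cE4652)) (BT.node 4653 (BT.leaf cE4653) (BT.leaf cE4654))) (BT.node 4656 (BT.node 4655 (BT.leaf cE4655) (BT.leaf cE4656)) (BT.leaf cE4657))) (BT.node 4660 (BT.node 4659 (BT.node 4658 (BT.leaf cE4658) (BT.leaf cE4659)) (BT.leaf cE4660)) (BT.node 4662 (BT.node 4661 (BT.leaf cE4661) (BT.leaf cE4662)) (BT.leaf cE4663))))) (BT.node 4676 (BT.node 4670 (BT.node 4667 (BT.node 4665 (BT.node 4664 (BT.leaf cE4664) (BT.leaf cE4665)) (BT.node 4666 (BT.leaf cE4666) (BT.leaf cE4667))) (BT.node 4669 (BT.node 4668 (BT.leaf cE4668) (BT.leaf cE4669)) (BT.leaf cE4670))) (BT.node 4673 (BT.node 4672 (BT.node 4671 (BT.leaf cE4671) (BT.leaf cE4672)) (BT.leaf cE4673)) (BT.node 4675 (BT.node 4674 (BT.leaf cE4674) (BT.leaf cE4675)) (BT.leaf cE4676)))) (BT.node 4683 (BT.node 4680 (BT.node 4678 (BT.node 4677 (BT.leaf cE4677) (BT.leaf cE4678)) (BT.node 4679 (BT.leaf cE4679) (BT.leaf cE4680))) (BT.node 4682 (BT.node 4681 (BT.leaf cE4681) (BT.leaf cE4682)) (BT.leaf cE4683))) (BT.node 4686 (BT.node 4685 (BT.node 4684 (BT.leaf cE4684) (BT.leaf cE4685)) (BT.leaf cE4686)) (BT.node 4688 (BT.node 4687 (BT.leaf cE4687) (BT.leaf cE4688)) (BT.leaf cE4689)))))) (BT.node 4716 (BT.node 4703 (BT.node 4696 (BT.node 4693 (BT.node 4691 (BT.node 4690 (BT.leaf cE4690) (BT.leaf cE4691)) (BT.node 4692 (BT.leaf cE4692) (BT.leaf cE4693))) (BT.node 4695 (BT.node 4694 (BT.leaf cE4694) (BT.leaf cE4695)) (BT.leaf cE4696))) (BT.node 4700 (BT.node 4698 (BT.node 4697 (BT.leaf cE4697) (BT.leaf cE4698)) (BT.node 4699 (BT.leaf cE4699) (BT.leaf cE4700))) (BT.node 4702 (BT.node 4701 (BT.leaf cE4701) (BT.leaf cE4702)) (BT.leaf cE4703)))) (BT.node 4710 (BT.node 4707 (BT.node 4705 (BT.node 4704 (BT.leaf cE4704) (BT.leaf cE4705)) (BT.node 4706 (BT.leaf cE4706) (BT.leaf cE4707))) (BT.node 4709 (BT.node 4708 (BT.leaf cE4708) (BT.leaf cE4709)) (BT.leaf cE4710))) (BT.node 4713 (BT.node 4712 (BT.node 4711 (BT.leaf cE4711) (BT.leaf cE4712)) (BT.leaf cE4713)) (BT.node 4715 (BT.node 4714 (BT.leaf cE4714) (BT.leaf cE4715)) (BT.leaf cE4716))))) (BT.node 4729 (BT.node 4723 (BT.node 4720 (BT.node 4718 (BT.node 4717 (BT.leaf cE4717) (BT.leaf cE4718)) (BT.node 4719 (BT.leaf cE4719) (BT.leaf cE4720))) (BT.node 4722 (BT.node 4721 (BT.leaf cE4721) (BT.leaf cE4722)) (BT.leaf cE4723))) (BT.node 4726 (BT.node 4725 (BT.node 4724 (BT.leaf cE4724) (BT.leaf cE4725)) (BT.leaf cE4726)) (BT.node 4728 (BT.node 4727 (BT.leaf cE4727) (BT.leaf cE4728)) (BT.leaf cE4729)))) (BT.node 4736 (BT.node 4733 (BT.node 4731 (BT.node 4730 (BT.leaf cE4730) (BT.leaf cE4731)) (BT.node 4732 (BT.leaf cE4732) (BT.leaf cE4733))) (BT.node 4735 (BT.node 4734 (BT.leaf cE4734) (BT.leaf cE4735)) (BT.leaf cE4736))) (BT.node 4739 (BT.node 4738 (BT.node 4737 (BT.leaf cE4737) (BT.leaf cE4738)) (BT.leaf cE4739)) (BT.node 4741 (BT.node 4740 (BT.leaf cE4740) (BT.leaf cE4741)) (BT.leaf cE4742))))))) (BT.node 4795 (BT.node 4769 (BT.node 4756 (BT.node 4749 (BT.node 4746 (BT.node 4744 (BT.node 4743 (BT.leaf cE4743) (BT.leaf cE4744)) (BT.node 4745 (BT.leaf cE4745) (BT.leaf cE4746))) (BT.node 4748 (BT.node 4747 (BT.leaf cE4747) (BT.leaf cE4748)) (BT.leaf cE4749))) (BT.node 4753 (BT.node 4751 (BT.node 4750 (BT.leaf cE4750) (BT.leaf cE4751)) (BT.node 4752 (BT.leaf cE4752) (BT.leaf cE4753))) (BT.node 4755 (BT.node 4754 (BT.leaf cE4754) (BT.leaf cE4755)) (BT.leaf cE4756)))) (BT.node 4763 (BT.node 4760 (BT.node 4758 (BT.node 4757 (BT.leaf cE4757) (BT.leaf cE4758)) (BT.node 4759 (BT.leaf cE4759) (BT.leaf cE4760))) (BT.node 4762 (BT.node 4761 (BT.leaf cE4761) (BT.leaf cE4762)) (BT.leaf cE4763))) (BT.node 4766 (BT.node 4765 (BT.node 4764 (BT.leaf cE4764) (BT.leaf cE4765)) (BT.leaf cE4766)) (BT.node 4768 (BT.node 4767 (BT.leaf cE4767) (BT.leaf cE4768)) (BT.leaf cE4769))))) (BT.node 4782 (BT.node 4776 (BT.node 4773 (BT.node 4771 (BT.node 4770 (BT.leaf cE4770) (BT.leaf cE4771)) (BT.node 4772 (BT.leaf cE4772) (BT.leaf cE4773))) (BT.node 4775 (BT.node 4774 (BT.leaf cE4774) (BT.leaf cE4775)) (BT.leaf cE4776))) (BT.node 4779 (BT.node 4778 (BT.node 4777 (BT.leaf cE4777) (BT.leaf cE4778)) (BT.leaf cE4779)) (BT.node 4781 (BT.node 4780 (BT.leaf cE4780) (BT.leaf cE4781)) (BT.leaf cE4782)))) (BT.node 4789 (BT.node 4786 (BT.node 4784 (BT.node 4783 (BT.leaf cE4783) (BT.leaf cE4784)) (BT.node 4785 (BT.leaf cE4785) (BT.leaf cE4786))) (BT.node 4788 (BT.node 4787 (BT.leaf cE4787) (BT.leaf cE4788)) (BT.leaf cE4789))) (BT.node 4792 (BT.node 4791 (BT.node 4790 (BT.leaf cE4790) (BT.leaf cE4791)) (BT.leaf cE4792)) (BT.node 4794 (BT.node 4793 (BT.leaf cE4793) (BT.leaf cE4794)) (BT.leaf cE4795)))))) (BT.node 4821 (BT.node 4808 (BT.node 4802 (BT.node 4799 (BT.node 4797 (BT.node 4796 (BT.leaf cE4796) (BT.leaf cE4797)) (BT.node 4798 (BT.leaf cE4798) (BT.leaf cE4799))) (BT.node 4801 (BT.node 4800 (BT.leaf cE4800) (BT.leaf cE4801)) (BT.leaf cE4802))) (BT.node 4805 (BT.node 4804 (BT.node 4803 (BT.leaf cE4803) (BT.leaf cE4804)) (BT.leaf cE4805)) (BT.node 4807 (BT.node 4806 (BT.leaf cE4806) (BT.leaf cE4807)) (BT.leaf cE4808)))) (BT.node 4815 (BT.node 4812 (BT.node 4810 (BT.node 4809 (BT.leaf cE4809) (BT.leaf cE4810)) (BT.node 4811 (BT.leaf cE4811) (BT.leaf cE4812))) (BT.node 4814 (BT.node 4813 (BT.leaf cE4813) (BT.leaf cE4814)) (BT.leaf cE4815))) (BT.node 4818 (BT.node 4817 (BT.node 4816 (BT.leaf cE4816) (BT.leaf cE4817)) (BT.leaf cE4818)) (BT.node 4820 (BT.node 4819 (BT.leaf cE4819) (BT.leaf cE4820)) (BT.leaf cE4821))))) (BT.node 4834 (BT.node 4828 (BT.node 4825 (BT.node 4823 (BT.node 4822 (BT.leaf cE4822) (BT.leaf cE4823)) (BT.node 4824 (BT.leaf cE4824) (BT.leaf cE4825))) (BT.node 4827 (BT.node 4826 (BT.leaf cE4826) (BT.leaf cE4827)) (BT.leaf cE4828))) (BT.node 4831 (BT.node 4830 (BT.node 4829 (BT.leaf cE4829) (BT.leaf cE4830)) (BT.leaf cE4831)) (BT.node 4833 (BT.node 4832 (BT.leaf cE4832) (BT.leaf cE4833)) (BT.leaf cE4834)))) (BT.node 4841 (BT.node 4838 (BT.node 4836 (BT.node 4835 (BT.leaf cE4835) (BT.leaf cE4836)) (BT.node 4837 (BT.leaf cE4837) (BT.leaf cE4838))) (BT.node 4840 (BT.node 4839 (BT.leaf cE4839) (BT.leaf cE4840)) (BT.leaf cE4841))) (BT.node 4844 (BT.node 4843 (BT.node 4842 (BT.leaf cE4842) (BT.leaf cE4843)) (BT.leaf cE4844)) (BT.node 4846 (BT.node 4845 (BT.leaf cE4845) (BT.leaf cE4846)) (BT.leaf cE4847)))))))) (BT.node 4952 (BT.node 4900 (BT.node 4874 (BT.node 4861 (BT.node 4854 (BT.node 4851 (BT.node 4849 (BT.node 4848 (BT.leaf cE4848) (BT.leaf cE4849)) (BT.node 4850 (BT.leaf cE4850) (BT.leaf cE4851))) (BT.node 4853 (BT.node 4852 (BT.leaf cE4852) (BT.leaf cE4853)) (BT.leaf cE4854))) (BT.node 4858 (BT.node 4856 (BT.node 4855 (BT.leaf cE4855) (BT.leaf cE4856)) (BT.node 4857 (BT.leaf cE4857) (BT.leaf cE4858))) (BT.node 4860 (BT.node 4859 (BT.leaf cE4859) (BT.leaf cE4860)) (BT.leaf cE4861)))) (BT.node 4868 (BT.node 4865 (BT.node 4863 (BT.node 4862 (BT.leaf cE4862) (BT.leaf cE4863)) (BT.node 4864 (BT.leaf cE4864) (BT.leaf cE4865))) (BT.node 4867 (BT.node 4866 (BT.leaf cE4866) (BT.leaf cE4867)) (BT.leaf cE4868))) (BT.node 4871 (BT.node 4870 (BT.node 4869 (BT.leaf cE4869) (BT.leaf cE4870)) (BT.leaf cE4871)) (BT.node 4873 (BT.node 4872 (BT.leaf cE4872) (BT.leaf cE4873)) (BT.leaf cE4874))))) (BT.node 4887 (BT.node 4881 (BT.node 4878 (BT.node 4876 (BT.node 4875 (BT.leaf cE4875) (BT.leaf cE4876)) (BT.node 4877 (BT.leaf cE4877) (BT.leaf cE4878))) (BT.node 4880 (BT.node 4879 (BT.leaf cE4879) (BT.leaf cE4880)) (BT.leaf cE4881))) (BT.node 4884 (BT.node 4883 (BT.node 4882 (BT.leaf cE4882) (BT.leaf cE4883)) (BT.leaf cE4884)) (BT.node 4886 (BT.node 4885 (BT.leaf cE4885) (BT.leaf cE4886)) (BT.leaf cE4887)))) (BT.node 4894 (BT.node 4891 (BT.node 4889 (BT.node 4888 (BT.leaf cE4888) (BT.leaf cE4889)) (BT.node 4890 (BT.leaf cE4890) (BT.leaf cE4891))) (BT.node 4893 (BT.node 4892 (BT.leaf cE4892) (BT.leaf cE4893)) (BT.leaf cE4894))) (BT.node 4897 (BT.node 4896 (BT.node 4895 (BT.leaf cE4895) (BT.leaf cE4896)) (BT.leaf cE4897)) (BT.node 4899 (BT.node 4898 (BT.leaf cE4898) (BT.leaf cE4899)) (BT.leaf cE4900)))))) (BT.node 4926 (BT.node 4913 (BT.node 4907 (BT.node 4904 (BT.node 4902 (BT.node 4901 (BT.leaf cE4901) (BT.leaf cE4902)) (BT.node 4903 (BT.leaf cE4903) (BT.leaf cE4904))) (BT.node 4906 (BT.node 4905 (BT.leaf cE4905) (BT.leaf cE4906)) (BT.leaf cE4907))) (BT.node 4910 (BT.node 4909 (BT.node 4908 (BT.leaf cE4908) (BT.leaf cE4909)) (BT.leaf cE4910)) (BT.node 4912 (BT.node 4911 (BT.leaf cE4911) (BT.leaf cE4912)) (BT.leaf cE4913)))) (BT.node 4920 (BT.node 4917 (BT.node 4915 (BT.node 4914 (BT.leaf cE4914) (BT.leaf cE4915)) (BT.node 4916 (BT.leaf cE4916) (BT.leaf cE4917))) (BT.node 4919 (BT.node 4918 (BT.leaf cE4918) (BT.leaf cE4919)) (BT.leaf cE4920))) (BT.node 4923 (BT.node 4922 (BT.node 4921 (BT.leaf cE4921) (BT.leaf cE4922)) (BT.leaf cE4923)) (BT.node 4925 (BT.node 4924 (BT.leaf cE4924) (BT.leaf cE4925)) (BT.leaf cE4926))))) (BT.node 4939 (BT.node 4933 (BT.node 4930 (BT.node 4928 (BT.node 4927 (BT.leaf cE4927) (BT.leaf cE4928)) (BT.node 4929 (BT.leaf cE4929) (BT.leaf cE4930))) (BT.node 4932 (BT.node 4931 (BT.leaf cE4931) (BT.leaf cE4932)) (BT.leaf cE4933))) (BT.node 4936 (BT.node 4935 (BT.node 4934 (BT.leaf cE4934) (BT.leaf cE4935)) (BT.leaf cE4936)) (BT.node 4938 (BT.node 4937 (BT.leaf cE4937) (BT.leaf cE4938)) (BT.leaf cE4939)))) (BT.node 4946 (BT.node 4943 (BT.node 4941 (BT.node 4940 (BT.leaf cE4940) (BT.leaf cE4941)) (BT.node 4942 (BT.leaf cE4942) (BT.leaf cE4943))) (BT.node 4945 (BT.node 4944 (BT.leaf cE4944) (BT.leaf cE4945)) (BT.leaf cE4946))) (BT.node 4949 (BT.node 4948 (BT.node 4947 (BT.leaf cE4947) (BT.leaf cE4948)) (BT.leaf cE4949)) (BT.node 4951 (BT.node 4950 (BT.leaf cE4950) (BT.leaf cE4951)) (BT.leaf cE4952))))))) (BT.node 5005 (BT.node 4979 (BT.node 4966 (BT.node 4959 (BT.node 4956 (BT.node 4954 (BT.node 4953 (BT.leaf cE4953) (BT.leaf cE4954)) (BT.node 4955 (BT.leaf cE4955) (BT.leaf cE4956))) (BT.node 4958 (BT.node 4957 (BT.leaf cE4957) (BT.leaf cE4958)) (BT.leaf cE4959))) (BT.node 4963 (BT.node 4961 (BT.node 4960 (BT.leaf cE4960) (BT.leaf cE4961)) (BT.node 4962 (BT.leaf cE4962) (BT.leaf cE4963))) (BT.node 4965 (BT.node 4964 (BT.leaf cE4964) (BT.leaf cE4965)) (BT.leaf cE4966)))) (BT.node 4973 (BT.node 4970 (BT.node 4968 (BT.node 4967 (BT.leaf cE4967) (BT.leaf cE4968)) (BT.node 4969 (BT.leaf cE4969) (BT.leaf cE4970))) (BT.node 4972 (BT.node 4971 (BT.leaf cE4971) (BT.leaf cE4972)) (BT.leaf cE4973))) (BT.node 4976 (BT.node 4975 (BT.node 4974 (BT.leaf cE4974) (BT.leaf cE4975)) (BT.leaf cE4976)) (BT.node 4978 (BT.node 4977 (BT.leaf cE4977) (BT.leaf cE4978)) (BT.leaf cE4979))))) (BT.node 4992 (BT.node 4986 (BT.node 4983 (BT.node 4981 (BT.node 4980 (BT.leaf cE4980) (BT.leaf cE4981)) (BT.node 4982 (BT.leaf cE4982) (BT.leaf cE4983))) (BT.node 4985 (BT.node 4984 (BT.leaf cE4984) (BT.leaf cE4985)) (BT.leaf cE4986))) (BT.node 4989 (BT.node 4988 (BT.node 4987 (BT.leaf cE4987) (BT.leaf cE4988)) (BT.leaf cE4989)) (BT.node 4991 (BT.node 4990 (BT.leaf cE4990) (BT.leaf cE4991)) (BT.leaf cE4992)))) (BT.node 4999 (BT.node 4996 (BT.node 4994 (BT.node 4993 (BT.leaf cE4993) (BT.leaf cE4994)) (BT.node 4995 (BT.leaf cE4995) (BT.leaf cE4996))) (BT.node 4998 (BT.node 4997 (BT.leaf cE4997) (BT.leaf cE4998)) (BT.leaf cE4999))) (BT.node 5002 (BT.node 5001 (BT.node 5000 (BT.leaf cE5000) (BT.leaf cE5001)) (BT.leaf cE5002)) (BT.node 5004 (BT.node 5003 (BT.leaf cE5003) (BT.leaf cE5004)) (BT.leaf cE5005)))))) (BT.node 5031 (BT.node 5018 (BT.node 5012 (BT.node 5009 (BT.node 5007 (BT.node 5006 (BT.leaf cE5006) (BT.leaf cE5007)) (BT.node 5008 (BT.leaf cE5008) (BT.leaf cE5009))) (BT.node 5011 (BT.node 5010 (BT.leaf cE5010) (BT.leaf cE5011)) (BT.leaf cE5012))) (BT.node 5015 (BT.node 5014 (BT.node 5013 (BT.leaf cE5013) (BT.leaf cE5014)) (BT.leaf cE5015)) (BT.node 5017 (BT.node 5016 (BT.leaf cE5016) (BT.leaf cE5017)) (BT.leaf cE5018)))) (BT.node 5025 (BT.node 5022 (BT.node 5020 (BT.node 5019 (BT.leaf cE5019) (BT.leaf cE5020)) (BT.node 5021 (BT.leaf cE5021) (BT.leaf cE5022))) (BT.node 5024 (BT.node 5023 (BT.leaf cE5023) (BT.leaf cE5024)) (BT.leaf cE5025))) (BT.node 5028 (BT.node 5027 (BT.node 5026 (BT.leaf cE5026) (BT.leaf cE5027)) (BT.leaf cE5028)) (BT.node 5030 (BT.node 5029 (BT.leaf cE5029) (BT.leaf cE5030)) (BT.leaf cE5031))))) (BT.node 5044 (BT.node 5038 (BT.node 5035 (BT.node 5033 (BT.node 5032 (BT.leaf cE5032) (BT.leaf cE5033)) (BT.node 5034 (BT.leaf cE5034) (BT.leaf cE5035))) (BT.node 5037 (BT.node 5036 (BT.leaf cE5036) (BT.leaf cE5037)) (BT.leaf cE5038))) (BT.node 5041 (BT.node 5040 (BT.node 5039 (BT.leaf cE5039) (BT.leaf cE5040)) (BT.leaf cE5041)) (BT.node 5043 (BT.node 5042 (BT.leaf cE5042) (BT.leaf cE5043)) (BT.leaf cE5044)))) (BT.node 5051 (BT.node 5048 (BT.node 5046 (BT.node 5045 (BT.leaf cE5045) (BT.leaf cE5046)) (BT.node 5047 (BT.leaf cE5047) (BT.leaf cE5048))) (BT.node 5050 (BT.node 5049 (BT.leaf cE5049) (BT.leaf cE5050)) (BT.leaf cE5051))) (BT.node 5054 (BT.node 5053 (BT.node 5052 (BT.leaf cE5052) (BT.leaf cE5053)) (BT.leaf cE5054)) (BT.node 5056 (BT.node 5055 (BT.leaf cE5055) (BT.leaf cE5056)) (BT.leaf cE5057))))))))))) (BT.node 5900 (BT.node 5479 (BT.node 5268 (BT.node 5163 (BT.node 5110 (BT.node 5084 (BT.node 5071 (BT.node 5064 (BT.node 5061 (BT.node 5059 (BT.node 5058 (BT.leaf cE5058) (BT.leaf cE5059)) (BT.node 5060 (BT.leaf cE5060) (BT.leaf cE5061))) (BT.node 5063 (BT.node 5062 (BT.leaf cE5062) (BT.leaf cE5063)) (BT.leaf cE5064))) (BT.node 5068 (BT.node 5066 (BT.node 5065 (BT.leaf cE5065) (BT.leaf cE5066)) (BT.node 5067 (BT.leaf cE5067) (BT.leaf cE5068))) (BT.node 5070 (BT.node 5069 (BT.leaf cE5069) (BT.leaf cE5070)) (BT.leaf cE5071)))) (BT.node 5078 (BT.node 5075 (BT.node 5073 (BT.node 5072 (BT.leaf cE5072) (BT.leaf cE5073)) (BT.node 5074 (BT.leaf cE5074) (BT.leaf cE5075))) (BT.node 5077 (BT.node 5076 (BT.leaf cE5076) (BT.leaf cE5077)) (BT.leaf cE5078))) (BT.node 5081 (BT.node 5080 (BT.node 5079 (BT.leaf cE5079) (BT.leaf cE5080)) (BT.leaf cE5081)) (BT.node 5083 (BT.node 5082 (BT.leaf cE5082) (BT.leaf cE5083)) (BT.leaf cE5084))))) (BT.node 5097 (BT.node 5091 (BT.node 5088 (BT.node 5086 (BT.node 5085 (BT.leaf cE5085) (BT.leaf cE5086)) (BT.node 5087 (BT.leaf cE5087) (BT.leaf cE5088))) (BT.node 5090 (BT.node 5089 (BT.leaf cE5089) (BT.leaf cE5090)) (BT.leaf cE5091))) (BT.node 5094 (BT.node 5093 (BT.node 5092 (BT.leaf cE5092) (BT.leaf cE5093)) (BT.leaf cE5094)) (BT.node 5096 (BT.node 5095 (BT.leaf cE5095) (BT.leaf cE5096)) (BT.leaf cE5097)))) (BT.node 5104 (BT.node 5101 (BT.node 5099 (BT.node 5098 (BT.leaf cE5098) (BT.leaf cE5099)) (BT.node 5100 (BT.leaf cE5100) (BT.leaf cE5101))) (BT.node 5103 (BT.node 5102 (BT.leaf cE5102) (BT.leaf cE5103)) (BT.leaf cE5104))) (BT.node 5107 (BT.node 5106 (BT.node 5105 (BT.leaf cE5105) (BT.leaf cE5106)) (BT.leaf cE5107)) (BT.node 5109 (BT.node 5108 (BT.leaf cE5108) (BT.leaf cE5109)) (BT.leaf cE5110)))))) (BT.node 5137 (BT.node 5124 (BT.node 5117 (BT.node 5114 (BT.node 5112 (BT.node 5111 (BT.leaf cE5111) (BT.leaf cE5112)) (BT.node 5113 (BT.leaf cE5113) (BT.leaf cE5114))) (BT.node 5116 (BT.node 5115 (BT.leaf cE5115) (BT.leaf cE5116)) (BT.leaf cE5117))) (BT.node 5121 (BT.node 5119 (BT.node 5118 (BT.leaf cE5118) (BT.leaf cE5119)) (BT.node 5120 (BT.leaf cE5120) (BT.leaf cE5121))) (BT.node 5123 (BT.node 5122 (BT.leaf cE5122) (BT.leaf cE5123)) (BT.leaf cE5124)))) (BT.node 5131 (BT.node 5128 (BT.node 5126 (BT.node 5125 (BT.leaf cE5125) (BT.leaf cE5126)) (BT.node 5127 (BT.leaf cE5127) (BT.leaf cE5128))) (BT.node 5130 (BT.node 5129 (BT.leaf cE5129) (BT.leaf cE5130)) (BT.leaf cE5131))) (BT.node 5134 (BT.node 5133 (BT.node 5132 (BT.leaf cE5132) (BT.leaf cE5133)) (BT.leaf cE5134)) (BT.node 5136 (BT.node 5135 (BT.leaf cE5135) (BT.leaf cE5136)) (BT.leaf cE5137))))) (BT.node 5150 (BT.node 5144 (BT.node 5141 (BT.node 5139 (BT.node 5138 (BT.leaf cE5138) (BT.leaf cE5139)) (BT.node 5140 (BT.leaf cE5140) (BT.leaf cE5141))) (BT.node 5143 (BT.node 5142 (BT.leaf cE5142) (BT.leaf cE5143)) (BT.leaf cE5144))) (BT.node 5147 (BT.node 5146 (BT.node 5145 (BT.leaf cE5145) (BT.leaf cE5146)) (BT.leaf cE5147)) (BT.node 5149 (BT.node 5148 (BT.leaf cE5148) (BT.leaf cE5149)) (BT.leaf cE5150)))) (BT.node 5157 (BT.node 5154 (BT.node 5152 (BT.node 5151 (BT.leaf cE5151) (BT.leaf cE5152)) (BT.node 5153 (BT.leaf cE5153) (BT.leaf cE5154))) (BT.node 5156 (BT.node 5155 (BT.leaf cE5155) (BT.leaf cE5156)) (BT.leaf cE5157))) (BT.node 5160 (BT.node 5159 (BT.node 5158 (BT.leaf cE5158) (BT.leaf cE5159)) (BT.leaf cE5160)) (BT.node 5162 (BT.node 5161 (BT.leaf cE5161) (BT.leaf cE5162)) (BT.leaf cE5163))))))) (BT.node 5216 (BT.node 5190 (BT.node 5177 (BT.node 5170 (BT.node 5167 (BT.node 5165 (BT.node 5164 (BT.leaf cE5164) (BT.leaf cE5165)) (BT.node 5166 (BT.leaf cE5166) (BT.leaf cE5167))) (BT.node 5169 (BT.node 5168 (BT.leaf cE5168) (BT.leaf cE5169)) (BT.leaf cE5170))) (BT.node 5174 (BT.node 5172 (BT.node 5171 (BT.leaf cE5171) (BT.leaf cE5172)) (BT.node 5173 (BT.leaf cE5173) (BT.leaf cE5174))) (BT.node 5176 (BT.node 5175 (BT.leaf cE5175) (BT.leaf cE5176)) (BT.leaf cE5177)))) (BT.node 5184 (BT.node 5181 (BT.node 5179 (BT.node 5178 (BT.leaf cE5178) (BT.leaf cE5179)) (BT.node 5180 (BT.leaf cE5180) (BT.leaf cE5181))) (BT.node 5183 (BT.node 5182 (BT.leaf cE5182) (BT.leaf cE5183)) (BT.leaf cE5184))) (BT.node 5187 (BT.node 5186 (BT.node 5185 (BT.leaf cE5185) (BT.leaf cE5186)) (BT.leaf cE5187)) (BT.node 5189 (BT.node 5188 (BT.leaf cE5188) (BT.leaf cE5189)) (BT.leaf cE5190))))) (BT.node 5203 (BT.node 5197 (BT.node 5194 (BT.node 5192 (BT.node 5191 (BT.leaf cE5191) (BT.leaf cE5192)) (BT.node 5193 (BT.leaf cE5193) (BT.leaf cE5194))) (BT.node 5196 (BT.node 5195 (BT.leaf cE5195) (BT.leaf cE5196)) (BT.leaf cE5197))) (BT.node 5200 (BT.node 5199 (BT.node 5198 (BT.leaf cE5198) (BT.leaf cE5199)) (BT.leaf cE5200)) (BT.node 5202 (BT.node 5201 (BT.leaf cE5201) (BT.leaf cE5202)) (BT.leaf cE5203)))) (BT.node 5210 (BT.node 5207 (BT.node 5205 (BT.node 5204 (BT.leaf cE5204) (BT.leaf cE5205)) (BT.node 5206 (BT.leaf cE5206) (BT.leaf cE5207))) (BT.node 5209 (BT.node 5208 (BT.leaf cE5208) (BT.leaf cE5209)) (BT.leaf cE5210))) (BT.node 5213 (BT.node 5212 (BT.node 5211 (BT.leaf cE5211) (BT.leaf cE5212)) (BT.leaf cE5213)) (BT.node 5215 (BT.node 5214 (BT.leaf cE5214) (BT.leaf cE5215)) (BT.leaf cE5216)))))) (BT.node 5242 (BT.node 5229 (BT.node 5223 (BT.node 5220 (BT.node 5218 (BT.node 5217 (BT.leaf cE5217) (BT.leaf cE5218)) (BT.node 5219 (BT.leaf cE5219) (BT.leaf cE5220))) (BT.node 5222 (BT.node 5221 (BT.leaf cE5221) (BT.leaf cE5222)) (BT.leaf cE5223))) (BT.node 5226 (BT.node 5225 (BT.node 5224 (BT.leaf cE5224) (BT.leaf cE5225)) (BT.leaf cE5226)) (BT.node 5228 (BT.node 5227 (BT.leaf cE5227) (BT.leaf cE5228)) (BT.leaf cE5229)))) (BT.node 5236 (BT.node 5233 (BT.node 5231 (BT.node 5230 (BT.leaf cE5230) (BT.leaf cE5231)) (BT.node 5232 (BT.leaf cE5232) (BT.leaf cE5233))) (BT.node 5235 (BT.node 5234 (BT.leaf cE5234) (BT.leaf cE5235)) (BT.leaf cE5236))) (BT.node 5239 (BT.node 5238 (BT.node 5237 (BT.leaf cE5237) (BT.leaf cE5238)) (BT.leaf cE5239)) (BT.node 5241 (BT.node 5240 (BT.leaf cE5240) (BT.leaf cE5241)) (BT.leaf cE5242))))) (BT.node 5255 (BT.node 5249 (BT.node 5246 (BT.node 5244 (BT.node 5243 (BT.leaf cE5243) (BT.leaf cE5244)) (BT.node 5245 (BT.leaf cE5245) (BT.leaf cE5246))) (BT.node 5248 (BT.node 5247 (BT.leaf cE5247) (BT.leaf cE5248)) (BT.leaf cE5249))) (BT.node 5252 (BT.node 5251 (BT.node 5250 (BT.leaf cE5250) (BT.leaf cE5251)) (BT.leaf cE5252)) (BT.node 5254 (BT.node 5253 (BT.leaf cE5253) (BT.leaf cE5254)) (BT.leaf cE5255)))) (BT.node 5262 (BT.node 5259 (BT.node 5257 (BT.node 5256 (BT.leaf cE5256) (BT.leaf cE5257)) (BT.node 5258 (BT.leaf cE5258) (BT.leaf cE5259))) (BT.node 5261 (BT.node 5260 (BT.leaf cE5260) (BT.leaf cE5261)) (BT.leaf cE5262))) (BT.node 5265 (BT.node 5264 (BT.node 5263 (BT.leaf cE5263) (BT.leaf cE5264)) (BT.leaf cE5265)) (BT.node 5267 (BT.node 5266 (BT.leaf cE5266) (BT.leaf cE5267)) (BT.leaf cE5268)))))))) (BT.node 5374 (BT.node 5321 (BT.node 5295 (BT.node 5282 (BT.node 5275 (BT.node 5272 (BT.node 5270 (BT.node 5269 (BT.leaf cE5269) (BT.leaf cE5270)) (BT.node 5271 (BT.leaf cE5271) (BT.leaf cE5272))) (BT.node 5274 (BT.node 5273 (BT.leaf cE5273) (BT.leaf cE5274)) (BT.leaf cE5275))) (BT.node 5279 (BT.node 5277 (BT.node 5276 (BT.leaf cE5276) (BT.leaf cE5277)) (BT.node 5278 (BT.leaf cE5278) (BT.leaf cE5279))) (BT.node 5281 (BT.node 5280 (BT.leaf cE5280) (BT.leaf cE5281)) (BT.leaf cE5282)))) (BT.node 5289 (BT.node 5286 (BT.node 5284 (BT.node 5283 (BT.leaf cE5283) (BT.leaf cE5284)) (BT.node 5285 (BT.leaf cE5285) (BT.leaf cE5286))) (BT.node 5288 (BT.node 5287 (BT.leaf cE5287) (BT.leaf cE5288)) (BT.leaf cE5289))) (BT.node 5292 (BT.node 5291 (BT.node 5290 (BT.leaf cE5290) (BT.leaf cE5291)) (BT.leaf cE5292)) (BT.node 5294 (BT.node 5293 (BT.leaf cE5293) (BT.leaf cE5294)) (BT.leaf cE5295))))) (BT.node 5308 (BT.node 5302 (BT.node 5299 (BT.node 5297 (BT.node 5296 (BT.leaf cE5296) (BT.leaf cE5297)) (BT.node 5298 (BT.leaf cE5298) (BT.leaf cE5299))) (BT.node 5301 (BT.node 5300 (BT.leaf cE5300) (BT.leaf cE5301)) (BT.leaf cE5302))) (BT.node 5305 (BT.node 5304 (BT.node 5303 (BT.leaf cE5303) (BT.leaf cE5304)) (BT.leaf cE5305)) (BT.node 5307 (BT.node 5306 (BT.leaf cE5306) (BT.leaf cE5307)) (BT.leaf cE5308)))) (BT.node 5315 (BT.node 5312 (BT.node 5310 (BT.node 5309 (BT.leaf cE5309) (BT.leaf cE5310)) (BT.node 5311 (BT.leaf cE5311) (BT.leaf cE5312))) (BT.node 5314 (BT.node 5313 (BT.leaf cE5313) (BT.leaf cE5314)) (BT.leaf cE5315))) (BT.node 5318 (BT.node 5317 (BT.node 5316 (BT.leaf cE5316) (BT.leaf cE5317)) (BT.leaf cE5318)) (BT.node 5320 (BT.node 5319 (BT.leaf cE5319) (BT.leaf cE5320)) (BT.leaf cE5321)))))) (BT.node 5348 (BT.node 5335 (BT.node 5328 (BT.node 5325 (BT.node 5323 (BT.node 5322 (BT.leaf cE5322) (BT.leaf cE5323)) (BT.node 5324 (BT.leaf cE5324) (BT.leaf cE5325))) (BT.node 5327 (BT.node 5326 (BT.leaf cE5326) (BT.leaf cE5327)) (BT.leaf cE5328))) (BT.node 5332 (BT.node 5330 (BT.node 5329 (BT.leaf cE5329) (BT.leaf cE5330)) (BT.node 5331 (BT.leaf cE5331) (BT.leaf cE5332))) (BT.node 5334 (BT.node 5333 (BT.leaf cE5333) (BT.leaf cE5334)) (BT.leaf cE5335)))) (BT.node 5342 (BT.node 5339 (BT.node 5337 (BT.node 5336 (BT.leaf cE5336) (BT.leaf cE5337)) (BT.node 5338 (BT.leaf cE5338) (BT.leaf cE5339))) (BT.node 5341 (BT.node 5340 (BT.leaf cE5340) (BT.leaf cE5341)) (BT.leaf cE5342))) (BT.node 5345 (BT.node 5344 (BT.node 5343 (BT.leaf cE5343) (BT.leaf cE5344)) (BT.leaf cE5345)) (BT.node 5347 (BT.node 5346 (BT.leaf cE5346) (BT.leaf cE5347)) (BT.leaf cE5348))))) (BT.node 5361 (BT.node 5355 (BT.node 5352 (BT.node 5350 (BT.node 5349 (BT.leaf cE5349) (BT.leaf cE5350)) (BT.node 5351 (BT.leaf cE5351) (BT.leaf cE5352))) (BT.node 5354 (BT.node 5353 (BT.leaf cE5353) (BT.leaf cE5354)) (BT.leaf cE5355))) (BT.node 5358 (BT.node 5357 (BT.node 5356 (BT.leaf cE5356) (BT.leaf cE5357)) (BT.leaf cE5358)) (BT.node 5360 (BT.node 5359 (BT.leaf cE5359) (BT.leaf cE5360)) (BT.leaf cE5361)))) (BT.node 5368 (BT.node 5365 (BT.node 5363 (BT.node 5362 (BT.leaf cE5362) (BT.leaf cE5363)) (BT.node 5364 (BT.leaf cE5364) (BT.leaf cE5365))) (BT.node 5367 (BT.node 5366 (BT.leaf cE5366) (BT.leaf cE5367)) (BT.leaf cE5368))) (BT.node 5371 (BT.node 5370 (BT.node 5369 (BT.leaf cE5369) (BT.leaf cE5370)) (BT.leaf cE5371)) (BT.node 5373 (BT.node 5372 (BT.leaf cE5372) (BT.leaf cE5373)) (BT.leaf cE5374))))))) (BT.node 5427 (BT.node 5401 (BT.node 5388 (BT.node 5381 (BT.node 5378 (BT.node 5376 (BT.node 5375 (BT.leaf cE5375) (BT.leaf cE5376)) (BT.node 5377 (BT.leaf cE5377) (BT.leaf cE5378))) (BT.node 5380 (BT.node 5379 (BT.leaf cE5379) (BT.leaf cE5380)) (BT.leaf cE5381))) (BT.node 5385 (BT.node 5383 (BT.node 5382 (BT.leaf cE5382) (BT.leaf cE5383)) (BT.node 5384 (BT.leaf cE5384) (BT.leaf cE5385))) (BT.node 5387 (BT.node 5386 (BT.leaf cE5386) (BT.leaf cE5387)) (BT.leaf cE5388)))) (BT.node 5395 (BT.node 5392 (BT.node 5390 (BT.node 5389 (BT.leaf cE5389) (BT.leaf cE5390)) (BT.node 5391 (BT.leaf cE5391) (BT.leaf cE5392))) (BT.node 5394 (BT.node 5393 (BT.leaf cE5393) (BT.leaf cE5394)) (BT.leaf cE5395))) (BT.node 5398 (BT.node 5397 (BT.node 5396 (BT.leaf cE5396) (BT.leaf cE5397)) (BT.leaf cE5398)) (BT.node 5400 (BT.node 5399 (BT.leaf cE5399) (BT.leaf cE5400)) (BT.leaf cE5401))))) (BT.node 5414 (BT.node 5408 (BT.node 5405 (BT.node 5403 (BT.node 5402 (BT.leaf cE5402) (BT.leaf cE5403)) (BT.node 5404 (BT.leaf cE5404) (BT.leaf cE5405))) (BT.node 5407 (BT.node 5406 (BT.leaf cE5406) (BT.leaf cE5407)) (BT.leaf cE5408))) (BT.node 5411 (BT.node 5410 (BT.node 5409 (BT.leaf cE5409) (BT.leaf cE5410)) (BT.leaf cE5411)) (BT.node 5413 (BT.node 5412 (BT.leaf cE5412) (BT.leaf cE5413)) (BT.leaf cE5414)))) (BT.node 5421 (BT.node 5418 (BT.node 5416 (BT.node 5415 (BT.leaf cE5415) (BT.leaf cE5416)) (BT.node 5417 (BT.leaf cE5417) (BT.leaf cE5418))) (BT.node 5420 (BT.node 5419 (BT.leaf cE5419) (BT.leaf cE5420)) (BT.leaf cE5421))) (BT.node 5424 (BT.node 5423 (BT.node 5422 (BT.leaf cE5422) (BT.leaf cE5423)) (BT.leaf cE5424)) (BT.node 5426 (BT.node 5425 (BT.leaf cE5425) (BT.leaf cE5426)) (BT.leaf cE5427)))))) (BT.node 5453 (BT.node 5440 (BT.node 5434 (BT.node 5431 (BT.node 5429 (BT.node 5428 (BT.leaf cE5428) (BT.leaf cE5429)) (BT.node 5430 (BT.leaf cE5430) (BT.leaf cE5431))) (BT.node 5433 (BT.node 5432 (BT.leaf cE5432) (BT.leaf cE5433)) (BT.leaf cE5434))) (BT.node 5437 (BT.node 5436 (BT.node 5435 (BT.leaf cE5435) (BT.leaf cE5436)) (BT.leaf cE5437)) (BT.node 5439 (BT.node 5438 (BT.leaf cE5438) (BT.leaf cE5439)) (BT.leaf cE5440)))) (BT.node 5447 (BT.node 5444 (BT.node 5442 (BT.node 5441 (BT.leaf cE5441) (BT.leaf cE5442)) (BT.node 5443 (BT.leaf cE5443) (BT.leaf cE5444))) (BT.node 5446 (BT.node 5445 (BT.leaf cE5445) (BT.leaf cE5446)) (BT.leaf cE5447))) (BT.node 5450 (BT.node 5449 (BT.node 5448 (BT.leaf cE5448) (BT.leaf cE5449)) (BT.leaf cE5450)) (BT.node 5452 (BT.node 5451 (BT.leaf cE5451) (BT.leaf cE5452)) (BT.leaf cE5453))))) (BT.node 5466 (BT.node 5460 (BT.node 5457 (BT.node 5455 (BT.node 5454 (BT.leaf cE5454) (BT.leaf cE5455)) (BT.node 5456 (BT.leaf cE5456) (BT.leaf cE5457))) (BT.node 5459 (BT.node 5458 (BT.leaf cE5458) (BT.leaf cE5459)) (BT.leaf cE5460))) (BT.node 5463 (BT.node 5462 (BT.node 5461 (BT.leaf cE5461) (BT.leaf cE5462)) (BT.leaf cE5463)) (BT.node 5465 (BT.node 5464 (BT.leaf cE5464) (BT.leaf cE5465)) (BT.leaf cE5466)))) (BT.node 5473 (BT.node 5470 (BT.node 5468 (BT.node 5467 (BT.leaf cE5467) (BT.leaf cE5468)) (BT.node 5469 (BT.leaf cE5469) (BT.leaf cE5470))) (BT.node 5472 (BT.node 5471 (BT.leaf cE5471) (BT.leaf cE5472)) (BT.leaf cE5473))) (BT.node 5476 (BT.node 5475 (BT.node 5474 (BT.leaf cE5474) (BT.leaf cE5475)) (BT.leaf cE5476)) (BT.node 5478 (BT.node 5477 (BT.leaf cE5477) (BT.leaf cE5478)) (BT.leaf cE5479))))))))) (BT.node 5690 (BT.node 5585 (BT.node 5532 (BT.node 5506 (BT.node 5493 (BT.node 5486 (BT.node 5483 (BT.node 5481 (BT.node 5480 (BT.leaf cE5480) (BT.leaf cE5481)) (BT.node 5482 (BT.leaf cE5482) (BT.leaf cE5483))) (BT.node 5485 (BT.node 5484 (BT.leaf cE5484) (BT.leaf cE5485)) (BT.leaf cE5486))) (BT.node 5490 (BT.node 5488 (BT.node 5487 (BT.leaf cE5487) (BT.leaf cE5488)) (BT.node 5489 (BT.leaf cE5489) (BT.leaf cE5490))) (BT.node 5492 (BT.node 5491 (BT.leaf cE5491) (BT.leaf cE5492)) (BT.leaf cE5493)))) (BT.node 5500 (BT.node 5497 (BT.node 5495 (BT.node 5494 (BT.leaf cE5494) (BT.leaf cE5495)) (BT.node 5496 (BT.leaf cE5496) (BT.leaf cE5497))) (BT.node 5499 (BT.node 5498 (BT.leaf cE5498) (BT.leaf cE5499)) (BT.leaf cE5500))) (BT.node 5503 (BT.node 5502 (BT.node 5501 (BT.leaf cE5501) (BT.leaf cE5502)) (BT.leaf cE5503)) (BT.node 5505 (BT.node 5504 (BT.leaf cE5504) (BT.leaf cE5505)) (BT.leaf cE5506))))) (BT.node 5519 (BT.node 5513 (BT.node 5510 (BT.node 5508 (BT.node 5507 (BT.leaf cE5507) (BT.leaf cE5508)) (BT.node 5509 (BT.leaf cE5509) (BT.leaf cE5510))) (BT.node 5512 (BT.node 5511 (BT.leaf cE5511) (BT.leaf cE5512)) (BT.leaf cE5513))) (BT.node 5516 (BT.node 5515 (BT.node 5514 (BT.leaf cE5514) (BT.leaf cE5515)) (BT.leaf cE5516)) (BT.node 5518 (BT.node 5517 (BT.leaf cE5517) (BT.leaf cE5518)) (BT.leaf cE5519)))) (BT.node 5526 (BT.node 5523 (BT.node 5521 (BT.node 5520 (BT.leaf cE5520) (BT.leaf cE5521)) (BT.node 5522 (BT.leaf cE5522) (BT.leaf cE5523))) (BT.node 5525 (BT.node 5524 (BT.leaf cE5524) (BT.leaf cE5525)) (BT.leaf cE5526))) (BT.node 5529 (BT.node 5528 (BT.node 5527 (BT.leaf cE5527) (BT.leaf cE5528)) (BT.leaf cE5529)) (BT.node 5531 (BT.node 5530 (BT.leaf cE5530) (BT.leaf cE5531)) (BT.leaf cE5532)))))) (BT.node 5559 (BT.node 5546 (BT.node 5539 (BT.node 5536 (BT.node 5534 (BT.node 5533 (BT.leaf cE5533) (BT.leaf cE5534)) (BT.node 5535 (BT.leaf cE5535) (BT.leaf cE5536))) (BT.node 5538 (BT.node 5537 (BT.leaf cE5537) (BT.leaf cE5538)) (BT.leaf cE5539))) (BT.node 5543 (BT.node 5541 (BT.node 5540 (BT.leaf cE5540) (BT.leaf cE5541)) (BT.node 5542 (BT.leaf cE5542) (BT.leaf cE5543))) (BT.node 5545 (BT.node 5544 (BT.leaf cE5544) (BT.leaf cE5545)) (BT.leaf cE5546)))) (BT.node 5553 (BT.node 5550 (BT.node 5548 (BT.node 5547 (BT.leaf cE5547) (BT.leaf cE5548)) (BT.node 5549 (BT.leaf cE5549) (BT.leaf cE5550))) (BT.node 5552 (BT.node 5551 (BT.leaf cE5551) (BT.leaf cE5552)) (BT.leaf cE5553))) (BT.node 5556 (BT.node 5555 (BT.node 5554 (BT.leaf cE5554) (BT.leaf cE5555)) (BT.leaf cE5556)) (BT.node 5558 (BT.node 5557 (BT.leaf cE5557) (BT.leaf cE5558)) (BT.leaf cE5559))))) (BT.node 5572 (BT.node 5566 (BT.node 5563 (BT.node 5561 (BT.node 5560 (BT.leaf cE5560) (BT.leaf cE5561)) (BT.node 5562 (BT.leaf cE5562) (BT.leaf cE5563))) (BT.node 5565 (BT.node 5564 (BT.leaf cE5564) (BT.leaf cE5565)) (BT.leaf cE5566))) (BT.node 5569 (BT.node 5568 (BT.node 5567 (BT.leaf cE5567) (BT.leaf cE5568)) (BT.leaf cE5569)) (BT.node 5571 (BT.node 5570 (BT.leaf cE5570) (BT.leaf cE5571)) (BT.leaf cE5572)))) (BT.node 5579 (BT.node 5576 (BT.node 5574 (BT.node 5573 (BT.leaf cE5573) (BT.leaf cE5574)) (BT.node 5575 (BT.leaf cE5575) (BT.leaf cE5576))) (BT.node 5578 (BT.node 5577 (BT.leaf cE5577) (BT.leaf cE5578)) (BT.leaf cE5579))) (BT.node 5582 (BT.node 5581 (BT.node 5580 (BT.leaf cE5580) (BT.leaf cE5581)) (BT.leaf cE5582)) (BT.node 5584 (BT.node 5583 (BT.leaf cE5583) (BT.leaf cE5584)) (BT.leaf cE5585))))))) (BT.node 5638 (BT.node 5612 (BT.node 5599 (BT.node 5592 (BT.node 5589 (BT.node 5587 (BT.node 5586 (BT.leaf cE5586) (BT.leaf cE5587)) (BT.node 5588 (BT.leaf cE5588) (BT.leaf cE5589))) (BT.node 5591 (BT.node 5590 (BT.leaf cE5590) (BT.leaf cE5591)) (BT.leaf cE5592))) (BT.node 5596 (BT.node 5594 (BT.node 5593 (BT.leaf cE5593) (BT.leaf cE5594)) (BT.node 5595 (BT.leaf cE5595) (BT.leaf cE5596))) (BT.node 5598 (BT.node 5597 (BT.leaf cE5597) (BT.leaf cE5598)) (BT.leaf cE5599)))) (BT.node 5606 (BT.node 5603 (BT.node 5601 (BT.node 5600 (BT.leaf cE5600) (BT.leaf cE5601)) (BT.node 5602 (BT.leaf cE5602) (BT.leaf cE5603))) (BT.node 5605 (BT.node 5604 (BT.leaf cE5604) (BT.leaf cE5605)) (BT.leaf cE5606))) (BT.node 5609 (BT.node 5608 (BT.node 5607 (BT.leaf cE5607) (BT.leaf cE5608)) (BT.leaf cE5609)) (BT.node 5611 (BT.node 5610 (BT.leaf cE5610) (BT.leaf cE5611)) (BT.leaf cE5612))))) (BT.node 5625 (BT.node 5619 (BT.node 5616 (BT.node 5614 (BT.node 5613 (BT.leaf cE5613) (BT.leaf cE5614)) (BT.node 5615 (BT.leaf cE5615) (BT.leaf cE5616))) (BT.node 5618 (BT.node 5617 (BT.leaf cE5617) (BT.leaf cE5618)) (BT.leaf cE5619))) (BT.node 5622 (BT.node 5621 (BT.node 5620 (BT.leaf cE5620) (BT.leaf cE5621)) (BT.leaf cE5622)) (BT.node 5624 (BT.node 5623 (BT.leaf cE5623) (BT.leaf cE5624)) (BT.leaf cE5625)))) (BT.node 5632 (BT.node 5629 (BT.node 5627 (BT.node 5626 (BT.leaf cE5626) (BT.leaf cE5627)) (BT.node 5628 (BT.leaf cE5628) (BT.leaf cE5629))) (BT.node 5631 (BT.node 5630 (BT.leaf cE5630) (BT.leaf cE5631)) (BT.leaf cE5632))) (BT.node 5635 (BT.node 5634 (BT.node 5633 (BT.leaf cE5633) (BT.leaf cE5634)) (BT.leaf cE5635)) (BT.node 5637 (BT.node 5636 (BT.leaf cE5636) (BT.leaf cE5637)) (BT.leaf cE5638)))))) (BT.node 5664 (BT.node 5651 (BT.node 5645 (BT.node 5642 (BT.node 5640 (BT.node 5639 (BT.leaf cE5639) (BT.leaf cE5640)) (BT.node 5641 (BT.leaf cE5641) (BT.leaf cE5642))) (BT.node 5644 (BT.node 5643 (BT.leaf cE5643) (BT.leaf cE5644)) (BT.leaf cE5645))) (BT.node 5648 (BT.node 5647 (BT.node 5646 (BT.leaf cE5646) (BT.leaf cE5647)) (BT.leaf cE5648)) (BT.node 5650 (BT.node 5649 (BT.leaf cE5649) (BT.leaf cE5650)) (BT.leaf cE5651)))) (BT.node 5658 (BT.node 5655 (BT.node 5653 (BT.node 5652 (BT.leaf cE5652) (BT.leaf cE5653)) (BT.node 5654 (BT.leaf cE5654) (BT.leaf cE5655))) (BT.node 5657 (BT.node 5656 (BT.leaf cE5656) (BT.leaf cE5657)) (BT.leaf cE5658))) (BT.node 5661 (BT.node 5660 (BT.node 5659 (BT.leaf cE5659) (BT.leaf cE5660)) (BT.leaf cE5661)) (BT.node 5663 (BT.node 5662 (BT.leaf cE5662) (BT.leaf cE5663)) (BT.leaf cE5664))))) (BT.node 5677 (BT.node 5671 (BT.node 5668 (BT.node 5666 (BT.node 5665 (BT.leaf cE5665) (BT.leaf cE5666)) (BT.node 5667 (BT.leaf cE5667) (BT.leaf cE5668))) (BT.node 5670 (BT.node 5669 (BT.leaf cE5669) (BT.leaf cE5670)) (BT.leaf cE5671))) (BT.node 5674 (BT.node 5673 (BT.node 5672 (BT.leaf cE5672) (BT.leaf cE5673)) (BT.leaf cE5674)) (BT.node 5676 (BT.node 5675 (BT.leaf cE5675) (BT.leaf cE5676)) (BT.leaf cE5677)))) (BT.node 5684 (BT.node 5681 (BT.node 5679 (BT.node 5678 (BT.leaf cE5678) (BT.leaf cE5679)) (BT.node 5680 (BT.leaf cE5680) (BT.leaf cE5681))) (BT.node 5683 (BT.node 5682 (BT.leaf cE5682) (BT.leaf cE5683)) (BT.leaf cE5684))) (BT.node 5687 (BT.node 5686 (BT.node 5685 (BT.leaf cE5685) (BT.leaf cE5686)) (BT.leaf cE5687)) (BT.node 5689 (BT.node 5688 (BT.leaf cE5688) (BT.leaf cE5689)) (BT.leaf cE5690)))))))) (BT.node 5795 (BT.node 5743 (BT.node 5717 (BT.node 5704 (BT.node 5697 (BT.node 5694 (BT.node 5692 (BT.node 5691 (BT.leaf cE5691) (BT.leaf cE5692)) (BT.node 5693 (BT.leaf cE5693) (BT.leaf cE5694))) (BT.node 5696 (BT.node 5695 (BT.leaf cE5695) (BT.leaf cE5696)) (BT.leaf cE5697))) (BT.node 5701 (BT.node 5699 (BT.node 5698 (BT.leaf cE5698) (BT.leaf cE5699)) (BT.node 5700 (BT.leaf cE5700) (BT.leaf cE5701))) (BT.node 5703 (BT.node 5702 (BT.leaf cE5702) (BT.leaf cE5703)) (BT.leaf cE5704)))) (BT.node 5711 (BT.node 5708 (BT.node 5706 (BT.node 5705 (BT.leaf cE5705) (BT.leaf cE5706)) (BT.node 5707 (BT.leaf cE5707) (BT.leaf cE5708))) (BT.node 5710 (BT.node 5709 (BT.leaf cE5709) (BT.leaf cE5710)) (BT.leaf cE5711))) (BT.node 5714 (BT.node 5713 (BT.node 5712 (BT.leaf cE5712) (BT.leaf cE5713)) (BT.leaf cE5714)) (BT.node 5716 (BT.node 5715 (BT.leaf cE5715) (BT.leaf cE5716)) (BT.leaf cE5717))))) (BT.node 5730 (BT.node 5724 (BT.node 5721 (BT.node 5719 (BT.node 5718 (BT.leaf cE5718) (BT.leaf cE5719)) (BT.node 5720 (BT.leaf cE5720) (BT.leaf cE5721))) (BT.node 5723 (BT.node 5722 (BT.leaf cE5722) (BT.leaf cE5723)) (BT.leaf cE5724))) (BT.node 5727 (BT.node 5726 (BT.node 5725 (BT.leaf cE5725) (BT.leaf cE5726)) (BT.leaf cE5727)) (BT.node 5729 (BT.node 5728 (BT.leaf cE5728) (BT.leaf cE5729)) (BT.leaf cE5730)))) (BT.node 5737 (BT.node 5734 (BT.node 5732 (BT.node 5731 (BT.leaf cE5731) (BT.leaf cE5732)) (BT.node 5733 (BT.leaf cE5733) (BT.leaf cE5734))) (BT.node 5736 (BT.node 5735 (BT.leaf cE5735) (BT.leaf cE5736)) (BT.leaf cE5737))) (BT.node 5740 (BT.node 5739 (BT.node 5738 (BT.leaf cE5738) (BT.leaf cE5739)) (BT.leaf cE5740)) (BT.node 5742 (BT.node 5741 (BT.leaf cE5741) (BT.leaf cE5742)) (BT.leaf cE5743)))))) (BT.node 5769 (BT.node 5756 (BT.node 5750 (BT.node 5747 (BT.node 5745 (BT.node 5744 (BT.leaf cE5744) (BT.leaf cE5745)) (BT.node 5746 (BT.leaf cE5746) (BT.leaf cE5747))) (BT.node 5749 (BT.node 5748 (BT.leaf cE5748) (BT.leaf cE5749)) (BT.leaf cE5750))) (BT.node 5753 (BT.node 5752 (BT.node 5751 (BT.leaf cE5751) (BT.leaf cE5752)) (BT.leaf cE5753)) (BT.node 5755 (BT.node 5754 (BT.leaf cE5754) (BT.leaf cE5755)) (BT.leaf cE5756)))) (BT.node 5763 (BT.node 5760 (BT.node 5758 (BT.node 5757 (BT.leaf cE5757) (BT.leaf cE5758)) (BT.node 5759 (BT.leaf cE5759) (BT.leaf cE5760))) (BT.node 5762 (BT.node 5761 (BT.leaf cE5761) (BT.leaf cE5762)) (BT.leaf cE5763))) (BT.node 5766 (BT.node 5765 (BT.node 5764 (BT.leaf cE5764) (BT.leaf cE5765)) (BT.leaf cE5766)) (BT.node 5768 (BT.node 5767 (BT.leaf cE5767) (BT.leaf cE5768)) (BT.leaf cE5769))))) (BT.node 5782 (BT.node 5776 (BT.node 5773 (BT.node 5771 (BT.node 5770 (BT.leaf cE5770) (BT.leaf cE5771)) (BT.node 5772 (BT.leaf cE5772) (BT.leaf cE5773))) (BT.node 5775 (BT.node 5774 (BT.leaf cE5774) (BT.leaf cE5775)) (BT.leaf cE5776))) (BT.node 5779 (BT.node 5778 (BT.node 5777 (BT.leaf cE5777) (BT.leaf cE5778)) (BT.leaf cE5779)) (BT.node 5781 (BT.node 5780 (BT.leaf cE5780) (BT.leaf cE5781)) (BT.leaf cE5782)))) (BT.node 5789 (BT.node 5786 (BT.node 5784 (BT.node 5783 (BT.leaf cE5783) (BT.leaf cE5784)) (BT.node 5785 (BT.leaf cE5785) (BT.leaf cE5786))) (BT.node 5788 (BT.node 5787 (BT.leaf cE5787) (BT.leaf cE5788)) (BT.leaf cE5789))) (BT.node 5792 (BT.node 5791 (BT.node 5790 (BT.leaf cE5790) (BT.leaf cE5791)) (BT.leaf cE5792)) (BT.node 5794 (BT.node 5793 (BT.leaf cE5793) (BT.leaf cE5794)) (BT.leaf cE5795))))))) (BT.node 5848 (BT.node 5822 (BT.node 5809 (BT.node 5802 (BT.node 5799 (BT.node 5797 (BT.node 5796 (BT.leaf cE5796) (BT.leaf cE5797)) (BT.node 5798 (BT.leaf cE5798) (BT.leaf cE5799))) (BT.node 5801 (BT.node 5800 (BT.leaf cE5800) (BT.leaf cE5801)) (BT.leaf cE5802))) (BT.node 5806 (BT.node 5804 (BT.node 5803 (BT.leaf cE5803) (BT.leaf cE5804)) (BT.node 5805 (BT.leaf cE5805) (BT.leaf cE5806))) (BT.node 5808 (BT.node 5807 (BT.leaf cE5807) (BT.leaf cE5808)) (BT.leaf cE5809)))) (BT.node 5816 (BT.node 5813 (BT.node 5811 (BT.node 5810 (BT.leaf cE5810) (BT.leaf cE5811)) (BT.node 5812 (BT.leaf cE5812) (BT.leaf cE5813))) (BT.node 5815 (BT.node 5814 (BT.leaf cE5814) (BT.leaf cE5815)) (BT.leaf cE5816))) (BT.node 5819 (BT.node 5818 (BT.node 5817 (BT.leaf cE5817) (BT.leaf cE5818)) (BT.leaf cE5819)) (BT.node 5821 (BT.node 5820 (BT.leaf cE5820) (BT.leaf cE5821)) (BT.leaf cE5822))))) (BT.node 5835 (BT.node 5829 (BT.node 5826 (BT.node 5824 (BT.node 5823 (BT.leaf cE5823) (BT.leaf cE5824)) (BT.node 5825 (BT.leaf cE5825) (BT.leaf cE5826))) (BT.node 5828 (BT.node 5827 (BT.leaf cE5827) (BT.leaf cE5828)) (BT.leaf cE5829))) (BT.node 5832 (BT.node 5831 (BT.node 5830 (BT.leaf cE5830) (BT.leaf cE5831)) (BT.leaf cE5832)) (BT.node 5834 (BT.node 5833 (BT.leaf cE5833) (BT.leaf cE5834)) (BT.leaf cE5835)))) (BT.node 5842 (BT.node 5839 (BT.node 5837 (BT.node 5836 (BT.leaf cE5836) (BT.leaf cE5837)) (BT.node 5838 (BT.leaf cE5838) (BT.leaf cE5839))) (BT.node 5841 (BT.node 5840 (BT.leaf cE5840) (BT.leaf cE5841)) (BT.leaf cE5842))) (BT.node 5845 (BT.node 5844 (BT.node 5843 (BT.leaf cE5843) (BT.leaf cE5844)) (BT.leaf cE5845)) (BT.node 5847 (BT.node 5846 (BT.leaf cE5846) (BT.leaf cE5847)) (BT.leaf cE5848)))))) (BT.node 5874 (BT.node 5861 (BT.node 5855 (BT.node 5852 (BT.node 5850 (BT.node 5849 (BT.leaf cE5849) (BT.leaf cE5850)) (BT.node 5851 (BT.leaf cE5851) (BT.leaf cE5852))) (BT.node 5854 (BT.node 5853 (BT.leaf cE5853) (BT.leaf cE5854)) (BT.leaf cE5855))) (BT.node 5858 (BT.node 5857 (BT.node 5856 (BT.leaf cE5856) (BT.leaf cE5857)) (BT.leaf cE5858)) (BT.node 5860 (BT.node 5859 (BT.leaf cE5859) (BT.leaf cE5860)) (BT.leaf cE5861)))) (BT.node 5868 (BT.node 5865 (BT.node 5863 (BT.node 5862 (BT.leaf cE5862) (BT.leaf cE5863)) (BT.node 5864 (BT.leaf cE5864) (BT.leaf cE5865))) (BT.node 5867 (BT.node 5866 (BT.leaf cE5866) (BT.leaf cE5867)) (BT.leaf cE5868))) (BT.node 5871 (BT.node 5870 (BT.node 5869 (BT.leaf cE5869) (BT.leaf cE5870)) (BT.leaf cE5871)) (BT.node 5873 (BT.node 5872 (BT.leaf cE5872) (BT.leaf cE5873)) (BT.leaf cE5874))))) (BT.node 5887 (BT.node 5881 (BT.node 5878 (BT.node 5876 (BT.node 5875 (BT.leaf cE5875) (BT.leaf cE5876)) (BT.node 5877 (BT.leaf cE5877) (BT.leaf cE5878))) (BT.node 5880 (BT.node 5879 (BT.leaf cE5879) (BT.leaf cE5880)) (BT.leaf cE5881))) (BT.node 5884 (BT.node 5883 (BT.node 5882 (BT.leaf cE5882) (BT.leaf cE5883)) (BT.leaf cE5884)) (BT.node 5886 (BT.node 5885 (BT.leaf cE5885) (BT.leaf cE5886)) (BT.leaf cE5887)))) (BT.node 5894 (BT.node 5891 (BT.node 5889 (BT.node 5888 (BT.leaf cE5888) (BT.leaf cE5889)) (BT.node 5890 (BT.leaf cE5890) (BT.leaf cE5891))) (BT.node 5893 (BT.node 5892 (BT.leaf cE5892) (BT.leaf cE5893)) (BT.leaf cE5894))) (BT.node 5897 (BT.node 5896 (BT.node 5895 (BT.leaf cE5895) (BT.leaf cE5896)) (BT.leaf cE5897)) (BT.node 5899 (BT.node 5898 (BT.leaf cE5898) (BT.leaf cE5899)) (BT.leaf cE5900)))))))))) (BT.node 6321 (BT.node 6111 (BT.node 6006 (BT.node 5953 (BT.node 5927 (BT.node 5914 (BT.node 5907 (BT.node 5904 (BT.node 5902 (BT.node 5901 (BT.leaf cE5901) (BT.leaf cE5902)) (BT.node 5903 (BT.leaf cE5903) (BT.leaf cE5904))) (BT.node 5906 (BT.node 5905 (BT.leaf cE5905) (BT.leaf cE5906)) (BT.leaf cE5907))) (BT.node 5911 (BT.node 5909 (BT.node 5908 (BT.leaf cE5908) (BT.leaf cE5909)) (BT.node 5910 (BT.leaf cE5910) (BT.leaf cE5911))) (BT.node 5913 (BT.node 5912 (BT.leaf cE5912) (BT.leaf cE5913)) (BT.leaf cE5914)))) (BT.node 5921 (BT.node 5918 (BT.node 5916 (BT.node 5915 (BT.leaf cE5915) (BT.leaf cE5916)) (BT.node 5917 (BT.leaf cE5917) (BT.leaf cE5918))) (BT.node 5920 (BT.node 5919 (BT.leaf cE5919) (BT.leaf cE5920)) (BT.leaf cE5921))) (BT.node 5924 (BT.node 5923 (BT.node 5922 (BT.leaf cE5922) (BT.leaf cE5923)) (BT.leaf cE5924)) (BT.node 5926 (BT.node 5925 (BT.leaf cE5925) (BT.leaf cE5926)) (BT.leaf cE5927))))) (BT.node 5940 (BT.node 5934 (BT.node 5931 (BT.node 5929 (BT.node 5928 (BT.leaf cE5928) (BT.leaf cE5929)) (BT.node 5930 (BT.leaf cE5930) (BT.leaf cE5931))) (BT.node 5933 (BT.node 5932 (BT.leaf cE5932) (BT.leaf cE5933)) (BT.leaf cE5934))) (BT.node 5937 (BT.node 5936 (BT.node 5935 (BT.leaf cE5935) (BT.leaf cE5936)) (BT.leaf cE5937)) (BT.node 5939 (BT.node 5938 (BT.leaf cE5938) (BT.leaf cE5939)) (BT.leaf cE5940)))) (BT.node 5947 (BT.node 5944 (BT.node 5942 (BT.node 5941 (BT.leaf cE5941) (BT.leaf cE5942)) (BT.node 5943 (BT.leaf cE5943) (BT.leaf cE5944))) (BT.node 5946 (BT.node 5945 (BT.leaf cE5945) (BT.leaf cE5946)) (BT.leaf cE5947))) (BT.node 5950 (BT.node 5949 (BT.node 5948 (BT.leaf cE5948) (BT.leaf cE5949)) (BT.leaf cE5950)) (BT.node 5952 (BT.node 5951 (BT.leaf cE5951) (BT.leaf cE5952)) (BT.leaf cE5953)))))) (BT.node 5980 (BT.node 5967 (BT.node 5960 (BT.node 5957 (BT.node 5955 (BT.node 5954 (BT.leaf cE5954) (BT.leaf cE5955)) (BT.node 5956 (BT.leaf cE5956) (BT.leaf cE5957))) (BT.node 5959 (BT.node 5958 (BT.leaf cE5958) (BT.leaf cE5959)) (BT.leaf cE5960))) (BT.node 5964 (BT.node 5962 (BT.node 5961 (BT.leaf cE5961) (BT.leaf cE5962)) (BT.node 5963 (BT.leaf cE5963) (BT.leaf cE5964))) (BT.node 5966 (BT.node 5965 (BT.leaf cE5965) (BT.leaf cE5966)) (BT.leaf cE5967)))) (BT.node 5974 (BT.node 5971 (BT.node 5969 (BT.node 5968 (BT.leaf cE5968) (BT.leaf cE5969)) (BT.node 5970 (BT.leaf cE5970) (BT.leaf cE5971))) (BT.node 5973 (BT.node 5972 (BT.leaf cE5972) (BT.leaf cE5973)) (BT.leaf cE5974))) (BT.node 5977 (BT.node 5976 (BT.node 5975 (BT.leaf cE5975) (BT.leaf cE5976)) (BT.leaf cE5977)) (BT.node 5979 (BT.node 5978 (BT.leaf cE5978) (BT.leaf cE5979)) (BT.leaf cE5980))))) (BT.node 5993 (BT.node 5987 (BT.node 5984 (BT.node 5982 (BT.node 5981 (BT.leaf cE5981) (BT.leaf cE5982)) (BT.node 5983 (BT.leaf cE5983) (BT.leaf cE5984))) (BT.node 5986 (BT.node 5985 (BT.leaf cE5985) (BT.leaf cE5986)) (BT.leaf cE5987))) (BT.node 5990 (BT.node 5989 (BT.node 5988 (BT.leaf cE5988) (BT.leaf cE5989)) (BT.leaf cE5990)) (BT.node 5992 (BT.node 5991 (BT.leaf cE5991) (BT.leaf cE5992)) (BT.leaf cE5993)))) (BT.node 6000 (BT.node 5997 (BT.node 5995 (BT.node 5994 (BT.leaf cE5994) (BT.leaf cE5995)) (BT.node 5996 (BT.leaf cE5996) (BT.leaf cE5997))) (BT.node 5999 (BT.node 5998 (BT.leaf cE5998) (BT.leaf cE5999)) (BT.leaf cE6000))) (BT.node 6003 (BT.node 6002 (BT.node 6001 (BT.leaf cE6001) (BT.leaf cE6002)) (BT.leaf cE6003)) (BT.node 6005 (BT.node 6004 (BT.leaf cE6004) (BT.leaf cE6005)) (BT.leaf cE6006))))))) (BT.node 6059 (BT.node 6033 (BT.node 6020 (BT.node 6013 (BT.node 6010 (BT.node 6008 (BT.node 6007 (BT.leaf cE6007) (BT.leaf cE6008)) (BT.node 6009 (BT.leaf cE6009) (BT.leaf cE6010))) (BT.node 6012 (BT.node 6011 (BT.leaf cE6011) (BT.leaf cE6012)) (BT.leaf cE6013))) (BT.node 6017 (BT.node 6015 (BT.node 6014 (BT.leaf cE6014) (BT.leaf cE6015)) (BT.node 6016 (BT.leaf cE6016) (BT.leaf cE6017))) (BT.node 6019 (BT.node 6018 (BT.leaf cE6018) (BT.leaf cE6019)) (BT.leaf cE6020)))) (BT.node 6027 (BT.node 6024 (BT.node 6022 (BT.node 6021 (BT.leaf cE6021) (BT.leaf cE6022)) (BT.node 6023 (BT.leaf cE6023) (BT.leaf cE6024))) (BT.node 6026 (BT.node 6025 (BT.leaf cE6025) (BT.leaf cE6026)) (BT.leaf cE6027))) (BT.node 6030 (BT.node 6029 (BT.node 6028 (BT.leaf cE6028) (BT.leaf cE6029)) (BT.leaf cE6030)) (BT.node 6032 (BT.node 6031 (BT.leaf cE6031) (BT.leaf cE6032)) (BT.leaf cE6033))))) (BT.node 6046 (BT.node 6040 (BT.node 6037 (BT.node 6035 (BT.node 6034 (BT.leaf cE6034) (BT.leaf cE6035)) (BT.node 6036 (BT.leaf cE6036) (BT.leaf cE6037))) (BT.node 6039 (BT.node 6038 (BT.leaf cE6038) (BT.leaf cE6039)) (BT.leaf cE6040))) (BT.node 6043 (BT.node 6042 (BT.node 6041 (BT.leaf cE6041) (BT.leaf cE6042)) (BT.leaf cE6043)) (BT.node 6045 (BT.node 6044 (BT.leaf cE6044) (BT.leaf cE6045)) (BT.leaf cE6046)))) (BT.node 6053 (BT.node 6050 (BT.node 6048 (BT.node 6047 (BT.leaf cE6047) (BT.leaf cE6048)) (BT.node 6049 (BT.leaf cE6049) (BT.leaf cE6050))) (BT.node 6052 (BT.node 6051 (BT.leaf cE6051) (BT.leaf cE6052)) (BT.leaf cE6053))) (BT.node 6056 (BT.node 6055 (BT.node 6054 (BT.leaf cE6054) (BT.leaf cE6055)) (BT.leaf cE6056)) (BT.node 6058 (BT.node 6057 (BT.leaf cE6057) (BT.leaf cE6058)) (BT.leaf cE6059)))))) (BT.node 6085 (BT.node 6072 (BT.node 6066 (BT.node 6063 (BT.node 6061 (BT.node 6060 (BT.leaf cE6060) (BT.leaf cE6061)) (BT.node 6062 (BT.leaf cE6062) (BT.leaf cE6063))) (BT.node 6065 (BT.node 6064 (BT.leaf cE6064) (BT.leaf cE6065)) (BT.leaf cE6066))) (BT.node 6069 (BT.node 6068 (BT.node 6067 (BT.leaf cE6067) (BT.leaf cE6068)) (BT.leaf cE6069)) (BT.node 6071 (BT.node 6070 (BT.leaf cE6070) (BT.leaf cE6071)) (BT.leaf cE6072)))) (BT.node 6079 (BT.node 6076 (BT.node 6074 (BT.node 6073 (BT.leaf cE6073) (BT.leaf cE6074)) (BT.node 6075 (BT.leaf cE6075) (BT.leaf cE6076))) (BT.node 6078 (BT.node 6077 (BT.leaf cE6077) (BT.leaf cE6078)) (BT.leaf cE6079))) (BT.node 6082 (BT.node 6081 (BT.node 6080 (BT.leaf cE6080) (BT.leaf cE6081)) (BT.leaf cE6082)) (BT.node 6084 (BT.node 6083 (BT.leaf cE6083) (BT.leaf cE6084)) (BT.leaf cE6085))))) (BT.node 6098 (BT.node 6092 (BT.node 6089 (BT.node 6087 (BT.node 6086 (BT.leaf cE6086) (BT.leaf cE6087)) (BT.node 6088 (BT.leaf cE6088) (BT.leaf cE6089))) (BT.node 6091 (BT.node 6090 (BT.leaf cE6090) (BT.leaf cE6091)) (BT.leaf cE6092))) (BT.node 6095 (BT.node 6094 (BT.node 6093 (BT.leaf cE6093) (BT.leaf cE6094)) (BT.leaf cE6095)) (BT.node 6097 (BT.node 6096 (BT.leaf cE6096) (BT.leaf cE6097)) (BT.leaf cE6098)))) (BT.node 6105 (BT.node 6102 (BT.node 6100 (BT.node 6099 (BT.leaf cE6099) (BT.leaf cE6100)) (BT.node 6101 (BT.leaf cE6101) (BT.leaf cE6102))) (BT.node 6104 (BT.node 6103 (BT.leaf cE6103) (BT.leaf cE6104)) (BT.leaf cE6105))) (BT.node 6108 (BT.node 6107 (BT.node 6106 (BT.leaf cE6106) (BT.leaf cE6107)) (BT.leaf cE6108)) (BT.node 6110 (BT.node 6109 (BT.leaf cE6109) (BT.leaf cE6110)) (BT.leaf cE6111)))))))) (BT.node 6216 (BT.node 6164 (BT.node 6138 (BT.node 6125 (BT.node 6118 (BT.node 6115 (BT.node 6113 (BT.node 6112 (BT.leaf cE6112) (BT.leaf cE6113)) (BT.node 6114 (BT.leaf cE6114) (BT.leaf cE6115))) (BT.node 6117 (BT.node 6116 (BT.leaf cE6116) (BT.leaf cE6117)) (BT.leaf cE6118))) (BT.node 6122 (BT.node 6120 (BT.node 6119 (BT.leaf cE6119) (BT.leaf cE6120)) (BT.node 6121 (BT.leaf cE6121) (BT.leaf cE6122))) (BT.node 6124 (BT.node 6123 (BT.leaf cE6123) (BT.leaf cE6124)) (BT.leaf cE6125)))) (BT.node 6132 (BT.node 6129 (BT.node 6127 (BT.node 6126 (BT.leaf cE6126) (BT.leaf cE6127)) (BT.node 6128 (BT.leaf cE6128) (BT.leaf cE6129))) (BT.node 6131 (BT.node 6130 (BT.leaf cE6130) (BT.leaf cE6131)) (BT.leaf cE6132))) (BT.node 6135 (BT.node 6134 (BT.node 6133 (BT.leaf cE6133) (BT.leaf cE6134)) (BT.leaf cE6135)) (BT.node 6137 (BT.node 6136 (BT.leaf cE6136) (BT.leaf cE6137)) (BT.leaf cE6138))))) (BT.node 6151 (BT.node 6145 (BT.node 6142 (BT.node 6140 (BT.node 6139 (BT.leaf cE6139) (BT.leaf cE6140)) (BT.node 6141 (BT.leaf cE6141) (BT.leaf cE6142))) (BT.node 6144 (BT.node 6143 (BT.leaf cE6143) (BT.leaf cE6144)) (BT.leaf cE6145))) (BT.node 6148 (BT.node 6147 (BT.node 6146 (BT.leaf cE6146) (BT.leaf cE6147)) (BT.leaf cE6148)) (BT.node 6150 (BT.node 6149 (BT.leaf cE6149) (BT.leaf cE6150)) (BT.leaf cE6151)))) (BT.node 6158 (BT.node 6155 (BT.node 6153 (BT.node 6152 (BT.leaf cE6152) (BT.leaf cE6153)) (BT.node 6154 (BT.leaf cE6154) (BT.leaf cE6155))) (BT.node 6157 (BT.node 6156 (BT.leaf cE6156) (BT.leaf cE6157)) (BT.leaf cE6158))) (BT.node 6161 (BT.node 6160 (BT.node 6159 (BT.leaf cE6159) (BT.leaf cE6160)) (BT.leaf cE6161)) (BT.node 6163 (BT.node 6162 (BT.leaf cE6162) (BT.leaf cE6163)) (BT.leaf cE6164)))))) (BT.node 6190 (BT.node 6177 (BT.node 6171 (BT.node 6168 (BT.node 6166 (BT.node 6165 (BT.leaf cE6165) (BT.leaf cE6166)) (BT.node 6167 (BT.leaf cE6167) (BT.leaf cE6168))) (BT.node 6170 (BT.node 6169 (BT.leaf cE6169) (BT.leaf cE6170)) (BT.leaf cE6171))) (BT.node 6174 (BT.node 6173 (BT.node 6172 (BT.leaf cE6172) (BT.leaf cE6173)) (BT.leaf cE6174)) (BT.node 6176 (BT.node 6175 (BT.leaf cE6175) (BT.leaf cE6176)) (BT.leaf cE6177)))) (BT.node 6184 (BT.node 6181 (BT.node 6179 (BT.node 6178 (BT.leaf cE6178) (BT.leaf cE6179)) (BT.node 6180 (BT.leaf cE6180) (BT.leaf cE6181))) (BT.node 6183 (BT.node 6182 (BT.leaf cE6182) (BT.leaf cE6183)) (BT.leaf cE6184))) (BT.node 6187 (BT.node 6186 (BT.node 6185 (BT.leaf cE6185) (BT.leaf cE6186)) (BT.leaf cE6187)) (BT.node 6189 (BT.node 6188 (BT.leaf cE6188) (BT.leaf cE6189)) (BT.leaf cE6190))))) (BT.node 6203 (BT.node 6197 (BT.node 6194 (BT.node 6192 (BT.node 6191 (BT.leaf cE6191) (BT.leaf cE6192)) (BT.node 6193 (BT.leaf cE6193) (BT.leaf cE6194))) (BT.node 6196 (BT.node 6195 (BT.leaf cE6195) (BT.leaf cE6196)) (BT.leaf cE6197))) (BT.node 6200 (BT.node 6199 (BT.node 6198 (BT.leaf cE6198) (BT.leaf cE6199)) (BT.leaf cE6200)) (BT.node 6202 (BT.node 6201 (BT.leaf cE6201) (BT.leaf cE6202)) (BT.leaf cE6203)))) (BT.node 6210 (BT.node 6207 (BT.node 6205 (BT.node 6204 (BT.leaf cE6204) (BT.leaf cE6205)) (BT.node 6206 (BT.leaf cE6206) (BT.leaf cE6207))) (BT.node 6209 (BT.node 6208 (BT.leaf cE6208) (BT.leaf cE6209)) (BT.leaf cE6210))) (BT.node 6213 (BT.node 6212 (BT.node 6211 (BT.leaf cE6211) (BT.leaf cE6212)) (BT.leaf cE6213)) (BT.node 6215 (BT.node 6214 (BT.leaf cE6214) (BT.leaf cE6215)) (BT.leaf cE6216))))))) (BT.node 6269 (BT.node 6243 (BT.node 6230 (BT.node 6223 (BT.node 6220 (BT.node 6218 (BT.node 6217 (BT.leaf cE6217) (BT.leaf cE6218)) (BT.node 6219 (BT.leaf cE6219) (BT.leaf cE6220))) (BT.node 6222 (BT.node 6221 (BT.leaf cE6221) (BT.leaf cE6222)) (BT.leaf cE6223))) (BT.node 6227 (BT.node 6225 (BT.node 6224 (BT.leaf cE6224) (BT.leaf cE6225)) (BT.node 6226 (BT.leaf cE6226) (BT.leaf cE6227))) (BT.node 6229 (BT.node 6228 (BT.leaf cE6228) (BT.leaf cE6229)) (BT.leaf cE6230)))) (BT.node 6237 (BT.node 6234 (BT.node 6232 (BT.node 6231 (BT.leaf cE6231) (BT.leaf cE6232)) (BT.node 6233 (BT.leaf cE6233) (BT.leaf cE6234))) (BT.node 6236 (BT.node 6235 (BT.leaf cE6235) (BT.leaf cE6236)) (BT.leaf cE6237))) (BT.node 6240 (BT.node 6239 (BT.node 6238 (BT.leaf cE6238) (BT.leaf cE6239)) (BT.leaf cE6240)) (BT.node 6242 (BT.node 6241 (BT.leaf cE6241) (BT.leaf cE6242)) (BT.leaf cE6243))))) (BT.node 6256 (BT.node 6250 (BT.node 6247 (BT.node 6245 (BT.node 6244 (BT.leaf cE6244) (BT.leaf cE6245)) (BT.node 6246 (BT.leaf cE6246) (BT.leaf cE6247))) (BT.node 6249 (BT.node 6248 (BT.leaf cE6248) (BT.leaf cE6249)) (BT.leaf cE6250))) (BT.node 6253 (BT.node 6252 (BT.node 6251 (BT.leaf cE6251) (BT.leaf cE6252)) (BT.leaf cE6253)) (BT.node 6255 (BT.node 6254 (BT.leaf cE6254) (BT.leaf cE6255)) (BT.leaf cE6256)))) (BT.node 6263 (BT.node 6260 (BT.node 6258 (BT.node 6257 (BT.leaf cE6257) (BT.leaf cE6258)) (BT.node 6259 (BT.leaf cE6259) (BT.leaf cE6260))) (BT.node 6262 (BT.node 6261 (BT.leaf cE6261) (BT.leaf cE6262)) (BT.leaf cE6263))) (BT.node 6266 (BT.node 6265 (BT.node 6264 (BT.leaf cE6264) (BT.leaf cE6265)) (BT.leaf cE6266)) (BT.node 6268 (BT.node 6267 (BT.leaf cE6267) (BT.leaf cE6268)) (BT.leaf cE6269)))))) (BT.node 6295 (BT.node 6282 (BT.node 6276 (BT.node 6273 (BT.node 6271 (BT.node 6270 (BT.leaf cE6270) (BT.leaf cE6271)) (BT.node 6272 (BT.leaf cE6272) (BT.leaf cE6273))) (BT.node 6275 (BT.node 6274 (BT.leaf cE6274) (BT.leaf cE6275)) (BT.leaf cE6276))) (BT.node 6279 (BT.node 6278 (BT.node 6277 (BT.leaf cE6277) (BT.leaf cE6278)) (BT.leaf cE6279)) (BT.node 6281 (BT.node 6280 (BT.leaf cE6280) (BT.leaf cE6281)) (BT.leaf cE6282)))) (BT.node 6289 (BT.node 6286 (BT.node 6284 (BT.node 6283 (BT.leaf cE6283) (BT.leaf cE6284)) (BT.node 6285 (BT.leaf cE6285) (BT.leaf cE6286))) (BT.node 6288 (BT.node 6287 (BT.leaf cE6287) (BT.leaf cE6288)) (BT.leaf cE6289))) (BT.node 6292 (BT.node 6291 (BT.node 6290 (BT.leaf cE6290) (BT.leaf cE6291)) (BT.leaf cE6292)) (BT.node 6294 (BT.node 6293 (BT.leaf cE6293) (BT.leaf cE6294)) (BT.leaf cE6295))))) (BT.node 6308 (BT.node 6302 (BT.node 6299 (BT.node 6297 (BT.node 6296 (BT.leaf cE6296) (BT.leaf cE6297)) (BT.node 6298 (BT.leaf cE6298) (BT.leaf cE6299))) (BT.node 6301 (BT.node 6300 (BT.leaf cE6300) (BT.leaf cE6301)) (BT.leaf cE6302))) (BT.node 6305 (BT.node 6304 (BT.node 6303 (BT.leaf cE6303) (BT.leaf cE6304)) (BT.leaf cE6305)) (BT.node 6307 (BT.node 6306 (BT.leaf cE6306) (BT.leaf cE6307)) (BT.leaf cE6308)))) (BT.node 6315 (BT.node 6312 (BT.node 6310 (BT.node 6309 (BT.leaf cE6309) (BT.leaf cE6310)) (BT.node 6311 (BT.leaf cE6311) (BT.leaf cE6312))) (BT.node 6314 (BT.node 6313 (BT.leaf cE6313) (BT.leaf cE6314)) (BT.leaf cE6315))) (BT.node 6318 (BT.node 6317 (BT.node 6316 (BT.leaf cE6316) (BT.leaf cE6317)) (BT.leaf cE6318)) (BT.node 6320 (BT.node 6319 (BT.leaf cE6319) (BT.leaf cE6320)) (BT.leaf cE6321))))))))) (BT.node 6532 (BT.node 6427 (BT.node 6374 (BT.node 6348 (BT.node 6335 (BT.node 6328 (BT.node 6325 (BT.node 6323 (BT.node 6322 (BT.leaf cE6322) (BT.leaf cE6323)) (BT.node 6324 (BT.leaf cE6324) (BT.leaf cE6325))) (BT.node 6327 (BT.node 6326 (BT.leaf cE6326) (BT.leaf cE6327)) (BT.leaf cE6328))) (BT.node 6332 (BT.node 6330 (BT.node 6329 (BT.leaf cE6329) (BT.leaf cE6330)) (BT.node 6331 (BT.leaf cE6331) (BT.leaf cE6332))) (BT.node 6334 (BT.node 6333 (BT.leaf cE6333) (BT.leaf cE6334)) (BT.leaf cE6335)))) (BT.node 6342 (BT.node 6339 (BT.node 6337 (BT.node 6336 (BT.leaf cE6336) (BT.leaf cE6337)) (BT.node 6338 (BT.leaf cE6338) (BT.leaf cE6339))) (BT.node 6341 (BT.node 6340 (BT.leaf cE6340) (BT.leaf cE6341)) (BT.leaf cE6342))) (BT.node 6345 (BT.node 6344 (BT.node 6343 (BT.leaf cE6343) (BT.leaf cE6344)) (BT.leaf cE6345)) (BT.node 6347 (BT.node 6346 (BT.leaf cE6346) (BT.leaf cE6347)) (BT.leaf cE6348))))) (BT.node 6361 (BT.node 6355 (BT.node 6352 (BT.node 6350 (BT.node 6349 (BT.leaf cE6349) (BT.leaf cE6350)) (BT.node 6351 (BT.leaf cE6351) (BT.leaf cE6352))) (BT.node 6354 (BT.node 6353 (BT.leaf cE6353) (BT.leaf cE6354)) (BT.leaf cE6355))) (BT.node 6358 (BT.node 6357 (BT.node 6356 (BT.leaf cE6356) (BT.leaf cE6357)) (BT.leaf cE6358)) (BT.node 6360 (BT.node 6359 (BT.leaf cE6359) (BT.leaf cE6360)) (BT.leaf cE6361)))) (BT.node 6368 (BT.node 6365 (BT.node 6363 (BT.node 6362 (BT.leaf cE6362) (BT.leaf cE6363)) (BT.node 6364 (BT.leaf cE6364) (BT.leaf cE6365))) (BT.node 6367 (BT.node 6366 (BT.leaf cE6366) (BT.leaf cE6367)) (BT.leaf cE6368))) (BT.node 6371 (BT.node 6370 (BT.node 6369 (BT.leaf cE6369) (BT.leaf cE6370)) (BT.leaf cE6371)) (BT.node 6373 (BT.node 6372 (BT.leaf cE6372) (BT.leaf cE6373)) (BT.leaf cE6374)))))) (BT.node 6401 (BT.node 6388 (BT.node 6381 (BT.node 6378 (BT.node 6376 (BT.node 6375 (BT.leaf cE6375) (BT.leaf cE6376)) (BT.node 6377 (BT.leaf cE6377) (BT.leaf cE6378))) (BT.node 6380 (BT.node 6379 (BT.leaf cE6379) (BT.leaf cE6380)) (BT.leaf cE6381))) (BT.node 6385 (BT.node 6383 (BT.node 6382 (BT.leaf cE6382) (BT.leaf cE6383)) (BT.node 6384 (BT.leaf cE6384) (BT.leaf cE6385))) (BT.node 6387 (BT.node 6386 (BT.leaf cE6386) (BT.leaf cE6387)) (BT.leaf cE6388)))) (BT.node 6395 (BT.node 6392 (BT.node 6390 (BT.node 6389 (BT.leaf cE6389) (BT.leaf cE6390)) (BT.node 6391 (BT.leaf cE6391) (BT.leaf cE6392))) (BT.node 6394 (BT.node 6393 (BT.leaf cE6393) (BT.leaf cE6394)) (BT.leaf cE6395))) (BT.node 6398 (BT.node 6397 (BT.node 6396 (BT.leaf cE6396) (BT.leaf cE6397)) (BT.leaf cE6398)) (BT.node 6400 (BT.node 6399 (BT.leaf cE6399) (BT.leaf cE6400)) (BT.leaf cE6401))))) (BT.node 6414 (BT.node 6408 (BT.node 6405 (BT.node 6403 (BT.node 6402 (BT.leaf cE6402) (BT.leaf cE6403)) (BT.node 6404 (BT.leaf cE6404) (BT.leaf cE6405))) (BT.node 6407 (BT.node 6406 (BT.leaf cE6406) (BT.leaf cE6407)) (BT.leaf cE6408))) (BT.node 6411 (BT.node 6410 (BT.node 6409 (BT.leaf cE6409) (BT.leaf cE6410)) (BT.leaf cE6411)) (BT.node 6413 (BT.node 6412 (BT.leaf cE6412) (BT.leaf cE6413)) (BT.leaf cE6414)))) (BT.node 6421 (BT.node 6418 (BT.node 6416 (BT.node 6415 (BT.leaf cE6415) (BT.leaf cE6416)) (BT.node 6417 (BT.leaf cE6417) (BT.leaf cE6418))) (BT.node 6420 (BT.node 6419 (BT.leaf cE6419) (BT.leaf cE6420)) (BT.leaf cE6421))) (BT.node 6424 (BT.node 6423 (BT.node 6422 (BT.leaf cE6422) (BT.leaf cE6423)) (BT.leaf cE6424)) (BT.node 6426 (BT.node 6425 (BT.leaf cE6425) (BT.leaf cE6426)) (BT.leaf cE6427))))))) (BT.node 6480 (BT.node 6454 (BT.node 6441 (BT.node 6434 (BT.node 6431 (BT.node 6429 (BT.node 6428 (BT.leaf cE6428) (BT.leaf cE6429)) (BT.node 6430 (BT.leaf cE6430) (BT.leaf cE6431))) (BT.node 6433 (BT.node 6432 (BT.leaf cE6432) (BT.leaf cE6433)) (BT.leaf cE6434))) (BT.node 6438 (BT.node 6436 (BT.node 6435 (BT.leaf cE6435) (BT.leaf cE6436)) (BT.node 6437 (BT.leaf cE6437) (BT.leaf cE6438))) (BT.node 6440 (BT.node 6439 (BT.leaf cE6439) (BT.leaf cE6440)) (BT.leaf cE6441)))) (BT.node 6448 (BT.node 6445 (BT.node 6443 (BT.node 6442 (BT.leaf cE6442) (BT.leaf cE6443)) (BT.node 6444 (BT.leaf cE6444) (BT.leaf cE6445))) (BT.node 6447 (BT.node 6446 (BT.leaf cE6446) (BT.leaf cE6447)) (BT.leaf cE6448))) (BT.node 6451 (BT.node 6450 (BT.node 6449 (BT.leaf cE6449) (BT.leaf cE6450)) (BT.leaf cE6451)) (BT.node 6453 (BT.node 6452 (BT.leaf cE6452) (BT.leaf cE6453)) (BT.leaf cE6454))))) (BT.node 6467 (BT.node 6461 (BT.node 6458 (BT.node 6456 (BT.node 6455 (BT.leaf cE6455) (BT.leaf cE6456)) (BT.node 6457 (BT.leaf cE6457) (BT.leaf cE6458))) (BT.node 6460 (BT.node 6459 (BT.leaf cE6459) (BT.leaf cE6460)) (BT.leaf cE6461))) (BT.node 6464 (BT.node 6463 (BT.node 6462 (BT.leaf cE6462) (BT.leaf cE6463)) (BT.leaf cE6464)) (BT.node 6466 (BT.node 6465 (BT.leaf cE6465) (BT.leaf cE6466)) (BT.leaf cE6467)))) (BT.node 6474 (BT.node 6471 (BT.node 6469 (BT.node 6468 (BT.leaf cE6468) (BT.leaf cE6469)) (BT.node 6470 (BT.leaf cE6470) (BT.leaf cE6471))) (BT.node 6473 (BT.node 6472 (BT.leaf cE6472) (BT.leaf cE6473)) (BT.leaf cE6474))) (BT.node 6477 (BT.node 6476 (BT.node 6475 (BT.leaf cE6475) (BT.leaf cE6476)) (BT.leaf cE6477)) (BT.node 6479 (BT.node 6478 (BT.leaf cE6478) (BT.leaf cE6479)) (BT.leaf cE6480)))))) (BT.node 6506 (BT.node 6493 (BT.node 6487 (BT.node 6484 (BT.node 6482 (BT.node 6481 (BT.leaf cE6481) (BT.leaf cE6482)) (BT.node 6483 (BT.leaf cE6483) (BT.leaf cE6484))) (BT.node 6486 (BT.node 6485 (BT.leaf cE6485) (BT.leaf cE6486)) (BT.leaf cE6487))) (BT.node 6490 (BT.node 6489 (BT.node 6488 (BT.leaf cE6488) (BT.leaf cE6489)) (BT.leaf cE6490)) (BT.node 6492 (BT.node 6491 (BT.leaf cE6491) (BT.leaf cE6492)) (BT.leaf cE6493)))) (BT.node 6500 (BT.node 6497 (BT.node 6495 (BT.node 6494 (BT.leaf cE6494) (BT.leaf cE6495)) (BT.node 6496 (BT.leaf cE6496) (BT.leaf cE6497))) (BT.node 6499 (BT.node 6498 (BT.leaf cE6498) (BT.leaf cE6499)) (BT.leaf cE6500))) (BT.node 6503 (BT.node 6502 (BT.node 6501 (BT.leaf cE6501) (BT.leaf cE6502)) (BT.leaf cE6503)) (BT.node 6505 (BT.node 6504 (BT.leaf cE6504) (BT.leaf cE6505)) (BT.leaf cE6506))))) (BT.node 6519 (BT.node 6513 (BT.node 6510 (BT.node 6508 (BT.node 6507 (BT.leaf cE6507) (BT.leaf cE6508)) (BT.node 6509 (BT.leaf cE6509) (BT.leaf cE6510))) (BT.node 6512 (BT.node 6511 (BT.leaf cE6511) (BT.leaf cE6512)) (BT.leaf cE6513))) (BT.node 6516 (BT.node 6515 (BT.node 6514 (BT.leaf cE6514) (BT.leaf cE6515)) (BT.leaf cE6516)) (BT.node 6518 (BT.node 6517 (BT.leaf cE6517) (BT.leaf cE6518)) (BT.leaf cE6519)))) (BT.node 6526 (BT.node 6523 (BT.node 6521 (BT.node 6520 (BT.leaf cE6520) (BT.leaf cE6521)) (BT.node 6522 (BT.leaf cE6522) (BT.leaf cE6523))) (BT.node 6525 (BT.node 6524 (BT.leaf cE6524) (BT.leaf cE6525)) (BT.leaf cE6526))) (BT.node 6529 (BT.node 6528 (BT.node 6527 (BT.leaf cE6527) (BT.leaf cE6528)) (BT.leaf cE6529)) (BT.node 6531 (BT.node 6530 (BT.leaf cE6530) (BT.leaf cE6531)) (BT.leaf cE6532)))))))) (BT.node 6637 (BT.node 6585 (BT.node 6559 (BT.node 6546 (BT.node 6539 (BT.node 6536 (BT.node 6534 (BT.node 6533 (BT.leaf cE6533) (BT.leaf cE6534)) (BT.node 6535 (BT.leaf cE6535) (BT.leaf cE6536))) (BT.node 6538 (BT.node 6537 (BT.leaf cE6537) (BT.leaf cE6538)) (BT.leaf cE6539))) (BT.node 6543 (BT.node 6541 (BT.node 6540 (BT.leaf cE6540) (BT.leaf cE6541)) (BT.node 6542 (BT.leaf cE6542) (BT.leaf cE6543))) (BT.node 6545 (BT.node 6544 (BT.leaf cE6544) (BT.leaf cE6545)) (BT.leaf cE6546)))) (BT.node 6553 (BT.node 6550 (BT.node 6548 (BT.node 6547 (BT.leaf cE6547) (BT.leaf cE6548)) (BT.node 6549 (BT.leaf cE6549) (BT.leaf cE6550))) (BT.node 6552 (BT.node 6551 (BT.leaf cE6551) (BT.leaf cE6552)) (BT.leaf cE6553))) (BT.node 6556 (BT.node 6555 (BT.node 6554 (BT.leaf cE6554) (BT.leaf cE6555)) (BT.leaf cE6556)) (BT.node 6558 (BT.node 6557 (BT.leaf cE6557) (BT.leaf cE6558)) (BT.leaf cE6559))))) (BT.node 6572 (BT.node 6566 (BT.node 6563 (BT.node 6561 (BT.node 6560 (BT.leaf cE6560) (BT.leaf cE6561)) (BT.node 6562 (BT.leaf cE6562) (BT.leaf cE6563))) (BT.node 6565 (BT.node 6564 (BT.leaf cE6564) (BT.leaf cE6565)) (BT.leaf cE6566))) (BT.node 6569 (BT.node 6568 (BT.node 6567 (BT.leaf cE6567) (BT.leaf cE6568)) (BT.leaf cE6569)) (BT.node 6571 (BT.node 6570 (BT.leaf cE6570) (BT.leaf cE6571)) (BT.leaf cE6572)))) (BT.node 6579 (BT.node 6576 (BT.node 6574 (BT.node 6573 (BT.leaf cE6573) (BT.leaf cE6574)) (BT.node 6575 (BT.leaf cE6575) (BT.leaf cE6576))) (BT.node 6578 (BT.node 6577 (BT.leaf cE6577) (BT.leaf cE6578)) (BT.leaf cE6579))) (BT.node 6582 (BT.node 6581 (BT.node 6580 (BT.leaf cE6580) (BT.leaf cE6581)) (BT.leaf cE6582)) (BT.node 6584 (BT.node 6583 (BT.leaf cE6583) (BT.leaf cE6584)) (BT.leaf cE6585)))))) (BT.node 6611 (BT.node 6598 (BT.node 6592 (BT.node 6589 (BT.node 6587 (BT.node 6586 (BT.leaf cE6586) (BT.leaf cE6587)) (BT.node 6588 (BT.leaf cE6588) (BT.leaf cE6589))) (BT.node 6591 (BT.node 6590 (BT.leaf cE6590) (BT.leaf cE6591)) (BT.leaf cE6592))) (BT.node 6595 (BT.node 6594 (BT.node 6593 (BT.leaf cE6593) (BT.leaf cE6594)) (BT.leaf cE6595)) (BT.node 6597 (BT.node 6596 (BT.leaf cE6596) (BT.leaf cE6597)) (BT.leaf cE6598)))) (BT.node 6605 (BT.node 6602 (BT.node 6600 (BT.node 6599 (BT.leaf cE6599) (BT.leaf cE6600)) (BT.node 6601 (BT.leaf cE6601) (BT.leaf cE6602))) (BT.node 6604 (BT.node 6603 (BT.leaf cE6603) (BT.leaf cE6604)) (BT.leaf cE6605))) (BT.node 6608 (BT.node 6607 (BT.node 6606 (BT.leaf cE6606) (BT.leaf cE6607)) (BT.leaf cE6608)) (BT.node 6610 (BT.node 6609 (BT.leaf cE6609) (BT.leaf cE6610)) (BT.leaf cE6611))))) (BT.node 6624 (BT.node 6618 (BT.node 6615 (BT.node 6613 (BT.node 6612 (BT.leaf cE6612) (BT.leaf cE6613)) (BT.node 6614 (BT.leaf cE6614) (BT.leaf cE6615))) (BT.node 6617 (BT.node 6616 (BT.leaf cE6616) (BT.leaf cE6617)) (BT.leaf cE6618))) (BT.node 6621 (BT.node 6620 (BT.node 6619 (BT.leaf cE6619) (BT.leaf cE6620)) (BT.leaf cE6621)) (BT.node 6623 (BT.node 6622 (BT.leaf cE6622) (BT.leaf cE6623)) (BT.leaf cE6624)))) (BT.node 6631 (BT.node 6628 (BT.node 6626 (BT.node 6625 (BT.leaf cE6625) (BT.leaf cE6626)) (BT.node 6627 (BT.leaf cE6627) (BT.leaf cE6628))) (BT.node 6630 (BT.node 6629 (BT.leaf cE6629) (BT.leaf cE6630)) (BT.leaf cE6631))) (BT.node 6634 (BT.node 6633 (BT.node 6632 (BT.leaf cE6632) (BT.leaf cE6633)) (BT.leaf cE6634)) (BT.node 6636 (BT.node 6635 (BT.leaf cE6635) (BT.leaf cE6636)) (BT.leaf cE6637))))))) (BT.node 6690 (BT.node 6664 (BT.node 6651 (BT.node 6644 (BT.node 6641 (BT.node 6639 (BT.node 6638 (BT.leaf cE6638) (BT.leaf cE6639)) (BT.node 6640 (BT.leaf cE6640) (BT.leaf cE6641))) (BT.node 6643 (BT.node 6642 (BT.leaf cE6642) (BT.leaf cE6643)) (BT.leaf cE6644))) (BT.node 6648 (BT.node 6646 (BT.node 6645 (BT.leaf cE6645) (BT.leaf cE6646)) (BT.node 6647 (BT.leaf cE6647) (BT.leaf cE6648))) (BT.node 6650 (BT.node 6649 (BT.leaf cE6649) (BT.leaf cE6650)) (BT.leaf cE6651)))) (BT.node 6658 (BT.node 6655 (BT.node 6653 (BT.node 6652 (BT.leaf cE6652) (BT.leaf cE6653)) (BT.node 6654 (BT.leaf cE6654) (BT.leaf cE6655))) (BT.node 6657 (BT.node 6656 (BT.leaf cE6656) (BT.leaf cE6657)) (BT.leaf cE6658))) (BT.node 6661 (BT.node 6660 (BT.node 6659 (BT.leaf cE6659) (BT.leaf cE6660)) (BT.leaf cE6661)) (BT.node 6663 (BT.node 6662 (BT.leaf cE6662) (BT.leaf cE6663)) (BT.leaf cE6664))))) (BT.node 6677 (BT.node 6671 (BT.node 6668 (BT.node 6666 (BT.node 6665 (BT.leaf cE6665) (BT.leaf cE6666)) (BT.node 6667 (BT.leaf cE6667) (BT.leaf cE6668))) (BT.node 6670 (BT.node 6669 (BT.leaf cE6669) (BT.leaf cE6670)) (BT.leaf cE6671))) (BT.node 6674 (BT.node 6673 (BT.node 6672 (BT.leaf cE6672) (BT.leaf cE6673)) (BT.leaf cE6674)) (BT.node 6676 (BT.node 6675 (BT.leaf cE6675) (BT.leaf cE6676)) (BT.leaf cE6677)))) (BT.node 6684 (BT.node 6681 (BT.node 6679 (BT.node 6678 (BT.leaf cE6678) (BT.leaf cE6679)) (BT.node 6680 (BT.leaf cE6680) (BT.leaf cE6681))) (BT.node 6683 (BT.node 6682 (BT.leaf cE6682) (BT.leaf cE6683)) (BT.leaf cE6684))) (BT.node 6687 (BT.node 6686 (BT.node 6685 (BT.leaf cE6685) (BT.leaf cE6686)) (BT.leaf cE6687)) (BT.node 6689 (BT.node 6688 (BT.leaf cE6688) (BT.leaf cE6689)) (BT.leaf cE6690)))))) (BT.node 6716 (BT.node 6703 (BT.node 6697 (BT.node 6694 (BT.node 6692 (BT.node 6691 (BT.leaf cE6691) (BT.leaf cE6692)) (BT.node 6693 (BT.leaf cE6693) (BT.leaf cE6694))) (BT.node 6696 (BT.node 6695 (BT.leaf cE6695) (BT.leaf cE6696)) (BT.leaf cE6697))) (BT.node 6700 (BT.node 6699 (BT.node 6698 (BT.leaf cE6698) (BT.leaf cE6699)) (BT.leaf cE6700)) (BT.node 6702 (BT.node 6701 (BT.leaf cE6701) (BT.leaf cE6702)) (BT.leaf cE6703)))) (BT.node 6710 (BT.node 6707 (BT.node 6705 (BT.node 6704 (BT.leaf cE6704) (BT.leaf cE6705)) (BT.node 6706 (BT.leaf cE6706) (BT.leaf cE6707))) (BT.node 6709 (BT.node 6708 (BT.leaf cE6708) (BT.leaf cE6709)) (BT.leaf cE6710))) (BT.node 6713 (BT.node 6712 (BT.node 6711 (BT.leaf cE6711) (BT.leaf cE6712)) (BT.leaf cE6713)) (BT.node 6715 (BT.node 6714 (BT.leaf cE6714) (BT.leaf cE6715)) (BT.leaf cE6716))))) (BT.node 6729 (BT.node 6723 (BT.node 6720 (BT.node 6718 (BT.node 6717 (BT.leaf cE6717) (BT.leaf cE6718)) (BT.node 6719 (BT.leaf cE6719) (BT.leaf cE6720))) (BT.node 6722 (BT.node 6721 (BT.leaf cE6721) (BT.leaf cE6722)) (BT.leaf cE6723))) (BT.node 6726 (BT.node 6725 (BT.node 6724 (BT.leaf cE6724) (BT.leaf cE6725)) (BT.leaf cE6726)) (BT.node 6728 (BT.node 6727 (BT.leaf cE6727) (BT.leaf cE6728)) (BT.leaf cE6729)))) (BT.node 6736 (BT.node 6733 (BT.node 6731 (BT.node 6730 (BT.leaf cE6730) (BT.leaf cE6731)) (BT.node 6732 (BT.leaf cE6732) (BT.leaf cE6733))) (BT.node 6735 (BT.node 6734 (BT.leaf cE6734) (BT.leaf cE6735)) (BT.leaf cE6736))) (BT.node 6739 (BT.node 6738 (BT.node 6737 (BT.leaf cE6737) (BT.leaf cE6738)) (BT.leaf cE6739)) (BT.node 6741 (BT.node 6740 (BT.leaf cE6740) (BT.leaf cE6741)) (BT.leaf cE6742)))))))))))))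
/-- justification chunks -/
def colJT : BT ℕ := (BT.node 3371 (BT.node 1685 (BT.node 842 (BT.node 421 (BT.node 210 (BT.node 105 (BT.node 52 (BT.node 26 (BT.node 13 (BT.node 6 (BT.node 3 (BT.node 1 (BT.node 0 (BT.leaf cJ0) (BT.leaf cJ1)) (BT.node 2 (BT.leaf cJ2) (BT.leaf cJ3))) (BT.node 5 (BT.node 4 (BT.leaf cJ4) (BT.leaf cJ5)) (BT.leaf cJ6))) (BT.node 10 (BT.node 8 (BT.node 7 (BT.leaf cJ7) (BT.leaf cJ8)) (BT.node 9 (BT.leaf cJ9) (BT.leaf cJ10))) (BT.node 12 (BT.node 11 (BT.leaf cJ11) (BT.leaf cJ12)) (BT.leaf cJ13)))) (BT.node 20 (BT.node 17 (BT.node 15 (BT.node 14 (BT.leaf cJ14) (BT.leaf cJ15)) (BT.node 16 (BT.leaf cJ16) (BT.leaf cJ17))) (BT.node 19 (BT.node 18 (BT.leaf cJ18) (BT.leaf cJ19)) (BT.leaf cJ20))) (BT.node 23 (BT.node 22 (BT.node 21 (BT.leaf cJ21) (BT.leaf cJ22)) (BT.leaf cJ23)) (BT.node 25 (BT.node 24 (BT.leaf cJ24) (BT.leaf cJ25)) (BT.leaf cJ26))))) (BT.node 39 (BT.node 33 (BT.node 30 (BT.node 28 (BT.node 27 (BT.leaf cJ27) (BT.leaf cJ28)) (BT.node 29 (BT.leaf cJ29) (BT.leaf cJ30))) (BT.node 32 (BT.node 31 (BT.leaf cJ31) (BT.leaf cJ32)) (BT.leaf cJ33))) (BT.node 36 (BT.node 35 (BT.node 34 (BT.leaf cJ34) (BT.leaf cJ35)) (BT.leaf cJ36)) (BT.node 38 (BT.node 37 (BT.leaf cJ37) (BT.leaf cJ38)) (BT.leaf cJ39)))) (BT.node 46 (BT.node 43 (BT.node 41 (BT.node 40 (BT.leaf cJ40) (BT.leaf cJ41)) (BT.node 42 (BT.leaf cJ42) (BT.leaf cJ43))) (BT.node 45 (BT.node 44 (BT.leaf cJ44) (BT.leaf cJ45)) (BT.leaf cJ46))) (BT.node 49 (BT.node 48 (BT.node 47 (BT.leaf cJ47) (BT.leaf cJ48)) (BT.leaf cJ49)) (BT.node 51 (BT.node 50 (BT.leaf cJ50) (BT.leaf cJ51)) (BT.leaf cJ52)))))) (BT.node 79 (BT.node 66 (BT.node 59 (BT.node 56 (BT.node 54 (BT.node 53 (BT.leaf cJ53) (BT.leaf cJ54)) (BT.node 55 (BT.leaf cJ55) (BT.leaf cJ56))) (BT.node 58 (BT.node 57 (BT.leaf cJ57) (BT.leaf cJ58)) (BT.leaf cJ59))) (BT.node 63 (BT.node 61 (BT.node 60 (BT.leaf cJ60) (BT.leaf cJ61)) (BT.node 62 (BT.leaf cJ62) (BT.leaf cJ63))) (BT.node 65 (BT.node 64 (BT.leaf cJ64) (BT.leaf cJ65)) (BT.leaf cJ66)))) (BT.node 73 (BT.node 70 (BT.node 68 (BT.node 67 (BT.leaf cJ67) (BT.leaf cJ68)) (BT.node 69 (BT.leaf cJ69) (BT.leaf cJ70))) (BT.node 72 (BT.node 71 (BT.leaf cJ71) (BT.leaf cJ72)) (BT.leaf cJ73))) (BT.node 76 (BT.node 75 (BT.node 74 (BT.leaf cJ74) (BT.leaf cJ75)) (BT.leaf cJ76)) (BT.node 78 (BT.node 77 (BT.leaf cJ77) (BT.leaf cJ78)) (BT.leaf cJ79))))) (BT.node 92 (BT.node 86 (BT.node 83 (BT.node 81 (BT.node 80 (BT.leaf cJ80) (BT.leaf cJ81)) (BT.node 82 (BT.leaf cJ82) (BT.leaf cJ83))) (BT.node 85 (BT.node 84 (BT.leaf cJ84) (BT.leaf cJ85)) (BT.leaf cJ86))) (BT.node 89 (BT.node 88 (BT.node 87 (BT.leaf cJ87) (BT.leaf cJ88)) (BT.leaf cJ89)) (BT.node 91 (BT.node 90 (BT.leaf cJ90) (BT.leaf cJ91)) (BT.leaf cJ92)))) (BT.node 99 (BT.node 96 (BT.node 94 (BT.node 93 (BT.leaf cJ93) (BT.leaf cJ94)) (BT.node 95 (BT.leaf cJ95) (BT.leaf cJ96))) (BT.node 98 (BT.node 97 (BT.leaf cJ97) (BT.leaf cJ98)) (BT.leaf cJ99))) (BT.node 102 (BT.node 101 (BT.node 100 (BT.leaf cJ100) (BT.leaf cJ101)) (BT.leaf cJ102)) (BT.node 104 (BT.node 103 (BT.leaf cJ103) (BT.leaf cJ104)) (BT.leaf cJ105))))))) (BT.node 158 (BT.node 132 (BT.node 119 (BT.node 112 (BT.node 109 (BT.node 107 (BT.node 106 (BT.leaf cJ106) (BT.leaf cJ107)) (BT.node 108 (BT.leaf cJ108) (BT.leaf cJ109))) (BT.node 111 (BT.node 110 (BT.leaf cJ110) (BT.leaf cJ111)) (BT.leaf cJ112))) (BT.node 116 (BT.node 114 (BT.node 113 (BT.leaf cJ113) (BT.leaf cJ114)) (BT.node 115 (BT.leaf cJ115) (BT.leaf cJ116))) (BT.node 118 (BT.node 117 (BT.leaf cJ117) (BT.leaf cJ118)) (BT.leaf cJ119)))) (BT.node 126 (BT.node 123 (BT.node 121 (BT.node 120 (BT.leaf cJ120) (BT.leaf cJ121)) (BT.node 122 (BT.leaf cJ122) (BT.leaf cJ123))) (BT.node 125 (BT.node 124 (BT.leaf cJ124) (BT.leaf cJ125)) (BT.leaf cJ126))) (BT.node 129 (BT.node 128 (BT.node 127 (BT.leaf cJ127) (BT.leaf cJ128)) (BT.leaf cJ129)) (BT.node 131 (BT.node 130 (BT.leaf cJ130) (BT.leaf cJ131)) (BT.leaf cJ132))))) (BT.node 145 (BT.node 139 (BT.node 136 (BT.node 134 (BT.node 133 (BT.leaf cJ133) (BT.leaf cJ134)) (BT.node 135 (BT.leaf cJ135) (BT.leaf cJ136))) (BT.node 138 (BT.node 137 (BT.leaf cJ137) (BT.leaf cJ138)) (BT.leaf cJ139))) (BT.node 142 (BT.node 141 (BT.node 140 (BT.leaf cJ140) (BT.leaf cJ141)) (BT.leaf cJ142)) (BT.node 144 (BT.node 143 (BT.leaf cJ143) (BT.leaf cJ144)) (BT.leaf cJ145)))) (BT.node 152 (BT.node 149 (BT.node 147 (BT.node 146 (BT.leaf cJ146) (BT.leaf cJ147)) (BT.node 148 (BT.leaf cJ148) (BT.leaf cJ149))) (BT.node 151 (BT.node 150 (BT.leaf cJ150) (BT.leaf cJ151)) (BT.leaf cJ152))) (BT.node 155 (BT.node 154 (BT.node 153 (BT.leaf cJ153) (BT.leaf cJ154)) (BT.leaf cJ155)) (BT.node 157 (BT.node 156 (BT.leaf cJ156) (BT.leaf cJ157)) (BT.leaf cJ158)))))) (BT.node 184 (BT.node 171 (BT.node 165 (BT.node 162 (BT.node 160 (BT.node 159 (BT.leaf cJ159) (BT.leaf cJ160)) (BT.node 161 (BT.leaf cJ161) (BT.leaf cJ162))) (BT.node 164 (BT.node 163 (BT.leaf cJ163) (BT.leaf cJ164)) (BT.leaf cJ165))) (BT.node 168 (BT.node 167 (BT.node 166 (BT.leaf cJ166) (BT.leaf cJ167)) (BT.leaf cJ168)) (BT.node 170 (BT.node 169 (BT.leaf cJ169) (BT.leaf cJ170)) (BT.leaf cJ171)))) (BT.node 178 (BT.node 175 (BT.node 173 (BT.node 172 (BT.leaf cJ172) (BT.leaf cJ173)) (BT.node 174 (BT.leaf cJ174) (BT.leaf cJ175))) (BT.node 177 (BT.node 176 (BT.leaf cJ176) (BT.leaf cJ177)) (BT.leaf cJ178))) (BT.node 181 (BT.node 180 (BT.node 179 (BT.leaf cJ179) (BT.leaf cJ180)) (BT.leaf cJ181)) (BT.node 183 (BT.node 182 (BT.leaf cJ182) (BT.leaf cJ183)) (BT.leaf cJ184))))) (BT.node 197 (BT.node 191 (BT.node 188 (BT.node 186 (BT.node 185 (BT.leaf cJ185) (BT.leaf cJ186)) (BT.node 187 (BT.leaf cJ187) (BT.leaf cJ188))) (BT.node 190 (BT.node 189 (BT.leaf cJ189) (BT.leaf cJ190)) (BT.leaf cJ191))) (BT.node 194 (BT.node 193 (BT.node 192 (BT.leaf cJ192) (BT.leaf cJ193)) (BT.leaf cJ194)) (BT.node 196 (BT.node 195 (BT.leaf cJ195) (BT.leaf cJ196)) (BT.leaf cJ197)))) (BT.node 204 (BT.node 201 (BT.node 199 (BT.node 198 (BT.leaf cJ198) (BT.leaf cJ199)) (BT.node 200 (BT.leaf cJ200) (BT.leaf cJ201))) (BT.node 203 (BT.node 202 (BT.leaf cJ202) (BT.leaf cJ203)) (BT.leaf cJ204))) (BT.node 207 (BT.node 206 (BT.node 205 (BT.leaf cJ205) (BT.leaf cJ206)) (BT.leaf cJ207)) (BT.node 209 (BT.node 208 (BT.leaf cJ208) (BT.leaf cJ209)) (BT.leaf cJ210)))))))) (BT.node 316 (BT.node 263 (BT.node 237 (BT.node 224 (BT.node 217 (BT.node 214 (BT.node 212 (BT.node 211 (BT.leaf cJ211) (BT.leaf cJ212)) (BT.node 213 (BT.leaf cJ213) (BT.leaf cJ214))) (BT.node 216 (BT.node 215 (BT.leaf cJ215) (BT.leaf cJ216)) (BT.leaf cJ217))) (BT.node 221 (BT.node 219 (BT.node 218 (BT.leaf cJ218) (BT.leaf cJ219)) (BT.node 220 (BT.leaf cJ220) (BT.leaf cJ221))) (BT.node 223 (BT.node 222 (BT.leaf cJ222) (BT.leaf cJ223)) (BT.leaf cJ224)))) (BT.node 231 (BT.node 228 (BT.node 226 (BT.node 225 (BT.leaf cJ225) (BT.leaf cJ226)) (BT.node 227 (BT.leaf cJ227) (BT.leaf cJ228))) (BT.node 230 (BT.node 229 (BT.leaf cJ229) (BT.leaf cJ230)) (BT.leaf cJ231))) (BT.node 234 (BT.node 233 (BT.node 232 (BT.leaf cJ232) (BT.leaf cJ233)) (BT.leaf cJ234)) (BT.node 236 (BT.node 235 (BT.leaf cJ235) (BT.leaf cJ236)) (BT.leaf cJ237))))) (BT.node 250 (BT.node 244 (BT.node 241 (BT.node 239 (BT.node 238 (BT.leaf cJ238) (BT.leaf cJ239)) (BT.node 240 (BT.leaf cJ240) (BT.leaf cJ241))) (BT.node 243 (BT.node 242 (BT.leaf cJ242) (BT.leaf cJ243)) (BT.leaf cJ244))) (BT.node 247 (BT.node 246 (BT.node 245 (BT.leaf cJ245) (BT.leaf cJ246)) (BT.leaf cJ247)) (BT.node 249 (BT.node 248 (BT.leaf cJ248) (BT.leaf cJ249)) (BT.leaf cJ250)))) (BT.node 257 (BT.node 254 (BT.node 252 (BT.node 251 (BT.leaf cJ251) (BT.leaf cJ252)) (BT.node 253 (BT.leaf cJ253) (BT.leaf cJ254))) (BT.node 256 (BT.node 255 (BT.leaf cJ255) (BT.leaf cJ256)) (BT.leaf cJ257))) (BT.node 260 (BT.node 259 (BT.node 258 (BT.leaf cJ258) (BT.leaf cJ259)) (BT.leaf cJ260)) (BT.node 262 (BT.node 261 (BT.leaf cJ261) (BT.leaf cJ262)) (BT.leaf cJ263)))))) (BT.node 290 (BT.node 277 (BT.node 270 (BT.node 267 (BT.node 265 (BT.node 264 (BT.leaf cJ264) (BT.leaf cJ265)) (BT.node 266 (BT.leaf cJ266) (BT.leaf cJ267))) (BT.node 269 (BT.node 268 (BT.leaf cJ268) (BT.leaf cJ269)) (BT.leaf cJ270))) (BT.node 274 (BT.node 272 (BT.node 271 (BT.leaf cJ271) (BT.leaf cJ272)) (BT.node 273 (BT.leaf cJ273) (BT.leaf cJ274))) (BT.node 276 (BT.node 275 (BT.leaf cJ275) (BT.leaf cJ276)) (BT.leaf cJ277)))) (BT.node 284 (BT.node 281 (BT.node 279 (BT.node 278 (BT.leaf cJ278) (BT.leaf cJ279)) (BT.node 280 (BT.leaf cJ280) (BT.leaf cJ281))) (BT.node 283 (BT.node 282 (BT.leaf cJ282) (BT.leaf cJ283)) (BT.leaf cJ284))) (BT.node 287 (BT.node 286 (BT.node 285 (BT.leaf cJ285) (BT.leaf cJ286)) (BT.leaf cJ287)) (BT.node 289 (BT.node 288 (BT.leaf cJ288) (BT.leaf cJ289)) (BT.leaf cJ290))))) (BT.node 303 (BT.node 297 (BT.node 294 (BT.node 292 (BT.node 291 (BT.leaf cJ291) (BT.leaf cJ292)) (BT.node 293 (BT.leaf cJ293) (BT.leaf cJ294))) (BT.node 296 (BT.node 295 (BT.leaf cJ295) (BT.leaf cJ296)) (BT.leaf cJ297))) (BT.node 300 (BT.node 299 (BT.node 298 (BT.leaf cJ298) (BT.leaf cJ299)) (BT.leaf cJ300)) (BT.node 302 (BT.node 301 (BT.leaf cJ301) (BT.leaf cJ302)) (BT.leaf cJ303)))) (BT.node 310 (BT.node 307 (BT.node 305 (BT.node 304 (BT.leaf cJ304) (BT.leaf cJ305)) (BT.node 306 (BT.leaf cJ306) (BT.leaf cJ307))) (BT.node 309 (BT.node 308 (BT.leaf cJ308) (BT.leaf cJ309)) (BT.leaf cJ310))) (BT.node 313 (BT.node 312 (BT.node 311 (BT.leaf cJ311) (BT.leaf cJ312)) (BT.leaf cJ313)) (BT.node 315 (BT.node 314 (BT.leaf cJ314) (BT.leaf cJ315)) (BT.leaf cJ316))))))) (BT.node 369 (BT.node 343 (BT.node 330 (BT.node 323 (BT.node 320 (BT.node 318 (BT.node 317 (BT.leaf cJ317) (BT.leaf cJ318)) (BT.node 319 (BT.leaf cJ319) (BT.leaf cJ320))) (BT.node 322 (BT.node 321 (BT.leaf cJ321) (BT.leaf cJ322)) (BT.leaf cJ323))) (BT.node 327 (BT.node 325 (BT.node 324 (BT.leaf cJ324) (BT.leaf cJ325)) (BT.node 326 (BT.leaf cJ326) (BT.leaf cJ327))) (BT.node 329 (BT.node 328 (BT.leaf cJ328) (BT.leaf cJ329)) (BT.leaf cJ330)))) (BT.node 337 (BT.node 334 (BT.node 332 (BT.node 331 (BT.leaf cJ331) (BT.leaf cJ332)) (BT.node 333 (BT.leaf cJ333) (BT.leaf cJ334))) (BT.node 336 (BT.node 335 (BT.leaf cJ335) (BT.leaf cJ336)) (BT.leaf cJ337))) (BT.node 340 (BT.node 339 (BT.node 338 (BT.leaf cJ338) (BT.leaf cJ339)) (BT.leaf cJ340)) (BT.node 342 (BT.node 341 (BT.leaf cJ341) (BT.leaf cJ342)) (BT.leaf cJ343))))) (BT.node 356 (BT.node 350 (BT.node 347 (BT.node 345 (BT.node 344 (BT.leaf cJ344) (BT.leaf cJ345)) (BT.node 346 (BT.leaf cJ346) (BT.leaf cJ347))) (BT.node 349 (BT.node 348 (BT.leaf cJ348) (BT.leaf cJ349)) (BT.leaf cJ350))) (BT.node 353 (BT.node 352 (BT.node 351 (BT.leaf cJ351) (BT.leaf cJ352)) (BT.leaf cJ353)) (BT.node 355 (BT.node 354 (BT.leaf cJ354) (BT.leaf cJ355)) (BT.leaf cJ356)))) (BT.node 363 (BT.node 360 (BT.node 358 (BT.node 357 (BT.leaf cJ357) (BT.leaf cJ358)) (BT.node 359 (BT.leaf cJ359) (BT.leaf cJ360))) (BT.node 362 (BT.node 361 (BT.leaf cJ361) (BT.leaf cJ362)) (BT.leaf cJ363))) (BT.node 366 (BT.node 365 (BT.node 364 (BT.leaf cJ364) (BT.leaf cJ365)) (BT.leaf cJ366)) (BT.node 368 (BT.node 367 (BT.leaf cJ367) (BT.leaf cJ368)) (BT.leaf cJ369)))))) (BT.node 395 (BT.node 382 (BT.node 376 (BT.node 373 (BT.node 371 (BT.node 370 (BT.leaf cJ370) (BT.leaf cJ371)) (BT.node 372 (BT.leaf cJ372) (BT.leaf cJ373))) (BT.node 375 (BT.node 374 (BT.leaf cJ374) (BT.leaf cJ375)) (BT.leaf cJ376))) (BT.node 379 (BT.node 378 (BT.node 377 (BT.leaf cJ377) (BT.leaf cJ378)) (BT.leaf cJ379)) (BT.node 381 (BT.node 380 (BT.leaf cJ380) (BT.leaf cJ381)) (BT.leaf cJ382)))) (BT.node 389 (BT.node 386 (BT.node 384 (BT.node 383 (BT.leaf cJ383) (BT.leaf cJ384)) (BT.node 385 (BT.leaf cJ385) (BT.leaf cJ386))) (BT.node 388 (BT.node 387 (BT.leaf cJ387) (BT.leaf cJ388)) (BT.leaf cJ389))) (BT.node 392 (BT.node 391 (BT.node 390 (BT.leaf cJ390) (BT.leaf cJ391)) (BT.leaf cJ392)) (BT.node 394 (BT.node 393 (BT.leaf cJ393) (BT.leaf cJ394)) (BT.leaf cJ395))))) (BT.node 408 (BT.node 402 (BT.node 399 (BT.node 397 (BT.node 396 (BT.leaf cJ396) (BT.leaf cJ397)) (BT.node 398 (BT.leaf cJ398) (BT.leaf cJ399))) (BT.node 401 (BT.node 400 (BT.leaf cJ400) (BT.leaf cJ401)) (BT.leaf cJ402))) (BT.node 405 (BT.node 404 (BT.node 403 (BT.leaf cJ403) (BT.leaf cJ404)) (BT.leaf cJ405)) (BT.node 407 (BT.node 406 (BT.leaf cJ406) (BT.leaf cJ407)) (BT.leaf cJ408)))) (BT.node 415 (BT.node 412 (BT.node 410 (BT.node 409 (BT.leaf cJ409) (BT.leaf cJ410)) (BT.node 411 (BT.leaf cJ411) (BT.leaf cJ412))) (BT.node 414 (BT.node 413 (BT.leaf cJ413) (BT.leaf cJ414)) (BT.leaf cJ415))) (BT.node 418 (BT.node 417 (BT.node 416 (BT.leaf cJ416) (BT.leaf cJ417)) (BT.leaf cJ418)) (BT.node 420 (BT.node 419 (BT.leaf cJ419) (BT.leaf cJ420)) (BT.leaf cJ421))))))))) (BT.node 632 (BT.node 527 (BT.node 474 (BT.node 448 (BT.node 435 (BT.node 428 (BT.node 425 (BT.node 423 (BT.node 422 (BT.leaf cJ422) (BT.leaf cJ423)) (BT.node 424 (BT.leaf cJ424) (BT.leaf cJ425))) (BT.node 427 (BT.node 426 (BT.leaf cJ426) (BT.leaf cJ427)) (BT.leaf cJ428))) (BT.node 432 (BT.node 430 (BT.node 429 (BT.leaf cJ429) (BT.leaf cJ430)) (BT.node 431 (BT.leaf cJ431) (BT.leaf cJ432))) (BT.node 434 (BT.node 433 (BT.leaf cJ433) (BT.leaf cJ434)) (BT.leaf cJ435)))) (BT.node 442 (BT.node 439 (BT.node 437 (BT.node 436 (BT.leaf cJ436) (BT.leaf cJ437)) (BT.node 438 (BT.leaf cJ438) (BT.leaf cJ439))) (BT.node 441 (BT.node 440 (BT.leaf cJ440) (BT.leaf cJ441)) (BT.leaf cJ442))) (BT.node 445 (BT.node 444 (BT.node 443 (BT.leaf cJ443) (BT.leaf cJ444)) (BT.leaf cJ445)) (BT.node 447 (BT.node 446 (BT.leaf cJ446) (BT.leaf cJ447)) (BT.leaf cJ448))))) (BT.node 461 (BT.node 455 (BT.node 452 (BT.node 450 (BT.node 449 (BT.leaf cJ449) (BT.leaf cJ450)) (BT.node 451 (BT.leaf cJ451) (BT.leaf cJ452))) (BT.node 454 (BT.node 453 (BT.leaf cJ453) (BT.leaf cJ454)) (BT.leaf cJ455))) (BT.node 458 (BT.node 457 (BT.node 456 (BT.leaf cJ456) (BT.leaf cJ457)) (BT.leaf cJ458)) (BT.node 460 (BT.node 459 (BT.leaf cJ459) (BT.leaf cJ460)) (BT.leaf cJ461)))) (BT.node 468 (BT.node 465 (BT.node 463 (BT.node 462 (BT.leaf cJ462) (BT.leaf cJ463)) (BT.node 464 (BT.leaf cJ464) (BT.leaf cJ465))) (BT.node 467 (BT.node 466 (BT.leaf cJ466) (BT.leaf cJ467)) (BT.leaf cJ468))) (BT.node 471 (BT.node 470 (BT.node 469 (BT.leaf cJ469) (BT.leaf cJ470)) (BT.leaf cJ471)) (BT.node 473 (BT.node 472 (BT.leaf cJ472) (BT.leaf cJ473)) (BT.leaf cJ474)))))) (BT.node 501 (BT.node 488 (BT.node 481 (BT.node 478 (BT.node 476 (BT.node 475 (BT.leaf cJ475) (BT.leaf cJ476)) (BT.node 477 (BT.leaf cJ477) (BT.leaf cJ478))) (BT.node 480 (BT.node 479 (BT.leaf cJ479) (BT.leaf cJ480)) (BT.leaf cJ481))) (BT.node 485 (BT.node 483 (BT.node 482 (BT.leaf cJ482) (BT.leaf cJ483)) (BT.node 484 (BT.leaf cJ484) (BT.leaf cJ485))) (BT.node 487 (BT.node 486 (BT.leaf cJ486) (BT.leaf cJ487)) (BT.leaf cJ488)))) (BT.node 495 (BT.node 492 (BT.node 490 (BT.node 489 (BT.leaf cJ489) (BT.leaf cJ490)) (BT.node 491 (BT.leaf cJ491) (BT.leaf cJ492))) (BT.node 494 (BT.node 493 (BT.leaf cJ493) (BT.leaf cJ494)) (BT.leaf cJ495))) (BT.node 498 (BT.node 497 (BT.node 496 (BT.leaf cJ496) (BT.leaf cJ497)) (BT.leaf cJ498)) (BT.node 500 (BT.node 499 (BT.leaf cJ499) (BT.leaf cJ500)) (BT.leaf cJ501))))) (BT.node 514 (BT.node 508 (BT.node 505 (BT.node 503 (BT.node 502 (BT.leaf cJ502) (BT.leaf cJ503)) (BT.node 504 (BT.leaf cJ504) (BT.leaf cJ505))) (BT.node 507 (BT.node 506 (BT.leaf cJ506) (BT.leaf cJ507)) (BT.leaf cJ508))) (BT.node 511 (BT.node 510 (BT.node 509 (BT.leaf cJ509) (BT.leaf cJ510)) (BT.leaf cJ511)) (BT.node 513 (BT.node 512 (BT.leaf cJ512) (BT.leaf cJ513)) (BT.leaf cJ514)))) (BT.node 521 (BT.node 518 (BT.node 516 (BT.node 515 (BT.leaf cJ515) (BT.leaf cJ516)) (BT.node 517 (BT.leaf cJ517) (BT.leaf cJ518))) (BT.node 520 (BT.node 519 (BT.leaf cJ519) (BT.leaf cJ520)) (BT.leaf cJ521))) (BT.node 524 (BT.node 523 (BT.node 522 (BT.leaf cJ522) (BT.leaf cJ523)) (BT.leaf cJ524)) (BT.node 526 (BT.node 525 (BT.leaf cJ525) (BT.leaf cJ526)) (BT.leaf cJ527))))))) (BT.node 580 (BT.node 554 (BT.node 541 (BT.node 534 (BT.node 531 (BT.node 529 (BT.node 528 (BT.leaf cJ528) (BT.leaf cJ529)) (BT.node 530 (BT.leaf cJ530) (BT.leaf cJ531))) (BT.node 533 (BT.node 532 (BT.leaf cJ532) (BT.leaf cJ533)) (BT.leaf cJ534))) (BT.node 538 (BT.node 536 (BT.node 535 (BT.leaf cJ535) (BT.leaf cJ536)) (BT.node 537 (BT.leaf cJ537) (BT.leaf cJ538))) (BT.node 540 (BT.node 539 (BT.leaf cJ539) (BT.leaf cJ540)) (BT.leaf cJ541)))) (BT.node 548 (BT.node 545 (BT.node 543 (BT.node 542 (BT.leaf cJ542) (BT.leaf cJ543)) (BT.node 544 (BT.leaf cJ544) (BT.leaf cJ545))) (BT.node 547 (BT.node 546 (BT.leaf cJ546) (BT.leaf cJ547)) (BT.leaf cJ548))) (BT.node 551 (BT.node 550 (BT.node 549 (BT.leaf cJ549) (BT.leaf cJ550)) (BT.leaf cJ551)) (BT.node 553 (BT.node 552 (BT.leaf cJ552) (BT.leaf cJ553)) (BT.leaf cJ554))))) (BT.node 567 (BT.node 561 (BT.node 558 (BT.node 556 (BT.node 555 (BT.leaf cJ555) (BT.leaf cJ556)) (BT.node 557 (BT.leaf cJ557) (BT.leaf cJ558))) (BT.node 560 (BT.node 559 (BT.leaf cJ559) (BT.leaf cJ560)) (BT.leaf cJ561))) (BT.node 564 (BT.node 563 (BT.node 562 (BT.leaf cJ562) (BT.leaf cJ563)) (BT.leaf cJ564)) (BT.node 566 (BT.node 565 (BT.leaf cJ565) (BT.leaf cJ566)) (BT.leaf cJ567)))) (BT.node 574 (BT.node 571 (BT.node 569 (BT.node 568 (BT.leaf cJ568) (BT.leaf cJ569)) (BT.node 570 (BT.leaf cJ570) (BT.leaf cJ571))) (BT.node 573 (BT.node 572 (BT.leaf cJ572) (BT.leaf cJ573)) (BT.leaf cJ574))) (BT.node 577 (BT.node 576 (BT.node 575 (BT.leaf cJ575) (BT.leaf cJ576)) (BT.leaf cJ577)) (BT.node 579 (BT.node 578 (BT.leaf cJ578) (BT.leaf cJ579)) (BT.leaf cJ580)))))) (BT.node 606 (BT.node 593 (BT.node 587 (BT.node 584 (BT.node 582 (BT.node 581 (BT.leaf cJ581) (BT.leaf cJ582)) (BT.node 583 (BT.leaf cJ583) (BT.leaf cJ584))) (BT.node 586 (BT.node 585 (BT.leaf cJ585) (BT.leaf cJ586)) (BT.leaf cJ587))) (BT.node 590 (BT.node 589 (BT.node 588 (BT.leaf cJ588) (BT.leaf cJ589)) (BT.leaf cJ590)) (BT.node 592 (BT.node 591 (BT.leaf cJ591) (BT.leaf cJ592)) (BT.leaf cJ593)))) (BT.node 600 (BT.node 597 (BT.node 595 (BT.node 594 (BT.leaf cJ594) (BT.leaf cJ595)) (BT.node 596 (BT.leaf cJ596) (BT.leaf cJ597))) (BT.node 599 (BT.node 598 (BT.leaf cJ598) (BT.leaf cJ599)) (BT.leaf cJ600))) (BT.node 603 (BT.node 602 (BT.node 601 (BT.leaf cJ601) (BT.leaf cJ602)) (BT.leaf cJ603)) (BT.node 605 (BT.node 604 (BT.leaf cJ604) (BT.leaf cJ605)) (BT.leaf cJ606))))) (BT.node 619 (BT.node 613 (BT.node 610 (BT.node 608 (BT.node 607 (BT.leaf cJ607) (BT.leaf cJ608)) (BT.node 609 (BT.leaf cJ609) (BT.leaf cJ610))) (BT.node 612 (BT.node 611 (BT.leaf cJ611) (BT.leaf cJ612)) (BT.leaf cJ613))) (BT.node 616 (BT.node 615 (BT.node 614 (BT.leaf cJ614) (BT.leaf cJ615)) (BT.leaf cJ616)) (BT.node 618 (BT.node 617 (BT.leaf cJ617) (BT.leaf cJ618)) (BT.leaf cJ619)))) (BT.node 626 (BT.node 623 (BT.node 621 (BT.node 620 (BT.leaf cJ620) (BT.leaf cJ621)) (BT.node 622 (BT.leaf cJ622) (BT.leaf cJ623))) (BT.node 625 (BT.node 624 (BT.leaf cJ624) (BT.leaf cJ625)) (BT.leaf cJ626))) (BT.node 629 (BT.node 628 (BT.node 627 (BT.leaf cJ627) (BT.leaf cJ628)) (BT.leaf cJ629)) (BT.node 631 (BT.node 630 (BT.leaf cJ630) (BT.leaf cJ631)) (BT.leaf cJ632)))))))) (BT.node 737 (BT.node 685 (BT.node 659 (BT.node 646 (BT.node 639 (BT.node 636 (BT.node 634 (BT.node 633 (BT.leaf cJ633) (BT.leaf cJ634)) (BT.node 635 (BT.leaf cJ635) (BT.leaf cJ636))) (BT.node 638 (BT.node 637 (BT.leaf cJ637) (BT.leaf cJ638)) (BT.leaf cJ639))) (BT.node 643 (BT.node 641 (BT.node 640 (BT.leaf cJ640) (BT.leaf cJ641)) (BT.node 642 (BT.leaf cJ642) (BT.leaf cJ643))) (BT.node 645 (BT.node 644 (BT.leaf cJ644) (BT.leaf cJ645)) (BT.leaf cJ646)))) (BT.node 653 (BT.node 650 (BT.node 648 (BT.node 647 (BT.leaf cJ647) (BT.leaf cJ648)) (BT.node 649 (BT.leaf cJ649) (BT.leaf cJ650))) (BT.node 652 (BT.node 651 (BT.leaf cJ651) (BT.leaf cJ652)) (BT.leaf cJ653))) (BT.node 656 (BT.node 655 (BT.node 654 (BT.leaf cJ654) (BT.leaf cJ655)) (BT.leaf cJ656)) (BT.node 658 (BT.node 657 (BT.leaf cJ657) (BT.leaf cJ658)) (BT.leaf cJ659))))) (BT.node 672 (BT.node 666 (BT.node 663 (BT.node 661 (BT.node 660 (BT.leaf cJ660) (BT.leaf cJ661)) (BT.node 662 (BT.leaf cJ662) (BT.leaf cJ663))) (BT.node 665 (BT.node 664 (BT.leaf cJ664) (BT.leaf cJ665)) (BT.leaf cJ666))) (BT.node 669 (BT.node 668 (BT.node 667 (BT.leaf cJ667) (BT.leaf cJ668)) (BT.leaf cJ669)) (BT.node 671 (BT.node 670 (BT.leaf cJ670) (BT.leaf cJ671)) (BT.leaf cJ672)))) (BT.node 679 (BT.node 676 (BT.node 674 (BT.node 673 (BT.leaf cJ673) (BT.leaf cJ674)) (BT.node 675 (BT.leaf cJ675) (BT.leaf cJ676))) (BT.node 678 (BT.node 677 (BT.leaf cJ677) (BT.leaf cJ678)) (BT.leaf cJ679))) (BT.node 682 (BT.node 681 (BT.node 680 (BT.leaf cJ680) (BT.leaf cJ681)) (BT.leaf cJ682)) (BT.node 684 (BT.node 683 (BT.leaf cJ683) (BT.leaf cJ684)) (BT.leaf cJ685)))))) (BT.node 711 (BT.node 698 (BT.node 692 (BT.node 689 (BT.node 687 (BT.node 686 (BT.leaf cJ686) (BT.leaf cJ687)) (BT.node 688 (BT.leaf cJ688) (BT.leaf cJ689))) (BT.node 691 (BT.node 690 (BT.leaf cJ690) (BT.leaf cJ691)) (BT.leaf cJ692))) (BT.node 695 (BT.node 694 (BT.node 693 (BT.leaf cJ693) (BT.leaf cJ694)) (BT.leaf cJ695)) (BT.node 697 (BT.node 696 (BT.leaf cJ696) (BT.leaf cJ697)) (BT.leaf cJ698)))) (BT.node 705 (BT.node 702 (BT.node 700 (BT.node 699 (BT.leaf cJ699) (BT.leaf cJ700)) (BT.node 701 (BT.leaf cJ701) (BT.leaf cJ702))) (BT.node 704 (BT.node 703 (BT.leaf cJ703) (BT.leaf cJ704)) (BT.leaf cJ705))) (BT.node 708 (BT.node 707 (BT.node 706 (BT.leaf cJ706) (BT.leaf cJ707)) (BT.leaf cJ708)) (BT.node 710 (BT.node 709 (BT.leaf cJ709) (BT.leaf cJ710)) (BT.leaf cJ711))))) (BT.node 724 (BT.node 718 (BT.node 715 (BT.node 713 (BT.node 712 (BT.leaf cJ712) (BT.leaf cJ713)) (BT.node 714 (BT.leaf cJ714) (BT.leaf cJ715))) (BT.node 717 (BT.node 716 (BT.leaf cJ716) (BT.leaf cJ717)) (BT.leaf cJ718))) (BT.node 721 (BT.node 720 (BT.node 719 (BT.leaf cJ719) (BT.leaf cJ720)) (BT.leaf cJ721)) (BT.node 723 (BT.node 722 (BT.leaf cJ722) (BT.leaf cJ723)) (BT.leaf cJ724)))) (BT.node 731 (BT.node 728 (BT.node 726 (BT.node 725 (BT.leaf cJ725) (BT.leaf cJ726)) (BT.node 727 (BT.leaf cJ727) (BT.leaf cJ728))) (BT.node 730 (BT.node 729 (BT.leaf cJ729) (BT.leaf cJ730)) (BT.leaf cJ731))) (BT.node 734 (BT.node 733 (BT.node 732 (BT.leaf cJ732) (BT.leaf cJ733)) (BT.leaf cJ734)) (BT.node 736 (BT.node 735 (BT.leaf cJ735) (BT.leaf cJ736)) (BT.leaf cJ737))))))) (BT.node 790 (BT.node 764 (BT.node 751 (BT.node 744 (BT.node 741 (BT.node 739 (BT.node 738 (BT.leaf cJ738) (BT.leaf cJ739)) (BT.node 740 (BT.leaf cJ740) (BT.leaf cJ741))) (BT.node 743 (BT.node 742 (BT.leaf cJ742) (BT.leaf cJ743)) (BT.leaf cJ744))) (BT.node 748 (BT.node 746 (BT.node 745 (BT.leaf cJ745) (BT.leaf cJ746)) (BT.node 747 (BT.leaf cJ747) (BT.leaf cJ748))) (BT.node 750 (BT.node 749 (BT.leaf cJ749) (BT.leaf cJ750)) (BT.leaf cJ751)))) (BT.node 758 (BT.node 755 (BT.node 753 (BT.node 752 (BT.leaf cJ752) (BT.leaf cJ753)) (BT.node 754 (BT.leaf cJ754) (BT.leaf cJ755))) (BT.node 757 (BT.node 756 (BT.leaf cJ756) (BT.leaf cJ757)) (BT.leaf cJ758))) (BT.node 761 (BT.node 760 (BT.node 759 (BT.leaf cJ759) (BT.leaf cJ760)) (BT.leaf cJ761)) (BT.node 763 (BT.node 762 (BT.leaf cJ762) (BT.leaf cJ763)) (BT.leaf cJ764))))) (BT.node 777 (BT.node 771 (BT.node 768 (BT.node 766 (BT.node 765 (BT.leaf cJ765) (BT.leaf cJ766)) (BT.node 767 (BT.leaf cJ767) (BT.leaf cJ768))) (BT.node 770 (BT.node 769 (BT.leaf cJ769) (BT.leaf cJ770)) (BT.leaf cJ771))) (BT.node 774 (BT.node 773 (BT.node 772 (BT.leaf cJ772) (BT.leaf cJ773)) (BT.leaf cJ774)) (BT.node 776 (BT.node 775 (BT.leaf cJ775) (BT.leaf cJ776)) (BT.leaf cJ777)))) (BT.node 784 (BT.node 781 (BT.node 779 (BT.node 778 (BT.leaf cJ778) (BT.leaf cJ779)) (BT.node 780 (BT.leaf cJ780) (BT.leaf cJ781))) (BT.node 783 (BT.node 782 (BT.leaf cJ782) (BT.leaf cJ783)) (BT.leaf cJ784))) (BT.node 787 (BT.node 786 (BT.node 785 (BT.leaf cJ785) (BT.leaf cJ786)) (BT.leaf cJ787)) (BT.node 789 (BT.node 788 (BT.leaf cJ788) (BT.leaf cJ789)) (BT.leaf cJ790)))))) (BT.node 816 (BT.node 803 (BT.node 797 (BT.node 794 (BT.node 792 (BT.node 791 (BT.leaf cJ791) (BT.leaf cJ792)) (BT.node 793 (BT.leaf cJ793) (BT.leaf cJ794))) (BT.node 796 (BT.node 795 (BT.leaf cJ795) (BT.leaf cJ796)) (BT.leaf cJ797))) (BT.node 800 (BT.node 799 (BT.node 798 (BT.leaf cJ798) (BT.leaf cJ799)) (BT.leaf cJ800)) (BT.node 802 (BT.node 801 (BT.leaf cJ801) (BT.leaf cJ802)) (BT.leaf cJ803)))) (BT.node 810 (BT.node 807 (BT.node 805 (BT.node 804 (BT.leaf cJ804) (BT.leaf cJ805)) (BT.node 806 (BT.leaf cJ806) (BT.leaf cJ807))) (BT.node 809 (BT.node 808 (BT.leaf cJ808) (BT.leaf cJ809)) (BT.leaf cJ810))) (BT.node 813 (BT.node 812 (BT.node 811 (BT.leaf cJ811) (BT.leaf cJ812)) (BT.leaf cJ813)) (BT.node 815 (BT.node 814 (BT.leaf cJ814) (BT.leaf cJ815)) (BT.leaf cJ816))))) (BT.node 829 (BT.node 823 (BT.node 820 (BT.node 818 (BT.node 817 (BT.leaf cJ817) (BT.leaf cJ818)) (BT.node 819 (BT.leaf cJ819) (BT.leaf cJ820))) (BT.node 822 (BT.node 821 (BT.leaf cJ821) (BT.leaf cJ822)) (BT.leaf cJ823))) (BT.node 826 (BT.node 825 (BT.node 824 (BT.leaf cJ824) (BT.leaf cJ825)) (BT.leaf cJ826)) (BT.node 828 (BT.node 827 (BT.leaf cJ827) (BT.leaf cJ828)) (BT.leaf cJ829)))) (BT.node 836 (BT.node 833 (BT.node 831 (BT.node 830 (BT.leaf cJ830) (BT.leaf cJ831)) (BT.node 832 (BT.leaf cJ832) (BT.leaf cJ833))) (BT.node 835 (BT.node 834 (BT.leaf cJ834) (BT.leaf cJ835)) (BT.leaf cJ836))) (BT.node 839 (BT.node 838 (BT.node 837 (BT.leaf cJ837) (BT.leaf cJ838)) (BT.leaf cJ839)) (BT.node 841 (BT.node 840 (BT.leaf cJ840) (BT.leaf cJ841)) (BT.leaf cJ842)))))))))) (BT.node 1264 (BT.node 1053 (BT.node 948 (BT.node 895 (BT.node 869 (BT.node 856 (BT.node 849 (BT.node 846 (BT.node 844 (BT.node 843 (BT.leaf cJ843) (BT.leaf cJ844)) (BT.node 845 (BT.leaf cJ845) (BT.leaf cJ846))) (BT.node 848 (BT.node 847 (BT.leaf cJ847) (BT.leaf cJ848)) (BT.leaf cJ849))) (BT.node 853 (BT.node 851 (BT.node 850 (BT.leaf cJ850) (BT.leaf cJ851)) (BT.node 852 (BT.leaf cJ852) (BT.leaf cJ853))) (BT.node 855 (BT.node 854 (BT.leaf cJ854) (BT.leaf cJ855)) (BT.leaf cJ856)))) (BT.node 863 (BT.node 860 (BT.node 858 (BT.node 857 (BT.leaf cJ857) (BT.leaf cJ858)) (BT.node 859 (BT.leaf cJ859) (BT.leaf cJ860))) (BT.node 862 (BT.node 861 (BT.leaf cJ861) (BT.leaf cJ862)) (BT.leaf cJ863))) (BT.node 866 (BT.node 865 (BT.node 864 (BT.leaf cJ864) (BT.leaf cJ865)) (BT.leaf cJ866)) (BT.node 868 (BT.node 867 (BT.leaf cJ867) (BT.leaf cJ868)) (BT.leaf cJ869))))) (BT.node 882 (BT.node 876 (BT.node 873 (BT.node 871 (BT.node 870 (BT.leaf cJ870) (BT.leaf cJ871)) (BT.node 872 (BT.leaf cJ872) (BT.leaf cJ873))) (BT.node 875 (BT.node 874 (BT.leaf cJ874) (BT.leaf cJ875)) (BT.leaf cJ876))) (BT.node 879 (BT.node 878 (BT.node 877 (BT.leaf cJ877) (BT.leaf cJ878)) (BT.leaf cJ879)) (BT.node 881 (BT.node 880 (BT.leaf cJ880) (BT.leaf cJ881)) (BT.leaf cJ882)))) (BT.node 889 (BT.node 886 (BT.node 884 (BT.node 883 (BT.leaf cJ883) (BT.leaf cJ884)) (BT.node 885 (BT.leaf cJ885) (BT.leaf cJ886))) (BT.node 888 (BT.node 887 (BT.leaf cJ887) (BT.leaf cJ888)) (BT.leaf cJ889))) (BT.node 892 (BT.node 891 (BT.node 890 (BT.leaf cJ890) (BT.leaf cJ891)) (BT.leaf cJ892)) (BT.node 894 (BT.node 893 (BT.leaf cJ893) (BT.leaf cJ894)) (BT.leaf cJ895)))))) (BT.node 922 (BT.node 909 (BT.node 902 (BT.node 899 (BT.node 897 (BT.node 896 (BT.leaf cJ896) (BT.leaf cJ897)) (BT.node 898 (BT.leaf cJ898) (BT.leaf cJ899))) (BT.node 901 (BT.node 900 (BT.leaf cJ900) (BT.leaf cJ901)) (BT.leaf cJ902))) (BT.node 906 (BT.node 904 (BT.node 903 (BT.leaf cJ903) (BT.leaf cJ904)) (BT.node 905 (BT.leaf cJ905) (BT.leaf cJ906))) (BT.node 908 (BT.node 907 (BT.leaf cJ907) (BT.leaf cJ908)) (BT.leaf cJ909)))) (BT.node 916 (BT.node 913 (BT.node 911 (BT.node 910 (BT.leaf cJ910) (BT.leaf cJ911)) (BT.node 912 (BT.leaf cJ912) (BT.leaf cJ913))) (BT.node 915 (BT.node 914 (BT.leaf cJ914) (BT.leaf cJ915)) (BT.leaf cJ916))) (BT.node 919 (BT.node 918 (BT.node 917 (BT.leaf cJ917) (BT.leaf cJ918)) (BT.leaf cJ919)) (BT.node 921 (BT.node 920 (BT.leaf cJ920) (BT.leaf cJ921)) (BT.leaf cJ922))))) (BT.node 935 (BT.node 929 (BT.node 926 (BT.node 924 (BT.node 923 (BT.leaf cJ923) (BT.leaf cJ924)) (BT.node 925 (BT.leaf cJ925) (BT.leaf cJ926))) (BT.node 928 (BT.node 927 (BT.leaf cJ927) (BT.leaf cJ928)) (BT.leaf cJ929))) (BT.node 932 (BT.node 931 (BT.node 930 (BT.leaf cJ930) (BT.leaf cJ931)) (BT.leaf cJ932)) (BT.node 934 (BT.node 933 (BT.leaf cJ933) (BT.leaf cJ934)) (BT.leaf cJ935)))) (BT.node 942 (BT.node 939 (BT.node 937 (BT.node 936 (BT.leaf cJ936) (BT.leaf cJ937)) (BT.node 938 (BT.leaf cJ938) (BT.leaf cJ939))) (BT.node 941 (BT.node 940 (BT.leaf cJ940) (BT.leaf cJ941)) (BT.leaf cJ942))) (BT.node 945 (BT.node 944 (BT.node 943 (BT.leaf cJ943) (BT.leaf cJ944)) (BT.leaf cJ945)) (BT.node 947 (BT.node 946 (BT.leaf cJ946) (BT.leaf cJ947)) (BT.leaf cJ948))))))) (BT.node 1001 (BT.node 975 (BT.node 962 (BT.node 955 (BT.node 952 (BT.node 950 (BT.node 949 (BT.leaf cJ949) (BT.leaf cJ950)) (BT.node 951 (BT.leaf cJ951) (BT.leaf cJ952))) (BT.node 954 (BT.node 953 (BT.leaf cJ953) (BT.leaf cJ954)) (BT.leaf cJ955))) (BT.node 959 (BT.node 957 (BT.node 956 (BT.leaf cJ956) (BT.leaf cJ957)) (BT.node 958 (BT.leaf cJ958) (BT.leaf cJ959))) (BT.node 961 (BT.node 960 (BT.leaf cJ960) (BT.leaf cJ961)) (BT.leaf cJ962)))) (BT.node 969 (BT.node 966 (BT.node 964 (BT.node 963 (BT.leaf cJ963) (BT.leaf cJ964)) (BT.node 965 (BT.leaf cJ965) (BT.leaf cJ966))) (BT.node 968 (BT.node 967 (BT.leaf cJ967) (BT.leaf cJ968)) (BT.leaf cJ969))) (BT.node 972 (BT.node 971 (BT.node 970 (BT.leaf cJ970) (BT.leaf cJ971)) (BT.leaf cJ972)) (BT.node 974 (BT.node 973 (BT.leaf cJ973) (BT.leaf cJ974)) (BT.leaf cJ975))))) (BT.node 988 (BT.node 982 (BT.node 979 (BT.node 977 (BT.node 976 (BT.leaf cJ976) (BT.leaf cJ977)) (BT.node 978 (BT.leaf cJ978) (BT.leaf cJ979))) (BT.node 981 (BT.node 980 (BT.leaf cJ980) (BT.leaf cJ981)) (BT.leaf cJ982))) (BT.node 985 (BT.node 984 (BT.node 983 (BT.leaf cJ983) (BT.leaf cJ984)) (BT.leaf cJ985)) (BT.node 987 (BT.node 986 (BT.leaf cJ986) (BT.leaf cJ987)) (BT.leaf cJ988)))) (BT.node 995 (BT.node 992 (BT.node 990 (BT.node 989 (BT.leaf cJ989) (BT.leaf cJ990)) (BT.node 991 (BT.leaf cJ991) (BT.leaf cJ992))) (BT.node 994 (BT.node 993 (BT.leaf cJ993) (BT.leaf cJ994)) (BT.leaf cJ995))) (BT.node 998 (BT.node 997 (BT.node 996 (BT.leaf cJ996) (BT.leaf cJ997)) (BT.leaf cJ998)) (BT.node 1000 (BT.node 999 (BT.leaf cJ999) (BT.leaf cJ1000)) (BT.leaf cJ1001)))))) (BT.node 1027 (BT.node 1014 (BT.node 1008 (BT.node 1005 (BT.node 1003 (BT.node 1002 (BT.leaf cJ1002) (BT.leaf cJ1003)) (BT.node 1004 (BT.leaf cJ1004) (BT.leaf cJ1005))) (BT.node 1007 (BT.node 1006 (BT.leaf cJ1006) (BT.leaf cJ1007)) (BT.leaf cJ1008))) (BT.node 1011 (BT.node 1010 (BT.node 1009 (BT.leaf cJ1009) (BT.leaf cJ1010)) (BT.leaf cJ1011)) (BT.node 1013 (BT.node 1012 (BT.leaf cJ1012) (BT.leaf cJ1013)) (BT.leaf cJ1014)))) (BT.node 1021 (BT.node 1018 (BT.node 1016 (BT.node 1015 (BT.leaf cJ1015) (BT.leaf cJ1016)) (BT.node 1017 (BT.leaf cJ1017) (BT.leaf cJ1018))) (BT.node 1020 (BT.node 1019 (BT.leaf cJ1019) (BT.leaf cJ1020)) (BT.leaf cJ1021))) (BT.node 1024 (BT.node 1023 (BT.node 1022 (BT.leaf cJ1022) (BT.leaf cJ1023)) (BT.leaf cJ1024)) (BT.node 1026 (BT.node 1025 (BT.leaf cJ1025) (BT.leaf cJ1026)) (BT.leaf cJ1027))))) (BT.node 1040 (BT.node 1034 (BT.node 1031 (BT.node 1029 (BT.node 1028 (BT.leaf cJ1028) (BT.leaf cJ1029)) (BT.node 1030 (BT.leaf cJ1030) (BT.leaf cJ1031))) (BT.node 1033 (BT.node 1032 (BT.leaf cJ1032) (BT.leaf cJ1033)) (BT.leaf cJ1034))) (BT.node 1037 (BT.node 1036 (BT.node 1035 (BT.leaf cJ1035) (BT.leaf cJ1036)) (BT.leaf cJ1037)) (BT.node 1039 (BT.node 1038 (BT.leaf cJ1038) (BT.leaf cJ1039)) (BT.leaf cJ1040)))) (BT.node 1047 (BT.node 1044 (BT.node 1042 (BT.node 1041 (BT.leaf cJ1041) (BT.leaf cJ1042)) (BT.node 1043 (BT.leaf cJ1043) (BT.leaf cJ1044))) (BT.node 1046 (BT.node 1045 (BT.leaf cJ1045) (BT.leaf cJ1046)) (BT.leaf cJ1047))) (BT.node 1050 (BT.node 1049 (BT.node 1048 (BT.leaf cJ1048) (BT.leaf cJ1049)) (BT.leaf cJ1050)) (BT.node 1052 (BT.node 1051 (BT.leaf cJ1051) (BT.leaf cJ1052)) (BT.leaf cJ1053)))))))) (BT.node 1159 (BT.node 1106 (BT.node 1080 (BT.node 1067 (BT.node 1060 (BT.node 1057 (BT.node 1055 (BT.node 1054 (BT.leaf cJ1054) (BT.leaf cJ1055)) (BT.node 1056 (BT.leaf cJ1056) (BT.leaf cJ1057))) (BT.node 1059 (BT.node 1058 (BT.leaf cJ1058) (BT.leaf cJ1059)) (BT.leaf cJ1060))) (BT.node 1064 (BT.node 1062 (BT.node 1061 (BT.leaf cJ1061) (BT.leaf cJ1062)) (BT.node 1063 (BT.leaf cJ1063) (BT.leaf cJ1064))) (BT.node 1066 (BT.node 1065 (BT.leaf cJ1065) (BT.leaf cJ1066)) (BT.leaf cJ1067)))) (BT.node 1074 (BT.node 1071 (BT.node 1069 (BT.node 1068 (BT.leaf cJ1068) (BT.leaf cJ1069)) (BT.node 1070 (BT.leaf cJ1070) (BT.leaf cJ1071))) (BT.node 1073 (BT.node 1072 (BT.leaf cJ1072) (BT.leaf cJ1073)) (BT.leaf cJ1074))) (BT.node 1077 (BT.node 1076 (BT.node 1075 (BT.leaf cJ1075) (BT.leaf cJ1076)) (BT.leaf cJ1077)) (BT.node 1079 (BT.node 1078 (BT.leaf cJ1078) (BT.leaf cJ1079)) (BT.leaf cJ1080))))) (BT.node 1093 (BT.node 1087 (BT.node 1084 (BT.node 1082 (BT.node 1081 (BT.leaf cJ1081) (BT.leaf cJ1082)) (BT.node 1083 (BT.leaf cJ1083) (BT.leaf cJ1084))) (BT.node 1086 (BT.node 1085 (BT.leaf cJ1085) (BT.leaf cJ1086)) (BT.leaf cJ1087))) (BT.node 1090 (BT.node 1089 (BT.node 1088 (BT.leaf cJ1088) (BT.leaf cJ1089)) (BT.leaf cJ1090)) (BT.node 1092 (BT.node 1091 (BT.leaf cJ1091) (BT.leaf cJ1092)) (BT.leaf cJ1093)))) (BT.node 1100 (BT.node 1097 (BT.node 1095 (BT.node 1094 (BT.leaf cJ1094) (BT.leaf cJ1095)) (BT.node 1096 (BT.leaf cJ1096) (BT.leaf cJ1097))) (BT.node 1099 (BT.node 1098 (BT.leaf cJ1098) (BT.leaf cJ1099)) (BT.leaf cJ1100))) (BT.node 1103 (BT.node 1102 (BT.node 1101 (BT.leaf cJ1101) (BT.leaf cJ1102)) (BT.leaf cJ1103)) (BT.node 1105 (BT.node 1104 (BT.leaf cJ1104) (BT.leaf cJ1105)) (BT.leaf cJ1106)))))) (BT.node 1133 (BT.node 1120 (BT.node 1113 (BT.node 1110 (BT.node 1108 (BT.node 1107 (BT.leaf cJ1107) (BT.leaf cJ1108)) (BT.node 1109 (BT.leaf cJ1109) (BT.leaf cJ1110))) (BT.node 1112 (BT.node 1111 (BT.leaf cJ1111) (BT.leaf cJ1112)) (BT.leaf cJ1113))) (BT.node 1117 (BT.node 1115 (BT.node 1114 (BT.leaf cJ1114) (BT.leaf cJ1115)) (BT.node 1116 (BT.leaf cJ1116) (BT.leaf cJ1117))) (BT.node 1119 (BT.node 1118 (BT.leaf cJ1118) (BT.leaf cJ1119)) (BT.leaf cJ1120)))) (BT.node 1127 (BT.node 1124 (BT.node 1122 (BT.node 1121 (BT.leaf cJ1121) (BT.leaf cJ1122)) (BT.node 1123 (BT.leaf cJ1123) (BT.leaf cJ1124))) (BT.node 1126 (BT.node 1125 (BT.leaf cJ1125) (BT.leaf cJ1126)) (BT.leaf cJ1127))) (BT.node 1130 (BT.node 1129 (BT.node 1128 (BT.leaf cJ1128) (BT.leaf cJ1129)) (BT.leaf cJ1130)) (BT.node 1132 (BT.node 1131 (BT.leaf cJ1131) (BT.leaf cJ1132)) (BT.leaf cJ1133))))) (BT.node 1146 (BT.node 1140 (BT.node 1137 (BT.node 1135 (BT.node 1134 (BT.leaf cJ1134) (BT.leaf cJ1135)) (BT.node 1136 (BT.leaf cJ1136) (BT.leaf cJ1137))) (BT.node 1139 (BT.node 1138 (BT.leaf cJ1138) (BT.leaf cJ1139)) (BT.leaf cJ1140))) (BT.node 1143 (BT.node 1142 (BT.node 1141 (BT.leaf cJ1141) (BT.leaf cJ1142)) (BT.leaf cJ1143)) (BT.node 1145 (BT.node 1144 (BT.leaf cJ1144) (BT.leaf cJ1145)) (BT.leaf cJ1146)))) (BT.node 1153 (BT.node 1150 (BT.node 1148 (BT.node 1147 (BT.leaf cJ1147) (BT.leaf cJ1148)) (BT.node 1149 (BT.leaf cJ1149) (BT.leaf cJ1150))) (BT.node 1152 (BT.node 1151 (BT.leaf cJ1151) (BT.leaf cJ1152)) (BT.leaf cJ1153))) (BT.node 1156 (BT.node 1155 (BT.node 1154 (BT.leaf cJ1154) (BT.leaf cJ1155)) (BT.leaf cJ1156)) (BT.node 1158 (BT.node 1157 (BT.leaf cJ1157) (BT.leaf cJ1158)) (BT.leaf cJ1159))))))) (BT.node 1212 (BT.node 1186 (BT.node 1173 (BT.node 1166 (BT.node 1163 (BT.node 1161 (BT.node 1160 (BT.leaf cJ1160) (BT.leaf cJ1161)) (BT.node 1162 (BT.leaf cJ1162) (BT.leaf cJ1163))) (BT.node 1165 (BT.node 1164 (BT.leaf cJ1164) (BT.leaf cJ1165)) (BT.leaf cJ1166))) (BT.node 1170 (BT.node 1168 (BT.node 1167 (BT.leaf cJ1167) (BT.leaf cJ1168)) (BT.node 1169 (BT.leaf cJ1169) (BT.leaf cJ1170))) (BT.node 1172 (BT.node 1171 (BT.leaf cJ1171) (BT.leaf cJ1172)) (BT.leaf cJ1173)))) (BT.node 1180 (BT.node 1177 (BT.node 1175 (BT.node 1174 (BT.leaf cJ1174) (BT.leaf cJ1175)) (BT.node 1176 (BT.leaf cJ1176) (BT.leaf cJ1177))) (BT.node 1179 (BT.node 1178 (BT.leaf cJ1178) (BT.leaf cJ1179)) (BT.leaf cJ1180))) (BT.node 1183 (BT.node 1182 (BT.node 1181 (BT.leaf cJ1181) (BT.leaf cJ1182)) (BT.leaf cJ1183)) (BT.node 1185 (BT.node 1184 (BT.leaf cJ1184) (BT.leaf cJ1185)) (BT.leaf cJ1186))))) (BT.node 1199 (BT.node 1193 (BT.node 1190 (BT.node 1188 (BT.node 1187 (BT.leaf cJ1187) (BT.leaf cJ1188)) (BT.node 1189 (BT.leaf cJ1189) (BT.leaf cJ1190))) (BT.node 1192 (BT.node 1191 (BT.leaf cJ1191) (BT.leaf cJ1192)) (BT.leaf cJ1193))) (BT.node 1196 (BT.node 1195 (BT.node 1194 (BT.leaf cJ1194) (BT.leaf cJ1195)) (BT.leaf cJ1196)) (BT.node 1198 (BT.node 1197 (BT.leaf cJ1197) (BT.leaf cJ1198)) (BT.leaf cJ1199)))) (BT.node 1206 (BT.node 1203 (BT.node 1201 (BT.node 1200 (BT.leaf cJ1200) (BT.leaf cJ1201)) (BT.node 1202 (BT.leaf cJ1202) (BT.leaf cJ1203))) (BT.node 1205 (BT.node 1204 (BT.leaf cJ1204) (BT.leaf cJ1205)) (BT.leaf cJ1206))) (BT.node 1209 (BT.node 1208 (BT.node 1207 (BT.leaf cJ1207) (BT.leaf cJ1208)) (BT.leaf cJ1209)) (BT.node 1211 (BT.node 1210 (BT.leaf cJ1210) (BT.leaf cJ1211)) (BT.leaf cJ1212)))))) (BT.node 1238 (BT.node 1225 (BT.node 1219 (BT.node 1216 (BT.node 1214 (BT.node 1213 (BT.leaf cJ1213) (BT.leaf cJ1214)) (BT.node 1215 (BT.leaf cJ1215) (BT.leaf cJ1216))) (BT.node 1218 (BT.node 1217 (BT.leaf cJ1217) (BT.leaf cJ1218)) (BT.leaf cJ1219))) (BT.node 1222 (BT.node 1221 (BT.node 1220 (BT.leaf cJ1220) (BT.leaf cJ1221)) (BT.leaf cJ1222)) (BT.node 1224 (BT.node 1223 (BT.leaf cJ1223) (BT.leaf cJ1224)) (BT.leaf cJ1225)))) (BT.node 1232 (BT.node 1229 (BT.node 1227 (BT.node 1226 (BT.leaf cJ1226) (BT.leaf cJ1227)) (BT.node 1228 (BT.leaf cJ1228) (BT.leaf cJ1229))) (BT.node 1231 (BT.node 1230 (BT.leaf cJ1230) (BT.leaf cJ1231)) (BT.leaf cJ1232))) (BT.node 1235 (BT.node 1234 (BT.node 1233 (BT.leaf cJ1233) (BT.leaf cJ1234)) (BT.leaf cJ1235)) (BT.node 1237 (BT.node 1236 (BT.leaf cJ1236) (BT.leaf cJ1237)) (BT.leaf cJ1238))))) (BT.node 1251 (BT.node 1245 (BT.node 1242 (BT.node 1240 (BT.node 1239 (BT.leaf cJ1239) (BT.leaf cJ1240)) (BT.node 1241 (BT.leaf cJ1241) (BT.leaf cJ1242))) (BT.node 1244 (BT.node 1243 (BT.leaf cJ1243) (BT.leaf cJ1244)) (BT.leaf cJ1245))) (BT.node 1248 (BT.node 1247 (BT.node 1246 (BT.leaf cJ1246) (BT.leaf cJ1247)) (BT.leaf cJ1248)) (BT.node 1250 (BT.node 1249 (BT.leaf cJ1249) (BT.leaf cJ1250)) (BT.leaf cJ1251)))) (BT.node 1258 (BT.node 1255 (BT.node 1253 (BT.node 1252 (BT.leaf cJ1252) (BT.leaf cJ1253)) (BT.node 1254 (BT.leaf cJ1254) (BT.leaf cJ1255))) (BT.node 1257 (BT.node 1256 (BT.leaf cJ1256) (BT.leaf cJ1257)) (BT.leaf cJ1258))) (BT.node 1261 (BT.node 1260 (BT.node 1259 (BT.leaf cJ1259) (BT.leaf cJ1260)) (BT.leaf cJ1261)) (BT.node 1263 (BT.node 1262 (BT.leaf cJ1262) (BT.leaf cJ1263)) (BT.leaf cJ1264))))))))) (BT.node 1475 (BT.node 1370 (BT.node 1317 (BT.node 1291 (BT.node 1278 (BT.node 1271 (BT.node 1268 (BT.node 1266 (BT.node 1265 (BT.leaf cJ1265) (BT.leaf cJ1266)) (BT.node 1267 (BT.leaf cJ1267) (BT.leaf cJ1268))) (BT.node 1270 (BT.node 1269 (BT.leaf cJ1269) (BT.leaf cJ1270)) (BT.leaf cJ1271))) (BT.node 1275 (BT.node 1273 (BT.node 1272 (BT.leaf cJ1272) (BT.leaf cJ1273)) (BT.node 1274 (BT.leaf cJ1274) (BT.leaf cJ1275))) (BT.node 1277 (BT.node 1276 (BT.leaf cJ1276) (BT.leaf cJ1277)) (BT.leaf cJ1278)))) (BT.node 1285 (BT.node 1282 (BT.node 1280 (BT.node 1279 (BT.leaf cJ1279) (BT.leaf cJ1280)) (BT.node 1281 (BT.leaf cJ1281) (BT.leaf cJ1282))) (BT.node 1284 (BT.node 1283 (BT.leaf cJ1283) (BT.leaf cJ1284)) (BT.leaf cJ1285))) (BT.node 1288 (BT.node 1287 (BT.node 1286 (BT.leaf cJ1286) (BT.leaf cJ1287)) (BT.leaf cJ1288)) (BT.node 1290 (BT.node 1289 (BT.leaf cJ1289) (BT.leaf cJ1290)) (BT.leaf cJ1291))))) (BT.node 1304 (BT.node 1298 (BT.node 1295 (BT.node 1293 (BT.node 1292 (BT.leaf cJ1292) (BT.leaf cJ1293)) (BT.node 1294 (BT.leaf cJ1294) (BT.leaf cJ1295))) (BT.node 1297 (BT.node 1296 (BT.leaf cJ1296) (BT.leaf cJ1297)) (BT.leaf cJ1298))) (BT.node 1301 (BT.node 1300 (BT.node 1299 (BT.leaf cJ1299) (BT.leaf cJ1300)) (BT.leaf cJ1301)) (BT.node 1303 (BT.node 1302 (BT.leaf cJ1302) (BT.leaf cJ1303)) (BT.leaf cJ1304)))) (BT.node 1311 (BT.node 1308 (BT.node 1306 (BT.node 1305 (BT.leaf cJ1305) (BT.leaf cJ1306)) (BT.node 1307 (BT.leaf cJ1307) (BT.leaf cJ1308))) (BT.node 1310 (BT.node 1309 (BT.leaf cJ1309) (BT.leaf cJ1310)) (BT.leaf cJ1311))) (BT.node 1314 (BT.node 1313 (BT.node 1312 (BT.leaf cJ1312) (BT.leaf cJ1313)) (BT.leaf cJ1314)) (BT.node 1316 (BT.node 1315 (BT.leaf cJ1315) (BT.leaf cJ1316)) (BT.leaf cJ1317)))))) (BT.node 1344 (BT.node 1331 (BT.node 1324 (BT.node 1321 (BT.node 1319 (BT.node 1318 (BT.leaf cJ1318) (BT.leaf cJ1319)) (BT.node 1320 (BT.leaf cJ1320) (BT.leaf cJ1321))) (BT.node 1323 (BT.node 1322 (BT.leaf cJ1322) (BT.leaf cJ1323)) (BT.leaf cJ1324))) (BT.node 1328 (BT.node 1326 (BT.node 1325 (BT.leaf cJ1325) (BT.leaf cJ1326)) (BT.node 1327 (BT.leaf cJ1327) (BT.leaf cJ1328))) (BT.node 1330 (BT.node 1329 (BT.leaf cJ1329) (BT.leaf cJ1330)) (BT.leaf cJ1331)))) (BT.node 1338 (BT.node 1335 (BT.node 1333 (BT.node 1332 (BT.leaf cJ1332) (BT.leaf cJ1333)) (BT.node 1334 (BT.leaf cJ1334) (BT.leaf cJ1335))) (BT.node 1337 (BT.node 1336 (BT.leaf cJ1336) (BT.leaf cJ1337)) (BT.leaf cJ1338))) (BT.node 1341 (BT.node 1340 (BT.node 1339 (BT.leaf cJ1339) (BT.leaf cJ1340)) (BT.leaf cJ1341)) (BT.node 1343 (BT.node 1342 (BT.leaf cJ1342) (BT.leaf cJ1343)) (BT.leaf cJ1344))))) (BT.node 1357 (BT.node 1351 (BT.node 1348 (BT.node 1346 (BT.node 1345 (BT.leaf cJ1345) (BT.leaf cJ1346)) (BT.node 1347 (BT.leaf cJ1347) (BT.leaf cJ1348))) (BT.node 1350 (BT.node 1349 (BT.leaf cJ1349) (BT.leaf cJ1350)) (BT.leaf cJ1351))) (BT.node 1354 (BT.node 1353 (BT.node 1352 (BT.leaf cJ1352) (BT.leaf cJ1353)) (BT.leaf cJ1354)) (BT.node 1356 (BT.node 1355 (BT.leaf cJ1355) (BT.leaf cJ1356)) (BT.leaf cJ1357)))) (BT.node 1364 (BT.node 1361 (BT.node 1359 (BT.node 1358 (BT.leaf cJ1358) (BT.leaf cJ1359)) (BT.node 1360 (BT.leaf cJ1360) (BT.leaf cJ1361))) (BT.node 1363 (BT.node 1362 (BT.leaf cJ1362) (BT.leaf cJ1363)) (BT.leaf cJ1364))) (BT.node 1367 (BT.node 1366 (BT.node 1365 (BT.leaf cJ1365) (BT.leaf cJ1366)) (BT.leaf cJ1367)) (BT.node 1369 (BT.node 1368 (BT.leaf cJ1368) (BT.leaf cJ1369)) (BT.leaf cJ1370))))))) (BT.node 1423 (BT.node 1397 (BT.node 1384 (BT.node 1377 (BT.node 1374 (BT.node 1372 (BT.node 1371 (BT.leaf cJ1371) (BT.leaf cJ1372)) (BT.node 1373 (BT.leaf cJ1373) (BT.leaf cJ1374))) (BT.node 1376 (BT.node 1375 (BT.leaf cJ1375) (BT.leaf cJ1376)) (BT.leaf cJ1377))) (BT.node 1381 (BT.node 1379 (BT.node 1378 (BT.leaf cJ1378) (BT.leaf cJ1379)) (BT.node 1380 (BT.leaf cJ1380) (BT.leaf cJ1381))) (BT.node 1383 (BT.node 1382 (BT.leaf cJ1382) (BT.leaf cJ1383)) (BT.leaf cJ1384)))) (BT.node 1391 (BT.node 1388 (BT.node 1386 (BT.node 1385 (BT.leaf cJ1385) (BT.leaf cJ1386)) (BT.node 1387 (BT.leaf cJ1387) (BT.leaf cJ1388))) (BT.node 1390 (BT.node 1389 (BT.leaf cJ1389) (BT.leaf cJ1390)) (BT.leaf cJ1391))) (BT.node 1394 (BT.node 1393 (BT.node 1392 (BT.leaf cJ1392) (BT.leaf cJ1393)) (BT.leaf cJ1394)) (BT.node 1396 (BT.node 1395 (BT.leaf cJ1395) (BT.leaf cJ1396)) (BT.leaf cJ1397))))) (BT.node 1410 (BT.node 1404 (BT.node 1401 (BT.node 1399 (BT.node 1398 (BT.leaf cJ1398) (BT.leaf cJ1399)) (BT.node 1400 (BT.leaf cJ1400) (BT.leaf cJ1401))) (BT.node 1403 (BT.node 1402 (BT.leaf cJ1402) (BT.leaf cJ1403)) (BT.leaf cJ1404))) (BT.node 1407 (BT.node 1406 (BT.node 1405 (BT.leaf cJ1405) (BT.leaf cJ1406)) (BT.leaf cJ1407)) (BT.node 1409 (BT.node 1408 (BT.leaf cJ1408) (BT.leaf cJ1409)) (BT.leaf cJ1410)))) (BT.node 1417 (BT.node 1414 (BT.node 1412 (BT.node 1411 (BT.leaf cJ1411) (BT.leaf cJ1412)) (BT.node 1413 (BT.leaf cJ1413) (BT.leaf cJ1414))) (BT.node 1416 (BT.node 1415 (BT.leaf cJ1415) (BT.leaf cJ1416)) (BT.leaf cJ1417))) (BT.node 1420 (BT.node 1419 (BT.node 1418 (BT.leaf cJ1418) (BT.leaf cJ1419)) (BT.leaf cJ1420)) (BT.node 1422 (BT.node 1421 (BT.leaf cJ1421) (BT.leaf cJ1422)) (BT.leaf cJ1423)))))) (BT.node 1449 (BT.node 1436 (BT.node 1430 (BT.node 1427 (BT.node 1425 (BT.node 1424 (BT.leaf cJ1424) (BT.leaf cJ1425)) (BT.node 1426 (BT.leaf cJ1426) (BT.leaf cJ1427))) (BT.node 1429 (BT.node 1428 (BT.leaf cJ1428) (BT.leaf cJ1429)) (BT.leaf cJ1430))) (BT.node 1433 (BT.node 1432 (BT.node 1431 (BT.leaf cJ1431) (BT.leaf cJ1432)) (BT.leaf cJ1433)) (BT.node 1435 (BT.node 1434 (BT.leaf cJ1434) (BT.leaf cJ1435)) (BT.leaf cJ1436)))) (BT.node 1443 (BT.node 1440 (BT.node 1438 (BT.node 1437 (BT.leaf cJ1437) (BT.leaf cJ1438)) (BT.node 1439 (BT.leaf cJ1439) (BT.leaf cJ1440))) (BT.node 1442 (BT.node 1441 (BT.leaf cJ1441) (BT.leaf cJ1442)) (BT.leaf cJ1443))) (BT.node 1446 (BT.node 1445 (BT.node 1444 (BT.leaf cJ1444) (BT.leaf cJ1445)) (BT.leaf cJ1446)) (BT.node 1448 (BT.node 1447 (BT.leaf cJ1447) (BT.leaf cJ1448)) (BT.leaf cJ1449))))) (BT.node 1462 (BT.node 1456 (BT.node 1453 (BT.node 1451 (BT.node 1450 (BT.leaf cJ1450) (BT.leaf cJ1451)) (BT.node 1452 (BT.leaf cJ1452) (BT.leaf cJ1453))) (BT.node 1455 (BT.node 1454 (BT.leaf cJ1454) (BT.leaf cJ1455)) (BT.leaf cJ1456))) (BT.node 1459 (BT.node 1458 (BT.node 1457 (BT.leaf cJ1457) (BT.leaf cJ1458)) (BT.leaf cJ1459)) (BT.node 1461 (BT.node 1460 (BT.leaf cJ1460) (BT.leaf cJ1461)) (BT.leaf cJ1462)))) (BT.node 1469 (BT.node 1466 (BT.node 1464 (BT.node 1463 (BT.leaf cJ1463) (BT.leaf cJ1464)) (BT.node 1465 (BT.leaf cJ1465) (BT.leaf cJ1466))) (BT.node 1468 (BT.node 1467 (BT.leaf cJ1467) (BT.leaf cJ1468)) (BT.leaf cJ1469))) (BT.node 1472 (BT.node 1471 (BT.node 1470 (BT.leaf cJ1470) (BT.leaf cJ1471)) (BT.leaf cJ1472)) (BT.node 1474 (BT.node 1473 (BT.leaf cJ1473) (BT.leaf cJ1474)) (BT.leaf cJ1475)))))))) (BT.node 1580 (BT.node 1528 (BT.node 1502 (BT.node 1489 (BT.node 1482 (BT.node 1479 (BT.node 1477 (BT.node 1476 (BT.leaf cJ1476) (BT.leaf cJ1477)) (BT.node 1478 (BT.leaf cJ1478) (BT.leaf cJ1479))) (BT.node 1481 (BT.node 1480 (BT.leaf cJ1480) (BT.leaf cJ1481)) (BT.leaf cJ1482))) (BT.node 1486 (BT.node 1484 (BT.node 1483 (BT.leaf cJ1483) (BT.leaf cJ1484)) (BT.node 1485 (BT.leaf cJ1485) (BT.leaf cJ1486))) (BT.node 1488 (BT.node 1487 (BT.leaf cJ1487) (BT.leaf cJ1488)) (BT.leaf cJ1489)))) (BT.node 1496 (BT.node 1493 (BT.node 1491 (BT.node 1490 (BT.leaf cJ1490) (BT.leaf cJ1491)) (BT.node 1492 (BT.leaf cJ1492) (BT.leaf cJ1493))) (BT.node 1495 (BT.node 1494 (BT.leaf cJ1494) (BT.leaf cJ1495)) (BT.leaf cJ1496))) (BT.node 1499 (BT.node 1498 (BT.node 1497 (BT.leaf cJ1497) (BT.leaf cJ1498)) (BT.leaf cJ1499)) (BT.node 1501 (BT.node 1500 (BT.leaf cJ1500) (BT.leaf cJ1501)) (BT.leaf cJ1502))))) (BT.node 1515 (BT.node 1509 (BT.node 1506 (BT.node 1504 (BT.node 1503 (BT.leaf cJ1503) (BT.leaf cJ1504)) (BT.node 1505 (BT.leaf cJ1505) (BT.leaf cJ1506))) (BT.node 1508 (BT.node 1507 (BT.leaf cJ1507) (BT.leaf cJ1508)) (BT.leaf cJ1509))) (BT.node 1512 (BT.node 1511 (BT.node 1510 (BT.leaf cJ1510) (BT.leaf cJ1511)) (BT.leaf cJ1512)) (BT.node 1514 (BT.node 1513 (BT.leaf cJ1513) (BT.leaf cJ1514)) (BT.leaf cJ1515)))) (BT.node 1522 (BT.node 1519 (BT.node 1517 (BT.node 1516 (BT.leaf cJ1516) (BT.leaf cJ1517)) (BT.node 1518 (BT.leaf cJ1518) (BT.leaf cJ1519))) (BT.node 1521 (BT.node 1520 (BT.leaf cJ1520) (BT.leaf cJ1521)) (BT.leaf cJ1522))) (BT.node 1525 (BT.node 1524 (BT.node 1523 (BT.leaf cJ1523) (BT.leaf cJ1524)) (BT.leaf cJ1525)) (BT.node 1527 (BT.node 1526 (BT.leaf cJ1526) (BT.leaf cJ1527)) (BT.leaf cJ1528)))))) (BT.node 1554 (BT.node 1541 (BT.node 1535 (BT.node 1532 (BT.node 1530 (BT.node 1529 (BT.leaf cJ1529) (BT.leaf cJ1530)) (BT.node 1531 (BT.leaf cJ1531) (BT.leaf cJ1532))) (BT.node 1534 (BT.node 1533 (BT.leaf cJ1533) (BT.leaf cJ1534)) (BT.leaf cJ1535))) (BT.node 1538 (BT.node 1537 (BT.node 1536 (BT.leaf cJ1536) (BT.leaf cJ1537)) (BT.leaf cJ1538)) (BT.node 1540 (BT.node 1539 (BT.leaf cJ1539) (BT.leaf cJ1540)) (BT.leaf cJ1541)))) (BT.node 1548 (BT.node 1545 (BT.node 1543 (BT.node 1542 (BT.leaf cJ1542) (BT.leaf cJ1543)) (BT.node 1544 (BT.leaf cJ1544) (BT.leaf cJ1545))) (BT.node 1547 (BT.node 1546 (BT.leaf cJ1546) (BT.leaf cJ1547)) (BT.leaf cJ1548))) (BT.node 1551 (BT.node 1550 (BT.node 1549 (BT.leaf cJ1549) (BT.leaf cJ1550)) (BT.leaf cJ1551)) (BT.node 1553 (BT.node 1552 (BT.leaf cJ1552) (BT.leaf cJ1553)) (BT.leaf cJ1554))))) (BT.node 1567 (BT.node 1561 (BT.node 1558 (BT.node 1556 (BT.node 1555 (BT.leaf cJ1555) (BT.leaf cJ1556)) (BT.node 1557 (BT.leaf cJ1557) (BT.leaf cJ1558))) (BT.node 1560 (BT.node 1559 (BT.leaf cJ1559) (BT.leaf cJ1560)) (BT.leaf cJ1561))) (BT.node 1564 (BT.node 1563 (BT.node 1562 (BT.leaf cJ1562) (BT.leaf cJ1563)) (BT.leaf cJ1564)) (BT.node 1566 (BT.node 1565 (BT.leaf cJ1565) (BT.leaf cJ1566)) (BT.leaf cJ1567)))) (BT.node 1574 (BT.node 1571 (BT.node 1569 (BT.node 1568 (BT.leaf cJ1568) (BT.leaf cJ1569)) (BT.node 1570 (BT.leaf cJ1570) (BT.leaf cJ1571))) (BT.node 1573 (BT.node 1572 (BT.leaf cJ1572) (BT.leaf cJ1573)) (BT.leaf cJ1574))) (BT.node 1577 (BT.node 1576 (BT.node 1575 (BT.leaf cJ1575) (BT.leaf cJ1576)) (BT.leaf cJ1577)) (BT.node 1579 (BT.node 1578 (BT.leaf cJ1578) (BT.leaf cJ1579)) (BT.leaf cJ1580))))))) (BT.node 1633 (BT.node 1607 (BT.node 1594 (BT.node 1587 (BT.node 1584 (BT.node 1582 (BT.node 1581 (BT.leaf cJ1581) (BT.leaf cJ1582)) (BT.node 1583 (BT.leaf cJ1583) (BT.leaf cJ1584))) (BT.node 1586 (BT.node 1585 (BT.leaf cJ1585) (BT.leaf cJ1586)) (BT.leaf cJ1587))) (BT.node 1591 (BT.node 1589 (BT.node 1588 (BT.leaf cJ1588) (BT.leaf cJ1589)) (BT.node 1590 (BT.leaf cJ1590) (BT.leaf cJ1591))) (BT.node 1593 (BT.node 1592 (BT.leaf cJ1592) (BT.leaf cJ1593)) (BT.leaf cJ1594)))) (BT.node 1601 (BT.node 1598 (BT.node 1596 (BT.node 1595 (BT.leaf cJ1595) (BT.leaf cJ1596)) (BT.node 1597 (BT.leaf cJ1597) (BT.leaf cJ1598))) (BT.node 1600 (BT.node 1599 (BT.leaf cJ1599) (BT.leaf cJ1600)) (BT.leaf cJ1601))) (BT.node 1604 (BT.node 1603 (BT.node 1602 (BT.leaf cJ1602) (BT.leaf cJ1603)) (BT.leaf cJ1604)) (BT.node 1606 (BT.node 1605 (BT.leaf cJ1605) (BT.leaf cJ1606)) (BT.leaf cJ1607))))) (BT.node 1620 (BT.node 1614 (BT.node 1611 (BT.node 1609 (BT.node 1608 (BT.leaf cJ1608) (BT.leaf cJ1609)) (BT.node 1610 (BT.leaf cJ1610) (BT.leaf cJ1611))) (BT.node 1613 (BT.node 1612 (BT.leaf cJ1612) (BT.leaf cJ1613)) (BT.leaf cJ1614))) (BT.node 1617 (BT.node 1616 (BT.node 1615 (BT.leaf cJ1615) (BT.leaf cJ1616)) (BT.leaf cJ1617)) (BT.node 1619 (BT.node 1618 (BT.leaf cJ1618) (BT.leaf cJ1619)) (BT.leaf cJ1620)))) (BT.node 1627 (BT.node 1624 (BT.node 1622 (BT.node 1621 (BT.leaf cJ1621) (BT.leaf cJ1622)) (BT.node 1623 (BT.leaf cJ1623) (BT.leaf cJ1624))) (BT.node 1626 (BT.node 1625 (BT.leaf cJ1625) (BT.leaf cJ1626)) (BT.leaf cJ1627))) (BT.node 1630 (BT.node 1629 (BT.node 1628 (BT.leaf cJ1628) (BT.leaf cJ1629)) (BT.leaf cJ1630)) (BT.node 1632 (BT.node 1631 (BT.leaf cJ1631) (BT.leaf cJ1632)) (BT.leaf cJ1633)))))) (BT.node 1659 (BT.node 1646 (BT.node 1640 (BT.node 1637 (BT.node 1635 (BT.node 1634 (BT.leaf cJ1634) (BT.leaf cJ1635)) (BT.node 1636 (BT.leaf cJ1636) (BT.leaf cJ1637))) (BT.node 1639 (BT.node 1638 (BT.leaf cJ1638) (BT.leaf cJ1639)) (BT.leaf cJ1640))) (BT.node 1643 (BT.node 1642 (BT.node 1641 (BT.leaf cJ1641) (BT.leaf cJ1642)) (BT.leaf cJ1643)) (BT.node 1645 (BT.node 1644 (BT.leaf cJ1644) (BT.leaf cJ1645)) (BT.leaf cJ1646)))) (BT.node 1653 (BT.node 1650 (BT.node 1648 (BT.node 1647 (BT.leaf cJ1647) (BT.leaf cJ1648)) (BT.node 1649 (BT.leaf cJ1649) (BT.leaf cJ1650))) (BT.node 1652 (BT.node 1651 (BT.leaf cJ1651) (BT.leaf cJ1652)) (BT.leaf cJ1653))) (BT.node 1656 (BT.node 1655 (BT.node 1654 (BT.leaf cJ1654) (BT.leaf cJ1655)) (BT.leaf cJ1656)) (BT.node 1658 (BT.node 1657 (BT.leaf cJ1657) (BT.leaf cJ1658)) (BT.leaf cJ1659))))) (BT.node 1672 (BT.node 1666 (BT.node 1663 (BT.node 1661 (BT.node 1660 (BT.leaf cJ1660) (BT.leaf cJ1661)) (BT.node 1662 (BT.leaf cJ1662) (BT.leaf cJ1663))) (BT.node 1665 (BT.node 1664 (BT.leaf cJ1664) (BT.leaf cJ1665)) (BT.leaf cJ1666))) (BT.node 1669 (BT.node 1668 (BT.node 1667 (BT.leaf cJ1667) (BT.leaf cJ1668)) (BT.leaf cJ1669)) (BT.node 1671 (BT.node 1670 (BT.leaf cJ1670) (BT.leaf cJ1671)) (BT.leaf cJ1672)))) (BT.node 1679 (BT.node 1676 (BT.node 1674 (BT.node 1673 (BT.leaf cJ1673) (BT.leaf cJ1674)) (BT.node 1675 (BT.leaf cJ1675) (BT.leaf cJ1676))) (BT.node 1678 (BT.node 1677 (BT.leaf cJ1677) (BT.leaf cJ1678)) (BT.leaf cJ1679))) (BT.node 1682 (BT.node 1681 (BT.node 1680 (BT.leaf cJ1680) (BT.leaf cJ1681)) (BT.leaf cJ1682)) (BT.node 1684 (BT.node 1683 (BT.leaf cJ1683) (BT.leaf cJ1684)) (BT.leaf cJ1685))))))))))) (BT.node 2528 (BT.node 2107 (BT.node 1896 (BT.node 1791 (BT.node 1738 (BT.node 1712 (BT.node 1699 (BT.node 1692 (BT.node 1689 (BT.node 1687 (BT.node 1686 (BT.leaf cJ1686) (BT.leaf cJ1687)) (BT.node 1688 (BT.leaf cJ1688) (BT.leaf cJ1689))) (BT.node 1691 (BT.node 1690 (BT.leaf cJ1690) (BT.leaf cJ1691)) (BT.leaf cJ1692))) (BT.node 1696 (BT.node 1694 (BT.node 1693 (BT.leaf cJ1693) (BT.leaf cJ1694)) (BT.node 1695 (BT.leaf cJ1695) (BT.leaf cJ1696))) (BT.node 1698 (BT.node 1697 (BT.leaf cJ1697) (BT.leaf cJ1698)) (BT.leaf cJ1699)))) (BT.node 1706 (BT.node 1703 (BT.node 1701 (BT.node 1700 (BT.leaf cJ1700) (BT.leaf cJ1701)) (BT.node 1702 (BT.leaf cJ1702) (BT.leaf cJ1703))) (BT.node 1705 (BT.node 1704 (BT.leaf cJ1704) (BT.leaf cJ1705)) (BT.leaf cJ1706))) (BT.node 1709 (BT.node 1708 (BT.node 1707 (BT.leaf cJ1707) (BT.leaf cJ1708)) (BT.leaf cJ1709)) (BT.node 1711 (BT.node 1710 (BT.leaf cJ1710) (BT.leaf cJ1711)) (BT.leaf cJ1712))))) (BT.node 1725 (BT.node 1719 (BT.node 1716 (BT.node 1714 (BT.node 1713 (BT.leaf cJ1713) (BT.leaf cJ1714)) (BT.node 1715 (BT.leaf cJ1715) (BT.leaf cJ1716))) (BT.node 1718 (BT.node 1717 (BT.leaf cJ1717) (BT.leaf cJ1718)) (BT.leaf cJ1719))) (BT.node 1722 (BT.node 1721 (BT.node 1720 (BT.leaf cJ1720) (BT.leaf cJ1721)) (BT.leaf cJ1722)) (BT.node 1724 (BT.node 1723 (BT.leaf cJ1723) (BT.leaf cJ1724)) (BT.leaf cJ1725)))) (BT.node 1732 (BT.node 1729 (BT.node 1727 (BT.node 1726 (BT.leaf cJ1726) (BT.leaf cJ1727)) (BT.node 1728 (BT.leaf cJ1728) (BT.leaf cJ1729))) (BT.node 1731 (BT.node 1730 (BT.leaf cJ1730) (BT.leaf cJ1731)) (BT.leaf cJ1732))) (BT.node 1735 (BT.node 1734 (BT.node 1733 (BT.leaf cJ1733) (BT.leaf cJ1734)) (BT.leaf cJ1735)) (BT.node 1737 (BT.node 1736 (BT.leaf cJ1736) (BT.leaf cJ1737)) (BT.leaf cJ1738)))))) (BT.node 1765 (BT.node 1752 (BT.node 1745 (BT.node 1742 (BT.node 1740 (BT.node 1739 (BT.leaf cJ1739) (BT.leaf cJ1740)) (BT.node 1741 (BT.leaf cJ1741) (BT.leaf cJ1742))) (BT.node 1744 (BT.node 1743 (BT.leaf cJ1743) (BT.leaf cJ1744)) (BT.leaf cJ1745))) (BT.node 1749 (BT.node 1747 (BT.node 1746 (BT.leaf cJ1746) (BT.leaf cJ1747)) (BT.node 1748 (BT.leaf cJ1748) (BT.leaf cJ1749))) (BT.node 1751 (BT.node 1750 (BT.leaf cJ1750) (BT.leaf cJ1751)) (BT.leaf cJ1752)))) (BT.node 1759 (BT.node 1756 (BT.node 1754 (BT.node 1753 (BT.leaf cJ1753) (BT.leaf cJ1754)) (BT.node 1755 (BT.leaf cJ1755) (BT.leaf cJ1756))) (BT.node 1758 (BT.node 1757 (BT.leaf cJ1757) (BT.leaf cJ1758)) (BT.leaf cJ1759))) (BT.node 1762 (BT.node 1761 (BT.node 1760 (BT.leaf cJ1760) (BT.leaf cJ1761)) (BT.leaf cJ1762)) (BT.node 1764 (BT.node 1763 (BT.leaf cJ1763) (BT.leaf cJ1764)) (BT.leaf cJ1765))))) (BT.node 1778 (BT.node 1772 (BT.node 1769 (BT.node 1767 (BT.node 1766 (BT.leaf cJ1766) (BT.leaf cJ1767)) (BT.node 1768 (BT.leaf cJ1768) (BT.leaf cJ1769))) (BT.node 1771 (BT.node 1770 (BT.leaf cJ1770) (BT.leaf cJ1771)) (BT.leaf cJ1772))) (BT.node 1775 (BT.node 1774 (BT.node 1773 (BT.leaf cJ1773) (BT.leaf cJ1774)) (BT.leaf cJ1775)) (BT.node 1777 (BT.node 1776 (BT.leaf cJ1776) (BT.leaf cJ1777)) (BT.leaf cJ1778)))) (BT.node 1785 (BT.node 1782 (BT.node 1780 (BT.node 1779 (BT.leaf cJ1779) (BT.leaf cJ1780)) (BT.node 1781 (BT.leaf cJ1781) (BT.leaf cJ1782))) (BT.node 1784 (BT.node 1783 (BT.leaf cJ1783) (BT.leaf cJ1784)) (BT.leaf cJ1785))) (BT.node 1788 (BT.node 1787 (BT.node 1786 (BT.leaf cJ1786) (BT.leaf cJ1787)) (BT.leaf cJ1788)) (BT.node 1790 (BT.node 1789 (BT.leaf cJ1789) (BT.leaf cJ1790)) (BT.leaf cJ1791))))))) (BT.node 1844 (BT.node 1818 (BT.node 1805 (BT.node 1798 (BT.node 1795 (BT.node 1793 (BT.node 1792 (BT.leaf cJ1792) (BT.leaf cJ1793)) (BT.node 1794 (BT.leaf cJ1794) (BT.leaf cJ1795))) (BT.node 1797 (BT.node 1796 (BT.leaf cJ1796) (BT.leaf cJ1797)) (BT.leaf cJ1798))) (BT.node 1802 (BT.node 1800 (BT.node 1799 (BT.leaf cJ1799) (BT.leaf cJ1800)) (BT.node 1801 (BT.leaf cJ1801) (BT.leaf cJ1802))) (BT.node 1804 (BT.node 1803 (BT.leaf cJ1803) (BT.leaf cJ1804)) (BT.leaf cJ1805)))) (BT.node 1812 (BT.node 1809 (BT.node 1807 (BT.node 1806 (BT.leaf cJ1806) (BT.leaf cJ1807)) (BT.node 1808 (BT.leaf cJ1808) (BT.leaf cJ1809))) (BT.node 1811 (BT.node 1810 (BT.leaf cJ1810) (BT.leaf cJ1811)) (BT.leaf cJ1812))) (BT.node 1815 (BT.node 1814 (BT.node 1813 (BT.leaf cJ1813) (BT.leaf cJ1814)) (BT.leaf cJ1815)) (BT.node 1817 (BT.node 1816 (BT.leaf cJ1816) (BT.leaf cJ1817)) (BT.leaf cJ1818))))) (BT.node 1831 (BT.node 1825 (BT.node 1822 (BT.node 1820 (BT.node 1819 (BT.leaf cJ1819) (BT.leaf cJ1820)) (BT.node 1821 (BT.leaf cJ1821) (BT.leaf cJ1822))) (BT.node 1824 (BT.node 1823 (BT.leaf cJ1823) (BT.leaf cJ1824)) (BT.leaf cJ1825))) (BT.node 1828 (BT.node 1827 (BT.node 1826 (BT.leaf cJ1826) (BT.leaf cJ1827)) (BT.leaf cJ1828)) (BT.node 1830 (BT.node 1829 (BT.leaf cJ1829) (BT.leaf cJ1830)) (BT.leaf cJ1831)))) (BT.node 1838 (BT.node 1835 (BT.node 1833 (BT.node 1832 (BT.leaf cJ1832) (BT.leaf cJ1833)) (BT.node 1834 (BT.leaf cJ1834) (BT.leaf cJ1835))) (BT.node 1837 (BT.node 1836 (BT.leaf cJ1836) (BT.leaf cJ1837)) (BT.leaf cJ1838))) (BT.node 1841 (BT.node 1840 (BT.node 1839 (BT.leaf cJ1839) (BT.leaf cJ1840)) (BT.leaf cJ1841)) (BT.node 1843 (BT.node 1842 (BT.leaf cJ1842) (BT.leaf cJ1843)) (BT.leaf cJ1844)))))) (BT.node 1870 (BT.node 1857 (BT.node 1851 (BT.node 1848 (BT.node 1846 (BT.node 1845 (BT.leaf cJ1845) (BT.leaf cJ1846)) (BT.node 1847 (BT.leaf cJ1847) (BT.leaf cJ1848))) (BT.node 1850 (BT.node 1849 (BT.leaf cJ1849) (BT.leaf cJ1850)) (BT.leaf cJ1851))) (BT.node 1854 (BT.node 1853 (BT.node 1852 (BT.leaf cJ1852) (BT.leaf cJ1853)) (BT.leaf cJ1854)) (BT.node 1856 (BT.node 1855 (BT.leaf cJ1855) (BT.leaf cJ1856)) (BT.leaf cJ1857)))) (BT.node 1864 (BT.node 1861 (BT.node 1859 (BT.node 1858 (BT.leaf cJ1858) (BT.leaf cJ1859)) (BT.node 1860 (BT.leaf cJ1860) (BT.leaf cJ1861))) (BT.node 1863 (BT.node 1862 (BT.leaf cJ1862) (BT.leaf cJ1863)) (BT.leaf cJ1864))) (BT.node 1867 (BT.node 1866 (BT.node 1865 (BT.leaf cJ1865) (BT.leaf cJ1866)) (BT.leaf cJ1867)) (BT.node 1869 (BT.node 1868 (BT.leaf cJ1868) (BT.leaf cJ1869)) (BT.leaf cJ1870))))) (BT.node 1883 (BT.node 1877 (BT.node 1874 (BT.node 1872 (BT.node 1871 (BT.leaf cJ1871) (BT.leaf cJ1872)) (BT.node 1873 (BT.leaf cJ1873) (BT.leaf cJ1874))) (BT.node 1876 (BT.node 1875 (BT.leaf cJ1875) (BT.leaf cJ1876)) (BT.leaf cJ1877))) (BT.node 1880 (BT.node 1879 (BT.node 1878 (BT.leaf cJ1878) (BT.leaf cJ1879)) (BT.leaf cJ1880)) (BT.node 1882 (BT.node 1881 (BT.leaf cJ1881) (BT.leaf cJ1882)) (BT.leaf cJ1883)))) (BT.node 1890 (BT.node 1887 (BT.node 1885 (BT.node 1884 (BT.leaf cJ1884) (BT.leaf cJ1885)) (BT.node 1886 (BT.leaf cJ1886) (BT.leaf cJ1887))) (BT.node 1889 (BT.node 1888 (BT.leaf cJ1888) (BT.leaf cJ1889)) (BT.leaf cJ1890))) (BT.node 1893 (BT.node 1892 (BT.node 1891 (BT.leaf cJ1891) (BT.leaf cJ1892)) (BT.leaf cJ1893)) (BT.node 1895 (BT.node 1894 (BT.leaf cJ1894) (BT.leaf cJ1895)) (BT.leaf cJ1896)))))))) (BT.node 2002 (BT.node 1949 (BT.node 1923 (BT.node 1910 (BT.node 1903 (BT.node 1900 (BT.node 1898 (BT.node 1897 (BT.leaf cJ1897) (BT.leaf cJ1898)) (BT.node 1899 (BT.leaf cJ1899) (BT.leaf cJ1900))) (BT.node 1902 (BT.node 1901 (BT.leaf cJ1901) (BT.leaf cJ1902)) (BT.leaf cJ1903))) (BT.node 1907 (BT.node 1905 (BT.node 1904 (BT.leaf cJ1904) (BT.leaf cJ1905)) (BT.node 1906 (BT.leaf cJ1906) (BT.leaf cJ1907))) (BT.node 1909 (BT.node 1908 (BT.leaf cJ1908) (BT.leaf cJ1909)) (BT.leaf cJ1910)))) (BT.node 1917 (BT.node 1914 (BT.node 1912 (BT.node 1911 (BT.leaf cJ1911) (BT.leaf cJ1912)) (BT.node 1913 (BT.leaf cJ1913) (BT.leaf cJ1914))) (BT.node 1916 (BT.node 1915 (BT.leaf cJ1915) (BT.leaf cJ1916)) (BT.leaf cJ1917))) (BT.node 1920 (BT.node 1919 (BT.node 1918 (BT.leaf cJ1918) (BT.leaf cJ1919)) (BT.leaf cJ1920)) (BT.node 1922 (BT.node 1921 (BT.leaf cJ1921) (BT.leaf cJ1922)) (BT.leaf cJ1923))))) (BT.node 1936 (BT.node 1930 (BT.node 1927 (BT.node 1925 (BT.node 1924 (BT.leaf cJ1924) (BT.leaf cJ1925)) (BT.node 1926 (BT.leaf cJ1926) (BT.leaf cJ1927))) (BT.node 1929 (BT.node 1928 (BT.leaf cJ1928) (BT.leaf cJ1929)) (BT.leaf cJ1930))) (BT.node 1933 (BT.node 1932 (BT.node 1931 (BT.leaf cJ1931) (BT.leaf cJ1932)) (BT.leaf cJ1933)) (BT.node 1935 (BT.node 1934 (BT.leaf cJ1934) (BT.leaf cJ1935)) (BT.leaf cJ1936)))) (BT.node 1943 (BT.node 1940 (BT.node 1938 (BT.node 1937 (BT.leaf cJ1937) (BT.leaf cJ1938)) (BT.node 1939 (BT.leaf cJ1939) (BT.leaf cJ1940))) (BT.node 1942 (BT.node 1941 (BT.leaf cJ1941) (BT.leaf cJ1942)) (BT.leaf cJ1943))) (BT.node 1946 (BT.node 1945 (BT.node 1944 (BT.leaf cJ1944) (BT.leaf cJ1945)) (BT.leaf cJ1946)) (BT.node 1948 (BT.node 1947 (BT.leaf cJ1947) (BT.leaf cJ1948)) (BT.leaf cJ1949)))))) (BT.node 1976 (BT.node 1963 (BT.node 1956 (BT.node 1953 (BT.node 1951 (BT.node 1950 (BT.leaf cJ1950) (BT.leaf cJ1951)) (BT.node 1952 (BT.leaf cJ1952) (BT.leaf cJ1953))) (BT.node 1955 (BT.node 1954 (BT.leaf cJ1954) (BT.leaf cJ1955)) (BT.leaf cJ1956))) (BT.node 1960 (BT.node 1958 (BT.node 1957 (BT.leaf cJ1957) (BT.leaf cJ1958)) (BT.node 1959 (BT.leaf cJ1959) (BT.leaf cJ1960))) (BT.node 1962 (BT.node 1961 (BT.leaf cJ1961) (BT.leaf cJ1962)) (BT.leaf cJ1963)))) (BT.node 1970 (BT.node 1967 (BT.node 1965 (BT.node 1964 (BT.leaf cJ1964) (BT.leaf cJ1965)) (BT.node 1966 (BT.leaf cJ1966) (BT.leaf cJ1967))) (BT.node 1969 (BT.node 1968 (BT.leaf cJ1968) (BT.leaf cJ1969)) (BT.leaf cJ1970))) (BT.node 1973 (BT.node 1972 (BT.node 1971 (BT.leaf cJ1971) (BT.leaf cJ1972)) (BT.leaf cJ1973)) (BT.node 1975 (BT.node 1974 (BT.leaf cJ1974) (BT.leaf cJ1975)) (BT.leaf cJ1976))))) (BT.node 1989 (BT.node 1983 (BT.node 1980 (BT.node 1978 (BT.node 1977 (BT.leaf cJ1977) (BT.leaf cJ1978)) (BT.node 1979 (BT.leaf cJ1979) (BT.leaf cJ1980))) (BT.node 1982 (BT.node 1981 (BT.leaf cJ1981) (BT.leaf cJ1982)) (BT.leaf cJ1983))) (BT.node 1986 (BT.node 1985 (BT.node 1984 (BT.leaf cJ1984) (BT.leaf cJ1985)) (BT.leaf cJ1986)) (BT.node 1988 (BT.node 1987 (BT.leaf cJ1987) (BT.leaf cJ1988)) (BT.leaf cJ1989)))) (BT.node 1996 (BT.node 1993 (BT.node 1991 (BT.node 1990 (BT.leaf cJ1990) (BT.leaf cJ1991)) (BT.node 1992 (BT.leaf cJ1992) (BT.leaf cJ1993))) (BT.node 1995 (BT.node 1994 (BT.leaf cJ1994) (BT.leaf cJ1995)) (BT.leaf cJ1996))) (BT.node 1999 (BT.node 1998 (BT.node 1997 (BT.leaf cJ1997) (BT.leaf cJ1998)) (BT.leaf cJ1999)) (BT.node 2001 (BT.node 2000 (BT.leaf cJ2000) (BT.leaf cJ2001)) (BT.leaf cJ2002))))))) (BT.node 2055 (BT.node 2029 (BT.node 2016 (BT.node 2009 (BT.node 2006 (BT.node 2004 (BT.node 2003 (BT.leaf cJ2003) (BT.leaf cJ2004)) (BT.node 2005 (BT.leaf cJ2005) (BT.leaf cJ2006))) (BT.node 2008 (BT.node 2007 (BT.leaf cJ2007) (BT.leaf cJ2008)) (BT.leaf cJ2009))) (BT.node 2013 (BT.node 2011 (BT.node 2010 (BT.leaf cJ2010) (BT.leaf cJ2011)) (BT.node 2012 (BT.leaf cJ2012) (BT.leaf cJ2013))) (BT.node 2015 (BT.node 2014 (BT.leaf cJ2014) (BT.leaf cJ2015)) (BT.leaf cJ2016)))) (BT.node 2023 (BT.node 2020 (BT.node 2018 (BT.node 2017 (BT.leaf cJ2017) (BT.leaf cJ2018)) (BT.node 2019 (BT.leaf cJ2019) (BT.leaf cJ2020))) (BT.node 2022 (BT.node 2021 (BT.leaf cJ2021) (BT.leaf cJ2022)) (BT.leaf cJ2023))) (BT.node 2026 (BT.node 2025 (BT.node 2024 (BT.leaf cJ2024) (BT.leaf cJ2025)) (BT.leaf cJ2026)) (BT.node 2028 (BT.node 2027 (BT.leaf cJ2027) (BT.leaf cJ2028)) (BT.leaf cJ2029))))) (BT.node 2042 (BT.node 2036 (BT.node 2033 (BT.node 2031 (BT.node 2030 (BT.leaf cJ2030) (BT.leaf cJ2031)) (BT.node 2032 (BT.leaf cJ2032) (BT.leaf cJ2033))) (BT.node 2035 (BT.node 2034 (BT.leaf cJ2034) (BT.leaf cJ2035)) (BT.leaf cJ2036))) (BT.node 2039 (BT.node 2038 (BT.node 2037 (BT.leaf cJ2037) (BT.leaf cJ2038)) (BT.leaf cJ2039)) (BT.node 2041 (BT.node 2040 (BT.leaf cJ2040) (BT.leaf cJ2041)) (BT.leaf cJ2042)))) (BT.node 2049 (BT.node 2046 (BT.node 2044 (BT.node 2043 (BT.leaf cJ2043) (BT.leaf cJ2044)) (BT.node 2045 (BT.leaf cJ2045) (BT.leaf cJ2046))) (BT.node 2048 (BT.node 2047 (BT.leaf cJ2047) (BT.leaf cJ2048)) (BT.leaf cJ2049))) (BT.node 2052 (BT.node 2051 (BT.node 2050 (BT.leaf cJ2050) (BT.leaf cJ2051)) (BT.leaf cJ2052)) (BT.node 2054 (BT.node 2053 (BT.leaf cJ2053) (BT.leaf cJ2054)) (BT.leaf cJ2055)))))) (BT.node 2081 (BT.node 2068 (BT.node 2062 (BT.node 2059 (BT.node 2057 (BT.node 2056 (BT.leaf cJ2056) (BT.leaf cJ2057)) (BT.node 2058 (BT.leaf cJ2058) (BT.leaf cJ2059))) (BT.node 2061 (BT.node 2060 (BT.leaf cJ2060) (BT.leaf cJ2061)) (BT.leaf cJ2062))) (BT.node 2065 (BT.node 2064 (BT.node 2063 (BT.leaf cJ2063) (BT.leaf cJ2064)) (BT.leaf cJ2065)) (BT.node 2067 (BT.node 2066 (BT.leaf cJ2066) (BT.leaf cJ2067)) (BT.leaf cJ2068)))) (BT.node 2075 (BT.node 2072 (BT.node 2070 (BT.node 2069 (BT.leaf cJ2069) (BT.leaf cJ2070)) (BT.node 2071 (BT.leaf cJ2071) (BT.leaf cJ2072))) (BT.node 2074 (BT.node 2073 (BT.leaf cJ2073) (BT.leaf cJ2074)) (BT.leaf cJ2075))) (BT.node 2078 (BT.node 2077 (BT.node 2076 (BT.leaf cJ2076) (BT.leaf cJ2077)) (BT.leaf cJ2078)) (BT.node 2080 (BT.node 2079 (BT.leaf cJ2079) (BT.leaf cJ2080)) (BT.leaf cJ2081))))) (BT.node 2094 (BT.node 2088 (BT.node 2085 (BT.node 2083 (BT.node 2082 (BT.leaf cJ2082) (BT.leaf cJ2083)) (BT.node 2084 (BT.leaf cJ2084) (BT.leaf cJ2085))) (BT.node 2087 (BT.node 2086 (BT.leaf cJ2086) (BT.leaf cJ2087)) (BT.leaf cJ2088))) (BT.node 2091 (BT.node 2090 (BT.node 2089 (BT.leaf cJ2089) (BT.leaf cJ2090)) (BT.leaf cJ2091)) (BT.node 2093 (BT.node 2092 (BT.leaf cJ2092) (BT.leaf cJ2093)) (BT.leaf cJ2094)))) (BT.node 2101 (BT.node 2098 (BT.node 2096 (BT.node 2095 (BT.leaf cJ2095) (BT.leaf cJ2096)) (BT.node 2097 (BT.leaf cJ2097) (BT.leaf cJ2098))) (BT.node 2100 (BT.node 2099 (BT.leaf cJ2099) (BT.leaf cJ2100)) (BT.leaf cJ2101))) (BT.node 2104 (BT.node 2103 (BT.node 2102 (BT.leaf cJ2102) (BT.leaf cJ2103)) (BT.leaf cJ2104)) (BT.node 2106 (BT.node 2105 (BT.leaf cJ2105) (BT.leaf cJ2106)) (BT.leaf cJ2107))))))))) (BT.node 2318 (BT.node 2213 (BT.node 2160 (BT.node 2134 (BT.node 2121 (BT.node 2114 (BT.node 2111 (BT.node 2109 (BT.node 2108 (BT.leaf cJ2108) (BT.leaf cJ2109)) (BT.node 2110 (BT.leaf cJ2110) (BT.leaf cJ2111))) (BT.node 2113 (BT.node 2112 (BT.leaf cJ2112) (BT.leaf cJ2113)) (BT.leaf cJ2114))) (BT.node 2118 (BT.node 2116 (BT.node 2115 (BT.leaf cJ2115) (BT.leaf cJ2116)) (BT.node 2117 (BT.leaf cJ2117) (BT.leaf cJ2118))) (BT.node 2120 (BT.node 2119 (BT.leaf cJ2119) (BT.leaf cJ2120)) (BT.leaf cJ2121)))) (BT.node 2128 (BT.node 2125 (BT.node 2123 (BT.node 2122 (BT.leaf cJ2122) (BT.leaf cJ2123)) (BT.node 2124 (BT.leaf cJ2124) (BT.leaf cJ2125))) (BT.node 2127 (BT.node 2126 (BT.leaf cJ2126) (BT.leaf cJ2127)) (BT.leaf cJ2128))) (BT.node 2131 (BT.node 2130 (BT.node 2129 (BT.leaf cJ2129) (BT.leaf cJ2130)) (BT.leaf cJ2131)) (BT.node 2133 (BT.node 2132 (BT.leaf cJ2132) (BT.leaf cJ2133)) (BT.leaf cJ2134))))) (BT.node 2147 (BT.node 2141 (BT.node 2138 (BT.node 2136 (BT.node 2135 (BT.leaf cJ2135) (BT.leaf cJ2136)) (BT.node 2137 (BT.leaf cJ2137) (BT.leaf cJ2138))) (BT.node 2140 (BT.node 2139 (BT.leaf cJ2139) (BT.leaf cJ2140)) (BT.leaf cJ2141))) (BT.node 2144 (BT.node 2143 (BT.node 2142 (BT.leaf cJ2142) (BT.leaf cJ2143)) (BT.leaf cJ2144)) (BT.node 2146 (BT.node 2145 (BT.leaf cJ2145) (BT.leaf cJ2146)) (BT.leaf cJ2147)))) (BT.node 2154 (BT.node 2151 (BT.node 2149 (BT.node 2148 (BT.leaf cJ2148) (BT.leaf cJ2149)) (BT.node 2150 (BT.leaf cJ2150) (BT.leaf cJ2151))) (BT.node 2153 (BT.node 2152 (BT.leaf cJ2152) (BT.leaf cJ2153)) (BT.leaf cJ2154))) (BT.node 2157 (BT.node 2156 (BT.node 2155 (BT.leaf cJ2155) (BT.leaf cJ2156)) (BT.leaf cJ2157)) (BT.node 2159 (BT.node 2158 (BT.leaf cJ2158) (BT.leaf cJ2159)) (BT.leaf cJ2160)))))) (BT.node 2187 (BT.node 2174 (BT.node 2167 (BT.node 2164 (BT.node 2162 (BT.node 2161 (BT.leaf cJ2161) (BT.leaf cJ2162)) (BT.node 2163 (BT.leaf cJ2163) (BT.leaf cJ2164))) (BT.node 2166 (BT.node 2165 (BT.leaf cJ2165) (BT.leaf cJ2166)) (BT.leaf cJ2167))) (BT.node 2171 (BT.node 2169 (BT.node 2168 (BT.leaf cJ2168) (BT.leaf cJ2169)) (BT.node 2170 (BT.leaf cJ2170) (BT.leaf cJ2171))) (BT.node 2173 (BT.node 2172 (BT.leaf cJ2172) (BT.leaf cJ2173)) (BT.leaf cJ2174)))) (BT.node 2181 (BT.node 2178 (BT.node 2176 (BT.node 2175 (BT.leaf cJ2175) (BT.leaf cJ2176)) (BT.node 2177 (BT.leaf cJ2177) (BT.leaf cJ2178))) (BT.node 2180 (BT.node 2179 (BT.leaf cJ2179) (BT.leaf cJ2180)) (BT.leaf cJ2181))) (BT.node 2184 (BT.node 2183 (BT.node 2182 (BT.leaf cJ2182) (BT.leaf cJ2183)) (BT.leaf cJ2184)) (BT.node 2186 (BT.node 2185 (BT.leaf cJ2185) (BT.leaf cJ2186)) (BT.leaf cJ2187))))) (BT.node 2200 (BT.node 2194 (BT.node 2191 (BT.node 2189 (BT.node 2188 (BT.leaf cJ2188) (BT.leaf cJ2189)) (BT.node 2190 (BT.leaf cJ2190) (BT.leaf cJ2191))) (BT.node 2193 (BT.node 2192 (BT.leaf cJ2192) (BT.leaf cJ2193)) (BT.leaf cJ2194))) (BT.node 2197 (BT.node 2196 (BT.node 2195 (BT.leaf cJ2195) (BT.leaf cJ2196)) (BT.leaf cJ2197)) (BT.node 2199 (BT.node 2198 (BT.leaf cJ2198) (BT.leaf cJ2199)) (BT.leaf cJ2200)))) (BT.node 2207 (BT.node 2204 (BT.node 2202 (BT.node 2201 (BT.leaf cJ2201) (BT.leaf cJ2202)) (BT.node 2203 (BT.leaf cJ2203) (BT.leaf cJ2204))) (BT.node 2206 (BT.node 2205 (BT.leaf cJ2205) (BT.leaf cJ2206)) (BT.leaf cJ2207))) (BT.node 2210 (BT.node 2209 (BT.node 2208 (BT.leaf cJ2208) (BT.leaf cJ2209)) (BT.leaf cJ2210)) (BT.node 2212 (BT.node 2211 (BT.leaf cJ2211) (BT.leaf cJ2212)) (BT.leaf cJ2213))))))) (BT.node 2266 (BT.node 2240 (BT.node 2227 (BT.node 2220 (BT.node 2217 (BT.node 2215 (BT.node 2214 (BT.leaf cJ2214) (BT.leaf cJ2215)) (BT.node 2216 (BT.leaf cJ2216) (BT.leaf cJ2217))) (BT.node 2219 (BT.node 2218 (BT.leaf cJ2218) (BT.leaf cJ2219)) (BT.leaf cJ2220))) (BT.node 2224 (BT.node 2222 (BT.node 2221 (BT.leaf cJ2221) (BT.leaf cJ2222)) (BT.node 2223 (BT.leaf cJ2223) (BT.leaf cJ2224))) (BT.node 2226 (BT.node 2225 (BT.leaf cJ2225) (BT.leaf cJ2226)) (BT.leaf cJ2227)))) (BT.node 2234 (BT.node 2231 (BT.node 2229 (BT.node 2228 (BT.leaf cJ2228) (BT.leaf cJ2229)) (BT.node 2230 (BT.leaf cJ2230) (BT.leaf cJ2231))) (BT.node 2233 (BT.node 2232 (BT.leaf cJ2232) (BT.leaf cJ2233)) (BT.leaf cJ2234))) (BT.node 2237 (BT.node 2236 (BT.node 2235 (BT.leaf cJ2235) (BT.leaf cJ2236)) (BT.leaf cJ2237)) (BT.node 2239 (BT.node 2238 (BT.leaf cJ2238) (BT.leaf cJ2239)) (BT.leaf cJ2240))))) (BT.node 2253 (BT.node 2247 (BT.node 2244 (BT.node 2242 (BT.node 2241 (BT.leaf cJ2241) (BT.leaf cJ2242)) (BT.node 2243 (BT.leaf cJ2243) (BT.leaf cJ2244))) (BT.node 2246 (BT.node 2245 (BT.leaf cJ2245) (BT.leaf cJ2246)) (BT.leaf cJ2247))) (BT.node 2250 (BT.node 2249 (BT.node 2248 (BT.leaf cJ2248) (BT.leaf cJ2249)) (BT.leaf cJ2250)) (BT.node 2252 (BT.node 2251 (BT.leaf cJ2251) (BT.leaf cJ2252)) (BT.leaf cJ2253)))) (BT.node 2260 (BT.node 2257 (BT.node 2255 (BT.node 2254 (BT.leaf cJ2254) (BT.leaf cJ2255)) (BT.node 2256 (BT.leaf cJ2256) (BT.leaf cJ2257))) (BT.node 2259 (BT.node 2258 (BT.leaf cJ2258) (BT.leaf cJ2259)) (BT.leaf cJ2260))) (BT.node 2263 (BT.node 2262 (BT.node 2261 (BT.leaf cJ2261) (BT.leaf cJ2262)) (BT.leaf cJ2263)) (BT.node 2265 (BT.node 2264 (BT.leaf cJ2264) (BT.leaf cJ2265)) (BT.leaf cJ2266)))))) (BT.node 2292 (BT.node 2279 (BT.node 2273 (BT.node 2270 (BT.node 2268 (BT.node 2267 (BT.leaf cJ2267) (BT.leaf cJ2268)) (BT.node 2269 (BT.leaf cJ2269) (BT.leaf cJ2270))) (BT.node 2272 (BT.node 2271 (BT.leaf cJ2271) (BT.leaf cJ2272)) (BT.leaf cJ2273))) (BT.node 2276 (BT.node 2275 (BT.node 2274 (BT.leaf cJ2274) (BT.leaf cJ2275)) (BT.leaf cJ2276)) (BT.node 2278 (BT.node 2277 (BT.leaf cJ2277) (BT.leaf cJ2278)) (BT.leaf cJ2279)))) (BT.node 2286 (BT.node 2283 (BT.node 2281 (BT.node 2280 (BT.leaf cJ2280) (BT.leaf cJ2281)) (BT.node 2282 (BT.leaf cJ2282) (BT.leaf cJ2283))) (BT.node 2285 (BT.node 2284 (BT.leaf cJ2284) (BT.leaf cJ2285)) (BT.leaf cJ2286))) (BT.node 2289 (BT.node 2288 (BT.node 2287 (BT.leaf cJ2287) (BT.leaf cJ2288)) (BT.leaf cJ2289)) (BT.node 2291 (BT.node 2290 (BT.leaf cJ2290) (BT.leaf cJ2291)) (BT.leaf cJ2292))))) (BT.node 2305 (BT.node 2299 (BT.node 2296 (BT.node 2294 (BT.node 2293 (BT.leaf cJ2293) (BT.leaf cJ2294)) (BT.node 2295 (BT.leaf cJ2295) (BT.leaf cJ2296))) (BT.node 2298 (BT.node 2297 (BT.leaf cJ2297) (BT.leaf cJ2298)) (BT.leaf cJ2299))) (BT.node 2302 (BT.node 2301 (BT.node 2300 (BT.leaf cJ2300) (BT.leaf cJ2301)) (BT.leaf cJ2302)) (BT.node 2304 (BT.node 2303 (BT.leaf cJ2303) (BT.leaf cJ2304)) (BT.leaf cJ2305)))) (BT.node 2312 (BT.node 2309 (BT.node 2307 (BT.node 2306 (BT.leaf cJ2306) (BT.leaf cJ2307)) (BT.node 2308 (BT.leaf cJ2308) (BT.leaf cJ2309))) (BT.node 2311 (BT.node 2310 (BT.leaf cJ2310) (BT.leaf cJ2311)) (BT.leaf cJ2312))) (BT.node 2315 (BT.node 2314 (BT.node 2313 (BT.leaf cJ2313) (BT.leaf cJ2314)) (BT.leaf cJ2315)) (BT.node 2317 (BT.node 2316 (BT.leaf cJ2316) (BT.leaf cJ2317)) (BT.leaf cJ2318)))))))) (BT.node 2423 (BT.node 2371 (BT.node 2345 (BT.node 2332 (BT.node 2325 (BT.node 2322 (BT.node 2320 (BT.node 2319 (BT.leaf cJ2319) (BT.leaf cJ2320)) (BT.node 2321 (BT.leaf cJ2321) (BT.leaf cJ2322))) (BT.node 2324 (BT.node 2323 (BT.leaf cJ2323) (BT.leaf cJ2324)) (BT.leaf cJ2325))) (BT.node 2329 (BT.node 2327 (BT.node 2326 (BT.leaf cJ2326) (BT.leaf cJ2327)) (BT.node 2328 (BT.leaf cJ2328) (BT.leaf cJ2329))) (BT.node 2331 (BT.node 2330 (BT.leaf cJ2330) (BT.leaf cJ2331)) (BT.leaf cJ2332)))) (BT.node 2339 (BT.node 2336 (BT.node 2334 (BT.node 2333 (BT.leaf cJ2333) (BT.leaf cJ2334)) (BT.node 2335 (BT.leaf cJ2335) (BT.leaf cJ2336))) (BT.node 2338 (BT.node 2337 (BT.leaf cJ2337) (BT.leaf cJ2338)) (BT.leaf cJ2339))) (BT.node 2342 (BT.node 2341 (BT.node 2340 (BT.leaf cJ2340) (BT.leaf cJ2341)) (BT.leaf cJ2342)) (BT.node 2344 (BT.node 2343 (BT.leaf cJ2343) (BT.leaf cJ2344)) (BT.leaf cJ2345))))) (BT.node 2358 (BT.node 2352 (BT.node 2349 (BT.node 2347 (BT.node 2346 (BT.leaf cJ2346) (BT.leaf cJ2347)) (BT.node 2348 (BT.leaf cJ2348) (BT.leaf cJ2349))) (BT.node 2351 (BT.node 2350 (BT.leaf cJ2350) (BT.leaf cJ2351)) (BT.leaf cJ2352))) (BT.node 2355 (BT.node 2354 (BT.node 2353 (BT.leaf cJ2353) (BT.leaf cJ2354)) (BT.leaf cJ2355)) (BT.node 2357 (BT.node 2356 (BT.leaf cJ2356) (BT.leaf cJ2357)) (BT.leaf cJ2358)))) (BT.node 2365 (BT.node 2362 (BT.node 2360 (BT.node 2359 (BT.leaf cJ2359) (BT.leaf cJ2360)) (BT.node 2361 (BT.leaf cJ2361) (BT.leaf cJ2362))) (BT.node 2364 (BT.node 2363 (BT.leaf cJ2363) (BT.leaf cJ2364)) (BT.leaf cJ2365))) (BT.node 2368 (BT.node 2367 (BT.node 2366 (BT.leaf cJ2366) (BT.leaf cJ2367)) (BT.leaf cJ2368)) (BT.node 2370 (BT.node 2369 (BT.leaf cJ2369) (BT.leaf cJ2370)) (BT.leaf cJ2371)))))) (BT.node 2397 (BT.node 2384 (BT.node 2378 (BT.node 2375 (BT.node 2373 (BT.node 2372 (BT.leaf cJ2372) (BT.leaf cJ2373)) (BT.node 2374 (BT.leaf cJ2374) (BT.leaf cJ2375))) (BT.node 2377 (BT.node 2376 (BT.leaf cJ2376) (BT.leaf cJ2377)) (BT.leaf cJ2378))) (BT.node 2381 (BT.node 2380 (BT.node 2379 (BT.leaf cJ2379) (BT.leaf cJ2380)) (BT.leaf cJ2381)) (BT.node 2383 (BT.node 2382 (BT.leaf cJ2382) (BT.leaf cJ2383)) (BT.leaf cJ2384)))) (BT.node 2391 (BT.node 2388 (BT.node 2386 (BT.node 2385 (BT.leaf cJ2385) (BT.leaf cJ2386)) (BT.node 2387 (BT.leaf cJ2387) (BT.leaf cJ2388))) (BT.node 2390 (BT.node 2389 (BT.leaf cJ2389) (BT.leaf cJ2390)) (BT.leaf cJ2391))) (BT.node 2394 (BT.node 2393 (BT.node 2392 (BT.leaf cJ2392) (BT.leaf cJ2393)) (BT.leaf cJ2394)) (BT.node 2396 (BT.node 2395 (BT.leaf cJ2395) (BT.leaf cJ2396)) (BT.leaf cJ2397))))) (BT.node 2410 (BT.node 2404 (BT.node 2401 (BT.node 2399 (BT.node 2398 (BT.leaf cJ2398) (BT.leaf cJ2399)) (BT.node 2400 (BT.leaf cJ2400) (BT.leaf cJ2401))) (BT.node 2403 (BT.node 2402 (BT.leaf cJ2402) (BT.leaf cJ2403)) (BT.leaf cJ2404))) (BT.node 2407 (BT.node 2406 (BT.node 2405 (BT.leaf cJ2405) (BT.leaf cJ2406)) (BT.leaf cJ2407)) (BT.node 2409 (BT.node 2408 (BT.leaf cJ2408) (BT.leaf cJ2409)) (BT.leaf cJ2410)))) (BT.node 2417 (BT.node 2414 (BT.node 2412 (BT.node 2411 (BT.leaf cJ2411) (BT.leaf cJ2412)) (BT.node 2413 (BT.leaf cJ2413) (BT.leaf cJ2414))) (BT.node 2416 (BT.node 2415 (BT.leaf cJ2415) (BT.leaf cJ2416)) (BT.leaf cJ2417))) (BT.node 2420 (BT.node 2419 (BT.node 2418 (BT.leaf cJ2418) (BT.leaf cJ2419)) (BT.leaf cJ2420)) (BT.node 2422 (BT.node 2421 (BT.leaf cJ2421) (BT.leaf cJ2422)) (BT.leaf cJ2423))))))) (BT.node 2476 (BT.node 2450 (BT.node 2437 (BT.node 2430 (BT.node 2427 (BT.node 2425 (BT.node 2424 (BT.leaf cJ2424) (BT.leaf cJ2425)) (BT.node 2426 (BT.leaf cJ2426) (BT.leaf cJ2427))) (BT.node 2429 (BT.node 2428 (BT.leaf cJ2428) (BT.leaf cJ2429)) (BT.leaf cJ2430))) (BT.node 2434 (BT.node 2432 (BT.node 2431 (BT.leaf cJ2431) (BT.leaf cJ2432)) (BT.node 2433 (BT.leaf cJ2433) (BT.leaf cJ2434))) (BT.node 2436 (BT.node 2435 (BT.leaf cJ2435) (BT.leaf cJ2436)) (BT.leaf cJ2437)))) (BT.node 2444 (BT.node 2441 (BT.node 2439 (BT.node 2438 (BT.leaf cJ2438) (BT.leaf cJ2439)) (BT.node 2440 (BT.leaf cJ2440) (BT.leaf cJ2441))) (BT.node 2443 (BT.node 2442 (BT.leaf cJ2442) (BT.leaf cJ2443)) (BT.leaf cJ2444))) (BT.node 2447 (BT.node 2446 (BT.node 2445 (BT.leaf cJ2445) (BT.leaf cJ2446)) (BT.leaf cJ2447)) (BT.node 2449 (BT.node 2448 (BT.leaf cJ2448) (BT.leaf cJ2449)) (BT.leaf cJ2450))))) (BT.node 2463 (BT.node 2457 (BT.node 2454 (BT.node 2452 (BT.node 2451 (BT.leaf cJ2451) (BT.leaf cJ2452)) (BT.node 2453 (BT.leaf cJ2453) (BT.leaf cJ2454))) (BT.node 2456 (BT.node 2455 (BT.leaf cJ2455) (BT.leaf cJ2456)) (BT.leaf cJ2457))) (BT.node 2460 (BT.node 2459 (BT.node 2458 (BT.leaf cJ2458) (BT.leaf cJ2459)) (BT.leaf cJ2460)) (BT.node 2462 (BT.node 2461 (BT.leaf cJ2461) (BT.leaf cJ2462)) (BT.leaf cJ2463)))) (BT.node 2470 (BT.node 2467 (BT.node 2465 (BT.node 2464 (BT.leaf cJ2464) (BT.leaf cJ2465)) (BT.node 2466 (BT.leaf cJ2466) (BT.leaf cJ2467))) (BT.node 2469 (BT.node 2468 (BT.leaf cJ2468) (BT.leaf cJ2469)) (BT.leaf cJ2470))) (BT.node 2473 (BT.node 2472 (BT.node 2471 (BT.leaf cJ2471) (BT.leaf cJ2472)) (BT.leaf cJ2473)) (BT.node 2475 (BT.node 2474 (BT.leaf cJ2474) (BT.leaf cJ2475)) (BT.leaf cJ2476)))))) (BT.node 2502 (BT.node 2489 (BT.node 2483 (BT.node 2480 (BT.node 2478 (BT.node 2477 (BT.leaf cJ2477) (BT.leaf cJ2478)) (BT.node 2479 (BT.leaf cJ2479) (BT.leaf cJ2480))) (BT.node 2482 (BT.node 2481 (BT.leaf cJ2481) (BT.leaf cJ2482)) (BT.leaf cJ2483))) (BT.node 2486 (BT.node 2485 (BT.node 2484 (BT.leaf cJ2484) (BT.leaf cJ2485)) (BT.leaf cJ2486)) (BT.node 2488 (BT.node 2487 (BT.leaf cJ2487) (BT.leaf cJ2488)) (BT.leaf cJ2489)))) (BT.node 2496 (BT.node 2493 (BT.node 2491 (BT.node 2490 (BT.leaf cJ2490) (BT.leaf cJ2491)) (BT.node 2492 (BT.leaf cJ2492) (BT.leaf cJ2493))) (BT.node 2495 (BT.node 2494 (BT.leaf cJ2494) (BT.leaf cJ2495)) (BT.leaf cJ2496))) (BT.node 2499 (BT.node 2498 (BT.node 2497 (BT.leaf cJ2497) (BT.leaf cJ2498)) (BT.leaf cJ2499)) (BT.node 2501 (BT.node 2500 (BT.leaf cJ2500) (BT.leaf cJ2501)) (BT.leaf cJ2502))))) (BT.node 2515 (BT.node 2509 (BT.node 2506 (BT.node 2504 (BT.node 2503 (BT.leaf cJ2503) (BT.leaf cJ2504)) (BT.node 2505 (BT.leaf cJ2505) (BT.leaf cJ2506))) (BT.node 2508 (BT.node 2507 (BT.leaf cJ2507) (BT.leaf cJ2508)) (BT.leaf cJ2509))) (BT.node 2512 (BT.node 2511 (BT.node 2510 (BT.leaf cJ2510) (BT.leaf cJ2511)) (BT.leaf cJ2512)) (BT.node 2514 (BT.node 2513 (BT.leaf cJ2513) (BT.leaf cJ2514)) (BT.leaf cJ2515)))) (BT.node 2522 (BT.node 2519 (BT.node 2517 (BT.node 2516 (BT.leaf cJ2516) (BT.leaf cJ2517)) (BT.node 2518 (BT.leaf cJ2518) (BT.leaf cJ2519))) (BT.node 2521 (BT.node 2520 (BT.leaf cJ2520) (BT.leaf cJ2521)) (BT.leaf cJ2522))) (BT.node 2525 (BT.node 2524 (BT.node 2523 (BT.leaf cJ2523) (BT.leaf cJ2524)) (BT.leaf cJ2525)) (BT.node 2527 (BT.node 2526 (BT.leaf cJ2526) (BT.leaf cJ2527)) (BT.leaf cJ2528)))))))))) (BT.node 2950 (BT.node 2739 (BT.node 2634 (BT.node 2581 (BT.node 2555 (BT.node 2542 (BT.node 2535 (BT.node 2532 (BT.node 2530 (BT.node 2529 (BT.leaf cJ2529) (BT.leaf cJ2530)) (BT.node 2531 (BT.leaf cJ2531) (BT.leaf cJ2532))) (BT.node 2534 (BT.node 2533 (BT.leaf cJ2533) (BT.leaf cJ2534)) (BT.leaf cJ2535))) (BT.node 2539 (BT.node 2537 (BT.node 2536 (BT.leaf cJ2536) (BT.leaf cJ2537)) (BT.node 2538 (BT.leaf cJ2538) (BT.leaf cJ2539))) (BT.node 2541 (BT.node 2540 (BT.leaf cJ2540) (BT.leaf cJ2541)) (BT.leaf cJ2542)))) (BT.node 2549 (BT.node 2546 (BT.node 2544 (BT.node 2543 (BT.leaf cJ2543) (BT.leaf cJ2544)) (BT.node 2545 (BT.leaf cJ2545) (BT.leaf cJ2546))) (BT.node 2548 (BT.node 2547 (BT.leaf cJ2547) (BT.leaf cJ2548)) (BT.leaf cJ2549))) (BT.node 2552 (BT.node 2551 (BT.node 2550 (BT.leaf cJ2550) (BT.leaf cJ2551)) (BT.leaf cJ2552)) (BT.node 2554 (BT.node 2553 (BT.leaf cJ2553) (BT.leaf cJ2554)) (BT.leaf cJ2555))))) (BT.node 2568 (BT.node 2562 (BT.node 2559 (BT.node 2557 (BT.node 2556 (BT.leaf cJ2556) (BT.leaf cJ2557)) (BT.node 2558 (BT.leaf cJ2558) (BT.leaf cJ2559))) (BT.node 2561 (BT.node 2560 (BT.leaf cJ2560) (BT.leaf cJ2561)) (BT.leaf cJ2562))) (BT.node 2565 (BT.node 2564 (BT.node 2563 (BT.leaf cJ2563) (BT.leaf cJ2564)) (BT.leaf cJ2565)) (BT.node 2567 (BT.node 2566 (BT.leaf cJ2566) (BT.leaf cJ2567)) (BT.leaf cJ2568)))) (BT.node 2575 (BT.node 2572 (BT.node 2570 (BT.node 2569 (BT.leaf cJ2569) (BT.leaf cJ2570)) (BT.node 2571 (BT.leaf cJ2571) (BT.leaf cJ2572))) (BT.node 2574 (BT.node 2573 (BT.leaf cJ2573) (BT.leaf cJ2574)) (BT.leaf cJ2575))) (BT.node 2578 (BT.node 2577 (BT.node 2576 (BT.leaf cJ2576) (BT.leaf cJ2577)) (BT.leaf cJ2578)) (BT.node 2580 (BT.node 2579 (BT.leaf cJ2579) (BT.leaf cJ2580)) (BT.leaf cJ2581)))))) (BT.node 2608 (BT.node 2595 (BT.node 2588 (BT.node 2585 (BT.node 2583 (BT.node 2582 (BT.leaf cJ2582) (BT.leaf cJ2583)) (BT.node 2584 (BT.leaf cJ2584) (BT.leaf cJ2585))) (BT.node 2587 (BT.node 2586 (BT.leaf cJ2586) (BT.leaf cJ2587)) (BT.leaf cJ2588))) (BT.node 2592 (BT.node 2590 (BT.node 2589 (BT.leaf cJ2589) (BT.leaf cJ2590)) (BT.node 2591 (BT.leaf cJ2591) (BT.leaf cJ2592))) (BT.node 2594 (BT.node 2593 (BT.leaf cJ2593) (BT.leaf cJ2594)) (BT.leaf cJ2595)))) (BT.node 2602 (BT.node 2599 (BT.node 2597 (BT.node 2596 (BT.leaf cJ2596) (BT.leaf cJ2597)) (BT.node 2598 (BT.leaf cJ2598) (BT.leaf cJ2599))) (BT.node 2601 (BT.node 2600 (BT.leaf cJ2600) (BT.leaf cJ2601)) (BT.leaf cJ2602))) (BT.node 2605 (BT.node 2604 (BT.node 2603 (BT.leaf cJ2603) (BT.leaf cJ2604)) (BT.leaf cJ2605)) (BT.node 2607 (BT.node 2606 (BT.leaf cJ2606) (BT.leaf cJ2607)) (BT.leaf cJ2608))))) (BT.node 2621 (BT.node 2615 (BT.node 2612 (BT.node 2610 (BT.node 2609 (BT.leaf cJ2609) (BT.leaf cJ2610)) (BT.node 2611 (BT.leaf cJ2611) (BT.leaf cJ2612))) (BT.node 2614 (BT.node 2613 (BT.leaf cJ2613) (BT.leaf cJ2614)) (BT.leaf cJ2615))) (BT.node 2618 (BT.node 2617 (BT.node 2616 (BT.leaf cJ2616) (BT.leaf cJ2617)) (BT.leaf cJ2618)) (BT.node 2620 (BT.node 2619 (BT.leaf cJ2619) (BT.leaf cJ2620)) (BT.leaf cJ2621)))) (BT.node 2628 (BT.node 2625 (BT.node 2623 (BT.node 2622 (BT.leaf cJ2622) (BT.leaf cJ2623)) (BT.node 2624 (BT.leaf cJ2624) (BT.leaf cJ2625))) (BT.node 2627 (BT.node 2626 (BT.leaf cJ2626) (BT.leaf cJ2627)) (BT.leaf cJ2628))) (BT.node 2631 (BT.node 2630 (BT.node 2629 (BT.leaf cJ2629) (BT.leaf cJ2630)) (BT.leaf cJ2631)) (BT.node 2633 (BT.node 2632 (BT.leaf cJ2632) (BT.leaf cJ2633)) (BT.leaf cJ2634))))))) (BT.node 2687 (BT.node 2661 (BT.node 2648 (BT.node 2641 (BT.node 2638 (BT.node 2636 (BT.node 2635 (BT.leaf cJ2635) (BT.leaf cJ2636)) (BT.node 2637 (BT.leaf cJ2637) (BT.leaf cJ2638))) (BT.node 2640 (BT.node 2639 (BT.leaf cJ2639) (BT.leaf cJ2640)) (BT.leaf cJ2641))) (BT.node 2645 (BT.node 2643 (BT.node 2642 (BT.leaf cJ2642) (BT.leaf cJ2643)) (BT.node 2644 (BT.leaf cJ2644) (BT.leaf cJ2645))) (BT.node 2647 (BT.node 2646 (BT.leaf cJ2646) (BT.leaf cJ2647)) (BT.leaf cJ2648)))) (BT.node 2655 (BT.node 2652 (BT.node 2650 (BT.node 2649 (BT.leaf cJ2649) (BT.leaf cJ2650)) (BT.node 2651 (BT.leaf cJ2651) (BT.leaf cJ2652))) (BT.node 2654 (BT.node 2653 (BT.leaf cJ2653) (BT.leaf cJ2654)) (BT.leaf cJ2655))) (BT.node 2658 (BT.node 2657 (BT.node 2656 (BT.leaf cJ2656) (BT.leaf cJ2657)) (BT.leaf cJ2658)) (BT.node 2660 (BT.node 2659 (BT.leaf cJ2659) (BT.leaf cJ2660)) (BT.leaf cJ2661))))) (BT.node 2674 (BT.node 2668 (BT.node 2665 (BT.node 2663 (BT.node 2662 (BT.leaf cJ2662) (BT.leaf cJ2663)) (BT.node 2664 (BT.leaf cJ2664) (BT.leaf cJ2665))) (BT.node 2667 (BT.node 2666 (BT.leaf cJ2666) (BT.leaf cJ2667)) (BT.leaf cJ2668))) (BT.node 2671 (BT.node 2670 (BT.node 2669 (BT.leaf cJ2669) (BT.leaf cJ2670)) (BT.leaf cJ2671)) (BT.node 2673 (BT.node 2672 (BT.leaf cJ2672) (BT.leaf cJ2673)) (BT.leaf cJ2674)))) (BT.node 2681 (BT.node 2678 (BT.node 2676 (BT.node 2675 (BT.leaf cJ2675) (BT.leaf cJ2676)) (BT.node 2677 (BT.leaf cJ2677) (BT.leaf cJ2678))) (BT.node 2680 (BT.node 2679 (BT.leaf cJ2679) (BT.leaf cJ2680)) (BT.leaf cJ2681))) (BT.node 2684 (BT.node 2683 (BT.node 2682 (BT.leaf cJ2682) (BT.leaf cJ2683)) (BT.leaf cJ2684)) (BT.node 2686 (BT.node 2685 (BT.leaf cJ2685) (BT.leaf cJ2686)) (BT.leaf cJ2687)))))) (BT.node 2713 (BT.node 2700 (BT.node 2694 (BT.node 2691 (BT.node 2689 (BT.node 2688 (BT.leaf cJ2688) (BT.leaf cJ2689)) (BT.node 2690 (BT.leaf cJ2690) (BT.leaf cJ2691))) (BT.node 2693 (BT.node 2692 (BT.leaf cJ2692) (BT.leaf cJ2693)) (BT.leaf cJ2694))) (BT.node 2697 (BT.node 2696 (BT.node 2695 (BT.leaf cJ2695) (BT.leaf cJ2696)) (BT.leaf cJ2697)) (BT.node 2699 (BT.node 2698 (BT.leaf cJ2698) (BT.leaf cJ2699)) (BT.leaf cJ2700)))) (BT.node 2707 (BT.node 2704 (BT.node 2702 (BT.node 2701 (BT.leaf cJ2701) (BT.leaf cJ2702)) (BT.node 2703 (BT.leaf cJ2703) (BT.leaf cJ2704))) (BT.node 2706 (BT.node 2705 (BT.leaf cJ2705) (BT.leaf cJ2706)) (BT.leaf cJ2707))) (BT.node 2710 (BT.node 2709 (BT.node 2708 (BT.leaf cJ2708) (BT.leaf cJ2709)) (BT.leaf cJ2710)) (BT.node 2712 (BT.node 2711 (BT.leaf cJ2711) (BT.leaf cJ2712)) (BT.leaf cJ2713))))) (BT.node 2726 (BT.node 2720 (BT.node 2717 (BT.node 2715 (BT.node 2714 (BT.leaf cJ2714) (BT.leaf cJ2715)) (BT.node 2716 (BT.leaf cJ2716) (BT.leaf cJ2717))) (BT.node 2719 (BT.node 2718 (BT.leaf cJ2718) (BT.leaf cJ2719)) (BT.leaf cJ2720))) (BT.node 2723 (BT.node 2722 (BT.node 2721 (BT.leaf cJ2721) (BT.leaf cJ2722)) (BT.leaf cJ2723)) (BT.node 2725 (BT.node 2724 (BT.leaf cJ2724) (BT.leaf cJ2725)) (BT.leaf cJ2726)))) (BT.node 2733 (BT.node 2730 (BT.node 2728 (BT.node 2727 (BT.leaf cJ2727) (BT.leaf cJ2728)) (BT.node 2729 (BT.leaf cJ2729) (BT.leaf cJ2730))) (BT.node 2732 (BT.node 2731 (BT.leaf cJ2731) (BT.leaf cJ2732)) (BT.leaf cJ2733))) (BT.node 2736 (BT.node 2735 (BT.node 2734 (BT.leaf cJ2734) (BT.leaf cJ2735)) (BT.leaf cJ2736)) (BT.node 2738 (BT.node 2737 (BT.leaf cJ2737) (BT.leaf cJ2738)) (BT.leaf cJ2739)))))))) (BT.node 2845 (BT.node 2792 (BT.node 2766 (BT.node 2753 (BT.node 2746 (BT.node 2743 (BT.node 2741 (BT.node 2740 (BT.leaf cJ2740) (BT.leaf cJ2741)) (BT.node 2742 (BT.leaf cJ2742) (BT.leaf cJ2743))) (BT.node 2745 (BT.node 2744 (BT.leaf cJ2744) (BT.leaf cJ2745)) (BT.leaf cJ2746))) (BT.node 2750 (BT.node 2748 (BT.node 2747 (BT.leaf cJ2747) (BT.leaf cJ2748)) (BT.node 2749 (BT.leaf cJ2749) (BT.leaf cJ2750))) (BT.node 2752 (BT.node 2751 (BT.leaf cJ2751) (BT.leaf cJ2752)) (BT.leaf cJ2753)))) (BT.node 2760 (BT.node 2757 (BT.node 2755 (BT.node 2754 (BT.leaf cJ2754) (BT.leaf cJ2755)) (BT.node 2756 (BT.leaf cJ2756) (BT.leaf cJ2757))) (BT.node 2759 (BT.node 2758 (BT.leaf cJ2758) (BT.leaf cJ2759)) (BT.leaf cJ2760))) (BT.node 2763 (BT.node 2762 (BT.node 2761 (BT.leaf cJ2761) (BT.leaf cJ2762)) (BT.leaf cJ2763)) (BT.node 2765 (BT.node 2764 (BT.leaf cJ2764) (BT.leaf cJ2765)) (BT.leaf cJ2766))))) (BT.node 2779 (BT.node 2773 (BT.node 2770 (BT.node 2768 (BT.node 2767 (BT.leaf cJ2767) (BT.leaf cJ2768)) (BT.node 2769 (BT.leaf cJ2769) (BT.leaf cJ2770))) (BT.node 2772 (BT.node 2771 (BT.leaf cJ2771) (BT.leaf cJ2772)) (BT.leaf cJ2773))) (BT.node 2776 (BT.node 2775 (BT.node 2774 (BT.leaf cJ2774) (BT.leaf cJ2775)) (BT.leaf cJ2776)) (BT.node 2778 (BT.node 2777 (BT.leaf cJ2777) (BT.leaf cJ2778)) (BT.leaf cJ2779)))) (BT.node 2786 (BT.node 2783 (BT.node 2781 (BT.node 2780 (BT.leaf cJ2780) (BT.leaf cJ2781)) (BT.node 2782 (BT.leaf cJ2782) (BT.leaf cJ2783))) (BT.node 2785 (BT.node 2784 (BT.leaf cJ2784) (BT.leaf cJ2785)) (BT.leaf cJ2786))) (BT.node 2789 (BT.node 2788 (BT.node 2787 (BT.leaf cJ2787) (BT.leaf cJ2788)) (BT.leaf cJ2789)) (BT.node 2791 (BT.node 2790 (BT.leaf cJ2790) (BT.leaf cJ2791)) (BT.leaf cJ2792)))))) (BT.node 2819 (BT.node 2806 (BT.node 2799 (BT.node 2796 (BT.node 2794 (BT.node 2793 (BT.leaf cJ2793) (BT.leaf cJ2794)) (BT.node 2795 (BT.leaf cJ2795) (BT.leaf cJ2796))) (BT.node 2798 (BT.node 2797 (BT.leaf cJ2797) (BT.leaf cJ2798)) (BT.leaf cJ2799))) (BT.node 2803 (BT.node 2801 (BT.node 2800 (BT.leaf cJ2800) (BT.leaf cJ2801)) (BT.node 2802 (BT.leaf cJ2802) (BT.leaf cJ2803))) (BT.node 2805 (BT.node 2804 (BT.leaf cJ2804) (BT.leaf cJ2805)) (BT.leaf cJ2806)))) (BT.node 2813 (BT.node 2810 (BT.node 2808 (BT.node 2807 (BT.leaf cJ2807) (BT.leaf cJ2808)) (BT.node 2809 (BT.leaf cJ2809) (BT.leaf cJ2810))) (BT.node 2812 (BT.node 2811 (BT.leaf cJ2811) (BT.leaf cJ2812)) (BT.leaf cJ2813))) (BT.node 2816 (BT.node 2815 (BT.node 2814 (BT.leaf cJ2814) (BT.leaf cJ2815)) (BT.leaf cJ2816)) (BT.node 2818 (BT.node 2817 (BT.leaf cJ2817) (BT.leaf cJ2818)) (BT.leaf cJ2819))))) (BT.node 2832 (BT.node 2826 (BT.node 2823 (BT.node 2821 (BT.node 2820 (BT.leaf cJ2820) (BT.leaf cJ2821)) (BT.node 2822 (BT.leaf cJ2822) (BT.leaf cJ2823))) (BT.node 2825 (BT.node 2824 (BT.leaf cJ2824) (BT.leaf cJ2825)) (BT.leaf cJ2826))) (BT.node 2829 (BT.node 2828 (BT.node 2827 (BT.leaf cJ2827) (BT.leaf cJ2828)) (BT.leaf cJ2829)) (BT.node 2831 (BT.node 2830 (BT.leaf cJ2830) (BT.leaf cJ2831)) (BT.leaf cJ2832)))) (BT.node 2839 (BT.node 2836 (BT.node 2834 (BT.node 2833 (BT.leaf cJ2833) (BT.leaf cJ2834)) (BT.node 2835 (BT.leaf cJ2835) (BT.leaf cJ2836))) (BT.node 2838 (BT.node 2837 (BT.leaf cJ2837) (BT.leaf cJ2838)) (BT.leaf cJ2839))) (BT.node 2842 (BT.node 2841 (BT.node 2840 (BT.leaf cJ2840) (BT.leaf cJ2841)) (BT.leaf cJ2842)) (BT.node 2844 (BT.node 2843 (BT.leaf cJ2843) (BT.leaf cJ2844)) (BT.leaf cJ2845))))))) (BT.node 2898 (BT.node 2872 (BT.node 2859 (BT.node 2852 (BT.node 2849 (BT.node 2847 (BT.node 2846 (BT.leaf cJ2846) (BT.leaf cJ2847)) (BT.node 2848 (BT.leaf cJ2848) (BT.leaf cJ2849))) (BT.node 2851 (BT.node 2850 (BT.leaf cJ2850) (BT.leaf cJ2851)) (BT.leaf cJ2852))) (BT.node 2856 (BT.node 2854 (BT.node 2853 (BT.leaf cJ2853) (BT.leaf cJ2854)) (BT.node 2855 (BT.leaf cJ2855) (BT.leaf cJ2856))) (BT.node 2858 (BT.node 2857 (BT.leaf cJ2857) (BT.leaf cJ2858)) (BT.leaf cJ2859)))) (BT.node 2866 (BT.node 2863 (BT.node 2861 (BT.node 2860 (BT.leaf cJ2860) (BT.leaf cJ2861)) (BT.node 2862 (BT.leaf cJ2862) (BT.leaf cJ2863))) (BT.node 2865 (BT.node 2864 (BT.leaf cJ2864) (BT.leaf cJ2865)) (BT.leaf cJ2866))) (BT.node 2869 (BT.node 2868 (BT.node 2867 (BT.leaf cJ2867) (BT.leaf cJ2868)) (BT.leaf cJ2869)) (BT.node 2871 (BT.node 2870 (BT.leaf cJ2870) (BT.leaf cJ2871)) (BT.leaf cJ2872))))) (BT.node 2885 (BT.node 2879 (BT.node 2876 (BT.node 2874 (BT.node 2873 (BT.leaf cJ2873) (BT.leaf cJ2874)) (BT.node 2875 (BT.leaf cJ2875) (BT.leaf cJ2876))) (BT.node 2878 (BT.node 2877 (BT.leaf cJ2877) (BT.leaf cJ2878)) (BT.leaf cJ2879))) (BT.node 2882 (BT.node 2881 (BT.node 2880 (BT.leaf cJ2880) (BT.leaf cJ2881)) (BT.leaf cJ2882)) (BT.node 2884 (BT.node 2883 (BT.leaf cJ2883) (BT.leaf cJ2884)) (BT.leaf cJ2885)))) (BT.node 2892 (BT.node 2889 (BT.node 2887 (BT.node 2886 (BT.leaf cJ2886) (BT.leaf cJ2887)) (BT.node 2888 (BT.leaf cJ2888) (BT.leaf cJ2889))) (BT.node 2891 (BT.node 2890 (BT.leaf cJ2890) (BT.leaf cJ2891)) (BT.leaf cJ2892))) (BT.node 2895 (BT.node 2894 (BT.node 2893 (BT.leaf cJ2893) (BT.leaf cJ2894)) (BT.leaf cJ2895)) (BT.node 2897 (BT.node 2896 (BT.leaf cJ2896) (BT.leaf cJ2897)) (BT.leaf cJ2898)))))) (BT.node 2924 (BT.node 2911 (BT.node 2905 (BT.node 2902 (BT.node 2900 (BT.node 2899 (BT.leaf cJ2899) (BT.leaf cJ2900)) (BT.node 2901 (BT.leaf cJ2901) (BT.leaf cJ2902))) (BT.node 2904 (BT.node 2903 (BT.leaf cJ2903) (BT.leaf cJ2904)) (BT.leaf cJ2905))) (BT.node 2908 (BT.node 2907 (BT.node 2906 (BT.leaf cJ2906) (BT.leaf cJ2907)) (BT.leaf cJ2908)) (BT.node 2910 (BT.node 2909 (BT.leaf cJ2909) (BT.leaf cJ2910)) (BT.leaf cJ2911)))) (BT.node 2918 (BT.node 2915 (BT.node 2913 (BT.node 2912 (BT.leaf cJ2912) (BT.leaf cJ2913)) (BT.node 2914 (BT.leaf cJ2914) (BT.leaf cJ2915))) (BT.node 2917 (BT.node 2916 (BT.leaf cJ2916) (BT.leaf cJ2917)) (BT.leaf cJ2918))) (BT.node 2921 (BT.node 2920 (BT.node 2919 (BT.leaf cJ2919) (BT.leaf cJ2920)) (BT.leaf cJ2921)) (BT.node 2923 (BT.node 2922 (BT.leaf cJ2922) (BT.leaf cJ2923)) (BT.leaf cJ2924))))) (BT.node 2937 (BT.node 2931 (BT.node 2928 (BT.node 2926 (BT.node 2925 (BT.leaf cJ2925) (BT.leaf cJ2926)) (BT.node 2927 (BT.leaf cJ2927) (BT.leaf cJ2928))) (BT.node 2930 (BT.node 2929 (BT.leaf cJ2929) (BT.leaf cJ2930)) (BT.leaf cJ2931))) (BT.node 2934 (BT.node 2933 (BT.node 2932 (BT.leaf cJ2932) (BT.leaf cJ2933)) (BT.leaf cJ2934)) (BT.node 2936 (BT.node 2935 (BT.leaf cJ2935) (BT.leaf cJ2936)) (BT.leaf cJ2937)))) (BT.node 2944 (BT.node 2941 (BT.node 2939 (BT.node 2938 (BT.leaf cJ2938) (BT.leaf cJ2939)) (BT.node 2940 (BT.leaf cJ2940) (BT.leaf cJ2941))) (BT.node 2943 (BT.node 2942 (BT.leaf cJ2942) (BT.leaf cJ2943)) (BT.leaf cJ2944))) (BT.node 2947 (BT.node 2946 (BT.node 2945 (BT.leaf cJ2945) (BT.leaf cJ2946)) (BT.leaf cJ2947)) (BT.node 2949 (BT.node 2948 (BT.leaf cJ2948) (BT.leaf cJ2949)) (BT.leaf cJ2950))))))))) (BT.node 3161 (BT.node 3056 (BT.node 3003 (BT.node 2977 (BT.node 2964 (BT.node 2957 (BT.node 2954 (BT.node 2952 (BT.node 2951 (BT.leaf cJ2951) (BT.leaf cJ2952)) (BT.node 2953 (BT.leaf cJ2953) (BT.leaf cJ2954))) (BT.node 2956 (BT.node 2955 (BT.leaf cJ2955) (BT.leaf cJ2956)) (BT.leaf cJ2957))) (BT.node 2961 (BT.node 2959 (BT.node 2958 (BT.leaf cJ2958) (BT.leaf cJ2959)) (BT.node 2960 (BT.leaf cJ2960) (BT.leaf cJ2961))) (BT.node 2963 (BT.node 2962 (BT.leaf cJ2962) (BT.leaf cJ2963)) (BT.leaf cJ2964)))) (BT.node 2971 (BT.node 2968 (BT.node 2966 (BT.node 2965 (BT.leaf cJ2965) (BT.leaf cJ2966)) (BT.node 2967 (BT.leaf cJ2967) (BT.leaf cJ2968))) (BT.node 2970 (BT.node 2969 (BT.leaf cJ2969) (BT.leaf cJ2970)) (BT.leaf cJ2971))) (BT.node 2974 (BT.node 2973 (BT.node 2972 (BT.leaf cJ2972) (BT.leaf cJ2973)) (BT.leaf cJ2974)) (BT.node 2976 (BT.node 2975 (BT.leaf cJ2975) (BT.leaf cJ2976)) (BT.leaf cJ2977))))) (BT.node 2990 (BT.node 2984 (BT.node 2981 (BT.node 2979 (BT.node 2978 (BT.leaf cJ2978) (BT.leaf cJ2979)) (BT.node 2980 (BT.leaf cJ2980) (BT.leaf cJ2981))) (BT.node 2983 (BT.node 2982 (BT.leaf cJ2982) (BT.leaf cJ2983)) (BT.leaf cJ2984))) (BT.node 2987 (BT.node 2986 (BT.node 2985 (BT.leaf cJ2985) (BT.leaf cJ2986)) (BT.leaf cJ2987)) (BT.node 2989 (BT.node 2988 (BT.leaf cJ2988) (BT.leaf cJ2989)) (BT.leaf cJ2990)))) (BT.node 2997 (BT.node 2994 (BT.node 2992 (BT.node 2991 (BT.leaf cJ2991) (BT.leaf cJ2992)) (BT.node 2993 (BT.leaf cJ2993) (BT.leaf cJ2994))) (BT.node 2996 (BT.node 2995 (BT.leaf cJ2995) (BT.leaf cJ2996)) (BT.leaf cJ2997))) (BT.node 3000 (BT.node 2999 (BT.node 2998 (BT.leaf cJ2998) (BT.leaf cJ2999)) (BT.leaf cJ3000)) (BT.node 3002 (BT.node 3001 (BT.leaf cJ3001) (BT.leaf cJ3002)) (BT.leaf cJ3003)))))) (BT.node 3030 (BT.node 3017 (BT.node 3010 (BT.node 3007 (BT.node 3005 (BT.node 3004 (BT.leaf cJ3004) (BT.leaf cJ3005)) (BT.node 3006 (BT.leaf cJ3006) (BT.leaf cJ3007))) (BT.node 3009 (BT.node 3008 (BT.leaf cJ3008) (BT.leaf cJ3009)) (BT.leaf cJ3010))) (BT.node 3014 (BT.node 3012 (BT.node 3011 (BT.leaf cJ3011) (BT.leaf cJ3012)) (BT.node 3013 (BT.leaf cJ3013) (BT.leaf cJ3014))) (BT.node 3016 (BT.node 3015 (BT.leaf cJ3015) (BT.leaf cJ3016)) (BT.leaf cJ3017)))) (BT.node 3024 (BT.node 3021 (BT.node 3019 (BT.node 3018 (BT.leaf cJ3018) (BT.leaf cJ3019)) (BT.node 3020 (BT.leaf cJ3020) (BT.leaf cJ3021))) (BT.node 3023 (BT.node 3022 (BT.leaf cJ3022) (BT.leaf cJ3023)) (BT.leaf cJ3024))) (BT.node 3027 (BT.node 3026 (BT.node 3025 (BT.leaf cJ3025) (BT.leaf cJ3026)) (BT.leaf cJ3027)) (BT.node 3029 (BT.node 3028 (BT.leaf cJ3028) (BT.leaf cJ3029)) (BT.leaf cJ3030))))) (BT.node 3043 (BT.node 3037 (BT.node 3034 (BT.node 3032 (BT.node 3031 (BT.leaf cJ3031) (BT.leaf cJ3032)) (BT.node 3033 (BT.leaf cJ3033) (BT.leaf cJ3034))) (BT.node 3036 (BT.node 3035 (BT.leaf cJ3035) (BT.leaf cJ3036)) (BT.leaf cJ3037))) (BT.node 3040 (BT.node 3039 (BT.node 3038 (BT.leaf cJ3038) (BT.leaf cJ3039)) (BT.leaf cJ3040)) (BT.node 3042 (BT.node 3041 (BT.leaf cJ3041) (BT.leaf cJ3042)) (BT.leaf cJ3043)))) (BT.node 3050 (BT.node 3047 (BT.node 3045 (BT.node 3044 (BT.leaf cJ3044) (BT.leaf cJ3045)) (BT.node 3046 (BT.leaf cJ3046) (BT.leaf cJ3047))) (BT.node 3049 (BT.node 3048 (BT.leaf cJ3048) (BT.leaf cJ3049)) (BT.leaf cJ3050))) (BT.node 3053 (BT.node 3052 (BT.node 3051 (BT.leaf cJ3051) (BT.leaf cJ3052)) (BT.leaf cJ3053)) (BT.node 3055 (BT.node 3054 (BT.leaf cJ3054) (BT.leaf cJ3055)) (BT.leaf cJ3056))))))) (BT.node 3109 (BT.node 3083 (BT.node 3070 (BT.node 3063 (BT.node 3060 (BT.node 3058 (BT.node 3057 (BT.leaf cJ3057) (BT.leaf cJ3058)) (BT.node 3059 (BT.leaf cJ3059) (BT.leaf cJ3060))) (BT.node 3062 (BT.node 3061 (BT.leaf cJ3061) (BT.leaf cJ3062)) (BT.leaf cJ3063))) (BT.node 3067 (BT.node 3065 (BT.node 3064 (BT.leaf cJ3064) (BT.leaf cJ3065)) (BT.node 3066 (BT.leaf cJ3066) (BT.leaf cJ3067))) (BT.node 3069 (BT.node 3068 (BT.leaf cJ3068) (BT.leaf cJ3069)) (BT.leaf cJ3070)))) (BT.node 3077 (BT.node 3074 (BT.node 3072 (BT.node 3071 (BT.leaf cJ3071) (BT.leaf cJ3072)) (BT.node 3073 (BT.leaf cJ3073) (BT.leaf cJ3074))) (BT.node 3076 (BT.node 3075 (BT.leaf cJ3075) (BT.leaf cJ3076)) (BT.leaf cJ3077))) (BT.node 3080 (BT.node 3079 (BT.node 3078 (BT.leaf cJ3078) (BT.leaf cJ3079)) (BT.leaf cJ3080)) (BT.node 3082 (BT.node 3081 (BT.leaf cJ3081) (BT.leaf cJ3082)) (BT.leaf cJ3083))))) (BT.node 3096 (BT.node 3090 (BT.node 3087 (BT.node 3085 (BT.node 3084 (BT.leaf cJ3084) (BT.leaf cJ3085)) (BT.node 3086 (BT.leaf cJ3086) (BT.leaf cJ3087))) (BT.node 3089 (BT.node 3088 (BT.leaf cJ3088) (BT.leaf cJ3089)) (BT.leaf cJ3090))) (BT.node 3093 (BT.node 3092 (BT.node 3091 (BT.leaf cJ3091) (BT.leaf cJ3092)) (BT.leaf cJ3093)) (BT.node 3095 (BT.node 3094 (BT.leaf cJ3094) (BT.leaf cJ3095)) (BT.leaf cJ3096)))) (BT.node 3103 (BT.node 3100 (BT.node 3098 (BT.node 3097 (BT.leaf cJ3097) (BT.leaf cJ3098)) (BT.node 3099 (BT.leaf cJ3099) (BT.leaf cJ3100))) (BT.node 3102 (BT.node 3101 (BT.leaf cJ3101) (BT.leaf cJ3102)) (BT.leaf cJ3103))) (BT.node 3106 (BT.node 3105 (BT.node 3104 (BT.leaf cJ3104) (BT.leaf cJ3105)) (BT.leaf cJ3106)) (BT.node 3108 (BT.node 3107 (BT.leaf cJ3107) (BT.leaf cJ3108)) (BT.leaf cJ3109)))))) (BT.node 3135 (BT.node 3122 (BT.node 3116 (BT.node 3113 (BT.node 3111 (BT.node 3110 (BT.leaf cJ3110) (BT.leaf cJ3111)) (BT.node 3112 (BT.leaf cJ3112) (BT.leaf cJ3113))) (BT.node 3115 (BT.node 3114 (BT.leaf cJ3114) (BT.leaf cJ3115)) (BT.leaf cJ3116))) (BT.node 3119 (BT.node 3118 (BT.node 3117 (BT.leaf cJ3117) (BT.leaf cJ3118)) (BT.leaf cJ3119)) (BT.node 3121 (BT.node 3120 (BT.leaf cJ3120) (BT.leaf cJ3121)) (BT.leaf cJ3122)))) (BT.node 3129 (BT.node 3126 (BT.node 3124 (BT.node 3123 (BT.leaf cJ3123) (BT.leaf cJ3124)) (BT.node 3125 (BT.leaf cJ3125) (BT.leaf cJ3126))) (BT.node 3128 (BT.node 3127 (BT.leaf cJ3127) (BT.leaf cJ3128)) (BT.leaf cJ3129))) (BT.node 3132 (BT.node 3131 (BT.node 3130 (BT.leaf cJ3130) (BT.leaf cJ3131)) (BT.leaf cJ3132)) (BT.node 3134 (BT.node 3133 (BT.leaf cJ3133) (BT.leaf cJ3134)) (BT.leaf cJ3135))))) (BT.node 3148 (BT.node 3142 (BT.node 3139 (BT.node 3137 (BT.node 3136 (BT.leaf cJ3136) (BT.leaf cJ3137)) (BT.node 3138 (BT.leaf cJ3138) (BT.leaf cJ3139))) (BT.node 3141 (BT.node 3140 (BT.leaf cJ3140) (BT.leaf cJ3141)) (BT.leaf cJ3142))) (BT.node 3145 (BT.node 3144 (BT.node 3143 (BT.leaf cJ3143) (BT.leaf cJ3144)) (BT.leaf cJ3145)) (BT.node 3147 (BT.node 3146 (BT.leaf cJ3146) (BT.leaf cJ3147)) (BT.leaf cJ3148)))) (BT.node 3155 (BT.node 3152 (BT.node 3150 (BT.node 3149 (BT.leaf cJ3149) (BT.leaf cJ3150)) (BT.node 3151 (BT.leaf cJ3151) (BT.leaf cJ3152))) (BT.node 3154 (BT.node 3153 (BT.leaf cJ3153) (BT.leaf cJ3154)) (BT.leaf cJ3155))) (BT.node 3158 (BT.node 3157 (BT.node 3156 (BT.leaf cJ3156) (BT.leaf cJ3157)) (BT.leaf cJ3158)) (BT.node 3160 (BT.node 3159 (BT.leaf cJ3159) (BT.leaf cJ3160)) (BT.leaf cJ3161)))))))) (BT.node 3266 (BT.node 3214 (BT.node 3188 (BT.node 3175 (BT.node 3168 (BT.node 3165 (BT.node 3163 (BT.node 3162 (BT.leaf cJ3162) (BT.leaf cJ3163)) (BT.node 3164 (BT.leaf cJ3164) (BT.leaf cJ3165))) (BT.node 3167 (BT.node 3166 (BT.leaf cJ3166) (BT.leaf cJ3167)) (BT.leaf cJ3168))) (BT.node 3172 (BT.node 3170 (BT.node 3169 (BT.leaf cJ3169) (BT.leaf cJ3170)) (BT.node 3171 (BT.leaf cJ3171) (BT.leaf cJ3172))) (BT.node 3174 (BT.node 3173 (BT.leaf cJ3173) (BT.leaf cJ3174)) (BT.leaf cJ3175)))) (BT.node 3182 (BT.node 3179 (BT.node 3177 (BT.node 3176 (BT.leaf cJ3176) (BT.leaf cJ3177)) (BT.node 3178 (BT.leaf cJ3178) (BT.leaf cJ3179))) (BT.node 3181 (BT.node 3180 (BT.leaf cJ3180) (BT.leaf cJ3181)) (BT.leaf cJ3182))) (BT.node 3185 (BT.node 3184 (BT.node 3183 (BT.leaf cJ3183) (BT.leaf cJ3184)) (BT.leaf cJ3185)) (BT.node 3187 (BT.node 3186 (BT.leaf cJ3186) (BT.leaf cJ3187)) (BT.leaf cJ3188))))) (BT.node 3201 (BT.node 3195 (BT.node 3192 (BT.node 3190 (BT.node 3189 (BT.leaf cJ3189) (BT.leaf cJ3190)) (BT.node 3191 (BT.leaf cJ3191) (BT.leaf cJ3192))) (BT.node 3194 (BT.node 3193 (BT.leaf cJ3193) (BT.leaf cJ3194)) (BT.leaf cJ3195))) (BT.node 3198 (BT.node 3197 (BT.node 3196 (BT.leaf cJ3196) (BT.leaf cJ3197)) (BT.leaf cJ3198)) (BT.node 3200 (BT.node 3199 (BT.leaf cJ3199) (BT.leaf cJ3200)) (BT.leaf cJ3201)))) (BT.node 3208 (BT.node 3205 (BT.node 3203 (BT.node 3202 (BT.leaf cJ3202) (BT.leaf cJ3203)) (BT.node 3204 (BT.leaf cJ3204) (BT.leaf cJ3205))) (BT.node 3207 (BT.node 3206 (BT.leaf cJ3206) (BT.leaf cJ3207)) (BT.leaf cJ3208))) (BT.node 3211 (BT.node 3210 (BT.node 3209 (BT.leaf cJ3209) (BT.leaf cJ3210)) (BT.leaf cJ3211)) (BT.node 3213 (BT.node 3212 (BT.leaf cJ3212) (BT.leaf cJ3213)) (BT.leaf cJ3214)))))) (BT.node 3240 (BT.node 3227 (BT.node 3221 (BT.node 3218 (BT.node 3216 (BT.node 3215 (BT.leaf cJ3215) (BT.leaf cJ3216)) (BT.node 3217 (BT.leaf cJ3217) (BT.leaf cJ3218))) (BT.node 3220 (BT.node 3219 (BT.leaf cJ3219) (BT.leaf cJ3220)) (BT.leaf cJ3221))) (BT.node 3224 (BT.node 3223 (BT.node 3222 (BT.leaf cJ3222) (BT.leaf cJ3223)) (BT.leaf cJ3224)) (BT.node 3226 (BT.node 3225 (BT.leaf cJ3225) (BT.leaf cJ3226)) (BT.leaf cJ3227)))) (BT.node 3234 (BT.node 3231 (BT.node 3229 (BT.node 3228 (BT.leaf cJ3228) (BT.leaf cJ3229)) (BT.node 3230 (BT.leaf cJ3230) (BT.leaf cJ3231))) (BT.node 3233 (BT.node 3232 (BT.leaf cJ3232) (BT.leaf cJ3233)) (BT.leaf cJ3234))) (BT.node 3237 (BT.node 3236 (BT.node 3235 (BT.leaf cJ3235) (BT.leaf cJ3236)) (BT.leaf cJ3237)) (BT.node 3239 (BT.node 3238 (BT.leaf cJ3238) (BT.leaf cJ3239)) (BT.leaf cJ3240))))) (BT.node 3253 (BT.node 3247 (BT.node 3244 (BT.node 3242 (BT.node 3241 (BT.leaf cJ3241) (BT.leaf cJ3242)) (BT.node 3243 (BT.leaf cJ3243) (BT.leaf cJ3244))) (BT.node 3246 (BT.node 3245 (BT.leaf cJ3245) (BT.leaf cJ3246)) (BT.leaf cJ3247))) (BT.node 3250 (BT.node 3249 (BT.node 3248 (BT.leaf cJ3248) (BT.leaf cJ3249)) (BT.leaf cJ3250)) (BT.node 3252 (BT.node 3251 (BT.leaf cJ3251) (BT.leaf cJ3252)) (BT.leaf cJ3253)))) (BT.node 3260 (BT.node 3257 (BT.node 3255 (BT.node 3254 (BT.leaf cJ3254) (BT.leaf cJ3255)) (BT.node 3256 (BT.leaf cJ3256) (BT.leaf cJ3257))) (BT.node 3259 (BT.node 3258 (BT.leaf cJ3258) (BT.leaf cJ3259)) (BT.leaf cJ3260))) (BT.node 3263 (BT.node 3262 (BT.node 3261 (BT.leaf cJ3261) (BT.leaf cJ3262)) (BT.leaf cJ3263)) (BT.node 3265 (BT.node 3264 (BT.leaf cJ3264) (BT.leaf cJ3265)) (BT.leaf cJ3266))))))) (BT.node 3319 (BT.node 3293 (BT.node 3280 (BT.node 3273 (BT.node 3270 (BT.node 3268 (BT.node 3267 (BT.leaf cJ3267) (BT.leaf cJ3268)) (BT.node 3269 (BT.leaf cJ3269) (BT.leaf cJ3270))) (BT.node 3272 (BT.node 3271 (BT.leaf cJ3271) (BT.leaf cJ3272)) (BT.leaf cJ3273))) (BT.node 3277 (BT.node 3275 (BT.node 3274 (BT.leaf cJ3274) (BT.leaf cJ3275)) (BT.node 3276 (BT.leaf cJ3276) (BT.leaf cJ3277))) (BT.node 3279 (BT.node 3278 (BT.leaf cJ3278) (BT.leaf cJ3279)) (BT.leaf cJ3280)))) (BT.node 3287 (BT.node 3284 (BT.node 3282 (BT.node 3281 (BT.leaf cJ3281) (BT.leaf cJ3282)) (BT.node 3283 (BT.leaf cJ3283) (BT.leaf cJ3284))) (BT.node 3286 (BT.node 3285 (BT.leaf cJ3285) (BT.leaf cJ3286)) (BT.leaf cJ3287))) (BT.node 3290 (BT.node 3289 (BT.node 3288 (BT.leaf cJ3288) (BT.leaf cJ3289)) (BT.leaf cJ3290)) (BT.node 3292 (BT.node 3291 (BT.leaf cJ3291) (BT.leaf cJ3292)) (BT.leaf cJ3293))))) (BT.node 3306 (BT.node 3300 (BT.node 3297 (BT.node 3295 (BT.node 3294 (BT.leaf cJ3294) (BT.leaf cJ3295)) (BT.node 3296 (BT.leaf cJ3296) (BT.leaf cJ3297))) (BT.node 3299 (BT.node 3298 (BT.leaf cJ3298) (BT.leaf cJ3299)) (BT.leaf cJ3300))) (BT.node 3303 (BT.node 3302 (BT.node 3301 (BT.leaf cJ3301) (BT.leaf cJ3302)) (BT.leaf cJ3303)) (BT.node 3305 (BT.node 3304 (BT.leaf cJ3304) (BT.leaf cJ3305)) (BT.leaf cJ3306)))) (BT.node 3313 (BT.node 3310 (BT.node 3308 (BT.node 3307 (BT.leaf cJ3307) (BT.leaf cJ3308)) (BT.node 3309 (BT.leaf cJ3309) (BT.leaf cJ3310))) (BT.node 3312 (BT.node 3311 (BT.leaf cJ3311) (BT.leaf cJ3312)) (BT.leaf cJ3313))) (BT.node 3316 (BT.node 3315 (BT.node 3314 (BT.leaf cJ3314) (BT.leaf cJ3315)) (BT.leaf cJ3316)) (BT.node 3318 (BT.node 3317 (BT.leaf cJ3317) (BT.leaf cJ3318)) (BT.leaf cJ3319)))))) (BT.node 3345 (BT.node 3332 (BT.node 3326 (BT.node 3323 (BT.node 3321 (BT.node 3320 (BT.leaf cJ3320) (BT.leaf cJ3321)) (BT.node 3322 (BT.leaf cJ3322) (BT.leaf cJ3323))) (BT.node 3325 (BT.node 3324 (BT.leaf cJ3324) (BT.leaf cJ3325)) (BT.leaf cJ3326))) (BT.node 3329 (BT.node 3328 (BT.node 3327 (BT.leaf cJ3327) (BT.leaf cJ3328)) (BT.leaf cJ3329)) (BT.node 3331 (BT.node 3330 (BT.leaf cJ3330) (BT.leaf cJ3331)) (BT.leaf cJ3332)))) (BT.node 3339 (BT.node 3336 (BT.node 3334 (BT.node 3333 (BT.leaf cJ3333) (BT.leaf cJ3334)) (BT.node 3335 (BT.leaf cJ3335) (BT.leaf cJ3336))) (BT.node 3338 (BT.node 3337 (BT.leaf cJ3337) (BT.leaf cJ3338)) (BT.leaf cJ3339))) (BT.node 3342 (BT.node 3341 (BT.node 3340 (BT.leaf cJ3340) (BT.leaf cJ3341)) (BT.leaf cJ3342)) (BT.node 3344 (BT.node 3343 (BT.leaf cJ3343) (BT.leaf cJ3344)) (BT.leaf cJ3345))))) (BT.node 3358 (BT.node 3352 (BT.node 3349 (BT.node 3347 (BT.node 3346 (BT.leaf cJ3346) (BT.leaf cJ3347)) (BT.node 3348 (BT.leaf cJ3348) (BT.leaf cJ3349))) (BT.node 3351 (BT.node 3350 (BT.leaf cJ3350) (BT.leaf cJ3351)) (BT.leaf cJ3352))) (BT.node 3355 (BT.node 3354 (BT.node 3353 (BT.leaf cJ3353) (BT.leaf cJ3354)) (BT.leaf cJ3355)) (BT.node 3357 (BT.node 3356 (BT.leaf cJ3356) (BT.leaf cJ3357)) (BT.leaf cJ3358)))) (BT.node 3365 (BT.node 3362 (BT.node 3360 (BT.node 3359 (BT.leaf cJ3359) (BT.leaf cJ3360)) (BT.node 3361 (BT.leaf cJ3361) (BT.leaf cJ3362))) (BT.node 3364 (BT.node 3363 (BT.leaf cJ3363) (BT.leaf cJ3364)) (BT.leaf cJ3365))) (BT.node 3368 (BT.node 3367 (BT.node 3366 (BT.leaf cJ3366) (BT.leaf cJ3367)) (BT.leaf cJ3368)) (BT.node 3370 (BT.node 3369 (BT.leaf cJ3369) (BT.leaf cJ3370)) (BT.leaf cJ3371)))))))))))) (BT.node 5057 (BT.node 4214 (BT.node 3793 (BT.node 3582 (BT.node 3477 (BT.node 3424 (BT.node 3398 (BT.node 3385 (BT.node 3378 (BT.node 3375 (BT.node 3373 (BT.node 3372 (BT.leaf cJ3372) (BT.leaf cJ3373)) (BT.node 3374 (BT.leaf cJ3374) (BT.leaf cJ3375))) (BT.node 3377 (BT.node 3376 (BT.leaf cJ3376) (BT.leaf cJ3377)) (BT.leaf cJ3378))) (BT.node 3382 (BT.node 3380 (BT.node 3379 (BT.leaf cJ3379) (BT.leaf cJ3380)) (BT.node 3381 (BT.leaf cJ3381) (BT.leaf cJ3382))) (BT.node 3384 (BT.node 3383 (BT.leaf cJ3383) (BT.leaf cJ3384)) (BT.leaf cJ3385)))) (BT.node 3392 (BT.node 3389 (BT.node 3387 (BT.node 3386 (BT.leaf cJ3386) (BT.leaf cJ3387)) (BT.node 3388 (BT.leaf cJ3388) (BT.leaf cJ3389))) (BT.node 3391 (BT.node 3390 (BT.leaf cJ3390) (BT.leaf cJ3391)) (BT.leaf cJ3392))) (BT.node 3395 (BT.node 3394 (BT.node 3393 (BT.leaf cJ3393) (BT.leaf cJ3394)) (BT.leaf cJ3395)) (BT.node 3397 (BT.node 3396 (BT.leaf cJ3396) (BT.leaf cJ3397)) (BT.leaf cJ3398))))) (BT.node 3411 (BT.node 3405 (BT.node 3402 (BT.node 3400 (BT.node 3399 (BT.leaf cJ3399) (BT.leaf cJ3400)) (BT.node 3401 (BT.leaf cJ3401) (BT.leaf cJ3402))) (BT.node 3404 (BT.node 3403 (BT.leaf cJ3403) (BT.leaf cJ3404)) (BT.leaf cJ3405))) (BT.node 3408 (BT.node 3407 (BT.node 3406 (BT.leaf cJ3406) (BT.leaf cJ3407)) (BT.leaf cJ3408)) (BT.node 3410 (BT.node 3409 (BT.leaf cJ3409) (BT.leaf cJ3410)) (BT.leaf cJ3411)))) (BT.node 3418 (BT.node 3415 (BT.node 3413 (BT.node 3412 (BT.leaf cJ3412) (BT.leaf cJ3413)) (BT.node 3414 (BT.leaf cJ3414) (BT.leaf cJ3415))) (BT.node 3417 (BT.node 3416 (BT.leaf cJ3416) (BT.leaf cJ3417)) (BT.leaf cJ3418))) (BT.node 3421 (BT.node 3420 (BT.node 3419 (BT.leaf cJ3419) (BT.leaf cJ3420)) (BT.leaf cJ3421)) (BT.node 3423 (BT.node 3422 (BT.leaf cJ3422) (BT.leaf cJ3423)) (BT.leaf cJ3424)))))) (BT.node 3451 (BT.node 3438 (BT.node 3431 (BT.node 3428 (BT.node 3426 (BT.node 3425 (BT.leaf cJ3425) (BT.leaf cJ3426)) (BT.node 3427 (BT.leaf cJ3427) (BT.leaf cJ3428))) (BT.node 3430 (BT.node 3429 (BT.leaf cJ3429) (BT.leaf cJ3430)) (BT.leaf cJ3431))) (BT.node 3435 (BT.node 3433 (BT.node 3432 (BT.leaf cJ3432) (BT.leaf cJ3433)) (BT.node 3434 (BT.leaf cJ3434) (BT.leaf cJ3435))) (BT.node 3437 (BT.node 3436 (BT.leaf cJ3436) (BT.leaf cJ3437)) (BT.leaf cJ3438)))) (BT.node 3445 (BT.node 3442 (BT.node 3440 (BT.node 3439 (BT.leaf cJ3439) (BT.leaf cJ3440)) (BT.node 3441 (BT.leaf cJ3441) (BT.leaf cJ3442))) (BT.node 3444 (BT.node 3443 (BT.leaf cJ3443) (BT.leaf cJ3444)) (BT.leaf cJ3445))) (BT.node 3448 (BT.node 3447 (BT.node 3446 (BT.leaf cJ3446) (BT.leaf cJ3447)) (BT.leaf cJ3448)) (BT.node 3450 (BT.node 3449 (BT.leaf cJ3449) (BT.leaf cJ3450)) (BT.leaf cJ3451))))) (BT.node 3464 (BT.node 3458 (BT.node 3455 (BT.node 3453 (BT.node 3452 (BT.leaf cJ3452) (BT.leaf cJ3453)) (BT.node 3454 (BT.leaf cJ3454) (BT.leaf cJ3455))) (BT.node 3457 (BT.node 3456 (BT.leaf cJ3456) (BT.leaf cJ3457)) (BT.leaf cJ3458))) (BT.node 3461 (BT.node 3460 (BT.node 3459 (BT.leaf cJ3459) (BT.leaf cJ3460)) (BT.leaf cJ3461)) (BT.node 3463 (BT.node 3462 (BT.leaf cJ3462) (BT.leaf cJ3463)) (BT.leaf cJ3464)))) (BT.node 3471 (BT.node 3468 (BT.node 3466 (BT.node 3465 (BT.leaf cJ3465) (BT.leaf cJ3466)) (BT.node 3467 (BT.leaf cJ3467) (BT.leaf cJ3468))) (BT.node 3470 (BT.node 3469 (BT.leaf cJ3469) (BT.leaf cJ3470)) (BT.leaf cJ3471))) (BT.node 3474 (BT.node 3473 (BT.node 3472 (BT.leaf cJ3472) (BT.leaf cJ3473)) (BT.leaf cJ3474)) (BT.node 3476 (BT.node 3475 (BT.leaf cJ3475) (BT.leaf cJ3476)) (BT.leaf cJ3477))))))) (BT.node 3530 (BT.node 3504 (BT.node 3491 (BT.node 3484 (BT.node 3481 (BT.node 3479 (BT.node 3478 (BT.leaf cJ3478) (BT.leaf cJ3479)) (BT.node 3480 (BT.leaf cJ3480) (BT.leaf cJ3481))) (BT.node 3483 (BT.node 3482 (BT.leaf cJ3482) (BT.leaf cJ3483)) (BT.leaf cJ3484))) (BT.node 3488 (BT.node 3486 (BT.node 3485 (BT.leaf cJ3485) (BT.leaf cJ3486)) (BT.node 3487 (BT.leaf cJ3487) (BT.leaf cJ3488))) (BT.node 3490 (BT.node 3489 (BT.leaf cJ3489) (BT.leaf cJ3490)) (BT.leaf cJ3491)))) (BT.node 3498 (BT.node 3495 (BT.node 3493 (BT.node 3492 (BT.leaf cJ3492) (BT.leaf cJ3493)) (BT.node 3494 (BT.leaf cJ3494) (BT.leaf cJ3495))) (BT.node 3497 (BT.node 3496 (BT.leaf cJ3496) (BT.leaf cJ3497)) (BT.leaf cJ3498))) (BT.node 3501 (BT.node 3500 (BT.node 3499 (BT.leaf cJ3499) (BT.leaf cJ3500)) (BT.leaf cJ3501)) (BT.node 3503 (BT.node 3502 (BT.leaf cJ3502) (BT.leaf cJ3503)) (BT.leaf cJ3504))))) (BT.node 3517 (BT.node 3511 (BT.node 3508 (BT.node 3506 (BT.node 3505 (BT.leaf cJ3505) (BT.leaf cJ3506)) (BT.node 3507 (BT.leaf cJ3507) (BT.leaf cJ3508))) (BT.node 3510 (BT.node 3509 (BT.leaf cJ3509) (BT.leaf cJ3510)) (BT.leaf cJ3511))) (BT.node 3514 (BT.node 3513 (BT.node 3512 (BT.leaf cJ3512) (BT.leaf cJ3513)) (BT.leaf cJ3514)) (BT.node 3516 (BT.node 3515 (BT.leaf cJ3515) (BT.leaf cJ3516)) (BT.leaf cJ3517)))) (BT.node 3524 (BT.node 3521 (BT.node 3519 (BT.node 3518 (BT.leaf cJ3518) (BT.leaf cJ3519)) (BT.node 3520 (BT.leaf cJ3520) (BT.leaf cJ3521))) (BT.node 3523 (BT.node 3522 (BT.leaf cJ3522) (BT.leaf cJ3523)) (BT.leaf cJ3524))) (BT.node 3527 (BT.node 3526 (BT.node 3525 (BT.leaf cJ3525) (BT.leaf cJ3526)) (BT.leaf cJ3527)) (BT.node 3529 (BT.node 3528 (BT.leaf cJ3528) (BT.leaf cJ3529)) (BT.leaf cJ3530)))))) (BT.node 3556 (BT.node 3543 (BT.node 3537 (BT.node 3534 (BT.node 3532 (BT.node 3531 (BT.leaf cJ3531) (BT.leaf cJ3532)) (BT.node 3533 (BT.leaf cJ3533) (BT.leaf cJ3534))) (BT.node 3536 (BT.node 3535 (BT.leaf cJ3535) (BT.leaf cJ3536)) (BT.leaf cJ3537))) (BT.node 3540 (BT.node 3539 (BT.node 3538 (BT.leaf cJ3538) (BT.leaf cJ3539)) (BT.leaf cJ3540)) (BT.node 3542 (BT.node 3541 (BT.leaf cJ3541) (BT.leaf cJ3542)) (BT.leaf cJ3543)))) (BT.node 3550 (BT.node 3547 (BT.node 3545 (BT.node 3544 (BT.leaf cJ3544) (BT.leaf cJ3545)) (BT.node 3546 (BT.leaf cJ3546) (BT.leaf cJ3547))) (BT.node 3549 (BT.node 3548 (BT.leaf cJ3548) (BT.leaf cJ3549)) (BT.leaf cJ3550))) (BT.node 3553 (BT.node 3552 (BT.node 3551 (BT.leaf cJ3551) (BT.leaf cJ3552)) (BT.leaf cJ3553)) (BT.node 3555 (BT.node 3554 (BT.leaf cJ3554) (BT.leaf cJ3555)) (BT.leaf cJ3556))))) (BT.node 3569 (BT.node 3563 (BT.node 3560 (BT.node 3558 (BT.node 3557 (BT.leaf cJ3557) (BT.leaf cJ3558)) (BT.node 3559 (BT.leaf cJ3559) (BT.leaf cJ3560))) (BT.node 3562 (BT.node 3561 (BT.leaf cJ3561) (BT.leaf cJ3562)) (BT.leaf cJ3563))) (BT.node 3566 (BT.node 3565 (BT.node 3564 (BT.leaf cJ3564) (BT.leaf cJ3565)) (BT.leaf cJ3566)) (BT.node 3568 (BT.node 3567 (BT.leaf cJ3567) (BT.leaf cJ3568)) (BT.leaf cJ3569)))) (BT.node 3576 (BT.node 3573 (BT.node 3571 (BT.node 3570 (BT.leaf cJ3570) (BT.leaf cJ3571)) (BT.node 3572 (BT.leaf cJ3572) (BT.leaf cJ3573))) (BT.node 3575 (BT.node 3574 (BT.leaf cJ3574) (BT.leaf cJ3575)) (BT.leaf cJ3576))) (BT.node 3579 (BT.node 3578 (BT.node 3577 (BT.leaf cJ3577) (BT.leaf cJ3578)) (BT.leaf cJ3579)) (BT.node 3581 (BT.node 3580 (BT.leaf cJ3580) (BT.leaf cJ3581)) (BT.leaf cJ3582)))))))) (BT.node 3688 (BT.node 3635 (BT.node 3609 (BT.node 3596 (BT.node 3589 (BT.node 3586 (BT.node 3584 (BT.node 3583 (BT.leaf cJ3583) (BT.leaf cJ3584)) (BT.node 3585 (BT.leaf cJ3585) (BT.leaf cJ3586))) (BT.node 3588 (BT.node 3587 (BT.leaf cJ3587) (BT.leaf cJ3588)) (BT.leaf cJ3589))) (BT.node 3593 (BT.node 3591 (BT.node 3590 (BT.leaf cJ3590) (BT.leaf cJ3591)) (BT.node 3592 (BT.leaf cJ3592) (BT.leaf cJ3593))) (BT.node 3595 (BT.node 3594 (BT.leaf cJ3594) (BT.leaf cJ3595)) (BT.leaf cJ3596)))) (BT.node 3603 (BT.node 3600 (BT.node 3598 (BT.node 3597 (BT.leaf cJ3597) (BT.leaf cJ3598)) (BT.node 3599 (BT.leaf cJ3599) (BT.leaf cJ3600))) (BT.node 3602 (BT.node 3601 (BT.leaf cJ3601) (BT.leaf cJ3602)) (BT.leaf cJ3603))) (BT.node 3606 (BT.node 3605 (BT.node 3604 (BT.leaf cJ3604) (BT.leaf cJ3605)) (BT.leaf cJ3606)) (BT.node 3608 (BT.node 3607 (BT.leaf cJ3607) (BT.leaf cJ3608)) (BT.leaf cJ3609))))) (BT.node 3622 (BT.node 3616 (BT.node 3613 (BT.node 3611 (BT.node 3610 (BT.leaf cJ3610) (BT.leaf cJ3611)) (BT.node 3612 (BT.leaf cJ3612) (BT.leaf cJ3613))) (BT.node 3615 (BT.node 3614 (BT.leaf cJ3614) (BT.leaf cJ3615)) (BT.leaf cJ3616))) (BT.node 3619 (BT.node 3618 (BT.node 3617 (BT.leaf cJ3617) (BT.leaf cJ3618)) (BT.leaf cJ3619)) (BT.node 3621 (BT.node 3620 (BT.leaf cJ3620) (BT.leaf cJ3621)) (BT.leaf cJ3622)))) (BT.node 3629 (BT.node 3626 (BT.node 3624 (BT.node 3623 (BT.leaf cJ3623) (BT.leaf cJ3624)) (BT.node 3625 (BT.leaf cJ3625) (BT.leaf cJ3626))) (BT.node 3628 (BT.node 3627 (BT.leaf cJ3627) (BT.leaf cJ3628)) (BT.leaf cJ3629))) (BT.node 3632 (BT.node 3631 (BT.node 3630 (BT.leaf cJ3630) (BT.leaf cJ3631)) (BT.leaf cJ3632)) (BT.node 3634 (BT.node 3633 (BT.leaf cJ3633) (BT.leaf cJ3634)) (BT.leaf cJ3635)))))) (BT.node 3662 (BT.node 3649 (BT.node 3642 (BT.node 3639 (BT.node 3637 (BT.node 3636 (BT.leaf cJ3636) (BT.leaf cJ3637)) (BT.node 3638 (BT.leaf cJ3638) (BT.leaf cJ3639))) (BT.node 3641 (BT.node 3640 (BT.leaf cJ3640) (BT.leaf cJ3641)) (BT.leaf cJ3642))) (BT.node 3646 (BT.node 3644 (BT.node 3643 (BT.leaf cJ3643) (BT.leaf cJ3644)) (BT.node 3645 (BT.leaf cJ3645) (BT.leaf cJ3646))) (BT.node 3648 (BT.node 3647 (BT.leaf cJ3647) (BT.leaf cJ3648)) (BT.leaf cJ3649)))) (BT.node 3656 (BT.node 3653 (BT.node 3651 (BT.node 3650 (BT.leaf cJ3650) (BT.leaf cJ3651)) (BT.node 3652 (BT.leaf cJ3652) (BT.leaf cJ3653))) (BT.node 3655 (BT.node 3654 (BT.leaf cJ3654) (BT.leaf cJ3655)) (BT.leaf cJ3656))) (BT.node 3659 (BT.node 3658 (BT.node 3657 (BT.leaf cJ3657) (BT.leaf cJ3658)) (BT.leaf cJ3659)) (BT.node 3661 (BT.node 3660 (BT.leaf cJ3660) (BT.leaf cJ3661)) (BT.leaf cJ3662))))) (BT.node 3675 (BT.node 3669 (BT.node 3666 (BT.node 3664 (BT.node 3663 (BT.leaf cJ3663) (BT.leaf cJ3664)) (BT.node 3665 (BT.leaf cJ3665) (BT.leaf cJ3666))) (BT.node 3668 (BT.node 3667 (BT.leaf cJ3667) (BT.leaf cJ3668)) (BT.leaf cJ3669))) (BT.node 3672 (BT.node 3671 (BT.node 3670 (BT.leaf cJ3670) (BT.leaf cJ3671)) (BT.leaf cJ3672)) (BT.node 3674 (BT.node 3673 (BT.leaf cJ3673) (BT.leaf cJ3674)) (BT.leaf cJ3675)))) (BT.node 3682 (BT.node 3679 (BT.node 3677 (BT.node 3676 (BT.leaf cJ3676) (BT.leaf cJ3677)) (BT.node 3678 (BT.leaf cJ3678) (BT.leaf cJ3679))) (BT.node 3681 (BT.node 3680 (BT.leaf cJ3680) (BT.leaf cJ3681)) (BT.leaf cJ3682))) (BT.node 3685 (BT.node 3684 (BT.node 3683 (BT.leaf cJ3683) (BT.leaf cJ3684)) (BT.leaf cJ3685)) (BT.node 3687 (BT.node 3686 (BT.leaf cJ3686) (BT.leaf cJ3687)) (BT.leaf cJ3688))))))) (BT.node 3741 (BT.node 3715 (BT.node 3702 (BT.node 3695 (BT.node 3692 (BT.node 3690 (BT.node 3689 (BT.leaf cJ3689) (BT.leaf cJ3690)) (BT.node 3691 (BT.leaf cJ3691) (BT.leaf cJ3692))) (BT.node 3694 (BT.node 3693 (BT.leaf cJ3693) (BT.leaf cJ3694)) (BT.leaf cJ3695))) (BT.node 3699 (BT.node 3697 (BT.node 3696 (BT.leaf cJ3696) (BT.leaf cJ3697)) (BT.node 3698 (BT.leaf cJ3698) (BT.leaf cJ3699))) (BT.node 3701 (BT.node 3700 (BT.leaf cJ3700) (BT.leaf cJ3701)) (BT.leaf cJ3702)))) (BT.node 3709 (BT.node 3706 (BT.node 3704 (BT.node 3703 (BT.leaf cJ3703) (BT.leaf cJ3704)) (BT.node 3705 (BT.leaf cJ3705) (BT.leaf cJ3706))) (BT.node 3708 (BT.node 3707 (BT.leaf cJ3707) (BT.leaf cJ3708)) (BT.leaf cJ3709))) (BT.node 3712 (BT.node 3711 (BT.node 3710 (BT.leaf cJ3710) (BT.leaf cJ3711)) (BT.leaf cJ3712)) (BT.node 3714 (BT.node 3713 (BT.leaf cJ3713) (BT.leaf cJ3714)) (BT.leaf cJ3715))))) (BT.node 3728 (BT.node 3722 (BT.node 3719 (BT.node 3717 (BT.node 3716 (BT.leaf cJ3716) (BT.leaf cJ3717)) (BT.node 3718 (BT.leaf cJ3718) (BT.leaf cJ3719))) (BT.node 3721 (BT.node 3720 (BT.leaf cJ3720) (BT.leaf cJ3721)) (BT.leaf cJ3722))) (BT.node 3725 (BT.node 3724 (BT.node 3723 (BT.leaf cJ3723) (BT.leaf cJ3724)) (BT.leaf cJ3725)) (BT.node 3727 (BT.node 3726 (BT.leaf cJ3726) (BT.leaf cJ3727)) (BT.leaf cJ3728)))) (BT.node 3735 (BT.node 3732 (BT.node 3730 (BT.node 3729 (BT.leaf cJ3729) (BT.leaf cJ3730)) (BT.node 3731 (BT.leaf cJ3731) (BT.leaf cJ3732))) (BT.node 3734 (BT.node 3733 (BT.leaf cJ3733) (BT.leaf cJ3734)) (BT.leaf cJ3735))) (BT.node 3738 (BT.node 3737 (BT.node 3736 (BT.leaf cJ3736) (BT.leaf cJ3737)) (BT.leaf cJ3738)) (BT.node 3740 (BT.node 3739 (BT.leaf cJ3739) (BT.leaf cJ3740)) (BT.leaf cJ3741)))))) (BT.node 3767 (BT.node 3754 (BT.node 3748 (BT.node 3745 (BT.node 3743 (BT.node 3742 (BT.leaf cJ3742) (BT.leaf cJ3743)) (BT.node 3744 (BT.leaf cJ3744) (BT.leaf cJ3745))) (BT.node 3747 (BT.node 3746 (BT.leaf cJ3746) (BT.leaf cJ3747)) (BT.leaf cJ3748))) (BT.node 3751 (BT.node 3750 (BT.node 3749 (BT.leaf cJ3749) (BT.leaf cJ3750)) (BT.leaf cJ3751)) (BT.node 3753 (BT.node 3752 (BT.leaf cJ3752) (BT.leaf cJ3753)) (BT.leaf cJ3754)))) (BT.node 3761 (BT.node 3758 (BT.node 3756 (BT.node 3755 (BT.leaf cJ3755) (BT.leaf cJ3756)) (BT.node 3757 (BT.leaf cJ3757) (BT.leaf cJ3758))) (BT.node 3760 (BT.node 3759 (BT.leaf cJ3759) (BT.leaf cJ3760)) (BT.leaf cJ3761))) (BT.node 3764 (BT.node 3763 (BT.node 3762 (BT.leaf cJ3762) (BT.leaf cJ3763)) (BT.leaf cJ3764)) (BT.node 3766 (BT.node 3765 (BT.leaf cJ3765) (BT.leaf cJ3766)) (BT.leaf cJ3767))))) (BT.node 3780 (BT.node 3774 (BT.node 3771 (BT.node 3769 (BT.node 3768 (BT.leaf cJ3768) (BT.leaf cJ3769)) (BT.node 3770 (BT.leaf cJ3770) (BT.leaf cJ3771))) (BT.node 3773 (BT.node 3772 (BT.leaf cJ3772) (BT.leaf cJ3773)) (BT.leaf cJ3774))) (BT.node 3777 (BT.node 3776 (BT.node 3775 (BT.leaf cJ3775) (BT.leaf cJ3776)) (BT.leaf cJ3777)) (BT.node 3779 (BT.node 3778 (BT.leaf cJ3778) (BT.leaf cJ3779)) (BT.leaf cJ3780)))) (BT.node 3787 (BT.node 3784 (BT.node 3782 (BT.node 3781 (BT.leaf cJ3781) (BT.leaf cJ3782)) (BT.node 3783 (BT.leaf cJ3783) (BT.leaf cJ3784))) (BT.node 3786 (BT.node 3785 (BT.leaf cJ3785) (BT.leaf cJ3786)) (BT.leaf cJ3787))) (BT.node 3790 (BT.node 3789 (BT.node 3788 (BT.leaf cJ3788) (BT.leaf cJ3789)) (BT.leaf cJ3790)) (BT.node 3792 (BT.node 3791 (BT.leaf cJ3791) (BT.leaf cJ3792)) (BT.leaf cJ3793))))))))) (BT.node 4004 (BT.node 3899 (BT.node 3846 (BT.node 3820 (BT.node 3807 (BT.node 3800 (BT.node 3797 (BT.node 3795 (BT.node 3794 (BT.leaf cJ3794) (BT.leaf cJ3795)) (BT.node 3796 (BT.leaf cJ3796) (BT.leaf cJ3797))) (BT.node 3799 (BT.node 3798 (BT.leaf cJ3798) (BT.leaf cJ3799)) (BT.leaf cJ3800))) (BT.node 3804 (BT.node 3802 (BT.node 3801 (BT.leaf cJ3801) (BT.leaf cJ3802)) (BT.node 3803 (BT.leaf cJ3803) (BT.leaf cJ3804))) (BT.node 3806 (BT.node 3805 (BT.leaf cJ3805) (BT.leaf cJ3806)) (BT.leaf cJ3807)))) (BT.node 3814 (BT.node 3811 (BT.node 3809 (BT.node 3808 (BT.leaf cJ3808) (BT.leaf cJ3809)) (BT.node 3810 (BT.leaf cJ3810) (BT.leaf cJ3811))) (BT.node 3813 (BT.node 3812 (BT.leaf cJ3812) (BT.leaf cJ3813)) (BT.leaf cJ3814))) (BT.node 3817 (BT.node 3816 (BT.node 3815 (BT.leaf cJ3815) (BT.leaf cJ3816)) (BT.leaf cJ3817)) (BT.node 3819 (BT.node 3818 (BT.leaf cJ3818) (BT.leaf cJ3819)) (BT.leaf cJ3820))))) (BT.node 3833 (BT.node 3827 (BT.node 3824 (BT.node 3822 (BT.node 3821 (BT.leaf cJ3821) (BT.leaf cJ3822)) (BT.node 3823 (BT.leaf cJ3823) (BT.leaf cJ3824))) (BT.node 3826 (BT.node 3825 (BT.leaf cJ3825) (BT.leaf cJ3826)) (BT.leaf cJ3827))) (BT.node 3830 (BT.node 3829 (BT.node 3828 (BT.leaf cJ3828) (BT.leaf cJ3829)) (BT.leaf cJ3830)) (BT.node 3832 (BT.node 3831 (BT.leaf cJ3831) (BT.leaf cJ3832)) (BT.leaf cJ3833)))) (BT.node 3840 (BT.node 3837 (BT.node 3835 (BT.node 3834 (BT.leaf cJ3834) (BT.leaf cJ3835)) (BT.node 3836 (BT.leaf cJ3836) (BT.leaf cJ3837))) (BT.node 3839 (BT.node 3838 (BT.leaf cJ3838) (BT.leaf cJ3839)) (BT.leaf cJ3840))) (BT.node 3843 (BT.node 3842 (BT.node 3841 (BT.leaf cJ3841) (BT.leaf cJ3842)) (BT.leaf cJ3843)) (BT.node 3845 (BT.node 3844 (BT.leaf cJ3844) (BT.leaf cJ3845)) (BT.leaf cJ3846)))))) (BT.node 3873 (BT.node 3860 (BT.node 3853 (BT.node 3850 (BT.node 3848 (BT.node 3847 (BT.leaf cJ3847) (BT.leaf cJ3848)) (BT.node 3849 (BT.leaf cJ3849) (BT.leaf cJ3850))) (BT.node 3852 (BT.node 3851 (BT.leaf cJ3851) (BT.leaf cJ3852)) (BT.leaf cJ3853))) (BT.node 3857 (BT.node 3855 (BT.node 3854 (BT.leaf cJ3854) (BT.leaf cJ3855)) (BT.node 3856 (BT.leaf cJ3856) (BT.leaf cJ3857))) (BT.node 3859 (BT.node 3858 (BT.leaf cJ3858) (BT.leaf cJ3859)) (BT.leaf cJ3860)))) (BT.node 3867 (BT.node 3864 (BT.node 3862 (BT.node 3861 (BT.leaf cJ3861) (BT.leaf cJ3862)) (BT.node 3863 (BT.leaf cJ3863) (BT.leaf cJ3864))) (BT.node 3866 (BT.node 3865 (BT.leaf cJ3865) (BT.leaf cJ3866)) (BT.leaf cJ3867))) (BT.node 3870 (BT.node 3869 (BT.node 3868 (BT.leaf cJ3868) (BT.leaf cJ3869)) (BT.leaf cJ3870)) (BT.node 3872 (BT.node 3871 (BT.leaf cJ3871) (BT.leaf cJ3872)) (BT.leaf cJ3873))))) (BT.node 3886 (BT.node 3880 (BT.node 3877 (BT.node 3875 (BT.node 3874 (BT.leaf cJ3874) (BT.leaf cJ3875)) (BT.node 3876 (BT.leaf cJ3876) (BT.leaf cJ3877))) (BT.node 3879 (BT.node 3878 (BT.leaf cJ3878) (BT.leaf cJ3879)) (BT.leaf cJ3880))) (BT.node 3883 (BT.node 3882 (BT.node 3881 (BT.leaf cJ3881) (BT.leaf cJ3882)) (BT.leaf cJ3883)) (BT.node 3885 (BT.node 3884 (BT.leaf cJ3884) (BT.leaf cJ3885)) (BT.leaf cJ3886)))) (BT.node 3893 (BT.node 3890 (BT.node 3888 (BT.node 3887 (BT.leaf cJ3887) (BT.leaf cJ3888)) (BT.node 3889 (BT.leaf cJ3889) (BT.leaf cJ3890))) (BT.node 3892 (BT.node 3891 (BT.leaf cJ3891) (BT.leaf cJ3892)) (BT.leaf cJ3893))) (BT.node 3896 (BT.node 3895 (BT.node 3894 (BT.leaf cJ3894) (BT.leaf cJ3895)) (BT.leaf cJ3896)) (BT.node 3898 (BT.node 3897 (BT.leaf cJ3897) (BT.leaf cJ3898)) (BT.leaf cJ3899))))))) (BT.node 3952 (BT.node 3926 (BT.node 3913 (BT.node 3906 (BT.node 3903 (BT.node 3901 (BT.node 3900 (BT.leaf cJ3900) (BT.leaf cJ3901)) (BT.node 3902 (BT.leaf cJ3902) (BT.leaf cJ3903))) (BT.node 3905 (BT.node 3904 (BT.leaf cJ3904) (BT.leaf cJ3905)) (BT.leaf cJ3906))) (BT.node 3910 (BT.node 3908 (BT.node 3907 (BT.leaf cJ3907) (BT.leaf cJ3908)) (BT.node 3909 (BT.leaf cJ3909) (BT.leaf cJ3910))) (BT.node 3912 (BT.node 3911 (BT.leaf cJ3911) (BT.leaf cJ3912)) (BT.leaf cJ3913)))) (BT.node 3920 (BT.node 3917 (BT.node 3915 (BT.node 3914 (BT.leaf cJ3914) (BT.leaf cJ3915)) (BT.node 3916 (BT.leaf cJ3916) (BT.leaf cJ3917))) (BT.node 3919 (BT.node 3918 (BT.leaf cJ3918) (BT.leaf cJ3919)) (BT.leaf cJ3920))) (BT.node 3923 (BT.node 3922 (BT.node 3921 (BT.leaf cJ3921) (BT.leaf cJ3922)) (BT.leaf cJ3923)) (BT.node 3925 (BT.node 3924 (BT.leaf cJ3924) (BT.leaf cJ3925)) (BT.leaf cJ3926))))) (BT.node 3939 (BT.node 3933 (BT.node 3930 (BT.node 3928 (BT.node 3927 (BT.leaf cJ3927) (BT.leaf cJ3928)) (BT.node 3929 (BT.leaf cJ3929) (BT.leaf cJ3930))) (BT.node 3932 (BT.node 3931 (BT.leaf cJ3931) (BT.leaf cJ3932)) (BT.leaf cJ3933))) (BT.node 3936 (BT.node 3935 (BT.node 3934 (BT.leaf cJ3934) (BT.leaf cJ3935)) (BT.leaf cJ3936)) (BT.node 3938 (BT.node 3937 (BT.leaf cJ3937) (BT.leaf cJ3938)) (BT.leaf cJ3939)))) (BT.node 3946 (BT.node 3943 (BT.node 3941 (BT.node 3940 (BT.leaf cJ3940) (BT.leaf cJ3941)) (BT.node 3942 (BT.leaf cJ3942) (BT.leaf cJ3943))) (BT.node 3945 (BT.node 3944 (BT.leaf cJ3944) (BT.leaf cJ3945)) (BT.leaf cJ3946))) (BT.node 3949 (BT.node 3948 (BT.node 3947 (BT.leaf cJ3947) (BT.leaf cJ3948)) (BT.leaf cJ3949)) (BT.node 3951 (BT.node 3950 (BT.leaf cJ3950) (BT.leaf cJ3951)) (BT.leaf cJ3952)))))) (BT.node 3978 (BT.node 3965 (BT.node 3959 (BT.node 3956 (BT.node 3954 (BT.node 3953 (BT.leaf cJ3953) (BT.leaf cJ3954)) (BT.node 3955 (BT.leaf cJ3955) (BT.leaf cJ3956))) (BT.node 3958 (BT.node 3957 (BT.leaf cJ3957) (BT.leaf cJ3958)) (BT.leaf cJ3959))) (BT.node 3962 (BT.node 3961 (BT.node 3960 (BT.leaf cJ3960) (BT.leaf cJ3961)) (BT.leaf cJ3962)) (BT.node 3964 (BT.node 3963 (BT.leaf cJ3963) (BT.leaf cJ3964)) (BT.leaf cJ3965)))) (BT.node 3972 (BT.node 3969 (BT.node 3967 (BT.node 3966 (BT.leaf cJ3966) (BT.leaf cJ3967)) (BT.node 3968 (BT.leaf cJ3968) (BT.leaf cJ3969))) (BT.node 3971 (BT.node 3970 (BT.leaf cJ3970) (BT.leaf cJ3971)) (BT.leaf cJ3972))) (BT.node 3975 (BT.node 3974 (BT.node 3973 (BT.leaf cJ3973) (BT.leaf cJ3974)) (BT.leaf cJ3975)) (BT.node 3977 (BT.node 3976 (BT.leaf cJ3976) (BT.leaf cJ3977)) (BT.leaf cJ3978))))) (BT.node 3991 (BT.node 3985 (BT.node 3982 (BT.node 3980 (BT.node 3979 (BT.leaf cJ3979) (BT.leaf cJ3980)) (BT.node 3981 (BT.leaf cJ3981) (BT.leaf cJ3982))) (BT.node 3984 (BT.node 3983 (BT.leaf cJ3983) (BT.leaf cJ3984)) (BT.leaf cJ3985))) (BT.node 3988 (BT.node 3987 (BT.node 3986 (BT.leaf cJ3986) (BT.leaf cJ3987)) (BT.leaf cJ3988)) (BT.node 3990 (BT.node 3989 (BT.leaf cJ3989) (BT.leaf cJ3990)) (BT.leaf cJ3991)))) (BT.node 3998 (BT.node 3995 (BT.node 3993 (BT.node 3992 (BT.leaf cJ3992) (BT.leaf cJ3993)) (BT.node 3994 (BT.leaf cJ3994) (BT.leaf cJ3995))) (BT.node 3997 (BT.node 3996 (BT.leaf cJ3996) (BT.leaf cJ3997)) (BT.leaf cJ3998))) (BT.node 4001 (BT.node 4000 (BT.node 3999 (BT.leaf cJ3999) (BT.leaf cJ4000)) (BT.leaf cJ4001)) (BT.node 4003 (BT.node 4002 (BT.leaf cJ4002) (BT.leaf cJ4003)) (BT.leaf cJ4004)))))))) (BT.node 4109 (BT.node 4057 (BT.node 4031 (BT.node 4018 (BT.node 4011 (BT.node 4008 (BT.node 4006 (BT.node 4005 (BT.leaf cJ4005) (BT.leaf cJ4006)) (BT.node 4007 (BT.leaf cJ4007) (BT.leaf cJ4008))) (BT.node 4010 (BT.node 4009 (BT.leaf cJ4009) (BT.leaf cJ4010)) (BT.leaf cJ4011))) (BT.node 4015 (BT.node 4013 (BT.node 4012 (BT.leaf cJ4012) (BT.leaf cJ4013)) (BT.node 4014 (BT.leaf cJ4014) (BT.leaf cJ4015))) (BT.node 4017 (BT.node 4016 (BT.leaf cJ4016) (BT.leaf cJ4017)) (BT.leaf cJ4018)))) (BT.node 4025 (BT.node 4022 (BT.node 4020 (BT.node 4019 (BT.leaf cJ4019) (BT.leaf cJ4020)) (BT.node 4021 (BT.leaf cJ4021) (BT.leaf cJ4022))) (BT.node 4024 (BT.node 4023 (BT.leaf cJ4023) (BT.leaf cJ4024)) (BT.leaf cJ4025))) (BT.node 4028 (BT.node 4027 (BT.node 4026 (BT.leaf cJ4026) (BT.leaf cJ4027)) (BT.leaf cJ4028)) (BT.node 4030 (BT.node 4029 (BT.leaf cJ4029) (BT.leaf cJ4030)) (BT.leaf cJ4031))))) (BT.node 4044 (BT.node 4038 (BT.node 4035 (BT.node 4033 (BT.node 4032 (BT.leaf cJ4032) (BT.leaf cJ4033)) (BT.node 4034 (BT.leaf cJ4034) (BT.leaf cJ4035))) (BT.node 4037 (BT.node 4036 (BT.leaf cJ4036) (BT.leaf cJ4037)) (BT.leaf cJ4038))) (BT.node 4041 (BT.node 4040 (BT.node 4039 (BT.leaf cJ4039) (BT.leaf cJ4040)) (BT.leaf cJ4041)) (BT.node 4043 (BT.node 4042 (BT.leaf cJ4042) (BT.leaf cJ4043)) (BT.leaf cJ4044)))) (BT.node 4051 (BT.node 4048 (BT.node 4046 (BT.node 4045 (BT.leaf cJ4045) (BT.leaf cJ4046)) (BT.node 4047 (BT.leaf cJ4047) (BT.leaf cJ4048))) (BT.node 4050 (BT.node 4049 (BT.leaf cJ4049) (BT.leaf cJ4050)) (BT.leaf cJ4051))) (BT.node 4054 (BT.node 4053 (BT.node 4052 (BT.leaf cJ4052) (BT.leaf cJ4053)) (BT.leaf cJ4054)) (BT.node 4056 (BT.node 4055 (BT.leaf cJ4055) (BT.leaf cJ4056)) (BT.leaf cJ4057)))))) (BT.node 4083 (BT.node 4070 (BT.node 4064 (BT.node 4061 (BT.node 4059 (BT.node 4058 (BT.leaf cJ4058) (BT.leaf cJ4059)) (BT.node 4060 (BT.leaf cJ4060) (BT.leaf cJ4061))) (BT.node 4063 (BT.node 4062 (BT.leaf cJ4062) (BT.leaf cJ4063)) (BT.leaf cJ4064))) (BT.node 4067 (BT.node 4066 (BT.node 4065 (BT.leaf cJ4065) (BT.leaf cJ4066)) (BT.leaf cJ4067)) (BT.node 4069 (BT.node 4068 (BT.leaf cJ4068) (BT.leaf cJ4069)) (BT.leaf cJ4070)))) (BT.node 4077 (BT.node 4074 (BT.node 4072 (BT.node 4071 (BT.leaf cJ4071) (BT.leaf cJ4072)) (BT.node 4073 (BT.leaf cJ4073) (BT.leaf cJ4074))) (BT.node 4076 (BT.node 4075 (BT.leaf cJ4075) (BT.leaf cJ4076)) (BT.leaf cJ4077))) (BT.node 4080 (BT.node 4079 (BT.node 4078 (BT.leaf cJ4078) (BT.leaf cJ4079)) (BT.leaf cJ4080)) (BT.node 4082 (BT.node 4081 (BT.leaf cJ4081) (BT.leaf cJ4082)) (BT.leaf cJ4083))))) (BT.node 4096 (BT.node 4090 (BT.node 4087 (BT.node 4085 (BT.node 4084 (BT.leaf cJ4084) (BT.leaf cJ4085)) (BT.node 4086 (BT.leaf cJ4086) (BT.leaf cJ4087))) (BT.node 4089 (BT.node 4088 (BT.leaf cJ4088) (BT.leaf cJ4089)) (BT.leaf cJ4090))) (BT.node 4093 (BT.node 4092 (BT.node 4091 (BT.leaf cJ4091) (BT.leaf cJ4092)) (BT.leaf cJ4093)) (BT.node 4095 (BT.node 4094 (BT.leaf cJ4094) (BT.leaf cJ4095)) (BT.leaf cJ4096)))) (BT.node 4103 (BT.node 4100 (BT.node 4098 (BT.node 4097 (BT.leaf cJ4097) (BT.leaf cJ4098)) (BT.node 4099 (BT.leaf cJ4099) (BT.leaf cJ4100))) (BT.node 4102 (BT.node 4101 (BT.leaf cJ4101) (BT.leaf cJ4102)) (BT.leaf cJ4103))) (BT.node 4106 (BT.node 4105 (BT.node 4104 (BT.leaf cJ4104) (BT.leaf cJ4105)) (BT.leaf cJ4106)) (BT.node 4108 (BT.node 4107 (BT.leaf cJ4107) (BT.leaf cJ4108)) (BT.leaf cJ4109))))))) (BT.node 4162 (BT.node 4136 (BT.node 4123 (BT.node 4116 (BT.node 4113 (BT.node 4111 (BT.node 4110 (BT.leaf cJ4110) (BT.leaf cJ4111)) (BT.node 4112 (BT.leaf cJ4112) (BT.leaf cJ4113))) (BT.node 4115 (BT.node 4114 (BT.leaf cJ4114) (BT.leaf cJ4115)) (BT.leaf cJ4116))) (BT.node 4120 (BT.node 4118 (BT.node 4117 (BT.leaf cJ4117) (BT.leaf cJ4118)) (BT.node 4119 (BT.leaf cJ4119) (BT.leaf cJ4120))) (BT.node 4122 (BT.node 4121 (BT.leaf cJ4121) (BT.leaf cJ4122)) (BT.leaf cJ4123)))) (BT.node 4130 (BT.node 4127 (BT.node 4125 (BT.node 4124 (BT.leaf cJ4124) (BT.leaf cJ4125)) (BT.node 4126 (BT.leaf cJ4126) (BT.leaf cJ4127))) (BT.node 4129 (BT.node 4128 (BT.leaf cJ4128) (BT.leaf cJ4129)) (BT.leaf cJ4130))) (BT.node 4133 (BT.node 4132 (BT.node 4131 (BT.leaf cJ4131) (BT.leaf cJ4132)) (BT.leaf cJ4133)) (BT.node 4135 (BT.node 4134 (BT.leaf cJ4134) (BT.leaf cJ4135)) (BT.leaf cJ4136))))) (BT.node 4149 (BT.node 4143 (BT.node 4140 (BT.node 4138 (BT.node 4137 (BT.leaf cJ4137) (BT.leaf cJ4138)) (BT.node 4139 (BT.leaf cJ4139) (BT.leaf cJ4140))) (BT.node 4142 (BT.node 4141 (BT.leaf cJ4141) (BT.leaf cJ4142)) (BT.leaf cJ4143))) (BT.node 4146 (BT.node 4145 (BT.node 4144 (BT.leaf cJ4144) (BT.leaf cJ4145)) (BT.leaf cJ4146)) (BT.node 4148 (BT.node 4147 (BT.leaf cJ4147) (BT.leaf cJ4148)) (BT.leaf cJ4149)))) (BT.node 4156 (BT.node 4153 (BT.node 4151 (BT.node 4150 (BT.leaf cJ4150) (BT.leaf cJ4151)) (BT.node 4152 (BT.leaf cJ4152) (BT.leaf cJ4153))) (BT.node 4155 (BT.node 4154 (BT.leaf cJ4154) (BT.leaf cJ4155)) (BT.leaf cJ4156))) (BT.node 4159 (BT.node 4158 (BT.node 4157 (BT.leaf cJ4157) (BT.leaf cJ4158)) (BT.leaf cJ4159)) (BT.node 4161 (BT.node 4160 (BT.leaf cJ4160) (BT.leaf cJ4161)) (BT.leaf cJ4162)))))) (BT.node 4188 (BT.node 4175 (BT.node 4169 (BT.node 4166 (BT.node 4164 (BT.node 4163 (BT.leaf cJ4163) (BT.leaf cJ4164)) (BT.node 4165 (BT.leaf cJ4165) (BT.leaf cJ4166))) (BT.node 4168 (BT.node 4167 (BT.leaf cJ4167) (BT.leaf cJ4168)) (BT.leaf cJ4169))) (BT.node 4172 (BT.node 4171 (BT.node 4170 (BT.leaf cJ4170) (BT.leaf cJ4171)) (BT.leaf cJ4172)) (BT.node 4174 (BT.node 4173 (BT.leaf cJ4173) (BT.leaf cJ4174)) (BT.leaf cJ4175)))) (BT.node 4182 (BT.node 4179 (BT.node 4177 (BT.node 4176 (BT.leaf cJ4176) (BT.leaf cJ4177)) (BT.node 4178 (BT.leaf cJ4178) (BT.leaf cJ4179))) (BT.node 4181 (BT.node 4180 (BT.leaf cJ4180) (BT.leaf cJ4181)) (BT.leaf cJ4182))) (BT.node 4185 (BT.node 4184 (BT.node 4183 (BT.leaf cJ4183) (BT.leaf cJ4184)) (BT.leaf cJ4185)) (BT.node 4187 (BT.node 4186 (BT.leaf cJ4186) (BT.leaf cJ4187)) (BT.leaf cJ4188))))) (BT.node 4201 (BT.node 4195 (BT.node 4192 (BT.node 4190 (BT.node 4189 (BT.leaf cJ4189) (BT.leaf cJ4190)) (BT.node 4191 (BT.leaf cJ4191) (BT.leaf cJ4192))) (BT.node 4194 (BT.node 4193 (BT.leaf cJ4193) (BT.leaf cJ4194)) (BT.leaf cJ4195))) (BT.node 4198 (BT.node 4197 (BT.node 4196 (BT.leaf cJ4196) (BT.leaf cJ4197)) (BT.leaf cJ4198)) (BT.node 4200 (BT.node 4199 (BT.leaf cJ4199) (BT.leaf cJ4200)) (BT.leaf cJ4201)))) (BT.node 4208 (BT.node 4205 (BT.node 4203 (BT.node 4202 (BT.leaf cJ4202) (BT.leaf cJ4203)) (BT.node 4204 (BT.leaf cJ4204) (BT.leaf cJ4205))) (BT.node 4207 (BT.node 4206 (BT.leaf cJ4206) (BT.leaf cJ4207)) (BT.leaf cJ4208))) (BT.node 4211 (BT.node 4210 (BT.node 4209 (BT.leaf cJ4209) (BT.leaf cJ4210)) (BT.leaf cJ4211)) (BT.node 4213 (BT.node 4212 (BT.leaf cJ4212) (BT.leaf cJ4213)) (BT.leaf cJ4214)))))))))) (BT.node 4636 (BT.node 4425 (BT.node 4320 (BT.node 4267 (BT.node 4241 (BT.node 4228 (BT.node 4221 (BT.node 4218 (BT.node 4216 (BT.node 4215 (BT.leaf cJ4215) (BT.leaf cJ4216)) (BT.node 4217 (BT.leaf cJ4217) (BT.leaf cJ4218))) (BT.node 4220 (BT.node 4219 (BT.leaf cJ4219) (BT.leaf cJ4220)) (BT.leaf cJ4221))) (BT.node 4225 (BT.node 4223 (BT.node 4222 (BT.leaf cJ4222) (BT.leaf cJ4223)) (BT.node 4224 (BT.leaf cJ4224) (BT.leaf cJ4225))) (BT.node 4227 (BT.node 4226 (BT.leaf cJ4226) (BT.leaf cJ4227)) (BT.leaf cJ4228)))) (BT.node 4235 (BT.node 4232 (BT.node 4230 (BT.node 4229 (BT.leaf cJ4229) (BT.leaf cJ4230)) (BT.node 4231 (BT.leaf cJ4231) (BT.leaf cJ4232))) (BT.node 4234 (BT.node 4233 (BT.leaf cJ4233) (BT.leaf cJ4234)) (BT.leaf cJ4235))) (BT.node 4238 (BT.node 4237 (BT.node 4236 (BT.leaf cJ4236) (BT.leaf cJ4237)) (BT.leaf cJ4238)) (BT.node 4240 (BT.node 4239 (BT.leaf cJ4239) (BT.leaf cJ4240)) (BT.leaf cJ4241))))) (BT.node 4254 (BT.node 4248 (BT.node 4245 (BT.node 4243 (BT.node 4242 (BT.leaf cJ4242) (BT.leaf cJ4243)) (BT.node 4244 (BT.leaf cJ4244) (BT.leaf cJ4245))) (BT.node 4247 (BT.node 4246 (BT.leaf cJ4246) (BT.leaf cJ4247)) (BT.leaf cJ4248))) (BT.node 4251 (BT.node 4250 (BT.node 4249 (BT.leaf cJ4249) (BT.leaf cJ4250)) (BT.leaf cJ4251)) (BT.node 4253 (BT.node 4252 (BT.leaf cJ4252) (BT.leaf cJ4253)) (BT.leaf cJ4254)))) (BT.node 4261 (BT.node 4258 (BT.node 4256 (BT.node 4255 (BT.leaf cJ4255) (BT.leaf cJ4256)) (BT.node 4257 (BT.leaf cJ4257) (BT.leaf cJ4258))) (BT.node 4260 (BT.node 4259 (BT.leaf cJ4259) (BT.leaf cJ4260)) (BT.leaf cJ4261))) (BT.node 4264 (BT.node 4263 (BT.node 4262 (BT.leaf cJ4262) (BT.leaf cJ4263)) (BT.leaf cJ4264)) (BT.node 4266 (BT.node 4265 (BT.leaf cJ4265) (BT.leaf cJ4266)) (BT.leaf cJ4267)))))) (BT.node 4294 (BT.node 4281 (BT.node 4274 (BT.node 4271 (BT.node 4269 (BT.node 4268 (BT.leaf cJ4268) (BT.leaf cJ4269)) (BT.node 4270 (BT.leaf cJ4270) (BT.leaf cJ4271))) (BT.node 4273 (BT.node 4272 (BT.leaf cJ4272) (BT.leaf cJ4273)) (BT.leaf cJ4274))) (BT.node 4278 (BT.node 4276 (BT.node 4275 (BT.leaf cJ4275) (BT.leaf cJ4276)) (BT.node 4277 (BT.leaf cJ4277) (BT.leaf cJ4278))) (BT.node 4280 (BT.node 4279 (BT.leaf cJ4279) (BT.leaf cJ4280)) (BT.leaf cJ4281)))) (BT.node 4288 (BT.node 4285 (BT.node 4283 (BT.node 4282 (BT.leaf cJ4282) (BT.leaf cJ4283)) (BT.node 4284 (BT.leaf cJ4284) (BT.leaf cJ4285))) (BT.node 4287 (BT.node 4286 (BT.leaf cJ4286) (BT.leaf cJ4287)) (BT.leaf cJ4288))) (BT.node 4291 (BT.node 4290 (BT.node 4289 (BT.leaf cJ4289) (BT.leaf cJ4290)) (BT.leaf cJ4291)) (BT.node 4293 (BT.node 4292 (BT.leaf cJ4292) (BT.leaf cJ4293)) (BT.leaf cJ4294))))) (BT.node 4307 (BT.node 4301 (BT.node 4298 (BT.node 4296 (BT.node 4295 (BT.leaf cJ4295) (BT.leaf cJ4296)) (BT.node 4297 (BT.leaf cJ4297) (BT.leaf cJ4298))) (BT.node 4300 (BT.node 4299 (BT.leaf cJ4299) (BT.leaf cJ4300)) (BT.leaf cJ4301))) (BT.node 4304 (BT.node 4303 (BT.node 4302 (BT.leaf cJ4302) (BT.leaf cJ4303)) (BT.leaf cJ4304)) (BT.node 4306 (BT.node 4305 (BT.leaf cJ4305) (BT.leaf cJ4306)) (BT.leaf cJ4307)))) (BT.node 4314 (BT.node 4311 (BT.node 4309 (BT.node 4308 (BT.leaf cJ4308) (BT.leaf cJ4309)) (BT.node 4310 (BT.leaf cJ4310) (BT.leaf cJ4311))) (BT.node 4313 (BT.node 4312 (BT.leaf cJ4312) (BT.leaf cJ4313)) (BT.leaf cJ4314))) (BT.node 4317 (BT.node 4316 (BT.node 4315 (BT.leaf cJ4315) (BT.leaf cJ4316)) (BT.leaf cJ4317)) (BT.node 4319 (BT.node 4318 (BT.leaf cJ4318) (BT.leaf cJ4319)) (BT.leaf cJ4320))))))) (BT.node 4373 (BT.node 4347 (BT.node 4334 (BT.node 4327 (BT.node 4324 (BT.node 4322 (BT.node 4321 (BT.leaf cJ4321) (BT.leaf cJ4322)) (BT.node 4323 (BT.leaf cJ4323) (BT.leaf cJ4324))) (BT.node 4326 (BT.node 4325 (BT.leaf cJ4325) (BT.leaf cJ4326)) (BT.leaf cJ4327))) (BT.node 4331 (BT.node 4329 (BT.node 4328 (BT.leaf cJ4328) (BT.leaf cJ4329)) (BT.node 4330 (BT.leaf cJ4330) (BT.leaf cJ4331))) (BT.node 4333 (BT.node 4332 (BT.leaf cJ4332) (BT.leaf cJ4333)) (BT.leaf cJ4334)))) (BT.node 4341 (BT.node 4338 (BT.node 4336 (BT.node 4335 (BT.leaf cJ4335) (BT.leaf cJ4336)) (BT.node 4337 (BT.leaf cJ4337) (BT.leaf cJ4338))) (BT.node 4340 (BT.node 4339 (BT.leaf cJ4339) (BT.leaf cJ4340)) (BT.leaf cJ4341))) (BT.node 4344 (BT.node 4343 (BT.node 4342 (BT.leaf cJ4342) (BT.leaf cJ4343)) (BT.leaf cJ4344)) (BT.node 4346 (BT.node 4345 (BT.leaf cJ4345) (BT.leaf cJ4346)) (BT.leaf cJ4347))))) (BT.node 4360 (BT.node 4354 (BT.node 4351 (BT.node 4349 (BT.node 4348 (BT.leaf cJ4348) (BT.leaf cJ4349)) (BT.node 4350 (BT.leaf cJ4350) (BT.leaf cJ4351))) (BT.node 4353 (BT.node 4352 (BT.leaf cJ4352) (BT.leaf cJ4353)) (BT.leaf cJ4354))) (BT.node 4357 (BT.node 4356 (BT.node 4355 (BT.leaf cJ4355) (BT.leaf cJ4356)) (BT.leaf cJ4357)) (BT.node 4359 (BT.node 4358 (BT.leaf cJ4358) (BT.leaf cJ4359)) (BT.leaf cJ4360)))) (BT.node 4367 (BT.node 4364 (BT.node 4362 (BT.node 4361 (BT.leaf cJ4361) (BT.leaf cJ4362)) (BT.node 4363 (BT.leaf cJ4363) (BT.leaf cJ4364))) (BT.node 4366 (BT.node 4365 (BT.leaf cJ4365) (BT.leaf cJ4366)) (BT.leaf cJ4367))) (BT.node 4370 (BT.node 4369 (BT.node 4368 (BT.leaf cJ4368) (BT.leaf cJ4369)) (BT.leaf cJ4370)) (BT.node 4372 (BT.node 4371 (BT.leaf cJ4371) (BT.leaf cJ4372)) (BT.leaf cJ4373)))))) (BT.node 4399 (BT.node 4386 (BT.node 4380 (BT.node 4377 (BT.node 4375 (BT.node 4374 (BT.leaf cJ4374) (BT.leaf cJ4375)) (BT.node 4376 (BT.leaf cJ4376) (BT.leaf cJ4377))) (BT.node 4379 (BT.node 4378 (BT.leaf cJ4378) (BT.leaf cJ4379)) (BT.leaf cJ4380))) (BT.node 4383 (BT.node 4382 (BT.node 4381 (BT.leaf cJ4381) (BT.leaf cJ4382)) (BT.leaf cJ4383)) (BT.node 4385 (BT.node 4384 (BT.leaf cJ4384) (BT.leaf cJ4385)) (BT.leaf cJ4386)))) (BT.node 4393 (BT.node 4390 (BT.node 4388 (BT.node 4387 (BT.leaf cJ4387) (BT.leaf cJ4388)) (BT.node 4389 (BT.leaf cJ4389) (BT.leaf cJ4390))) (BT.node 4392 (BT.node 4391 (BT.leaf cJ4391) (BT.leaf cJ4392)) (BT.leaf cJ4393))) (BT.node 4396 (BT.node 4395 (BT.node 4394 (BT.leaf cJ4394) (BT.leaf cJ4395)) (BT.leaf cJ4396)) (BT.node 4398 (BT.node 4397 (BT.leaf cJ4397) (BT.leaf cJ4398)) (BT.leaf cJ4399))))) (BT.node 4412 (BT.node 4406 (BT.node 4403 (BT.node 4401 (BT.node 4400 (BT.leaf cJ4400) (BT.leaf cJ4401)) (BT.node 4402 (BT.leaf cJ4402) (BT.leaf cJ4403))) (BT.node 4405 (BT.node 4404 (BT.leaf cJ4404) (BT.leaf cJ4405)) (BT.leaf cJ4406))) (BT.node 4409 (BT.node 4408 (BT.node 4407 (BT.leaf cJ4407) (BT.leaf cJ4408)) (BT.leaf cJ4409)) (BT.node 4411 (BT.node 4410 (BT.leaf cJ4410) (BT.leaf cJ4411)) (BT.leaf cJ4412)))) (BT.node 4419 (BT.node 4416 (BT.node 4414 (BT.node 4413 (BT.leaf cJ4413) (BT.leaf cJ4414)) (BT.node 4415 (BT.leaf cJ4415) (BT.leaf cJ4416))) (BT.node 4418 (BT.node 4417 (BT.leaf cJ4417) (BT.leaf cJ4418)) (BT.leaf cJ4419))) (BT.node 4422 (BT.node 4421 (BT.node 4420 (BT.leaf cJ4420) (BT.leaf cJ4421)) (BT.leaf cJ4422)) (BT.node 4424 (BT.node 4423 (BT.leaf cJ4423) (BT.leaf cJ4424)) (BT.leaf cJ4425)))))))) (BT.node 4531 (BT.node 4478 (BT.node 4452 (BT.node 4439 (BT.node 4432 (BT.node 4429 (BT.node 4427 (BT.node 4426 (BT.leaf cJ4426) (BT.leaf cJ4427)) (BT.node 4428 (BT.leaf cJ4428) (BT.leaf cJ4429))) (BT.node 4431 (BT.node 4430 (BT.leaf cJ4430) (BT.leaf cJ4431)) (BT.leaf cJ4432))) (BT.node 4436 (BT.node 4434 (BT.node 4433 (BT.leaf cJ4433) (BT.leaf cJ4434)) (BT.node 4435 (BT.leaf cJ4435) (BT.leaf cJ4436))) (BT.node 4438 (BT.node 4437 (BT.leaf cJ4437) (BT.leaf cJ4438)) (BT.leaf cJ4439)))) (BT.node 4446 (BT.node 4443 (BT.node 4441 (BT.node 4440 (BT.leaf cJ4440) (BT.leaf cJ4441)) (BT.node 4442 (BT.leaf cJ4442) (BT.leaf cJ4443))) (BT.node 4445 (BT.node 4444 (BT.leaf cJ4444) (BT.leaf cJ4445)) (BT.leaf cJ4446))) (BT.node 4449 (BT.node 4448 (BT.node 4447 (BT.leaf cJ4447) (BT.leaf cJ4448)) (BT.leaf cJ4449)) (BT.node 4451 (BT.node 4450 (BT.leaf cJ4450) (BT.leaf cJ4451)) (BT.leaf cJ4452))))) (BT.node 4465 (BT.node 4459 (BT.node 4456 (BT.node 4454 (BT.node 4453 (BT.leaf cJ4453) (BT.leaf cJ4454)) (BT.node 4455 (BT.leaf cJ4455) (BT.leaf cJ4456))) (BT.node 4458 (BT.node 4457 (BT.leaf cJ4457) (BT.leaf cJ4458)) (BT.leaf cJ4459))) (BT.node 4462 (BT.node 4461 (BT.node 4460 (BT.leaf cJ4460) (BT.leaf cJ4461)) (BT.leaf cJ4462)) (BT.node 4464 (BT.node 4463 (BT.leaf cJ4463) (BT.leaf cJ4464)) (BT.leaf cJ4465)))) (BT.node 4472 (BT.node 4469 (BT.node 4467 (BT.node 4466 (BT.leaf cJ4466) (BT.leaf cJ4467)) (BT.node 4468 (BT.leaf cJ4468) (BT.leaf cJ4469))) (BT.node 4471 (BT.node 4470 (BT.leaf cJ4470) (BT.leaf cJ4471)) (BT.leaf cJ4472))) (BT.node 4475 (BT.node 4474 (BT.node 4473 (BT.leaf cJ4473) (BT.leaf cJ4474)) (BT.leaf cJ4475)) (BT.node 4477 (BT.node 4476 (BT.leaf cJ4476) (BT.leaf cJ4477)) (BT.leaf cJ4478)))))) (BT.node 4505 (BT.node 4492 (BT.node 4485 (BT.node 4482 (BT.node 4480 (BT.node 4479 (BT.leaf cJ4479) (BT.leaf cJ4480)) (BT.node 4481 (BT.leaf cJ4481) (BT.leaf cJ4482))) (BT.node 4484 (BT.node 4483 (BT.leaf cJ4483) (BT.leaf cJ4484)) (BT.leaf cJ4485))) (BT.node 4489 (BT.node 4487 (BT.node 4486 (BT.leaf cJ4486) (BT.leaf cJ4487)) (BT.node 4488 (BT.leaf cJ4488) (BT.leaf cJ4489))) (BT.node 4491 (BT.node 4490 (BT.leaf cJ4490) (BT.leaf cJ4491)) (BT.leaf cJ4492)))) (BT.node 4499 (BT.node 4496 (BT.node 4494 (BT.node 4493 (BT.leaf cJ4493) (BT.leaf cJ4494)) (BT.node 4495 (BT.leaf cJ4495) (BT.leaf cJ4496))) (BT.node 4498 (BT.node 4497 (BT.leaf cJ4497) (BT.leaf cJ4498)) (BT.leaf cJ4499))) (BT.node 4502 (BT.node 4501 (BT.node 4500 (BT.leaf cJ4500) (BT.leaf cJ4501)) (BT.leaf cJ4502)) (BT.node 4504 (BT.node 4503 (BT.leaf cJ4503) (BT.leaf cJ4504)) (BT.leaf cJ4505))))) (BT.node 4518 (BT.node 4512 (BT.node 4509 (BT.node 4507 (BT.node 4506 (BT.leaf cJ4506) (BT.leaf cJ4507)) (BT.node 4508 (BT.leaf cJ4508) (BT.leaf cJ4509))) (BT.node 4511 (BT.node 4510 (BT.leaf cJ4510) (BT.leaf cJ4511)) (BT.leaf cJ4512))) (BT.node 4515 (BT.node 4514 (BT.node 4513 (BT.leaf cJ4513) (BT.leaf cJ4514)) (BT.leaf cJ4515)) (BT.node 4517 (BT.node 4516 (BT.leaf cJ4516) (BT.leaf cJ4517)) (BT.leaf cJ4518)))) (BT.node 4525 (BT.node 4522 (BT.node 4520 (BT.node 4519 (BT.leaf cJ4519) (BT.leaf cJ4520)) (BT.node 4521 (BT.leaf cJ4521) (BT.leaf cJ4522))) (BT.node 4524 (BT.node 4523 (BT.leaf cJ4523) (BT.leaf cJ4524)) (BT.leaf cJ4525))) (BT.node 4528 (BT.node 4527 (BT.node 4526 (BT.leaf cJ4526) (BT.leaf cJ4527)) (BT.leaf cJ4528)) (BT.node 4530 (BT.node 4529 (BT.leaf cJ4529) (BT.leaf cJ4530)) (BT.leaf cJ4531))))))) (BT.node 4584 (BT.node 4558 (BT.node 4545 (BT.node 4538 (BT.node 4535 (BT.node 4533 (BT.node 4532 (BT.leaf cJ4532) (BT.leaf cJ4533)) (BT.node 4534 (BT.leaf cJ4534) (BT.leaf cJ4535))) (BT.node 4537 (BT.node 4536 (BT.leaf cJ4536) (BT.leaf cJ4537)) (BT.leaf cJ4538))) (BT.node 4542 (BT.node 4540 (BT.node 4539 (BT.leaf cJ4539) (BT.leaf cJ4540)) (BT.node 4541 (BT.leaf cJ4541) (BT.leaf cJ4542))) (BT.node 4544 (BT.node 4543 (BT.leaf cJ4543) (BT.leaf cJ4544)) (BT.leaf cJ4545)))) (BT.node 4552 (BT.node 4549 (BT.node 4547 (BT.node 4546 (BT.leaf cJ4546) (BT.leaf cJ4547)) (BT.node 4548 (BT.leaf cJ4548) (BT.leaf cJ4549))) (BT.node 4551 (BT.node 4550 (BT.leaf cJ4550) (BT.leaf cJ4551)) (BT.leaf cJ4552))) (BT.node 4555 (BT.node 4554 (BT.node 4553 (BT.leaf cJ4553) (BT.leaf cJ4554)) (BT.leaf cJ4555)) (BT.node 4557 (BT.node 4556 (BT.leaf cJ4556) (BT.leaf cJ4557)) (BT.leaf cJ4558))))) (BT.node 4571 (BT.node 4565 (BT.node 4562 (BT.node 4560 (BT.node 4559 (BT.leaf cJ4559) (BT.leaf cJ4560)) (BT.node 4561 (BT.leaf cJ4561) (BT.leaf cJ4562))) (BT.node 4564 (BT.node 4563 (BT.leaf cJ4563) (BT.leaf cJ4564)) (BT.leaf cJ4565))) (BT.node 4568 (BT.node 4567 (BT.node 4566 (BT.leaf cJ4566) (BT.leaf cJ4567)) (BT.leaf cJ4568)) (BT.node 4570 (BT.node 4569 (BT.leaf cJ4569) (BT.leaf cJ4570)) (BT.leaf cJ4571)))) (BT.node 4578 (BT.node 4575 (BT.node 4573 (BT.node 4572 (BT.leaf cJ4572) (BT.leaf cJ4573)) (BT.node 4574 (BT.leaf cJ4574) (BT.leaf cJ4575))) (BT.node 4577 (BT.node 4576 (BT.leaf cJ4576) (BT.leaf cJ4577)) (BT.leaf cJ4578))) (BT.node 4581 (BT.node 4580 (BT.node 4579 (BT.leaf cJ4579) (BT.leaf cJ4580)) (BT.leaf cJ4581)) (BT.node 4583 (BT.node 4582 (BT.leaf cJ4582) (BT.leaf cJ4583)) (BT.leaf cJ4584)))))) (BT.node 4610 (BT.node 4597 (BT.node 4591 (BT.node 4588 (BT.node 4586 (BT.node 4585 (BT.leaf cJ4585) (BT.leaf cJ4586)) (BT.node 4587 (BT.leaf cJ4587) (BT.leaf cJ4588))) (BT.node 4590 (BT.node 4589 (BT.leaf cJ4589) (BT.leaf cJ4590)) (BT.leaf cJ4591))) (BT.node 4594 (BT.node 4593 (BT.node 4592 (BT.leaf cJ4592) (BT.leaf cJ4593)) (BT.leaf cJ4594)) (BT.node 4596 (BT.node 4595 (BT.leaf cJ4595) (BT.leaf cJ4596)) (BT.leaf cJ4597)))) (BT.node 4604 (BT.node 4601 (BT.node 4599 (BT.node 4598 (BT.leaf cJ4598) (BT.leaf cJ4599)) (BT.node 4600 (BT.leaf cJ4600) (BT.leaf cJ4601))) (BT.node 4603 (BT.node 4602 (BT.leaf cJ4602) (BT.leaf cJ4603)) (BT.leaf cJ4604))) (BT.node 4607 (BT.node 4606 (BT.node 4605 (BT.leaf cJ4605) (BT.leaf cJ4606)) (BT.leaf cJ4607)) (BT.node 4609 (BT.node 4608 (BT.leaf cJ4608) (BT.leaf cJ4609)) (BT.leaf cJ4610))))) (BT.node 4623 (BT.node 4617 (BT.node 4614 (BT.node 4612 (BT.node 4611 (BT.leaf cJ4611) (BT.leaf cJ4612)) (BT.node 4613 (BT.leaf cJ4613) (BT.leaf cJ4614))) (BT.node 4616 (BT.node 4615 (BT.leaf cJ4615) (BT.leaf cJ4616)) (BT.leaf cJ4617))) (BT.node 4620 (BT.node 4619 (BT.node 4618 (BT.leaf cJ4618) (BT.leaf cJ4619)) (BT.leaf cJ4620)) (BT.node 4622 (BT.node 4621 (BT.leaf cJ4621) (BT.leaf cJ4622)) (BT.leaf cJ4623)))) (BT.node 4630 (BT.node 4627 (BT.node 4625 (BT.node 4624 (BT.leaf cJ4624) (BT.leaf cJ4625)) (BT.node 4626 (BT.leaf cJ4626) (BT.leaf cJ4627))) (BT.node 4629 (BT.node 4628 (BT.leaf cJ4628) (BT.leaf cJ4629)) (BT.leaf cJ4630))) (BT.node 4633 (BT.node 4632 (BT.node 4631 (BT.leaf cJ4631) (BT.leaf cJ4632)) (BT.leaf cJ4633)) (BT.node 4635 (BT.node 4634 (BT.leaf cJ4634) (BT.leaf cJ4635)) (BT.leaf cJ4636))))))))) (BT.node 4847 (BT.node 4742 (BT.node 4689 (BT.node 4663 (BT.node 4650 (BT.node 4643 (BT.node 4640 (BT.node 4638 (BT.node 4637 (BT.leaf cJ4637) (BT.leaf cJ4638)) (BT.node 4639 (BT.leaf cJ4639) (BT.leaf cJ4640))) (BT.node 4642 (BT.node 4641 (BT.leaf cJ4641) (BT.leaf cJ4642)) (BT.leaf cJ4643))) (BT.node 4647 (BT.node 4645 (BT.node 4644 (BT.leaf cJ4644) (BT.leaf cJ4645)) (BT.node 4646 (BT.leaf cJ4646) (BT.leaf cJ4647))) (BT.node 4649 (BT.node 4648 (BT.leaf cJ4648) (BT.leaf cJ4649)) (BT.leaf cJ4650)))) (BT.node 4657 (BT.node 4654 (BT.node 4652 (BT.node 4651 (BT.leaf cJ4651) (BT.leaf cJ4652)) (BT.node 4653 (BT.leaf cJ4653) (BT.leaf cJ4654))) (BT.node 4656 (BT.node 4655 (BT.leaf cJ4655) (BT.leaf cJ4656)) (BT.leaf cJ4657))) (BT.node 4660 (BT.node 4659 (BT.node 4658 (BT.leaf cJ4658) (BT.leaf cJ4659)) (BT.leaf cJ4660)) (BT.node 4662 (BT.node 4661 (BT.leaf cJ4661) (BT.leaf cJ4662)) (BT.leaf cJ4663))))) (BT.node 4676 (BT.node 4670 (BT.node 4667 (BT.node 4665 (BT.node 4664 (BT.leaf cJ4664) (BT.leaf cJ4665)) (BT.node 4666 (BT.leaf cJ4666) (BT.leaf cJ4667))) (BT.node 4669 (BT.node 4668 (BT.leaf cJ4668) (BT.leaf cJ4669)) (BT.leaf cJ4670))) (BT.node 4673 (BT.node 4672 (BT.node 4671 (BT.leaf cJ4671) (BT.leaf cJ4672)) (BT.leaf cJ4673)) (BT.node 4675 (BT.node 4674 (BT.leaf cJ4674) (BT.leaf cJ4675)) (BT.leaf cJ4676)))) (BT.node 4683 (BT.node 4680 (BT.node 4678 (BT.node 4677 (BT.leaf cJ4677) (BT.leaf cJ4678)) (BT.node 4679 (BT.leaf cJ4679) (BT.leaf cJ4680))) (BT.node 4682 (BT.node 4681 (BT.leaf cJ4681) (BT.leaf cJ4682)) (BT.leaf cJ4683))) (BT.node 4686 (BT.node 4685 (BT.node 4684 (BT.leaf cJ4684) (BT.leaf cJ4685)) (BT.leaf cJ4686)) (BT.node 4688 (BT.node 4687 (BT.leaf cJ4687) (BT.leaf cJ4688)) (BT.leaf cJ4689)))))) (BT.node 4716 (BT.node 4703 (BT.node 4696 (BT.node 4693 (BT.node 4691 (BT.node 4690 (BT.leaf cJ4690) (BT.leaf cJ4691)) (BT.node 4692 (BT.leaf cJ4692) (BT.leaf cJ4693))) (BT.node 4695 (BT.node 4694 (BT.leaf cJ4694) (BT.leaf cJ4695)) (BT.leaf cJ4696))) (BT.node 4700 (BT.node 4698 (BT.node 4697 (BT.leaf cJ4697) (BT.leaf cJ4698)) (BT.node 4699 (BT.leaf cJ4699) (BT.leaf cJ4700))) (BT.node 4702 (BT.node 4701 (BT.leaf cJ4701) (BT.leaf cJ4702)) (BT.leaf cJ4703)))) (BT.node 4710 (BT.node 4707 (BT.node 4705 (BT.node 4704 (BT.leaf cJ4704) (BT.leaf cJ4705)) (BT.node 4706 (BT.leaf cJ4706) (BT.leaf cJ4707))) (BT.node 4709 (BT.node 4708 (BT.leaf cJ4708) (BT.leaf cJ4709)) (BT.leaf cJ4710))) (BT.node 4713 (BT.node 4712 (BT.node 4711 (BT.leaf cJ4711) (BT.leaf cJ4712)) (BT.leaf cJ4713)) (BT.node 4715 (BT.node 4714 (BT.leaf cJ4714) (BT.leaf cJ4715)) (BT.leaf cJ4716))))) (BT.node 4729 (BT.node 4723 (BT.node 4720 (BT.node 4718 (BT.node 4717 (BT.leaf cJ4717) (BT.leaf cJ4718)) (BT.node 4719 (BT.leaf cJ4719) (BT.leaf cJ4720))) (BT.node 4722 (BT.node 4721 (BT.leaf cJ4721) (BT.leaf cJ4722)) (BT.leaf cJ4723))) (BT.node 4726 (BT.node 4725 (BT.node 4724 (BT.leaf cJ4724) (BT.leaf cJ4725)) (BT.leaf cJ4726)) (BT.node 4728 (BT.node 4727 (BT.leaf cJ4727) (BT.leaf cJ4728)) (BT.leaf cJ4729)))) (BT.node 4736 (BT.node 4733 (BT.node 4731 (BT.node 4730 (BT.leaf cJ4730) (BT.leaf cJ4731)) (BT.node 4732 (BT.leaf cJ4732) (BT.leaf cJ4733))) (BT.node 4735 (BT.node 4734 (BT.leaf cJ4734) (BT.leaf cJ4735)) (BT.leaf cJ4736))) (BT.node 4739 (BT.node 4738 (BT.node 4737 (BT.leaf cJ4737) (BT.leaf cJ4738)) (BT.leaf cJ4739)) (BT.node 4741 (BT.node 4740 (BT.leaf cJ4740) (BT.leaf cJ4741)) (BT.leaf cJ4742))))))) (BT.node 4795 (BT.node 4769 (BT.node 4756 (BT.node 4749 (BT.node 4746 (BT.node 4744 (BT.node 4743 (BT.leaf cJ4743) (BT.leaf cJ4744)) (BT.node 4745 (BT.leaf cJ4745) (BT.leaf cJ4746))) (BT.node 4748 (BT.node 4747 (BT.leaf cJ4747) (BT.leaf cJ4748)) (BT.leaf cJ4749))) (BT.node 4753 (BT.node 4751 (BT.node 4750 (BT.leaf cJ4750) (BT.leaf cJ4751)) (BT.node 4752 (BT.leaf cJ4752) (BT.leaf cJ4753))) (BT.node 4755 (BT.node 4754 (BT.leaf cJ4754) (BT.leaf cJ4755)) (BT.leaf cJ4756)))) (BT.node 4763 (BT.node 4760 (BT.node 4758 (BT.node 4757 (BT.leaf cJ4757) (BT.leaf cJ4758)) (BT.node 4759 (BT.leaf cJ4759) (BT.leaf cJ4760))) (BT.node 4762 (BT.node 4761 (BT.leaf cJ4761) (BT.leaf cJ4762)) (BT.leaf cJ4763))) (BT.node 4766 (BT.node 4765 (BT.node 4764 (BT.leaf cJ4764) (BT.leaf cJ4765)) (BT.leaf cJ4766)) (BT.node 4768 (BT.node 4767 (BT.leaf cJ4767) (BT.leaf cJ4768)) (BT.leaf cJ4769))))) (BT.node 4782 (BT.node 4776 (BT.node 4773 (BT.node 4771 (BT.node 4770 (BT.leaf cJ4770) (BT.leaf cJ4771)) (BT.node 4772 (BT.leaf cJ4772) (BT.leaf cJ4773))) (BT.node 4775 (BT.node 4774 (BT.leaf cJ4774) (BT.leaf cJ4775)) (BT.leaf cJ4776))) (BT.node 4779 (BT.node 4778 (BT.node 4777 (BT.leaf cJ4777) (BT.leaf cJ4778)) (BT.leaf cJ4779)) (BT.node 4781 (BT.node 4780 (BT.leaf cJ4780) (BT.leaf cJ4781)) (BT.leaf cJ4782)))) (BT.node 4789 (BT.node 4786 (BT.node 4784 (BT.node 4783 (BT.leaf cJ4783) (BT.leaf cJ4784)) (BT.node 4785 (BT.leaf cJ4785) (BT.leaf cJ4786))) (BT.node 4788 (BT.node 4787 (BT.leaf cJ4787) (BT.leaf cJ4788)) (BT.leaf cJ4789))) (BT.node 4792 (BT.node 4791 (BT.node 4790 (BT.leaf cJ4790) (BT.leaf cJ4791)) (BT.leaf cJ4792)) (BT.node 4794 (BT.node 4793 (BT.leaf cJ4793) (BT.leaf cJ4794)) (BT.leaf cJ4795)))))) (BT.node 4821 (BT.node 4808 (BT.node 4802 (BT.node 4799 (BT.node 4797 (BT.node 4796 (BT.leaf cJ4796) (BT.leaf cJ4797)) (BT.node 4798 (BT.leaf cJ4798) (BT.leaf cJ4799))) (BT.node 4801 (BT.node 4800 (BT.leaf cJ4800) (BT.leaf cJ4801)) (BT.leaf cJ4802))) (BT.node 4805 (BT.node 4804 (BT.node 4803 (BT.leaf cJ4803) (BT.leaf cJ4804)) (BT.leaf cJ4805)) (BT.node 4807 (BT.node 4806 (BT.leaf cJ4806) (BT.leaf cJ4807)) (BT.leaf cJ4808)))) (BT.node 4815 (BT.node 4812 (BT.node 4810 (BT.node 4809 (BT.leaf cJ4809) (BT.leaf cJ4810)) (BT.node 4811 (BT.leaf cJ4811) (BT.leaf cJ4812))) (BT.node 4814 (BT.node 4813 (BT.leaf cJ4813) (BT.leaf cJ4814)) (BT.leaf cJ4815))) (BT.node 4818 (BT.node 4817 (BT.node 4816 (BT.leaf cJ4816) (BT.leaf cJ4817)) (BT.leaf cJ4818)) (BT.node 4820 (BT.node 4819 (BT.leaf cJ4819) (BT.leaf cJ4820)) (BT.leaf cJ4821))))) (BT.node 4834 (BT.node 4828 (BT.node 4825 (BT.node 4823 (BT.node 4822 (BT.leaf cJ4822) (BT.leaf cJ4823)) (BT.node 4824 (BT.leaf cJ4824) (BT.leaf cJ4825))) (BT.node 4827 (BT.node 4826 (BT.leaf cJ4826) (BT.leaf cJ4827)) (BT.leaf cJ4828))) (BT.node 4831 (BT.node 4830 (BT.node 4829 (BT.leaf cJ4829) (BT.leaf cJ4830)) (BT.leaf cJ4831)) (BT.node 4833 (BT.node 4832 (BT.leaf cJ4832) (BT.leaf cJ4833)) (BT.leaf cJ4834)))) (BT.node 4841 (BT.node 4838 (BT.node 4836 (BT.node 4835 (BT.leaf cJ4835) (BT.leaf cJ4836)) (BT.node 4837 (BT.leaf cJ4837) (BT.leaf cJ4838))) (BT.node 4840 (BT.node 4839 (BT.leaf cJ4839) (BT.leaf cJ4840)) (BT.leaf cJ4841))) (BT.node 4844 (BT.node 4843 (BT.node 4842 (BT.leaf cJ4842) (BT.leaf cJ4843)) (BT.leaf cJ4844)) (BT.node 4846 (BT.node 4845 (BT.leaf cJ4845) (BT.leaf cJ4846)) (BT.leaf cJ4847)))))))) (BT.node 4952 (BT.node 4900 (BT.node 4874 (BT.node 4861 (BT.node 4854 (BT.node 4851 (BT.node 4849 (BT.node 4848 (BT.leaf cJ4848) (BT.leaf cJ4849)) (BT.node 4850 (BT.leaf cJ4850) (BT.leaf cJ4851))) (BT.node 4853 (BT.node 4852 (BT.leaf cJ4852) (BT.leaf cJ4853)) (BT.leaf cJ4854))) (BT.node 4858 (BT.node 4856 (BT.node 4855 (BT.leaf cJ4855) (BT.leaf cJ4856)) (BT.node 4857 (BT.leaf cJ4857) (BT.leaf cJ4858))) (BT.node 4860 (BT.node 4859 (BT.leaf cJ4859) (BT.leaf cJ4860)) (BT.leaf cJ4861)))) (BT.node 4868 (BT.node 4865 (BT.node 4863 (BT.node 4862 (BT.leaf cJ4862) (BT.leaf cJ4863)) (BT.node 4864 (BT.leaf cJ4864) (BT.leaf cJ4865))) (BT.node 4867 (BT.node 4866 (BT.leaf cJ4866) (BT.leaf cJ4867)) (BT.leaf cJ4868))) (BT.node 4871 (BT.node 4870 (BT.node 4869 (BT.leaf cJ4869) (BT.leaf cJ4870)) (BT.leaf cJ4871)) (BT.node 4873 (BT.node 4872 (BT.leaf cJ4872) (BT.leaf cJ4873)) (BT.leaf cJ4874))))) (BT.node 4887 (BT.node 4881 (BT.node 4878 (BT.node 4876 (BT.node 4875 (BT.leaf cJ4875) (BT.leaf cJ4876)) (BT.node 4877 (BT.leaf cJ4877) (BT.leaf cJ4878))) (BT.node 4880 (BT.node 4879 (BT.leaf cJ4879) (BT.leaf cJ4880)) (BT.leaf cJ4881))) (BT.node 4884 (BT.node 4883 (BT.node 4882 (BT.leaf cJ4882) (BT.leaf cJ4883)) (BT.leaf cJ4884)) (BT.node 4886 (BT.node 4885 (BT.leaf cJ4885) (BT.leaf cJ4886)) (BT.leaf cJ4887)))) (BT.node 4894 (BT.node 4891 (BT.node 4889 (BT.node 4888 (BT.leaf cJ4888) (BT.leaf cJ4889)) (BT.node 4890 (BT.leaf cJ4890) (BT.leaf cJ4891))) (BT.node 4893 (BT.node 4892 (BT.leaf cJ4892) (BT.leaf cJ4893)) (BT.leaf cJ4894))) (BT.node 4897 (BT.node 4896 (BT.node 4895 (BT.leaf cJ4895) (BT.leaf cJ4896)) (BT.leaf cJ4897)) (BT.node 4899 (BT.node 4898 (BT.leaf cJ4898) (BT.leaf cJ4899)) (BT.leaf cJ4900)))))) (BT.node 4926 (BT.node 4913 (BT.node 4907 (BT.node 4904 (BT.node 4902 (BT.node 4901 (BT.leaf cJ4901) (BT.leaf cJ4902)) (BT.node 4903 (BT.leaf cJ4903) (BT.leaf cJ4904))) (BT.node 4906 (BT.node 4905 (BT.leaf cJ4905) (BT.leaf cJ4906)) (BT.leaf cJ4907))) (BT.node 4910 (BT.node 4909 (BT.node 4908 (BT.leaf cJ4908) (BT.leaf cJ4909)) (BT.leaf cJ4910)) (BT.node 4912 (BT.node 4911 (BT.leaf cJ4911) (BT.leaf cJ4912)) (BT.leaf cJ4913)))) (BT.node 4920 (BT.node 4917 (BT.node 4915 (BT.node 4914 (BT.leaf cJ4914) (BT.leaf cJ4915)) (BT.node 4916 (BT.leaf cJ4916) (BT.leaf cJ4917))) (BT.node 4919 (BT.node 4918 (BT.leaf cJ4918) (BT.leaf cJ4919)) (BT.leaf cJ4920))) (BT.node 4923 (BT.node 4922 (BT.node 4921 (BT.leaf cJ4921) (BT.leaf cJ4922)) (BT.leaf cJ4923)) (BT.node 4925 (BT.node 4924 (BT.leaf cJ4924) (BT.leaf cJ4925)) (BT.leaf cJ4926))))) (BT.node 4939 (BT.node 4933 (BT.node 4930 (BT.node 4928 (BT.node 4927 (BT.leaf cJ4927) (BT.leaf cJ4928)) (BT.node 4929 (BT.leaf cJ4929) (BT.leaf cJ4930))) (BT.node 4932 (BT.node 4931 (BT.leaf cJ4931) (BT.leaf cJ4932)) (BT.leaf cJ4933))) (BT.node 4936 (BT.node 4935 (BT.node 4934 (BT.leaf cJ4934) (BT.leaf cJ4935)) (BT.leaf cJ4936)) (BT.node 4938 (BT.node 4937 (BT.leaf cJ4937) (BT.leaf cJ4938)) (BT.leaf cJ4939)))) (BT.node 4946 (BT.node 4943 (BT.node 4941 (BT.node 4940 (BT.leaf cJ4940) (BT.leaf cJ4941)) (BT.node 4942 (BT.leaf cJ4942) (BT.leaf cJ4943))) (BT.node 4945 (BT.node 4944 (BT.leaf cJ4944) (BT.leaf cJ4945)) (BT.leaf cJ4946))) (BT.node 4949 (BT.node 4948 (BT.node 4947 (BT.leaf cJ4947) (BT.leaf cJ4948)) (BT.leaf cJ4949)) (BT.node 4951 (BT.node 4950 (BT.leaf cJ4950) (BT.leaf cJ4951)) (BT.leaf cJ4952))))))) (BT.node 5005 (BT.node 4979 (BT.node 4966 (BT.node 4959 (BT.node 4956 (BT.node 4954 (BT.node 4953 (BT.leaf cJ4953) (BT.leaf cJ4954)) (BT.node 4955 (BT.leaf cJ4955) (BT.leaf cJ4956))) (BT.node 4958 (BT.node 4957 (BT.leaf cJ4957) (BT.leaf cJ4958)) (BT.leaf cJ4959))) (BT.node 4963 (BT.node 4961 (BT.node 4960 (BT.leaf cJ4960) (BT.leaf cJ4961)) (BT.node 4962 (BT.leaf cJ4962) (BT.leaf cJ4963))) (BT.node 4965 (BT.node 4964 (BT.leaf cJ4964) (BT.leaf cJ4965)) (BT.leaf cJ4966)))) (BT.node 4973 (BT.node 4970 (BT.node 4968 (BT.node 4967 (BT.leaf cJ4967) (BT.leaf cJ4968)) (BT.node 4969 (BT.leaf cJ4969) (BT.leaf cJ4970))) (BT.node 4972 (BT.node 4971 (BT.leaf cJ4971) (BT.leaf cJ4972)) (BT.leaf cJ4973))) (BT.node 4976 (BT.node 4975 (BT.node 4974 (BT.leaf cJ4974) (BT.leaf cJ4975)) (BT.leaf cJ4976)) (BT.node 4978 (BT.node 4977 (BT.leaf cJ4977) (BT.leaf cJ4978)) (BT.leaf cJ4979))))) (BT.node 4992 (BT.node 4986 (BT.node 4983 (BT.node 4981 (BT.node 4980 (BT.leaf cJ4980) (BT.leaf cJ4981)) (BT.node 4982 (BT.leaf cJ4982) (BT.leaf cJ4983))) (BT.node 4985 (BT.node 4984 (BT.leaf cJ4984) (BT.leaf cJ4985)) (BT.leaf cJ4986))) (BT.node 4989 (BT.node 4988 (BT.node 4987 (BT.leaf cJ4987) (BT.leaf cJ4988)) (BT.leaf cJ4989)) (BT.node 4991 (BT.node 4990 (BT.leaf cJ4990) (BT.leaf cJ4991)) (BT.leaf cJ4992)))) (BT.node 4999 (BT.node 4996 (BT.node 4994 (BT.node 4993 (BT.leaf cJ4993) (BT.leaf cJ4994)) (BT.node 4995 (BT.leaf cJ4995) (BT.leaf cJ4996))) (BT.node 4998 (BT.node 4997 (BT.leaf cJ4997) (BT.leaf cJ4998)) (BT.leaf cJ4999))) (BT.node 5002 (BT.node 5001 (BT.node 5000 (BT.leaf cJ5000) (BT.leaf cJ5001)) (BT.leaf cJ5002)) (BT.node 5004 (BT.node 5003 (BT.leaf cJ5003) (BT.leaf cJ5004)) (BT.leaf cJ5005)))))) (BT.node 5031 (BT.node 5018 (BT.node 5012 (BT.node 5009 (BT.node 5007 (BT.node 5006 (BT.leaf cJ5006) (BT.leaf cJ5007)) (BT.node 5008 (BT.leaf cJ5008) (BT.leaf cJ5009))) (BT.node 5011 (BT.node 5010 (BT.leaf cJ5010) (BT.leaf cJ5011)) (BT.leaf cJ5012))) (BT.node 5015 (BT.node 5014 (BT.node 5013 (BT.leaf cJ5013) (BT.leaf cJ5014)) (BT.leaf cJ5015)) (BT.node 5017 (BT.node 5016 (BT.leaf cJ5016) (BT.leaf cJ5017)) (BT.leaf cJ5018)))) (BT.node 5025 (BT.node 5022 (BT.node 5020 (BT.node 5019 (BT.leaf cJ5019) (BT.leaf cJ5020)) (BT.node 5021 (BT.leaf cJ5021) (BT.leaf cJ5022))) (BT.node 5024 (BT.node 5023 (BT.leaf cJ5023) (BT.leaf cJ5024)) (BT.leaf cJ5025))) (BT.node 5028 (BT.node 5027 (BT.node 5026 (BT.leaf cJ5026) (BT.leaf cJ5027)) (BT.leaf cJ5028)) (BT.node 5030 (BT.node 5029 (BT.leaf cJ5029) (BT.leaf cJ5030)) (BT.leaf cJ5031))))) (BT.node 5044 (BT.node 5038 (BT.node 5035 (BT.node 5033 (BT.node 5032 (BT.leaf cJ5032) (BT.leaf cJ5033)) (BT.node 5034 (BT.leaf cJ5034) (BT.leaf cJ5035))) (BT.node 5037 (BT.node 5036 (BT.leaf cJ5036) (BT.leaf cJ5037)) (BT.leaf cJ5038))) (BT.node 5041 (BT.node 5040 (BT.node 5039 (BT.leaf cJ5039) (BT.leaf cJ5040)) (BT.leaf cJ5041)) (BT.node 5043 (BT.node 5042 (BT.leaf cJ5042) (BT.leaf cJ5043)) (BT.leaf cJ5044)))) (BT.node 5051 (BT.node 5048 (BT.node 5046 (BT.node 5045 (BT.leaf cJ5045) (BT.leaf cJ5046)) (BT.node 5047 (BT.leaf cJ5047) (BT.leaf cJ5048))) (BT.node 5050 (BT.node 5049 (BT.leaf cJ5049) (BT.leaf cJ5050)) (BT.leaf cJ5051))) (BT.node 5054 (BT.node 5053 (BT.node 5052 (BT.leaf cJ5052) (BT.leaf cJ5053)) (BT.leaf cJ5054)) (BT.node 5056 (BT.node 5055 (BT.leaf cJ5055) (BT.leaf cJ5056)) (BT.leaf cJ5057))))))))))) (BT.node 5900 (BT.node 5479 (BT.node 5268 (BT.node 5163 (BT.node 5110 (BT.node 5084 (BT.node 5071 (BT.node 5064 (BT.node 5061 (BT.node 5059 (BT.node 5058 (BT.leaf cJ5058) (BT.leaf cJ5059)) (BT.node 5060 (BT.leaf cJ5060) (BT.leaf cJ5061))) (BT.node 5063 (BT.node 5062 (BT.leaf cJ5062) (BT.leaf cJ5063)) (BT.leaf cJ5064))) (BT.node 5068 (BT.node 5066 (BT.node 5065 (BT.leaf cJ5065) (BT.leaf cJ5066)) (BT.node 5067 (BT.leaf cJ5067) (BT.leaf cJ5068))) (BT.node 5070 (BT.node 5069 (BT.leaf cJ5069) (BT.leaf cJ5070)) (BT.leaf cJ5071)))) (BT.node 5078 (BT.node 5075 (BT.node 5073 (BT.node 5072 (BT.leaf cJ5072) (BT.leaf cJ5073)) (BT.node 5074 (BT.leaf cJ5074) (BT.leaf cJ5075))) (BT.node 5077 (BT.node 5076 (BT.leaf cJ5076) (BT.leaf cJ5077)) (BT.leaf cJ5078))) (BT.node 5081 (BT.node 5080 (BT.node 5079 (BT.leaf cJ5079) (BT.leaf cJ5080)) (BT.leaf cJ5081)) (BT.node 5083 (BT.node 5082 (BT.leaf cJ5082) (BT.leaf cJ5083)) (BT.leaf cJ5084))))) (BT.node 5097 (BT.node 5091 (BT.node 5088 (BT.node 5086 (BT.node 5085 (BT.leaf cJ5085) (BT.leaf cJ5086)) (BT.node 5087 (BT.leaf cJ5087) (BT.leaf cJ5088))) (BT.node 5090 (BT.node 5089 (BT.leaf cJ5089) (BT.leaf cJ5090)) (BT.leaf cJ5091))) (BT.node 5094 (BT.node 5093 (BT.node 5092 (BT.leaf cJ5092) (BT.leaf cJ5093)) (BT.leaf cJ5094)) (BT.node 5096 (BT.node 5095 (BT.leaf cJ5095) (BT.leaf cJ5096)) (BT.leaf cJ5097)))) (BT.node 5104 (BT.node 5101 (BT.node 5099 (BT.node 5098 (BT.leaf cJ5098) (BT.leaf cJ5099)) (BT.node 5100 (BT.leaf cJ5100) (BT.leaf cJ5101))) (BT.node 5103 (BT.node 5102 (BT.leaf cJ5102) (BT.leaf cJ5103)) (BT.leaf cJ5104))) (BT.node 5107 (BT.node 5106 (BT.node 5105 (BT.leaf cJ5105) (BT.leaf cJ5106)) (BT.leaf cJ5107)) (BT.node 5109 (BT.node 5108 (BT.leaf cJ5108) (BT.leaf cJ5109)) (BT.leaf cJ5110)))))) (BT.node 5137 (BT.node 5124 (BT.node 5117 (BT.node 5114 (BT.node 5112 (BT.node 5111 (BT.leaf cJ5111) (BT.leaf cJ5112)) (BT.node 5113 (BT.leaf cJ5113) (BT.leaf cJ5114))) (BT.node 5116 (BT.node 5115 (BT.leaf cJ5115) (BT.leaf cJ5116)) (BT.leaf cJ5117))) (BT.node 5121 (BT.node 5119 (BT.node 5118 (BT.leaf cJ5118) (BT.leaf cJ5119)) (BT.node 5120 (BT.leaf cJ5120) (BT.leaf cJ5121))) (BT.node 5123 (BT.node 5122 (BT.leaf cJ5122) (BT.leaf cJ5123)) (BT.leaf cJ5124)))) (BT.node 5131 (BT.node 5128 (BT.node 5126 (BT.node 5125 (BT.leaf cJ5125) (BT.leaf cJ5126)) (BT.node 5127 (BT.leaf cJ5127) (BT.leaf cJ5128))) (BT.node 5130 (BT.node 5129 (BT.leaf cJ5129) (BT.leaf cJ5130)) (BT.leaf cJ5131))) (BT.node 5134 (BT.node 5133 (BT.node 5132 (BT.leaf cJ5132) (BT.leaf cJ5133)) (BT.leaf cJ5134)) (BT.node 5136 (BT.node 5135 (BT.leaf cJ5135) (BT.leaf cJ5136)) (BT.leaf cJ5137))))) (BT.node 5150 (BT.node 5144 (BT.node 5141 (BT.node 5139 (BT.node 5138 (BT.leaf cJ5138) (BT.leaf cJ5139)) (BT.node 5140 (BT.leaf cJ5140) (BT.leaf cJ5141))) (BT.node 5143 (BT.node 5142 (BT.leaf cJ5142) (BT.leaf cJ5143)) (BT.leaf cJ5144))) (BT.node 5147 (BT.node 5146 (BT.node 5145 (BT.leaf cJ5145) (BT.leaf cJ5146)) (BT.leaf cJ5147)) (BT.node 5149 (BT.node 5148 (BT.leaf cJ5148) (BT.leaf cJ5149)) (BT.leaf cJ5150)))) (BT.node 5157 (BT.node 5154 (BT.node 5152 (BT.node 5151 (BT.leaf cJ5151) (BT.leaf cJ5152)) (BT.node 5153 (BT.leaf cJ5153) (BT.leaf cJ5154))) (BT.node 5156 (BT.node 5155 (BT.leaf cJ5155) (BT.leaf cJ5156)) (BT.leaf cJ5157))) (BT.node 5160 (BT.node 5159 (BT.node 5158 (BT.leaf cJ5158) (BT.leaf cJ5159)) (BT.leaf cJ5160)) (BT.node 5162 (BT.node 5161 (BT.leaf cJ5161) (BT.leaf cJ5162)) (BT.leaf cJ5163))))))) (BT.node 5216 (BT.node 5190 (BT.node 5177 (BT.node 5170 (BT.node 5167 (BT.node 5165 (BT.node 5164 (BT.leaf cJ5164) (BT.leaf cJ5165)) (BT.node 5166 (BT.leaf cJ5166) (BT.leaf cJ5167))) (BT.node 5169 (BT.node 5168 (BT.leaf cJ5168) (BT.leaf cJ5169)) (BT.leaf cJ5170))) (BT.node 5174 (BT.node 5172 (BT.node 5171 (BT.leaf cJ5171) (BT.leaf cJ5172)) (BT.node 5173 (BT.leaf cJ5173) (BT.leaf cJ5174))) (BT.node 5176 (BT.node 5175 (BT.leaf cJ5175) (BT.leaf cJ5176)) (BT.leaf cJ5177)))) (BT.node 5184 (BT.node 5181 (BT.node 5179 (BT.node 5178 (BT.leaf cJ5178) (BT.leaf cJ5179)) (BT.node 5180 (BT.leaf cJ5180) (BT.leaf cJ5181))) (BT.node 5183 (BT.node 5182 (BT.leaf cJ5182) (BT.leaf cJ5183)) (BT.leaf cJ5184))) (BT.node 5187 (BT.node 5186 (BT.node 5185 (BT.leaf cJ5185) (BT.leaf cJ5186)) (BT.leaf cJ5187)) (BT.node 5189 (BT.node 5188 (BT.leaf cJ5188) (BT.leaf cJ5189)) (BT.leaf cJ5190))))) (BT.node 5203 (BT.node 5197 (BT.node 5194 (BT.node 5192 (BT.node 5191 (BT.leaf cJ5191) (BT.leaf cJ5192)) (BT.node 5193 (BT.leaf cJ5193) (BT.leaf cJ5194))) (BT.node 5196 (BT.node 5195 (BT.leaf cJ5195) (BT.leaf cJ5196)) (BT.leaf cJ5197))) (BT.node 5200 (BT.node 5199 (BT.node 5198 (BT.leaf cJ5198) (BT.leaf cJ5199)) (BT.leaf cJ5200)) (BT.node 5202 (BT.node 5201 (BT.leaf cJ5201) (BT.leaf cJ5202)) (BT.leaf cJ5203)))) (BT.node 5210 (BT.node 5207 (BT.node 5205 (BT.node 5204 (BT.leaf cJ5204) (BT.leaf cJ5205)) (BT.node 5206 (BT.leaf cJ5206) (BT.leaf cJ5207))) (BT.node 5209 (BT.node 5208 (BT.leaf cJ5208) (BT.leaf cJ5209)) (BT.leaf cJ5210))) (BT.node 5213 (BT.node 5212 (BT.node 5211 (BT.leaf cJ5211) (BT.leaf cJ5212)) (BT.leaf cJ5213)) (BT.node 5215 (BT.node 5214 (BT.leaf cJ5214) (BT.leaf cJ5215)) (BT.leaf cJ5216)))))) (BT.node 5242 (BT.node 5229 (BT.node 5223 (BT.node 5220 (BT.node 5218 (BT.node 5217 (BT.leaf cJ5217) (BT.leaf cJ5218)) (BT.node 5219 (BT.leaf cJ5219) (BT.leaf cJ5220))) (BT.node 5222 (BT.node 5221 (BT.leaf cJ5221) (BT.leaf cJ5222)) (BT.leaf cJ5223))) (BT.node 5226 (BT.node 5225 (BT.node 5224 (BT.leaf cJ5224) (BT.leaf cJ5225)) (BT.leaf cJ5226)) (BT.node 5228 (BT.node 5227 (BT.leaf cJ5227) (BT.leaf cJ5228)) (BT.leaf cJ5229)))) (BT.node 5236 (BT.node 5233 (BT.node 5231 (BT.node 5230 (BT.leaf cJ5230) (BT.leaf cJ5231)) (BT.node 5232 (BT.leaf cJ5232) (BT.leaf cJ5233))) (BT.node 5235 (BT.node 5234 (BT.leaf cJ5234) (BT.leaf cJ5235)) (BT.leaf cJ5236))) (BT.node 5239 (BT.node 5238 (BT.node 5237 (BT.leaf cJ5237) (BT.leaf cJ5238)) (BT.leaf cJ5239)) (BT.node 5241 (BT.node 5240 (BT.leaf cJ5240) (BT.leaf cJ5241)) (BT.leaf cJ5242))))) (BT.node 5255 (BT.node 5249 (BT.node 5246 (BT.node 5244 (BT.node 5243 (BT.leaf cJ5243) (BT.leaf cJ5244)) (BT.node 5245 (BT.leaf cJ5245) (BT.leaf cJ5246))) (BT.node 5248 (BT.node 5247 (BT.leaf cJ5247) (BT.leaf cJ5248)) (BT.leaf cJ5249))) (BT.node 5252 (BT.node 5251 (BT.node 5250 (BT.leaf cJ5250) (BT.leaf cJ5251)) (BT.leaf cJ5252)) (BT.node 5254 (BT.node 5253 (BT.leaf cJ5253) (BT.leaf cJ5254)) (BT.leaf cJ5255)))) (BT.node 5262 (BT.node 5259 (BT.node 5257 (BT.node 5256 (BT.leaf cJ5256) (BT.leaf cJ5257)) (BT.node 5258 (BT.leaf cJ5258) (BT.leaf cJ5259))) (BT.node 5261 (BT.node 5260 (BT.leaf cJ5260) (BT.leaf cJ5261)) (BT.leaf cJ5262))) (BT.node 5265 (BT.node 5264 (BT.node 5263 (BT.leaf cJ5263) (BT.leaf cJ5264)) (BT.leaf cJ5265)) (BT.node 5267 (BT.node 5266 (BT.leaf cJ5266) (BT.leaf cJ5267)) (BT.leaf cJ5268)))))))) (BT.node 5374 (BT.node 5321 (BT.node 5295 (BT.node 5282 (BT.node 5275 (BT.node 5272 (BT.node 5270 (BT.node 5269 (BT.leaf cJ5269) (BT.leaf cJ5270)) (BT.node 5271 (BT.leaf cJ5271) (BT.leaf cJ5272))) (BT.node 5274 (BT.node 5273 (BT.leaf cJ5273) (BT.leaf cJ5274)) (BT.leaf cJ5275))) (BT.node 5279 (BT.node 5277 (BT.node 5276 (BT.leaf cJ5276) (BT.leaf cJ5277)) (BT.node 5278 (BT.leaf cJ5278) (BT.leaf cJ5279))) (BT.node 5281 (BT.node 5280 (BT.leaf cJ5280) (BT.leaf cJ5281)) (BT.leaf cJ5282)))) (BT.node 5289 (BT.node 5286 (BT.node 5284 (BT.node 5283 (BT.leaf cJ5283) (BT.leaf cJ5284)) (BT.node 5285 (BT.leaf cJ5285) (BT.leaf cJ5286))) (BT.node 5288 (BT.node 5287 (BT.leaf cJ5287) (BT.leaf cJ5288)) (BT.leaf cJ5289))) (BT.node 5292 (BT.node 5291 (BT.node 5290 (BT.leaf cJ5290) (BT.leaf cJ5291)) (BT.leaf cJ5292)) (BT.node 5294 (BT.node 5293 (BT.leaf cJ5293) (BT.leaf cJ5294)) (BT.leaf cJ5295))))) (BT.node 5308 (BT.node 5302 (BT.node 5299 (BT.node 5297 (BT.node 5296 (BT.leaf cJ5296) (BT.leaf cJ5297)) (BT.node 5298 (BT.leaf cJ5298) (BT.leaf cJ5299))) (BT.node 5301 (BT.node 5300 (BT.leaf cJ5300) (BT.leaf cJ5301)) (BT.leaf cJ5302))) (BT.node 5305 (BT.node 5304 (BT.node 5303 (BT.leaf cJ5303) (BT.leaf cJ5304)) (BT.leaf cJ5305)) (BT.node 5307 (BT.node 5306 (BT.leaf cJ5306) (BT.leaf cJ5307)) (BT.leaf cJ5308)))) (BT.node 5315 (BT.node 5312 (BT.node 5310 (BT.node 5309 (BT.leaf cJ5309) (BT.leaf cJ5310)) (BT.node 5311 (BT.leaf cJ5311) (BT.leaf cJ5312))) (BT.node 5314 (BT.node 5313 (BT.leaf cJ5313) (BT.leaf cJ5314)) (BT.leaf cJ5315))) (BT.node 5318 (BT.node 5317 (BT.node 5316 (BT.leaf cJ5316) (BT.leaf cJ5317)) (BT.leaf cJ5318)) (BT.node 5320 (BT.node 5319 (BT.leaf cJ5319) (BT.leaf cJ5320)) (BT.leaf cJ5321)))))) (BT.node 5348 (BT.node 5335 (BT.node 5328 (BT.node 5325 (BT.node 5323 (BT.node 5322 (BT.leaf cJ5322) (BT.leaf cJ5323)) (BT.node 5324 (BT.leaf cJ5324) (BT.leaf cJ5325))) (BT.node 5327 (BT.node 5326 (BT.leaf cJ5326) (BT.leaf cJ5327)) (BT.leaf cJ5328))) (BT.node 5332 (BT.node 5330 (BT.node 5329 (BT.leaf cJ5329) (BT.leaf cJ5330)) (BT.node 5331 (BT.leaf cJ5331) (BT.leaf cJ5332))) (BT.node 5334 (BT.node 5333 (BT.leaf cJ5333) (BT.leaf cJ5334)) (BT.leaf cJ5335)))) (BT.node 5342 (BT.node 5339 (BT.node 5337 (BT.node 5336 (BT.leaf cJ5336) (BT.leaf cJ5337)) (BT.node 5338 (BT.leaf cJ5338) (BT.leaf cJ5339))) (BT.node 5341 (BT.node 5340 (BT.leaf cJ5340) (BT.leaf cJ5341)) (BT.leaf cJ5342))) (BT.node 5345 (BT.node 5344 (BT.node 5343 (BT.leaf cJ5343) (BT.leaf cJ5344)) (BT.leaf cJ5345)) (BT.node 5347 (BT.node 5346 (BT.leaf cJ5346) (BT.leaf cJ5347)) (BT.leaf cJ5348))))) (BT.node 5361 (BT.node 5355 (BT.node 5352 (BT.node 5350 (BT.node 5349 (BT.leaf cJ5349) (BT.leaf cJ5350)) (BT.node 5351 (BT.leaf cJ5351) (BT.leaf cJ5352))) (BT.node 5354 (BT.node 5353 (BT.leaf cJ5353) (BT.leaf cJ5354)) (BT.leaf cJ5355))) (BT.node 5358 (BT.node 5357 (BT.node 5356 (BT.leaf cJ5356) (BT.leaf cJ5357)) (BT.leaf cJ5358)) (BT.node 5360 (BT.node 5359 (BT.leaf cJ5359) (BT.leaf cJ5360)) (BT.leaf cJ5361)))) (BT.node 5368 (BT.node 5365 (BT.node 5363 (BT.node 5362 (BT.leaf cJ5362) (BT.leaf cJ5363)) (BT.node 5364 (BT.leaf cJ5364) (BT.leaf cJ5365))) (BT.node 5367 (BT.node 5366 (BT.leaf cJ5366) (BT.leaf cJ5367)) (BT.leaf cJ5368))) (BT.node 5371 (BT.node 5370 (BT.node 5369 (BT.leaf cJ5369) (BT.leaf cJ5370)) (BT.leaf cJ5371)) (BT.node 5373 (BT.node 5372 (BT.leaf cJ5372) (BT.leaf cJ5373)) (BT.leaf cJ5374))))))) (BT.node 5427 (BT.node 5401 (BT.node 5388 (BT.node 5381 (BT.node 5378 (BT.node 5376 (BT.node 5375 (BT.leaf cJ5375) (BT.leaf cJ5376)) (BT.node 5377 (BT.leaf cJ5377) (BT.leaf cJ5378))) (BT.node 5380 (BT.node 5379 (BT.leaf cJ5379) (BT.leaf cJ5380)) (BT.leaf cJ5381))) (BT.node 5385 (BT.node 5383 (BT.node 5382 (BT.leaf cJ5382) (BT.leaf cJ5383)) (BT.node 5384 (BT.leaf cJ5384) (BT.leaf cJ5385))) (BT.node 5387 (BT.node 5386 (BT.leaf cJ5386) (BT.leaf cJ5387)) (BT.leaf cJ5388)))) (BT.node 5395 (BT.node 5392 (BT.node 5390 (BT.node 5389 (BT.leaf cJ5389) (BT.leaf cJ5390)) (BT.node 5391 (BT.leaf cJ5391) (BT.leaf cJ5392))) (BT.node 5394 (BT.node 5393 (BT.leaf cJ5393) (BT.leaf cJ5394)) (BT.leaf cJ5395))) (BT.node 5398 (BT.node 5397 (BT.node 5396 (BT.leaf cJ5396) (BT.leaf cJ5397)) (BT.leaf cJ5398)) (BT.node 5400 (BT.node 5399 (BT.leaf cJ5399) (BT.leaf cJ5400)) (BT.leaf cJ5401))))) (BT.node 5414 (BT.node 5408 (BT.node 5405 (BT.node 5403 (BT.node 5402 (BT.leaf cJ5402) (BT.leaf cJ5403)) (BT.node 5404 (BT.leaf cJ5404) (BT.leaf cJ5405))) (BT.node 5407 (BT.node 5406 (BT.leaf cJ5406) (BT.leaf cJ5407)) (BT.leaf cJ5408))) (BT.node 5411 (BT.node 5410 (BT.node 5409 (BT.leaf cJ5409) (BT.leaf cJ5410)) (BT.leaf cJ5411)) (BT.node 5413 (BT.node 5412 (BT.leaf cJ5412) (BT.leaf cJ5413)) (BT.leaf cJ5414)))) (BT.node 5421 (BT.node 5418 (BT.node 5416 (BT.node 5415 (BT.leaf cJ5415) (BT.leaf cJ5416)) (BT.node 5417 (BT.leaf cJ5417) (BT.leaf cJ5418))) (BT.node 5420 (BT.node 5419 (BT.leaf cJ5419) (BT.leaf cJ5420)) (BT.leaf cJ5421))) (BT.node 5424 (BT.node 5423 (BT.node 5422 (BT.leaf cJ5422) (BT.leaf cJ5423)) (BT.leaf cJ5424)) (BT.node 5426 (BT.node 5425 (BT.leaf cJ5425) (BT.leaf cJ5426)) (BT.leaf cJ5427)))))) (BT.node 5453 (BT.node 5440 (BT.node 5434 (BT.node 5431 (BT.node 5429 (BT.node 5428 (BT.leaf cJ5428) (BT.leaf cJ5429)) (BT.node 5430 (BT.leaf cJ5430) (BT.leaf cJ5431))) (BT.node 5433 (BT.node 5432 (BT.leaf cJ5432) (BT.leaf cJ5433)) (BT.leaf cJ5434))) (BT.node 5437 (BT.node 5436 (BT.node 5435 (BT.leaf cJ5435) (BT.leaf cJ5436)) (BT.leaf cJ5437)) (BT.node 5439 (BT.node 5438 (BT.leaf cJ5438) (BT.leaf cJ5439)) (BT.leaf cJ5440)))) (BT.node 5447 (BT.node 5444 (BT.node 5442 (BT.node 5441 (BT.leaf cJ5441) (BT.leaf cJ5442)) (BT.node 5443 (BT.leaf cJ5443) (BT.leaf cJ5444))) (BT.node 5446 (BT.node 5445 (BT.leaf cJ5445) (BT.leaf cJ5446)) (BT.leaf cJ5447))) (BT.node 5450 (BT.node 5449 (BT.node 5448 (BT.leaf cJ5448) (BT.leaf cJ5449)) (BT.leaf cJ5450)) (BT.node 5452 (BT.node 5451 (BT.leaf cJ5451) (BT.leaf cJ5452)) (BT.leaf cJ5453))))) (BT.node 5466 (BT.node 5460 (BT.node 5457 (BT.node 5455 (BT.node 5454 (BT.leaf cJ5454) (BT.leaf cJ5455)) (BT.node 5456 (BT.leaf cJ5456) (BT.leaf cJ5457))) (BT.node 5459 (BT.node 5458 (BT.leaf cJ5458) (BT.leaf cJ5459)) (BT.leaf cJ5460))) (BT.node 5463 (BT.node 5462 (BT.node 5461 (BT.leaf cJ5461) (BT.leaf cJ5462)) (BT.leaf cJ5463)) (BT.node 5465 (BT.node 5464 (BT.leaf cJ5464) (BT.leaf cJ5465)) (BT.leaf cJ5466)))) (BT.node 5473 (BT.node 5470 (BT.node 5468 (BT.node 5467 (BT.leaf cJ5467) (BT.leaf cJ5468)) (BT.node 5469 (BT.leaf cJ5469) (BT.leaf cJ5470))) (BT.node 5472 (BT.node 5471 (BT.leaf cJ5471) (BT.leaf cJ5472)) (BT.leaf cJ5473))) (BT.node 5476 (BT.node 5475 (BT.node 5474 (BT.leaf cJ5474) (BT.leaf cJ5475)) (BT.leaf cJ5476)) (BT.node 5478 (BT.node 5477 (BT.leaf cJ5477) (BT.leaf cJ5478)) (BT.leaf cJ5479))))))))) (BT.node 5690 (BT.node 5585 (BT.node 5532 (BT.node 5506 (BT.node 5493 (BT.node 5486 (BT.node 5483 (BT.node 5481 (BT.node 5480 (BT.leaf cJ5480) (BT.leaf cJ5481)) (BT.node 5482 (BT.leaf cJ5482) (BT.leaf cJ5483))) (BT.node 5485 (BT.node 5484 (BT.leaf cJ5484) (BT.leaf cJ5485)) (BT.leaf cJ5486))) (BT.node 5490 (BT.node 5488 (BT.node 5487 (BT.leaf cJ5487) (BT.leaf cJ5488)) (BT.node 5489 (BT.leaf cJ5489) (BT.leaf cJ5490))) (BT.node 5492 (BT.node 5491 (BT.leaf cJ5491) (BT.leaf cJ5492)) (BT.leaf cJ5493)))) (BT.node 5500 (BT.node 5497 (BT.node 5495 (BT.node 5494 (BT.leaf cJ5494) (BT.leaf cJ5495)) (BT.node 5496 (BT.leaf cJ5496) (BT.leaf cJ5497))) (BT.node 5499 (BT.node 5498 (BT.leaf cJ5498) (BT.leaf cJ5499)) (BT.leaf cJ5500))) (BT.node 5503 (BT.node 5502 (BT.node 5501 (BT.leaf cJ5501) (BT.leaf cJ5502)) (BT.leaf cJ5503)) (BT.node 5505 (BT.node 5504 (BT.leaf cJ5504) (BT.leaf cJ5505)) (BT.leaf cJ5506))))) (BT.node 5519 (BT.node 5513 (BT.node 5510 (BT.node 5508 (BT.node 5507 (BT.leaf cJ5507) (BT.leaf cJ5508)) (BT.node 5509 (BT.leaf cJ5509) (BT.leaf cJ5510))) (BT.node 5512 (BT.node 5511 (BT.leaf cJ5511) (BT.leaf cJ5512)) (BT.leaf cJ5513))) (BT.node 5516 (BT.node 5515 (BT.node 5514 (BT.leaf cJ5514) (BT.leaf cJ5515)) (BT.leaf cJ5516)) (BT.node 5518 (BT.node 5517 (BT.leaf cJ5517) (BT.leaf cJ5518)) (BT.leaf cJ5519)))) (BT.node 5526 (BT.node 5523 (BT.node 5521 (BT.node 5520 (BT.leaf cJ5520) (BT.leaf cJ5521)) (BT.node 5522 (BT.leaf cJ5522) (BT.leaf cJ5523))) (BT.node 5525 (BT.node 5524 (BT.leaf cJ5524) (BT.leaf cJ5525)) (BT.leaf cJ5526))) (BT.node 5529 (BT.node 5528 (BT.node 5527 (BT.leaf cJ5527) (BT.leaf cJ5528)) (BT.leaf cJ5529)) (BT.node 5531 (BT.node 5530 (BT.leaf cJ5530) (BT.leaf cJ5531)) (BT.leaf cJ5532)))))) (BT.node 5559 (BT.node 5546 (BT.node 5539 (BT.node 5536 (BT.node 5534 (BT.node 5533 (BT.leaf cJ5533) (BT.leaf cJ5534)) (BT.node 5535 (BT.leaf cJ5535) (BT.leaf cJ5536))) (BT.node 5538 (BT.node 5537 (BT.leaf cJ5537) (BT.leaf cJ5538)) (BT.leaf cJ5539))) (BT.node 5543 (BT.node 5541 (BT.node 5540 (BT.leaf cJ5540) (BT.leaf cJ5541)) (BT.node 5542 (BT.leaf cJ5542) (BT.leaf cJ5543))) (BT.node 5545 (BT.node 5544 (BT.leaf cJ5544) (BT.leaf cJ5545)) (BT.leaf cJ5546)))) (BT.node 5553 (BT.node 5550 (BT.node 5548 (BT.node 5547 (BT.leaf cJ5547) (BT.leaf cJ5548)) (BT.node 5549 (BT.leaf cJ5549) (BT.leaf cJ5550))) (BT.node 5552 (BT.node 5551 (BT.leaf cJ5551) (BT.leaf cJ5552)) (BT.leaf cJ5553))) (BT.node 5556 (BT.node 5555 (BT.node 5554 (BT.leaf cJ5554) (BT.leaf cJ5555)) (BT.leaf cJ5556)) (BT.node 5558 (BT.node 5557 (BT.leaf cJ5557) (BT.leaf cJ5558)) (BT.leaf cJ5559))))) (BT.node 5572 (BT.node 5566 (BT.node 5563 (BT.node 5561 (BT.node 5560 (BT.leaf cJ5560) (BT.leaf cJ5561)) (BT.node 5562 (BT.leaf cJ5562) (BT.leaf cJ5563))) (BT.node 5565 (BT.node 5564 (BT.leaf cJ5564) (BT.leaf cJ5565)) (BT.leaf cJ5566))) (BT.node 5569 (BT.node 5568 (BT.node 5567 (BT.leaf cJ5567) (BT.leaf cJ5568)) (BT.leaf cJ5569)) (BT.node 5571 (BT.node 5570 (BT.leaf cJ5570) (BT.leaf cJ5571)) (BT.leaf cJ5572)))) (BT.node 5579 (BT.node 5576 (BT.node 5574 (BT.node 5573 (BT.leaf cJ5573) (BT.leaf cJ5574)) (BT.node 5575 (BT.leaf cJ5575) (BT.leaf cJ5576))) (BT.node 5578 (BT.node 5577 (BT.leaf cJ5577) (BT.leaf cJ5578)) (BT.leaf cJ5579))) (BT.node 5582 (BT.node 5581 (BT.node 5580 (BT.leaf cJ5580) (BT.leaf cJ5581)) (BT.leaf cJ5582)) (BT.node 5584 (BT.node 5583 (BT.leaf cJ5583) (BT.leaf cJ5584)) (BT.leaf cJ5585))))))) (BT.node 5638 (BT.node 5612 (BT.node 5599 (BT.node 5592 (BT.node 5589 (BT.node 5587 (BT.node 5586 (BT.leaf cJ5586) (BT.leaf cJ5587)) (BT.node 5588 (BT.leaf cJ5588) (BT.leaf cJ5589))) (BT.node 5591 (BT.node 5590 (BT.leaf cJ5590) (BT.leaf cJ5591)) (BT.leaf cJ5592))) (BT.node 5596 (BT.node 5594 (BT.node 5593 (BT.leaf cJ5593) (BT.leaf cJ5594)) (BT.node 5595 (BT.leaf cJ5595) (BT.leaf cJ5596))) (BT.node 5598 (BT.node 5597 (BT.leaf cJ5597) (BT.leaf cJ5598)) (BT.leaf cJ5599)))) (BT.node 5606 (BT.node 5603 (BT.node 5601 (BT.node 5600 (BT.leaf cJ5600) (BT.leaf cJ5601)) (BT.node 5602 (BT.leaf cJ5602) (BT.leaf cJ5603))) (BT.node 5605 (BT.node 5604 (BT.leaf cJ5604) (BT.leaf cJ5605)) (BT.leaf cJ5606))) (BT.node 5609 (BT.node 5608 (BT.node 5607 (BT.leaf cJ5607) (BT.leaf cJ5608)) (BT.leaf cJ5609)) (BT.node 5611 (BT.node 5610 (BT.leaf cJ5610) (BT.leaf cJ5611)) (BT.leaf cJ5612))))) (BT.node 5625 (BT.node 5619 (BT.node 5616 (BT.node 5614 (BT.node 5613 (BT.leaf cJ5613) (BT.leaf cJ5614)) (BT.node 5615 (BT.leaf cJ5615) (BT.leaf cJ5616))) (BT.node 5618 (BT.node 5617 (BT.leaf cJ5617) (BT.leaf cJ5618)) (BT.leaf cJ5619))) (BT.node 5622 (BT.node 5621 (BT.node 5620 (BT.leaf cJ5620) (BT.leaf cJ5621)) (BT.leaf cJ5622)) (BT.node 5624 (BT.node 5623 (BT.leaf cJ5623) (BT.leaf cJ5624)) (BT.leaf cJ5625)))) (BT.node 5632 (BT.node 5629 (BT.node 5627 (BT.node 5626 (BT.leaf cJ5626) (BT.leaf cJ5627)) (BT.node 5628 (BT.leaf cJ5628) (BT.leaf cJ5629))) (BT.node 5631 (BT.node 5630 (BT.leaf cJ5630) (BT.leaf cJ5631)) (BT.leaf cJ5632))) (BT.node 5635 (BT.node 5634 (BT.node 5633 (BT.leaf cJ5633) (BT.leaf cJ5634)) (BT.leaf cJ5635)) (BT.node 5637 (BT.node 5636 (BT.leaf cJ5636) (BT.leaf cJ5637)) (BT.leaf cJ5638)))))) (BT.node 5664 (BT.node 5651 (BT.node 5645 (BT.node 5642 (BT.node 5640 (BT.node 5639 (BT.leaf cJ5639) (BT.leaf cJ5640)) (BT.node 5641 (BT.leaf cJ5641) (BT.leaf cJ5642))) (BT.node 5644 (BT.node 5643 (BT.leaf cJ5643) (BT.leaf cJ5644)) (BT.leaf cJ5645))) (BT.node 5648 (BT.node 5647 (BT.node 5646 (BT.leaf cJ5646) (BT.leaf cJ5647)) (BT.leaf cJ5648)) (BT.node 5650 (BT.node 5649 (BT.leaf cJ5649) (BT.leaf cJ5650)) (BT.leaf cJ5651)))) (BT.node 5658 (BT.node 5655 (BT.node 5653 (BT.node 5652 (BT.leaf cJ5652) (BT.leaf cJ5653)) (BT.node 5654 (BT.leaf cJ5654) (BT.leaf cJ5655))) (BT.node 5657 (BT.node 5656 (BT.leaf cJ5656) (BT.leaf cJ5657)) (BT.leaf cJ5658))) (BT.node 5661 (BT.node 5660 (BT.node 5659 (BT.leaf cJ5659) (BT.leaf cJ5660)) (BT.leaf cJ5661)) (BT.node 5663 (BT.node 5662 (BT.leaf cJ5662) (BT.leaf cJ5663)) (BT.leaf cJ5664))))) (BT.node 5677 (BT.node 5671 (BT.node 5668 (BT.node 5666 (BT.node 5665 (BT.leaf cJ5665) (BT.leaf cJ5666)) (BT.node 5667 (BT.leaf cJ5667) (BT.leaf cJ5668))) (BT.node 5670 (BT.node 5669 (BT.leaf cJ5669) (BT.leaf cJ5670)) (BT.leaf cJ5671))) (BT.node 5674 (BT.node 5673 (BT.node 5672 (BT.leaf cJ5672) (BT.leaf cJ5673)) (BT.leaf cJ5674)) (BT.node 5676 (BT.node 5675 (BT.leaf cJ5675) (BT.leaf cJ5676)) (BT.leaf cJ5677)))) (BT.node 5684 (BT.node 5681 (BT.node 5679 (BT.node 5678 (BT.leaf cJ5678) (BT.leaf cJ5679)) (BT.node 5680 (BT.leaf cJ5680) (BT.leaf cJ5681))) (BT.node 5683 (BT.node 5682 (BT.leaf cJ5682) (BT.leaf cJ5683)) (BT.leaf cJ5684))) (BT.node 5687 (BT.node 5686 (BT.node 5685 (BT.leaf cJ5685) (BT.leaf cJ5686)) (BT.leaf cJ5687)) (BT.node 5689 (BT.node 5688 (BT.leaf cJ5688) (BT.leaf cJ5689)) (BT.leaf cJ5690)))))))) (BT.node 5795 (BT.node 5743 (BT.node 5717 (BT.node 5704 (BT.node 5697 (BT.node 5694 (BT.node 5692 (BT.node 5691 (BT.leaf cJ5691) (BT.leaf cJ5692)) (BT.node 5693 (BT.leaf cJ5693) (BT.leaf cJ5694))) (BT.node 5696 (BT.node 5695 (BT.leaf cJ5695) (BT.leaf cJ5696)) (BT.leaf cJ5697))) (BT.node 5701 (BT.node 5699 (BT.node 5698 (BT.leaf cJ5698) (BT.leaf cJ5699)) (BT.node 5700 (BT.leaf cJ5700) (BT.leaf cJ5701))) (BT.node 5703 (BT.node 5702 (BT.leaf cJ5702) (BT.leaf cJ5703)) (BT.leaf cJ5704)))) (BT.node 5711 (BT.node 5708 (BT.node 5706 (BT.node 5705 (BT.leaf cJ5705) (BT.leaf cJ5706)) (BT.node 5707 (BT.leaf cJ5707) (BT.leaf cJ5708))) (BT.node 5710 (BT.node 5709 (BT.leaf cJ5709) (BT.leaf cJ5710)) (BT.leaf cJ5711))) (BT.node 5714 (BT.node 5713 (BT.node 5712 (BT.leaf cJ5712) (BT.leaf cJ5713)) (BT.leaf cJ5714)) (BT.node 5716 (BT.node 5715 (BT.leaf cJ5715) (BT.leaf cJ5716)) (BT.leaf cJ5717))))) (BT.node 5730 (BT.node 5724 (BT.node 5721 (BT.node 5719 (BT.node 5718 (BT.leaf cJ5718) (BT.leaf cJ5719)) (BT.node 5720 (BT.leaf cJ5720) (BT.leaf cJ5721))) (BT.node 5723 (BT.node 5722 (BT.leaf cJ5722) (BT.leaf cJ5723)) (BT.leaf cJ5724))) (BT.node 5727 (BT.node 5726 (BT.node 5725 (BT.leaf cJ5725) (BT.leaf cJ5726)) (BT.leaf cJ5727)) (BT.node 5729 (BT.node 5728 (BT.leaf cJ5728) (BT.leaf cJ5729)) (BT.leaf cJ5730)))) (BT.node 5737 (BT.node 5734 (BT.node 5732 (BT.node 5731 (BT.leaf cJ5731) (BT.leaf cJ5732)) (BT.node 5733 (BT.leaf cJ5733) (BT.leaf cJ5734))) (BT.node 5736 (BT.node 5735 (BT.leaf cJ5735) (BT.leaf cJ5736)) (BT.leaf cJ5737))) (BT.node 5740 (BT.node 5739 (BT.node 5738 (BT.leaf cJ5738) (BT.leaf cJ5739)) (BT.leaf cJ5740)) (BT.node 5742 (BT.node 5741 (BT.leaf cJ5741) (BT.leaf cJ5742)) (BT.leaf cJ5743)))))) (BT.node 5769 (BT.node 5756 (BT.node 5750 (BT.node 5747 (BT.node 5745 (BT.node 5744 (BT.leaf cJ5744) (BT.leaf cJ5745)) (BT.node 5746 (BT.leaf cJ5746) (BT.leaf cJ5747))) (BT.node 5749 (BT.node 5748 (BT.leaf cJ5748) (BT.leaf cJ5749)) (BT.leaf cJ5750))) (BT.node 5753 (BT.node 5752 (BT.node 5751 (BT.leaf cJ5751) (BT.leaf cJ5752)) (BT.leaf cJ5753)) (BT.node 5755 (BT.node 5754 (BT.leaf cJ5754) (BT.leaf cJ5755)) (BT.leaf cJ5756)))) (BT.node 5763 (BT.node 5760 (BT.node 5758 (BT.node 5757 (BT.leaf cJ5757) (BT.leaf cJ5758)) (BT.node 5759 (BT.leaf cJ5759) (BT.leaf cJ5760))) (BT.node 5762 (BT.node 5761 (BT.leaf cJ5761) (BT.leaf cJ5762)) (BT.leaf cJ5763))) (BT.node 5766 (BT.node 5765 (BT.node 5764 (BT.leaf cJ5764) (BT.leaf cJ5765)) (BT.leaf cJ5766)) (BT.node 5768 (BT.node 5767 (BT.leaf cJ5767) (BT.leaf cJ5768)) (BT.leaf cJ5769))))) (BT.node 5782 (BT.node 5776 (BT.node 5773 (BT.node 5771 (BT.node 5770 (BT.leaf cJ5770) (BT.leaf cJ5771)) (BT.node 5772 (BT.leaf cJ5772) (BT.leaf cJ5773))) (BT.node 5775 (BT.node 5774 (BT.leaf cJ5774) (BT.leaf cJ5775)) (BT.leaf cJ5776))) (BT.node 5779 (BT.node 5778 (BT.node 5777 (BT.leaf cJ5777) (BT.leaf cJ5778)) (BT.leaf cJ5779)) (BT.node 5781 (BT.node 5780 (BT.leaf cJ5780) (BT.leaf cJ5781)) (BT.leaf cJ5782)))) (BT.node 5789 (BT.node 5786 (BT.node 5784 (BT.node 5783 (BT.leaf cJ5783) (BT.leaf cJ5784)) (BT.node 5785 (BT.leaf cJ5785) (BT.leaf cJ5786))) (BT.node 5788 (BT.node 5787 (BT.leaf cJ5787) (BT.leaf cJ5788)) (BT.leaf cJ5789))) (BT.node 5792 (BT.node 5791 (BT.node 5790 (BT.leaf cJ5790) (BT.leaf cJ5791)) (BT.leaf cJ5792)) (BT.node 5794 (BT.node 5793 (BT.leaf cJ5793) (BT.leaf cJ5794)) (BT.leaf cJ5795))))))) (BT.node 5848 (BT.node 5822 (BT.node 5809 (BT.node 5802 (BT.node 5799 (BT.node 5797 (BT.node 5796 (BT.leaf cJ5796) (BT.leaf cJ5797)) (BT.node 5798 (BT.leaf cJ5798) (BT.leaf cJ5799))) (BT.node 5801 (BT.node 5800 (BT.leaf cJ5800) (BT.leaf cJ5801)) (BT.leaf cJ5802))) (BT.node 5806 (BT.node 5804 (BT.node 5803 (BT.leaf cJ5803) (BT.leaf cJ5804)) (BT.node 5805 (BT.leaf cJ5805) (BT.leaf cJ5806))) (BT.node 5808 (BT.node 5807 (BT.leaf cJ5807) (BT.leaf cJ5808)) (BT.leaf cJ5809)))) (BT.node 5816 (BT.node 5813 (BT.node 5811 (BT.node 5810 (BT.leaf cJ5810) (BT.leaf cJ5811)) (BT.node 5812 (BT.leaf cJ5812) (BT.leaf cJ5813))) (BT.node 5815 (BT.node 5814 (BT.leaf cJ5814) (BT.leaf cJ5815)) (BT.leaf cJ5816))) (BT.node 5819 (BT.node 5818 (BT.node 5817 (BT.leaf cJ5817) (BT.leaf cJ5818)) (BT.leaf cJ5819)) (BT.node 5821 (BT.node 5820 (BT.leaf cJ5820) (BT.leaf cJ5821)) (BT.leaf cJ5822))))) (BT.node 5835 (BT.node 5829 (BT.node 5826 (BT.node 5824 (BT.node 5823 (BT.leaf cJ5823) (BT.leaf cJ5824)) (BT.node 5825 (BT.leaf cJ5825) (BT.leaf cJ5826))) (BT.node 5828 (BT.node 5827 (BT.leaf cJ5827) (BT.leaf cJ5828)) (BT.leaf cJ5829))) (BT.node 5832 (BT.node 5831 (BT.node 5830 (BT.leaf cJ5830) (BT.leaf cJ5831)) (BT.leaf cJ5832)) (BT.node 5834 (BT.node 5833 (BT.leaf cJ5833) (BT.leaf cJ5834)) (BT.leaf cJ5835)))) (BT.node 5842 (BT.node 5839 (BT.node 5837 (BT.node 5836 (BT.leaf cJ5836) (BT.leaf cJ5837)) (BT.node 5838 (BT.leaf cJ5838) (BT.leaf cJ5839))) (BT.node 5841 (BT.node 5840 (BT.leaf cJ5840) (BT.leaf cJ5841)) (BT.leaf cJ5842))) (BT.node 5845 (BT.node 5844 (BT.node 5843 (BT.leaf cJ5843) (BT.leaf cJ5844)) (BT.leaf cJ5845)) (BT.node 5847 (BT.node 5846 (BT.leaf cJ5846) (BT.leaf cJ5847)) (BT.leaf cJ5848)))))) (BT.node 5874 (BT.node 5861 (BT.node 5855 (BT.node 5852 (BT.node 5850 (BT.node 5849 (BT.leaf cJ5849) (BT.leaf cJ5850)) (BT.node 5851 (BT.leaf cJ5851) (BT.leaf cJ5852))) (BT.node 5854 (BT.node 5853 (BT.leaf cJ5853) (BT.leaf cJ5854)) (BT.leaf cJ5855))) (BT.node 5858 (BT.node 5857 (BT.node 5856 (BT.leaf cJ5856) (BT.leaf cJ5857)) (BT.leaf cJ5858)) (BT.node 5860 (BT.node 5859 (BT.leaf cJ5859) (BT.leaf cJ5860)) (BT.leaf cJ5861)))) (BT.node 5868 (BT.node 5865 (BT.node 5863 (BT.node 5862 (BT.leaf cJ5862) (BT.leaf cJ5863)) (BT.node 5864 (BT.leaf cJ5864) (BT.leaf cJ5865))) (BT.node 5867 (BT.node 5866 (BT.leaf cJ5866) (BT.leaf cJ5867)) (BT.leaf cJ5868))) (BT.node 5871 (BT.node 5870 (BT.node 5869 (BT.leaf cJ5869) (BT.leaf cJ5870)) (BT.leaf cJ5871)) (BT.node 5873 (BT.node 5872 (BT.leaf cJ5872) (BT.leaf cJ5873)) (BT.leaf cJ5874))))) (BT.node 5887 (BT.node 5881 (BT.node 5878 (BT.node 5876 (BT.node 5875 (BT.leaf cJ5875) (BT.leaf cJ5876)) (BT.node 5877 (BT.leaf cJ5877) (BT.leaf cJ5878))) (BT.node 5880 (BT.node 5879 (BT.leaf cJ5879) (BT.leaf cJ5880)) (BT.leaf cJ5881))) (BT.node 5884 (BT.node 5883 (BT.node 5882 (BT.leaf cJ5882) (BT.leaf cJ5883)) (BT.leaf cJ5884)) (BT.node 5886 (BT.node 5885 (BT.leaf cJ5885) (BT.leaf cJ5886)) (BT.leaf cJ5887)))) (BT.node 5894 (BT.node 5891 (BT.node 5889 (BT.node 5888 (BT.leaf cJ5888) (BT.leaf cJ5889)) (BT.node 5890 (BT.leaf cJ5890) (BT.leaf cJ5891))) (BT.node 5893 (BT.node 5892 (BT.leaf cJ5892) (BT.leaf cJ5893)) (BT.leaf cJ5894))) (BT.node 5897 (BT.node 5896 (BT.node 5895 (BT.leaf cJ5895) (BT.leaf cJ5896)) (BT.leaf cJ5897)) (BT.node 5899 (BT.node 5898 (BT.leaf cJ5898) (BT.leaf cJ5899)) (BT.leaf cJ5900)))))))))) (BT.node 6321 (BT.node 6111 (BT.node 6006 (BT.node 5953 (BT.node 5927 (BT.node 5914 (BT.node 5907 (BT.node 5904 (BT.node 5902 (BT.node 5901 (BT.leaf cJ5901) (BT.leaf cJ5902)) (BT.node 5903 (BT.leaf cJ5903) (BT.leaf cJ5904))) (BT.node 5906 (BT.node 5905 (BT.leaf cJ5905) (BT.leaf cJ5906)) (BT.leaf cJ5907))) (BT.node 5911 (BT.node 5909 (BT.node 5908 (BT.leaf cJ5908) (BT.leaf cJ5909)) (BT.node 5910 (BT.leaf cJ5910) (BT.leaf cJ5911))) (BT.node 5913 (BT.node 5912 (BT.leaf cJ5912) (BT.leaf cJ5913)) (BT.leaf cJ5914)))) (BT.node 5921 (BT.node 5918 (BT.node 5916 (BT.node 5915 (BT.leaf cJ5915) (BT.leaf cJ5916)) (BT.node 5917 (BT.leaf cJ5917) (BT.leaf cJ5918))) (BT.node 5920 (BT.node 5919 (BT.leaf cJ5919) (BT.leaf cJ5920)) (BT.leaf cJ5921))) (BT.node 5924 (BT.node 5923 (BT.node 5922 (BT.leaf cJ5922) (BT.leaf cJ5923)) (BT.leaf cJ5924)) (BT.node 5926 (BT.node 5925 (BT.leaf cJ5925) (BT.leaf cJ5926)) (BT.leaf cJ5927))))) (BT.node 5940 (BT.node 5934 (BT.node 5931 (BT.node 5929 (BT.node 5928 (BT.leaf cJ5928) (BT.leaf cJ5929)) (BT.node 5930 (BT.leaf cJ5930) (BT.leaf cJ5931))) (BT.node 5933 (BT.node 5932 (BT.leaf cJ5932) (BT.leaf cJ5933)) (BT.leaf cJ5934))) (BT.node 5937 (BT.node 5936 (BT.node 5935 (BT.leaf cJ5935) (BT.leaf cJ5936)) (BT.leaf cJ5937)) (BT.node 5939 (BT.node 5938 (BT.leaf cJ5938) (BT.leaf cJ5939)) (BT.leaf cJ5940)))) (BT.node 5947 (BT.node 5944 (BT.node 5942 (BT.node 5941 (BT.leaf cJ5941) (BT.leaf cJ5942)) (BT.node 5943 (BT.leaf cJ5943) (BT.leaf cJ5944))) (BT.node 5946 (BT.node 5945 (BT.leaf cJ5945) (BT.leaf cJ5946)) (BT.leaf cJ5947))) (BT.node 5950 (BT.node 5949 (BT.node 5948 (BT.leaf cJ5948) (BT.leaf cJ5949)) (BT.leaf cJ5950)) (BT.node 5952 (BT.node 5951 (BT.leaf cJ5951) (BT.leaf cJ5952)) (BT.leaf cJ5953)))))) (BT.node 5980 (BT.node 5967 (BT.node 5960 (BT.node 5957 (BT.node 5955 (BT.node 5954 (BT.leaf cJ5954) (BT.leaf cJ5955)) (BT.node 5956 (BT.leaf cJ5956) (BT.leaf cJ5957))) (BT.node 5959 (BT.node 5958 (BT.leaf cJ5958) (BT.leaf cJ5959)) (BT.leaf cJ5960))) (BT.node 5964 (BT.node 5962 (BT.node 5961 (BT.leaf cJ5961) (BT.leaf cJ5962)) (BT.node 5963 (BT.leaf cJ5963) (BT.leaf cJ5964))) (BT.node 5966 (BT.node 5965 (BT.leaf cJ5965) (BT.leaf cJ5966)) (BT.leaf cJ5967)))) (BT.node 5974 (BT.node 5971 (BT.node 5969 (BT.node 5968 (BT.leaf cJ5968) (BT.leaf cJ5969)) (BT.node 5970 (BT.leaf cJ5970) (BT.leaf cJ5971))) (BT.node 5973 (BT.node 5972 (BT.leaf cJ5972) (BT.leaf cJ5973)) (BT.leaf cJ5974))) (BT.node 5977 (BT.node 5976 (BT.node 5975 (BT.leaf cJ5975) (BT.leaf cJ5976)) (BT.leaf cJ5977)) (BT.node 5979 (BT.node 5978 (BT.leaf cJ5978) (BT.leaf cJ5979)) (BT.leaf cJ5980))))) (BT.node 5993 (BT.node 5987 (BT.node 5984 (BT.node 5982 (BT.node 5981 (BT.leaf cJ5981) (BT.leaf cJ5982)) (BT.node 5983 (BT.leaf cJ5983) (BT.leaf cJ5984))) (BT.node 5986 (BT.node 5985 (BT.leaf cJ5985) (BT.leaf cJ5986)) (BT.leaf cJ5987))) (BT.node 5990 (BT.node 5989 (BT.node 5988 (BT.leaf cJ5988) (BT.leaf cJ5989)) (BT.leaf cJ5990)) (BT.node 5992 (BT.node 5991 (BT.leaf cJ5991) (BT.leaf cJ5992)) (BT.leaf cJ5993)))) (BT.node 6000 (BT.node 5997 (BT.node 5995 (BT.node 5994 (BT.leaf cJ5994) (BT.leaf cJ5995)) (BT.node 5996 (BT.leaf cJ5996) (BT.leaf cJ5997))) (BT.node 5999 (BT.node 5998 (BT.leaf cJ5998) (BT.leaf cJ5999)) (BT.leaf cJ6000))) (BT.node 6003 (BT.node 6002 (BT.node 6001 (BT.leaf cJ6001) (BT.leaf cJ6002)) (BT.leaf cJ6003)) (BT.node 6005 (BT.node 6004 (BT.leaf cJ6004) (BT.leaf cJ6005)) (BT.leaf cJ6006))))))) (BT.node 6059 (BT.node 6033 (BT.node 6020 (BT.node 6013 (BT.node 6010 (BT.node 6008 (BT.node 6007 (BT.leaf cJ6007) (BT.leaf cJ6008)) (BT.node 6009 (BT.leaf cJ6009) (BT.leaf cJ6010))) (BT.node 6012 (BT.node 6011 (BT.leaf cJ6011) (BT.leaf cJ6012)) (BT.leaf cJ6013))) (BT.node 6017 (BT.node 6015 (BT.node 6014 (BT.leaf cJ6014) (BT.leaf cJ6015)) (BT.node 6016 (BT.leaf cJ6016) (BT.leaf cJ6017))) (BT.node 6019 (BT.node 6018 (BT.leaf cJ6018) (BT.leaf cJ6019)) (BT.leaf cJ6020)))) (BT.node 6027 (BT.node 6024 (BT.node 6022 (BT.node 6021 (BT.leaf cJ6021) (BT.leaf cJ6022)) (BT.node 6023 (BT.leaf cJ6023) (BT.leaf cJ6024))) (BT.node 6026 (BT.node 6025 (BT.leaf cJ6025) (BT.leaf cJ6026)) (BT.leaf cJ6027))) (BT.node 6030 (BT.node 6029 (BT.node 6028 (BT.leaf cJ6028) (BT.leaf cJ6029)) (BT.leaf cJ6030)) (BT.node 6032 (BT.node 6031 (BT.leaf cJ6031) (BT.leaf cJ6032)) (BT.leaf cJ6033))))) (BT.node 6046 (BT.node 6040 (BT.node 6037 (BT.node 6035 (BT.node 6034 (BT.leaf cJ6034) (BT.leaf cJ6035)) (BT.node 6036 (BT.leaf cJ6036) (BT.leaf cJ6037))) (BT.node 6039 (BT.node 6038 (BT.leaf cJ6038) (BT.leaf cJ6039)) (BT.leaf cJ6040))) (BT.node 6043 (BT.node 6042 (BT.node 6041 (BT.leaf cJ6041) (BT.leaf cJ6042)) (BT.leaf cJ6043)) (BT.node 6045 (BT.node 6044 (BT.leaf cJ6044) (BT.leaf cJ6045)) (BT.leaf cJ6046)))) (BT.node 6053 (BT.node 6050 (BT.node 6048 (BT.node 6047 (BT.leaf cJ6047) (BT.leaf cJ6048)) (BT.node 6049 (BT.leaf cJ6049) (BT.leaf cJ6050))) (BT.node 6052 (BT.node 6051 (BT.leaf cJ6051) (BT.leaf cJ6052)) (BT.leaf cJ6053))) (BT.node 6056 (BT.node 6055 (BT.node 6054 (BT.leaf cJ6054) (BT.leaf cJ6055)) (BT.leaf cJ6056)) (BT.node 6058 (BT.node 6057 (BT.leaf cJ6057) (BT.leaf cJ6058)) (BT.leaf cJ6059)))))) (BT.node 6085 (BT.node 6072 (BT.node 6066 (BT.node 6063 (BT.node 6061 (BT.node 6060 (BT.leaf cJ6060) (BT.leaf cJ6061)) (BT.node 6062 (BT.leaf cJ6062) (BT.leaf cJ6063))) (BT.node 6065 (BT.node 6064 (BT.leaf cJ6064) (BT.leaf cJ6065)) (BT.leaf cJ6066))) (BT.node 6069 (BT.node 6068 (BT.node 6067 (BT.leaf cJ6067) (BT.leaf cJ6068)) (BT.leaf cJ6069)) (BT.node 6071 (BT.node 6070 (BT.leaf cJ6070) (BT.leaf cJ6071)) (BT.leaf cJ6072)))) (BT.node 6079 (BT.node 6076 (BT.node 6074 (BT.node 6073 (BT.leaf cJ6073) (BT.leaf cJ6074)) (BT.node 6075 (BT.leaf cJ6075) (BT.leaf cJ6076))) (BT.node 6078 (BT.node 6077 (BT.leaf cJ6077) (BT.leaf cJ6078)) (BT.leaf cJ6079))) (BT.node 6082 (BT.node 6081 (BT.node 6080 (BT.leaf cJ6080) (BT.leaf cJ6081)) (BT.leaf cJ6082)) (BT.node 6084 (BT.node 6083 (BT.leaf cJ6083) (BT.leaf cJ6084)) (BT.leaf cJ6085))))) (BT.node 6098 (BT.node 6092 (BT.node 6089 (BT.node 6087 (BT.node 6086 (BT.leaf cJ6086) (BT.leaf cJ6087)) (BT.node 6088 (BT.leaf cJ6088) (BT.leaf cJ6089))) (BT.node 6091 (BT.node 6090 (BT.leaf cJ6090) (BT.leaf cJ6091)) (BT.leaf cJ6092))) (BT.node 6095 (BT.node 6094 (BT.node 6093 (BT.leaf cJ6093) (BT.leaf cJ6094)) (BT.leaf cJ6095)) (BT.node 6097 (BT.node 6096 (BT.leaf cJ6096) (BT.leaf cJ6097)) (BT.leaf cJ6098)))) (BT.node 6105 (BT.node 6102 (BT.node 6100 (BT.node 6099 (BT.leaf cJ6099) (BT.leaf cJ6100)) (BT.node 6101 (BT.leaf cJ6101) (BT.leaf cJ6102))) (BT.node 6104 (BT.node 6103 (BT.leaf cJ6103) (BT.leaf cJ6104)) (BT.leaf cJ6105))) (BT.node 6108 (BT.node 6107 (BT.node 6106 (BT.leaf cJ6106) (BT.leaf cJ6107)) (BT.leaf cJ6108)) (BT.node 6110 (BT.node 6109 (BT.leaf cJ6109) (BT.leaf cJ6110)) (BT.leaf cJ6111)))))))) (BT.node 6216 (BT.node 6164 (BT.node 6138 (BT.node 6125 (BT.node 6118 (BT.node 6115 (BT.node 6113 (BT.node 6112 (BT.leaf cJ6112) (BT.leaf cJ6113)) (BT.node 6114 (BT.leaf cJ6114) (BT.leaf cJ6115))) (BT.node 6117 (BT.node 6116 (BT.leaf cJ6116) (BT.leaf cJ6117)) (BT.leaf cJ6118))) (BT.node 6122 (BT.node 6120 (BT.node 6119 (BT.leaf cJ6119) (BT.leaf cJ6120)) (BT.node 6121 (BT.leaf cJ6121) (BT.leaf cJ6122))) (BT.node 6124 (BT.node 6123 (BT.leaf cJ6123) (BT.leaf cJ6124)) (BT.leaf cJ6125)))) (BT.node 6132 (BT.node 6129 (BT.node 6127 (BT.node 6126 (BT.leaf cJ6126) (BT.leaf cJ6127)) (BT.node 6128 (BT.leaf cJ6128) (BT.leaf cJ6129))) (BT.node 6131 (BT.node 6130 (BT.leaf cJ6130) (BT.leaf cJ6131)) (BT.leaf cJ6132))) (BT.node 6135 (BT.node 6134 (BT.node 6133 (BT.leaf cJ6133) (BT.leaf cJ6134)) (BT.leaf cJ6135)) (BT.node 6137 (BT.node 6136 (BT.leaf cJ6136) (BT.leaf cJ6137)) (BT.leaf cJ6138))))) (BT.node 6151 (BT.node 6145 (BT.node 6142 (BT.node 6140 (BT.node 6139 (BT.leaf cJ6139) (BT.leaf cJ6140)) (BT.node 6141 (BT.leaf cJ6141) (BT.leaf cJ6142))) (BT.node 6144 (BT.node 6143 (BT.leaf cJ6143) (BT.leaf cJ6144)) (BT.leaf cJ6145))) (BT.node 6148 (BT.node 6147 (BT.node 6146 (BT.leaf cJ6146) (BT.leaf cJ6147)) (BT.leaf cJ6148)) (BT.node 6150 (BT.node 6149 (BT.leaf cJ6149) (BT.leaf cJ6150)) (BT.leaf cJ6151)))) (BT.node 6158 (BT.node 6155 (BT.node 6153 (BT.node 6152 (BT.leaf cJ6152) (BT.leaf cJ6153)) (BT.node 6154 (BT.leaf cJ6154) (BT.leaf cJ6155))) (BT.node 6157 (BT.node 6156 (BT.leaf cJ6156) (BT.leaf cJ6157)) (BT.leaf cJ6158))) (BT.node 6161 (BT.node 6160 (BT.node 6159 (BT.leaf cJ6159) (BT.leaf cJ6160)) (BT.leaf cJ6161)) (BT.node 6163 (BT.node 6162 (BT.leaf cJ6162) (BT.leaf cJ6163)) (BT.leaf cJ6164)))))) (BT.node 6190 (BT.node 6177 (BT.node 6171 (BT.node 6168 (BT.node 6166 (BT.node 6165 (BT.leaf cJ6165) (BT.leaf cJ6166)) (BT.node 6167 (BT.leaf cJ6167) (BT.leaf cJ6168))) (BT.node 6170 (BT.node 6169 (BT.leaf cJ6169) (BT.leaf cJ6170)) (BT.leaf cJ6171))) (BT.node 6174 (BT.node 6173 (BT.node 6172 (BT.leaf cJ6172) (BT.leaf cJ6173)) (BT.leaf cJ6174)) (BT.node 6176 (BT.node 6175 (BT.leaf cJ6175) (BT.leaf cJ6176)) (BT.leaf cJ6177)))) (BT.node 6184 (BT.node 6181 (BT.node 6179 (BT.node 6178 (BT.leaf cJ6178) (BT.leaf cJ6179)) (BT.node 6180 (BT.leaf cJ6180) (BT.leaf cJ6181))) (BT.node 6183 (BT.node 6182 (BT.leaf cJ6182) (BT.leaf cJ6183)) (BT.leaf cJ6184))) (BT.node 6187 (BT.node 6186 (BT.node 6185 (BT.leaf cJ6185) (BT.leaf cJ6186)) (BT.leaf cJ6187)) (BT.node 6189 (BT.node 6188 (BT.leaf cJ6188) (BT.leaf cJ6189)) (BT.leaf cJ6190))))) (BT.node 6203 (BT.node 6197 (BT.node 6194 (BT.node 6192 (BT.node 6191 (BT.leaf cJ6191) (BT.leaf cJ6192)) (BT.node 6193 (BT.leaf cJ6193) (BT.leaf cJ6194))) (BT.node 6196 (BT.node 6195 (BT.leaf cJ6195) (BT.leaf cJ6196)) (BT.leaf cJ6197))) (BT.node 6200 (BT.node 6199 (BT.node 6198 (BT.leaf cJ6198) (BT.leaf cJ6199)) (BT.leaf cJ6200)) (BT.node 6202 (BT.node 6201 (BT.leaf cJ6201) (BT.leaf cJ6202)) (BT.leaf cJ6203)))) (BT.node 6210 (BT.node 6207 (BT.node 6205 (BT.node 6204 (BT.leaf cJ6204) (BT.leaf cJ6205)) (BT.node 6206 (BT.leaf cJ6206) (BT.leaf cJ6207))) (BT.node 6209 (BT.node 6208 (BT.leaf cJ6208) (BT.leaf cJ6209)) (BT.leaf cJ6210))) (BT.node 6213 (BT.node 6212 (BT.node 6211 (BT.leaf cJ6211) (BT.leaf cJ6212)) (BT.leaf cJ6213)) (BT.node 6215 (BT.node 6214 (BT.leaf cJ6214) (BT.leaf cJ6215)) (BT.leaf cJ6216))))))) (BT.node 6269 (BT.node 6243 (BT.node 6230 (BT.node 6223 (BT.node 6220 (BT.node 6218 (BT.node 6217 (BT.leaf cJ6217) (BT.leaf cJ6218)) (BT.node 6219 (BT.leaf cJ6219) (BT.leaf cJ6220))) (BT.node 6222 (BT.node 6221 (BT.leaf cJ6221) (BT.leaf cJ6222)) (BT.leaf cJ6223))) (BT.node 6227 (BT.node 6225 (BT.node 6224 (BT.leaf cJ6224) (BT.leaf cJ6225)) (BT.node 6226 (BT.leaf cJ6226) (BT.leaf cJ6227))) (BT.node 6229 (BT.node 6228 (BT.leaf cJ6228) (BT.leaf cJ6229)) (BT.leaf cJ6230)))) (BT.node 6237 (BT.node 6234 (BT.node 6232 (BT.node 6231 (BT.leaf cJ6231) (BT.leaf cJ6232)) (BT.node 6233 (BT.leaf cJ6233) (BT.leaf cJ6234))) (BT.node 6236 (BT.node 6235 (BT.leaf cJ6235) (BT.leaf cJ6236)) (BT.leaf cJ6237))) (BT.node 6240 (BT.node 6239 (BT.node 6238 (BT.leaf cJ6238) (BT.leaf cJ6239)) (BT.leaf cJ6240)) (BT.node 6242 (BT.node 6241 (BT.leaf cJ6241) (BT.leaf cJ6242)) (BT.leaf cJ6243))))) (BT.node 6256 (BT.node 6250 (BT.node 6247 (BT.node 6245 (BT.node 6244 (BT.leaf cJ6244) (BT.leaf cJ6245)) (BT.node 6246 (BT.leaf cJ6246) (BT.leaf cJ6247))) (BT.node 6249 (BT.node 6248 (BT.leaf cJ6248) (BT.leaf cJ6249)) (BT.leaf cJ6250))) (BT.node 6253 (BT.node 6252 (BT.node 6251 (BT.leaf cJ6251) (BT.leaf cJ6252)) (BT.leaf cJ6253)) (BT.node 6255 (BT.node 6254 (BT.leaf cJ6254) (BT.leaf cJ6255)) (BT.leaf cJ6256)))) (BT.node 6263 (BT.node 6260 (BT.node 6258 (BT.node 6257 (BT.leaf cJ6257) (BT.leaf cJ6258)) (BT.node 6259 (BT.leaf cJ6259) (BT.leaf cJ6260))) (BT.node 6262 (BT.node 6261 (BT.leaf cJ6261) (BT.leaf cJ6262)) (BT.leaf cJ6263))) (BT.node 6266 (BT.node 6265 (BT.node 6264 (BT.leaf cJ6264) (BT.leaf cJ6265)) (BT.leaf cJ6266)) (BT.node 6268 (BT.node 6267 (BT.leaf cJ6267) (BT.leaf cJ6268)) (BT.leaf cJ6269)))))) (BT.node 6295 (BT.node 6282 (BT.node 6276 (BT.node 6273 (BT.node 6271 (BT.node 6270 (BT.leaf cJ6270) (BT.leaf cJ6271)) (BT.node 6272 (BT.leaf cJ6272) (BT.leaf cJ6273))) (BT.node 6275 (BT.node 6274 (BT.leaf cJ6274) (BT.leaf cJ6275)) (BT.leaf cJ6276))) (BT.node 6279 (BT.node 6278 (BT.node 6277 (BT.leaf cJ6277) (BT.leaf cJ6278)) (BT.leaf cJ6279)) (BT.node 6281 (BT.node 6280 (BT.leaf cJ6280) (BT.leaf cJ6281)) (BT.leaf cJ6282)))) (BT.node 6289 (BT.node 6286 (BT.node 6284 (BT.node 6283 (BT.leaf cJ6283) (BT.leaf cJ6284)) (BT.node 6285 (BT.leaf cJ6285) (BT.leaf cJ6286))) (BT.node 6288 (BT.node 6287 (BT.leaf cJ6287) (BT.leaf cJ6288)) (BT.leaf cJ6289))) (BT.node 6292 (BT.node 6291 (BT.node 6290 (BT.leaf cJ6290) (BT.leaf cJ6291)) (BT.leaf cJ6292)) (BT.node 6294 (BT.node 6293 (BT.leaf cJ6293) (BT.leaf cJ6294)) (BT.leaf cJ6295))))) (BT.node 6308 (BT.node 6302 (BT.node 6299 (BT.node 6297 (BT.node 6296 (BT.leaf cJ6296) (BT.leaf cJ6297)) (BT.node 6298 (BT.leaf cJ6298) (BT.leaf cJ6299))) (BT.node 6301 (BT.node 6300 (BT.leaf cJ6300) (BT.leaf cJ6301)) (BT.leaf cJ6302))) (BT.node 6305 (BT.node 6304 (BT.node 6303 (BT.leaf cJ6303) (BT.leaf cJ6304)) (BT.leaf cJ6305)) (BT.node 6307 (BT.node 6306 (BT.leaf cJ6306) (BT.leaf cJ6307)) (BT.leaf cJ6308)))) (BT.node 6315 (BT.node 6312 (BT.node 6310 (BT.node 6309 (BT.leaf cJ6309) (BT.leaf cJ6310)) (BT.node 6311 (BT.leaf cJ6311) (BT.leaf cJ6312))) (BT.node 6314 (BT.node 6313 (BT.leaf cJ6313) (BT.leaf cJ6314)) (BT.leaf cJ6315))) (BT.node 6318 (BT.node 6317 (BT.node 6316 (BT.leaf cJ6316) (BT.leaf cJ6317)) (BT.leaf cJ6318)) (BT.node 6320 (BT.node 6319 (BT.leaf cJ6319) (BT.leaf cJ6320)) (BT.leaf cJ6321))))))))) (BT.node 6532 (BT.node 6427 (BT.node 6374 (BT.node 6348 (BT.node 6335 (BT.node 6328 (BT.node 6325 (BT.node 6323 (BT.node 6322 (BT.leaf cJ6322) (BT.leaf cJ6323)) (BT.node 6324 (BT.leaf cJ6324) (BT.leaf cJ6325))) (BT.node 6327 (BT.node 6326 (BT.leaf cJ6326) (BT.leaf cJ6327)) (BT.leaf cJ6328))) (BT.node 6332 (BT.node 6330 (BT.node 6329 (BT.leaf cJ6329) (BT.leaf cJ6330)) (BT.node 6331 (BT.leaf cJ6331) (BT.leaf cJ6332))) (BT.node 6334 (BT.node 6333 (BT.leaf cJ6333) (BT.leaf cJ6334)) (BT.leaf cJ6335)))) (BT.node 6342 (BT.node 6339 (BT.node 6337 (BT.node 6336 (BT.leaf cJ6336) (BT.leaf cJ6337)) (BT.node 6338 (BT.leaf cJ6338) (BT.leaf cJ6339))) (BT.node 6341 (BT.node 6340 (BT.leaf cJ6340) (BT.leaf cJ6341)) (BT.leaf cJ6342))) (BT.node 6345 (BT.node 6344 (BT.node 6343 (BT.leaf cJ6343) (BT.leaf cJ6344)) (BT.leaf cJ6345)) (BT.node 6347 (BT.node 6346 (BT.leaf cJ6346) (BT.leaf cJ6347)) (BT.leaf cJ6348))))) (BT.node 6361 (BT.node 6355 (BT.node 6352 (BT.node 6350 (BT.node 6349 (BT.leaf cJ6349) (BT.leaf cJ6350)) (BT.node 6351 (BT.leaf cJ6351) (BT.leaf cJ6352))) (BT.node 6354 (BT.node 6353 (BT.leaf cJ6353) (BT.leaf cJ6354)) (BT.leaf cJ6355))) (BT.node 6358 (BT.node 6357 (BT.node 6356 (BT.leaf cJ6356) (BT.leaf cJ6357)) (BT.leaf cJ6358)) (BT.node 6360 (BT.node 6359 (BT.leaf cJ6359) (BT.leaf cJ6360)) (BT.leaf cJ6361)))) (BT.node 6368 (BT.node 6365 (BT.node 6363 (BT.node 6362 (BT.leaf cJ6362) (BT.leaf cJ6363)) (BT.node 6364 (BT.leaf cJ6364) (BT.leaf cJ6365))) (BT.node 6367 (BT.node 6366 (BT.leaf cJ6366) (BT.leaf cJ6367)) (BT.leaf cJ6368))) (BT.node 6371 (BT.node 6370 (BT.node 6369 (BT.leaf cJ6369) (BT.leaf cJ6370)) (BT.leaf cJ6371)) (BT.node 6373 (BT.node 6372 (BT.leaf cJ6372) (BT.leaf cJ6373)) (BT.leaf cJ6374)))))) (BT.node 6401 (BT.node 6388 (BT.node 6381 (BT.node 6378 (BT.node 6376 (BT.node 6375 (BT.leaf cJ6375) (BT.leaf cJ6376)) (BT.node 6377 (BT.leaf cJ6377) (BT.leaf cJ6378))) (BT.node 6380 (BT.node 6379 (BT.leaf cJ6379) (BT.leaf cJ6380)) (BT.leaf cJ6381))) (BT.node 6385 (BT.node 6383 (BT.node 6382 (BT.leaf cJ6382) (BT.leaf cJ6383)) (BT.node 6384 (BT.leaf cJ6384) (BT.leaf cJ6385))) (BT.node 6387 (BT.node 6386 (BT.leaf cJ6386) (BT.leaf cJ6387)) (BT.leaf cJ6388)))) (BT.node 6395 (BT.node 6392 (BT.node 6390 (BT.node 6389 (BT.leaf cJ6389) (BT.leaf cJ6390)) (BT.node 6391 (BT.leaf cJ6391) (BT.leaf cJ6392))) (BT.node 6394 (BT.node 6393 (BT.leaf cJ6393) (BT.leaf cJ6394)) (BT.leaf cJ6395))) (BT.node 6398 (BT.node 6397 (BT.node 6396 (BT.leaf cJ6396) (BT.leaf cJ6397)) (BT.leaf cJ6398)) (BT.node 6400 (BT.node 6399 (BT.leaf cJ6399) (BT.leaf cJ6400)) (BT.leaf cJ6401))))) (BT.node 6414 (BT.node 6408 (BT.node 6405 (BT.node 6403 (BT.node 6402 (BT.leaf cJ6402) (BT.leaf cJ6403)) (BT.node 6404 (BT.leaf cJ6404) (BT.leaf cJ6405))) (BT.node 6407 (BT.node 6406 (BT.leaf cJ6406) (BT.leaf cJ6407)) (BT.leaf cJ6408))) (BT.node 6411 (BT.node 6410 (BT.node 6409 (BT.leaf cJ6409) (BT.leaf cJ6410)) (BT.leaf cJ6411)) (BT.node 6413 (BT.node 6412 (BT.leaf cJ6412) (BT.leaf cJ6413)) (BT.leaf cJ6414)))) (BT.node 6421 (BT.node 6418 (BT.node 6416 (BT.node 6415 (BT.leaf cJ6415) (BT.leaf cJ6416)) (BT.node 6417 (BT.leaf cJ6417) (BT.leaf cJ6418))) (BT.node 6420 (BT.node 6419 (BT.leaf cJ6419) (BT.leaf cJ6420)) (BT.leaf cJ6421))) (BT.node 6424 (BT.node 6423 (BT.node 6422 (BT.leaf cJ6422) (BT.leaf cJ6423)) (BT.leaf cJ6424)) (BT.node 6426 (BT.node 6425 (BT.leaf cJ6425) (BT.leaf cJ6426)) (BT.leaf cJ6427))))))) (BT.node 6480 (BT.node 6454 (BT.node 6441 (BT.node 6434 (BT.node 6431 (BT.node 6429 (BT.node 6428 (BT.leaf cJ6428) (BT.leaf cJ6429)) (BT.node 6430 (BT.leaf cJ6430) (BT.leaf cJ6431))) (BT.node 6433 (BT.node 6432 (BT.leaf cJ6432) (BT.leaf cJ6433)) (BT.leaf cJ6434))) (BT.node 6438 (BT.node 6436 (BT.node 6435 (BT.leaf cJ6435) (BT.leaf cJ6436)) (BT.node 6437 (BT.leaf cJ6437) (BT.leaf cJ6438))) (BT.node 6440 (BT.node 6439 (BT.leaf cJ6439) (BT.leaf cJ6440)) (BT.leaf cJ6441)))) (BT.node 6448 (BT.node 6445 (BT.node 6443 (BT.node 6442 (BT.leaf cJ6442) (BT.leaf cJ6443)) (BT.node 6444 (BT.leaf cJ6444) (BT.leaf cJ6445))) (BT.node 6447 (BT.node 6446 (BT.leaf cJ6446) (BT.leaf cJ6447)) (BT.leaf cJ6448))) (BT.node 6451 (BT.node 6450 (BT.node 6449 (BT.leaf cJ6449) (BT.leaf cJ6450)) (BT.leaf cJ6451)) (BT.node 6453 (BT.node 6452 (BT.leaf cJ6452) (BT.leaf cJ6453)) (BT.leaf cJ6454))))) (BT.node 6467 (BT.node 6461 (BT.node 6458 (BT.node 6456 (BT.node 6455 (BT.leaf cJ6455) (BT.leaf cJ6456)) (BT.node 6457 (BT.leaf cJ6457) (BT.leaf cJ6458))) (BT.node 6460 (BT.node 6459 (BT.leaf cJ6459) (BT.leaf cJ6460)) (BT.leaf cJ6461))) (BT.node 6464 (BT.node 6463 (BT.node 6462 (BT.leaf cJ6462) (BT.leaf cJ6463)) (BT.leaf cJ6464)) (BT.node 6466 (BT.node 6465 (BT.leaf cJ6465) (BT.leaf cJ6466)) (BT.leaf cJ6467)))) (BT.node 6474 (BT.node 6471 (BT.node 6469 (BT.node 6468 (BT.leaf cJ6468) (BT.leaf cJ6469)) (BT.node 6470 (BT.leaf cJ6470) (BT.leaf cJ6471))) (BT.node 6473 (BT.node 6472 (BT.leaf cJ6472) (BT.leaf cJ6473)) (BT.leaf cJ6474))) (BT.node 6477 (BT.node 6476 (BT.node 6475 (BT.leaf cJ6475) (BT.leaf cJ6476)) (BT.leaf cJ6477)) (BT.node 6479 (BT.node 6478 (BT.leaf cJ6478) (BT.leaf cJ6479)) (BT.leaf cJ6480)))))) (BT.node 6506 (BT.node 6493 (BT.node 6487 (BT.node 6484 (BT.node 6482 (BT.node 6481 (BT.leaf cJ6481) (BT.leaf cJ6482)) (BT.node 6483 (BT.leaf cJ6483) (BT.leaf cJ6484))) (BT.node 6486 (BT.node 6485 (BT.leaf cJ6485) (BT.leaf cJ6486)) (BT.leaf cJ6487))) (BT.node 6490 (BT.node 6489 (BT.node 6488 (BT.leaf cJ6488) (BT.leaf cJ6489)) (BT.leaf cJ6490)) (BT.node 6492 (BT.node 6491 (BT.leaf cJ6491) (BT.leaf cJ6492)) (BT.leaf cJ6493)))) (BT.node 6500 (BT.node 6497 (BT.node 6495 (BT.node 6494 (BT.leaf cJ6494) (BT.leaf cJ6495)) (BT.node 6496 (BT.leaf cJ6496) (BT.leaf cJ6497))) (BT.node 6499 (BT.node 6498 (BT.leaf cJ6498) (BT.leaf cJ6499)) (BT.leaf cJ6500))) (BT.node 6503 (BT.node 6502 (BT.node 6501 (BT.leaf cJ6501) (BT.leaf cJ6502)) (BT.leaf cJ6503)) (BT.node 6505 (BT.node 6504 (BT.leaf cJ6504) (BT.leaf cJ6505)) (BT.leaf cJ6506))))) (BT.node 6519 (BT.node 6513 (BT.node 6510 (BT.node 6508 (BT.node 6507 (BT.leaf cJ6507) (BT.leaf cJ6508)) (BT.node 6509 (BT.leaf cJ6509) (BT.leaf cJ6510))) (BT.node 6512 (BT.node 6511 (BT.leaf cJ6511) (BT.leaf cJ6512)) (BT.leaf cJ6513))) (BT.node 6516 (BT.node 6515 (BT.node 6514 (BT.leaf cJ6514) (BT.leaf cJ6515)) (BT.leaf cJ6516)) (BT.node 6518 (BT.node 6517 (BT.leaf cJ6517) (BT.leaf cJ6518)) (BT.leaf cJ6519)))) (BT.node 6526 (BT.node 6523 (BT.node 6521 (BT.node 6520 (BT.leaf cJ6520) (BT.leaf cJ6521)) (BT.node 6522 (BT.leaf cJ6522) (BT.leaf cJ6523))) (BT.node 6525 (BT.node 6524 (BT.leaf cJ6524) (BT.leaf cJ6525)) (BT.leaf cJ6526))) (BT.node 6529 (BT.node 6528 (BT.node 6527 (BT.leaf cJ6527) (BT.leaf cJ6528)) (BT.leaf cJ6529)) (BT.node 6531 (BT.node 6530 (BT.leaf cJ6530) (BT.leaf cJ6531)) (BT.leaf cJ6532)))))))) (BT.node 6637 (BT.node 6585 (BT.node 6559 (BT.node 6546 (BT.node 6539 (BT.node 6536 (BT.node 6534 (BT.node 6533 (BT.leaf cJ6533) (BT.leaf cJ6534)) (BT.node 6535 (BT.leaf cJ6535) (BT.leaf cJ6536))) (BT.node 6538 (BT.node 6537 (BT.leaf cJ6537) (BT.leaf cJ6538)) (BT.leaf cJ6539))) (BT.node 6543 (BT.node 6541 (BT.node 6540 (BT.leaf cJ6540) (BT.leaf cJ6541)) (BT.node 6542 (BT.leaf cJ6542) (BT.leaf cJ6543))) (BT.node 6545 (BT.node 6544 (BT.leaf cJ6544) (BT.leaf cJ6545)) (BT.leaf cJ6546)))) (BT.node 6553 (BT.node 6550 (BT.node 6548 (BT.node 6547 (BT.leaf cJ6547) (BT.leaf cJ6548)) (BT.node 6549 (BT.leaf cJ6549) (BT.leaf cJ6550))) (BT.node 6552 (BT.node 6551 (BT.leaf cJ6551) (BT.leaf cJ6552)) (BT.leaf cJ6553))) (BT.node 6556 (BT.node 6555 (BT.node 6554 (BT.leaf cJ6554) (BT.leaf cJ6555)) (BT.leaf cJ6556)) (BT.node 6558 (BT.node 6557 (BT.leaf cJ6557) (BT.leaf cJ6558)) (BT.leaf cJ6559))))) (BT.node 6572 (BT.node 6566 (BT.node 6563 (BT.node 6561 (BT.node 6560 (BT.leaf cJ6560) (BT.leaf cJ6561)) (BT.node 6562 (BT.leaf cJ6562) (BT.leaf cJ6563))) (BT.node 6565 (BT.node 6564 (BT.leaf cJ6564) (BT.leaf cJ6565)) (BT.leaf cJ6566))) (BT.node 6569 (BT.node 6568 (BT.node 6567 (BT.leaf cJ6567) (BT.leaf cJ6568)) (BT.leaf cJ6569)) (BT.node 6571 (BT.node 6570 (BT.leaf cJ6570) (BT.leaf cJ6571)) (BT.leaf cJ6572)))) (BT.node 6579 (BT.node 6576 (BT.node 6574 (BT.node 6573 (BT.leaf cJ6573) (BT.leaf cJ6574)) (BT.node 6575 (BT.leaf cJ6575) (BT.leaf cJ6576))) (BT.node 6578 (BT.node 6577 (BT.leaf cJ6577) (BT.leaf cJ6578)) (BT.leaf cJ6579))) (BT.node 6582 (BT.node 6581 (BT.node 6580 (BT.leaf cJ6580) (BT.leaf cJ6581)) (BT.leaf cJ6582)) (BT.node 6584 (BT.node 6583 (BT.leaf cJ6583) (BT.leaf cJ6584)) (BT.leaf cJ6585)))))) (BT.node 6611 (BT.node 6598 (BT.node 6592 (BT.node 6589 (BT.node 6587 (BT.node 6586 (BT.leaf cJ6586) (BT.leaf cJ6587)) (BT.node 6588 (BT.leaf cJ6588) (BT.leaf cJ6589))) (BT.node 6591 (BT.node 6590 (BT.leaf cJ6590) (BT.leaf cJ6591)) (BT.leaf cJ6592))) (BT.node 6595 (BT.node 6594 (BT.node 6593 (BT.leaf cJ6593) (BT.leaf cJ6594)) (BT.leaf cJ6595)) (BT.node 6597 (BT.node 6596 (BT.leaf cJ6596) (BT.leaf cJ6597)) (BT.leaf cJ6598)))) (BT.node 6605 (BT.node 6602 (BT.node 6600 (BT.node 6599 (BT.leaf cJ6599) (BT.leaf cJ6600)) (BT.node 6601 (BT.leaf cJ6601) (BT.leaf cJ6602))) (BT.node 6604 (BT.node 6603 (BT.leaf cJ6603) (BT.leaf cJ6604)) (BT.leaf cJ6605))) (BT.node 6608 (BT.node 6607 (BT.node 6606 (BT.leaf cJ6606) (BT.leaf cJ6607)) (BT.leaf cJ6608)) (BT.node 6610 (BT.node 6609 (BT.leaf cJ6609) (BT.leaf cJ6610)) (BT.leaf cJ6611))))) (BT.node 6624 (BT.node 6618 (BT.node 6615 (BT.node 6613 (BT.node 6612 (BT.leaf cJ6612) (BT.leaf cJ6613)) (BT.node 6614 (BT.leaf cJ6614) (BT.leaf cJ6615))) (BT.node 6617 (BT.node 6616 (BT.leaf cJ6616) (BT.leaf cJ6617)) (BT.leaf cJ6618))) (BT.node 6621 (BT.node 6620 (BT.node 6619 (BT.leaf cJ6619) (BT.leaf cJ6620)) (BT.leaf cJ6621)) (BT.node 6623 (BT.node 6622 (BT.leaf cJ6622) (BT.leaf cJ6623)) (BT.leaf cJ6624)))) (BT.node 6631 (BT.node 6628 (BT.node 6626 (BT.node 6625 (BT.leaf cJ6625) (BT.leaf cJ6626)) (BT.node 6627 (BT.leaf cJ6627) (BT.leaf cJ6628))) (BT.node 6630 (BT.node 6629 (BT.leaf cJ6629) (BT.leaf cJ6630)) (BT.leaf cJ6631))) (BT.node 6634 (BT.node 6633 (BT.node 6632 (BT.leaf cJ6632) (BT.leaf cJ6633)) (BT.leaf cJ6634)) (BT.node 6636 (BT.node 6635 (BT.leaf cJ6635) (BT.leaf cJ6636)) (BT.leaf cJ6637))))))) (BT.node 6690 (BT.node 6664 (BT.node 6651 (BT.node 6644 (BT.node 6641 (BT.node 6639 (BT.node 6638 (BT.leaf cJ6638) (BT.leaf cJ6639)) (BT.node 6640 (BT.leaf cJ6640) (BT.leaf cJ6641))) (BT.node 6643 (BT.node 6642 (BT.leaf cJ6642) (BT.leaf cJ6643)) (BT.leaf cJ6644))) (BT.node 6648 (BT.node 6646 (BT.node 6645 (BT.leaf cJ6645) (BT.leaf cJ6646)) (BT.node 6647 (BT.leaf cJ6647) (BT.leaf cJ6648))) (BT.node 6650 (BT.node 6649 (BT.leaf cJ6649) (BT.leaf cJ6650)) (BT.leaf cJ6651)))) (BT.node 6658 (BT.node 6655 (BT.node 6653 (BT.node 6652 (BT.leaf cJ6652) (BT.leaf cJ6653)) (BT.node 6654 (BT.leaf cJ6654) (BT.leaf cJ6655))) (BT.node 6657 (BT.node 6656 (BT.leaf cJ6656) (BT.leaf cJ6657)) (BT.leaf cJ6658))) (BT.node 6661 (BT.node 6660 (BT.node 6659 (BT.leaf cJ6659) (BT.leaf cJ6660)) (BT.leaf cJ6661)) (BT.node 6663 (BT.node 6662 (BT.leaf cJ6662) (BT.leaf cJ6663)) (BT.leaf cJ6664))))) (BT.node 6677 (BT.node 6671 (BT.node 6668 (BT.node 6666 (BT.node 6665 (BT.leaf cJ6665) (BT.leaf cJ6666)) (BT.node 6667 (BT.leaf cJ6667) (BT.leaf cJ6668))) (BT.node 6670 (BT.node 6669 (BT.leaf cJ6669) (BT.leaf cJ6670)) (BT.leaf cJ6671))) (BT.node 6674 (BT.node 6673 (BT.node 6672 (BT.leaf cJ6672) (BT.leaf cJ6673)) (BT.leaf cJ6674)) (BT.node 6676 (BT.node 6675 (BT.leaf cJ6675) (BT.leaf cJ6676)) (BT.leaf cJ6677)))) (BT.node 6684 (BT.node 6681 (BT.node 6679 (BT.node 6678 (BT.leaf cJ6678) (BT.leaf cJ6679)) (BT.node 6680 (BT.leaf cJ6680) (BT.leaf cJ6681))) (BT.node 6683 (BT.node 6682 (BT.leaf cJ6682) (BT.leaf cJ6683)) (BT.leaf cJ6684))) (BT.node 6687 (BT.node 6686 (BT.node 6685 (BT.leaf cJ6685) (BT.leaf cJ6686)) (BT.leaf cJ6687)) (BT.node 6689 (BT.node 6688 (BT.leaf cJ6688) (BT.leaf cJ6689)) (BT.leaf cJ6690)))))) (BT.node 6716 (BT.node 6703 (BT.node 6697 (BT.node 6694 (BT.node 6692 (BT.node 6691 (BT.leaf cJ6691) (BT.leaf cJ6692)) (BT.node 6693 (BT.leaf cJ6693) (BT.leaf cJ6694))) (BT.node 6696 (BT.node 6695 (BT.leaf cJ6695) (BT.leaf cJ6696)) (BT.leaf cJ6697))) (BT.node 6700 (BT.node 6699 (BT.node 6698 (BT.leaf cJ6698) (BT.leaf cJ6699)) (BT.leaf cJ6700)) (BT.node 6702 (BT.node 6701 (BT.leaf cJ6701) (BT.leaf cJ6702)) (BT.leaf cJ6703)))) (BT.node 6710 (BT.node 6707 (BT.node 6705 (BT.node 6704 (BT.leaf cJ6704) (BT.leaf cJ6705)) (BT.node 6706 (BT.leaf cJ6706) (BT.leaf cJ6707))) (BT.node 6709 (BT.node 6708 (BT.leaf cJ6708) (BT.leaf cJ6709)) (BT.leaf cJ6710))) (BT.node 6713 (BT.node 6712 (BT.node 6711 (BT.leaf cJ6711) (BT.leaf cJ6712)) (BT.leaf cJ6713)) (BT.node 6715 (BT.node 6714 (BT.leaf cJ6714) (BT.leaf cJ6715)) (BT.leaf cJ6716))))) (BT.node 6729 (BT.node 6723 (BT.node 6720 (BT.node 6718 (BT.node 6717 (BT.leaf cJ6717) (BT.leaf cJ6718)) (BT.node 6719 (BT.leaf cJ6719) (BT.leaf cJ6720))) (BT.node 6722 (BT.node 6721 (BT.leaf cJ6721) (BT.leaf cJ6722)) (BT.leaf cJ6723))) (BT.node 6726 (BT.node 6725 (BT.node 6724 (BT.leaf cJ6724) (BT.leaf cJ6725)) (BT.leaf cJ6726)) (BT.node 6728 (BT.node 6727 (BT.leaf cJ6727) (BT.leaf cJ6728)) (BT.leaf cJ6729)))) (BT.node 6736 (BT.node 6733 (BT.node 6731 (BT.node 6730 (BT.leaf cJ6730) (BT.leaf cJ6731)) (BT.node 6732 (BT.leaf cJ6732) (BT.leaf cJ6733))) (BT.node 6735 (BT.node 6734 (BT.leaf cJ6734) (BT.leaf cJ6735)) (BT.leaf cJ6736))) (BT.node 6739 (BT.node 6738 (BT.node 6737 (BT.leaf cJ6737) (BT.leaf cJ6738)) (BT.leaf cJ6739)) (BT.node 6741 (BT.node 6740 (BT.leaf cJ6740) (BT.leaf cJ6741)) (BT.leaf cJ6742)))))))))))))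
/-- parent chunks -/
def parCT : BT ℕ := (BT.node 306 (BT.node 153 (BT.node 76 (BT.node 38 (BT.node 19 (BT.node 9 (BT.node 4 (BT.node 2 (BT.node 1 (BT.node 0 (BT.leaf cP0) (BT.leaf cP1)) (BT.leaf cP2)) (BT.node 3 (BT.leaf cP3) (BT.leaf cP4))) (BT.node 7 (BT.node 6 (BT.node 5 (BT.leaf cP5) (BT.leaf cP6)) (BT.leaf cP7)) (BT.node 8 (BT.leaf cP8) (BT.leaf cP9)))) (BT.node 14 (BT.node 12 (BT.node 11 (BT.node 10 (BT.leaf cP10) (BT.leaf cP11)) (BT.leaf cP12)) (BT.node 13 (BT.leaf cP13) (BT.leaf cP14))) (BT.node 17 (BT.node 16 (BT.node 15 (BT.leaf cP15) (BT.leaf cP16)) (BT.leaf cP17)) (BT.node 18 (BT.leaf cP18) (BT.leaf cP19))))) (BT.node 29 (BT.node 24 (BT.node 22 (BT.node 21 (BT.node 20 (BT.leaf cP20) (BT.leaf cP21)) (BT.leaf cP22)) (BT.node 23 (BT.leaf cP23) (BT.leaf cP24))) (BT.node 27 (BT.node 26 (BT.node 25 (BT.leaf cP25) (BT.leaf cP26)) (BT.leaf cP27)) (BT.node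 28 (BT.leaf cP28) (BT.leaf cP29)))) (BT.node 34 (BT.node 32 (BT.node 31 (BT.node 30 (BT.leaf cP30) (BT.leaf cP31)) (BT.leaf cP32)) (BT.node 33 (BT.leaf cP33) (BT.leaf cP34))) (BT.node 36 (BT.node 35 (BT.leaf cP35) (BT.leaf cP36)) (BT.node 37 (BT.leaf cP37) (BT.leaf cP38)))))) (BT.node 57 (BT.node 48 (BT.node 43 (BT.node 41 (BT.node 40 (BT.node 39 (BT.leaf cP39) (BT.leaf cP40)) (BT.leaf cP41)) (BT.node 42 (BT.leaf cP42) (BT.leaf cP43))) (BT.node 46 (BT.node 45 (BT.node 44 (BT.leaf cP44) (BT.leaf cP45)) (BT.leaf cP46)) (BT.node 47 (BT.leaf cP47) (BT.leaf cP48)))) (BT.node 53 (BT.node 51 (BT.node 50 (BT.node 49 (BT.leaf cP49) (BT.leaf cP50)) (BT.leaf cP51)) (BT.node 52 (BT.leaf cP52) (BT.leaf cP53))) (BT.node 55 (BT.node 54 (BT.leaf cP54) (BT.leaf cP55)) (BT.node 56 (BT.leaf cP56) (BT.leaf cP57))))) (BT.node 67 (BT.node 62 (BT.node 60 (BT.node 59 (BT.node 58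 (BT.leaf cP58) (BT.leaf cP59)) (BT.leaf cP60)) (BT.node 61 (BT.leaf cP61) (BT.leaf cP62))) (BT.node 65 (BT.node 64 (BT.node 63 (BT.leaf cP63) (BT.leaf cP64)) (BT.leaf cP65)) (BT.node 66 (BT.leaf cP66) (BT.leaf cP67)))) (BT.node 72 (BT.node 70 (BT.node 69 (BT.node 68 (BT.leaf cP68) (BT.leaf cP69)) (BT.leaf cP70)) (BT.node 71 (BT.leaf cP71) (BT.leaf cP72))) (BT.node 74 (BT.node 73 (BT.leaf cP73) (BT.leaf cP74)) (BT.node 75 (BT.leaf cP75) (BT.leaf cP76))))))) (BT.node 115 (BT.node 96 (BT.node 86 (BT.node 81 (BT.node 79 (BT.node 78 (BT.node 77 (BT.leaf cP77) (BT.leaf cP78)) (BT.leaf cP79)) (BT.node 80 (BT.leaf cP80) (BT.leaf cP81))) (BT.node 84 (BT.node 83 (BT.node 82 (BT.leaf cP82) (BT.leaf cP83)) (BT.leaf cP84)) (BT.node 85 (BT.leaf cP85) (BT.leaf cP86)))) (BT.node 91 (BT.node 89 (BT.node 88 (BT.node 87 (BT.leaf cP87) (BT.leaf cP88)) (BT.leaf cP89)) (BT.node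 90 (BT.leaf cP90) (BT.leaf cP91))) (BT.node 94 (BT.node 93 (BT.node 92 (BT.leaf cP92) (BT.leaf cP93)) (BT.leaf cP94)) (BT.node 95 (BT.leaf cP95) (BT.leaf cP96))))) (BT.node 106 (BT.node 101 (BT.node 99 (BT.node 98 (BT.node 97 (BT.leaf cP97) (BT.leaf cP98)) (BT.leaf cP99)) (BT.node 100 (BT.leaf cP100) (BT.leaf cP101))) (BT.node 104 (BT.node 103 (BT.node 102 (BT.leaf cP102) (BT.leaf cP103)) (BT.leaf cP104)) (BT.node 105 (BT.leaf cP105) (BT.leaf cP106)))) (BT.node 111 (BT.node 109 (BT.node 108 (BT.node 107 (BT.leaf cP107) (BT.leaf cP108)) (BT.leaf cP109)) (BT.node 110 (BT.leaf cP110) (BT.leaf cP111))) (BT.node 113 (BT.node 112 (BT.leaf cP112) (BT.leaf cP113)) (BT.node 114 (BT.leaf cP114) (BT.leaf cP115)))))) (BT.node 134 (BT.node 125 (BT.node 120 (BT.node 118 (BT.node 117 (BT.node 116 (BT.leaf cP116) (BT.leaf cP117)) (BT.leaf cP118)) (BT.node 119 (BT.leaf cP119)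 (BT.leaf cP120))) (BT.node 123 (BT.node 122 (BT.node 121 (BT.leaf cP121) (BT.leaf cP122)) (BT.leaf cP123)) (BT.node 124 (BT.leaf cP124) (BT.leaf cP125)))) (BT.node 130 (BT.node 128 (BT.node 127 (BT.node 126 (BT.leaf cP126) (BT.leaf cP127)) (BT.leaf cP128)) (BT.node 129 (BT.leaf cP129) (BT.leaf cP130))) (BT.node 132 (BT.node 131 (BT.leaf cP131) (BT.leaf cP132)) (BT.node 133 (BT.leaf cP133) (BT.leaf cP134))))) (BT.node 144 (BT.node 139 (BT.node 137 (BT.node 136 (BT.node 135 (BT.leaf cP135) (BT.leaf cP136)) (BT.leaf cP137)) (BT.node 138 (BT.leaf cP138) (BT.leaf cP139))) (BT.node 142 (BT.node 141 (BT.node 140 (BT.leaf cP140) (BT.leaf cP141)) (BT.leaf cP142)) (BT.node 143 (BT.leaf cP143) (BT.leaf cP144)))) (BT.node 149 (BT.node 147 (BT.node 146 (BT.node 145 (BT.leaf cP145) (BT.leaf cP146)) (BT.leaf cP147)) (BT.node 148 (BT.leaf cP148) (BT.leaf cP149))) (BT.node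 151 (BT.node 150 (BT.leaf cP150) (BT.leaf cP151)) (BT.node 152 (BT.leaf cP152) (BT.leaf cP153)))))))) (BT.node 230 (BT.node 192 (BT.node 173 (BT.node 163 (BT.node 158 (BT.node 156 (BT.node 155 (BT.node 154 (BT.leaf cP154) (BT.leaf cP155)) (BT.leaf cP156)) (BT.node 157 (BT.leaf cP157) (BT.leaf cP158))) (BT.node 161 (BT.node 160 (BT.node 159 (BT.leaf cP159) (BT.leaf cP160)) (BT.leaf cP161)) (BT.node 162 (BT.leaf cP162) (BT.leaf cP163)))) (BT.node 168 (BT.node 166 (BT.node 165 (BT.node 164 (BT.leaf cP164) (BT.leaf cP165)) (BT.leaf cP166)) (BT.node 167 (BT.leaf cP167) (BT.leaf cP168))) (BT.node 171 (BT.node 170 (BT.node 169 (BT.leaf cP169) (BT.leaf cP170)) (BT.leaf cP171)) (BT.node 172 (BT.leaf cP172) (BT.leaf cP173))))) (BT.node 183 (BT.node 178 (BT.node 176 (BT.node 175 (BT.node 174 (BT.leaf cP174) (BT.leaf cP175)) (BT.leaf cP176)) (BT.node 177 (BT.leaf cP177)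 (BT.leaf cP178))) (BT.node 181 (BT.node 180 (BT.node 179 (BT.leaf cP179) (BT.leaf cP180)) (BT.leaf cP181)) (BT.node 182 (BT.leaf cP182) (BT.leaf cP183)))) (BT.node 188 (BT.node 186 (BT.node 185 (BT.node 184 (BT.leaf cP184) (BT.leaf cP185)) (BT.leaf cP186)) (BT.node 187 (BT.leaf cP187) (BT.leaf cP188))) (BT.node 190 (BT.node 189 (BT.leaf cP189) (BT.leaf cP190)) (BT.node 191 (BT.leaf cP191) (BT.leaf cP192)))))) (BT.node 211 (BT.node 202 (BT.node 197 (BT.node 195 (BT.node 194 (BT.node 193 (BT.leaf cP193) (BT.leaf cP194)) (BT.leaf cP195)) (BT.node 196 (BT.leaf cP196) (BT.leaf cP197))) (BT.node 200 (BT.node 199 (BT.node 198 (BT.leaf cP198) (BT.leaf cP199)) (BT.leaf cP200)) (BT.node 201 (BT.leaf cP201) (BT.leaf cP202)))) (BT.node 207 (BT.node 205 (BT.node 204 (BT.node 203 (BT.leaf cP203) (BT.leaf cP204)) (BT.leaf cP205)) (BT.node 206 (BT.leaf cP206) (BT.leaf cP207)))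 (BT.node 209 (BT.node 208 (BT.leaf cP208) (BT.leaf cP209)) (BT.node 210 (BT.leaf cP210) (BT.leaf cP211))))) (BT.node 221 (BT.node 216 (BT.node 214 (BT.node 213 (BT.node 212 (BT.leaf cP212) (BT.leaf cP213)) (BT.leaf cP214)) (BT.node 215 (BT.leaf cP215) (BT.leaf cP216))) (BT.node 219 (BT.node 218 (BT.node 217 (BT.leaf cP217) (BT.leaf cP218)) (BT.leaf cP219)) (BT.node 220 (BT.leaf cP220) (BT.leaf cP221)))) (BT.node 226 (BT.node 224 (BT.node 223 (BT.node 222 (BT.leaf cP222) (BT.leaf cP223)) (BT.leaf cP224)) (BT.node 225 (BT.leaf cP225) (BT.leaf cP226))) (BT.node 228 (BT.node 227 (BT.leaf cP227) (BT.leaf cP228)) (BT.node 229 (BT.leaf cP229) (BT.leaf cP230))))))) (BT.node 268 (BT.node 249 (BT.node 240 (BT.node 235 (BT.node 233 (BT.node 232 (BT.node 231 (BT.leaf cP231) (BT.leaf cP232)) (BT.leaf cP233)) (BT.node 234 (BT.leaf cP234) (BT.leaf cP235))) (BT.node 238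 (BT.node 237 (BT.node 236 (BT.leaf cP236) (BT.leaf cP237)) (BT.leaf cP238)) (BT.node 239 (BT.leaf cP239) (BT.leaf cP240)))) (BT.node 245 (BT.node 243 (BT.node 242 (BT.node 241 (BT.leaf cP241) (BT.leaf cP242)) (BT.leaf cP243)) (BT.node 244 (BT.leaf cP244) (BT.leaf cP245))) (BT.node 247 (BT.node 246 (BT.leaf cP246) (BT.leaf cP247)) (BT.node 248 (BT.leaf cP248) (BT.leaf cP249))))) (BT.node 259 (BT.node 254 (BT.node 252 (BT.node 251 (BT.node 250 (BT.leaf cP250) (BT.leaf cP251)) (BT.leaf cP252)) (BT.node 253 (BT.leaf cP253) (BT.leaf cP254))) (BT.node 257 (BT.node 256 (BT.node 255 (BT.leaf cP255) (BT.leaf cP256)) (BT.leaf cP257)) (BT.node 258 (BT.leaf cP258) (BT.leaf cP259)))) (BT.node 264 (BT.node 262 (BT.node 261 (BT.node 260 (BT.leaf cP260) (BT.leaf cP261)) (BT.leaf cP262)) (BT.node 263 (BT.leaf cP263) (BT.leaf cP264))) (BT.node 266 (BT.node 265 (BT.leaf cP265)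 (BT.leaf cP266)) (BT.node 267 (BT.leaf cP267) (BT.leaf cP268)))))) (BT.node 287 (BT.node 278 (BT.node 273 (BT.node 271 (BT.node 270 (BT.node 269 (BT.leaf cP269) (BT.leaf cP270)) (BT.leaf cP271)) (BT.node 272 (BT.leaf cP272) (BT.leaf cP273))) (BT.node 276 (BT.node 275 (BT.node 274 (BT.leaf cP274) (BT.leaf cP275)) (BT.leaf cP276)) (BT.node 277 (BT.leaf cP277) (BT.leaf cP278)))) (BT.node 283 (BT.node 281 (BT.node 280 (BT.node 279 (BT.leaf cP279) (BT.leaf cP280)) (BT.leaf cP281)) (BT.node 282 (BT.leaf cP282) (BT.leaf cP283))) (BT.node 285 (BT.node 284 (BT.leaf cP284) (BT.leaf cP285)) (BT.node 286 (BT.leaf cP286) (BT.leaf cP287))))) (BT.node 297 (BT.node 292 (BT.node 290 (BT.node 289 (BT.node 288 (BT.leaf cP288) (BT.leaf cP289)) (BT.leaf cP290)) (BT.node 291 (BT.leaf cP291) (BT.leaf cP292))) (BT.node 295 (BT.node 294 (BT.node 293 (BT.leaf cP293) (BT.leaf cP294))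 (BT.leaf cP295)) (BT.node 296 (BT.leaf cP296) (BT.leaf cP297)))) (BT.node 302 (BT.node 300 (BT.node 299 (BT.node 298 (BT.leaf cP298) (BT.leaf cP299)) (BT.leaf cP300)) (BT.node 301 (BT.leaf cP301) (BT.leaf cP302))) (BT.node 304 (BT.node 303 (BT.leaf cP303) (BT.leaf cP304)) (BT.node 305 (BT.leaf cP305) (BT.leaf cP306))))))))) (BT.node 459 (BT.node 383 (BT.node 345 (BT.node 326 (BT.node 316 (BT.node 311 (BT.node 309 (BT.node 308 (BT.node 307 (BT.leaf cP307) (BT.leaf cP308)) (BT.leaf cP309)) (BT.node 310 (BT.leaf cP310) (BT.leaf cP311))) (BT.node 314 (BT.node 313 (BT.node 312 (BT.leaf cP312) (BT.leaf cP313)) (BT.leaf cP314)) (BT.node 315 (BT.leaf cP315) (BT.leaf cP316)))) (BT.node 321 (BT.node 319 (BT.node 318 (BT.node 317 (BT.leaf cP317) (BT.leaf cP318)) (BT.leaf cP319)) (BT.node 320 (BT.leaf cP320) (BT.leaf cP321))) (BT.node 324 (BT.node 323 (BT.node 322 (BT.leaf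 cP322) (BT.leaf cP323)) (BT.leaf cP324)) (BT.node 325 (BT.leaf cP325) (BT.leaf cP326))))) (BT.node 336 (BT.node 331 (BT.node 329 (BT.node 328 (BT.node 327 (BT.leaf cP327) (BT.leaf cP328)) (BT.leaf cP329)) (BT.node 330 (BT.leaf cP330) (BT.leaf cP331))) (BT.node 334 (BT.node 333 (BT.node 332 (BT.leaf cP332) (BT.leaf cP333)) (BT.leaf cP334)) (BT.node 335 (BT.leaf cP335) (BT.leaf cP336)))) (BT.node 341 (BT.node 339 (BT.node 338 (BT.node 337 (BT.leaf cP337) (BT.leaf cP338)) (BT.leaf cP339)) (BT.node 340 (BT.leaf cP340) (BT.leaf cP341))) (BT.node 343 (BT.node 342 (BT.leaf cP342) (BT.leaf cP343)) (BT.node 344 (BT.leaf cP344) (BT.leaf cP345)))))) (BT.node 364 (BT.node 355 (BT.node 350 (BT.node 348 (BT.node 347 (BT.node 346 (BT.leaf cP346) (BT.leaf cP347)) (BT.leaf cP348)) (BT.node 349 (BT.leaf cP349) (BT.leaf cP350))) (BT.node 353 (BT.node 352 (BT.node 351 (BT.leaf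 cP351) (BT.leaf cP352)) (BT.leaf cP353)) (BT.node 354 (BT.leaf cP354) (BT.leaf cP355)))) (BT.node 360 (BT.node 358 (BT.node 357 (BT.node 356 (BT.leaf cP356) (BT.leaf cP357)) (BT.leaf cP358)) (BT.node 359 (BT.leaf cP359) (BT.leaf cP360))) (BT.node 362 (BT.node 361 (BT.leaf cP361) (BT.leaf cP362)) (BT.node 363 (BT.leaf cP363) (BT.leaf cP364))))) (BT.node 374 (BT.node 369 (BT.node 367 (BT.node 366 (BT.node 365 (BT.leaf cP365) (BT.leaf cP366)) (BT.leaf cP367)) (BT.node 368 (BT.leaf cP368) (BT.leaf cP369))) (BT.node 372 (BT.node 371 (BT.node 370 (BT.leaf cP370) (BT.leaf cP371)) (BT.leaf cP372)) (BT.node 373 (BT.leaf cP373) (BT.leaf cP374)))) (BT.node 379 (BT.node 377 (BT.node 376 (BT.node 375 (BT.leaf cP375) (BT.leaf cP376)) (BT.leaf cP377)) (BT.node 378 (BT.leaf cP378) (BT.leaf cP379))) (BT.node 381 (BT.node 380 (BT.leaf cP380) (BT.leaf cP381)) (BT.node 382 (BT.leaf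 cP382) (BT.leaf cP383))))))) (BT.node 421 (BT.node 402 (BT.node 393 (BT.node 388 (BT.node 386 (BT.node 385 (BT.node 384 (BT.leaf cP384) (BT.leaf cP385)) (BT.leaf cP386)) (BT.node 387 (BT.leaf cP387) (BT.leaf cP388))) (BT.node 391 (BT.node 390 (BT.node 389 (BT.leaf cP389) (BT.leaf cP390)) (BT.leaf cP391)) (BT.node 392 (BT.leaf cP392) (BT.leaf cP393)))) (BT.node 398 (BT.node 396 (BT.node 395 (BT.node 394 (BT.leaf cP394) (BT.leaf cP395)) (BT.leaf cP396)) (BT.node 397 (BT.leaf cP397) (BT.leaf cP398))) (BT.node 400 (BT.node 399 (BT.leaf cP399) (BT.leaf cP400)) (BT.node 401 (BT.leaf cP401) (BT.leaf cP402))))) (BT.node 412 (BT.node 407 (BT.node 405 (BT.node 404 (BT.node 403 (BT.leaf cP403) (BT.leaf cP404)) (BT.leaf cP405)) (BT.node 406 (BT.leaf cP406) (BT.leaf cP407))) (BT.node 410 (BT.node 409 (BT.node 408 (BT.leaf cP408) (BT.leaf cP409)) (BT.leaf cP410)) (BT.node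 411 (BT.leaf cP411) (BT.leaf cP412)))) (BT.node 417 (BT.node 415 (BT.node 414 (BT.node 413 (BT.leaf cP413) (BT.leaf cP414)) (BT.leaf cP415)) (BT.node 416 (BT.leaf cP416) (BT.leaf cP417))) (BT.node 419 (BT.node 418 (BT.leaf cP418) (BT.leaf cP419)) (BT.node 420 (BT.leaf cP420) (BT.leaf cP421)))))) (BT.node 440 (BT.node 431 (BT.node 426 (BT.node 424 (BT.node 423 (BT.node 422 (BT.leaf cP422) (BT.leaf cP423)) (BT.leaf cP424)) (BT.node 425 (BT.leaf cP425) (BT.leaf cP426))) (BT.node 429 (BT.node 428 (BT.node 427 (BT.leaf cP427) (BT.leaf cP428)) (BT.leaf cP429)) (BT.node 430 (BT.leaf cP430) (BT.leaf cP431)))) (BT.node 436 (BT.node 434 (BT.node 433 (BT.node 432 (BT.leaf cP432) (BT.leaf cP433)) (BT.leaf cP434)) (BT.node 435 (BT.leaf cP435) (BT.leaf cP436))) (BT.node 438 (BT.node 437 (BT.leaf cP437) (BT.leaf cP438)) (BT.node 439 (BT.leaf cP439) (BT.leaf cP440))))) (BT.node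 450 (BT.node 445 (BT.node 443 (BT.node 442 (BT.node 441 (BT.leaf cP441) (BT.leaf cP442)) (BT.leaf cP443)) (BT.node 444 (BT.leaf cP444) (BT.leaf cP445))) (BT.node 448 (BT.node 447 (BT.node 446 (BT.leaf cP446) (BT.leaf cP447)) (BT.leaf cP448)) (BT.node 449 (BT.leaf cP449) (BT.leaf cP450)))) (BT.node 455 (BT.node 453 (BT.node 452 (BT.node 451 (BT.leaf cP451) (BT.leaf cP452)) (BT.leaf cP453)) (BT.node 454 (BT.leaf cP454) (BT.leaf cP455))) (BT.node 457 (BT.node 456 (BT.leaf cP456) (BT.leaf cP457)) (BT.node 458 (BT.leaf cP458) (BT.leaf cP459)))))))) (BT.node 536 (BT.node 498 (BT.node 479 (BT.node 469 (BT.node 464 (BT.node 462 (BT.node 461 (BT.node 460 (BT.leaf cP460) (BT.leaf cP461)) (BT.leaf cP462)) (BT.node 463 (BT.leaf cP463) (BT.leaf cP464))) (BT.node 467 (BT.node 466 (BT.node 465 (BT.leaf cP465) (BT.leaf cP466)) (BT.leaf cP467)) (BT.node 468 (BT.leaf cP468)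 (BT.leaf cP469)))) (BT.node 474 (BT.node 472 (BT.node 471 (BT.node 470 (BT.leaf cP470) (BT.leaf cP471)) (BT.leaf cP472)) (BT.node 473 (BT.leaf cP473) (BT.leaf cP474))) (BT.node 477 (BT.node 476 (BT.node 475 (BT.leaf cP475) (BT.leaf cP476)) (BT.leaf cP477)) (BT.node 478 (BT.leaf cP478) (BT.leaf cP479))))) (BT.node 489 (BT.node 484 (BT.node 482 (BT.node 481 (BT.node 480 (BT.leaf cP480) (BT.leaf cP481)) (BT.leaf cP482)) (BT.node 483 (BT.leaf cP483) (BT.leaf cP484))) (BT.node 487 (BT.node 486 (BT.node 485 (BT.leaf cP485) (BT.leaf cP486)) (BT.leaf cP487)) (BT.node 488 (BT.leaf cP488) (BT.leaf cP489)))) (BT.node 494 (BT.node 492 (BT.node 491 (BT.node 490 (BT.leaf cP490) (BT.leaf cP491)) (BT.leaf cP492)) (BT.node 493 (BT.leaf cP493) (BT.leaf cP494))) (BT.node 496 (BT.node 495 (BT.leaf cP495) (BT.leaf cP496)) (BT.node 497 (BT.leaf cP497) (BT.leaf cP498)))))) (BT.node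 517 (BT.node 508 (BT.node 503 (BT.node 501 (BT.node 500 (BT.node 499 (BT.leaf cP499) (BT.leaf cP500)) (BT.leaf cP501)) (BT.node 502 (BT.leaf cP502) (BT.leaf cP503))) (BT.node 506 (BT.node 505 (BT.node 504 (BT.leaf cP504) (BT.leaf cP505)) (BT.leaf cP506)) (BT.node 507 (BT.leaf cP507) (BT.leaf cP508)))) (BT.node 513 (BT.node 511 (BT.node 510 (BT.node 509 (BT.leaf cP509) (BT.leaf cP510)) (BT.leaf cP511)) (BT.node 512 (BT.leaf cP512) (BT.leaf cP513))) (BT.node 515 (BT.node 514 (BT.leaf cP514) (BT.leaf cP515)) (BT.node 516 (BT.leaf cP516) (BT.leaf cP517))))) (BT.node 527 (BT.node 522 (BT.node 520 (BT.node 519 (BT.node 518 (BT.leaf cP518) (BT.leaf cP519)) (BT.leaf cP520)) (BT.node 521 (BT.leaf cP521) (BT.leaf cP522))) (BT.node 525 (BT.node 524 (BT.node 523 (BT.leaf cP523) (BT.leaf cP524)) (BT.leaf cP525)) (BT.node 526 (BT.leaf cP526) (BT.leaf cP527)))) (BT.node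 532 (BT.node 530 (BT.node 529 (BT.node 528 (BT.leaf cP528) (BT.leaf cP529)) (BT.leaf cP530)) (BT.node 531 (BT.leaf cP531) (BT.leaf cP532))) (BT.node 534 (BT.node 533 (BT.leaf cP533) (BT.leaf cP534)) (BT.node 535 (BT.leaf cP535) (BT.leaf cP536))))))) (BT.node 574 (BT.node 555 (BT.node 546 (BT.node 541 (BT.node 539 (BT.node 538 (BT.node 537 (BT.leaf cP537) (BT.leaf cP538)) (BT.leaf cP539)) (BT.node 540 (BT.leaf cP540) (BT.leaf cP541))) (BT.node 544 (BT.node 543 (BT.node 542 (BT.leaf cP542) (BT.leaf cP543)) (BT.leaf cP544)) (BT.node 545 (BT.leaf cP545) (BT.leaf cP546)))) (BT.node 551 (BT.node 549 (BT.node 548 (BT.node 547 (BT.leaf cP547) (BT.leaf cP548)) (BT.leaf cP549)) (BT.node 550 (BT.leaf cP550) (BT.leaf cP551))) (BT.node 553 (BT.node 552 (BT.leaf cP552) (BT.leaf cP553)) (BT.node 554 (BT.leaf cP554) (BT.leaf cP555))))) (BT.node 565 (BT.node 560 (BT.node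 558 (BT.node 557 (BT.node 556 (BT.leaf cP556) (BT.leaf cP557)) (BT.leaf cP558)) (BT.node 559 (BT.leaf cP559) (BT.leaf cP560))) (BT.node 563 (BT.node 562 (BT.node 561 (BT.leaf cP561) (BT.leaf cP562)) (BT.leaf cP563)) (BT.node 564 (BT.leaf cP564) (BT.leaf cP565)))) (BT.node 570 (BT.node 568 (BT.node 567 (BT.node 566 (BT.leaf cP566) (BT.leaf cP567)) (BT.leaf cP568)) (BT.node 569 (BT.leaf cP569) (BT.leaf cP570))) (BT.node 572 (BT.node 571 (BT.leaf cP571) (BT.leaf cP572)) (BT.node 573 (BT.leaf cP573) (BT.leaf cP574)))))) (BT.node 593 (BT.node 584 (BT.node 579 (BT.node 577 (BT.node 576 (BT.node 575 (BT.leaf cP575) (BT.leaf cP576)) (BT.leaf cP577)) (BT.node 578 (BT.leaf cP578) (BT.leaf cP579))) (BT.node 582 (BT.node 581 (BT.node 580 (BT.leaf cP580) (BT.leaf cP581)) (BT.leaf cP582)) (BT.node 583 (BT.leaf cP583) (BT.leaf cP584)))) (BT.node 589 (BT.node 587 (BT.node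 586 (BT.node 585 (BT.leaf cP585) (BT.leaf cP586)) (BT.leaf cP587)) (BT.node 588 (BT.leaf cP588) (BT.leaf cP589))) (BT.node 591 (BT.node 590 (BT.leaf cP590) (BT.leaf cP591)) (BT.node 592 (BT.leaf cP592) (BT.leaf cP593))))) (BT.node 603 (BT.node 598 (BT.node 596 (BT.node 595 (BT.node 594 (BT.leaf cP594) (BT.leaf cP595)) (BT.leaf cP596)) (BT.node 597 (BT.leaf cP597) (BT.leaf cP598))) (BT.node 601 (BT.node 600 (BT.node 599 (BT.leaf cP599) (BT.leaf cP600)) (BT.leaf cP601)) (BT.node 602 (BT.leaf cP602) (BT.leaf cP603)))) (BT.node 608 (BT.node 606 (BT.node 605 (BT.node 604 (BT.leaf cP604) (BT.leaf cP605)) (BT.leaf cP606)) (BT.node 607 (BT.leaf cP607) (BT.leaf cP608))) (BT.node 610 (BT.node 609 (BT.leaf cP609) (BT.leaf cP610)) (BT.node 611 (BT.leaf cP611) (BT.leaf cP612))))))))))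
/-- the certificate -/
def data : Data where
  k := 10
  N := 313562
  W := 40
  MW := 1099511627776
  B := 524288
  CH := 512
  NCH := 613
  colE := colET
  JW := 64
  MJ := 18446744073709551616
  A := 1048576
  colJ := colJT
  PW := 28
  MP := 268435456
  parC := parCT
  inv := (BT.node 5 (BT.node 2 (BT.node 1 (BT.node 0 (BT.leaf 0) (BT.leaf 1)) (BT.leaf 2)) (BT.node 4 (BT.node 3 (BT.leaf 3) (BT.leaf 4)) (BT.leaf 5))) (BT.node 8 (BT.node 7 (BT.node 6 (BT.leaf 6) (BT.leaf 7)) (BT.leaf 8)) (BT.node 9 (BT.leaf 9) (BT.leaf 10))))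
  rel := relT
  sub := subT
  fuel := 64

end Cfsg.Agent.Lib.Helper28.TCF23NW0Data
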