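import Cfsg.Prelude.Def_SporCoxeter
set_option autoImplicit false

namespace Cfsg.Agent.Lib.Helper28.TCF23NW0Def

/-- the generators -/
inductive Gen
  | a
  | b
  | c
  | d
  | e
  | f
  | g
  | j
  | h
  | i
  deriving DecidableEq

/-- the Coxeter graph -/
def edges : List (Gen × ℕ × Gen) :=
  [(.a, 3, .b), (.b, 3, .c), (.c, 3, .d), (.d, 3, .e), (.d, 3, .h), (.e, 3, .f), (.f, 3, .g), (.g, 3, .j), (.h, 3, .i)]

/-- the further relators -/
def extra : List (FreeGroup Gen) := [
  FreeGroup.mk [(.a, true), (.b, true), (.c, true), (.d, true), (.e, true), (.f, true), (.h, true), (.a, true), (.b, true), (.c, true), (.d, true), (.e, true), (.f, true), (.h, true), (.a, true), (.b, true), (.c, true), (.d, true), (.e, true), (.f, true), (.h, true), (.a, true), (.b, true), (.c, true), (.d, true), (.e, true), (.f, true), (.h, true), (.a, true), (.b, true), (.c, true), (.d, true), (.e, true), (.f, true), (.h, true), (.a, true), (.b, true), (.c, true), (.d, true), (.e, true), (.f, true), (.h, true), (.a, true), (.b, true), (.c, true), (.d, true), (.e, true), (.f, true), (.h, true), (.a,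 true), (.b, true), (.c, true), (.d, true), (.e, true), (.f, true), (.h, true), (.a, true), (.b, true), (.c, true), (.d, true), (.e, true), (.f, true), (.h, true)] ]

end Cfsg.Agent.Lib.Helper28.TCF23NW0Def
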