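import Cfsg.Agent.Lib.Helper28.TC2Range
import Cfsg.Agent.Lib.Helper28.TCF23NW0Data
set_option autoImplicit false
set_option maxRecDepth 100000
set_option maxHeartbeats 0

namespace Cfsg.Agent.Lib.Helper28.TCF23NW0M4
open Cfsg.Agent.Lib.Helper28.TC2Upper Cfsg.Agent.Lib.Helper28.TC2Lower Cfsg.Agent.Lib.Helper28.TC2Range Cfsg.Agent.Lib.Helper28.TCF23NW0Data

theorem fin20 : Data.finalRange data 166660 8333 = true := by decide +kernel
theorem fin21 : Data.finalRange data 174993 8333 = true := by decide +kernel
theorem fin22 : Data.finalRange data 183326 8333 = true := by decide +kernel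
theorem fin23 : Data.finalRange data 191659 8333 = true := by decide +kernel
theorem fin24 : Data.finalRange data 199992 8333 = true := by decide +kernel

end Cfsg.Agent.Lib.Helper28.TCF23NW0M4
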