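import Cfsg.Agent.Lib.Helper28.TC2Range
import Cfsg.Agent.Lib.Helper28.TCF23NW0Data
set_option autoImplicit false
set_option maxRecDepth 100000
set_option maxHeartbeats 0

namespace Cfsg.Agent.Lib.Helper28.TCF23NW0M7
open Cfsg.Agent.Lib.Helper28.TC2Upper Cfsg.Agent.Lib.Helper28.TC2Lower Cfsg.Agent.Lib.Helper28.TC2Range Cfsg.Agent.Lib.Helper28.TCF23NW0Data

theorem fin35 : Data.finalRange data 291655 8333 = true := by decide +kernel
theorem fin36 : Data.finalRange data 299988 8333 = true := by decide +kernel
theorem fin37 : Data.finalRange data 308321 5241 = true := by decide +kernel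
theorem cnt0 : Data.countFrom data 0 40000 = 14981 := by decide +kernel
theorem cnt1 : Data.countFrom data 40000 40000 = 5020 := by decide +kernel

end Cfsg.Agent.Lib.Helper28.TCF23NW0M7
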