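import Cfsg.Agent.Lib.Helper28.TCF23NW0Data
set_option autoImplicit false
set_option maxRecDepth 100000
set_option maxHeartbeats 0

namespace Cfsg.Agent.Lib.Helper28.TCF23NW0U12
open Cfsg.Agent.Lib.Helper28.TC2Upper Cfsg.Agent.Lib.Helper28.TCF23NW0Data

theorem chk60 : data.checkRange 48565 1148 = true := by decide +kernel
theorem chk61 : data.checkRange 49713 766 = true := by decide +kernel
theorem chk62 : data.checkRange 50479 668 = true := by decide +kernel
theorem chk63 : data.checkRange 51147 664 = true := by decide +kernel
theorem chk64 : data.checkRange 51811 776 = true := by decide +kernel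

end Cfsg.Agent.Lib.Helper28.TCF23NW0U12
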