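import Cfsg.Agent.Lib.Helper28.TCF23NW0Data
set_option autoImplicit false
set_option maxRecDepth 100000
set_option maxHeartbeats 0

namespace Cfsg.Agent.Lib.Helper28.TCF23NW0U13
open Cfsg.Agent.Lib.Helper28.TC2Upper Cfsg.Agent.Lib.Helper28.TCF23NW0Data

theorem chk65 : data.checkRange 52587 1006 = true := by decide +kernel
theorem chk66 : data.checkRange 53593 881 = true := by decide +kernel
theorem chk67 : data.checkRange 54474 794 = true := by decide +kernel
theorem chk68 : data.checkRange 55268 799 = true := by decide +kernel
theorem chk69 : data.checkRange 56067 903 = true := by decide +kernel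

end Cfsg.Agent.Lib.Helper28.TCF23NW0U13
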