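import Cfsg.Agent.Lib.Helper28.TCF23NW0Data
set_option autoImplicit false
set_option maxRecDepth 100000
set_option maxHeartbeats 0

namespace Cfsg.Agent.Lib.Helper28.TCF23NW0U18
open Cfsg.Agent.Lib.Helper28.TC2Upper Cfsg.Agent.Lib.Helper28.TCF23NW0Data

theorem chk90 : data.checkRange 77592 1150 = true := by decide +kernel
theorem chk91 : data.checkRange 78742 1299 = true := by decide +kernel
theorem chk92 : data.checkRange 80041 1405 = true := by decide +kernel
theorem chk93 : data.checkRange 81446 1376 = true := by decide +kernel
theorem chk94 : data.checkRange 82822 1211 = true := by decide +kernel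

end Cfsg.Agent.Lib.Helper28.TCF23NW0U18
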