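import Cfsg.Agent.Lib.Helper28.TCF23NW0Data
set_option autoImplicit false
set_option maxRecDepth 100000
set_option maxHeartbeats 0

namespace Cfsg.Agent.Lib.Helper28.TCF23NW0U19
open Cfsg.Agent.Lib.Helper28.TC2Upper Cfsg.Agent.Lib.Helper28.TCF23NW0Data

theorem chk95 : data.checkRange 84033 843 = true := by decide +kernel
theorem chk96 : data.checkRange 84876 764 = true := by decide +kernel
theorem chk97 : data.checkRange 85640 895 = true := by decide +kernel
theorem chk98 : data.checkRange 86535 745 = true := by decide +kernel
theorem chk99 : data.checkRange 87280 729 = true := by decide +kernel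

end Cfsg.Agent.Lib.Helper28.TCF23NW0U19
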