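import Cfsg.Agent.Lib.Helper28.TCF23NW0Data
set_option autoImplicit false
set_option maxRecDepth 100000
set_option maxHeartbeats 0

namespace Cfsg.Agent.Lib.Helper28.TCF23NW0U21
open Cfsg.Agent.Lib.Helper28.TC2Upper Cfsg.Agent.Lib.Helper28.TCF23NW0Data

theorem chk105 : data.checkRange 93079 918 = true := by decide +kernel
theorem chk106 : data.checkRange 93997 1345 = true := by decide +kernel
theorem chk107 : data.checkRange 95342 1186 = true := by decide +kernel
theorem chk108 : data.checkRange 96528 1171 = true := by decide +kernel
theorem chk109 : data.checkRange 97699 1257 = true := by decide +kernel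

end Cfsg.Agent.Lib.Helper28.TCF23NW0U21
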