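import Cfsg.Agent.Lib.Helper28.TCF23NW0Data
set_option autoImplicit false
set_option maxRecDepth 100000
set_option maxHeartbeats 0

namespace Cfsg.Agent.Lib.Helper28.TCF23NW0U23
open Cfsg.Agent.Lib.Helper28.TC2Upper Cfsg.Agent.Lib.Helper28.TCF23NW0Data

theorem chk115 : data.checkRange 105525 880 = true := by decide +kernel
theorem chk116 : data.checkRange 106405 763 = true := by decide +kernel
theorem chk117 : data.checkRange 107168 1022 = true := by decide +kernel
theorem chk118 : data.checkRange 108190 816 = true := by decide +kernel
theorem chk119 : data.checkRange 109006 840 = true := by decide +kernel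

end Cfsg.Agent.Lib.Helper28.TCF23NW0U23
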