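import Cfsg.Agent.Lib.Helper28.TCF23NW0Data
set_option autoImplicit false
set_option maxRecDepth 100000
set_option maxHeartbeats 0

namespace Cfsg.Agent.Lib.Helper28.TCF23NW0U26
open Cfsg.Agent.Lib.Helper28.TC2Upper Cfsg.Agent.Lib.Helper28.TCF23NW0Data

theorem chk130 : data.checkRange 120809 1212 = true := by decide +kernel
theorem chk131 : data.checkRange 122021 1144 = true := by decide +kernel
theorem chk132 : data.checkRange 123165 1355 = true := by decide +kernel
theorem chk133 : data.checkRange 124520 1389 = true := by decide +kernel
theorem chk134 : data.checkRange 125909 1387 = true := by decide +kernel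

end Cfsg.Agent.Lib.Helper28.TCF23NW0U26
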