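import Cfsg.Agent.Lib.Helper28.TCF23NW0Data
set_option autoImplicit false
set_option maxRecDepth 100000
set_option maxHeartbeats 0

namespace Cfsg.Agent.Lib.Helper28.TCF23NW0U27
open Cfsg.Agent.Lib.Helper28.TC2Upper Cfsg.Agent.Lib.Helper28.TCF23NW0Data

theorem chk135 : data.checkRange 127296 1326 = true := by decide +kernel
theorem chk136 : data.checkRange 128622 1325 = true := by decide +kernel
theorem chk137 : data.checkRange 129947 1046 = true := by decide +kernel
theorem chk138 : data.checkRange 130993 874 = true := by decide +kernel
theorem chk139 : data.checkRange 131867 1005 = true := by decide +kernel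

end Cfsg.Agent.Lib.Helper28.TCF23NW0U27
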