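import Cfsg.Agent.Lib.Helper28.TCF23NW0Data
set_option autoImplicit false
set_option maxRecDepth 100000
set_option maxHeartbeats 0

namespace Cfsg.Agent.Lib.Helper28.TCF23NW0U28
open Cfsg.Agent.Lib.Helper28.TC2Upper Cfsg.Agent.Lib.Helper28.TCF23NW0Data

theorem chk140 : data.checkRange 132872 944 = true := by decide +kernel
theorem chk141 : data.checkRange 133816 867 = true := by decide +kernel
theorem chk142 : data.checkRange 134683 847 = true := by decide +kernel
theorem chk143 : data.checkRange 135530 1155 = true := by decide +kernel
theorem chk144 : data.checkRange 136685 1255 = true := by decide +kernel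

end Cfsg.Agent.Lib.Helper28.TCF23NW0U28
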