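import Cfsg.Agent.Lib.Helper28.TCF23NW0Data
set_option autoImplicit false
set_option maxRecDepth 100000
set_option maxHeartbeats 0

namespace Cfsg.Agent.Lib.Helper28.TCF23NW0U29
open Cfsg.Agent.Lib.Helper28.TC2Upper Cfsg.Agent.Lib.Helper28.TCF23NW0Data

theorem chk145 : data.checkRange 137940 1177 = true := by decide +kernel
theorem chk146 : data.checkRange 139117 983 = true := by decide +kernel
theorem chk147 : data.checkRange 140100 1032 = true := by decide +kernel
theorem chk148 : data.checkRange 141132 1089 = true := by decide +kernel
theorem chk149 : data.checkRange 142221 1103 = true := by decide +kernel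

end Cfsg.Agent.Lib.Helper28.TCF23NW0U29
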