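import Cfsg.Agent.Lib.Helper28.TCF23NW0Data
set_option autoImplicit false
set_option maxRecDepth 100000
set_option maxHeartbeats 0

namespace Cfsg.Agent.Lib.Helper28.TCF23NW0U3
open Cfsg.Agent.Lib.Helper28.TC2Upper Cfsg.Agent.Lib.Helper28.TCF23NW0Data

theorem chk15 : data.checkRange 9707 964 = true := by decide +kernel
theorem chk16 : data.checkRange 10671 723 = true := by decide +kernel
theorem chk17 : data.checkRange 11394 632 = true := by decide +kernel
theorem chk18 : data.checkRange 12026 615 = true := by decide +kernel
theorem chk19 : data.checkRange 12641 877 = true := by decide +kernel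

end Cfsg.Agent.Lib.Helper28.TCF23NW0U3
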