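import Cfsg.Agent.Lib.Helper28.TCF23NW0Data
set_option autoImplicit false
set_option maxRecDepth 100000
set_option maxHeartbeats 0

namespace Cfsg.Agent.Lib.Helper28.TCF23NW0U31
open Cfsg.Agent.Lib.Helper28.TC2Upper Cfsg.Agent.Lib.Helper28.TCF23NW0Data

theorem chk155 : data.checkRange 149531 1216 = true := by decide +kernel
theorem chk156 : data.checkRange 150747 1355 = true := by decide +kernel
theorem chk157 : data.checkRange 152102 1396 = true := by decide +kernel
theorem chk158 : data.checkRange 153498 1373 = true := by decide +kernel
theorem chk159 : data.checkRange 154871 1342 = true := by decide +kernel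

end Cfsg.Agent.Lib.Helper28.TCF23NW0U31
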