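import Cfsg.Agent.Lib.Helper28.TCF23NW0Data
set_option autoImplicit false
set_option maxRecDepth 100000
set_option maxHeartbeats 0

namespace Cfsg.Agent.Lib.Helper28.TCF23NW0U32
open Cfsg.Agent.Lib.Helper28.TC2Upper Cfsg.Agent.Lib.Helper28.TCF23NW0Data

theorem chk160 : data.checkRange 156213 1379 = true := by decide +kernel
theorem chk161 : data.checkRange 157592 1097 = true := by decide +kernel
theorem chk162 : data.checkRange 158689 1006 = true := by decide +kernel
theorem chk163 : data.checkRange 159695 1000 = true := by decide +kernel
theorem chk164 : data.checkRange 160695 1046 = true := by decide +kernel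

end Cfsg.Agent.Lib.Helper28.TCF23NW0U32
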