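import Cfsg.Agent.Lib.Helper28.TCF23NW0Data
set_option autoImplicit false
set_option maxRecDepth 100000
set_option maxHeartbeats 0

namespace Cfsg.Agent.Lib.Helper28.TCF23NW0U33
open Cfsg.Agent.Lib.Helper28.TC2Upper Cfsg.Agent.Lib.Helper28.TCF23NW0Data

theorem chk165 : data.checkRange 161741 966 = true := by decide +kernel
theorem chk166 : data.checkRange 162707 934 = true := by decide +kernel
theorem chk167 : data.checkRange 163641 949 = true := by decide +kernel
theorem chk168 : data.checkRange 164590 1206 = true := by decide +kernel
theorem chk169 : data.checkRange 165796 1120 = true := by decide +kernel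

end Cfsg.Agent.Lib.Helper28.TCF23NW0U33
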