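import Cfsg.Agent.Lib.Helper28.TCF23NW0Data
set_option autoImplicit false
set_option maxRecDepth 100000
set_option maxHeartbeats 0

namespace Cfsg.Agent.Lib.Helper28.TCF23NW0U35
open Cfsg.Agent.Lib.Helper28.TC2Upper Cfsg.Agent.Lib.Helper28.TCF23NW0Data

theorem chk175 : data.checkRange 172408 1287 = true := by decide +kernel
theorem chk176 : data.checkRange 173695 1179 = true := by decide +kernel
theorem chk177 : data.checkRange 174874 1178 = true := by decide +kernel
theorem chk178 : data.checkRange 176052 1173 = true := by decide +kernel
theorem chk179 : data.checkRange 177225 1220 = true := by decide +kernel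

end Cfsg.Agent.Lib.Helper28.TCF23NW0U35
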