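import Cfsg.Agent.Lib.Helper28.TCF23NW0Data
set_option autoImplicit false
set_option maxRecDepth 100000
set_option maxHeartbeats 0

namespace Cfsg.Agent.Lib.Helper28.TCF23NW0U36
open Cfsg.Agent.Lib.Helper28.TC2Upper Cfsg.Agent.Lib.Helper28.TCF23NW0Data

theorem chk180 : data.checkRange 178445 1102 = true := by decide +kernel
theorem chk181 : data.checkRange 179547 1368 = true := by decide +kernel
theorem chk182 : data.checkRange 180915 1382 = true := by decide +kernel
theorem chk183 : data.checkRange 182297 1322 = true := by decide +kernel
theorem chk184 : data.checkRange 183619 1402 = true := by decide +kernel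

end Cfsg.Agent.Lib.Helper28.TCF23NW0U36
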