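import Cfsg.Agent.Lib.Helper28.TCF23NW0Data
set_option autoImplicit false
set_option maxRecDepth 100000
set_option maxHeartbeats 0

namespace Cfsg.Agent.Lib.Helper28.TCF23NW0U37
open Cfsg.Agent.Lib.Helper28.TC2Upper Cfsg.Agent.Lib.Helper28.TCF23NW0Data

theorem chk185 : data.checkRange 185021 1328 = true := by decide +kernel
theorem chk186 : data.checkRange 186349 1338 = true := by decide +kernel
theorem chk187 : data.checkRange 187687 1155 = true := by decide +kernel
theorem chk188 : data.checkRange 188842 1081 = true := by decide +kernel
theorem chk189 : data.checkRange 189923 995 = true := by decide +kernel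

end Cfsg.Agent.Lib.Helper28.TCF23NW0U37
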