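import Cfsg.Agent.Lib.Helper28.TCF23NW0Data
set_option autoImplicit false
set_option maxRecDepth 100000
set_option maxHeartbeats 0

namespace Cfsg.Agent.Lib.Helper28.TCF23NW0U38
open Cfsg.Agent.Lib.Helper28.TC2Upper Cfsg.Agent.Lib.Helper28.TCF23NW0Data

theorem chk190 : data.checkRange 190918 1149 = true := by decide +kernel
theorem chk191 : data.checkRange 192067 954 = true := by decide +kernel
theorem chk192 : data.checkRange 193021 985 = true := by decide +kernel
theorem chk193 : data.checkRange 194006 794 = true := by decide +kernel
theorem chk194 : data.checkRange 194800 1236 = true := by decide +kernel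

end Cfsg.Agent.Lib.Helper28.TCF23NW0U38
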