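import Cfsg.Agent.Lib.Helper28.TCF23NW0Data
set_option autoImplicit false
set_option maxRecDepth 100000
set_option maxHeartbeats 0

namespace Cfsg.Agent.Lib.Helper28.TCF23NW0U39
open Cfsg.Agent.Lib.Helper28.TC2Upper Cfsg.Agent.Lib.Helper28.TCF23NW0Data

theorem chk195 : data.checkRange 196036 1267 = true := by decide +kernel
theorem chk196 : data.checkRange 197303 1132 = true := by decide +kernel
theorem chk197 : data.checkRange 198435 1051 = true := by decide +kernel
theorem chk198 : data.checkRange 199486 1139 = true := by decide +kernel
theorem chk199 : data.checkRange 200625 1060 = true := by decide +kernel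

end Cfsg.Agent.Lib.Helper28.TCF23NW0U39
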