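import Cfsg.Agent.Lib.Helper28.TCF23NW0Data
set_option autoImplicit false
set_option maxRecDepth 100000
set_option maxHeartbeats 0

namespace Cfsg.Agent.Lib.Helper28.TCF23NW0U40
open Cfsg.Agent.Lib.Helper28.TC2Upper Cfsg.Agent.Lib.Helper28.TCF23NW0Data

theorem chk200 : data.checkRange 201685 989 = true := by decide +kernel
theorem chk201 : data.checkRange 202674 1348 = true := by decide +kernel
theorem chk202 : data.checkRange 204022 1237 = true := by decide +kernel
theorem chk203 : data.checkRange 205259 1208 = true := by decide +kernel
theorem chk204 : data.checkRange 206467 1234 = true := by decide +kernel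

end Cfsg.Agent.Lib.Helper28.TCF23NW0U40
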