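import Cfsg.Agent.Lib.Helper28.TCF23NW0Data
set_option autoImplicit false
set_option maxRecDepth 100000
set_option maxHeartbeats 0

namespace Cfsg.Agent.Lib.Helper28.TCF23NW0U41
open Cfsg.Agent.Lib.Helper28.TC2Upper Cfsg.Agent.Lib.Helper28.TCF23NW0Data

theorem chk205 : data.checkRange 207701 1245 = true := by decide +kernel
theorem chk206 : data.checkRange 208946 1217 = true := by decide +kernel
theorem chk207 : data.checkRange 210163 1143 = true := by decide +kernel
theorem chk208 : data.checkRange 211306 1255 = true := by decide +kernel
theorem chk209 : data.checkRange 212561 1341 = true := by decide +kernel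

end Cfsg.Agent.Lib.Helper28.TCF23NW0U41
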