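import Cfsg.Agent.Lib.Helper28.TCF23NW0Data
set_option autoImplicit false
set_option maxRecDepth 100000
set_option maxHeartbeats 0

namespace Cfsg.Agent.Lib.Helper28.TCF23NW0U42
open Cfsg.Agent.Lib.Helper28.TC2Upper Cfsg.Agent.Lib.Helper28.TCF23NW0Data

theorem chk210 : data.checkRange 213902 1341 = true := by decide +kernel
theorem chk211 : data.checkRange 215243 1391 = true := by decide +kernel
theorem chk212 : data.checkRange 216634 1323 = true := by decide +kernel
theorem chk213 : data.checkRange 217957 1324 = true := by decide +kernel
theorem chk214 : data.checkRange 219281 1320 = true := by decide +kernel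

end Cfsg.Agent.Lib.Helper28.TCF23NW0U42
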