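import Cfsg.Agent.Lib.Helper28.TCF23NW0Data
set_option autoImplicit false
set_option maxRecDepth 100000
set_option maxHeartbeats 0

namespace Cfsg.Agent.Lib.Helper28.TCF23NW0U43
open Cfsg.Agent.Lib.Helper28.TC2Upper Cfsg.Agent.Lib.Helper28.TCF23NW0Data

theorem chk215 : data.checkRange 220601 1153 = true := by decide +kernel
theorem chk216 : data.checkRange 221754 870 = true := by decide +kernel
theorem chk217 : data.checkRange 222624 1186 = true := by decide +kernel
theorem chk218 : data.checkRange 223810 1048 = true := by decide +kernel
theorem chk219 : data.checkRange 224858 1026 = true := by decide +kernel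

end Cfsg.Agent.Lib.Helper28.TCF23NW0U43
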