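import Cfsg.Agent.Lib.Helper28.TCF23NW0Data
set_option autoImplicit false
set_option maxRecDepth 100000
set_option maxHeartbeats 0

namespace Cfsg.Agent.Lib.Helper28.TCF23NW0U44
open Cfsg.Agent.Lib.Helper28.TC2Upper Cfsg.Agent.Lib.Helper28.TCF23NW0Data

theorem chk220 : data.checkRange 225884 977 = true := by decide +kernel
theorem chk221 : data.checkRange 226861 837 = true := by decide +kernel
theorem chk222 : data.checkRange 227698 1170 = true := by decide +kernel
theorem chk223 : data.checkRange 228868 1187 = true := by decide +kernel
theorem chk224 : data.checkRange 230055 1133 = true := by decide +kernel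

end Cfsg.Agent.Lib.Helper28.TCF23NW0U44
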