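import Cfsg.Agent.Lib.Helper28.TCF23NW0Data
set_option autoImplicit false
set_option maxRecDepth 100000
set_option maxHeartbeats 0

namespace Cfsg.Agent.Lib.Helper28.TCF23NW0U45
open Cfsg.Agent.Lib.Helper28.TC2Upper Cfsg.Agent.Lib.Helper28.TCF23NW0Data

theorem chk225 : data.checkRange 231188 1022 = true := by decide +kernel
theorem chk226 : data.checkRange 232210 1159 = true := by decide +kernel
theorem chk227 : data.checkRange 233369 1090 = true := by decide +kernel
theorem chk228 : data.checkRange 234459 1142 = true := by decide +kernel
theorem chk229 : data.checkRange 235601 1303 = true := by decide +kernel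

end Cfsg.Agent.Lib.Helper28.TCF23NW0U45
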