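import Cfsg.Agent.Lib.Helper28.TCF23NW0Data
set_option autoImplicit false
set_option maxRecDepth 100000
set_option maxHeartbeats 0

namespace Cfsg.Agent.Lib.Helper28.TCF23NW0U47
open Cfsg.Agent.Lib.Helper28.TC2Upper Cfsg.Agent.Lib.Helper28.TCF23NW0Data

theorem chk235 : data.checkRange 242791 1173 = true := by decide +kernel
theorem chk236 : data.checkRange 243964 1175 = true := by decide +kernel
theorem chk237 : data.checkRange 245139 1327 = true := by decide +kernel
theorem chk238 : data.checkRange 246466 1349 = true := by decide +kernel
theorem chk239 : data.checkRange 247815 1379 = true := by decide +kernel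

end Cfsg.Agent.Lib.Helper28.TCF23NW0U47
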