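import Cfsg.Agent.Lib.Helper28.TCF23NW0Data
set_option autoImplicit false
set_option maxRecDepth 100000
set_option maxHeartbeats 0

namespace Cfsg.Agent.Lib.Helper28.TCF23NW0U48
open Cfsg.Agent.Lib.Helper28.TC2Upper Cfsg.Agent.Lib.Helper28.TCF23NW0Data

theorem chk240 : data.checkRange 249194 1308 = true := by decide +kernel
theorem chk241 : data.checkRange 250502 1285 = true := by decide +kernel
theorem chk242 : data.checkRange 251787 1325 = true := by decide +kernel
theorem chk243 : data.checkRange 253112 1194 = true := by decide +kernel
theorem chk244 : data.checkRange 254306 931 = true := by decide +kernel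

end Cfsg.Agent.Lib.Helper28.TCF23NW0U48
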