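import Cfsg.Agent.Lib.Helper28.TCF23NW0Data
set_option autoImplicit false
set_option maxRecDepth 100000
set_option maxHeartbeats 0

namespace Cfsg.Agent.Lib.Helper28.TCF23NW0U49
open Cfsg.Agent.Lib.Helper28.TC2Upper Cfsg.Agent.Lib.Helper28.TCF23NW0Data

theorem chk245 : data.checkRange 255237 1150 = true := by decide +kernel
theorem chk246 : data.checkRange 256387 1057 = true := by decide +kernel
theorem chk247 : data.checkRange 257444 1023 = true := by decide +kernel
theorem chk248 : data.checkRange 258467 1003 = true := by decide +kernel
theorem chk249 : data.checkRange 259470 888 = true := by decide +kernel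

end Cfsg.Agent.Lib.Helper28.TCF23NW0U49
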