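import Cfsg.Agent.Lib.Helper28.TCF23NW0Data
set_option autoImplicit false
set_option maxRecDepth 100000
set_option maxHeartbeats 0

namespace Cfsg.Agent.Lib.Helper28.TCF23NW0U5
open Cfsg.Agent.Lib.Helper28.TC2Upper Cfsg.Agent.Lib.Helper28.TCF23NW0Data

theorem chk25 : data.checkRange 17290 922 = true := by decide +kernel
theorem chk26 : data.checkRange 18212 990 = true := by decide +kernel
theorem chk27 : data.checkRange 19202 1196 = true := by decide +kernel
theorem chk28 : data.checkRange 20398 598 = true := by decide +kernel
theorem chk29 : data.checkRange 20996 645 = true := by decide +kernel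

end Cfsg.Agent.Lib.Helper28.TCF23NW0U5
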