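import Cfsg.Agent.Lib.Helper28.TCF23NW0Data
set_option autoImplicit false
set_option maxRecDepth 100000
set_option maxHeartbeats 0

namespace Cfsg.Agent.Lib.Helper28.TCF23NW0U50
open Cfsg.Agent.Lib.Helper28.TC2Upper Cfsg.Agent.Lib.Helper28.TCF23NW0Data

theorem chk250 : data.checkRange 260358 1157 = true := by decide +kernel
theorem chk251 : data.checkRange 261515 1247 = true := by decide +kernel
theorem chk252 : data.checkRange 262762 1204 = true := by decide +kernel
theorem chk253 : data.checkRange 263966 1112 = true := by decide +kernel
theorem chk254 : data.checkRange 265078 1240 = true := by decide +kernel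

end Cfsg.Agent.Lib.Helper28.TCF23NW0U50
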