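import Cfsg.Agent.Lib.Helper28.TCF23NW0Data
set_option autoImplicit false
set_option maxRecDepth 100000
set_option maxHeartbeats 0

namespace Cfsg.Agent.Lib.Helper28.TCF23NW0U51
open Cfsg.Agent.Lib.Helper28.TC2Upper Cfsg.Agent.Lib.Helper28.TCF23NW0Data

theorem chk255 : data.checkRange 266318 1216 = true := by decide +kernel
theorem chk256 : data.checkRange 267534 1331 = true := by decide +kernel
theorem chk257 : data.checkRange 268865 1280 = true := by decide +kernel
theorem chk258 : data.checkRange 270145 1321 = true := by decide +kernel
theorem chk259 : data.checkRange 271466 1267 = true := by decide +kernel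

end Cfsg.Agent.Lib.Helper28.TCF23NW0U51
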