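import Cfsg.Agent.Lib.Helper28.TCF23NW0Data
set_option autoImplicit false
set_option maxRecDepth 100000
set_option maxHeartbeats 0

namespace Cfsg.Agent.Lib.Helper28.TCF23NW0U52
open Cfsg.Agent.Lib.Helper28.TC2Upper Cfsg.Agent.Lib.Helper28.TCF23NW0Data

theorem chk260 : data.checkRange 272733 1308 = true := by decide +kernel
theorem chk261 : data.checkRange 274041 1351 = true := by decide +kernel
theorem chk262 : data.checkRange 275392 1225 = true := by decide +kernel
theorem chk263 : data.checkRange 276617 1386 = true := by decide +kernel
theorem chk264 : data.checkRange 278003 1392 = true := by decide +kernel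

end Cfsg.Agent.Lib.Helper28.TCF23NW0U52
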