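import Cfsg.Agent.Lib.Helper28.TCF23NW0Data
set_option autoImplicit false
set_option maxRecDepth 100000
set_option maxHeartbeats 0

namespace Cfsg.Agent.Lib.Helper28.TCF23NW0U53
open Cfsg.Agent.Lib.Helper28.TC2Upper Cfsg.Agent.Lib.Helper28.TCF23NW0Data

theorem chk265 : data.checkRange 279395 1413 = true := by decide +kernel
theorem chk266 : data.checkRange 280808 1373 = true := by decide +kernel
theorem chk267 : data.checkRange 282181 1457 = true := by decide +kernel
theorem chk268 : data.checkRange 283638 1332 = true := by decide +kernel
theorem chk269 : data.checkRange 284970 1120 = true := by decide +kernel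

end Cfsg.Agent.Lib.Helper28.TCF23NW0U53
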