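import Cfsg.Agent.Lib.Helper28.TCF23NW0Data
set_option autoImplicit false
set_option maxRecDepth 100000
set_option maxHeartbeats 0

namespace Cfsg.Agent.Lib.Helper28.TCF23NW0U54
open Cfsg.Agent.Lib.Helper28.TC2Upper Cfsg.Agent.Lib.Helper28.TCF23NW0Data

theorem chk270 : data.checkRange 286090 1135 = true := by decide +kernel
theorem chk271 : data.checkRange 287225 1201 = true := by decide +kernel
theorem chk272 : data.checkRange 288426 1117 = true := by decide +kernel
theorem chk273 : data.checkRange 289543 1079 = true := by decide +kernel
theorem chk274 : data.checkRange 290622 916 = true := by decide +kernel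

end Cfsg.Agent.Lib.Helper28.TCF23NW0U54
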