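import Cfsg.Agent.Lib.Helper28.TCF23NW0Data
set_option autoImplicit false
set_option maxRecDepth 100000
set_option maxHeartbeats 0

namespace Cfsg.Agent.Lib.Helper28.TCF23NW0U55
open Cfsg.Agent.Lib.Helper28.TC2Upper Cfsg.Agent.Lib.Helper28.TCF23NW0Data

theorem chk275 : data.checkRange 291538 1329 = true := by decide +kernel
theorem chk276 : data.checkRange 292867 1494 = true := by decide +kernel
theorem chk277 : data.checkRange 294361 1481 = true := by decide +kernel
theorem chk278 : data.checkRange 295842 1510 = true := by decide +kernel
theorem chk279 : data.checkRange 297352 1530 = true := by decide +kernel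

end Cfsg.Agent.Lib.Helper28.TCF23NW0U55
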