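import Cfsg.Agent.Lib.Helper28.TCF23NW0Data
set_option autoImplicit false
set_option maxRecDepth 100000
set_option maxHeartbeats 0

namespace Cfsg.Agent.Lib.Helper28.TCF23NW0U56
open Cfsg.Agent.Lib.Helper28.TC2Upper Cfsg.Agent.Lib.Helper28.TCF23NW0Data

theorem chk280 : data.checkRange 298882 1523 = true := by decide +kernel
theorem chk281 : data.checkRange 300405 1582 = true := by decide +kernel
theorem chk282 : data.checkRange 301987 1635 = true := by decide +kernel
theorem chk283 : data.checkRange 303622 1654 = true := by decide +kernel
theorem chk284 : data.checkRange 305276 1607 = true := by decide +kernel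

end Cfsg.Agent.Lib.Helper28.TCF23NW0U56
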