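import Cfsg.Agent.Lib.Helper28.TC2Glue
import Cfsg.Agent.Lib.Helper28.TC2Range
import Cfsg.Agent.Lib.Helper28.TCF23NW0Link
import Cfsg.Agent.Lib.Helper28.TCF23NW0M0
import Cfsg.Agent.Lib.Helper28.TCF23NW0M1
import Cfsg.Agent.Lib.Helper28.TCF23NW0M2
import Cfsg.Agent.Lib.Helper28.TCF23NW0M3
import Cfsg.Agent.Lib.Helper28.TCF23NW0M4
import Cfsg.Agent.Lib.Helper28.TCF23NW0M5
import Cfsg.Agent.Lib.Helper28.TCF23NW0M6
import Cfsg.Agent.Lib.Helper28.TCF23NW0M7
import Cfsg.Agent.Lib.Helper28.TCF23NW0M8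
import Cfsg.Agent.Lib.Helper28.TCF23NW0M9
import Cfsg.Agent.Lib.Helper28.TCF23NW0U0
import Cfsg.Agent.Lib.Helper28.TCF23NW0U1
import Cfsg.Agent.Lib.Helper28.TCF23NW0U2
import Cfsg.Agent.Lib.Helper28.TCF23NW0U3
import Cfsg.Agent.Lib.Helper28.TCF23NW0U4
import Cfsg.Agent.Lib.Helper28.TCF23NW0U5
import Cfsg.Agent.Lib.Helper28.TCF23NW0U6
import Cfsg.Agent.Lib.Helper28.TCF23NW0U7
import Cfsg.Agent.Lib.Helper28.TCF23NW0U8
import Cfsg.Agent.Lib.Helper28.TCF23NW0U9
import Cfsg.Agent.Lib.Helper28.TCF23NW0U10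
import Cfsg.Agent.Lib.Helper28.TCF23NW0U11
import Cfsg.Agent.Lib.Helper28.TCF23NW0U12
import Cfsg.Agent.Lib.Helper28.TCF23NW0U13
import Cfsg.Agent.Lib.Helper28.TCF23NW0U14
import Cfsg.Agent.Lib.Helper28.TCF23NW0U15
import Cfsg.Agent.Lib.Helper28.TCF23NW0U16
import Cfsg.Agent.Lib.Helper28.TCF23NW0U17
import Cfsg.Agent.Lib.Helper28.TCF23NW0U18
import Cfsg.Agent.Lib.Helper28.TCF23NW0U19
import Cfsg.Agent.Lib.Helper28.TCF23NW0U20
import Cfsg.Agent.Lib.Helper28.TCF23NW0U21
import Cfsg.Agent.Lib.Helper28.TCF23NW0U22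
import Cfsg.Agent.Lib.Helper28.TCF23NW0U23
import Cfsg.Agent.Lib.Helper28.TCF23NW0U24
import Cfsg.Agent.Lib.Helper28.TCF23NW0U25
import Cfsg.Agent.Lib.Helper28.TCF23NW0U26
import Cfsg.Agent.Lib.Helper28.TCF23NW0U27
import Cfsg.Agent.Lib.Helper28.TCF23NW0U28
import Cfsg.Agent.Lib.Helper28.TCF23NW0U29
import Cfsg.Agent.Lib.Helper28.TCF23NW0U30
import Cfsg.Agent.Lib.Helper28.TCF23NW0U31
import Cfsg.Agent.Lib.Helper28.TCF23NW0U32
import Cfsg.Agent.Lib.Helper28.TCF23NW0U33
import Cfsg.Agent.Lib.Helper28.TCF23NW0U34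
import Cfsg.Agent.Lib.Helper28.TCF23NW0U35
import Cfsg.Agent.Lib.Helper28.TCF23NW0U36
import Cfsg.Agent.Lib.Helper28.TCF23NW0U37
import Cfsg.Agent.Lib.Helper28.TCF23NW0U38
import Cfsg.Agent.Lib.Helper28.TCF23NW0U39
import Cfsg.Agent.Lib.Helper28.TCF23NW0U40
import Cfsg.Agent.Lib.Helper28.TCF23NW0U41
import Cfsg.Agent.Lib.Helper28.TCF23NW0U42
import Cfsg.Agent.Lib.Helper28.TCF23NW0U43
import Cfsg.Agent.Lib.Helper28.TCF23NW0U44
import Cfsg.Agent.Lib.Helper28.TCF23NW0U45
import Cfsg.Agent.Lib.Helper28.TCF23NW0U46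
import Cfsg.Agent.Lib.Helper28.TCF23NW0U47
import Cfsg.Agent.Lib.Helper28.TCF23NW0U48
import Cfsg.Agent.Lib.Helper28.TCF23NW0U49
import Cfsg.Agent.Lib.Helper28.TCF23NW0U50
import Cfsg.Agent.Lib.Helper28.TCF23NW0U51
import Cfsg.Agent.Lib.Helper28.TCF23NW0U52
import Cfsg.Agent.Lib.Helper28.TCF23NW0U53
import Cfsg.Agent.Lib.Helper28.TCF23NW0U54
import Cfsg.Agent.Lib.Helper28.TCF23NW0U55
import Cfsg.Agent.Lib.Helper28.TCF23NW0U56
import Cfsg.Agent.Lib.Helper28.TCF23NW0U57
import Cfsg.Agent.Lib.Helper28.TCF23NW0U58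

set_option autoImplicit false
set_option maxRecDepth 100000
open Cfsg

namespace Cfsg.Agent.Lib.Helper28.TCF23NW0Main
open Cfsg.Agent.Lib.Helper28.TC2Upper Cfsg.Agent.Lib.Helper28.TC2Lower Cfsg.Agent.Lib.Helper28.TC2Glue Cfsg.Agent.Lib.Helper28.TC2Range
open Cfsg.Agent.Lib.Helper28.TCF23NW0Data Cfsg.Agent.Lib.Helper28.TCF23NW0Table Cfsg.Agent.Lib.Helper28.TCF23NW0Link

theorem hchk : ∀ v, v < data.N → data.checkNode v = true := by
  intro v hv
  have hv' : v < 313562 := hv
  rcases Nat.lt_or_ge v 548 with h0 | h0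
  · exact (data.checkRange_iff 0 548).mp Cfsg.Agent.Lib.Helper28.TCF23NW0U0.chk0 v (by omega) (by omega)
  rcases Nat.lt_or_ge v 1111 with h1 | h1
  · exact (data.checkRange_iff 548 563).mp Cfsg.Agent.Lib.Helper28.TCF23NW0U0.chk1 v (by omega) (by omega)
  rcases Nat.lt_or_ge v 1683 with h2 | h2
  · exact (data.checkRange_iff 1111 572).mp Cfsg.Agent.Lib.Helper28.TCF23NW0U0.chk2 v (by omega) (by omega)
  rcases Nat.lt_or_ge v 2280 with h3 | h3
  · exact (data.checkRange_iff 1683 597).mp Cfsg.Agent.Lib.Helper28.TCF23NW0U0.chk3 v (by omega) (by omega)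
  rcases Nat.lt_or_ge v 2903 with h4 | h4
  · exact (data.checkRange_iff 2280 623).mp Cfsg.Agent.Lib.Helper28.TCF23NW0U0.chk4 v (by omega) (by omega)
  rcases Nat.lt_or_ge v 3491 with h5 | h5
  · exact (data.checkRange_iff 2903 588).mp Cfsg.Agent.Lib.Helper28.TCF23NW0U1.chk5 v (by omega) (by omega)
  rcases Nat.lt_or_ge v 4210 with h6 | h6
  · exact (data.checkRange_iff 3491 719).mp Cfsg.Agent.Lib.Helper28.TCF23NW0U1.chk6 v (by omega) (by omega)
  rcases Nat.lt_or_ge v 4781 with h7 | h7
  · exact (data.checkRange_iff 4210 571).mp Cfsg.Agent.Lib.Helper28.TCF23NW0U1.chk7 v (by omega) (by omega)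
  rcases Nat.lt_or_ge v 5511 with h8 | h8
  · exact (data.checkRange_iff 4781 730).mp Cfsg.Agent.Lib.Helper28.TCF23NW0U1.chk8 v (by omega) (by omega)
  rcases Nat.lt_or_ge v 6199 with h9 | h9
  · exact (data.checkRange_iff 5511 688).mp Cfsg.Agent.Lib.Helper28.TCF23NW0U1.chk9 v (by omega) (by omega)
  rcases Nat.lt_or_ge v 6807 with h10 | h10
  · exact (data.checkRange_iff 6199 608).mp Cfsg.Agent.Lib.Helper28.TCF23NW0U2.chk10 v (by omega) (by omega)
  rcases Nat.lt_or_ge v 7637 with h11 | h11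
  · exact (data.checkRange_iff 6807 830).mp Cfsg.Agent.Lib.Helper28.TCF23NW0U2.chk11 v (by omega) (by omega)
  rcases Nat.lt_or_ge v 8401 with h12 | h12
  · exact (data.checkRange_iff 7637 764).mp Cfsg.Agent.Lib.Helper28.TCF23NW0U2.chk12 v (by omega) (by omega)
  rcases Nat.lt_or_ge v 8990 with h13 | h13
  · exact (data.checkRange_iff 8401 589).mp Cfsg.Agent.Lib.Helper28.TCF23NW0U2.chk13 v (by omega) (by omega)
  rcases Nat.lt_or_ge v 9707 with h14 | h14
  · exact (data.checkRange_iff 8990 717).mp Cfsg.Agent.Lib.Helper28.TCF23NW0U2.chk14 v (by omega) (by omega)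
  rcases Nat.lt_or_ge v 10671 with h15 | h15
  · exact (data.checkRange_iff 9707 964).mp Cfsg.Agent.Lib.Helper28.TCF23NW0U3.chk15 v (by omega) (by omega)
  rcases Nat.lt_or_ge v 11394 with h16 | h16
  · exact (data.checkRange_iff 10671 723).mp Cfsg.Agent.Lib.Helper28.TCF23NW0U3.chk16 v (by omega) (by omega)
  rcases Nat.lt_or_ge v 12026 with h17 | h17
  · exact (data.checkRange_iff 11394 632).mp Cfsg.Agent.Lib.Helper28.TCF23NW0U3.chk17 v (by omega) (by omega)
  rcases Nat.lt_or_ge v 12641 with h18 | h18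
  · exact (data.checkRange_iff 12026 615).mp Cfsg.Agent.Lib.Helper28.TCF23NW0U3.chk18 v (by omega) (by omega)
  rcases Nat.lt_or_ge v 13518 with h19 | h19
  · exact (data.checkRange_iff 12641 877).mp Cfsg.Agent.Lib.Helper28.TCF23NW0U3.chk19 v (by omega) (by omega)
  rcases Nat.lt_or_ge v 14574 with h20 | h20
  · exact (data.checkRange_iff 13518 1056).mp Cfsg.Agent.Lib.Helper28.TCF23NW0U4.chk20 v (by omega) (by omega)
  rcases Nat.lt_or_ge v 15368 with h21 | h21
  · exact (data.checkRange_iff 14574 794).mp Cfsg.Agent.Lib.Helper28.TCF23NW0U4.chk21 v (by omega) (by omega)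
  rcases Nat.lt_or_ge v 16010 with h22 | h22
  · exact (data.checkRange_iff 15368 642).mp Cfsg.Agent.Lib.Helper28.TCF23NW0U4.chk22 v (by omega) (by omega)
  rcases Nat.lt_or_ge v 16630 with h23 | h23
  · exact (data.checkRange_iff 16010 620).mp Cfsg.Agent.Lib.Helper28.TCF23NW0U4.chk23 v (by omega) (by omega)
  rcases Nat.lt_or_ge v 17290 with h24 | h24
  · exact (data.checkRange_iff 16630 660).mp Cfsg.Agent.Lib.Helper28.TCF23NW0U4.chk24 v (by omega) (by omega)
  rcases Nat.lt_or_ge v 18212 with h25 | h25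
  · exact (data.checkRange_iff 17290 922).mp Cfsg.Agent.Lib.Helper28.TCF23NW0U5.chk25 v (by omega) (by omega)
  rcases Nat.lt_or_ge v 19202 with h26 | h26
  · exact (data.checkRange_iff 18212 990).mp Cfsg.Agent.Lib.Helper28.TCF23NW0U5.chk26 v (by omega) (by omega)
  rcases Nat.lt_or_ge v 20398 with h27 | h27
  · exact (data.checkRange_iff 19202 1196).mp Cfsg.Agent.Lib.Helper28.TCF23NW0U5.chk27 v (by omega) (by omega)
  rcases Nat.lt_or_ge v 20996 with h28 | h28
  · exact (data.checkRange_iff 20398 598).mp Cfsg.Agent.Lib.Helper28.TCF23NW0U5.chk28 v (by omega) (by omega)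
  rcases Nat.lt_or_ge v 21641 with h29 | h29
  · exact (data.checkRange_iff 20996 645).mp Cfsg.Agent.Lib.Helper28.TCF23NW0U5.chk29 v (by omega) (by omega)
  rcases Nat.lt_or_ge v 22362 with h30 | h30
  · exact (data.checkRange_iff 21641 721).mp Cfsg.Agent.Lib.Helper28.TCF23NW0U6.chk30 v (by omega) (by omega)
  rcases Nat.lt_or_ge v 22989 with h31 | h31
  · exact (data.checkRange_iff 22362 627).mp Cfsg.Agent.Lib.Helper28.TCF23NW0U6.chk31 v (by omega) (by omega)
  rcases Nat.lt_or_ge v 23717 with h32 | h32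
  · exact (data.checkRange_iff 22989 728).mp Cfsg.Agent.Lib.Helper28.TCF23NW0U6.chk32 v (by omega) (by omega)
  rcases Nat.lt_or_ge v 24702 with h33 | h33
  · exact (data.checkRange_iff 23717 985).mp Cfsg.Agent.Lib.Helper28.TCF23NW0U6.chk33 v (by omega) (by omega)
  rcases Nat.lt_or_ge v 25708 with h34 | h34
  · exact (data.checkRange_iff 24702 1006).mp Cfsg.Agent.Lib.Helper28.TCF23NW0U6.chk34 v (by omega) (by omega)
  rcases Nat.lt_or_ge v 26981 with h35 | h35
  · exact (data.checkRange_iff 25708 1273).mp Cfsg.Agent.Lib.Helper28.TCF23NW0U7.chk35 v (by omega) (by omega)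
  rcases Nat.lt_or_ge v 27899 with h36 | h36
  · exact (data.checkRange_iff 26981 918).mp Cfsg.Agent.Lib.Helper28.TCF23NW0U7.chk36 v (by omega) (by omega)
  rcases Nat.lt_or_ge v 28482 with h37 | h37
  · exact (data.checkRange_iff 27899 583).mp Cfsg.Agent.Lib.Helper28.TCF23NW0U7.chk37 v (by omega) (by omega)
  rcases Nat.lt_or_ge v 29130 with h38 | h38
  · exact (data.checkRange_iff 28482 648).mp Cfsg.Agent.Lib.Helper28.TCF23NW0U7.chk38 v (by omega) (by omega)
  rcases Nat.lt_or_ge v 29951 with h39 | h39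
  · exact (data.checkRange_iff 29130 821).mp Cfsg.Agent.Lib.Helper28.TCF23NW0U7.chk39 v (by omega) (by omega)
  rcases Nat.lt_or_ge v 30636 with h40 | h40
  · exact (data.checkRange_iff 29951 685).mp Cfsg.Agent.Lib.Helper28.TCF23NW0U8.chk40 v (by omega) (by omega)
  rcases Nat.lt_or_ge v 31308 with h41 | h41
  · exact (data.checkRange_iff 30636 672).mp Cfsg.Agent.Lib.Helper28.TCF23NW0U8.chk41 v (by omega) (by omega)
  rcases Nat.lt_or_ge v 32143 with h42 | h42
  · exact (data.checkRange_iff 31308 835).mp Cfsg.Agent.Lib.Helper28.TCF23NW0U8.chk42 v (by omega) (by omega)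
  rcases Nat.lt_or_ge v 33143 with h43 | h43
  · exact (data.checkRange_iff 32143 1000).mp Cfsg.Agent.Lib.Helper28.TCF23NW0U8.chk43 v (by omega) (by omega)
  rcases Nat.lt_or_ge v 34228 with h44 | h44
  · exact (data.checkRange_iff 33143 1085).mp Cfsg.Agent.Lib.Helper28.TCF23NW0U8.chk44 v (by omega) (by omega)
  rcases Nat.lt_or_ge v 35398 with h45 | h45
  · exact (data.checkRange_iff 34228 1170).mp Cfsg.Agent.Lib.Helper28.TCF23NW0U9.chk45 v (by omega) (by omega)
  rcases Nat.lt_or_ge v 36732 with h46 | h46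
  · exact (data.checkRange_iff 35398 1334).mp Cfsg.Agent.Lib.Helper28.TCF23NW0U9.chk46 v (by omega) (by omega)
  rcases Nat.lt_or_ge v 37585 with h47 | h47
  · exact (data.checkRange_iff 36732 853).mp Cfsg.Agent.Lib.Helper28.TCF23NW0U9.chk47 v (by omega) (by omega)
  rcases Nat.lt_or_ge v 38200 with h48 | h48
  · exact (data.checkRange_iff 37585 615).mp Cfsg.Agent.Lib.Helper28.TCF23NW0U9.chk48 v (by omega) (by omega)
  rcases Nat.lt_or_ge v 38857 with h49 | h49
  · exact (data.checkRange_iff 38200 657).mp Cfsg.Agent.Lib.Helper28.TCF23NW0U9.chk49 v (by omega) (by omega)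
  rcases Nat.lt_or_ge v 39626 with h50 | h50
  · exact (data.checkRange_iff 38857 769).mp Cfsg.Agent.Lib.Helper28.TCF23NW0U10.chk50 v (by omega) (by omega)
  rcases Nat.lt_or_ge v 40497 with h51 | h51
  · exact (data.checkRange_iff 39626 871).mp Cfsg.Agent.Lib.Helper28.TCF23NW0U10.chk51 v (by omega) (by omega)
  rcases Nat.lt_or_ge v 41236 with h52 | h52
  · exact (data.checkRange_iff 40497 739).mp Cfsg.Agent.Lib.Helper28.TCF23NW0U10.chk52 v (by omega) (by omega)
  rcases Nat.lt_or_ge v 41963 with h53 | h53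
  · exact (data.checkRange_iff 41236 727).mp Cfsg.Agent.Lib.Helper28.TCF23NW0U10.chk53 v (by omega) (by omega)
  rcases Nat.lt_or_ge v 42787 with h54 | h54
  · exact (data.checkRange_iff 41963 824).mp Cfsg.Agent.Lib.Helper28.TCF23NW0U10.chk54 v (by omega) (by omega)
  rcases Nat.lt_or_ge v 43759 with h55 | h55
  · exact (data.checkRange_iff 42787 972).mp Cfsg.Agent.Lib.Helper28.TCF23NW0U11.chk55 v (by omega) (by omega)
  rcases Nat.lt_or_ge v 44873 with h56 | h56
  · exact (data.checkRange_iff 43759 1114).mp Cfsg.Agent.Lib.Helper28.TCF23NW0U11.chk56 v (by omega) (by omega)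
  rcases Nat.lt_or_ge v 46019 with h57 | h57
  · exact (data.checkRange_iff 44873 1146).mp Cfsg.Agent.Lib.Helper28.TCF23NW0U11.chk57 v (by omega) (by omega)
  rcases Nat.lt_or_ge v 47215 with h58 | h58
  · exact (data.checkRange_iff 46019 1196).mp Cfsg.Agent.Lib.Helper28.TCF23NW0U11.chk58 v (by omega) (by omega)
  rcases Nat.lt_or_ge v 48565 with h59 | h59
  · exact (data.checkRange_iff 47215 1350).mp Cfsg.Agent.Lib.Helper28.TCF23NW0U11.chk59 v (by omega) (by omega)
  rcases Nat.lt_or_ge v 49713 with h60 | h60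
  · exact (data.checkRange_iff 48565 1148).mp Cfsg.Agent.Lib.Helper28.TCF23NW0U12.chk60 v (by omega) (by omega)
  rcases Nat.lt_or_ge v 50479 with h61 | h61
  · exact (data.checkRange_iff 49713 766).mp Cfsg.Agent.Lib.Helper28.TCF23NW0U12.chk61 v (by omega) (by omega)
  rcases Nat.lt_or_ge v 51147 with h62 | h62
  · exact (data.checkRange_iff 50479 668).mp Cfsg.Agent.Lib.Helper28.TCF23NW0U12.chk62 v (by omega) (by omega)
  rcases Nat.lt_or_ge v 51811 with h63 | h63
  · exact (data.checkRange_iff 51147 664).mp Cfsg.Agent.Lib.Helper28.TCF23NW0U12.chk63 v (by omega) (by omega)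
  rcases Nat.lt_or_ge v 52587 with h64 | h64
  · exact (data.checkRange_iff 51811 776).mp Cfsg.Agent.Lib.Helper28.TCF23NW0U12.chk64 v (by omega) (by omega)
  rcases Nat.lt_or_ge v 53593 with h65 | h65
  · exact (data.checkRange_iff 52587 1006).mp Cfsg.Agent.Lib.Helper28.TCF23NW0U13.chk65 v (by omega) (by omega)
  rcases Nat.lt_or_ge v 54474 with h66 | h66
  · exact (data.checkRange_iff 53593 881).mp Cfsg.Agent.Lib.Helper28.TCF23NW0U13.chk66 v (by omega) (by omega)
  rcases Nat.lt_or_ge v 55268 with h67 | h67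
  · exact (data.checkRange_iff 54474 794).mp Cfsg.Agent.Lib.Helper28.TCF23NW0U13.chk67 v (by omega) (by omega)
  rcases Nat.lt_or_ge v 56067 with h68 | h68
  · exact (data.checkRange_iff 55268 799).mp Cfsg.Agent.Lib.Helper28.TCF23NW0U13.chk68 v (by omega) (by omega)
  rcases Nat.lt_or_ge v 56970 with h69 | h69
  · exact (data.checkRange_iff 56067 903).mp Cfsg.Agent.Lib.Helper28.TCF23NW0U13.chk69 v (by omega) (by omega)
  rcases Nat.lt_or_ge v 58093 with h70 | h70
  · exact (data.checkRange_iff 56970 1123).mp Cfsg.Agent.Lib.Helper28.TCF23NW0U14.chk70 v (by omega) (by omega)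
  rcases Nat.lt_or_ge v 59242 with h71 | h71
  · exact (data.checkRange_iff 58093 1149).mp Cfsg.Agent.Lib.Helper28.TCF23NW0U14.chk71 v (by omega) (by omega)
  rcases Nat.lt_or_ge v 60443 with h72 | h72
  · exact (data.checkRange_iff 59242 1201).mp Cfsg.Agent.Lib.Helper28.TCF23NW0U14.chk72 v (by omega) (by omega)
  rcases Nat.lt_or_ge v 61596 with h73 | h73
  · exact (data.checkRange_iff 60443 1153).mp Cfsg.Agent.Lib.Helper28.TCF23NW0U14.chk73 v (by omega) (by omega)
  rcases Nat.lt_or_ge v 62924 with h74 | h74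
  · exact (data.checkRange_iff 61596 1328).mp Cfsg.Agent.Lib.Helper28.TCF23NW0U14.chk74 v (by omega) (by omega)
  rcases Nat.lt_or_ge v 64301 with h75 | h75
  · exact (data.checkRange_iff 62924 1377).mp Cfsg.Agent.Lib.Helper28.TCF23NW0U15.chk75 v (by omega) (by omega)
  rcases Nat.lt_or_ge v 65447 with h76 | h76
  · exact (data.checkRange_iff 64301 1146).mp Cfsg.Agent.Lib.Helper28.TCF23NW0U15.chk76 v (by omega) (by omega)
  rcases Nat.lt_or_ge v 66258 with h77 | h77
  · exact (data.checkRange_iff 65447 811).mp Cfsg.Agent.Lib.Helper28.TCF23NW0U15.chk77 v (by omega) (by omega)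
  rcases Nat.lt_or_ge v 67004 with h78 | h78
  · exact (data.checkRange_iff 66258 746).mp Cfsg.Agent.Lib.Helper28.TCF23NW0U15.chk78 v (by omega) (by omega)
  rcases Nat.lt_or_ge v 67782 with h79 | h79
  · exact (data.checkRange_iff 67004 778).mp Cfsg.Agent.Lib.Helper28.TCF23NW0U15.chk79 v (by omega) (by omega)
  rcases Nat.lt_or_ge v 68576 with h80 | h80
  · exact (data.checkRange_iff 67782 794).mp Cfsg.Agent.Lib.Helper28.TCF23NW0U16.chk80 v (by omega) (by omega)
  rcases Nat.lt_or_ge v 69425 with h81 | h81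
  · exact (data.checkRange_iff 68576 849).mp Cfsg.Agent.Lib.Helper28.TCF23NW0U16.chk81 v (by omega) (by omega)
  rcases Nat.lt_or_ge v 70486 with h82 | h82
  · exact (data.checkRange_iff 69425 1061).mp Cfsg.Agent.Lib.Helper28.TCF23NW0U16.chk82 v (by omega) (by omega)
  rcases Nat.lt_or_ge v 71447 with h83 | h83
  · exact (data.checkRange_iff 70486 961).mp Cfsg.Agent.Lib.Helper28.TCF23NW0U16.chk83 v (by omega) (by omega)
  rcases Nat.lt_or_ge v 72289 with h84 | h84
  · exact (data.checkRange_iff 71447 842).mp Cfsg.Agent.Lib.Helper28.TCF23NW0U16.chk84 v (by omega) (by omega)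
  rcases Nat.lt_or_ge v 73116 with h85 | h85
  · exact (data.checkRange_iff 72289 827).mp Cfsg.Agent.Lib.Helper28.TCF23NW0U17.chk85 v (by omega) (by omega)
  rcases Nat.lt_or_ge v 74003 with h86 | h86
  · exact (data.checkRange_iff 73116 887).mp Cfsg.Agent.Lib.Helper28.TCF23NW0U17.chk86 v (by omega) (by omega)
  rcases Nat.lt_or_ge v 75247 with h87 | h87
  · exact (data.checkRange_iff 74003 1244).mp Cfsg.Agent.Lib.Helper28.TCF23NW0U17.chk87 v (by omega) (by omega)
  rcases Nat.lt_or_ge v 76434 with h88 | h88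
  · exact (data.checkRange_iff 75247 1187).mp Cfsg.Agent.Lib.Helper28.TCF23NW0U17.chk88 v (by omega) (by omega)
  rcases Nat.lt_or_ge v 77592 with h89 | h89
  · exact (data.checkRange_iff 76434 1158).mp Cfsg.Agent.Lib.Helper28.TCF23NW0U17.chk89 v (by omega) (by omega)
  rcases Nat.lt_or_ge v 78742 with h90 | h90
  · exact (data.checkRange_iff 77592 1150).mp Cfsg.Agent.Lib.Helper28.TCF23NW0U18.chk90 v (by omega) (by omega)
  rcases Nat.lt_or_ge v 80041 with h91 | h91
  · exact (data.checkRange_iff 78742 1299).mp Cfsg.Agent.Lib.Helper28.TCF23NW0U18.chk91 v (by omega) (by omega)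
  rcases Nat.lt_or_ge v 81446 with h92 | h92
  · exact (data.checkRange_iff 80041 1405).mp Cfsg.Agent.Lib.Helper28.TCF23NW0U18.chk92 v (by omega) (by omega)
  rcases Nat.lt_or_ge v 82822 with h93 | h93
  · exact (data.checkRange_iff 81446 1376).mp Cfsg.Agent.Lib.Helper28.TCF23NW0U18.chk93 v (by omega) (by omega)
  rcases Nat.lt_or_ge v 84033 with h94 | h94
  · exact (data.checkRange_iff 82822 1211).mp Cfsg.Agent.Lib.Helper28.TCF23NW0U18.chk94 v (by omega) (by omega)
  rcases Nat.lt_or_ge v 84876 with h95 | h95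
  · exact (data.checkRange_iff 84033 843).mp Cfsg.Agent.Lib.Helper28.TCF23NW0U19.chk95 v (by omega) (by omega)
  rcases Nat.lt_or_ge v 85640 with h96 | h96
  · exact (data.checkRange_iff 84876 764).mp Cfsg.Agent.Lib.Helper28.TCF23NW0U19.chk96 v (by omega) (by omega)
  rcases Nat.lt_or_ge v 86535 with h97 | h97
  · exact (data.checkRange_iff 85640 895).mp Cfsg.Agent.Lib.Helper28.TCF23NW0U19.chk97 v (by omega) (by omega)
  rcases Nat.lt_or_ge v 87280 with h98 | h98
  · exact (data.checkRange_iff 86535 745).mp Cfsg.Agent.Lib.Helper28.TCF23NW0U19.chk98 v (by omega) (by omega)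
  rcases Nat.lt_or_ge v 88009 with h99 | h99
  · exact (data.checkRange_iff 87280 729).mp Cfsg.Agent.Lib.Helper28.TCF23NW0U19.chk99 v (by omega) (by omega)
  rcases Nat.lt_or_ge v 89191 with h100 | h100
  · exact (data.checkRange_iff 88009 1182).mp Cfsg.Agent.Lib.Helper28.TCF23NW0U20.chk100 v (by omega) (by omega)
  rcases Nat.lt_or_ge v 90259 with h101 | h101
  · exact (data.checkRange_iff 89191 1068).mp Cfsg.Agent.Lib.Helper28.TCF23NW0U20.chk101 v (by omega) (by omega)
  rcases Nat.lt_or_ge v 91237 with h102 | h102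
  · exact (data.checkRange_iff 90259 978).mp Cfsg.Agent.Lib.Helper28.TCF23NW0U20.chk102 v (by omega) (by omega)
  rcases Nat.lt_or_ge v 92186 with h103 | h103
  · exact (data.checkRange_iff 91237 949).mp Cfsg.Agent.Lib.Helper28.TCF23NW0U20.chk103 v (by omega) (by omega)
  rcases Nat.lt_or_ge v 93079 with h104 | h104
  · exact (data.checkRange_iff 92186 893).mp Cfsg.Agent.Lib.Helper28.TCF23NW0U20.chk104 v (by omega) (by omega)
  rcases Nat.lt_or_ge v 93997 with h105 | h105
  · exact (data.checkRange_iff 93079 918).mp Cfsg.Agent.Lib.Helper28.TCF23NW0U21.chk105 v (by omega) (by omega)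
  rcases Nat.lt_or_ge v 95342 with h106 | h106
  · exact (data.checkRange_iff 93997 1345).mp Cfsg.Agent.Lib.Helper28.TCF23NW0U21.chk106 v (by omega) (by omega)
  rcases Nat.lt_or_ge v 96528 with h107 | h107
  · exact (data.checkRange_iff 95342 1186).mp Cfsg.Agent.Lib.Helper28.TCF23NW0U21.chk107 v (by omega) (by omega)
  rcases Nat.lt_or_ge v 97699 with h108 | h108
  · exact (data.checkRange_iff 96528 1171).mp Cfsg.Agent.Lib.Helper28.TCF23NW0U21.chk108 v (by omega) (by omega)
  rcases Nat.lt_or_ge v 98956 with h109 | h109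
  · exact (data.checkRange_iff 97699 1257).mp Cfsg.Agent.Lib.Helper28.TCF23NW0U21.chk109 v (by omega) (by omega)
  rcases Nat.lt_or_ge v 100168 with h110 | h110
  · exact (data.checkRange_iff 98956 1212).mp Cfsg.Agent.Lib.Helper28.TCF23NW0U22.chk110 v (by omega) (by omega)
  rcases Nat.lt_or_ge v 101555 with h111 | h111
  · exact (data.checkRange_iff 100168 1387).mp Cfsg.Agent.Lib.Helper28.TCF23NW0U22.chk111 v (by omega) (by omega)
  rcases Nat.lt_or_ge v 102954 with h112 | h112
  · exact (data.checkRange_iff 101555 1399).mp Cfsg.Agent.Lib.Helper28.TCF23NW0U22.chk112 v (by omega) (by omega)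
  rcases Nat.lt_or_ge v 104297 with h113 | h113
  · exact (data.checkRange_iff 102954 1343).mp Cfsg.Agent.Lib.Helper28.TCF23NW0U22.chk113 v (by omega) (by omega)
  rcases Nat.lt_or_ge v 105525 with h114 | h114
  · exact (data.checkRange_iff 104297 1228).mp Cfsg.Agent.Lib.Helper28.TCF23NW0U22.chk114 v (by omega) (by omega)
  rcases Nat.lt_or_ge v 106405 with h115 | h115
  · exact (data.checkRange_iff 105525 880).mp Cfsg.Agent.Lib.Helper28.TCF23NW0U23.chk115 v (by omega) (by omega)
  rcases Nat.lt_or_ge v 107168 with h116 | h116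
  · exact (data.checkRange_iff 106405 763).mp Cfsg.Agent.Lib.Helper28.TCF23NW0U23.chk116 v (by omega) (by omega)
  rcases Nat.lt_or_ge v 108190 with h117 | h117
  · exact (data.checkRange_iff 107168 1022).mp Cfsg.Agent.Lib.Helper28.TCF23NW0U23.chk117 v (by omega) (by omega)
  rcases Nat.lt_or_ge v 109006 with h118 | h118
  · exact (data.checkRange_iff 108190 816).mp Cfsg.Agent.Lib.Helper28.TCF23NW0U23.chk118 v (by omega) (by omega)
  rcases Nat.lt_or_ge v 109846 with h119 | h119
  · exact (data.checkRange_iff 109006 840).mp Cfsg.Agent.Lib.Helper28.TCF23NW0U23.chk119 v (by omega) (by omega)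
  rcases Nat.lt_or_ge v 110767 with h120 | h120
  · exact (data.checkRange_iff 109846 921).mp Cfsg.Agent.Lib.Helper28.TCF23NW0U24.chk120 v (by omega) (by omega)
  rcases Nat.lt_or_ge v 111979 with h121 | h121
  · exact (data.checkRange_iff 110767 1212).mp Cfsg.Agent.Lib.Helper28.TCF23NW0U24.chk121 v (by omega) (by omega)
  rcases Nat.lt_or_ge v 113053 with h122 | h122
  · exact (data.checkRange_iff 111979 1074).mp Cfsg.Agent.Lib.Helper28.TCF23NW0U24.chk122 v (by omega) (by omega)
  rcases Nat.lt_or_ge v 114047 with h123 | h123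
  · exact (data.checkRange_iff 113053 994).mp Cfsg.Agent.Lib.Helper28.TCF23NW0U24.chk123 v (by omega) (by omega)
  rcases Nat.lt_or_ge v 115080 with h124 | h124
  · exact (data.checkRange_iff 114047 1033).mp Cfsg.Agent.Lib.Helper28.TCF23NW0U24.chk124 v (by omega) (by omega)
  rcases Nat.lt_or_ge v 116083 with h125 | h125
  · exact (data.checkRange_iff 115080 1003).mp Cfsg.Agent.Lib.Helper28.TCF23NW0U25.chk125 v (by omega) (by omega)
  rcases Nat.lt_or_ge v 117111 with h126 | h126
  · exact (data.checkRange_iff 116083 1028).mp Cfsg.Agent.Lib.Helper28.TCF23NW0U25.chk126 v (by omega) (by omega)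
  rcases Nat.lt_or_ge v 118445 with h127 | h127
  · exact (data.checkRange_iff 117111 1334).mp Cfsg.Agent.Lib.Helper28.TCF23NW0U25.chk127 v (by omega) (by omega)
  rcases Nat.lt_or_ge v 119642 with h128 | h128
  · exact (data.checkRange_iff 118445 1197).mp Cfsg.Agent.Lib.Helper28.TCF23NW0U25.chk128 v (by omega) (by omega)
  rcases Nat.lt_or_ge v 120809 with h129 | h129
  · exact (data.checkRange_iff 119642 1167).mp Cfsg.Agent.Lib.Helper28.TCF23NW0U25.chk129 v (by omega) (by omega)
  rcases Nat.lt_or_ge v 122021 with h130 | h130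
  · exact (data.checkRange_iff 120809 1212).mp Cfsg.Agent.Lib.Helper28.TCF23NW0U26.chk130 v (by omega) (by omega)
  rcases Nat.lt_or_ge v 123165 with h131 | h131
  · exact (data.checkRange_iff 122021 1144).mp Cfsg.Agent.Lib.Helper28.TCF23NW0U26.chk131 v (by omega) (by omega)
  rcases Nat.lt_or_ge v 124520 with h132 | h132
  · exact (data.checkRange_iff 123165 1355).mp Cfsg.Agent.Lib.Helper28.TCF23NW0U26.chk132 v (by omega) (by omega)
  rcases Nat.lt_or_ge v 125909 with h133 | h133
  · exact (data.checkRange_iff 124520 1389).mp Cfsg.Agent.Lib.Helper28.TCF23NW0U26.chk133 v (by omega) (by omega)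
  rcases Nat.lt_or_ge v 127296 with h134 | h134
  · exact (data.checkRange_iff 125909 1387).mp Cfsg.Agent.Lib.Helper28.TCF23NW0U26.chk134 v (by omega) (by omega)
  rcases Nat.lt_or_ge v 128622 with h135 | h135
  · exact (data.checkRange_iff 127296 1326).mp Cfsg.Agent.Lib.Helper28.TCF23NW0U27.chk135 v (by omega) (by omega)
  rcases Nat.lt_or_ge v 129947 with h136 | h136
  · exact (data.checkRange_iff 128622 1325).mp Cfsg.Agent.Lib.Helper28.TCF23NW0U27.chk136 v (by omega) (by omega)
  rcases Nat.lt_or_ge v 130993 with h137 | h137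
  · exact (data.checkRange_iff 129947 1046).mp Cfsg.Agent.Lib.Helper28.TCF23NW0U27.chk137 v (by omega) (by omega)
  rcases Nat.lt_or_ge v 131867 with h138 | h138
  · exact (data.checkRange_iff 130993 874).mp Cfsg.Agent.Lib.Helper28.TCF23NW0U27.chk138 v (by omega) (by omega)
  rcases Nat.lt_or_ge v 132872 with h139 | h139
  · exact (data.checkRange_iff 131867 1005).mp Cfsg.Agent.Lib.Helper28.TCF23NW0U27.chk139 v (by omega) (by omega)
  rcases Nat.lt_or_ge v 133816 with h140 | h140
  · exact (data.checkRange_iff 132872 944).mp Cfsg.Agent.Lib.Helper28.TCF23NW0U28.chk140 v (by omega) (by omega)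
  rcases Nat.lt_or_ge v 134683 with h141 | h141
  · exact (data.checkRange_iff 133816 867).mp Cfsg.Agent.Lib.Helper28.TCF23NW0U28.chk141 v (by omega) (by omega)
  rcases Nat.lt_or_ge v 135530 with h142 | h142
  · exact (data.checkRange_iff 134683 847).mp Cfsg.Agent.Lib.Helper28.TCF23NW0U28.chk142 v (by omega) (by omega)
  rcases Nat.lt_or_ge v 136685 with h143 | h143
  · exact (data.checkRange_iff 135530 1155).mp Cfsg.Agent.Lib.Helper28.TCF23NW0U28.chk143 v (by omega) (by omega)
  rcases Nat.lt_or_ge v 137940 with h144 | h144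
  · exact (data.checkRange_iff 136685 1255).mp Cfsg.Agent.Lib.Helper28.TCF23NW0U28.chk144 v (by omega) (by omega)
  rcases Nat.lt_or_ge v 139117 with h145 | h145
  · exact (data.checkRange_iff 137940 1177).mp Cfsg.Agent.Lib.Helper28.TCF23NW0U29.chk145 v (by omega) (by omega)
  rcases Nat.lt_or_ge v 140100 with h146 | h146
  · exact (data.checkRange_iff 139117 983).mp Cfsg.Agent.Lib.Helper28.TCF23NW0U29.chk146 v (by omega) (by omega)
  rcases Nat.lt_or_ge v 141132 with h147 | h147
  · exact (data.checkRange_iff 140100 1032).mp Cfsg.Agent.Lib.Helper28.TCF23NW0U29.chk147 v (by omega) (by omega)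
  rcases Nat.lt_or_ge v 142221 with h148 | h148
  · exact (data.checkRange_iff 141132 1089).mp Cfsg.Agent.Lib.Helper28.TCF23NW0U29.chk148 v (by omega) (by omega)
  rcases Nat.lt_or_ge v 143324 with h149 | h149
  · exact (data.checkRange_iff 142221 1103).mp Cfsg.Agent.Lib.Helper28.TCF23NW0U29.chk149 v (by omega) (by omega)
  rcases Nat.lt_or_ge v 144656 with h150 | h150
  · exact (data.checkRange_iff 143324 1332).mp Cfsg.Agent.Lib.Helper28.TCF23NW0U30.chk150 v (by omega) (by omega)
  rcases Nat.lt_or_ge v 145831 with h151 | h151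
  · exact (data.checkRange_iff 144656 1175).mp Cfsg.Agent.Lib.Helper28.TCF23NW0U30.chk151 v (by omega) (by omega)
  rcases Nat.lt_or_ge v 147081 with h152 | h152
  · exact (data.checkRange_iff 145831 1250).mp Cfsg.Agent.Lib.Helper28.TCF23NW0U30.chk152 v (by omega) (by omega)
  rcases Nat.lt_or_ge v 148336 with h153 | h153
  · exact (data.checkRange_iff 147081 1255).mp Cfsg.Agent.Lib.Helper28.TCF23NW0U30.chk153 v (by omega) (by omega)
  rcases Nat.lt_or_ge v 149531 with h154 | h154
  · exact (data.checkRange_iff 148336 1195).mp Cfsg.Agent.Lib.Helper28.TCF23NW0U30.chk154 v (by omega) (by omega)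
  rcases Nat.lt_or_ge v 150747 with h155 | h155
  · exact (data.checkRange_iff 149531 1216).mp Cfsg.Agent.Lib.Helper28.TCF23NW0U31.chk155 v (by omega) (by omega)
  rcases Nat.lt_or_ge v 152102 with h156 | h156
  · exact (data.checkRange_iff 150747 1355).mp Cfsg.Agent.Lib.Helper28.TCF23NW0U31.chk156 v (by omega) (by omega)
  rcases Nat.lt_or_ge v 153498 with h157 | h157
  · exact (data.checkRange_iff 152102 1396).mp Cfsg.Agent.Lib.Helper28.TCF23NW0U31.chk157 v (by omega) (by omega)
  rcases Nat.lt_or_ge v 154871 with h158 | h158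
  · exact (data.checkRange_iff 153498 1373).mp Cfsg.Agent.Lib.Helper28.TCF23NW0U31.chk158 v (by omega) (by omega)
  rcases Nat.lt_or_ge v 156213 with h159 | h159
  · exact (data.checkRange_iff 154871 1342).mp Cfsg.Agent.Lib.Helper28.TCF23NW0U31.chk159 v (by omega) (by omega)
  rcases Nat.lt_or_ge v 157592 with h160 | h160
  · exact (data.checkRange_iff 156213 1379).mp Cfsg.Agent.Lib.Helper28.TCF23NW0U32.chk160 v (by omega) (by omega)
  rcases Nat.lt_or_ge v 158689 with h161 | h161
  · exact (data.checkRange_iff 157592 1097).mp Cfsg.Agent.Lib.Helper28.TCF23NW0U32.chk161 v (by omega) (by omega)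
  rcases Nat.lt_or_ge v 159695 with h162 | h162
  · exact (data.checkRange_iff 158689 1006).mp Cfsg.Agent.Lib.Helper28.TCF23NW0U32.chk162 v (by omega) (by omega)
  rcases Nat.lt_or_ge v 160695 with h163 | h163
  · exact (data.checkRange_iff 159695 1000).mp Cfsg.Agent.Lib.Helper28.TCF23NW0U32.chk163 v (by omega) (by omega)
  rcases Nat.lt_or_ge v 161741 with h164 | h164
  · exact (data.checkRange_iff 160695 1046).mp Cfsg.Agent.Lib.Helper28.TCF23NW0U32.chk164 v (by omega) (by omega)
  rcases Nat.lt_or_ge v 162707 with h165 | h165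
  · exact (data.checkRange_iff 161741 966).mp Cfsg.Agent.Lib.Helper28.TCF23NW0U33.chk165 v (by omega) (by omega)
  rcases Nat.lt_or_ge v 163641 with h166 | h166
  · exact (data.checkRange_iff 162707 934).mp Cfsg.Agent.Lib.Helper28.TCF23NW0U33.chk166 v (by omega) (by omega)
  rcases Nat.lt_or_ge v 164590 with h167 | h167
  · exact (data.checkRange_iff 163641 949).mp Cfsg.Agent.Lib.Helper28.TCF23NW0U33.chk167 v (by omega) (by omega)
  rcases Nat.lt_or_ge v 165796 with h168 | h168
  · exact (data.checkRange_iff 164590 1206).mp Cfsg.Agent.Lib.Helper28.TCF23NW0U33.chk168 v (by omega) (by omega)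
  rcases Nat.lt_or_ge v 166916 with h169 | h169
  · exact (data.checkRange_iff 165796 1120).mp Cfsg.Agent.Lib.Helper28.TCF23NW0U33.chk169 v (by omega) (by omega)
  rcases Nat.lt_or_ge v 168085 with h170 | h170
  · exact (data.checkRange_iff 166916 1169).mp Cfsg.Agent.Lib.Helper28.TCF23NW0U34.chk170 v (by omega) (by omega)
  rcases Nat.lt_or_ge v 169174 with h171 | h171
  · exact (data.checkRange_iff 168085 1089).mp Cfsg.Agent.Lib.Helper28.TCF23NW0U34.chk171 v (by omega) (by omega)
  rcases Nat.lt_or_ge v 170128 with h172 | h172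
  · exact (data.checkRange_iff 169174 954).mp Cfsg.Agent.Lib.Helper28.TCF23NW0U34.chk172 v (by omega) (by omega)
  rcases Nat.lt_or_ge v 171239 with h173 | h173
  · exact (data.checkRange_iff 170128 1111).mp Cfsg.Agent.Lib.Helper28.TCF23NW0U34.chk173 v (by omega) (by omega)
  rcases Nat.lt_or_ge v 172408 with h174 | h174
  · exact (data.checkRange_iff 171239 1169).mp Cfsg.Agent.Lib.Helper28.TCF23NW0U34.chk174 v (by omega) (by omega)
  rcases Nat.lt_or_ge v 173695 with h175 | h175
  · exact (data.checkRange_iff 172408 1287).mp Cfsg.Agent.Lib.Helper28.TCF23NW0U35.chk175 v (by omega) (by omega)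
  rcases Nat.lt_or_ge v 174874 with h176 | h176
  · exact (data.checkRange_iff 173695 1179).mp Cfsg.Agent.Lib.Helper28.TCF23NW0U35.chk176 v (by omega) (by omega)
  rcases Nat.lt_or_ge v 176052 with h177 | h177
  · exact (data.checkRange_iff 174874 1178).mp Cfsg.Agent.Lib.Helper28.TCF23NW0U35.chk177 v (by omega) (by omega)
  rcases Nat.lt_or_ge v 177225 with h178 | h178
  · exact (data.checkRange_iff 176052 1173).mp Cfsg.Agent.Lib.Helper28.TCF23NW0U35.chk178 v (by omega) (by omega)
  rcases Nat.lt_or_ge v 178445 with h179 | h179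
  · exact (data.checkRange_iff 177225 1220).mp Cfsg.Agent.Lib.Helper28.TCF23NW0U35.chk179 v (by omega) (by omega)
  rcases Nat.lt_or_ge v 179547 with h180 | h180
  · exact (data.checkRange_iff 178445 1102).mp Cfsg.Agent.Lib.Helper28.TCF23NW0U36.chk180 v (by omega) (by omega)
  rcases Nat.lt_or_ge v 180915 with h181 | h181
  · exact (data.checkRange_iff 179547 1368).mp Cfsg.Agent.Lib.Helper28.TCF23NW0U36.chk181 v (by omega) (by omega)
  rcases Nat.lt_or_ge v 182297 with h182 | h182
  · exact (data.checkRange_iff 180915 1382).mp Cfsg.Agent.Lib.Helper28.TCF23NW0U36.chk182 v (by omega) (by omega)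
  rcases Nat.lt_or_ge v 183619 with h183 | h183
  · exact (data.checkRange_iff 182297 1322).mp Cfsg.Agent.Lib.Helper28.TCF23NW0U36.chk183 v (by omega) (by omega)
  rcases Nat.lt_or_ge v 185021 with h184 | h184
  · exact (data.checkRange_iff 183619 1402).mp Cfsg.Agent.Lib.Helper28.TCF23NW0U36.chk184 v (by omega) (by omega)
  rcases Nat.lt_or_ge v 186349 with h185 | h185
  · exact (data.checkRange_iff 185021 1328).mp Cfsg.Agent.Lib.Helper28.TCF23NW0U37.chk185 v (by omega) (by omega)
  rcases Nat.lt_or_ge v 187687 with h186 | h186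
  · exact (data.checkRange_iff 186349 1338).mp Cfsg.Agent.Lib.Helper28.TCF23NW0U37.chk186 v (by omega) (by omega)
  rcases Nat.lt_or_ge v 188842 with h187 | h187
  · exact (data.checkRange_iff 187687 1155).mp Cfsg.Agent.Lib.Helper28.TCF23NW0U37.chk187 v (by omega) (by omega)
  rcases Nat.lt_or_ge v 189923 with h188 | h188
  · exact (data.checkRange_iff 188842 1081).mp Cfsg.Agent.Lib.Helper28.TCF23NW0U37.chk188 v (by omega) (by omega)
  rcases Nat.lt_or_ge v 190918 with h189 | h189
  · exact (data.checkRange_iff 189923 995).mp Cfsg.Agent.Lib.Helper28.TCF23NW0U37.chk189 v (by omega) (by omega)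
  rcases Nat.lt_or_ge v 192067 with h190 | h190
  · exact (data.checkRange_iff 190918 1149).mp Cfsg.Agent.Lib.Helper28.TCF23NW0U38.chk190 v (by omega) (by omega)
  rcases Nat.lt_or_ge v 193021 with h191 | h191
  · exact (data.checkRange_iff 192067 954).mp Cfsg.Agent.Lib.Helper28.TCF23NW0U38.chk191 v (by omega) (by omega)
  rcases Nat.lt_or_ge v 194006 with h192 | h192
  · exact (data.checkRange_iff 193021 985).mp Cfsg.Agent.Lib.Helper28.TCF23NW0U38.chk192 v (by omega) (by omega)
  rcases Nat.lt_or_ge v 194800 with h193 | h193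
  · exact (data.checkRange_iff 194006 794).mp Cfsg.Agent.Lib.Helper28.TCF23NW0U38.chk193 v (by omega) (by omega)
  rcases Nat.lt_or_ge v 196036 with h194 | h194
  · exact (data.checkRange_iff 194800 1236).mp Cfsg.Agent.Lib.Helper28.TCF23NW0U38.chk194 v (by omega) (by omega)
  rcases Nat.lt_or_ge v 197303 with h195 | h195
  · exact (data.checkRange_iff 196036 1267).mp Cfsg.Agent.Lib.Helper28.TCF23NW0U39.chk195 v (by omega) (by omega)
  rcases Nat.lt_or_ge v 198435 with h196 | h196
  · exact (data.checkRange_iff 197303 1132).mp Cfsg.Agent.Lib.Helper28.TCF23NW0U39.chk196 v (by omega) (by omega)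
  rcases Nat.lt_or_ge v 199486 with h197 | h197
  · exact (data.checkRange_iff 198435 1051).mp Cfsg.Agent.Lib.Helper28.TCF23NW0U39.chk197 v (by omega) (by omega)
  rcases Nat.lt_or_ge v 200625 with h198 | h198
  · exact (data.checkRange_iff 199486 1139).mp Cfsg.Agent.Lib.Helper28.TCF23NW0U39.chk198 v (by omega) (by omega)
  rcases Nat.lt_or_ge v 201685 with h199 | h199
  · exact (data.checkRange_iff 200625 1060).mp Cfsg.Agent.Lib.Helper28.TCF23NW0U39.chk199 v (by omega) (by omega)
  rcases Nat.lt_or_ge v 202674 with h200 | h200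
  · exact (data.checkRange_iff 201685 989).mp Cfsg.Agent.Lib.Helper28.TCF23NW0U40.chk200 v (by omega) (by omega)
  rcases Nat.lt_or_ge v 204022 with h201 | h201
  · exact (data.checkRange_iff 202674 1348).mp Cfsg.Agent.Lib.Helper28.TCF23NW0U40.chk201 v (by omega) (by omega)
  rcases Nat.lt_or_ge v 205259 with h202 | h202
  · exact (data.checkRange_iff 204022 1237).mp Cfsg.Agent.Lib.Helper28.TCF23NW0U40.chk202 v (by omega) (by omega)
  rcases Nat.lt_or_ge v 206467 with h203 | h203
  · exact (data.checkRange_iff 205259 1208).mp Cfsg.Agent.Lib.Helper28.TCF23NW0U40.chk203 v (by omega) (by omega)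
  rcases Nat.lt_or_ge v 207701 with h204 | h204
  · exact (data.checkRange_iff 206467 1234).mp Cfsg.Agent.Lib.Helper28.TCF23NW0U40.chk204 v (by omega) (by omega)
  rcases Nat.lt_or_ge v 208946 with h205 | h205
  · exact (data.checkRange_iff 207701 1245).mp Cfsg.Agent.Lib.Helper28.TCF23NW0U41.chk205 v (by omega) (by omega)
  rcases Nat.lt_or_ge v 210163 with h206 | h206
  · exact (data.checkRange_iff 208946 1217).mp Cfsg.Agent.Lib.Helper28.TCF23NW0U41.chk206 v (by omega) (by omega)
  rcases Nat.lt_or_ge v 211306 with h207 | h207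
  · exact (data.checkRange_iff 210163 1143).mp Cfsg.Agent.Lib.Helper28.TCF23NW0U41.chk207 v (by omega) (by omega)
  rcases Nat.lt_or_ge v 212561 with h208 | h208
  · exact (data.checkRange_iff 211306 1255).mp Cfsg.Agent.Lib.Helper28.TCF23NW0U41.chk208 v (by omega) (by omega)
  rcases Nat.lt_or_ge v 213902 with h209 | h209
  · exact (data.checkRange_iff 212561 1341).mp Cfsg.Agent.Lib.Helper28.TCF23NW0U41.chk209 v (by omega) (by omega)
  rcases Nat.lt_or_ge v 215243 with h210 | h210
  · exact (data.checkRange_iff 213902 1341).mp Cfsg.Agent.Lib.Helper28.TCF23NW0U42.chk210 v (by omega) (by omega)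
  rcases Nat.lt_or_ge v 216634 with h211 | h211
  · exact (data.checkRange_iff 215243 1391).mp Cfsg.Agent.Lib.Helper28.TCF23NW0U42.chk211 v (by omega) (by omega)
  rcases Nat.lt_or_ge v 217957 with h212 | h212
  · exact (data.checkRange_iff 216634 1323).mp Cfsg.Agent.Lib.Helper28.TCF23NW0U42.chk212 v (by omega) (by omega)
  rcases Nat.lt_or_ge v 219281 with h213 | h213
  · exact (data.checkRange_iff 217957 1324).mp Cfsg.Agent.Lib.Helper28.TCF23NW0U42.chk213 v (by omega) (by omega)
  rcases Nat.lt_or_ge v 220601 with h214 | h214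
  · exact (data.checkRange_iff 219281 1320).mp Cfsg.Agent.Lib.Helper28.TCF23NW0U42.chk214 v (by omega) (by omega)
  rcases Nat.lt_or_ge v 221754 with h215 | h215
  · exact (data.checkRange_iff 220601 1153).mp Cfsg.Agent.Lib.Helper28.TCF23NW0U43.chk215 v (by omega) (by omega)
  rcases Nat.lt_or_ge v 222624 with h216 | h216
  · exact (data.checkRange_iff 221754 870).mp Cfsg.Agent.Lib.Helper28.TCF23NW0U43.chk216 v (by omega) (by omega)
  rcases Nat.lt_or_ge v 223810 with h217 | h217
  · exact (data.checkRange_iff 222624 1186).mp Cfsg.Agent.Lib.Helper28.TCF23NW0U43.chk217 v (by omega) (by omega)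
  rcases Nat.lt_or_ge v 224858 with h218 | h218
  · exact (data.checkRange_iff 223810 1048).mp Cfsg.Agent.Lib.Helper28.TCF23NW0U43.chk218 v (by omega) (by omega)
  rcases Nat.lt_or_ge v 225884 with h219 | h219
  · exact (data.checkRange_iff 224858 1026).mp Cfsg.Agent.Lib.Helper28.TCF23NW0U43.chk219 v (by omega) (by omega)
  rcases Nat.lt_or_ge v 226861 with h220 | h220
  · exact (data.checkRange_iff 225884 977).mp Cfsg.Agent.Lib.Helper28.TCF23NW0U44.chk220 v (by omega) (by omega)
  rcases Nat.lt_or_ge v 227698 with h221 | h221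
  · exact (data.checkRange_iff 226861 837).mp Cfsg.Agent.Lib.Helper28.TCF23NW0U44.chk221 v (by omega) (by omega)
  rcases Nat.lt_or_ge v 228868 with h222 | h222
  · exact (data.checkRange_iff 227698 1170).mp Cfsg.Agent.Lib.Helper28.TCF23NW0U44.chk222 v (by omega) (by omega)
  rcases Nat.lt_or_ge v 230055 with h223 | h223
  · exact (data.checkRange_iff 228868 1187).mp Cfsg.Agent.Lib.Helper28.TCF23NW0U44.chk223 v (by omega) (by omega)
  rcases Nat.lt_or_ge v 231188 with h224 | h224
  · exact (data.checkRange_iff 230055 1133).mp Cfsg.Agent.Lib.Helper28.TCF23NW0U44.chk224 v (by omega) (by omega)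
  rcases Nat.lt_or_ge v 232210 with h225 | h225
  · exact (data.checkRange_iff 231188 1022).mp Cfsg.Agent.Lib.Helper28.TCF23NW0U45.chk225 v (by omega) (by omega)
  rcases Nat.lt_or_ge v 233369 with h226 | h226
  · exact (data.checkRange_iff 232210 1159).mp Cfsg.Agent.Lib.Helper28.TCF23NW0U45.chk226 v (by omega) (by omega)
  rcases Nat.lt_or_ge v 234459 with h227 | h227
  · exact (data.checkRange_iff 233369 1090).mp Cfsg.Agent.Lib.Helper28.TCF23NW0U45.chk227 v (by omega) (by omega)
  rcases Nat.lt_or_ge v 235601 with h228 | h228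
  · exact (data.checkRange_iff 234459 1142).mp Cfsg.Agent.Lib.Helper28.TCF23NW0U45.chk228 v (by omega) (by omega)
  rcases Nat.lt_or_ge v 236904 with h229 | h229
  · exact (data.checkRange_iff 235601 1303).mp Cfsg.Agent.Lib.Helper28.TCF23NW0U45.chk229 v (by omega) (by omega)
  rcases Nat.lt_or_ge v 238052 with h230 | h230
  · exact (data.checkRange_iff 236904 1148).mp Cfsg.Agent.Lib.Helper28.TCF23NW0U46.chk230 v (by omega) (by omega)
  rcases Nat.lt_or_ge v 239251 with h231 | h231
  · exact (data.checkRange_iff 238052 1199).mp Cfsg.Agent.Lib.Helper28.TCF23NW0U46.chk231 v (by omega) (by omega)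
  rcases Nat.lt_or_ge v 240368 with h232 | h232
  · exact (data.checkRange_iff 239251 1117).mp Cfsg.Agent.Lib.Helper28.TCF23NW0U46.chk232 v (by omega) (by omega)
  rcases Nat.lt_or_ge v 241563 with h233 | h233
  · exact (data.checkRange_iff 240368 1195).mp Cfsg.Agent.Lib.Helper28.TCF23NW0U46.chk233 v (by omega) (by omega)
  rcases Nat.lt_or_ge v 242791 with h234 | h234
  · exact (data.checkRange_iff 241563 1228).mp Cfsg.Agent.Lib.Helper28.TCF23NW0U46.chk234 v (by omega) (by omega)
  rcases Nat.lt_or_ge v 243964 with h235 | h235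
  · exact (data.checkRange_iff 242791 1173).mp Cfsg.Agent.Lib.Helper28.TCF23NW0U47.chk235 v (by omega) (by omega)
  rcases Nat.lt_or_ge v 245139 with h236 | h236
  · exact (data.checkRange_iff 243964 1175).mp Cfsg.Agent.Lib.Helper28.TCF23NW0U47.chk236 v (by omega) (by omega)
  rcases Nat.lt_or_ge v 246466 with h237 | h237
  · exact (data.checkRange_iff 245139 1327).mp Cfsg.Agent.Lib.Helper28.TCF23NW0U47.chk237 v (by omega) (by omega)
  rcases Nat.lt_or_ge v 247815 with h238 | h238
  · exact (data.checkRange_iff 246466 1349).mp Cfsg.Agent.Lib.Helper28.TCF23NW0U47.chk238 v (by omega) (by omega)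
  rcases Nat.lt_or_ge v 249194 with h239 | h239
  · exact (data.checkRange_iff 247815 1379).mp Cfsg.Agent.Lib.Helper28.TCF23NW0U47.chk239 v (by omega) (by omega)
  rcases Nat.lt_or_ge v 250502 with h240 | h240
  · exact (data.checkRange_iff 249194 1308).mp Cfsg.Agent.Lib.Helper28.TCF23NW0U48.chk240 v (by omega) (by omega)
  rcases Nat.lt_or_ge v 251787 with h241 | h241
  · exact (data.checkRange_iff 250502 1285).mp Cfsg.Agent.Lib.Helper28.TCF23NW0U48.chk241 v (by omega) (by omega)
  rcases Nat.lt_or_ge v 253112 with h242 | h242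
  · exact (data.checkRange_iff 251787 1325).mp Cfsg.Agent.Lib.Helper28.TCF23NW0U48.chk242 v (by omega) (by omega)
  rcases Nat.lt_or_ge v 254306 with h243 | h243
  · exact (data.checkRange_iff 253112 1194).mp Cfsg.Agent.Lib.Helper28.TCF23NW0U48.chk243 v (by omega) (by omega)
  rcases Nat.lt_or_ge v 255237 with h244 | h244
  · exact (data.checkRange_iff 254306 931).mp Cfsg.Agent.Lib.Helper28.TCF23NW0U48.chk244 v (by omega) (by omega)
  rcases Nat.lt_or_ge v 256387 with h245 | h245
  · exact (data.checkRange_iff 255237 1150).mp Cfsg.Agent.Lib.Helper28.TCF23NW0U49.chk245 v (by omega) (by omega)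
  rcases Nat.lt_or_ge v 257444 with h246 | h246
  · exact (data.checkRange_iff 256387 1057).mp Cfsg.Agent.Lib.Helper28.TCF23NW0U49.chk246 v (by omega) (by omega)
  rcases Nat.lt_or_ge v 258467 with h247 | h247
  · exact (data.checkRange_iff 257444 1023).mp Cfsg.Agent.Lib.Helper28.TCF23NW0U49.chk247 v (by omega) (by omega)
  rcases Nat.lt_or_ge v 259470 with h248 | h248
  · exact (data.checkRange_iff 258467 1003).mp Cfsg.Agent.Lib.Helper28.TCF23NW0U49.chk248 v (by omega) (by omega)
  rcases Nat.lt_or_ge v 260358 with h249 | h249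
  · exact (data.checkRange_iff 259470 888).mp Cfsg.Agent.Lib.Helper28.TCF23NW0U49.chk249 v (by omega) (by omega)
  rcases Nat.lt_or_ge v 261515 with h250 | h250
  · exact (data.checkRange_iff 260358 1157).mp Cfsg.Agent.Lib.Helper28.TCF23NW0U50.chk250 v (by omega) (by omega)
  rcases Nat.lt_or_ge v 262762 with h251 | h251
  · exact (data.checkRange_iff 261515 1247).mp Cfsg.Agent.Lib.Helper28.TCF23NW0U50.chk251 v (by omega) (by omega)
  rcases Nat.lt_or_ge v 263966 with h252 | h252
  · exact (data.checkRange_iff 262762 1204).mp Cfsg.Agent.Lib.Helper28.TCF23NW0U50.chk252 v (by omega) (by omega)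
  rcases Nat.lt_or_ge v 265078 with h253 | h253
  · exact (data.checkRange_iff 263966 1112).mp Cfsg.Agent.Lib.Helper28.TCF23NW0U50.chk253 v (by omega) (by omega)
  rcases Nat.lt_or_ge v 266318 with h254 | h254
  · exact (data.checkRange_iff 265078 1240).mp Cfsg.Agent.Lib.Helper28.TCF23NW0U50.chk254 v (by omega) (by omega)
  rcases Nat.lt_or_ge v 267534 with h255 | h255
  · exact (data.checkRange_iff 266318 1216).mp Cfsg.Agent.Lib.Helper28.TCF23NW0U51.chk255 v (by omega) (by omega)
  rcases Nat.lt_or_ge v 268865 with h256 | h256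
  · exact (data.checkRange_iff 267534 1331).mp Cfsg.Agent.Lib.Helper28.TCF23NW0U51.chk256 v (by omega) (by omega)
  rcases Nat.lt_or_ge v 270145 with h257 | h257
  · exact (data.checkRange_iff 268865 1280).mp Cfsg.Agent.Lib.Helper28.TCF23NW0U51.chk257 v (by omega) (by omega)
  rcases Nat.lt_or_ge v 271466 with h258 | h258
  · exact (data.checkRange_iff 270145 1321).mp Cfsg.Agent.Lib.Helper28.TCF23NW0U51.chk258 v (by omega) (by omega)
  rcases Nat.lt_or_ge v 272733 with h259 | h259
  · exact (data.checkRange_iff 271466 1267).mp Cfsg.Agent.Lib.Helper28.TCF23NW0U51.chk259 v (by omega) (by omega)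
  rcases Nat.lt_or_ge v 274041 with h260 | h260
  · exact (data.checkRange_iff 272733 1308).mp Cfsg.Agent.Lib.Helper28.TCF23NW0U52.chk260 v (by omega) (by omega)
  rcases Nat.lt_or_ge v 275392 with h261 | h261
  · exact (data.checkRange_iff 274041 1351).mp Cfsg.Agent.Lib.Helper28.TCF23NW0U52.chk261 v (by omega) (by omega)
  rcases Nat.lt_or_ge v 276617 with h262 | h262
  · exact (data.checkRange_iff 275392 1225).mp Cfsg.Agent.Lib.Helper28.TCF23NW0U52.chk262 v (by omega) (by omega)
  rcases Nat.lt_or_ge v 278003 with h263 | h263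
  · exact (data.checkRange_iff 276617 1386).mp Cfsg.Agent.Lib.Helper28.TCF23NW0U52.chk263 v (by omega) (by omega)
  rcases Nat.lt_or_ge v 279395 with h264 | h264
  · exact (data.checkRange_iff 278003 1392).mp Cfsg.Agent.Lib.Helper28.TCF23NW0U52.chk264 v (by omega) (by omega)
  rcases Nat.lt_or_ge v 280808 with h265 | h265
  · exact (data.checkRange_iff 279395 1413).mp Cfsg.Agent.Lib.Helper28.TCF23NW0U53.chk265 v (by omega) (by omega)
  rcases Nat.lt_or_ge v 282181 with h266 | h266
  · exact (data.checkRange_iff 280808 1373).mp Cfsg.Agent.Lib.Helper28.TCF23NW0U53.chk266 v (by omega) (by omega)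
  rcases Nat.lt_or_ge v 283638 with h267 | h267
  · exact (data.checkRange_iff 282181 1457).mp Cfsg.Agent.Lib.Helper28.TCF23NW0U53.chk267 v (by omega) (by omega)
  rcases Nat.lt_or_ge v 284970 with h268 | h268
  · exact (data.checkRange_iff 283638 1332).mp Cfsg.Agent.Lib.Helper28.TCF23NW0U53.chk268 v (by omega) (by omega)
  rcases Nat.lt_or_ge v 286090 with h269 | h269
  · exact (data.checkRange_iff 284970 1120).mp Cfsg.Agent.Lib.Helper28.TCF23NW0U53.chk269 v (by omega) (by omega)
  rcases Nat.lt_or_ge v 287225 with h270 | h270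
  · exact (data.checkRange_iff 286090 1135).mp Cfsg.Agent.Lib.Helper28.TCF23NW0U54.chk270 v (by omega) (by omega)
  rcases Nat.lt_or_ge v 288426 with h271 | h271
  · exact (data.checkRange_iff 287225 1201).mp Cfsg.Agent.Lib.Helper28.TCF23NW0U54.chk271 v (by omega) (by omega)
  rcases Nat.lt_or_ge v 289543 with h272 | h272
  · exact (data.checkRange_iff 288426 1117).mp Cfsg.Agent.Lib.Helper28.TCF23NW0U54.chk272 v (by omega) (by omega)
  rcases Nat.lt_or_ge v 290622 with h273 | h273
  · exact (data.checkRange_iff 289543 1079).mp Cfsg.Agent.Lib.Helper28.TCF23NW0U54.chk273 v (by omega) (by omega)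
  rcases Nat.lt_or_ge v 291538 with h274 | h274
  · exact (data.checkRange_iff 290622 916).mp Cfsg.Agent.Lib.Helper28.TCF23NW0U54.chk274 v (by omega) (by omega)
  rcases Nat.lt_or_ge v 292867 with h275 | h275
  · exact (data.checkRange_iff 291538 1329).mp Cfsg.Agent.Lib.Helper28.TCF23NW0U55.chk275 v (by omega) (by omega)
  rcases Nat.lt_or_ge v 294361 with h276 | h276
  · exact (data.checkRange_iff 292867 1494).mp Cfsg.Agent.Lib.Helper28.TCF23NW0U55.chk276 v (by omega) (by omega)
  rcases Nat.lt_or_ge v 295842 with h277 | h277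
  · exact (data.checkRange_iff 294361 1481).mp Cfsg.Agent.Lib.Helper28.TCF23NW0U55.chk277 v (by omega) (by omega)
  rcases Nat.lt_or_ge v 297352 with h278 | h278
  · exact (data.checkRange_iff 295842 1510).mp Cfsg.Agent.Lib.Helper28.TCF23NW0U55.chk278 v (by omega) (by omega)
  rcases Nat.lt_or_ge v 298882 with h279 | h279
  · exact (data.checkRange_iff 297352 1530).mp Cfsg.Agent.Lib.Helper28.TCF23NW0U55.chk279 v (by omega) (by omega)
  rcases Nat.lt_or_ge v 300405 with h280 | h280
  · exact (data.checkRange_iff 298882 1523).mp Cfsg.Agent.Lib.Helper28.TCF23NW0U56.chk280 v (by omega) (by omega)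
  rcases Nat.lt_or_ge v 301987 with h281 | h281
  · exact (data.checkRange_iff 300405 1582).mp Cfsg.Agent.Lib.Helper28.TCF23NW0U56.chk281 v (by omega) (by omega)
  rcases Nat.lt_or_ge v 303622 with h282 | h282
  · exact (data.checkRange_iff 301987 1635).mp Cfsg.Agent.Lib.Helper28.TCF23NW0U56.chk282 v (by omega) (by omega)
  rcases Nat.lt_or_ge v 305276 with h283 | h283
  · exact (data.checkRange_iff 303622 1654).mp Cfsg.Agent.Lib.Helper28.TCF23NW0U56.chk283 v (by omega) (by omega)
  rcases Nat.lt_or_ge v 306883 with h284 | h284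
  · exact (data.checkRange_iff 305276 1607).mp Cfsg.Agent.Lib.Helper28.TCF23NW0U56.chk284 v (by omega) (by omega)
  rcases Nat.lt_or_ge v 308130 with h285 | h285
  · exact (data.checkRange_iff 306883 1247).mp Cfsg.Agent.Lib.Helper28.TCF23NW0U57.chk285 v (by omega) (by omega)
  rcases Nat.lt_or_ge v 309554 with h286 | h286
  · exact (data.checkRange_iff 308130 1424).mp Cfsg.Agent.Lib.Helper28.TCF23NW0U57.chk286 v (by omega) (by omega)
  rcases Nat.lt_or_ge v 310873 with h287 | h287
  · exact (data.checkRange_iff 309554 1319).mp Cfsg.Agent.Lib.Helper28.TCF23NW0U57.chk287 v (by omega) (by omega)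
  rcases Nat.lt_or_ge v 312059 with h288 | h288
  · exact (data.checkRange_iff 310873 1186).mp Cfsg.Agent.Lib.Helper28.TCF23NW0U57.chk288 v (by omega) (by omega)
  rcases Nat.lt_or_ge v 312748 with h289 | h289
  · exact (data.checkRange_iff 312059 689).mp Cfsg.Agent.Lib.Helper28.TCF23NW0U57.chk289 v (by omega) (by omega)
  rcases Nat.lt_or_ge v 313294 with h290 | h290
  · exact (data.checkRange_iff 312748 546).mp Cfsg.Agent.Lib.Helper28.TCF23NW0U58.chk290 v (by omega) (by omega)
  exact (data.checkRange_iff 313294 268).mp Cfsg.Agent.Lib.Helper28.TCF23NW0U58.chk291 v (by omega) (by omega)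

theorem hrows : ∀ v, v < data.N → Data.rowOK data v = true := by
  intro v hv
  have hv' : v < 313562 := hv
  rcases Nat.lt_or_ge v 8333 with h0 | h0
  · exact (Data.finalRange_iff data 0 8333).mp Cfsg.Agent.Lib.Helper28.TCF23NW0M0.fin0 v (by omega) (by omega)
  rcases Nat.lt_or_ge v 16666 with h1 | h1
  · exact (Data.finalRange_iff data 8333 8333).mp Cfsg.Agent.Lib.Helper28.TCF23NW0M0.fin1 v (by omega) (by omega)
  rcases Nat.lt_or_ge v 24999 with h2 | h2
  · exact (Data.finalRange_iff data 16666 8333).mp Cfsg.Agent.Lib.Helper28.TCF23NW0M0.fin2 v (by omega) (by omega)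
  rcases Nat.lt_or_ge v 33332 with h3 | h3
  · exact (Data.finalRange_iff data 24999 8333).mp Cfsg.Agent.Lib.Helper28.TCF23NW0M0.fin3 v (by omega) (by omega)
  rcases Nat.lt_or_ge v 41665 with h4 | h4
  · exact (Data.finalRange_iff data 33332 8333).mp Cfsg.Agent.Lib.Helper28.TCF23NW0M0.fin4 v (by omega) (by omega)
  rcases Nat.lt_or_ge v 49998 with h5 | h5
  · exact (Data.finalRange_iff data 41665 8333).mp Cfsg.Agent.Lib.Helper28.TCF23NW0M1.fin5 v (by omega) (by omega)
  rcases Nat.lt_or_ge v 58331 with h6 | h6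
  · exact (Data.finalRange_iff data 49998 8333).mp Cfsg.Agent.Lib.Helper28.TCF23NW0M1.fin6 v (by omega) (by omega)
  rcases Nat.lt_or_ge v 66664 with h7 | h7
  · exact (Data.finalRange_iff data 58331 8333).mp Cfsg.Agent.Lib.Helper28.TCF23NW0M1.fin7 v (by omega) (by omega)
  rcases Nat.lt_or_ge v 74997 with h8 | h8
  · exact (Data.finalRange_iff data 66664 8333).mp Cfsg.Agent.Lib.Helper28.TCF23NW0M1.fin8 v (by omega) (by omega)
  rcases Nat.lt_or_ge v 83330 with h9 | h9
  · exact (Data.finalRange_iff data 74997 8333).mp Cfsg.Agent.Lib.Helper28.TCF23NW0M1.fin9 v (by omega) (by omega)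
  rcases Nat.lt_or_ge v 91663 with h10 | h10
  · exact (Data.finalRange_iff data 83330 8333).mp Cfsg.Agent.Lib.Helper28.TCF23NW0M2.fin10 v (by omega) (by omega)
  rcases Nat.lt_or_ge v 99996 with h11 | h11
  · exact (Data.finalRange_iff data 91663 8333).mp Cfsg.Agent.Lib.Helper28.TCF23NW0M2.fin11 v (by omega) (by omega)
  rcases Nat.lt_or_ge v 108329 with h12 | h12
  · exact (Data.finalRange_iff data 99996 8333).mp Cfsg.Agent.Lib.Helper28.TCF23NW0M2.fin12 v (by omega) (by omega)
  rcases Nat.lt_or_ge v 116662 with h13 | h13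
  · exact (Data.finalRange_iff data 108329 8333).mp Cfsg.Agent.Lib.Helper28.TCF23NW0M2.fin13 v (by omega) (by omega)
  rcases Nat.lt_or_ge v 124995 with h14 | h14
  · exact (Data.finalRange_iff data 116662 8333).mp Cfsg.Agent.Lib.Helper28.TCF23NW0M2.fin14 v (by omega) (by omega)
  rcases Nat.lt_or_ge v 133328 with h15 | h15
  · exact (Data.finalRange_iff data 124995 8333).mp Cfsg.Agent.Lib.Helper28.TCF23NW0M3.fin15 v (by omega) (by omega)
  rcases Nat.lt_or_ge v 141661 with h16 | h16
  · exact (Data.finalRange_iff data 133328 8333).mp Cfsg.Agent.Lib.Helper28.TCF23NW0M3.fin16 v (by omega) (by omega)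
  rcases Nat.lt_or_ge v 149994 with h17 | h17
  · exact (Data.finalRange_iff data 141661 8333).mp Cfsg.Agent.Lib.Helper28.TCF23NW0M3.fin17 v (by omega) (by omega)
  rcases Nat.lt_or_ge v 158327 with h18 | h18
  · exact (Data.finalRange_iff data 149994 8333).mp Cfsg.Agent.Lib.Helper28.TCF23NW0M3.fin18 v (by omega) (by omega)
  rcases Nat.lt_or_ge v 166660 with h19 | h19
  · exact (Data.finalRange_iff data 158327 8333).mp Cfsg.Agent.Lib.Helper28.TCF23NW0M3.fin19 v (by omega) (by omega)
  rcases Nat.lt_or_ge v 174993 with h20 | h20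
  · exact (Data.finalRange_iff data 166660 8333).mp Cfsg.Agent.Lib.Helper28.TCF23NW0M4.fin20 v (by omega) (by omega)
  rcases Nat.lt_or_ge v 183326 with h21 | h21
  · exact (Data.finalRange_iff data 174993 8333).mp Cfsg.Agent.Lib.Helper28.TCF23NW0M4.fin21 v (by omega) (by omega)
  rcases Nat.lt_or_ge v 191659 with h22 | h22
  · exact (Data.finalRange_iff data 183326 8333).mp Cfsg.Agent.Lib.Helper28.TCF23NW0M4.fin22 v (by omega) (by omega)
  rcases Nat.lt_or_ge v 199992 with h23 | h23
  · exact (Data.finalRange_iff data 191659 8333).mp Cfsg.Agent.Lib.Helper28.TCF23NW0M4.fin23 v (by omega) (by omega)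
  rcases Nat.lt_or_ge v 208325 with h24 | h24
  · exact (Data.finalRange_iff data 199992 8333).mp Cfsg.Agent.Lib.Helper28.TCF23NW0M4.fin24 v (by omega) (by omega)
  rcases Nat.lt_or_ge v 216658 with h25 | h25
  · exact (Data.finalRange_iff data 208325 8333).mp Cfsg.Agent.Lib.Helper28.TCF23NW0M5.fin25 v (by omega) (by omega)
  rcases Nat.lt_or_ge v 224991 with h26 | h26
  · exact (Data.finalRange_iff data 216658 8333).mp Cfsg.Agent.Lib.Helper28.TCF23NW0M5.fin26 v (by omega) (by omega)
  rcases Nat.lt_or_ge v 233324 with h27 | h27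
  · exact (Data.finalRange_iff data 224991 8333).mp Cfsg.Agent.Lib.Helper28.TCF23NW0M5.fin27 v (by omega) (by omega)
  rcases Nat.lt_or_ge v 241657 with h28 | h28
  · exact (Data.finalRange_iff data 233324 8333).mp Cfsg.Agent.Lib.Helper28.TCF23NW0M5.fin28 v (by omega) (by omega)
  rcases Nat.lt_or_ge v 249990 with h29 | h29
  · exact (Data.finalRange_iff data 241657 8333).mp Cfsg.Agent.Lib.Helper28.TCF23NW0M5.fin29 v (by omega) (by omega)
  rcases Nat.lt_or_ge v 258323 with h30 | h30
  · exact (Data.finalRange_iff data 249990 8333).mp Cfsg.Agent.Lib.Helper28.TCF23NW0M6.fin30 v (by omega) (by omega)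
  rcases Nat.lt_or_ge v 266656 with h31 | h31
  · exact (Data.finalRange_iff data 258323 8333).mp Cfsg.Agent.Lib.Helper28.TCF23NW0M6.fin31 v (by omega) (by omega)
  rcases Nat.lt_or_ge v 274989 with h32 | h32
  · exact (Data.finalRange_iff data 266656 8333).mp Cfsg.Agent.Lib.Helper28.TCF23NW0M6.fin32 v (by omega) (by omega)
  rcases Nat.lt_or_ge v 283322 with h33 | h33
  · exact (Data.finalRange_iff data 274989 8333).mp Cfsg.Agent.Lib.Helper28.TCF23NW0M6.fin33 v (by omega) (by omega)
  rcases Nat.lt_or_ge v 291655 with h34 | h34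
  · exact (Data.finalRange_iff data 283322 8333).mp Cfsg.Agent.Lib.Helper28.TCF23NW0M6.fin34 v (by omega) (by omega)
  rcases Nat.lt_or_ge v 299988 with h35 | h35
  · exact (Data.finalRange_iff data 291655 8333).mp Cfsg.Agent.Lib.Helper28.TCF23NW0M7.fin35 v (by omega) (by omega)
  rcases Nat.lt_or_ge v 308321 with h36 | h36
  · exact (Data.finalRange_iff data 299988 8333).mp Cfsg.Agent.Lib.Helper28.TCF23NW0M7.fin36 v (by omega) (by omega)
  exact (Data.finalRange_iff data 308321 5241).mp Cfsg.Agent.Lib.Helper28.TCF23NW0M7.fin37 v (by omega) (by omega)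

theorem hfin : data.finalOK = true := Data.finalOK_of_rows data Cfsg.Agent.Lib.Helper28.TCF23NW0M9.hlive0 (by decide) hrows

theorem pc0 : Data.countFrom data 0 40000 = 14981 := Cfsg.Agent.Lib.Helper28.TCF23NW0M7.cnt0
theorem pc1 : Data.countFrom data 0 80000 = 20001 := Data.countFrom_step data pc0 Cfsg.Agent.Lib.Helper28.TCF23NW0M7.cnt1 (by norm_num) (by norm_num)
theorem pc2 : Data.countFrom data 0 120000 = 23157 := Data.countFrom_step data pc1 Cfsg.Agent.Lib.Helper28.TCF23NW0M8.cnt2 (by norm_num) (by norm_num)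
theorem pc3 : Data.countFrom data 0 160000 = 24657 := Data.countFrom_step data pc2 Cfsg.Agent.Lib.Helper28.TCF23NW0M8.cnt3 (by norm_num) (by norm_num)
theorem pc4 : Data.countFrom data 0 200000 = 26521 := Data.countFrom_step data pc3 Cfsg.Agent.Lib.Helper28.TCF23NW0M8.cnt4 (by norm_num) (by norm_num)
theorem pc5 : Data.countFrom data 0 240000 = 27927 := Data.countFrom_step data pc4 Cfsg.Agent.Lib.Helper28.TCF23NW0M8.cnt5 (by norm_num) (by norm_num)
theorem pc6 : Data.countFrom data 0 280000 = 28996 := Data.countFrom_step data pc5 Cfsg.Agent.Lib.Helper28.TCF23NW0M8.cnt6 (by norm_num) (by norm_num)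
theorem pc7 : Data.countFrom data 0 313562 = 31671 := Data.countFrom_step data pc6 Cfsg.Agent.Lib.Helper28.TCF23NW0M9.cnt7 (by norm_num) (by norm_num)

theorem hcount : data.countLive = 31671 := by
  rw [Data.countLive_eq]
  exact pc7

/-- the upper bound for the index -/
theorem mainU : Finite (PresentedGroup rels ⧸ (Subgroup.closure S).map (PresentedGroup.mk rels)) ∧
    Nat.card (PresentedGroup rels ⧸ (Subgroup.closure S).map (PresentedGroup.mk rels)) ≤ 31671 := by
  have h := upper link hchk hfin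
  rw [hcount] at h
  exact h

end Cfsg.Agent.Lib.Helper28.TCF23NW0Main
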