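import Cfsg.Agent.Lib.Helper28.TC2Upper
import Cfsg.Agent.Lib.Helper28.TCF23NW1DataC0
import Cfsg.Agent.Lib.Helper28.TCF23NW1DataC1
import Cfsg.Agent.Lib.Helper28.TCF23NW1DataC2
import Cfsg.Agent.Lib.Helper28.TCF23NW1DataC3
import Cfsg.Agent.Lib.Helper28.TCF23NW1DataC4
import Cfsg.Agent.Lib.Helper28.TCF23NW1DataC5
set_option autoImplicit false
set_option maxRecDepth 100000

namespace Cfsg.Agent.Lib.Helper28.TCF23NW1Data
open Cfsg.Agent.Lib.Helper28.TC2Upper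

/-- relators -/
def relT : BT (ℕ × List ℕ × List ℕ) := (BT.node 40 (BT.node 20 (BT.node 10 (BT.node 5 (BT.node 2 (BT.node 1 (BT.node 0 (BT.leaf (2, [0, 0], [0, 0])) (BT.leaf (6, [1, 0, 1, 0, 1, 0], [0, 1, 0, 1, 0, 1]))) (BT.leaf (4, [2, 0, 2, 0], [0, 2, 0, 2]))) (BT.node 4 (BT.node 3 (BT.leaf (4, [3, 0, 3, 0], [0, 3, 0, 3])) (BT.leaf (4, [4, 0, 4, 0], [0, 4, 0, 4]))) (BT.leaf (4, [5, 0, 5, 0], [0, 5, 0, 5])))) (BT.node 8 (BT.node 7 (BT.node 6 (BT.leaf (4, [7, 0, 7, 0], [0, 7, 0, 7])) (BT.leaf (4, [6, 0, 6, 0], [0, 6, 0, 6]))) (BT.leaf (4, [8, 0, 8, 0], [0, 8, 0, 8]))) (BT.node 9 (BT.leaf (6, [0, 1, 0, 1, 0, 1], [1, 0, 1, 0, 1, 0])) (BT.leaf (2, [1, 1], [1, 1]))))) (BT.node 15 (BT.node 13 (BT.node 12 (BT.node 11 (BT.leaf (6, [2, 1, 2, 1, 2, 1], [1, 2, 1, 2, 1, 2])) (BT.leaf (4, [3, 1, 3, 1], [1, 3, 1, 3]))) (BT.leaf (4, [4, 1, 4, 1], [1, 4, 1, 4]))) (BT.node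 14 (BT.leaf (4, [5, 1, 5, 1], [1, 5, 1, 5])) (BT.leaf (4, [7, 1, 7, 1], [1, 7, 1, 7])))) (BT.node 18 (BT.node 17 (BT.node 16 (BT.leaf (4, [6, 1, 6, 1], [1, 6, 1, 6])) (BT.leaf (4, [8, 1, 8, 1], [1, 8, 1, 8]))) (BT.leaf (4, [0, 2, 0, 2], [2, 0, 2, 0]))) (BT.node 19 (BT.leaf (6, [1, 2, 1, 2, 1, 2], [2, 1, 2, 1, 2, 1])) (BT.leaf (2, [2, 2], [2, 2])))))) (BT.node 30 (BT.node 25 (BT.node 23 (BT.node 22 (BT.node 21 (BT.leaf (6, [3, 2, 3, 2, 3, 2], [2, 3, 2, 3, 2, 3])) (BT.leaf (4, [4, 2, 4, 2], [2, 4, 2, 4]))) (BT.leaf (4, [5, 2, 5, 2], [2, 5, 2, 5]))) (BT.node 24 (BT.leaf (4, [7, 2, 7, 2], [2, 7, 2, 7])) (BT.leaf (4, [6, 2, 6, 2], [2, 6, 2, 6])))) (BT.node 28 (BT.node 27 (BT.node 26 (BT.leaf (4, [8, 2, 8, 2], [2, 8, 2, 8])) (BT.leaf (4, [0, 3, 0, 3], [3, 0, 3, 0]))) (BT.leaf (4, [1, 3, 1, 3], [3, 1, 3, 1]))) (BT.node 29 (BT.leaf (6, [2, 3, 2, 3, 2, 3], [3, 2, 3,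 2, 3, 2])) (BT.leaf (2, [3, 3], [3, 3]))))) (BT.node 35 (BT.node 33 (BT.node 32 (BT.node 31 (BT.leaf (6, [4, 3, 4, 3, 4, 3], [3, 4, 3, 4, 3, 4])) (BT.leaf (4, [5, 3, 5, 3], [3, 5, 3, 5]))) (BT.leaf (6, [7, 3, 7, 3, 7, 3], [3, 7, 3, 7, 3, 7]))) (BT.node 34 (BT.leaf (4, [6, 3, 6, 3], [3, 6, 3, 6])) (BT.leaf (4, [8, 3, 8, 3], [3, 8, 3, 8])))) (BT.node 38 (BT.node 37 (BT.node 36 (BT.leaf (4, [0, 4, 0, 4], [4, 0, 4, 0])) (BT.leaf (4, [1, 4, 1, 4], [4, 1, 4, 1]))) (BT.leaf (4, [2, 4, 2, 4], [4, 2, 4, 2]))) (BT.node 39 (BT.leaf (6, [3, 4, 3, 4, 3, 4], [4, 3, 4, 3, 4, 3])) (BT.leaf (2, [4, 4], [4, 4]))))))) (BT.node 61 (BT.node 51 (BT.node 46 (BT.node 43 (BT.node 42 (BT.node 41 (BT.leaf (6, [5, 4, 5, 4, 5, 4], [4, 5, 4, 5, 4, 5])) (BT.leaf (4, [7, 4, 7, 4], [4, 7, 4, 7]))) (BT.leaf (4, [6, 4, 6, 4], [4, 6, 4, 6]))) (BT.node 45 (BT.node 44 (BT.leaf (4, [8, 4, 8, 4],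 [4, 8, 4, 8])) (BT.leaf (4, [0, 5, 0, 5], [5, 0, 5, 0]))) (BT.leaf (4, [1, 5, 1, 5], [5, 1, 5, 1])))) (BT.node 49 (BT.node 48 (BT.node 47 (BT.leaf (4, [2, 5, 2, 5], [5, 2, 5, 2])) (BT.leaf (4, [3, 5, 3, 5], [5, 3, 5, 3]))) (BT.leaf (6, [4, 5, 4, 5, 4, 5], [5, 4, 5, 4, 5, 4]))) (BT.node 50 (BT.leaf (2, [5, 5], [5, 5])) (BT.leaf (4, [7, 5, 7, 5], [5, 7, 5, 7]))))) (BT.node 56 (BT.node 54 (BT.node 53 (BT.node 52 (BT.leaf (6, [6, 5, 6, 5, 6, 5], [5, 6, 5, 6, 5, 6])) (BT.leaf (4, [8, 5, 8, 5], [5, 8, 5, 8]))) (BT.leaf (4, [0, 7, 0, 7], [7, 0, 7, 0]))) (BT.node 55 (BT.leaf (4, [1, 7, 1, 7], [7, 1, 7, 1])) (BT.leaf (4, [2, 7, 2, 7], [7, 2, 7, 2])))) (BT.node 59 (BT.node 58 (BT.node 57 (BT.leaf (6, [3, 7, 3, 7, 3, 7], [7, 3, 7, 3, 7, 3])) (BT.leaf (4, [4, 7, 4, 7], [7, 4, 7, 4]))) (BT.leaf (4, [5, 7, 5, 7], [7, 5, 7, 5]))) (BT.node 60 (BT.leaf (2, [7, 7], [7, 7]))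 (BT.leaf (4, [6, 7, 6, 7], [7, 6, 7, 6])))))) (BT.node 71 (BT.node 66 (BT.node 64 (BT.node 63 (BT.node 62 (BT.leaf (6, [8, 7, 8, 7, 8, 7], [7, 8, 7, 8, 7, 8])) (BT.leaf (4, [0, 6, 0, 6], [6, 0, 6, 0]))) (BT.leaf (4, [1, 6, 1, 6], [6, 1, 6, 1]))) (BT.node 65 (BT.leaf (4, [2, 6, 2, 6], [6, 2, 6, 2])) (BT.leaf (4, [3, 6, 3, 6], [6, 3, 6, 3])))) (BT.node 69 (BT.node 68 (BT.node 67 (BT.leaf (4, [4, 6, 4, 6], [6, 4, 6, 4])) (BT.leaf (6, [5, 6, 5, 6, 5, 6], [6, 5, 6, 5, 6, 5]))) (BT.leaf (4, [7, 6, 7, 6], [6, 7, 6, 7]))) (BT.node 70 (BT.leaf (2, [6, 6], [6, 6])) (BT.leaf (4, [8, 6, 8, 6], [6, 8, 6, 8]))))) (BT.node 76 (BT.node 74 (BT.node 73 (BT.node 72 (BT.leaf (4, [0, 8, 0, 8], [8, 0, 8, 0])) (BT.leaf (4, [1, 8, 1, 8], [8, 1, 8, 1]))) (BT.leaf (4, [2, 8, 2, 8], [8, 2, 8, 2]))) (BT.node 75 (BT.leaf (4, [3, 8, 3, 8], [8, 3, 8, 3])) (BT.leaf (4, [4, 8, 4, 8], [8,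 4, 8, 4])))) (BT.node 79 (BT.node 78 (BT.node 77 (BT.leaf (4, [5, 8, 5, 8], [8, 5, 8, 5])) (BT.leaf (6, [7, 8, 7, 8, 7, 8], [8, 7, 8, 7, 8, 7]))) (BT.leaf (4, [6, 8, 6, 8], [8, 6, 8, 6]))) (BT.node 80 (BT.leaf (2, [8, 8], [8, 8])) (BT.leaf (63, [7, 5, 4, 3, 2, 1, 0, 7, 5, 4, 3, 2, 1, 0, 7, 5, 4, 3, 2, 1, 0, 7, 5, 4, 3, 2, 1, 0, 7, 5, 4, 3, 2, 1, 0, 7, 5, 4, 3, 2, 1, 0, 7, 5, 4, 3, 2, 1, 0, 7, 5, 4, 3, 2, 1, 0, 7, 5, 4, 3, 2, 1, 0], [0, 1, 2, 3, 4, 5, 7, 0, 1, 2, 3, 4, 5, 7, 0, 1, 2, 3, 4, 5, 7, 0, 1, 2, 3, 4, 5, 7, 0, 1, 2, 3, 4, 5, 7, 0, 1, 2, 3, 4, 5, 7, 0, 1, 2, 3, 4, 5, 7, 0, 1, 2, 3, 4, 5, 7, 0, 1, 2, 3, 4, 5, 7]))))))))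
/-- subgroup generators -/
def subT : BT (ℕ × List ℕ × List ℕ) := (BT.node 3 (BT.node 1 (BT.node 0 (BT.leaf (1, [0], [0])) (BT.leaf (1, [1], [1]))) (BT.node 2 (BT.leaf (1, [2], [2])) (BT.leaf (1, [3], [3])))) (BT.node 5 (BT.node 4 (BT.leaf (1, [4], [4])) (BT.leaf (1, [5], [5]))) (BT.node 6 (BT.leaf (1, [7], [7])) (BT.leaf (1, [8], [8])))))
/-- fact chunks -/
def colET : BT ℕ := (BT.node 1324 (BT.node 662 (BT.node 331 (BT.node 165 (BT.node 82 (BT.node 41 (BT.node 20 (BT.node 10 (BT.node 5 (BT.node 2 (BT.node 1 (BT.node 0 (BT.leaf cE0) (BT.leaf cE1)) (BT.leaf cE2)) (BT.node 4 (BT.node 3 (BT.leaf cE3) (BT.leaf cE4)) (BT.leaf cE5))) (BT.node 8 (BT.node 7 (BT.node 6 (BT.leaf cE6) (BT.leaf cE7)) (BT.leaf cE8)) (BT.node 9 (BT.leaf cE9) (BT.leaf cE10)))) (BT.node 15 (BT.node 13 (BT.node 12 (BT.node 11 (BT.leaf cE11) (BT.leaf cE12)) (BT.leaf cE13)) (BT.node 14 (BT.leaf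 cE14) (BT.leaf cE15))) (BT.node 18 (BT.node 17 (BT.node 16 (BT.leaf cE16) (BT.leaf cE17)) (BT.leaf cE18)) (BT.node 19 (BT.leaf cE19) (BT.leaf cE20))))) (BT.node 31 (BT.node 26 (BT.node 23 (BT.node 22 (BT.node 21 (BT.leaf cE21) (BT.leaf cE22)) (BT.leaf cE23)) (BT.node 25 (BT.node 24 (BT.leaf cE24) (BT.leaf cE25)) (BT.leaf cE26))) (BT.node 29 (BT.node 28 (BT.node 27 (BT.leaf cE27) (BT.leaf cE28)) (BT.leaf cE29)) (BT.node 30 (BT.leaf cE30) (BT.leaf cE31)))) (BT.node 36 (BT.node 34 (BT.node 33 (BT.node 32 (BT.leaf cE32) (BT.leaf cE33)) (BT.leaf cE34)) (BT.node 35 (BT.leaf cE35) (BT.leaf cE36))) (BT.node 39 (BT.node 38 (BT.node 37 (BT.leaf cE37) (BT.leaf cE38)) (BT.leaf cE39)) (BT.node 40 (BT.leaf cE40) (BT.leaf cE41)))))) (BT.node 62 (BT.node 52 (BT.node 47 (BT.node 44 (BT.node 43 (BT.node 42 (BT.leaf cE42) (BT.leaf cE43)) (BT.leaf cE44)) (BT.node 46 (BT.node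 45 (BT.leaf cE45) (BT.leaf cE46)) (BT.leaf cE47))) (BT.node 50 (BT.node 49 (BT.node 48 (BT.leaf cE48) (BT.leaf cE49)) (BT.leaf cE50)) (BT.node 51 (BT.leaf cE51) (BT.leaf cE52)))) (BT.node 57 (BT.node 55 (BT.node 54 (BT.node 53 (BT.leaf cE53) (BT.leaf cE54)) (BT.leaf cE55)) (BT.node 56 (BT.leaf cE56) (BT.leaf cE57))) (BT.node 60 (BT.node 59 (BT.node 58 (BT.leaf cE58) (BT.leaf cE59)) (BT.leaf cE60)) (BT.node 61 (BT.leaf cE61) (BT.leaf cE62))))) (BT.node 72 (BT.node 67 (BT.node 65 (BT.node 64 (BT.node 63 (BT.leaf cE63) (BT.leaf cE64)) (BT.leaf cE65)) (BT.node 66 (BT.leaf cE66) (BT.leaf cE67))) (BT.node 70 (BT.node 69 (BT.node 68 (BT.leaf cE68) (BT.leaf cE69)) (BT.leaf cE70)) (BT.node 71 (BT.leaf cE71) (BT.leaf cE72)))) (BT.node 77 (BT.node 75 (BT.node 74 (BT.node 73 (BT.leaf cE73) (BT.leaf cE74)) (BT.leaf cE75)) (BT.node 76 (BT.leaf cE76) (BT.leaf cE77))) (BT.node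 80 (BT.node 79 (BT.node 78 (BT.leaf cE78) (BT.leaf cE79)) (BT.leaf cE80)) (BT.node 81 (BT.leaf cE81) (BT.leaf cE82))))))) (BT.node 124 (BT.node 103 (BT.node 93 (BT.node 88 (BT.node 85 (BT.node 84 (BT.node 83 (BT.leaf cE83) (BT.leaf cE84)) (BT.leaf cE85)) (BT.node 87 (BT.node 86 (BT.leaf cE86) (BT.leaf cE87)) (BT.leaf cE88))) (BT.node 91 (BT.node 90 (BT.node 89 (BT.leaf cE89) (BT.leaf cE90)) (BT.leaf cE91)) (BT.node 92 (BT.leaf cE92) (BT.leaf cE93)))) (BT.node 98 (BT.node 96 (BT.node 95 (BT.node 94 (BT.leaf cE94) (BT.leaf cE95)) (BT.leaf cE96)) (BT.node 97 (BT.leaf cE97) (BT.leaf cE98))) (BT.node 101 (BT.node 100 (BT.node 99 (BT.leaf cE99) (BT.leaf cE100)) (BT.leaf cE101)) (BT.node 102 (BT.leaf cE102) (BT.leaf cE103))))) (BT.node 114 (BT.node 109 (BT.node 106 (BT.node 105 (BT.node 104 (BT.leaf cE104) (BT.leaf cE105)) (BT.leaf cE106)) (BT.node 108 (BT.node 107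 (BT.leaf cE107) (BT.leaf cE108)) (BT.leaf cE109))) (BT.node 112 (BT.node 111 (BT.node 110 (BT.leaf cE110) (BT.leaf cE111)) (BT.leaf cE112)) (BT.node 113 (BT.leaf cE113) (BT.leaf cE114)))) (BT.node 119 (BT.node 117 (BT.node 116 (BT.node 115 (BT.leaf cE115) (BT.leaf cE116)) (BT.leaf cE117)) (BT.node 118 (BT.leaf cE118) (BT.leaf cE119))) (BT.node 122 (BT.node 121 (BT.node 120 (BT.leaf cE120) (BT.leaf cE121)) (BT.leaf cE122)) (BT.node 123 (BT.leaf cE123) (BT.leaf cE124)))))) (BT.node 145 (BT.node 135 (BT.node 130 (BT.node 127 (BT.node 126 (BT.node 125 (BT.leaf cE125) (BT.leaf cE126)) (BT.leaf cE127)) (BT.node 129 (BT.node 128 (BT.leaf cE128) (BT.leaf cE129)) (BT.leaf cE130))) (BT.node 133 (BT.node 132 (BT.node 131 (BT.leaf cE131) (BT.leaf cE132)) (BT.leaf cE133)) (BT.node 134 (BT.leaf cE134) (BT.leaf cE135)))) (BT.node 140 (BT.node 138 (BT.node 137 (BT.node 136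 (BT.leaf cE136) (BT.leaf cE137)) (BT.leaf cE138)) (BT.node 139 (BT.leaf cE139) (BT.leaf cE140))) (BT.node 143 (BT.node 142 (BT.node 141 (BT.leaf cE141) (BT.leaf cE142)) (BT.leaf cE143)) (BT.node 144 (BT.leaf cE144) (BT.leaf cE145))))) (BT.node 155 (BT.node 150 (BT.node 148 (BT.node 147 (BT.node 146 (BT.leaf cE146) (BT.leaf cE147)) (BT.leaf cE148)) (BT.node 149 (BT.leaf cE149) (BT.leaf cE150))) (BT.node 153 (BT.node 152 (BT.node 151 (BT.leaf cE151) (BT.leaf cE152)) (BT.leaf cE153)) (BT.node 154 (BT.leaf cE154) (BT.leaf cE155)))) (BT.node 160 (BT.node 158 (BT.node 157 (BT.node 156 (BT.leaf cE156) (BT.leaf cE157)) (BT.leaf cE158)) (BT.node 159 (BT.leaf cE159) (BT.leaf cE160))) (BT.node 163 (BT.node 162 (BT.node 161 (BT.leaf cE161) (BT.leaf cE162)) (BT.leaf cE163)) (BT.node 164 (BT.leaf cE164) (BT.leaf cE165)))))))) (BT.node 248 (BT.node 207 (BT.node 186 (BT.node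 176 (BT.node 171 (BT.node 168 (BT.node 167 (BT.node 166 (BT.leaf cE166) (BT.leaf cE167)) (BT.leaf cE168)) (BT.node 170 (BT.node 169 (BT.leaf cE169) (BT.leaf cE170)) (BT.leaf cE171))) (BT.node 174 (BT.node 173 (BT.node 172 (BT.leaf cE172) (BT.leaf cE173)) (BT.leaf cE174)) (BT.node 175 (BT.leaf cE175) (BT.leaf cE176)))) (BT.node 181 (BT.node 179 (BT.node 178 (BT.node 177 (BT.leaf cE177) (BT.leaf cE178)) (BT.leaf cE179)) (BT.node 180 (BT.leaf cE180) (BT.leaf cE181))) (BT.node 184 (BT.node 183 (BT.node 182 (BT.leaf cE182) (BT.leaf cE183)) (BT.leaf cE184)) (BT.node 185 (BT.leaf cE185) (BT.leaf cE186))))) (BT.node 197 (BT.node 192 (BT.node 189 (BT.node 188 (BT.node 187 (BT.leaf cE187) (BT.leaf cE188)) (BT.leaf cE189)) (BT.node 191 (BT.node 190 (BT.leaf cE190) (BT.leaf cE191)) (BT.leaf cE192))) (BT.node 195 (BT.node 194 (BT.node 193 (BT.leaf cE193) (BT.leaf cE194))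 (BT.leaf cE195)) (BT.node 196 (BT.leaf cE196) (BT.leaf cE197)))) (BT.node 202 (BT.node 200 (BT.node 199 (BT.node 198 (BT.leaf cE198) (BT.leaf cE199)) (BT.leaf cE200)) (BT.node 201 (BT.leaf cE201) (BT.leaf cE202))) (BT.node 205 (BT.node 204 (BT.node 203 (BT.leaf cE203) (BT.leaf cE204)) (BT.leaf cE205)) (BT.node 206 (BT.leaf cE206) (BT.leaf cE207)))))) (BT.node 228 (BT.node 218 (BT.node 213 (BT.node 210 (BT.node 209 (BT.node 208 (BT.leaf cE208) (BT.leaf cE209)) (BT.leaf cE210)) (BT.node 212 (BT.node 211 (BT.leaf cE211) (BT.leaf cE212)) (BT.leaf cE213))) (BT.node 216 (BT.node 215 (BT.node 214 (BT.leaf cE214) (BT.leaf cE215)) (BT.leaf cE216)) (BT.node 217 (BT.leaf cE217) (BT.leaf cE218)))) (BT.node 223 (BT.node 221 (BT.node 220 (BT.node 219 (BT.leaf cE219) (BT.leaf cE220)) (BT.leaf cE221)) (BT.node 222 (BT.leaf cE222) (BT.leaf cE223))) (BT.node 226 (BT.node 225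 (BT.node 224 (BT.leaf cE224) (BT.leaf cE225)) (BT.leaf cE226)) (BT.node 227 (BT.leaf cE227) (BT.leaf cE228))))) (BT.node 238 (BT.node 233 (BT.node 231 (BT.node 230 (BT.node 229 (BT.leaf cE229) (BT.leaf cE230)) (BT.leaf cE231)) (BT.node 232 (BT.leaf cE232) (BT.leaf cE233))) (BT.node 236 (BT.node 235 (BT.node 234 (BT.leaf cE234) (BT.leaf cE235)) (BT.leaf cE236)) (BT.node 237 (BT.leaf cE237) (BT.leaf cE238)))) (BT.node 243 (BT.node 241 (BT.node 240 (BT.node 239 (BT.leaf cE239) (BT.leaf cE240)) (BT.leaf cE241)) (BT.node 242 (BT.leaf cE242) (BT.leaf cE243))) (BT.node 246 (BT.node 245 (BT.node 244 (BT.leaf cE244) (BT.leaf cE245)) (BT.leaf cE246)) (BT.node 247 (BT.leaf cE247) (BT.leaf cE248))))))) (BT.node 290 (BT.node 269 (BT.node 259 (BT.node 254 (BT.node 251 (BT.node 250 (BT.node 249 (BT.leaf cE249) (BT.leaf cE250)) (BT.leaf cE251)) (BT.node 253 (BT.node 252 (BT.leaf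 cE252) (BT.leaf cE253)) (BT.leaf cE254))) (BT.node 257 (BT.node 256 (BT.node 255 (BT.leaf cE255) (BT.leaf cE256)) (BT.leaf cE257)) (BT.node 258 (BT.leaf cE258) (BT.leaf cE259)))) (BT.node 264 (BT.node 262 (BT.node 261 (BT.node 260 (BT.leaf cE260) (BT.leaf cE261)) (BT.leaf cE262)) (BT.node 263 (BT.leaf cE263) (BT.leaf cE264))) (BT.node 267 (BT.node 266 (BT.node 265 (BT.leaf cE265) (BT.leaf cE266)) (BT.leaf cE267)) (BT.node 268 (BT.leaf cE268) (BT.leaf cE269))))) (BT.node 280 (BT.node 275 (BT.node 272 (BT.node 271 (BT.node 270 (BT.leaf cE270) (BT.leaf cE271)) (BT.leaf cE272)) (BT.node 274 (BT.node 273 (BT.leaf cE273) (BT.leaf cE274)) (BT.leaf cE275))) (BT.node 278 (BT.node 277 (BT.node 276 (BT.leaf cE276) (BT.leaf cE277)) (BT.leaf cE278)) (BT.node 279 (BT.leaf cE279) (BT.leaf cE280)))) (BT.node 285 (BT.node 283 (BT.node 282 (BT.node 281 (BT.leaf cE281) (BT.leaf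 cE282)) (BT.leaf cE283)) (BT.node 284 (BT.leaf cE284) (BT.leaf cE285))) (BT.node 288 (BT.node 287 (BT.node 286 (BT.leaf cE286) (BT.leaf cE287)) (BT.leaf cE288)) (BT.node 289 (BT.leaf cE289) (BT.leaf cE290)))))) (BT.node 311 (BT.node 301 (BT.node 296 (BT.node 293 (BT.node 292 (BT.node 291 (BT.leaf cE291) (BT.leaf cE292)) (BT.leaf cE293)) (BT.node 295 (BT.node 294 (BT.leaf cE294) (BT.leaf cE295)) (BT.leaf cE296))) (BT.node 299 (BT.node 298 (BT.node 297 (BT.leaf cE297) (BT.leaf cE298)) (BT.leaf cE299)) (BT.node 300 (BT.leaf cE300) (BT.leaf cE301)))) (BT.node 306 (BT.node 304 (BT.node 303 (BT.node 302 (BT.leaf cE302) (BT.leaf cE303)) (BT.leaf cE304)) (BT.node 305 (BT.leaf cE305) (BT.leaf cE306))) (BT.node 309 (BT.node 308 (BT.node 307 (BT.leaf cE307) (BT.leaf cE308)) (BT.leaf cE309)) (BT.node 310 (BT.leaf cE310) (BT.leaf cE311))))) (BT.node 321 (BT.node 316 (BT.node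 314 (BT.node 313 (BT.node 312 (BT.leaf cE312) (BT.leaf cE313)) (BT.leaf cE314)) (BT.node 315 (BT.leaf cE315) (BT.leaf cE316))) (BT.node 319 (BT.node 318 (BT.node 317 (BT.leaf cE317) (BT.leaf cE318)) (BT.leaf cE319)) (BT.node 320 (BT.leaf cE320) (BT.leaf cE321)))) (BT.node 326 (BT.node 324 (BT.node 323 (BT.node 322 (BT.leaf cE322) (BT.leaf cE323)) (BT.leaf cE324)) (BT.node 325 (BT.leaf cE325) (BT.leaf cE326))) (BT.node 329 (BT.node 328 (BT.node 327 (BT.leaf cE327) (BT.leaf cE328)) (BT.leaf cE329)) (BT.node 330 (BT.leaf cE330) (BT.leaf cE331))))))))) (BT.node 497 (BT.node 414 (BT.node 373 (BT.node 352 (BT.node 342 (BT.node 337 (BT.node 334 (BT.node 333 (BT.node 332 (BT.leaf cE332) (BT.leaf cE333)) (BT.leaf cE334)) (BT.node 336 (BT.node 335 (BT.leaf cE335) (BT.leaf cE336)) (BT.leaf cE337))) (BT.node 340 (BT.node 339 (BT.node 338 (BT.leaf cE338) (BT.leaf cE339))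 (BT.leaf cE340)) (BT.node 341 (BT.leaf cE341) (BT.leaf cE342)))) (BT.node 347 (BT.node 345 (BT.node 344 (BT.node 343 (BT.leaf cE343) (BT.leaf cE344)) (BT.leaf cE345)) (BT.node 346 (BT.leaf cE346) (BT.leaf cE347))) (BT.node 350 (BT.node 349 (BT.node 348 (BT.leaf cE348) (BT.leaf cE349)) (BT.leaf cE350)) (BT.node 351 (BT.leaf cE351) (BT.leaf cE352))))) (BT.node 363 (BT.node 358 (BT.node 355 (BT.node 354 (BT.node 353 (BT.leaf cE353) (BT.leaf cE354)) (BT.leaf cE355)) (BT.node 357 (BT.node 356 (BT.leaf cE356) (BT.leaf cE357)) (BT.leaf cE358))) (BT.node 361 (BT.node 360 (BT.node 359 (BT.leaf cE359) (BT.leaf cE360)) (BT.leaf cE361)) (BT.node 362 (BT.leaf cE362) (BT.leaf cE363)))) (BT.node 368 (BT.node 366 (BT.node 365 (BT.node 364 (BT.leaf cE364) (BT.leaf cE365)) (BT.leaf cE366)) (BT.node 367 (BT.leaf cE367) (BT.leaf cE368))) (BT.node 371 (BT.node 370 (BT.node 369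 (BT.leaf cE369) (BT.leaf cE370)) (BT.leaf cE371)) (BT.node 372 (BT.leaf cE372) (BT.leaf cE373)))))) (BT.node 394 (BT.node 384 (BT.node 379 (BT.node 376 (BT.node 375 (BT.node 374 (BT.leaf cE374) (BT.leaf cE375)) (BT.leaf cE376)) (BT.node 378 (BT.node 377 (BT.leaf cE377) (BT.leaf cE378)) (BT.leaf cE379))) (BT.node 382 (BT.node 381 (BT.node 380 (BT.leaf cE380) (BT.leaf cE381)) (BT.leaf cE382)) (BT.node 383 (BT.leaf cE383) (BT.leaf cE384)))) (BT.node 389 (BT.node 387 (BT.node 386 (BT.node 385 (BT.leaf cE385) (BT.leaf cE386)) (BT.leaf cE387)) (BT.node 388 (BT.leaf cE388) (BT.leaf cE389))) (BT.node 392 (BT.node 391 (BT.node 390 (BT.leaf cE390) (BT.leaf cE391)) (BT.leaf cE392)) (BT.node 393 (BT.leaf cE393) (BT.leaf cE394))))) (BT.node 404 (BT.node 399 (BT.node 397 (BT.node 396 (BT.node 395 (BT.leaf cE395) (BT.leaf cE396)) (BT.leaf cE397)) (BT.node 398 (BT.leaf cE398)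 (BT.leaf cE399))) (BT.node 402 (BT.node 401 (BT.node 400 (BT.leaf cE400) (BT.leaf cE401)) (BT.leaf cE402)) (BT.node 403 (BT.leaf cE403) (BT.leaf cE404)))) (BT.node 409 (BT.node 407 (BT.node 406 (BT.node 405 (BT.leaf cE405) (BT.leaf cE406)) (BT.leaf cE407)) (BT.node 408 (BT.leaf cE408) (BT.leaf cE409))) (BT.node 412 (BT.node 411 (BT.node 410 (BT.leaf cE410) (BT.leaf cE411)) (BT.leaf cE412)) (BT.node 413 (BT.leaf cE413) (BT.leaf cE414))))))) (BT.node 456 (BT.node 435 (BT.node 425 (BT.node 420 (BT.node 417 (BT.node 416 (BT.node 415 (BT.leaf cE415) (BT.leaf cE416)) (BT.leaf cE417)) (BT.node 419 (BT.node 418 (BT.leaf cE418) (BT.leaf cE419)) (BT.leaf cE420))) (BT.node 423 (BT.node 422 (BT.node 421 (BT.leaf cE421) (BT.leaf cE422)) (BT.leaf cE423)) (BT.node 424 (BT.leaf cE424) (BT.leaf cE425)))) (BT.node 430 (BT.node 428 (BT.node 427 (BT.node 426 (BT.leaf cE426) (BT.leaf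 cE427)) (BT.leaf cE428)) (BT.node 429 (BT.leaf cE429) (BT.leaf cE430))) (BT.node 433 (BT.node 432 (BT.node 431 (BT.leaf cE431) (BT.leaf cE432)) (BT.leaf cE433)) (BT.node 434 (BT.leaf cE434) (BT.leaf cE435))))) (BT.node 446 (BT.node 441 (BT.node 438 (BT.node 437 (BT.node 436 (BT.leaf cE436) (BT.leaf cE437)) (BT.leaf cE438)) (BT.node 440 (BT.node 439 (BT.leaf cE439) (BT.leaf cE440)) (BT.leaf cE441))) (BT.node 444 (BT.node 443 (BT.node 442 (BT.leaf cE442) (BT.leaf cE443)) (BT.leaf cE444)) (BT.node 445 (BT.leaf cE445) (BT.leaf cE446)))) (BT.node 451 (BT.node 449 (BT.node 448 (BT.node 447 (BT.leaf cE447) (BT.leaf cE448)) (BT.leaf cE449)) (BT.node 450 (BT.leaf cE450) (BT.leaf cE451))) (BT.node 454 (BT.node 453 (BT.node 452 (BT.leaf cE452) (BT.leaf cE453)) (BT.leaf cE454)) (BT.node 455 (BT.leaf cE455) (BT.leaf cE456)))))) (BT.node 477 (BT.node 467 (BT.node 462 (BT.node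 459 (BT.node 458 (BT.node 457 (BT.leaf cE457) (BT.leaf cE458)) (BT.leaf cE459)) (BT.node 461 (BT.node 460 (BT.leaf cE460) (BT.leaf cE461)) (BT.leaf cE462))) (BT.node 465 (BT.node 464 (BT.node 463 (BT.leaf cE463) (BT.leaf cE464)) (BT.leaf cE465)) (BT.node 466 (BT.leaf cE466) (BT.leaf cE467)))) (BT.node 472 (BT.node 470 (BT.node 469 (BT.node 468 (BT.leaf cE468) (BT.leaf cE469)) (BT.leaf cE470)) (BT.node 471 (BT.leaf cE471) (BT.leaf cE472))) (BT.node 475 (BT.node 474 (BT.node 473 (BT.leaf cE473) (BT.leaf cE474)) (BT.leaf cE475)) (BT.node 476 (BT.leaf cE476) (BT.leaf cE477))))) (BT.node 487 (BT.node 482 (BT.node 480 (BT.node 479 (BT.node 478 (BT.leaf cE478) (BT.leaf cE479)) (BT.leaf cE480)) (BT.node 481 (BT.leaf cE481) (BT.leaf cE482))) (BT.node 485 (BT.node 484 (BT.node 483 (BT.leaf cE483) (BT.leaf cE484)) (BT.leaf cE485)) (BT.node 486 (BT.leaf cE486) (BT.leaf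 cE487)))) (BT.node 492 (BT.node 490 (BT.node 489 (BT.node 488 (BT.leaf cE488) (BT.leaf cE489)) (BT.leaf cE490)) (BT.node 491 (BT.leaf cE491) (BT.leaf cE492))) (BT.node 495 (BT.node 494 (BT.node 493 (BT.leaf cE493) (BT.leaf cE494)) (BT.leaf cE495)) (BT.node 496 (BT.leaf cE496) (BT.leaf cE497)))))))) (BT.node 580 (BT.node 539 (BT.node 518 (BT.node 508 (BT.node 503 (BT.node 500 (BT.node 499 (BT.node 498 (BT.leaf cE498) (BT.leaf cE499)) (BT.leaf cE500)) (BT.node 502 (BT.node 501 (BT.leaf cE501) (BT.leaf cE502)) (BT.leaf cE503))) (BT.node 506 (BT.node 505 (BT.node 504 (BT.leaf cE504) (BT.leaf cE505)) (BT.leaf cE506)) (BT.node 507 (BT.leaf cE507) (BT.leaf cE508)))) (BT.node 513 (BT.node 511 (BT.node 510 (BT.node 509 (BT.leaf cE509) (BT.leaf cE510)) (BT.leaf cE511)) (BT.node 512 (BT.leaf cE512) (BT.leaf cE513))) (BT.node 516 (BT.node 515 (BT.node 514 (BT.leaf cE514)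 (BT.leaf cE515)) (BT.leaf cE516)) (BT.node 517 (BT.leaf cE517) (BT.leaf cE518))))) (BT.node 529 (BT.node 524 (BT.node 521 (BT.node 520 (BT.node 519 (BT.leaf cE519) (BT.leaf cE520)) (BT.leaf cE521)) (BT.node 523 (BT.node 522 (BT.leaf cE522) (BT.leaf cE523)) (BT.leaf cE524))) (BT.node 527 (BT.node 526 (BT.node 525 (BT.leaf cE525) (BT.leaf cE526)) (BT.leaf cE527)) (BT.node 528 (BT.leaf cE528) (BT.leaf cE529)))) (BT.node 534 (BT.node 532 (BT.node 531 (BT.node 530 (BT.leaf cE530) (BT.leaf cE531)) (BT.leaf cE532)) (BT.node 533 (BT.leaf cE533) (BT.leaf cE534))) (BT.node 537 (BT.node 536 (BT.node 535 (BT.leaf cE535) (BT.leaf cE536)) (BT.leaf cE537)) (BT.node 538 (BT.leaf cE538) (BT.leaf cE539)))))) (BT.node 560 (BT.node 550 (BT.node 545 (BT.node 542 (BT.node 541 (BT.node 540 (BT.leaf cE540) (BT.leaf cE541)) (BT.leaf cE542)) (BT.node 544 (BT.node 543 (BT.leaf cE543)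 (BT.leaf cE544)) (BT.leaf cE545))) (BT.node 548 (BT.node 547 (BT.node 546 (BT.leaf cE546) (BT.leaf cE547)) (BT.leaf cE548)) (BT.node 549 (BT.leaf cE549) (BT.leaf cE550)))) (BT.node 555 (BT.node 553 (BT.node 552 (BT.node 551 (BT.leaf cE551) (BT.leaf cE552)) (BT.leaf cE553)) (BT.node 554 (BT.leaf cE554) (BT.leaf cE555))) (BT.node 558 (BT.node 557 (BT.node 556 (BT.leaf cE556) (BT.leaf cE557)) (BT.leaf cE558)) (BT.node 559 (BT.leaf cE559) (BT.leaf cE560))))) (BT.node 570 (BT.node 565 (BT.node 563 (BT.node 562 (BT.node 561 (BT.leaf cE561) (BT.leaf cE562)) (BT.leaf cE563)) (BT.node 564 (BT.leaf cE564) (BT.leaf cE565))) (BT.node 568 (BT.node 567 (BT.node 566 (BT.leaf cE566) (BT.leaf cE567)) (BT.leaf cE568)) (BT.node 569 (BT.leaf cE569) (BT.leaf cE570)))) (BT.node 575 (BT.node 573 (BT.node 572 (BT.node 571 (BT.leaf cE571) (BT.leaf cE572)) (BT.leaf cE573)) (BT.node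 574 (BT.leaf cE574) (BT.leaf cE575))) (BT.node 578 (BT.node 577 (BT.node 576 (BT.leaf cE576) (BT.leaf cE577)) (BT.leaf cE578)) (BT.node 579 (BT.leaf cE579) (BT.leaf cE580))))))) (BT.node 621 (BT.node 601 (BT.node 591 (BT.node 586 (BT.node 583 (BT.node 582 (BT.node 581 (BT.leaf cE581) (BT.leaf cE582)) (BT.leaf cE583)) (BT.node 585 (BT.node 584 (BT.leaf cE584) (BT.leaf cE585)) (BT.leaf cE586))) (BT.node 589 (BT.node 588 (BT.node 587 (BT.leaf cE587) (BT.leaf cE588)) (BT.leaf cE589)) (BT.node 590 (BT.leaf cE590) (BT.leaf cE591)))) (BT.node 596 (BT.node 594 (BT.node 593 (BT.node 592 (BT.leaf cE592) (BT.leaf cE593)) (BT.leaf cE594)) (BT.node 595 (BT.leaf cE595) (BT.leaf cE596))) (BT.node 599 (BT.node 598 (BT.node 597 (BT.leaf cE597) (BT.leaf cE598)) (BT.leaf cE599)) (BT.node 600 (BT.leaf cE600) (BT.leaf cE601))))) (BT.node 611 (BT.node 606 (BT.node 604 (BT.node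 603 (BT.node 602 (BT.leaf cE602) (BT.leaf cE603)) (BT.leaf cE604)) (BT.node 605 (BT.leaf cE605) (BT.leaf cE606))) (BT.node 609 (BT.node 608 (BT.node 607 (BT.leaf cE607) (BT.leaf cE608)) (BT.leaf cE609)) (BT.node 610 (BT.leaf cE610) (BT.leaf cE611)))) (BT.node 616 (BT.node 614 (BT.node 613 (BT.node 612 (BT.leaf cE612) (BT.leaf cE613)) (BT.leaf cE614)) (BT.node 615 (BT.leaf cE615) (BT.leaf cE616))) (BT.node 619 (BT.node 618 (BT.node 617 (BT.leaf cE617) (BT.leaf cE618)) (BT.leaf cE619)) (BT.node 620 (BT.leaf cE620) (BT.leaf cE621)))))) (BT.node 642 (BT.node 632 (BT.node 627 (BT.node 624 (BT.node 623 (BT.node 622 (BT.leaf cE622) (BT.leaf cE623)) (BT.leaf cE624)) (BT.node 626 (BT.node 625 (BT.leaf cE625) (BT.leaf cE626)) (BT.leaf cE627))) (BT.node 630 (BT.node 629 (BT.node 628 (BT.leaf cE628) (BT.leaf cE629)) (BT.leaf cE630)) (BT.node 631 (BT.leaf cE631) (BT.leaf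 cE632)))) (BT.node 637 (BT.node 635 (BT.node 634 (BT.node 633 (BT.leaf cE633) (BT.leaf cE634)) (BT.leaf cE635)) (BT.node 636 (BT.leaf cE636) (BT.leaf cE637))) (BT.node 640 (BT.node 639 (BT.node 638 (BT.leaf cE638) (BT.leaf cE639)) (BT.leaf cE640)) (BT.node 641 (BT.leaf cE641) (BT.leaf cE642))))) (BT.node 652 (BT.node 647 (BT.node 645 (BT.node 644 (BT.node 643 (BT.leaf cE643) (BT.leaf cE644)) (BT.leaf cE645)) (BT.node 646 (BT.leaf cE646) (BT.leaf cE647))) (BT.node 650 (BT.node 649 (BT.node 648 (BT.leaf cE648) (BT.leaf cE649)) (BT.leaf cE650)) (BT.node 651 (BT.leaf cE651) (BT.leaf cE652)))) (BT.node 657 (BT.node 655 (BT.node 654 (BT.node 653 (BT.leaf cE653) (BT.leaf cE654)) (BT.leaf cE655)) (BT.node 656 (BT.leaf cE656) (BT.leaf cE657))) (BT.node 660 (BT.node 659 (BT.node 658 (BT.leaf cE658) (BT.leaf cE659)) (BT.leaf cE660)) (BT.node 661 (BT.leaf cE661) (BT.leaf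 cE662)))))))))) (BT.node 993 (BT.node 828 (BT.node 745 (BT.node 704 (BT.node 683 (BT.node 673 (BT.node 668 (BT.node 665 (BT.node 664 (BT.node 663 (BT.leaf cE663) (BT.leaf cE664)) (BT.leaf cE665)) (BT.node 667 (BT.node 666 (BT.leaf cE666) (BT.leaf cE667)) (BT.leaf cE668))) (BT.node 671 (BT.node 670 (BT.node 669 (BT.leaf cE669) (BT.leaf cE670)) (BT.leaf cE671)) (BT.node 672 (BT.leaf cE672) (BT.leaf cE673)))) (BT.node 678 (BT.node 676 (BT.node 675 (BT.node 674 (BT.leaf cE674) (BT.leaf cE675)) (BT.leaf cE676)) (BT.node 677 (BT.leaf cE677) (BT.leaf cE678))) (BT.node 681 (BT.node 680 (BT.node 679 (BT.leaf cE679) (BT.leaf cE680)) (BT.leaf cE681)) (BT.node 682 (BT.leaf cE682) (BT.leaf cE683))))) (BT.node 694 (BT.node 689 (BT.node 686 (BT.node 685 (BT.node 684 (BT.leaf cE684) (BT.leaf cE685)) (BT.leaf cE686)) (BT.node 688 (BT.node 687 (BT.leaf cE687) (BT.leaf cE688))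 (BT.leaf cE689))) (BT.node 692 (BT.node 691 (BT.node 690 (BT.leaf cE690) (BT.leaf cE691)) (BT.leaf cE692)) (BT.node 693 (BT.leaf cE693) (BT.leaf cE694)))) (BT.node 699 (BT.node 697 (BT.node 696 (BT.node 695 (BT.leaf cE695) (BT.leaf cE696)) (BT.leaf cE697)) (BT.node 698 (BT.leaf cE698) (BT.leaf cE699))) (BT.node 702 (BT.node 701 (BT.node 700 (BT.leaf cE700) (BT.leaf cE701)) (BT.leaf cE702)) (BT.node 703 (BT.leaf cE703) (BT.leaf cE704)))))) (BT.node 725 (BT.node 715 (BT.node 710 (BT.node 707 (BT.node 706 (BT.node 705 (BT.leaf cE705) (BT.leaf cE706)) (BT.leaf cE707)) (BT.node 709 (BT.node 708 (BT.leaf cE708) (BT.leaf cE709)) (BT.leaf cE710))) (BT.node 713 (BT.node 712 (BT.node 711 (BT.leaf cE711) (BT.leaf cE712)) (BT.leaf cE713)) (BT.node 714 (BT.leaf cE714) (BT.leaf cE715)))) (BT.node 720 (BT.node 718 (BT.node 717 (BT.node 716 (BT.leaf cE716) (BT.leaf cE717))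 (BT.leaf cE718)) (BT.node 719 (BT.leaf cE719) (BT.leaf cE720))) (BT.node 723 (BT.node 722 (BT.node 721 (BT.leaf cE721) (BT.leaf cE722)) (BT.leaf cE723)) (BT.node 724 (BT.leaf cE724) (BT.leaf cE725))))) (BT.node 735 (BT.node 730 (BT.node 728 (BT.node 727 (BT.node 726 (BT.leaf cE726) (BT.leaf cE727)) (BT.leaf cE728)) (BT.node 729 (BT.leaf cE729) (BT.leaf cE730))) (BT.node 733 (BT.node 732 (BT.node 731 (BT.leaf cE731) (BT.leaf cE732)) (BT.leaf cE733)) (BT.node 734 (BT.leaf cE734) (BT.leaf cE735)))) (BT.node 740 (BT.node 738 (BT.node 737 (BT.node 736 (BT.leaf cE736) (BT.leaf cE737)) (BT.leaf cE738)) (BT.node 739 (BT.leaf cE739) (BT.leaf cE740))) (BT.node 743 (BT.node 742 (BT.node 741 (BT.leaf cE741) (BT.leaf cE742)) (BT.leaf cE743)) (BT.node 744 (BT.leaf cE744) (BT.leaf cE745))))))) (BT.node 787 (BT.node 766 (BT.node 756 (BT.node 751 (BT.node 748 (BT.node 747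 (BT.node 746 (BT.leaf cE746) (BT.leaf cE747)) (BT.leaf cE748)) (BT.node 750 (BT.node 749 (BT.leaf cE749) (BT.leaf cE750)) (BT.leaf cE751))) (BT.node 754 (BT.node 753 (BT.node 752 (BT.leaf cE752) (BT.leaf cE753)) (BT.leaf cE754)) (BT.node 755 (BT.leaf cE755) (BT.leaf cE756)))) (BT.node 761 (BT.node 759 (BT.node 758 (BT.node 757 (BT.leaf cE757) (BT.leaf cE758)) (BT.leaf cE759)) (BT.node 760 (BT.leaf cE760) (BT.leaf cE761))) (BT.node 764 (BT.node 763 (BT.node 762 (BT.leaf cE762) (BT.leaf cE763)) (BT.leaf cE764)) (BT.node 765 (BT.leaf cE765) (BT.leaf cE766))))) (BT.node 777 (BT.node 772 (BT.node 769 (BT.node 768 (BT.node 767 (BT.leaf cE767) (BT.leaf cE768)) (BT.leaf cE769)) (BT.node 771 (BT.node 770 (BT.leaf cE770) (BT.leaf cE771)) (BT.leaf cE772))) (BT.node 775 (BT.node 774 (BT.node 773 (BT.leaf cE773) (BT.leaf cE774)) (BT.leaf cE775)) (BT.node 776 (BT.leaf cE776)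 (BT.leaf cE777)))) (BT.node 782 (BT.node 780 (BT.node 779 (BT.node 778 (BT.leaf cE778) (BT.leaf cE779)) (BT.leaf cE780)) (BT.node 781 (BT.leaf cE781) (BT.leaf cE782))) (BT.node 785 (BT.node 784 (BT.node 783 (BT.leaf cE783) (BT.leaf cE784)) (BT.leaf cE785)) (BT.node 786 (BT.leaf cE786) (BT.leaf cE787)))))) (BT.node 808 (BT.node 798 (BT.node 793 (BT.node 790 (BT.node 789 (BT.node 788 (BT.leaf cE788) (BT.leaf cE789)) (BT.leaf cE790)) (BT.node 792 (BT.node 791 (BT.leaf cE791) (BT.leaf cE792)) (BT.leaf cE793))) (BT.node 796 (BT.node 795 (BT.node 794 (BT.leaf cE794) (BT.leaf cE795)) (BT.leaf cE796)) (BT.node 797 (BT.leaf cE797) (BT.leaf cE798)))) (BT.node 803 (BT.node 801 (BT.node 800 (BT.node 799 (BT.leaf cE799) (BT.leaf cE800)) (BT.leaf cE801)) (BT.node 802 (BT.leaf cE802) (BT.leaf cE803))) (BT.node 806 (BT.node 805 (BT.node 804 (BT.leaf cE804) (BT.leaf cE805))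 (BT.leaf cE806)) (BT.node 807 (BT.leaf cE807) (BT.leaf cE808))))) (BT.node 818 (BT.node 813 (BT.node 811 (BT.node 810 (BT.node 809 (BT.leaf cE809) (BT.leaf cE810)) (BT.leaf cE811)) (BT.node 812 (BT.leaf cE812) (BT.leaf cE813))) (BT.node 816 (BT.node 815 (BT.node 814 (BT.leaf cE814) (BT.leaf cE815)) (BT.leaf cE816)) (BT.node 817 (BT.leaf cE817) (BT.leaf cE818)))) (BT.node 823 (BT.node 821 (BT.node 820 (BT.node 819 (BT.leaf cE819) (BT.leaf cE820)) (BT.leaf cE821)) (BT.node 822 (BT.leaf cE822) (BT.leaf cE823))) (BT.node 826 (BT.node 825 (BT.node 824 (BT.leaf cE824) (BT.leaf cE825)) (BT.leaf cE826)) (BT.node 827 (BT.leaf cE827) (BT.leaf cE828)))))))) (BT.node 911 (BT.node 870 (BT.node 849 (BT.node 839 (BT.node 834 (BT.node 831 (BT.node 830 (BT.node 829 (BT.leaf cE829) (BT.leaf cE830)) (BT.leaf cE831)) (BT.node 833 (BT.node 832 (BT.leaf cE832) (BT.leaf cE833))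 (BT.leaf cE834))) (BT.node 837 (BT.node 836 (BT.node 835 (BT.leaf cE835) (BT.leaf cE836)) (BT.leaf cE837)) (BT.node 838 (BT.leaf cE838) (BT.leaf cE839)))) (BT.node 844 (BT.node 842 (BT.node 841 (BT.node 840 (BT.leaf cE840) (BT.leaf cE841)) (BT.leaf cE842)) (BT.node 843 (BT.leaf cE843) (BT.leaf cE844))) (BT.node 847 (BT.node 846 (BT.node 845 (BT.leaf cE845) (BT.leaf cE846)) (BT.leaf cE847)) (BT.node 848 (BT.leaf cE848) (BT.leaf cE849))))) (BT.node 860 (BT.node 855 (BT.node 852 (BT.node 851 (BT.node 850 (BT.leaf cE850) (BT.leaf cE851)) (BT.leaf cE852)) (BT.node 854 (BT.node 853 (BT.leaf cE853) (BT.leaf cE854)) (BT.leaf cE855))) (BT.node 858 (BT.node 857 (BT.node 856 (BT.leaf cE856) (BT.leaf cE857)) (BT.leaf cE858)) (BT.node 859 (BT.leaf cE859) (BT.leaf cE860)))) (BT.node 865 (BT.node 863 (BT.node 862 (BT.node 861 (BT.leaf cE861) (BT.leaf cE862)) (BT.leaf cE863))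 (BT.node 864 (BT.leaf cE864) (BT.leaf cE865))) (BT.node 868 (BT.node 867 (BT.node 866 (BT.leaf cE866) (BT.leaf cE867)) (BT.leaf cE868)) (BT.node 869 (BT.leaf cE869) (BT.leaf cE870)))))) (BT.node 891 (BT.node 881 (BT.node 876 (BT.node 873 (BT.node 872 (BT.node 871 (BT.leaf cE871) (BT.leaf cE872)) (BT.leaf cE873)) (BT.node 875 (BT.node 874 (BT.leaf cE874) (BT.leaf cE875)) (BT.leaf cE876))) (BT.node 879 (BT.node 878 (BT.node 877 (BT.leaf cE877) (BT.leaf cE878)) (BT.leaf cE879)) (BT.node 880 (BT.leaf cE880) (BT.leaf cE881)))) (BT.node 886 (BT.node 884 (BT.node 883 (BT.node 882 (BT.leaf cE882) (BT.leaf cE883)) (BT.leaf cE884)) (BT.node 885 (BT.leaf cE885) (BT.leaf cE886))) (BT.node 889 (BT.node 888 (BT.node 887 (BT.leaf cE887) (BT.leaf cE888)) (BT.leaf cE889)) (BT.node 890 (BT.leaf cE890) (BT.leaf cE891))))) (BT.node 901 (BT.node 896 (BT.node 894 (BT.node 893 (BT.node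 892 (BT.leaf cE892) (BT.leaf cE893)) (BT.leaf cE894)) (BT.node 895 (BT.leaf cE895) (BT.leaf cE896))) (BT.node 899 (BT.node 898 (BT.node 897 (BT.leaf cE897) (BT.leaf cE898)) (BT.leaf cE899)) (BT.node 900 (BT.leaf cE900) (BT.leaf cE901)))) (BT.node 906 (BT.node 904 (BT.node 903 (BT.node 902 (BT.leaf cE902) (BT.leaf cE903)) (BT.leaf cE904)) (BT.node 905 (BT.leaf cE905) (BT.leaf cE906))) (BT.node 909 (BT.node 908 (BT.node 907 (BT.leaf cE907) (BT.leaf cE908)) (BT.leaf cE909)) (BT.node 910 (BT.leaf cE910) (BT.leaf cE911))))))) (BT.node 952 (BT.node 932 (BT.node 922 (BT.node 917 (BT.node 914 (BT.node 913 (BT.node 912 (BT.leaf cE912) (BT.leaf cE913)) (BT.leaf cE914)) (BT.node 916 (BT.node 915 (BT.leaf cE915) (BT.leaf cE916)) (BT.leaf cE917))) (BT.node 920 (BT.node 919 (BT.node 918 (BT.leaf cE918) (BT.leaf cE919)) (BT.leaf cE920)) (BT.node 921 (BT.leaf cE921) (BT.leaf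 cE922)))) (BT.node 927 (BT.node 925 (BT.node 924 (BT.node 923 (BT.leaf cE923) (BT.leaf cE924)) (BT.leaf cE925)) (BT.node 926 (BT.leaf cE926) (BT.leaf cE927))) (BT.node 930 (BT.node 929 (BT.node 928 (BT.leaf cE928) (BT.leaf cE929)) (BT.leaf cE930)) (BT.node 931 (BT.leaf cE931) (BT.leaf cE932))))) (BT.node 942 (BT.node 937 (BT.node 935 (BT.node 934 (BT.node 933 (BT.leaf cE933) (BT.leaf cE934)) (BT.leaf cE935)) (BT.node 936 (BT.leaf cE936) (BT.leaf cE937))) (BT.node 940 (BT.node 939 (BT.node 938 (BT.leaf cE938) (BT.leaf cE939)) (BT.leaf cE940)) (BT.node 941 (BT.leaf cE941) (BT.leaf cE942)))) (BT.node 947 (BT.node 945 (BT.node 944 (BT.node 943 (BT.leaf cE943) (BT.leaf cE944)) (BT.leaf cE945)) (BT.node 946 (BT.leaf cE946) (BT.leaf cE947))) (BT.node 950 (BT.node 949 (BT.node 948 (BT.leaf cE948) (BT.leaf cE949)) (BT.leaf cE950)) (BT.node 951 (BT.leaf cE951) (BT.leaf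 cE952)))))) (BT.node 973 (BT.node 963 (BT.node 958 (BT.node 955 (BT.node 954 (BT.node 953 (BT.leaf cE953) (BT.leaf cE954)) (BT.leaf cE955)) (BT.node 957 (BT.node 956 (BT.leaf cE956) (BT.leaf cE957)) (BT.leaf cE958))) (BT.node 961 (BT.node 960 (BT.node 959 (BT.leaf cE959) (BT.leaf cE960)) (BT.leaf cE961)) (BT.node 962 (BT.leaf cE962) (BT.leaf cE963)))) (BT.node 968 (BT.node 966 (BT.node 965 (BT.node 964 (BT.leaf cE964) (BT.leaf cE965)) (BT.leaf cE966)) (BT.node 967 (BT.leaf cE967) (BT.leaf cE968))) (BT.node 971 (BT.node 970 (BT.node 969 (BT.leaf cE969) (BT.leaf cE970)) (BT.leaf cE971)) (BT.node 972 (BT.leaf cE972) (BT.leaf cE973))))) (BT.node 983 (BT.node 978 (BT.node 976 (BT.node 975 (BT.node 974 (BT.leaf cE974) (BT.leaf cE975)) (BT.leaf cE976)) (BT.node 977 (BT.leaf cE977) (BT.leaf cE978))) (BT.node 981 (BT.node 980 (BT.node 979 (BT.leaf cE979) (BT.leaf cE980))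 (BT.leaf cE981)) (BT.node 982 (BT.leaf cE982) (BT.leaf cE983)))) (BT.node 988 (BT.node 986 (BT.node 985 (BT.node 984 (BT.leaf cE984) (BT.leaf cE985)) (BT.leaf cE986)) (BT.node 987 (BT.leaf cE987) (BT.leaf cE988))) (BT.node 991 (BT.node 990 (BT.node 989 (BT.leaf cE989) (BT.leaf cE990)) (BT.leaf cE991)) (BT.node 992 (BT.leaf cE992) (BT.leaf cE993))))))))) (BT.node 1159 (BT.node 1076 (BT.node 1035 (BT.node 1014 (BT.node 1004 (BT.node 999 (BT.node 996 (BT.node 995 (BT.node 994 (BT.leaf cE994) (BT.leaf cE995)) (BT.leaf cE996)) (BT.node 998 (BT.node 997 (BT.leaf cE997) (BT.leaf cE998)) (BT.leaf cE999))) (BT.node 1002 (BT.node 1001 (BT.node 1000 (BT.leaf cE1000) (BT.leaf cE1001)) (BT.leaf cE1002)) (BT.node 1003 (BT.leaf cE1003) (BT.leaf cE1004)))) (BT.node 1009 (BT.node 1007 (BT.node 1006 (BT.node 1005 (BT.leaf cE1005) (BT.leaf cE1006)) (BT.leaf cE1007)) (BT.node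 1008 (BT.leaf cE1008) (BT.leaf cE1009))) (BT.node 1012 (BT.node 1011 (BT.node 1010 (BT.leaf cE1010) (BT.leaf cE1011)) (BT.leaf cE1012)) (BT.node 1013 (BT.leaf cE1013) (BT.leaf cE1014))))) (BT.node 1025 (BT.node 1020 (BT.node 1017 (BT.node 1016 (BT.node 1015 (BT.leaf cE1015) (BT.leaf cE1016)) (BT.leaf cE1017)) (BT.node 1019 (BT.node 1018 (BT.leaf cE1018) (BT.leaf cE1019)) (BT.leaf cE1020))) (BT.node 1023 (BT.node 1022 (BT.node 1021 (BT.leaf cE1021) (BT.leaf cE1022)) (BT.leaf cE1023)) (BT.node 1024 (BT.leaf cE1024) (BT.leaf cE1025)))) (BT.node 1030 (BT.node 1028 (BT.node 1027 (BT.node 1026 (BT.leaf cE1026) (BT.leaf cE1027)) (BT.leaf cE1028)) (BT.node 1029 (BT.leaf cE1029) (BT.leaf cE1030))) (BT.node 1033 (BT.node 1032 (BT.node 1031 (BT.leaf cE1031) (BT.leaf cE1032)) (BT.leaf cE1033)) (BT.node 1034 (BT.leaf cE1034) (BT.leaf cE1035)))))) (BT.node 1056 (BT.node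 1046 (BT.node 1041 (BT.node 1038 (BT.node 1037 (BT.node 1036 (BT.leaf cE1036) (BT.leaf cE1037)) (BT.leaf cE1038)) (BT.node 1040 (BT.node 1039 (BT.leaf cE1039) (BT.leaf cE1040)) (BT.leaf cE1041))) (BT.node 1044 (BT.node 1043 (BT.node 1042 (BT.leaf cE1042) (BT.leaf cE1043)) (BT.leaf cE1044)) (BT.node 1045 (BT.leaf cE1045) (BT.leaf cE1046)))) (BT.node 1051 (BT.node 1049 (BT.node 1048 (BT.node 1047 (BT.leaf cE1047) (BT.leaf cE1048)) (BT.leaf cE1049)) (BT.node 1050 (BT.leaf cE1050) (BT.leaf cE1051))) (BT.node 1054 (BT.node 1053 (BT.node 1052 (BT.leaf cE1052) (BT.leaf cE1053)) (BT.leaf cE1054)) (BT.node 1055 (BT.leaf cE1055) (BT.leaf cE1056))))) (BT.node 1066 (BT.node 1061 (BT.node 1059 (BT.node 1058 (BT.node 1057 (BT.leaf cE1057) (BT.leaf cE1058)) (BT.leaf cE1059)) (BT.node 1060 (BT.leaf cE1060) (BT.leaf cE1061))) (BT.node 1064 (BT.node 1063 (BT.node 1062 (BT.leaf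 cE1062) (BT.leaf cE1063)) (BT.leaf cE1064)) (BT.node 1065 (BT.leaf cE1065) (BT.leaf cE1066)))) (BT.node 1071 (BT.node 1069 (BT.node 1068 (BT.node 1067 (BT.leaf cE1067) (BT.leaf cE1068)) (BT.leaf cE1069)) (BT.node 1070 (BT.leaf cE1070) (BT.leaf cE1071))) (BT.node 1074 (BT.node 1073 (BT.node 1072 (BT.leaf cE1072) (BT.leaf cE1073)) (BT.leaf cE1074)) (BT.node 1075 (BT.leaf cE1075) (BT.leaf cE1076))))))) (BT.node 1118 (BT.node 1097 (BT.node 1087 (BT.node 1082 (BT.node 1079 (BT.node 1078 (BT.node 1077 (BT.leaf cE1077) (BT.leaf cE1078)) (BT.leaf cE1079)) (BT.node 1081 (BT.node 1080 (BT.leaf cE1080) (BT.leaf cE1081)) (BT.leaf cE1082))) (BT.node 1085 (BT.node 1084 (BT.node 1083 (BT.leaf cE1083) (BT.leaf cE1084)) (BT.leaf cE1085)) (BT.node 1086 (BT.leaf cE1086) (BT.leaf cE1087)))) (BT.node 1092 (BT.node 1090 (BT.node 1089 (BT.node 1088 (BT.leaf cE1088) (BT.leaf cE1089))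 (BT.leaf cE1090)) (BT.node 1091 (BT.leaf cE1091) (BT.leaf cE1092))) (BT.node 1095 (BT.node 1094 (BT.node 1093 (BT.leaf cE1093) (BT.leaf cE1094)) (BT.leaf cE1095)) (BT.node 1096 (BT.leaf cE1096) (BT.leaf cE1097))))) (BT.node 1108 (BT.node 1103 (BT.node 1100 (BT.node 1099 (BT.node 1098 (BT.leaf cE1098) (BT.leaf cE1099)) (BT.leaf cE1100)) (BT.node 1102 (BT.node 1101 (BT.leaf cE1101) (BT.leaf cE1102)) (BT.leaf cE1103))) (BT.node 1106 (BT.node 1105 (BT.node 1104 (BT.leaf cE1104) (BT.leaf cE1105)) (BT.leaf cE1106)) (BT.node 1107 (BT.leaf cE1107) (BT.leaf cE1108)))) (BT.node 1113 (BT.node 1111 (BT.node 1110 (BT.node 1109 (BT.leaf cE1109) (BT.leaf cE1110)) (BT.leaf cE1111)) (BT.node 1112 (BT.leaf cE1112) (BT.leaf cE1113))) (BT.node 1116 (BT.node 1115 (BT.node 1114 (BT.leaf cE1114) (BT.leaf cE1115)) (BT.leaf cE1116)) (BT.node 1117 (BT.leaf cE1117) (BT.leaf cE1118))))))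 (BT.node 1139 (BT.node 1129 (BT.node 1124 (BT.node 1121 (BT.node 1120 (BT.node 1119 (BT.leaf cE1119) (BT.leaf cE1120)) (BT.leaf cE1121)) (BT.node 1123 (BT.node 1122 (BT.leaf cE1122) (BT.leaf cE1123)) (BT.leaf cE1124))) (BT.node 1127 (BT.node 1126 (BT.node 1125 (BT.leaf cE1125) (BT.leaf cE1126)) (BT.leaf cE1127)) (BT.node 1128 (BT.leaf cE1128) (BT.leaf cE1129)))) (BT.node 1134 (BT.node 1132 (BT.node 1131 (BT.node 1130 (BT.leaf cE1130) (BT.leaf cE1131)) (BT.leaf cE1132)) (BT.node 1133 (BT.leaf cE1133) (BT.leaf cE1134))) (BT.node 1137 (BT.node 1136 (BT.node 1135 (BT.leaf cE1135) (BT.leaf cE1136)) (BT.leaf cE1137)) (BT.node 1138 (BT.leaf cE1138) (BT.leaf cE1139))))) (BT.node 1149 (BT.node 1144 (BT.node 1142 (BT.node 1141 (BT.node 1140 (BT.leaf cE1140) (BT.leaf cE1141)) (BT.leaf cE1142)) (BT.node 1143 (BT.leaf cE1143) (BT.leaf cE1144))) (BT.node 1147 (BT.node 1146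 (BT.node 1145 (BT.leaf cE1145) (BT.leaf cE1146)) (BT.leaf cE1147)) (BT.node 1148 (BT.leaf cE1148) (BT.leaf cE1149)))) (BT.node 1154 (BT.node 1152 (BT.node 1151 (BT.node 1150 (BT.leaf cE1150) (BT.leaf cE1151)) (BT.leaf cE1152)) (BT.node 1153 (BT.leaf cE1153) (BT.leaf cE1154))) (BT.node 1157 (BT.node 1156 (BT.node 1155 (BT.leaf cE1155) (BT.leaf cE1156)) (BT.leaf cE1157)) (BT.node 1158 (BT.leaf cE1158) (BT.leaf cE1159)))))))) (BT.node 1242 (BT.node 1201 (BT.node 1180 (BT.node 1170 (BT.node 1165 (BT.node 1162 (BT.node 1161 (BT.node 1160 (BT.leaf cE1160) (BT.leaf cE1161)) (BT.leaf cE1162)) (BT.node 1164 (BT.node 1163 (BT.leaf cE1163) (BT.leaf cE1164)) (BT.leaf cE1165))) (BT.node 1168 (BT.node 1167 (BT.node 1166 (BT.leaf cE1166) (BT.leaf cE1167)) (BT.leaf cE1168)) (BT.node 1169 (BT.leaf cE1169) (BT.leaf cE1170)))) (BT.node 1175 (BT.node 1173 (BT.node 1172 (BT.node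 1171 (BT.leaf cE1171) (BT.leaf cE1172)) (BT.leaf cE1173)) (BT.node 1174 (BT.leaf cE1174) (BT.leaf cE1175))) (BT.node 1178 (BT.node 1177 (BT.node 1176 (BT.leaf cE1176) (BT.leaf cE1177)) (BT.leaf cE1178)) (BT.node 1179 (BT.leaf cE1179) (BT.leaf cE1180))))) (BT.node 1191 (BT.node 1186 (BT.node 1183 (BT.node 1182 (BT.node 1181 (BT.leaf cE1181) (BT.leaf cE1182)) (BT.leaf cE1183)) (BT.node 1185 (BT.node 1184 (BT.leaf cE1184) (BT.leaf cE1185)) (BT.leaf cE1186))) (BT.node 1189 (BT.node 1188 (BT.node 1187 (BT.leaf cE1187) (BT.leaf cE1188)) (BT.leaf cE1189)) (BT.node 1190 (BT.leaf cE1190) (BT.leaf cE1191)))) (BT.node 1196 (BT.node 1194 (BT.node 1193 (BT.node 1192 (BT.leaf cE1192) (BT.leaf cE1193)) (BT.leaf cE1194)) (BT.node 1195 (BT.leaf cE1195) (BT.leaf cE1196))) (BT.node 1199 (BT.node 1198 (BT.node 1197 (BT.leaf cE1197) (BT.leaf cE1198)) (BT.leaf cE1199)) (BT.node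 1200 (BT.leaf cE1200) (BT.leaf cE1201)))))) (BT.node 1222 (BT.node 1212 (BT.node 1207 (BT.node 1204 (BT.node 1203 (BT.node 1202 (BT.leaf cE1202) (BT.leaf cE1203)) (BT.leaf cE1204)) (BT.node 1206 (BT.node 1205 (BT.leaf cE1205) (BT.leaf cE1206)) (BT.leaf cE1207))) (BT.node 1210 (BT.node 1209 (BT.node 1208 (BT.leaf cE1208) (BT.leaf cE1209)) (BT.leaf cE1210)) (BT.node 1211 (BT.leaf cE1211) (BT.leaf cE1212)))) (BT.node 1217 (BT.node 1215 (BT.node 1214 (BT.node 1213 (BT.leaf cE1213) (BT.leaf cE1214)) (BT.leaf cE1215)) (BT.node 1216 (BT.leaf cE1216) (BT.leaf cE1217))) (BT.node 1220 (BT.node 1219 (BT.node 1218 (BT.leaf cE1218) (BT.leaf cE1219)) (BT.leaf cE1220)) (BT.node 1221 (BT.leaf cE1221) (BT.leaf cE1222))))) (BT.node 1232 (BT.node 1227 (BT.node 1225 (BT.node 1224 (BT.node 1223 (BT.leaf cE1223) (BT.leaf cE1224)) (BT.leaf cE1225)) (BT.node 1226 (BT.leaf cE1226)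 (BT.leaf cE1227))) (BT.node 1230 (BT.node 1229 (BT.node 1228 (BT.leaf cE1228) (BT.leaf cE1229)) (BT.leaf cE1230)) (BT.node 1231 (BT.leaf cE1231) (BT.leaf cE1232)))) (BT.node 1237 (BT.node 1235 (BT.node 1234 (BT.node 1233 (BT.leaf cE1233) (BT.leaf cE1234)) (BT.leaf cE1235)) (BT.node 1236 (BT.leaf cE1236) (BT.leaf cE1237))) (BT.node 1240 (BT.node 1239 (BT.node 1238 (BT.leaf cE1238) (BT.leaf cE1239)) (BT.leaf cE1240)) (BT.node 1241 (BT.leaf cE1241) (BT.leaf cE1242))))))) (BT.node 1283 (BT.node 1263 (BT.node 1253 (BT.node 1248 (BT.node 1245 (BT.node 1244 (BT.node 1243 (BT.leaf cE1243) (BT.leaf cE1244)) (BT.leaf cE1245)) (BT.node 1247 (BT.node 1246 (BT.leaf cE1246) (BT.leaf cE1247)) (BT.leaf cE1248))) (BT.node 1251 (BT.node 1250 (BT.node 1249 (BT.leaf cE1249) (BT.leaf cE1250)) (BT.leaf cE1251)) (BT.node 1252 (BT.leaf cE1252) (BT.leaf cE1253)))) (BT.node 1258 (BT.node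 1256 (BT.node 1255 (BT.node 1254 (BT.leaf cE1254) (BT.leaf cE1255)) (BT.leaf cE1256)) (BT.node 1257 (BT.leaf cE1257) (BT.leaf cE1258))) (BT.node 1261 (BT.node 1260 (BT.node 1259 (BT.leaf cE1259) (BT.leaf cE1260)) (BT.leaf cE1261)) (BT.node 1262 (BT.leaf cE1262) (BT.leaf cE1263))))) (BT.node 1273 (BT.node 1268 (BT.node 1266 (BT.node 1265 (BT.node 1264 (BT.leaf cE1264) (BT.leaf cE1265)) (BT.leaf cE1266)) (BT.node 1267 (BT.leaf cE1267) (BT.leaf cE1268))) (BT.node 1271 (BT.node 1270 (BT.node 1269 (BT.leaf cE1269) (BT.leaf cE1270)) (BT.leaf cE1271)) (BT.node 1272 (BT.leaf cE1272) (BT.leaf cE1273)))) (BT.node 1278 (BT.node 1276 (BT.node 1275 (BT.node 1274 (BT.leaf cE1274) (BT.leaf cE1275)) (BT.leaf cE1276)) (BT.node 1277 (BT.leaf cE1277) (BT.leaf cE1278))) (BT.node 1281 (BT.node 1280 (BT.node 1279 (BT.leaf cE1279) (BT.leaf cE1280)) (BT.leaf cE1281)) (BT.node 1282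 (BT.leaf cE1282) (BT.leaf cE1283)))))) (BT.node 1304 (BT.node 1294 (BT.node 1289 (BT.node 1286 (BT.node 1285 (BT.node 1284 (BT.leaf cE1284) (BT.leaf cE1285)) (BT.leaf cE1286)) (BT.node 1288 (BT.node 1287 (BT.leaf cE1287) (BT.leaf cE1288)) (BT.leaf cE1289))) (BT.node 1292 (BT.node 1291 (BT.node 1290 (BT.leaf cE1290) (BT.leaf cE1291)) (BT.leaf cE1292)) (BT.node 1293 (BT.leaf cE1293) (BT.leaf cE1294)))) (BT.node 1299 (BT.node 1297 (BT.node 1296 (BT.node 1295 (BT.leaf cE1295) (BT.leaf cE1296)) (BT.leaf cE1297)) (BT.node 1298 (BT.leaf cE1298) (BT.leaf cE1299))) (BT.node 1302 (BT.node 1301 (BT.node 1300 (BT.leaf cE1300) (BT.leaf cE1301)) (BT.leaf cE1302)) (BT.node 1303 (BT.leaf cE1303) (BT.leaf cE1304))))) (BT.node 1314 (BT.node 1309 (BT.node 1307 (BT.node 1306 (BT.node 1305 (BT.leaf cE1305) (BT.leaf cE1306)) (BT.leaf cE1307)) (BT.node 1308 (BT.leaf cE1308) (BT.leaf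 cE1309))) (BT.node 1312 (BT.node 1311 (BT.node 1310 (BT.leaf cE1310) (BT.leaf cE1311)) (BT.leaf cE1312)) (BT.node 1313 (BT.leaf cE1313) (BT.leaf cE1314)))) (BT.node 1319 (BT.node 1317 (BT.node 1316 (BT.node 1315 (BT.leaf cE1315) (BT.leaf cE1316)) (BT.leaf cE1317)) (BT.node 1318 (BT.leaf cE1318) (BT.leaf cE1319))) (BT.node 1322 (BT.node 1321 (BT.node 1320 (BT.leaf cE1320) (BT.leaf cE1321)) (BT.leaf cE1322)) (BT.node 1323 (BT.leaf cE1323) (BT.leaf cE1324))))))))))) (BT.node 1987 (BT.node 1656 (BT.node 1490 (BT.node 1407 (BT.node 1366 (BT.node 1345 (BT.node 1335 (BT.node 1330 (BT.node 1327 (BT.node 1326 (BT.node 1325 (BT.leaf cE1325) (BT.leaf cE1326)) (BT.leaf cE1327)) (BT.node 1329 (BT.node 1328 (BT.leaf cE1328) (BT.leaf cE1329)) (BT.leaf cE1330))) (BT.node 1333 (BT.node 1332 (BT.node 1331 (BT.leaf cE1331) (BT.leaf cE1332)) (BT.leaf cE1333)) (BT.node 1334 (BT.leaf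 cE1334) (BT.leaf cE1335)))) (BT.node 1340 (BT.node 1338 (BT.node 1337 (BT.node 1336 (BT.leaf cE1336) (BT.leaf cE1337)) (BT.leaf cE1338)) (BT.node 1339 (BT.leaf cE1339) (BT.leaf cE1340))) (BT.node 1343 (BT.node 1342 (BT.node 1341 (BT.leaf cE1341) (BT.leaf cE1342)) (BT.leaf cE1343)) (BT.node 1344 (BT.leaf cE1344) (BT.leaf cE1345))))) (BT.node 1356 (BT.node 1351 (BT.node 1348 (BT.node 1347 (BT.node 1346 (BT.leaf cE1346) (BT.leaf cE1347)) (BT.leaf cE1348)) (BT.node 1350 (BT.node 1349 (BT.leaf cE1349) (BT.leaf cE1350)) (BT.leaf cE1351))) (BT.node 1354 (BT.node 1353 (BT.node 1352 (BT.leaf cE1352) (BT.leaf cE1353)) (BT.leaf cE1354)) (BT.node 1355 (BT.leaf cE1355) (BT.leaf cE1356)))) (BT.node 1361 (BT.node 1359 (BT.node 1358 (BT.node 1357 (BT.leaf cE1357) (BT.leaf cE1358)) (BT.leaf cE1359)) (BT.node 1360 (BT.leaf cE1360) (BT.leaf cE1361))) (BT.node 1364 (BT.node 1363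 (BT.node 1362 (BT.leaf cE1362) (BT.leaf cE1363)) (BT.leaf cE1364)) (BT.node 1365 (BT.leaf cE1365) (BT.leaf cE1366)))))) (BT.node 1387 (BT.node 1377 (BT.node 1372 (BT.node 1369 (BT.node 1368 (BT.node 1367 (BT.leaf cE1367) (BT.leaf cE1368)) (BT.leaf cE1369)) (BT.node 1371 (BT.node 1370 (BT.leaf cE1370) (BT.leaf cE1371)) (BT.leaf cE1372))) (BT.node 1375 (BT.node 1374 (BT.node 1373 (BT.leaf cE1373) (BT.leaf cE1374)) (BT.leaf cE1375)) (BT.node 1376 (BT.leaf cE1376) (BT.leaf cE1377)))) (BT.node 1382 (BT.node 1380 (BT.node 1379 (BT.node 1378 (BT.leaf cE1378) (BT.leaf cE1379)) (BT.leaf cE1380)) (BT.node 1381 (BT.leaf cE1381) (BT.leaf cE1382))) (BT.node 1385 (BT.node 1384 (BT.node 1383 (BT.leaf cE1383) (BT.leaf cE1384)) (BT.leaf cE1385)) (BT.node 1386 (BT.leaf cE1386) (BT.leaf cE1387))))) (BT.node 1397 (BT.node 1392 (BT.node 1390 (BT.node 1389 (BT.node 1388 (BT.leaf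 cE1388) (BT.leaf cE1389)) (BT.leaf cE1390)) (BT.node 1391 (BT.leaf cE1391) (BT.leaf cE1392))) (BT.node 1395 (BT.node 1394 (BT.node 1393 (BT.leaf cE1393) (BT.leaf cE1394)) (BT.leaf cE1395)) (BT.node 1396 (BT.leaf cE1396) (BT.leaf cE1397)))) (BT.node 1402 (BT.node 1400 (BT.node 1399 (BT.node 1398 (BT.leaf cE1398) (BT.leaf cE1399)) (BT.leaf cE1400)) (BT.node 1401 (BT.leaf cE1401) (BT.leaf cE1402))) (BT.node 1405 (BT.node 1404 (BT.node 1403 (BT.leaf cE1403) (BT.leaf cE1404)) (BT.leaf cE1405)) (BT.node 1406 (BT.leaf cE1406) (BT.leaf cE1407))))))) (BT.node 1449 (BT.node 1428 (BT.node 1418 (BT.node 1413 (BT.node 1410 (BT.node 1409 (BT.node 1408 (BT.leaf cE1408) (BT.leaf cE1409)) (BT.leaf cE1410)) (BT.node 1412 (BT.node 1411 (BT.leaf cE1411) (BT.leaf cE1412)) (BT.leaf cE1413))) (BT.node 1416 (BT.node 1415 (BT.node 1414 (BT.leaf cE1414) (BT.leaf cE1415)) (BT.leaf cE1416))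 (BT.node 1417 (BT.leaf cE1417) (BT.leaf cE1418)))) (BT.node 1423 (BT.node 1421 (BT.node 1420 (BT.node 1419 (BT.leaf cE1419) (BT.leaf cE1420)) (BT.leaf cE1421)) (BT.node 1422 (BT.leaf cE1422) (BT.leaf cE1423))) (BT.node 1426 (BT.node 1425 (BT.node 1424 (BT.leaf cE1424) (BT.leaf cE1425)) (BT.leaf cE1426)) (BT.node 1427 (BT.leaf cE1427) (BT.leaf cE1428))))) (BT.node 1439 (BT.node 1434 (BT.node 1431 (BT.node 1430 (BT.node 1429 (BT.leaf cE1429) (BT.leaf cE1430)) (BT.leaf cE1431)) (BT.node 1433 (BT.node 1432 (BT.leaf cE1432) (BT.leaf cE1433)) (BT.leaf cE1434))) (BT.node 1437 (BT.node 1436 (BT.node 1435 (BT.leaf cE1435) (BT.leaf cE1436)) (BT.leaf cE1437)) (BT.node 1438 (BT.leaf cE1438) (BT.leaf cE1439)))) (BT.node 1444 (BT.node 1442 (BT.node 1441 (BT.node 1440 (BT.leaf cE1440) (BT.leaf cE1441)) (BT.leaf cE1442)) (BT.node 1443 (BT.leaf cE1443) (BT.leaf cE1444))) (BT.node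 1447 (BT.node 1446 (BT.node 1445 (BT.leaf cE1445) (BT.leaf cE1446)) (BT.leaf cE1447)) (BT.node 1448 (BT.leaf cE1448) (BT.leaf cE1449)))))) (BT.node 1470 (BT.node 1460 (BT.node 1455 (BT.node 1452 (BT.node 1451 (BT.node 1450 (BT.leaf cE1450) (BT.leaf cE1451)) (BT.leaf cE1452)) (BT.node 1454 (BT.node 1453 (BT.leaf cE1453) (BT.leaf cE1454)) (BT.leaf cE1455))) (BT.node 1458 (BT.node 1457 (BT.node 1456 (BT.leaf cE1456) (BT.leaf cE1457)) (BT.leaf cE1458)) (BT.node 1459 (BT.leaf cE1459) (BT.leaf cE1460)))) (BT.node 1465 (BT.node 1463 (BT.node 1462 (BT.node 1461 (BT.leaf cE1461) (BT.leaf cE1462)) (BT.leaf cE1463)) (BT.node 1464 (BT.leaf cE1464) (BT.leaf cE1465))) (BT.node 1468 (BT.node 1467 (BT.node 1466 (BT.leaf cE1466) (BT.leaf cE1467)) (BT.leaf cE1468)) (BT.node 1469 (BT.leaf cE1469) (BT.leaf cE1470))))) (BT.node 1480 (BT.node 1475 (BT.node 1473 (BT.node 1472 (BT.node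 1471 (BT.leaf cE1471) (BT.leaf cE1472)) (BT.leaf cE1473)) (BT.node 1474 (BT.leaf cE1474) (BT.leaf cE1475))) (BT.node 1478 (BT.node 1477 (BT.node 1476 (BT.leaf cE1476) (BT.leaf cE1477)) (BT.leaf cE1478)) (BT.node 1479 (BT.leaf cE1479) (BT.leaf cE1480)))) (BT.node 1485 (BT.node 1483 (BT.node 1482 (BT.node 1481 (BT.leaf cE1481) (BT.leaf cE1482)) (BT.leaf cE1483)) (BT.node 1484 (BT.leaf cE1484) (BT.leaf cE1485))) (BT.node 1488 (BT.node 1487 (BT.node 1486 (BT.leaf cE1486) (BT.leaf cE1487)) (BT.leaf cE1488)) (BT.node 1489 (BT.leaf cE1489) (BT.leaf cE1490)))))))) (BT.node 1573 (BT.node 1532 (BT.node 1511 (BT.node 1501 (BT.node 1496 (BT.node 1493 (BT.node 1492 (BT.node 1491 (BT.leaf cE1491) (BT.leaf cE1492)) (BT.leaf cE1493)) (BT.node 1495 (BT.node 1494 (BT.leaf cE1494) (BT.leaf cE1495)) (BT.leaf cE1496))) (BT.node 1499 (BT.node 1498 (BT.node 1497 (BT.leaf cE1497)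 (BT.leaf cE1498)) (BT.leaf cE1499)) (BT.node 1500 (BT.leaf cE1500) (BT.leaf cE1501)))) (BT.node 1506 (BT.node 1504 (BT.node 1503 (BT.node 1502 (BT.leaf cE1502) (BT.leaf cE1503)) (BT.leaf cE1504)) (BT.node 1505 (BT.leaf cE1505) (BT.leaf cE1506))) (BT.node 1509 (BT.node 1508 (BT.node 1507 (BT.leaf cE1507) (BT.leaf cE1508)) (BT.leaf cE1509)) (BT.node 1510 (BT.leaf cE1510) (BT.leaf cE1511))))) (BT.node 1522 (BT.node 1517 (BT.node 1514 (BT.node 1513 (BT.node 1512 (BT.leaf cE1512) (BT.leaf cE1513)) (BT.leaf cE1514)) (BT.node 1516 (BT.node 1515 (BT.leaf cE1515) (BT.leaf cE1516)) (BT.leaf cE1517))) (BT.node 1520 (BT.node 1519 (BT.node 1518 (BT.leaf cE1518) (BT.leaf cE1519)) (BT.leaf cE1520)) (BT.node 1521 (BT.leaf cE1521) (BT.leaf cE1522)))) (BT.node 1527 (BT.node 1525 (BT.node 1524 (BT.node 1523 (BT.leaf cE1523) (BT.leaf cE1524)) (BT.leaf cE1525)) (BT.node 1526 (BT.leaf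 cE1526) (BT.leaf cE1527))) (BT.node 1530 (BT.node 1529 (BT.node 1528 (BT.leaf cE1528) (BT.leaf cE1529)) (BT.leaf cE1530)) (BT.node 1531 (BT.leaf cE1531) (BT.leaf cE1532)))))) (BT.node 1553 (BT.node 1543 (BT.node 1538 (BT.node 1535 (BT.node 1534 (BT.node 1533 (BT.leaf cE1533) (BT.leaf cE1534)) (BT.leaf cE1535)) (BT.node 1537 (BT.node 1536 (BT.leaf cE1536) (BT.leaf cE1537)) (BT.leaf cE1538))) (BT.node 1541 (BT.node 1540 (BT.node 1539 (BT.leaf cE1539) (BT.leaf cE1540)) (BT.leaf cE1541)) (BT.node 1542 (BT.leaf cE1542) (BT.leaf cE1543)))) (BT.node 1548 (BT.node 1546 (BT.node 1545 (BT.node 1544 (BT.leaf cE1544) (BT.leaf cE1545)) (BT.leaf cE1546)) (BT.node 1547 (BT.leaf cE1547) (BT.leaf cE1548))) (BT.node 1551 (BT.node 1550 (BT.node 1549 (BT.leaf cE1549) (BT.leaf cE1550)) (BT.leaf cE1551)) (BT.node 1552 (BT.leaf cE1552) (BT.leaf cE1553))))) (BT.node 1563 (BT.node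 1558 (BT.node 1556 (BT.node 1555 (BT.node 1554 (BT.leaf cE1554) (BT.leaf cE1555)) (BT.leaf cE1556)) (BT.node 1557 (BT.leaf cE1557) (BT.leaf cE1558))) (BT.node 1561 (BT.node 1560 (BT.node 1559 (BT.leaf cE1559) (BT.leaf cE1560)) (BT.leaf cE1561)) (BT.node 1562 (BT.leaf cE1562) (BT.leaf cE1563)))) (BT.node 1568 (BT.node 1566 (BT.node 1565 (BT.node 1564 (BT.leaf cE1564) (BT.leaf cE1565)) (BT.leaf cE1566)) (BT.node 1567 (BT.leaf cE1567) (BT.leaf cE1568))) (BT.node 1571 (BT.node 1570 (BT.node 1569 (BT.leaf cE1569) (BT.leaf cE1570)) (BT.leaf cE1571)) (BT.node 1572 (BT.leaf cE1572) (BT.leaf cE1573))))))) (BT.node 1615 (BT.node 1594 (BT.node 1584 (BT.node 1579 (BT.node 1576 (BT.node 1575 (BT.node 1574 (BT.leaf cE1574) (BT.leaf cE1575)) (BT.leaf cE1576)) (BT.node 1578 (BT.node 1577 (BT.leaf cE1577) (BT.leaf cE1578)) (BT.leaf cE1579))) (BT.node 1582 (BT.node 1581 (BT.node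 1580 (BT.leaf cE1580) (BT.leaf cE1581)) (BT.leaf cE1582)) (BT.node 1583 (BT.leaf cE1583) (BT.leaf cE1584)))) (BT.node 1589 (BT.node 1587 (BT.node 1586 (BT.node 1585 (BT.leaf cE1585) (BT.leaf cE1586)) (BT.leaf cE1587)) (BT.node 1588 (BT.leaf cE1588) (BT.leaf cE1589))) (BT.node 1592 (BT.node 1591 (BT.node 1590 (BT.leaf cE1590) (BT.leaf cE1591)) (BT.leaf cE1592)) (BT.node 1593 (BT.leaf cE1593) (BT.leaf cE1594))))) (BT.node 1605 (BT.node 1600 (BT.node 1597 (BT.node 1596 (BT.node 1595 (BT.leaf cE1595) (BT.leaf cE1596)) (BT.leaf cE1597)) (BT.node 1599 (BT.node 1598 (BT.leaf cE1598) (BT.leaf cE1599)) (BT.leaf cE1600))) (BT.node 1603 (BT.node 1602 (BT.node 1601 (BT.leaf cE1601) (BT.leaf cE1602)) (BT.leaf cE1603)) (BT.node 1604 (BT.leaf cE1604) (BT.leaf cE1605)))) (BT.node 1610 (BT.node 1608 (BT.node 1607 (BT.node 1606 (BT.leaf cE1606) (BT.leaf cE1607)) (BT.leaf cE1608))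 (BT.node 1609 (BT.leaf cE1609) (BT.leaf cE1610))) (BT.node 1613 (BT.node 1612 (BT.node 1611 (BT.leaf cE1611) (BT.leaf cE1612)) (BT.leaf cE1613)) (BT.node 1614 (BT.leaf cE1614) (BT.leaf cE1615)))))) (BT.node 1636 (BT.node 1626 (BT.node 1621 (BT.node 1618 (BT.node 1617 (BT.node 1616 (BT.leaf cE1616) (BT.leaf cE1617)) (BT.leaf cE1618)) (BT.node 1620 (BT.node 1619 (BT.leaf cE1619) (BT.leaf cE1620)) (BT.leaf cE1621))) (BT.node 1624 (BT.node 1623 (BT.node 1622 (BT.leaf cE1622) (BT.leaf cE1623)) (BT.leaf cE1624)) (BT.node 1625 (BT.leaf cE1625) (BT.leaf cE1626)))) (BT.node 1631 (BT.node 1629 (BT.node 1628 (BT.node 1627 (BT.leaf cE1627) (BT.leaf cE1628)) (BT.leaf cE1629)) (BT.node 1630 (BT.leaf cE1630) (BT.leaf cE1631))) (BT.node 1634 (BT.node 1633 (BT.node 1632 (BT.leaf cE1632) (BT.leaf cE1633)) (BT.leaf cE1634)) (BT.node 1635 (BT.leaf cE1635) (BT.leaf cE1636)))))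 (BT.node 1646 (BT.node 1641 (BT.node 1639 (BT.node 1638 (BT.node 1637 (BT.leaf cE1637) (BT.leaf cE1638)) (BT.leaf cE1639)) (BT.node 1640 (BT.leaf cE1640) (BT.leaf cE1641))) (BT.node 1644 (BT.node 1643 (BT.node 1642 (BT.leaf cE1642) (BT.leaf cE1643)) (BT.leaf cE1644)) (BT.node 1645 (BT.leaf cE1645) (BT.leaf cE1646)))) (BT.node 1651 (BT.node 1649 (BT.node 1648 (BT.node 1647 (BT.leaf cE1647) (BT.leaf cE1648)) (BT.leaf cE1649)) (BT.node 1650 (BT.leaf cE1650) (BT.leaf cE1651))) (BT.node 1654 (BT.node 1653 (BT.node 1652 (BT.leaf cE1652) (BT.leaf cE1653)) (BT.leaf cE1654)) (BT.node 1655 (BT.leaf cE1655) (BT.leaf cE1656))))))))) (BT.node 1822 (BT.node 1739 (BT.node 1698 (BT.node 1677 (BT.node 1667 (BT.node 1662 (BT.node 1659 (BT.node 1658 (BT.node 1657 (BT.leaf cE1657) (BT.leaf cE1658)) (BT.leaf cE1659)) (BT.node 1661 (BT.node 1660 (BT.leaf cE1660) (BT.leaf cE1661))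 (BT.leaf cE1662))) (BT.node 1665 (BT.node 1664 (BT.node 1663 (BT.leaf cE1663) (BT.leaf cE1664)) (BT.leaf cE1665)) (BT.node 1666 (BT.leaf cE1666) (BT.leaf cE1667)))) (BT.node 1672 (BT.node 1670 (BT.node 1669 (BT.node 1668 (BT.leaf cE1668) (BT.leaf cE1669)) (BT.leaf cE1670)) (BT.node 1671 (BT.leaf cE1671) (BT.leaf cE1672))) (BT.node 1675 (BT.node 1674 (BT.node 1673 (BT.leaf cE1673) (BT.leaf cE1674)) (BT.leaf cE1675)) (BT.node 1676 (BT.leaf cE1676) (BT.leaf cE1677))))) (BT.node 1688 (BT.node 1683 (BT.node 1680 (BT.node 1679 (BT.node 1678 (BT.leaf cE1678) (BT.leaf cE1679)) (BT.leaf cE1680)) (BT.node 1682 (BT.node 1681 (BT.leaf cE1681) (BT.leaf cE1682)) (BT.leaf cE1683))) (BT.node 1686 (BT.node 1685 (BT.node 1684 (BT.leaf cE1684) (BT.leaf cE1685)) (BT.leaf cE1686)) (BT.node 1687 (BT.leaf cE1687) (BT.leaf cE1688)))) (BT.node 1693 (BT.node 1691 (BT.node 1690 (BT.node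 1689 (BT.leaf cE1689) (BT.leaf cE1690)) (BT.leaf cE1691)) (BT.node 1692 (BT.leaf cE1692) (BT.leaf cE1693))) (BT.node 1696 (BT.node 1695 (BT.node 1694 (BT.leaf cE1694) (BT.leaf cE1695)) (BT.leaf cE1696)) (BT.node 1697 (BT.leaf cE1697) (BT.leaf cE1698)))))) (BT.node 1719 (BT.node 1709 (BT.node 1704 (BT.node 1701 (BT.node 1700 (BT.node 1699 (BT.leaf cE1699) (BT.leaf cE1700)) (BT.leaf cE1701)) (BT.node 1703 (BT.node 1702 (BT.leaf cE1702) (BT.leaf cE1703)) (BT.leaf cE1704))) (BT.node 1707 (BT.node 1706 (BT.node 1705 (BT.leaf cE1705) (BT.leaf cE1706)) (BT.leaf cE1707)) (BT.node 1708 (BT.leaf cE1708) (BT.leaf cE1709)))) (BT.node 1714 (BT.node 1712 (BT.node 1711 (BT.node 1710 (BT.leaf cE1710) (BT.leaf cE1711)) (BT.leaf cE1712)) (BT.node 1713 (BT.leaf cE1713) (BT.leaf cE1714))) (BT.node 1717 (BT.node 1716 (BT.node 1715 (BT.leaf cE1715) (BT.leaf cE1716)) (BT.leaf cE1717))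 (BT.node 1718 (BT.leaf cE1718) (BT.leaf cE1719))))) (BT.node 1729 (BT.node 1724 (BT.node 1722 (BT.node 1721 (BT.node 1720 (BT.leaf cE1720) (BT.leaf cE1721)) (BT.leaf cE1722)) (BT.node 1723 (BT.leaf cE1723) (BT.leaf cE1724))) (BT.node 1727 (BT.node 1726 (BT.node 1725 (BT.leaf cE1725) (BT.leaf cE1726)) (BT.leaf cE1727)) (BT.node 1728 (BT.leaf cE1728) (BT.leaf cE1729)))) (BT.node 1734 (BT.node 1732 (BT.node 1731 (BT.node 1730 (BT.leaf cE1730) (BT.leaf cE1731)) (BT.leaf cE1732)) (BT.node 1733 (BT.leaf cE1733) (BT.leaf cE1734))) (BT.node 1737 (BT.node 1736 (BT.node 1735 (BT.leaf cE1735) (BT.leaf cE1736)) (BT.leaf cE1737)) (BT.node 1738 (BT.leaf cE1738) (BT.leaf cE1739))))))) (BT.node 1781 (BT.node 1760 (BT.node 1750 (BT.node 1745 (BT.node 1742 (BT.node 1741 (BT.node 1740 (BT.leaf cE1740) (BT.leaf cE1741)) (BT.leaf cE1742)) (BT.node 1744 (BT.node 1743 (BT.leaf cE1743)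 (BT.leaf cE1744)) (BT.leaf cE1745))) (BT.node 1748 (BT.node 1747 (BT.node 1746 (BT.leaf cE1746) (BT.leaf cE1747)) (BT.leaf cE1748)) (BT.node 1749 (BT.leaf cE1749) (BT.leaf cE1750)))) (BT.node 1755 (BT.node 1753 (BT.node 1752 (BT.node 1751 (BT.leaf cE1751) (BT.leaf cE1752)) (BT.leaf cE1753)) (BT.node 1754 (BT.leaf cE1754) (BT.leaf cE1755))) (BT.node 1758 (BT.node 1757 (BT.node 1756 (BT.leaf cE1756) (BT.leaf cE1757)) (BT.leaf cE1758)) (BT.node 1759 (BT.leaf cE1759) (BT.leaf cE1760))))) (BT.node 1771 (BT.node 1766 (BT.node 1763 (BT.node 1762 (BT.node 1761 (BT.leaf cE1761) (BT.leaf cE1762)) (BT.leaf cE1763)) (BT.node 1765 (BT.node 1764 (BT.leaf cE1764) (BT.leaf cE1765)) (BT.leaf cE1766))) (BT.node 1769 (BT.node 1768 (BT.node 1767 (BT.leaf cE1767) (BT.leaf cE1768)) (BT.leaf cE1769)) (BT.node 1770 (BT.leaf cE1770) (BT.leaf cE1771)))) (BT.node 1776 (BT.node 1774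 (BT.node 1773 (BT.node 1772 (BT.leaf cE1772) (BT.leaf cE1773)) (BT.leaf cE1774)) (BT.node 1775 (BT.leaf cE1775) (BT.leaf cE1776))) (BT.node 1779 (BT.node 1778 (BT.node 1777 (BT.leaf cE1777) (BT.leaf cE1778)) (BT.leaf cE1779)) (BT.node 1780 (BT.leaf cE1780) (BT.leaf cE1781)))))) (BT.node 1802 (BT.node 1792 (BT.node 1787 (BT.node 1784 (BT.node 1783 (BT.node 1782 (BT.leaf cE1782) (BT.leaf cE1783)) (BT.leaf cE1784)) (BT.node 1786 (BT.node 1785 (BT.leaf cE1785) (BT.leaf cE1786)) (BT.leaf cE1787))) (BT.node 1790 (BT.node 1789 (BT.node 1788 (BT.leaf cE1788) (BT.leaf cE1789)) (BT.leaf cE1790)) (BT.node 1791 (BT.leaf cE1791) (BT.leaf cE1792)))) (BT.node 1797 (BT.node 1795 (BT.node 1794 (BT.node 1793 (BT.leaf cE1793) (BT.leaf cE1794)) (BT.leaf cE1795)) (BT.node 1796 (BT.leaf cE1796) (BT.leaf cE1797))) (BT.node 1800 (BT.node 1799 (BT.node 1798 (BT.leaf cE1798) (BT.leaf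 cE1799)) (BT.leaf cE1800)) (BT.node 1801 (BT.leaf cE1801) (BT.leaf cE1802))))) (BT.node 1812 (BT.node 1807 (BT.node 1805 (BT.node 1804 (BT.node 1803 (BT.leaf cE1803) (BT.leaf cE1804)) (BT.leaf cE1805)) (BT.node 1806 (BT.leaf cE1806) (BT.leaf cE1807))) (BT.node 1810 (BT.node 1809 (BT.node 1808 (BT.leaf cE1808) (BT.leaf cE1809)) (BT.leaf cE1810)) (BT.node 1811 (BT.leaf cE1811) (BT.leaf cE1812)))) (BT.node 1817 (BT.node 1815 (BT.node 1814 (BT.node 1813 (BT.leaf cE1813) (BT.leaf cE1814)) (BT.leaf cE1815)) (BT.node 1816 (BT.leaf cE1816) (BT.leaf cE1817))) (BT.node 1820 (BT.node 1819 (BT.node 1818 (BT.leaf cE1818) (BT.leaf cE1819)) (BT.leaf cE1820)) (BT.node 1821 (BT.leaf cE1821) (BT.leaf cE1822)))))))) (BT.node 1905 (BT.node 1864 (BT.node 1843 (BT.node 1833 (BT.node 1828 (BT.node 1825 (BT.node 1824 (BT.node 1823 (BT.leaf cE1823) (BT.leaf cE1824)) (BT.leaf cE1825))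 (BT.node 1827 (BT.node 1826 (BT.leaf cE1826) (BT.leaf cE1827)) (BT.leaf cE1828))) (BT.node 1831 (BT.node 1830 (BT.node 1829 (BT.leaf cE1829) (BT.leaf cE1830)) (BT.leaf cE1831)) (BT.node 1832 (BT.leaf cE1832) (BT.leaf cE1833)))) (BT.node 1838 (BT.node 1836 (BT.node 1835 (BT.node 1834 (BT.leaf cE1834) (BT.leaf cE1835)) (BT.leaf cE1836)) (BT.node 1837 (BT.leaf cE1837) (BT.leaf cE1838))) (BT.node 1841 (BT.node 1840 (BT.node 1839 (BT.leaf cE1839) (BT.leaf cE1840)) (BT.leaf cE1841)) (BT.node 1842 (BT.leaf cE1842) (BT.leaf cE1843))))) (BT.node 1854 (BT.node 1849 (BT.node 1846 (BT.node 1845 (BT.node 1844 (BT.leaf cE1844) (BT.leaf cE1845)) (BT.leaf cE1846)) (BT.node 1848 (BT.node 1847 (BT.leaf cE1847) (BT.leaf cE1848)) (BT.leaf cE1849))) (BT.node 1852 (BT.node 1851 (BT.node 1850 (BT.leaf cE1850) (BT.leaf cE1851)) (BT.leaf cE1852)) (BT.node 1853 (BT.leaf cE1853) (BT.leaf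 cE1854)))) (BT.node 1859 (BT.node 1857 (BT.node 1856 (BT.node 1855 (BT.leaf cE1855) (BT.leaf cE1856)) (BT.leaf cE1857)) (BT.node 1858 (BT.leaf cE1858) (BT.leaf cE1859))) (BT.node 1862 (BT.node 1861 (BT.node 1860 (BT.leaf cE1860) (BT.leaf cE1861)) (BT.leaf cE1862)) (BT.node 1863 (BT.leaf cE1863) (BT.leaf cE1864)))))) (BT.node 1885 (BT.node 1875 (BT.node 1870 (BT.node 1867 (BT.node 1866 (BT.node 1865 (BT.leaf cE1865) (BT.leaf cE1866)) (BT.leaf cE1867)) (BT.node 1869 (BT.node 1868 (BT.leaf cE1868) (BT.leaf cE1869)) (BT.leaf cE1870))) (BT.node 1873 (BT.node 1872 (BT.node 1871 (BT.leaf cE1871) (BT.leaf cE1872)) (BT.leaf cE1873)) (BT.node 1874 (BT.leaf cE1874) (BT.leaf cE1875)))) (BT.node 1880 (BT.node 1878 (BT.node 1877 (BT.node 1876 (BT.leaf cE1876) (BT.leaf cE1877)) (BT.leaf cE1878)) (BT.node 1879 (BT.leaf cE1879) (BT.leaf cE1880))) (BT.node 1883 (BT.node 1882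 (BT.node 1881 (BT.leaf cE1881) (BT.leaf cE1882)) (BT.leaf cE1883)) (BT.node 1884 (BT.leaf cE1884) (BT.leaf cE1885))))) (BT.node 1895 (BT.node 1890 (BT.node 1888 (BT.node 1887 (BT.node 1886 (BT.leaf cE1886) (BT.leaf cE1887)) (BT.leaf cE1888)) (BT.node 1889 (BT.leaf cE1889) (BT.leaf cE1890))) (BT.node 1893 (BT.node 1892 (BT.node 1891 (BT.leaf cE1891) (BT.leaf cE1892)) (BT.leaf cE1893)) (BT.node 1894 (BT.leaf cE1894) (BT.leaf cE1895)))) (BT.node 1900 (BT.node 1898 (BT.node 1897 (BT.node 1896 (BT.leaf cE1896) (BT.leaf cE1897)) (BT.leaf cE1898)) (BT.node 1899 (BT.leaf cE1899) (BT.leaf cE1900))) (BT.node 1903 (BT.node 1902 (BT.node 1901 (BT.leaf cE1901) (BT.leaf cE1902)) (BT.leaf cE1903)) (BT.node 1904 (BT.leaf cE1904) (BT.leaf cE1905))))))) (BT.node 1946 (BT.node 1926 (BT.node 1916 (BT.node 1911 (BT.node 1908 (BT.node 1907 (BT.node 1906 (BT.leaf cE1906) (BT.leaf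 cE1907)) (BT.leaf cE1908)) (BT.node 1910 (BT.node 1909 (BT.leaf cE1909) (BT.leaf cE1910)) (BT.leaf cE1911))) (BT.node 1914 (BT.node 1913 (BT.node 1912 (BT.leaf cE1912) (BT.leaf cE1913)) (BT.leaf cE1914)) (BT.node 1915 (BT.leaf cE1915) (BT.leaf cE1916)))) (BT.node 1921 (BT.node 1919 (BT.node 1918 (BT.node 1917 (BT.leaf cE1917) (BT.leaf cE1918)) (BT.leaf cE1919)) (BT.node 1920 (BT.leaf cE1920) (BT.leaf cE1921))) (BT.node 1924 (BT.node 1923 (BT.node 1922 (BT.leaf cE1922) (BT.leaf cE1923)) (BT.leaf cE1924)) (BT.node 1925 (BT.leaf cE1925) (BT.leaf cE1926))))) (BT.node 1936 (BT.node 1931 (BT.node 1929 (BT.node 1928 (BT.node 1927 (BT.leaf cE1927) (BT.leaf cE1928)) (BT.leaf cE1929)) (BT.node 1930 (BT.leaf cE1930) (BT.leaf cE1931))) (BT.node 1934 (BT.node 1933 (BT.node 1932 (BT.leaf cE1932) (BT.leaf cE1933)) (BT.leaf cE1934)) (BT.node 1935 (BT.leaf cE1935) (BT.leaf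 cE1936)))) (BT.node 1941 (BT.node 1939 (BT.node 1938 (BT.node 1937 (BT.leaf cE1937) (BT.leaf cE1938)) (BT.leaf cE1939)) (BT.node 1940 (BT.leaf cE1940) (BT.leaf cE1941))) (BT.node 1944 (BT.node 1943 (BT.node 1942 (BT.leaf cE1942) (BT.leaf cE1943)) (BT.leaf cE1944)) (BT.node 1945 (BT.leaf cE1945) (BT.leaf cE1946)))))) (BT.node 1967 (BT.node 1957 (BT.node 1952 (BT.node 1949 (BT.node 1948 (BT.node 1947 (BT.leaf cE1947) (BT.leaf cE1948)) (BT.leaf cE1949)) (BT.node 1951 (BT.node 1950 (BT.leaf cE1950) (BT.leaf cE1951)) (BT.leaf cE1952))) (BT.node 1955 (BT.node 1954 (BT.node 1953 (BT.leaf cE1953) (BT.leaf cE1954)) (BT.leaf cE1955)) (BT.node 1956 (BT.leaf cE1956) (BT.leaf cE1957)))) (BT.node 1962 (BT.node 1960 (BT.node 1959 (BT.node 1958 (BT.leaf cE1958) (BT.leaf cE1959)) (BT.leaf cE1960)) (BT.node 1961 (BT.leaf cE1961) (BT.leaf cE1962))) (BT.node 1965 (BT.node 1964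 (BT.node 1963 (BT.leaf cE1963) (BT.leaf cE1964)) (BT.leaf cE1965)) (BT.node 1966 (BT.leaf cE1966) (BT.leaf cE1967))))) (BT.node 1977 (BT.node 1972 (BT.node 1970 (BT.node 1969 (BT.node 1968 (BT.leaf cE1968) (BT.leaf cE1969)) (BT.leaf cE1970)) (BT.node 1971 (BT.leaf cE1971) (BT.leaf cE1972))) (BT.node 1975 (BT.node 1974 (BT.node 1973 (BT.leaf cE1973) (BT.leaf cE1974)) (BT.leaf cE1975)) (BT.node 1976 (BT.leaf cE1976) (BT.leaf cE1977)))) (BT.node 1982 (BT.node 1980 (BT.node 1979 (BT.node 1978 (BT.leaf cE1978) (BT.leaf cE1979)) (BT.leaf cE1980)) (BT.node 1981 (BT.leaf cE1981) (BT.leaf cE1982))) (BT.node 1985 (BT.node 1984 (BT.node 1983 (BT.leaf cE1983) (BT.leaf cE1984)) (BT.leaf cE1985)) (BT.node 1986 (BT.leaf cE1986) (BT.leaf cE1987)))))))))) (BT.node 2318 (BT.node 2153 (BT.node 2070 (BT.node 2029 (BT.node 2008 (BT.node 1998 (BT.node 1993 (BT.node 1990 (BT.node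 1989 (BT.node 1988 (BT.leaf cE1988) (BT.leaf cE1989)) (BT.leaf cE1990)) (BT.node 1992 (BT.node 1991 (BT.leaf cE1991) (BT.leaf cE1992)) (BT.leaf cE1993))) (BT.node 1996 (BT.node 1995 (BT.node 1994 (BT.leaf cE1994) (BT.leaf cE1995)) (BT.leaf cE1996)) (BT.node 1997 (BT.leaf cE1997) (BT.leaf cE1998)))) (BT.node 2003 (BT.node 2001 (BT.node 2000 (BT.node 1999 (BT.leaf cE1999) (BT.leaf cE2000)) (BT.leaf cE2001)) (BT.node 2002 (BT.leaf cE2002) (BT.leaf cE2003))) (BT.node 2006 (BT.node 2005 (BT.node 2004 (BT.leaf cE2004) (BT.leaf cE2005)) (BT.leaf cE2006)) (BT.node 2007 (BT.leaf cE2007) (BT.leaf cE2008))))) (BT.node 2019 (BT.node 2014 (BT.node 2011 (BT.node 2010 (BT.node 2009 (BT.leaf cE2009) (BT.leaf cE2010)) (BT.leaf cE2011)) (BT.node 2013 (BT.node 2012 (BT.leaf cE2012) (BT.leaf cE2013)) (BT.leaf cE2014))) (BT.node 2017 (BT.node 2016 (BT.node 2015 (BT.leaf cE2015)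 (BT.leaf cE2016)) (BT.leaf cE2017)) (BT.node 2018 (BT.leaf cE2018) (BT.leaf cE2019)))) (BT.node 2024 (BT.node 2022 (BT.node 2021 (BT.node 2020 (BT.leaf cE2020) (BT.leaf cE2021)) (BT.leaf cE2022)) (BT.node 2023 (BT.leaf cE2023) (BT.leaf cE2024))) (BT.node 2027 (BT.node 2026 (BT.node 2025 (BT.leaf cE2025) (BT.leaf cE2026)) (BT.leaf cE2027)) (BT.node 2028 (BT.leaf cE2028) (BT.leaf cE2029)))))) (BT.node 2050 (BT.node 2040 (BT.node 2035 (BT.node 2032 (BT.node 2031 (BT.node 2030 (BT.leaf cE2030) (BT.leaf cE2031)) (BT.leaf cE2032)) (BT.node 2034 (BT.node 2033 (BT.leaf cE2033) (BT.leaf cE2034)) (BT.leaf cE2035))) (BT.node 2038 (BT.node 2037 (BT.node 2036 (BT.leaf cE2036) (BT.leaf cE2037)) (BT.leaf cE2038)) (BT.node 2039 (BT.leaf cE2039) (BT.leaf cE2040)))) (BT.node 2045 (BT.node 2043 (BT.node 2042 (BT.node 2041 (BT.leaf cE2041) (BT.leaf cE2042)) (BT.leaf cE2043))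 (BT.node 2044 (BT.leaf cE2044) (BT.leaf cE2045))) (BT.node 2048 (BT.node 2047 (BT.node 2046 (BT.leaf cE2046) (BT.leaf cE2047)) (BT.leaf cE2048)) (BT.node 2049 (BT.leaf cE2049) (BT.leaf cE2050))))) (BT.node 2060 (BT.node 2055 (BT.node 2053 (BT.node 2052 (BT.node 2051 (BT.leaf cE2051) (BT.leaf cE2052)) (BT.leaf cE2053)) (BT.node 2054 (BT.leaf cE2054) (BT.leaf cE2055))) (BT.node 2058 (BT.node 2057 (BT.node 2056 (BT.leaf cE2056) (BT.leaf cE2057)) (BT.leaf cE2058)) (BT.node 2059 (BT.leaf cE2059) (BT.leaf cE2060)))) (BT.node 2065 (BT.node 2063 (BT.node 2062 (BT.node 2061 (BT.leaf cE2061) (BT.leaf cE2062)) (BT.leaf cE2063)) (BT.node 2064 (BT.leaf cE2064) (BT.leaf cE2065))) (BT.node 2068 (BT.node 2067 (BT.node 2066 (BT.leaf cE2066) (BT.leaf cE2067)) (BT.leaf cE2068)) (BT.node 2069 (BT.leaf cE2069) (BT.leaf cE2070))))))) (BT.node 2112 (BT.node 2091 (BT.node 2081 (BT.node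 2076 (BT.node 2073 (BT.node 2072 (BT.node 2071 (BT.leaf cE2071) (BT.leaf cE2072)) (BT.leaf cE2073)) (BT.node 2075 (BT.node 2074 (BT.leaf cE2074) (BT.leaf cE2075)) (BT.leaf cE2076))) (BT.node 2079 (BT.node 2078 (BT.node 2077 (BT.leaf cE2077) (BT.leaf cE2078)) (BT.leaf cE2079)) (BT.node 2080 (BT.leaf cE2080) (BT.leaf cE2081)))) (BT.node 2086 (BT.node 2084 (BT.node 2083 (BT.node 2082 (BT.leaf cE2082) (BT.leaf cE2083)) (BT.leaf cE2084)) (BT.node 2085 (BT.leaf cE2085) (BT.leaf cE2086))) (BT.node 2089 (BT.node 2088 (BT.node 2087 (BT.leaf cE2087) (BT.leaf cE2088)) (BT.leaf cE2089)) (BT.node 2090 (BT.leaf cE2090) (BT.leaf cE2091))))) (BT.node 2102 (BT.node 2097 (BT.node 2094 (BT.node 2093 (BT.node 2092 (BT.leaf cE2092) (BT.leaf cE2093)) (BT.leaf cE2094)) (BT.node 2096 (BT.node 2095 (BT.leaf cE2095) (BT.leaf cE2096)) (BT.leaf cE2097))) (BT.node 2100 (BT.node 2099 (BT.node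 2098 (BT.leaf cE2098) (BT.leaf cE2099)) (BT.leaf cE2100)) (BT.node 2101 (BT.leaf cE2101) (BT.leaf cE2102)))) (BT.node 2107 (BT.node 2105 (BT.node 2104 (BT.node 2103 (BT.leaf cE2103) (BT.leaf cE2104)) (BT.leaf cE2105)) (BT.node 2106 (BT.leaf cE2106) (BT.leaf cE2107))) (BT.node 2110 (BT.node 2109 (BT.node 2108 (BT.leaf cE2108) (BT.leaf cE2109)) (BT.leaf cE2110)) (BT.node 2111 (BT.leaf cE2111) (BT.leaf cE2112)))))) (BT.node 2133 (BT.node 2123 (BT.node 2118 (BT.node 2115 (BT.node 2114 (BT.node 2113 (BT.leaf cE2113) (BT.leaf cE2114)) (BT.leaf cE2115)) (BT.node 2117 (BT.node 2116 (BT.leaf cE2116) (BT.leaf cE2117)) (BT.leaf cE2118))) (BT.node 2121 (BT.node 2120 (BT.node 2119 (BT.leaf cE2119) (BT.leaf cE2120)) (BT.leaf cE2121)) (BT.node 2122 (BT.leaf cE2122) (BT.leaf cE2123)))) (BT.node 2128 (BT.node 2126 (BT.node 2125 (BT.node 2124 (BT.leaf cE2124) (BT.leaf cE2125))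 (BT.leaf cE2126)) (BT.node 2127 (BT.leaf cE2127) (BT.leaf cE2128))) (BT.node 2131 (BT.node 2130 (BT.node 2129 (BT.leaf cE2129) (BT.leaf cE2130)) (BT.leaf cE2131)) (BT.node 2132 (BT.leaf cE2132) (BT.leaf cE2133))))) (BT.node 2143 (BT.node 2138 (BT.node 2136 (BT.node 2135 (BT.node 2134 (BT.leaf cE2134) (BT.leaf cE2135)) (BT.leaf cE2136)) (BT.node 2137 (BT.leaf cE2137) (BT.leaf cE2138))) (BT.node 2141 (BT.node 2140 (BT.node 2139 (BT.leaf cE2139) (BT.leaf cE2140)) (BT.leaf cE2141)) (BT.node 2142 (BT.leaf cE2142) (BT.leaf cE2143)))) (BT.node 2148 (BT.node 2146 (BT.node 2145 (BT.node 2144 (BT.leaf cE2144) (BT.leaf cE2145)) (BT.leaf cE2146)) (BT.node 2147 (BT.leaf cE2147) (BT.leaf cE2148))) (BT.node 2151 (BT.node 2150 (BT.node 2149 (BT.leaf cE2149) (BT.leaf cE2150)) (BT.leaf cE2151)) (BT.node 2152 (BT.leaf cE2152) (BT.leaf cE2153)))))))) (BT.node 2236 (BT.node 2195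 (BT.node 2174 (BT.node 2164 (BT.node 2159 (BT.node 2156 (BT.node 2155 (BT.node 2154 (BT.leaf cE2154) (BT.leaf cE2155)) (BT.leaf cE2156)) (BT.node 2158 (BT.node 2157 (BT.leaf cE2157) (BT.leaf cE2158)) (BT.leaf cE2159))) (BT.node 2162 (BT.node 2161 (BT.node 2160 (BT.leaf cE2160) (BT.leaf cE2161)) (BT.leaf cE2162)) (BT.node 2163 (BT.leaf cE2163) (BT.leaf cE2164)))) (BT.node 2169 (BT.node 2167 (BT.node 2166 (BT.node 2165 (BT.leaf cE2165) (BT.leaf cE2166)) (BT.leaf cE2167)) (BT.node 2168 (BT.leaf cE2168) (BT.leaf cE2169))) (BT.node 2172 (BT.node 2171 (BT.node 2170 (BT.leaf cE2170) (BT.leaf cE2171)) (BT.leaf cE2172)) (BT.node 2173 (BT.leaf cE2173) (BT.leaf cE2174))))) (BT.node 2185 (BT.node 2180 (BT.node 2177 (BT.node 2176 (BT.node 2175 (BT.leaf cE2175) (BT.leaf cE2176)) (BT.leaf cE2177)) (BT.node 2179 (BT.node 2178 (BT.leaf cE2178) (BT.leaf cE2179)) (BT.leaf cE2180)))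 (BT.node 2183 (BT.node 2182 (BT.node 2181 (BT.leaf cE2181) (BT.leaf cE2182)) (BT.leaf cE2183)) (BT.node 2184 (BT.leaf cE2184) (BT.leaf cE2185)))) (BT.node 2190 (BT.node 2188 (BT.node 2187 (BT.node 2186 (BT.leaf cE2186) (BT.leaf cE2187)) (BT.leaf cE2188)) (BT.node 2189 (BT.leaf cE2189) (BT.leaf cE2190))) (BT.node 2193 (BT.node 2192 (BT.node 2191 (BT.leaf cE2191) (BT.leaf cE2192)) (BT.leaf cE2193)) (BT.node 2194 (BT.leaf cE2194) (BT.leaf cE2195)))))) (BT.node 2216 (BT.node 2206 (BT.node 2201 (BT.node 2198 (BT.node 2197 (BT.node 2196 (BT.leaf cE2196) (BT.leaf cE2197)) (BT.leaf cE2198)) (BT.node 2200 (BT.node 2199 (BT.leaf cE2199) (BT.leaf cE2200)) (BT.leaf cE2201))) (BT.node 2204 (BT.node 2203 (BT.node 2202 (BT.leaf cE2202) (BT.leaf cE2203)) (BT.leaf cE2204)) (BT.node 2205 (BT.leaf cE2205) (BT.leaf cE2206)))) (BT.node 2211 (BT.node 2209 (BT.node 2208 (BT.node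 2207 (BT.leaf cE2207) (BT.leaf cE2208)) (BT.leaf cE2209)) (BT.node 2210 (BT.leaf cE2210) (BT.leaf cE2211))) (BT.node 2214 (BT.node 2213 (BT.node 2212 (BT.leaf cE2212) (BT.leaf cE2213)) (BT.leaf cE2214)) (BT.node 2215 (BT.leaf cE2215) (BT.leaf cE2216))))) (BT.node 2226 (BT.node 2221 (BT.node 2219 (BT.node 2218 (BT.node 2217 (BT.leaf cE2217) (BT.leaf cE2218)) (BT.leaf cE2219)) (BT.node 2220 (BT.leaf cE2220) (BT.leaf cE2221))) (BT.node 2224 (BT.node 2223 (BT.node 2222 (BT.leaf cE2222) (BT.leaf cE2223)) (BT.leaf cE2224)) (BT.node 2225 (BT.leaf cE2225) (BT.leaf cE2226)))) (BT.node 2231 (BT.node 2229 (BT.node 2228 (BT.node 2227 (BT.leaf cE2227) (BT.leaf cE2228)) (BT.leaf cE2229)) (BT.node 2230 (BT.leaf cE2230) (BT.leaf cE2231))) (BT.node 2234 (BT.node 2233 (BT.node 2232 (BT.leaf cE2232) (BT.leaf cE2233)) (BT.leaf cE2234)) (BT.node 2235 (BT.leaf cE2235) (BT.leaf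 cE2236))))))) (BT.node 2277 (BT.node 2257 (BT.node 2247 (BT.node 2242 (BT.node 2239 (BT.node 2238 (BT.node 2237 (BT.leaf cE2237) (BT.leaf cE2238)) (BT.leaf cE2239)) (BT.node 2241 (BT.node 2240 (BT.leaf cE2240) (BT.leaf cE2241)) (BT.leaf cE2242))) (BT.node 2245 (BT.node 2244 (BT.node 2243 (BT.leaf cE2243) (BT.leaf cE2244)) (BT.leaf cE2245)) (BT.node 2246 (BT.leaf cE2246) (BT.leaf cE2247)))) (BT.node 2252 (BT.node 2250 (BT.node 2249 (BT.node 2248 (BT.leaf cE2248) (BT.leaf cE2249)) (BT.leaf cE2250)) (BT.node 2251 (BT.leaf cE2251) (BT.leaf cE2252))) (BT.node 2255 (BT.node 2254 (BT.node 2253 (BT.leaf cE2253) (BT.leaf cE2254)) (BT.leaf cE2255)) (BT.node 2256 (BT.leaf cE2256) (BT.leaf cE2257))))) (BT.node 2267 (BT.node 2262 (BT.node 2260 (BT.node 2259 (BT.node 2258 (BT.leaf cE2258) (BT.leaf cE2259)) (BT.leaf cE2260)) (BT.node 2261 (BT.leaf cE2261) (BT.leaf cE2262)))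 (BT.node 2265 (BT.node 2264 (BT.node 2263 (BT.leaf cE2263) (BT.leaf cE2264)) (BT.leaf cE2265)) (BT.node 2266 (BT.leaf cE2266) (BT.leaf cE2267)))) (BT.node 2272 (BT.node 2270 (BT.node 2269 (BT.node 2268 (BT.leaf cE2268) (BT.leaf cE2269)) (BT.leaf cE2270)) (BT.node 2271 (BT.leaf cE2271) (BT.leaf cE2272))) (BT.node 2275 (BT.node 2274 (BT.node 2273 (BT.leaf cE2273) (BT.leaf cE2274)) (BT.leaf cE2275)) (BT.node 2276 (BT.leaf cE2276) (BT.leaf cE2277)))))) (BT.node 2298 (BT.node 2288 (BT.node 2283 (BT.node 2280 (BT.node 2279 (BT.node 2278 (BT.leaf cE2278) (BT.leaf cE2279)) (BT.leaf cE2280)) (BT.node 2282 (BT.node 2281 (BT.leaf cE2281) (BT.leaf cE2282)) (BT.leaf cE2283))) (BT.node 2286 (BT.node 2285 (BT.node 2284 (BT.leaf cE2284) (BT.leaf cE2285)) (BT.leaf cE2286)) (BT.node 2287 (BT.leaf cE2287) (BT.leaf cE2288)))) (BT.node 2293 (BT.node 2291 (BT.node 2290 (BT.node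 2289 (BT.leaf cE2289) (BT.leaf cE2290)) (BT.leaf cE2291)) (BT.node 2292 (BT.leaf cE2292) (BT.leaf cE2293))) (BT.node 2296 (BT.node 2295 (BT.node 2294 (BT.leaf cE2294) (BT.leaf cE2295)) (BT.leaf cE2296)) (BT.node 2297 (BT.leaf cE2297) (BT.leaf cE2298))))) (BT.node 2308 (BT.node 2303 (BT.node 2301 (BT.node 2300 (BT.node 2299 (BT.leaf cE2299) (BT.leaf cE2300)) (BT.leaf cE2301)) (BT.node 2302 (BT.leaf cE2302) (BT.leaf cE2303))) (BT.node 2306 (BT.node 2305 (BT.node 2304 (BT.leaf cE2304) (BT.leaf cE2305)) (BT.leaf cE2306)) (BT.node 2307 (BT.leaf cE2307) (BT.leaf cE2308)))) (BT.node 2313 (BT.node 2311 (BT.node 2310 (BT.node 2309 (BT.leaf cE2309) (BT.leaf cE2310)) (BT.leaf cE2311)) (BT.node 2312 (BT.leaf cE2312) (BT.leaf cE2313))) (BT.node 2316 (BT.node 2315 (BT.node 2314 (BT.leaf cE2314) (BT.leaf cE2315)) (BT.leaf cE2316)) (BT.node 2317 (BT.leaf cE2317) (BT.leaf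 cE2318))))))))) (BT.node 2484 (BT.node 2401 (BT.node 2360 (BT.node 2339 (BT.node 2329 (BT.node 2324 (BT.node 2321 (BT.node 2320 (BT.node 2319 (BT.leaf cE2319) (BT.leaf cE2320)) (BT.leaf cE2321)) (BT.node 2323 (BT.node 2322 (BT.leaf cE2322) (BT.leaf cE2323)) (BT.leaf cE2324))) (BT.node 2327 (BT.node 2326 (BT.node 2325 (BT.leaf cE2325) (BT.leaf cE2326)) (BT.leaf cE2327)) (BT.node 2328 (BT.leaf cE2328) (BT.leaf cE2329)))) (BT.node 2334 (BT.node 2332 (BT.node 2331 (BT.node 2330 (BT.leaf cE2330) (BT.leaf cE2331)) (BT.leaf cE2332)) (BT.node 2333 (BT.leaf cE2333) (BT.leaf cE2334))) (BT.node 2337 (BT.node 2336 (BT.node 2335 (BT.leaf cE2335) (BT.leaf cE2336)) (BT.leaf cE2337)) (BT.node 2338 (BT.leaf cE2338) (BT.leaf cE2339))))) (BT.node 2350 (BT.node 2345 (BT.node 2342 (BT.node 2341 (BT.node 2340 (BT.leaf cE2340) (BT.leaf cE2341)) (BT.leaf cE2342)) (BT.node 2344 (BT.node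 2343 (BT.leaf cE2343) (BT.leaf cE2344)) (BT.leaf cE2345))) (BT.node 2348 (BT.node 2347 (BT.node 2346 (BT.leaf cE2346) (BT.leaf cE2347)) (BT.leaf cE2348)) (BT.node 2349 (BT.leaf cE2349) (BT.leaf cE2350)))) (BT.node 2355 (BT.node 2353 (BT.node 2352 (BT.node 2351 (BT.leaf cE2351) (BT.leaf cE2352)) (BT.leaf cE2353)) (BT.node 2354 (BT.leaf cE2354) (BT.leaf cE2355))) (BT.node 2358 (BT.node 2357 (BT.node 2356 (BT.leaf cE2356) (BT.leaf cE2357)) (BT.leaf cE2358)) (BT.node 2359 (BT.leaf cE2359) (BT.leaf cE2360)))))) (BT.node 2381 (BT.node 2371 (BT.node 2366 (BT.node 2363 (BT.node 2362 (BT.node 2361 (BT.leaf cE2361) (BT.leaf cE2362)) (BT.leaf cE2363)) (BT.node 2365 (BT.node 2364 (BT.leaf cE2364) (BT.leaf cE2365)) (BT.leaf cE2366))) (BT.node 2369 (BT.node 2368 (BT.node 2367 (BT.leaf cE2367) (BT.leaf cE2368)) (BT.leaf cE2369)) (BT.node 2370 (BT.leaf cE2370) (BT.leaf cE2371))))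 (BT.node 2376 (BT.node 2374 (BT.node 2373 (BT.node 2372 (BT.leaf cE2372) (BT.leaf cE2373)) (BT.leaf cE2374)) (BT.node 2375 (BT.leaf cE2375) (BT.leaf cE2376))) (BT.node 2379 (BT.node 2378 (BT.node 2377 (BT.leaf cE2377) (BT.leaf cE2378)) (BT.leaf cE2379)) (BT.node 2380 (BT.leaf cE2380) (BT.leaf cE2381))))) (BT.node 2391 (BT.node 2386 (BT.node 2384 (BT.node 2383 (BT.node 2382 (BT.leaf cE2382) (BT.leaf cE2383)) (BT.leaf cE2384)) (BT.node 2385 (BT.leaf cE2385) (BT.leaf cE2386))) (BT.node 2389 (BT.node 2388 (BT.node 2387 (BT.leaf cE2387) (BT.leaf cE2388)) (BT.leaf cE2389)) (BT.node 2390 (BT.leaf cE2390) (BT.leaf cE2391)))) (BT.node 2396 (BT.node 2394 (BT.node 2393 (BT.node 2392 (BT.leaf cE2392) (BT.leaf cE2393)) (BT.leaf cE2394)) (BT.node 2395 (BT.leaf cE2395) (BT.leaf cE2396))) (BT.node 2399 (BT.node 2398 (BT.node 2397 (BT.leaf cE2397) (BT.leaf cE2398)) (BT.leaf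 cE2399)) (BT.node 2400 (BT.leaf cE2400) (BT.leaf cE2401))))))) (BT.node 2443 (BT.node 2422 (BT.node 2412 (BT.node 2407 (BT.node 2404 (BT.node 2403 (BT.node 2402 (BT.leaf cE2402) (BT.leaf cE2403)) (BT.leaf cE2404)) (BT.node 2406 (BT.node 2405 (BT.leaf cE2405) (BT.leaf cE2406)) (BT.leaf cE2407))) (BT.node 2410 (BT.node 2409 (BT.node 2408 (BT.leaf cE2408) (BT.leaf cE2409)) (BT.leaf cE2410)) (BT.node 2411 (BT.leaf cE2411) (BT.leaf cE2412)))) (BT.node 2417 (BT.node 2415 (BT.node 2414 (BT.node 2413 (BT.leaf cE2413) (BT.leaf cE2414)) (BT.leaf cE2415)) (BT.node 2416 (BT.leaf cE2416) (BT.leaf cE2417))) (BT.node 2420 (BT.node 2419 (BT.node 2418 (BT.leaf cE2418) (BT.leaf cE2419)) (BT.leaf cE2420)) (BT.node 2421 (BT.leaf cE2421) (BT.leaf cE2422))))) (BT.node 2433 (BT.node 2428 (BT.node 2425 (BT.node 2424 (BT.node 2423 (BT.leaf cE2423) (BT.leaf cE2424)) (BT.leaf cE2425))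 (BT.node 2427 (BT.node 2426 (BT.leaf cE2426) (BT.leaf cE2427)) (BT.leaf cE2428))) (BT.node 2431 (BT.node 2430 (BT.node 2429 (BT.leaf cE2429) (BT.leaf cE2430)) (BT.leaf cE2431)) (BT.node 2432 (BT.leaf cE2432) (BT.leaf cE2433)))) (BT.node 2438 (BT.node 2436 (BT.node 2435 (BT.node 2434 (BT.leaf cE2434) (BT.leaf cE2435)) (BT.leaf cE2436)) (BT.node 2437 (BT.leaf cE2437) (BT.leaf cE2438))) (BT.node 2441 (BT.node 2440 (BT.node 2439 (BT.leaf cE2439) (BT.leaf cE2440)) (BT.leaf cE2441)) (BT.node 2442 (BT.leaf cE2442) (BT.leaf cE2443)))))) (BT.node 2464 (BT.node 2454 (BT.node 2449 (BT.node 2446 (BT.node 2445 (BT.node 2444 (BT.leaf cE2444) (BT.leaf cE2445)) (BT.leaf cE2446)) (BT.node 2448 (BT.node 2447 (BT.leaf cE2447) (BT.leaf cE2448)) (BT.leaf cE2449))) (BT.node 2452 (BT.node 2451 (BT.node 2450 (BT.leaf cE2450) (BT.leaf cE2451)) (BT.leaf cE2452)) (BT.node 2453 (BT.leaf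 cE2453) (BT.leaf cE2454)))) (BT.node 2459 (BT.node 2457 (BT.node 2456 (BT.node 2455 (BT.leaf cE2455) (BT.leaf cE2456)) (BT.leaf cE2457)) (BT.node 2458 (BT.leaf cE2458) (BT.leaf cE2459))) (BT.node 2462 (BT.node 2461 (BT.node 2460 (BT.leaf cE2460) (BT.leaf cE2461)) (BT.leaf cE2462)) (BT.node 2463 (BT.leaf cE2463) (BT.leaf cE2464))))) (BT.node 2474 (BT.node 2469 (BT.node 2467 (BT.node 2466 (BT.node 2465 (BT.leaf cE2465) (BT.leaf cE2466)) (BT.leaf cE2467)) (BT.node 2468 (BT.leaf cE2468) (BT.leaf cE2469))) (BT.node 2472 (BT.node 2471 (BT.node 2470 (BT.leaf cE2470) (BT.leaf cE2471)) (BT.leaf cE2472)) (BT.node 2473 (BT.leaf cE2473) (BT.leaf cE2474)))) (BT.node 2479 (BT.node 2477 (BT.node 2476 (BT.node 2475 (BT.leaf cE2475) (BT.leaf cE2476)) (BT.leaf cE2477)) (BT.node 2478 (BT.leaf cE2478) (BT.leaf cE2479))) (BT.node 2482 (BT.node 2481 (BT.node 2480 (BT.leaf cE2480)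 (BT.leaf cE2481)) (BT.leaf cE2482)) (BT.node 2483 (BT.leaf cE2483) (BT.leaf cE2484)))))))) (BT.node 2567 (BT.node 2526 (BT.node 2505 (BT.node 2495 (BT.node 2490 (BT.node 2487 (BT.node 2486 (BT.node 2485 (BT.leaf cE2485) (BT.leaf cE2486)) (BT.leaf cE2487)) (BT.node 2489 (BT.node 2488 (BT.leaf cE2488) (BT.leaf cE2489)) (BT.leaf cE2490))) (BT.node 2493 (BT.node 2492 (BT.node 2491 (BT.leaf cE2491) (BT.leaf cE2492)) (BT.leaf cE2493)) (BT.node 2494 (BT.leaf cE2494) (BT.leaf cE2495)))) (BT.node 2500 (BT.node 2498 (BT.node 2497 (BT.node 2496 (BT.leaf cE2496) (BT.leaf cE2497)) (BT.leaf cE2498)) (BT.node 2499 (BT.leaf cE2499) (BT.leaf cE2500))) (BT.node 2503 (BT.node 2502 (BT.node 2501 (BT.leaf cE2501) (BT.leaf cE2502)) (BT.leaf cE2503)) (BT.node 2504 (BT.leaf cE2504) (BT.leaf cE2505))))) (BT.node 2516 (BT.node 2511 (BT.node 2508 (BT.node 2507 (BT.node 2506 (BT.leaf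 cE2506) (BT.leaf cE2507)) (BT.leaf cE2508)) (BT.node 2510 (BT.node 2509 (BT.leaf cE2509) (BT.leaf cE2510)) (BT.leaf cE2511))) (BT.node 2514 (BT.node 2513 (BT.node 2512 (BT.leaf cE2512) (BT.leaf cE2513)) (BT.leaf cE2514)) (BT.node 2515 (BT.leaf cE2515) (BT.leaf cE2516)))) (BT.node 2521 (BT.node 2519 (BT.node 2518 (BT.node 2517 (BT.leaf cE2517) (BT.leaf cE2518)) (BT.leaf cE2519)) (BT.node 2520 (BT.leaf cE2520) (BT.leaf cE2521))) (BT.node 2524 (BT.node 2523 (BT.node 2522 (BT.leaf cE2522) (BT.leaf cE2523)) (BT.leaf cE2524)) (BT.node 2525 (BT.leaf cE2525) (BT.leaf cE2526)))))) (BT.node 2547 (BT.node 2537 (BT.node 2532 (BT.node 2529 (BT.node 2528 (BT.node 2527 (BT.leaf cE2527) (BT.leaf cE2528)) (BT.leaf cE2529)) (BT.node 2531 (BT.node 2530 (BT.leaf cE2530) (BT.leaf cE2531)) (BT.leaf cE2532))) (BT.node 2535 (BT.node 2534 (BT.node 2533 (BT.leaf cE2533) (BT.leaf cE2534))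 (BT.leaf cE2535)) (BT.node 2536 (BT.leaf cE2536) (BT.leaf cE2537)))) (BT.node 2542 (BT.node 2540 (BT.node 2539 (BT.node 2538 (BT.leaf cE2538) (BT.leaf cE2539)) (BT.leaf cE2540)) (BT.node 2541 (BT.leaf cE2541) (BT.leaf cE2542))) (BT.node 2545 (BT.node 2544 (BT.node 2543 (BT.leaf cE2543) (BT.leaf cE2544)) (BT.leaf cE2545)) (BT.node 2546 (BT.leaf cE2546) (BT.leaf cE2547))))) (BT.node 2557 (BT.node 2552 (BT.node 2550 (BT.node 2549 (BT.node 2548 (BT.leaf cE2548) (BT.leaf cE2549)) (BT.leaf cE2550)) (BT.node 2551 (BT.leaf cE2551) (BT.leaf cE2552))) (BT.node 2555 (BT.node 2554 (BT.node 2553 (BT.leaf cE2553) (BT.leaf cE2554)) (BT.leaf cE2555)) (BT.node 2556 (BT.leaf cE2556) (BT.leaf cE2557)))) (BT.node 2562 (BT.node 2560 (BT.node 2559 (BT.node 2558 (BT.leaf cE2558) (BT.leaf cE2559)) (BT.leaf cE2560)) (BT.node 2561 (BT.leaf cE2561) (BT.leaf cE2562))) (BT.node 2565 (BT.node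 2564 (BT.node 2563 (BT.leaf cE2563) (BT.leaf cE2564)) (BT.leaf cE2565)) (BT.node 2566 (BT.leaf cE2566) (BT.leaf cE2567))))))) (BT.node 2608 (BT.node 2588 (BT.node 2578 (BT.node 2573 (BT.node 2570 (BT.node 2569 (BT.node 2568 (BT.leaf cE2568) (BT.leaf cE2569)) (BT.leaf cE2570)) (BT.node 2572 (BT.node 2571 (BT.leaf cE2571) (BT.leaf cE2572)) (BT.leaf cE2573))) (BT.node 2576 (BT.node 2575 (BT.node 2574 (BT.leaf cE2574) (BT.leaf cE2575)) (BT.leaf cE2576)) (BT.node 2577 (BT.leaf cE2577) (BT.leaf cE2578)))) (BT.node 2583 (BT.node 2581 (BT.node 2580 (BT.node 2579 (BT.leaf cE2579) (BT.leaf cE2580)) (BT.leaf cE2581)) (BT.node 2582 (BT.leaf cE2582) (BT.leaf cE2583))) (BT.node 2586 (BT.node 2585 (BT.node 2584 (BT.leaf cE2584) (BT.leaf cE2585)) (BT.leaf cE2586)) (BT.node 2587 (BT.leaf cE2587) (BT.leaf cE2588))))) (BT.node 2598 (BT.node 2593 (BT.node 2591 (BT.node 2590 (BT.node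 2589 (BT.leaf cE2589) (BT.leaf cE2590)) (BT.leaf cE2591)) (BT.node 2592 (BT.leaf cE2592) (BT.leaf cE2593))) (BT.node 2596 (BT.node 2595 (BT.node 2594 (BT.leaf cE2594) (BT.leaf cE2595)) (BT.leaf cE2596)) (BT.node 2597 (BT.leaf cE2597) (BT.leaf cE2598)))) (BT.node 2603 (BT.node 2601 (BT.node 2600 (BT.node 2599 (BT.leaf cE2599) (BT.leaf cE2600)) (BT.leaf cE2601)) (BT.node 2602 (BT.leaf cE2602) (BT.leaf cE2603))) (BT.node 2606 (BT.node 2605 (BT.node 2604 (BT.leaf cE2604) (BT.leaf cE2605)) (BT.leaf cE2606)) (BT.node 2607 (BT.leaf cE2607) (BT.leaf cE2608)))))) (BT.node 2629 (BT.node 2619 (BT.node 2614 (BT.node 2611 (BT.node 2610 (BT.node 2609 (BT.leaf cE2609) (BT.leaf cE2610)) (BT.leaf cE2611)) (BT.node 2613 (BT.node 2612 (BT.leaf cE2612) (BT.leaf cE2613)) (BT.leaf cE2614))) (BT.node 2617 (BT.node 2616 (BT.node 2615 (BT.leaf cE2615) (BT.leaf cE2616)) (BT.leaf cE2617))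 (BT.node 2618 (BT.leaf cE2618) (BT.leaf cE2619)))) (BT.node 2624 (BT.node 2622 (BT.node 2621 (BT.node 2620 (BT.leaf cE2620) (BT.leaf cE2621)) (BT.leaf cE2622)) (BT.node 2623 (BT.leaf cE2623) (BT.leaf cE2624))) (BT.node 2627 (BT.node 2626 (BT.node 2625 (BT.leaf cE2625) (BT.leaf cE2626)) (BT.leaf cE2627)) (BT.node 2628 (BT.leaf cE2628) (BT.leaf cE2629))))) (BT.node 2639 (BT.node 2634 (BT.node 2632 (BT.node 2631 (BT.node 2630 (BT.leaf cE2630) (BT.leaf cE2631)) (BT.leaf cE2632)) (BT.node 2633 (BT.leaf cE2633) (BT.leaf cE2634))) (BT.node 2637 (BT.node 2636 (BT.node 2635 (BT.leaf cE2635) (BT.leaf cE2636)) (BT.leaf cE2637)) (BT.node 2638 (BT.leaf cE2638) (BT.leaf cE2639)))) (BT.node 2644 (BT.node 2642 (BT.node 2641 (BT.node 2640 (BT.leaf cE2640) (BT.leaf cE2641)) (BT.leaf cE2642)) (BT.node 2643 (BT.leaf cE2643) (BT.leaf cE2644))) (BT.node 2647 (BT.node 2646 (BT.node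 2645 (BT.leaf cE2645) (BT.leaf cE2646)) (BT.leaf cE2647)) (BT.node 2648 (BT.leaf cE2648) (BT.leaf cE2649))))))))))))
/-- justification chunks -/
def colJT : BT ℕ := (BT.node 1324 (BT.node 662 (BT.node 331 (BT.node 165 (BT.node 82 (BT.node 41 (BT.node 20 (BT.node 10 (BT.node 5 (BT.node 2 (BT.node 1 (BT.node 0 (BT.leaf cJ0) (BT.leaf cJ1)) (BT.leaf cJ2)) (BT.node 4 (BT.node 3 (BT.leaf cJ3) (BT.leaf cJ4)) (BT.leaf cJ5))) (BT.node 8 (BT.node 7 (BT.node 6 (BT.leaf cJ6) (BT.leaf cJ7)) (BT.leaf cJ8)) (BT.node 9 (BT.leaf cJ9) (BT.leaf cJ10)))) (BT.node 15 (BT.node 13 (BT.node 12 (BT.node 11 (BT.leaf cJ11) (BT.leaf cJ12)) (BT.leaf cJ13)) (BT.node 14 (BT.leaf cJ14) (BT.leaf cJ15))) (BT.node 18 (BT.node 17 (BT.node 16 (BT.leaf cJ16) (BT.leaf cJ17)) (BT.leaf cJ18)) (BT.node 19 (BT.leaf cJ19) (BT.leaf cJ20))))) (BT.node 31 (BT.node 26 (BT.node 23 (BT.node 22 (BT.node 21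 (BT.leaf cJ21) (BT.leaf cJ22)) (BT.leaf cJ23)) (BT.node 25 (BT.node 24 (BT.leaf cJ24) (BT.leaf cJ25)) (BT.leaf cJ26))) (BT.node 29 (BT.node 28 (BT.node 27 (BT.leaf cJ27) (BT.leaf cJ28)) (BT.leaf cJ29)) (BT.node 30 (BT.leaf cJ30) (BT.leaf cJ31)))) (BT.node 36 (BT.node 34 (BT.node 33 (BT.node 32 (BT.leaf cJ32) (BT.leaf cJ33)) (BT.leaf cJ34)) (BT.node 35 (BT.leaf cJ35) (BT.leaf cJ36))) (BT.node 39 (BT.node 38 (BT.node 37 (BT.leaf cJ37) (BT.leaf cJ38)) (BT.leaf cJ39)) (BT.node 40 (BT.leaf cJ40) (BT.leaf cJ41)))))) (BT.node 62 (BT.node 52 (BT.node 47 (BT.node 44 (BT.node 43 (BT.node 42 (BT.leaf cJ42) (BT.leaf cJ43)) (BT.leaf cJ44)) (BT.node 46 (BT.node 45 (BT.leaf cJ45) (BT.leaf cJ46)) (BT.leaf cJ47))) (BT.node 50 (BT.node 49 (BT.node 48 (BT.leaf cJ48) (BT.leaf cJ49)) (BT.leaf cJ50)) (BT.node 51 (BT.leaf cJ51) (BT.leaf cJ52)))) (BT.node 57 (BT.node 55 (BT.node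 54 (BT.node 53 (BT.leaf cJ53) (BT.leaf cJ54)) (BT.leaf cJ55)) (BT.node 56 (BT.leaf cJ56) (BT.leaf cJ57))) (BT.node 60 (BT.node 59 (BT.node 58 (BT.leaf cJ58) (BT.leaf cJ59)) (BT.leaf cJ60)) (BT.node 61 (BT.leaf cJ61) (BT.leaf cJ62))))) (BT.node 72 (BT.node 67 (BT.node 65 (BT.node 64 (BT.node 63 (BT.leaf cJ63) (BT.leaf cJ64)) (BT.leaf cJ65)) (BT.node 66 (BT.leaf cJ66) (BT.leaf cJ67))) (BT.node 70 (BT.node 69 (BT.node 68 (BT.leaf cJ68) (BT.leaf cJ69)) (BT.leaf cJ70)) (BT.node 71 (BT.leaf cJ71) (BT.leaf cJ72)))) (BT.node 77 (BT.node 75 (BT.node 74 (BT.node 73 (BT.leaf cJ73) (BT.leaf cJ74)) (BT.leaf cJ75)) (BT.node 76 (BT.leaf cJ76) (BT.leaf cJ77))) (BT.node 80 (BT.node 79 (BT.node 78 (BT.leaf cJ78) (BT.leaf cJ79)) (BT.leaf cJ80)) (BT.node 81 (BT.leaf cJ81) (BT.leaf cJ82))))))) (BT.node 124 (BT.node 103 (BT.node 93 (BT.node 88 (BT.node 85 (BT.node 84 (BT.node 83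 (BT.leaf cJ83) (BT.leaf cJ84)) (BT.leaf cJ85)) (BT.node 87 (BT.node 86 (BT.leaf cJ86) (BT.leaf cJ87)) (BT.leaf cJ88))) (BT.node 91 (BT.node 90 (BT.node 89 (BT.leaf cJ89) (BT.leaf cJ90)) (BT.leaf cJ91)) (BT.node 92 (BT.leaf cJ92) (BT.leaf cJ93)))) (BT.node 98 (BT.node 96 (BT.node 95 (BT.node 94 (BT.leaf cJ94) (BT.leaf cJ95)) (BT.leaf cJ96)) (BT.node 97 (BT.leaf cJ97) (BT.leaf cJ98))) (BT.node 101 (BT.node 100 (BT.node 99 (BT.leaf cJ99) (BT.leaf cJ100)) (BT.leaf cJ101)) (BT.node 102 (BT.leaf cJ102) (BT.leaf cJ103))))) (BT.node 114 (BT.node 109 (BT.node 106 (BT.node 105 (BT.node 104 (BT.leaf cJ104) (BT.leaf cJ105)) (BT.leaf cJ106)) (BT.node 108 (BT.node 107 (BT.leaf cJ107) (BT.leaf cJ108)) (BT.leaf cJ109))) (BT.node 112 (BT.node 111 (BT.node 110 (BT.leaf cJ110) (BT.leaf cJ111)) (BT.leaf cJ112)) (BT.node 113 (BT.leaf cJ113) (BT.leaf cJ114)))) (BT.node 119 (BT.node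 117 (BT.node 116 (BT.node 115 (BT.leaf cJ115) (BT.leaf cJ116)) (BT.leaf cJ117)) (BT.node 118 (BT.leaf cJ118) (BT.leaf cJ119))) (BT.node 122 (BT.node 121 (BT.node 120 (BT.leaf cJ120) (BT.leaf cJ121)) (BT.leaf cJ122)) (BT.node 123 (BT.leaf cJ123) (BT.leaf cJ124)))))) (BT.node 145 (BT.node 135 (BT.node 130 (BT.node 127 (BT.node 126 (BT.node 125 (BT.leaf cJ125) (BT.leaf cJ126)) (BT.leaf cJ127)) (BT.node 129 (BT.node 128 (BT.leaf cJ128) (BT.leaf cJ129)) (BT.leaf cJ130))) (BT.node 133 (BT.node 132 (BT.node 131 (BT.leaf cJ131) (BT.leaf cJ132)) (BT.leaf cJ133)) (BT.node 134 (BT.leaf cJ134) (BT.leaf cJ135)))) (BT.node 140 (BT.node 138 (BT.node 137 (BT.node 136 (BT.leaf cJ136) (BT.leaf cJ137)) (BT.leaf cJ138)) (BT.node 139 (BT.leaf cJ139) (BT.leaf cJ140))) (BT.node 143 (BT.node 142 (BT.node 141 (BT.leaf cJ141) (BT.leaf cJ142)) (BT.leaf cJ143)) (BT.node 144 (BT.leaf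 cJ144) (BT.leaf cJ145))))) (BT.node 155 (BT.node 150 (BT.node 148 (BT.node 147 (BT.node 146 (BT.leaf cJ146) (BT.leaf cJ147)) (BT.leaf cJ148)) (BT.node 149 (BT.leaf cJ149) (BT.leaf cJ150))) (BT.node 153 (BT.node 152 (BT.node 151 (BT.leaf cJ151) (BT.leaf cJ152)) (BT.leaf cJ153)) (BT.node 154 (BT.leaf cJ154) (BT.leaf cJ155)))) (BT.node 160 (BT.node 158 (BT.node 157 (BT.node 156 (BT.leaf cJ156) (BT.leaf cJ157)) (BT.leaf cJ158)) (BT.node 159 (BT.leaf cJ159) (BT.leaf cJ160))) (BT.node 163 (BT.node 162 (BT.node 161 (BT.leaf cJ161) (BT.leaf cJ162)) (BT.leaf cJ163)) (BT.node 164 (BT.leaf cJ164) (BT.leaf cJ165)))))))) (BT.node 248 (BT.node 207 (BT.node 186 (BT.node 176 (BT.node 171 (BT.node 168 (BT.node 167 (BT.node 166 (BT.leaf cJ166) (BT.leaf cJ167)) (BT.leaf cJ168)) (BT.node 170 (BT.node 169 (BT.leaf cJ169) (BT.leaf cJ170)) (BT.leaf cJ171))) (BT.node 174 (BT.node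 173 (BT.node 172 (BT.leaf cJ172) (BT.leaf cJ173)) (BT.leaf cJ174)) (BT.node 175 (BT.leaf cJ175) (BT.leaf cJ176)))) (BT.node 181 (BT.node 179 (BT.node 178 (BT.node 177 (BT.leaf cJ177) (BT.leaf cJ178)) (BT.leaf cJ179)) (BT.node 180 (BT.leaf cJ180) (BT.leaf cJ181))) (BT.node 184 (BT.node 183 (BT.node 182 (BT.leaf cJ182) (BT.leaf cJ183)) (BT.leaf cJ184)) (BT.node 185 (BT.leaf cJ185) (BT.leaf cJ186))))) (BT.node 197 (BT.node 192 (BT.node 189 (BT.node 188 (BT.node 187 (BT.leaf cJ187) (BT.leaf cJ188)) (BT.leaf cJ189)) (BT.node 191 (BT.node 190 (BT.leaf cJ190) (BT.leaf cJ191)) (BT.leaf cJ192))) (BT.node 195 (BT.node 194 (BT.node 193 (BT.leaf cJ193) (BT.leaf cJ194)) (BT.leaf cJ195)) (BT.node 196 (BT.leaf cJ196) (BT.leaf cJ197)))) (BT.node 202 (BT.node 200 (BT.node 199 (BT.node 198 (BT.leaf cJ198) (BT.leaf cJ199)) (BT.leaf cJ200)) (BT.node 201 (BT.leaf cJ201) (BT.leaf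 cJ202))) (BT.node 205 (BT.node 204 (BT.node 203 (BT.leaf cJ203) (BT.leaf cJ204)) (BT.leaf cJ205)) (BT.node 206 (BT.leaf cJ206) (BT.leaf cJ207)))))) (BT.node 228 (BT.node 218 (BT.node 213 (BT.node 210 (BT.node 209 (BT.node 208 (BT.leaf cJ208) (BT.leaf cJ209)) (BT.leaf cJ210)) (BT.node 212 (BT.node 211 (BT.leaf cJ211) (BT.leaf cJ212)) (BT.leaf cJ213))) (BT.node 216 (BT.node 215 (BT.node 214 (BT.leaf cJ214) (BT.leaf cJ215)) (BT.leaf cJ216)) (BT.node 217 (BT.leaf cJ217) (BT.leaf cJ218)))) (BT.node 223 (BT.node 221 (BT.node 220 (BT.node 219 (BT.leaf cJ219) (BT.leaf cJ220)) (BT.leaf cJ221)) (BT.node 222 (BT.leaf cJ222) (BT.leaf cJ223))) (BT.node 226 (BT.node 225 (BT.node 224 (BT.leaf cJ224) (BT.leaf cJ225)) (BT.leaf cJ226)) (BT.node 227 (BT.leaf cJ227) (BT.leaf cJ228))))) (BT.node 238 (BT.node 233 (BT.node 231 (BT.node 230 (BT.node 229 (BT.leaf cJ229) (BT.leaf cJ230))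 (BT.leaf cJ231)) (BT.node 232 (BT.leaf cJ232) (BT.leaf cJ233))) (BT.node 236 (BT.node 235 (BT.node 234 (BT.leaf cJ234) (BT.leaf cJ235)) (BT.leaf cJ236)) (BT.node 237 (BT.leaf cJ237) (BT.leaf cJ238)))) (BT.node 243 (BT.node 241 (BT.node 240 (BT.node 239 (BT.leaf cJ239) (BT.leaf cJ240)) (BT.leaf cJ241)) (BT.node 242 (BT.leaf cJ242) (BT.leaf cJ243))) (BT.node 246 (BT.node 245 (BT.node 244 (BT.leaf cJ244) (BT.leaf cJ245)) (BT.leaf cJ246)) (BT.node 247 (BT.leaf cJ247) (BT.leaf cJ248))))))) (BT.node 290 (BT.node 269 (BT.node 259 (BT.node 254 (BT.node 251 (BT.node 250 (BT.node 249 (BT.leaf cJ249) (BT.leaf cJ250)) (BT.leaf cJ251)) (BT.node 253 (BT.node 252 (BT.leaf cJ252) (BT.leaf cJ253)) (BT.leaf cJ254))) (BT.node 257 (BT.node 256 (BT.node 255 (BT.leaf cJ255) (BT.leaf cJ256)) (BT.leaf cJ257)) (BT.node 258 (BT.leaf cJ258) (BT.leaf cJ259)))) (BT.node 264 (BT.node 262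 (BT.node 261 (BT.node 260 (BT.leaf cJ260) (BT.leaf cJ261)) (BT.leaf cJ262)) (BT.node 263 (BT.leaf cJ263) (BT.leaf cJ264))) (BT.node 267 (BT.node 266 (BT.node 265 (BT.leaf cJ265) (BT.leaf cJ266)) (BT.leaf cJ267)) (BT.node 268 (BT.leaf cJ268) (BT.leaf cJ269))))) (BT.node 280 (BT.node 275 (BT.node 272 (BT.node 271 (BT.node 270 (BT.leaf cJ270) (BT.leaf cJ271)) (BT.leaf cJ272)) (BT.node 274 (BT.node 273 (BT.leaf cJ273) (BT.leaf cJ274)) (BT.leaf cJ275))) (BT.node 278 (BT.node 277 (BT.node 276 (BT.leaf cJ276) (BT.leaf cJ277)) (BT.leaf cJ278)) (BT.node 279 (BT.leaf cJ279) (BT.leaf cJ280)))) (BT.node 285 (BT.node 283 (BT.node 282 (BT.node 281 (BT.leaf cJ281) (BT.leaf cJ282)) (BT.leaf cJ283)) (BT.node 284 (BT.leaf cJ284) (BT.leaf cJ285))) (BT.node 288 (BT.node 287 (BT.node 286 (BT.leaf cJ286) (BT.leaf cJ287)) (BT.leaf cJ288)) (BT.node 289 (BT.leaf cJ289) (BT.leaf cJ290))))))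 (BT.node 311 (BT.node 301 (BT.node 296 (BT.node 293 (BT.node 292 (BT.node 291 (BT.leaf cJ291) (BT.leaf cJ292)) (BT.leaf cJ293)) (BT.node 295 (BT.node 294 (BT.leaf cJ294) (BT.leaf cJ295)) (BT.leaf cJ296))) (BT.node 299 (BT.node 298 (BT.node 297 (BT.leaf cJ297) (BT.leaf cJ298)) (BT.leaf cJ299)) (BT.node 300 (BT.leaf cJ300) (BT.leaf cJ301)))) (BT.node 306 (BT.node 304 (BT.node 303 (BT.node 302 (BT.leaf cJ302) (BT.leaf cJ303)) (BT.leaf cJ304)) (BT.node 305 (BT.leaf cJ305) (BT.leaf cJ306))) (BT.node 309 (BT.node 308 (BT.node 307 (BT.leaf cJ307) (BT.leaf cJ308)) (BT.leaf cJ309)) (BT.node 310 (BT.leaf cJ310) (BT.leaf cJ311))))) (BT.node 321 (BT.node 316 (BT.node 314 (BT.node 313 (BT.node 312 (BT.leaf cJ312) (BT.leaf cJ313)) (BT.leaf cJ314)) (BT.node 315 (BT.leaf cJ315) (BT.leaf cJ316))) (BT.node 319 (BT.node 318 (BT.node 317 (BT.leaf cJ317) (BT.leaf cJ318)) (BT.leaf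 cJ319)) (BT.node 320 (BT.leaf cJ320) (BT.leaf cJ321)))) (BT.node 326 (BT.node 324 (BT.node 323 (BT.node 322 (BT.leaf cJ322) (BT.leaf cJ323)) (BT.leaf cJ324)) (BT.node 325 (BT.leaf cJ325) (BT.leaf cJ326))) (BT.node 329 (BT.node 328 (BT.node 327 (BT.leaf cJ327) (BT.leaf cJ328)) (BT.leaf cJ329)) (BT.node 330 (BT.leaf cJ330) (BT.leaf cJ331))))))))) (BT.node 497 (BT.node 414 (BT.node 373 (BT.node 352 (BT.node 342 (BT.node 337 (BT.node 334 (BT.node 333 (BT.node 332 (BT.leaf cJ332) (BT.leaf cJ333)) (BT.leaf cJ334)) (BT.node 336 (BT.node 335 (BT.leaf cJ335) (BT.leaf cJ336)) (BT.leaf cJ337))) (BT.node 340 (BT.node 339 (BT.node 338 (BT.leaf cJ338) (BT.leaf cJ339)) (BT.leaf cJ340)) (BT.node 341 (BT.leaf cJ341) (BT.leaf cJ342)))) (BT.node 347 (BT.node 345 (BT.node 344 (BT.node 343 (BT.leaf cJ343) (BT.leaf cJ344)) (BT.leaf cJ345)) (BT.node 346 (BT.leaf cJ346) (BT.leaf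 cJ347))) (BT.node 350 (BT.node 349 (BT.node 348 (BT.leaf cJ348) (BT.leaf cJ349)) (BT.leaf cJ350)) (BT.node 351 (BT.leaf cJ351) (BT.leaf cJ352))))) (BT.node 363 (BT.node 358 (BT.node 355 (BT.node 354 (BT.node 353 (BT.leaf cJ353) (BT.leaf cJ354)) (BT.leaf cJ355)) (BT.node 357 (BT.node 356 (BT.leaf cJ356) (BT.leaf cJ357)) (BT.leaf cJ358))) (BT.node 361 (BT.node 360 (BT.node 359 (BT.leaf cJ359) (BT.leaf cJ360)) (BT.leaf cJ361)) (BT.node 362 (BT.leaf cJ362) (BT.leaf cJ363)))) (BT.node 368 (BT.node 366 (BT.node 365 (BT.node 364 (BT.leaf cJ364) (BT.leaf cJ365)) (BT.leaf cJ366)) (BT.node 367 (BT.leaf cJ367) (BT.leaf cJ368))) (BT.node 371 (BT.node 370 (BT.node 369 (BT.leaf cJ369) (BT.leaf cJ370)) (BT.leaf cJ371)) (BT.node 372 (BT.leaf cJ372) (BT.leaf cJ373)))))) (BT.node 394 (BT.node 384 (BT.node 379 (BT.node 376 (BT.node 375 (BT.node 374 (BT.leaf cJ374) (BT.leaf cJ375))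 (BT.leaf cJ376)) (BT.node 378 (BT.node 377 (BT.leaf cJ377) (BT.leaf cJ378)) (BT.leaf cJ379))) (BT.node 382 (BT.node 381 (BT.node 380 (BT.leaf cJ380) (BT.leaf cJ381)) (BT.leaf cJ382)) (BT.node 383 (BT.leaf cJ383) (BT.leaf cJ384)))) (BT.node 389 (BT.node 387 (BT.node 386 (BT.node 385 (BT.leaf cJ385) (BT.leaf cJ386)) (BT.leaf cJ387)) (BT.node 388 (BT.leaf cJ388) (BT.leaf cJ389))) (BT.node 392 (BT.node 391 (BT.node 390 (BT.leaf cJ390) (BT.leaf cJ391)) (BT.leaf cJ392)) (BT.node 393 (BT.leaf cJ393) (BT.leaf cJ394))))) (BT.node 404 (BT.node 399 (BT.node 397 (BT.node 396 (BT.node 395 (BT.leaf cJ395) (BT.leaf cJ396)) (BT.leaf cJ397)) (BT.node 398 (BT.leaf cJ398) (BT.leaf cJ399))) (BT.node 402 (BT.node 401 (BT.node 400 (BT.leaf cJ400) (BT.leaf cJ401)) (BT.leaf cJ402)) (BT.node 403 (BT.leaf cJ403) (BT.leaf cJ404)))) (BT.node 409 (BT.node 407 (BT.node 406 (BT.node 405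 (BT.leaf cJ405) (BT.leaf cJ406)) (BT.leaf cJ407)) (BT.node 408 (BT.leaf cJ408) (BT.leaf cJ409))) (BT.node 412 (BT.node 411 (BT.node 410 (BT.leaf cJ410) (BT.leaf cJ411)) (BT.leaf cJ412)) (BT.node 413 (BT.leaf cJ413) (BT.leaf cJ414))))))) (BT.node 456 (BT.node 435 (BT.node 425 (BT.node 420 (BT.node 417 (BT.node 416 (BT.node 415 (BT.leaf cJ415) (BT.leaf cJ416)) (BT.leaf cJ417)) (BT.node 419 (BT.node 418 (BT.leaf cJ418) (BT.leaf cJ419)) (BT.leaf cJ420))) (BT.node 423 (BT.node 422 (BT.node 421 (BT.leaf cJ421) (BT.leaf cJ422)) (BT.leaf cJ423)) (BT.node 424 (BT.leaf cJ424) (BT.leaf cJ425)))) (BT.node 430 (BT.node 428 (BT.node 427 (BT.node 426 (BT.leaf cJ426) (BT.leaf cJ427)) (BT.leaf cJ428)) (BT.node 429 (BT.leaf cJ429) (BT.leaf cJ430))) (BT.node 433 (BT.node 432 (BT.node 431 (BT.leaf cJ431) (BT.leaf cJ432)) (BT.leaf cJ433)) (BT.node 434 (BT.leaf cJ434) (BT.leaf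 cJ435))))) (BT.node 446 (BT.node 441 (BT.node 438 (BT.node 437 (BT.node 436 (BT.leaf cJ436) (BT.leaf cJ437)) (BT.leaf cJ438)) (BT.node 440 (BT.node 439 (BT.leaf cJ439) (BT.leaf cJ440)) (BT.leaf cJ441))) (BT.node 444 (BT.node 443 (BT.node 442 (BT.leaf cJ442) (BT.leaf cJ443)) (BT.leaf cJ444)) (BT.node 445 (BT.leaf cJ445) (BT.leaf cJ446)))) (BT.node 451 (BT.node 449 (BT.node 448 (BT.node 447 (BT.leaf cJ447) (BT.leaf cJ448)) (BT.leaf cJ449)) (BT.node 450 (BT.leaf cJ450) (BT.leaf cJ451))) (BT.node 454 (BT.node 453 (BT.node 452 (BT.leaf cJ452) (BT.leaf cJ453)) (BT.leaf cJ454)) (BT.node 455 (BT.leaf cJ455) (BT.leaf cJ456)))))) (BT.node 477 (BT.node 467 (BT.node 462 (BT.node 459 (BT.node 458 (BT.node 457 (BT.leaf cJ457) (BT.leaf cJ458)) (BT.leaf cJ459)) (BT.node 461 (BT.node 460 (BT.leaf cJ460) (BT.leaf cJ461)) (BT.leaf cJ462))) (BT.node 465 (BT.node 464 (BT.node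 463 (BT.leaf cJ463) (BT.leaf cJ464)) (BT.leaf cJ465)) (BT.node 466 (BT.leaf cJ466) (BT.leaf cJ467)))) (BT.node 472 (BT.node 470 (BT.node 469 (BT.node 468 (BT.leaf cJ468) (BT.leaf cJ469)) (BT.leaf cJ470)) (BT.node 471 (BT.leaf cJ471) (BT.leaf cJ472))) (BT.node 475 (BT.node 474 (BT.node 473 (BT.leaf cJ473) (BT.leaf cJ474)) (BT.leaf cJ475)) (BT.node 476 (BT.leaf cJ476) (BT.leaf cJ477))))) (BT.node 487 (BT.node 482 (BT.node 480 (BT.node 479 (BT.node 478 (BT.leaf cJ478) (BT.leaf cJ479)) (BT.leaf cJ480)) (BT.node 481 (BT.leaf cJ481) (BT.leaf cJ482))) (BT.node 485 (BT.node 484 (BT.node 483 (BT.leaf cJ483) (BT.leaf cJ484)) (BT.leaf cJ485)) (BT.node 486 (BT.leaf cJ486) (BT.leaf cJ487)))) (BT.node 492 (BT.node 490 (BT.node 489 (BT.node 488 (BT.leaf cJ488) (BT.leaf cJ489)) (BT.leaf cJ490)) (BT.node 491 (BT.leaf cJ491) (BT.leaf cJ492))) (BT.node 495 (BT.node 494 (BT.node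 493 (BT.leaf cJ493) (BT.leaf cJ494)) (BT.leaf cJ495)) (BT.node 496 (BT.leaf cJ496) (BT.leaf cJ497)))))))) (BT.node 580 (BT.node 539 (BT.node 518 (BT.node 508 (BT.node 503 (BT.node 500 (BT.node 499 (BT.node 498 (BT.leaf cJ498) (BT.leaf cJ499)) (BT.leaf cJ500)) (BT.node 502 (BT.node 501 (BT.leaf cJ501) (BT.leaf cJ502)) (BT.leaf cJ503))) (BT.node 506 (BT.node 505 (BT.node 504 (BT.leaf cJ504) (BT.leaf cJ505)) (BT.leaf cJ506)) (BT.node 507 (BT.leaf cJ507) (BT.leaf cJ508)))) (BT.node 513 (BT.node 511 (BT.node 510 (BT.node 509 (BT.leaf cJ509) (BT.leaf cJ510)) (BT.leaf cJ511)) (BT.node 512 (BT.leaf cJ512) (BT.leaf cJ513))) (BT.node 516 (BT.node 515 (BT.node 514 (BT.leaf cJ514) (BT.leaf cJ515)) (BT.leaf cJ516)) (BT.node 517 (BT.leaf cJ517) (BT.leaf cJ518))))) (BT.node 529 (BT.node 524 (BT.node 521 (BT.node 520 (BT.node 519 (BT.leaf cJ519) (BT.leaf cJ520)) (BT.leaf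 cJ521)) (BT.node 523 (BT.node 522 (BT.leaf cJ522) (BT.leaf cJ523)) (BT.leaf cJ524))) (BT.node 527 (BT.node 526 (BT.node 525 (BT.leaf cJ525) (BT.leaf cJ526)) (BT.leaf cJ527)) (BT.node 528 (BT.leaf cJ528) (BT.leaf cJ529)))) (BT.node 534 (BT.node 532 (BT.node 531 (BT.node 530 (BT.leaf cJ530) (BT.leaf cJ531)) (BT.leaf cJ532)) (BT.node 533 (BT.leaf cJ533) (BT.leaf cJ534))) (BT.node 537 (BT.node 536 (BT.node 535 (BT.leaf cJ535) (BT.leaf cJ536)) (BT.leaf cJ537)) (BT.node 538 (BT.leaf cJ538) (BT.leaf cJ539)))))) (BT.node 560 (BT.node 550 (BT.node 545 (BT.node 542 (BT.node 541 (BT.node 540 (BT.leaf cJ540) (BT.leaf cJ541)) (BT.leaf cJ542)) (BT.node 544 (BT.node 543 (BT.leaf cJ543) (BT.leaf cJ544)) (BT.leaf cJ545))) (BT.node 548 (BT.node 547 (BT.node 546 (BT.leaf cJ546) (BT.leaf cJ547)) (BT.leaf cJ548)) (BT.node 549 (BT.leaf cJ549) (BT.leaf cJ550)))) (BT.node 555 (BT.node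 553 (BT.node 552 (BT.node 551 (BT.leaf cJ551) (BT.leaf cJ552)) (BT.leaf cJ553)) (BT.node 554 (BT.leaf cJ554) (BT.leaf cJ555))) (BT.node 558 (BT.node 557 (BT.node 556 (BT.leaf cJ556) (BT.leaf cJ557)) (BT.leaf cJ558)) (BT.node 559 (BT.leaf cJ559) (BT.leaf cJ560))))) (BT.node 570 (BT.node 565 (BT.node 563 (BT.node 562 (BT.node 561 (BT.leaf cJ561) (BT.leaf cJ562)) (BT.leaf cJ563)) (BT.node 564 (BT.leaf cJ564) (BT.leaf cJ565))) (BT.node 568 (BT.node 567 (BT.node 566 (BT.leaf cJ566) (BT.leaf cJ567)) (BT.leaf cJ568)) (BT.node 569 (BT.leaf cJ569) (BT.leaf cJ570)))) (BT.node 575 (BT.node 573 (BT.node 572 (BT.node 571 (BT.leaf cJ571) (BT.leaf cJ572)) (BT.leaf cJ573)) (BT.node 574 (BT.leaf cJ574) (BT.leaf cJ575))) (BT.node 578 (BT.node 577 (BT.node 576 (BT.leaf cJ576) (BT.leaf cJ577)) (BT.leaf cJ578)) (BT.node 579 (BT.leaf cJ579) (BT.leaf cJ580))))))) (BT.node 621 (BT.node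 601 (BT.node 591 (BT.node 586 (BT.node 583 (BT.node 582 (BT.node 581 (BT.leaf cJ581) (BT.leaf cJ582)) (BT.leaf cJ583)) (BT.node 585 (BT.node 584 (BT.leaf cJ584) (BT.leaf cJ585)) (BT.leaf cJ586))) (BT.node 589 (BT.node 588 (BT.node 587 (BT.leaf cJ587) (BT.leaf cJ588)) (BT.leaf cJ589)) (BT.node 590 (BT.leaf cJ590) (BT.leaf cJ591)))) (BT.node 596 (BT.node 594 (BT.node 593 (BT.node 592 (BT.leaf cJ592) (BT.leaf cJ593)) (BT.leaf cJ594)) (BT.node 595 (BT.leaf cJ595) (BT.leaf cJ596))) (BT.node 599 (BT.node 598 (BT.node 597 (BT.leaf cJ597) (BT.leaf cJ598)) (BT.leaf cJ599)) (BT.node 600 (BT.leaf cJ600) (BT.leaf cJ601))))) (BT.node 611 (BT.node 606 (BT.node 604 (BT.node 603 (BT.node 602 (BT.leaf cJ602) (BT.leaf cJ603)) (BT.leaf cJ604)) (BT.node 605 (BT.leaf cJ605) (BT.leaf cJ606))) (BT.node 609 (BT.node 608 (BT.node 607 (BT.leaf cJ607) (BT.leaf cJ608)) (BT.leaf cJ609))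 (BT.node 610 (BT.leaf cJ610) (BT.leaf cJ611)))) (BT.node 616 (BT.node 614 (BT.node 613 (BT.node 612 (BT.leaf cJ612) (BT.leaf cJ613)) (BT.leaf cJ614)) (BT.node 615 (BT.leaf cJ615) (BT.leaf cJ616))) (BT.node 619 (BT.node 618 (BT.node 617 (BT.leaf cJ617) (BT.leaf cJ618)) (BT.leaf cJ619)) (BT.node 620 (BT.leaf cJ620) (BT.leaf cJ621)))))) (BT.node 642 (BT.node 632 (BT.node 627 (BT.node 624 (BT.node 623 (BT.node 622 (BT.leaf cJ622) (BT.leaf cJ623)) (BT.leaf cJ624)) (BT.node 626 (BT.node 625 (BT.leaf cJ625) (BT.leaf cJ626)) (BT.leaf cJ627))) (BT.node 630 (BT.node 629 (BT.node 628 (BT.leaf cJ628) (BT.leaf cJ629)) (BT.leaf cJ630)) (BT.node 631 (BT.leaf cJ631) (BT.leaf cJ632)))) (BT.node 637 (BT.node 635 (BT.node 634 (BT.node 633 (BT.leaf cJ633) (BT.leaf cJ634)) (BT.leaf cJ635)) (BT.node 636 (BT.leaf cJ636) (BT.leaf cJ637))) (BT.node 640 (BT.node 639 (BT.node 638 (BT.leaf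 cJ638) (BT.leaf cJ639)) (BT.leaf cJ640)) (BT.node 641 (BT.leaf cJ641) (BT.leaf cJ642))))) (BT.node 652 (BT.node 647 (BT.node 645 (BT.node 644 (BT.node 643 (BT.leaf cJ643) (BT.leaf cJ644)) (BT.leaf cJ645)) (BT.node 646 (BT.leaf cJ646) (BT.leaf cJ647))) (BT.node 650 (BT.node 649 (BT.node 648 (BT.leaf cJ648) (BT.leaf cJ649)) (BT.leaf cJ650)) (BT.node 651 (BT.leaf cJ651) (BT.leaf cJ652)))) (BT.node 657 (BT.node 655 (BT.node 654 (BT.node 653 (BT.leaf cJ653) (BT.leaf cJ654)) (BT.leaf cJ655)) (BT.node 656 (BT.leaf cJ656) (BT.leaf cJ657))) (BT.node 660 (BT.node 659 (BT.node 658 (BT.leaf cJ658) (BT.leaf cJ659)) (BT.leaf cJ660)) (BT.node 661 (BT.leaf cJ661) (BT.leaf cJ662)))))))))) (BT.node 993 (BT.node 828 (BT.node 745 (BT.node 704 (BT.node 683 (BT.node 673 (BT.node 668 (BT.node 665 (BT.node 664 (BT.node 663 (BT.leaf cJ663) (BT.leaf cJ664)) (BT.leaf cJ665)) (BT.node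 667 (BT.node 666 (BT.leaf cJ666) (BT.leaf cJ667)) (BT.leaf cJ668))) (BT.node 671 (BT.node 670 (BT.node 669 (BT.leaf cJ669) (BT.leaf cJ670)) (BT.leaf cJ671)) (BT.node 672 (BT.leaf cJ672) (BT.leaf cJ673)))) (BT.node 678 (BT.node 676 (BT.node 675 (BT.node 674 (BT.leaf cJ674) (BT.leaf cJ675)) (BT.leaf cJ676)) (BT.node 677 (BT.leaf cJ677) (BT.leaf cJ678))) (BT.node 681 (BT.node 680 (BT.node 679 (BT.leaf cJ679) (BT.leaf cJ680)) (BT.leaf cJ681)) (BT.node 682 (BT.leaf cJ682) (BT.leaf cJ683))))) (BT.node 694 (BT.node 689 (BT.node 686 (BT.node 685 (BT.node 684 (BT.leaf cJ684) (BT.leaf cJ685)) (BT.leaf cJ686)) (BT.node 688 (BT.node 687 (BT.leaf cJ687) (BT.leaf cJ688)) (BT.leaf cJ689))) (BT.node 692 (BT.node 691 (BT.node 690 (BT.leaf cJ690) (BT.leaf cJ691)) (BT.leaf cJ692)) (BT.node 693 (BT.leaf cJ693) (BT.leaf cJ694)))) (BT.node 699 (BT.node 697 (BT.node 696 (BT.node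 695 (BT.leaf cJ695) (BT.leaf cJ696)) (BT.leaf cJ697)) (BT.node 698 (BT.leaf cJ698) (BT.leaf cJ699))) (BT.node 702 (BT.node 701 (BT.node 700 (BT.leaf cJ700) (BT.leaf cJ701)) (BT.leaf cJ702)) (BT.node 703 (BT.leaf cJ703) (BT.leaf cJ704)))))) (BT.node 725 (BT.node 715 (BT.node 710 (BT.node 707 (BT.node 706 (BT.node 705 (BT.leaf cJ705) (BT.leaf cJ706)) (BT.leaf cJ707)) (BT.node 709 (BT.node 708 (BT.leaf cJ708) (BT.leaf cJ709)) (BT.leaf cJ710))) (BT.node 713 (BT.node 712 (BT.node 711 (BT.leaf cJ711) (BT.leaf cJ712)) (BT.leaf cJ713)) (BT.node 714 (BT.leaf cJ714) (BT.leaf cJ715)))) (BT.node 720 (BT.node 718 (BT.node 717 (BT.node 716 (BT.leaf cJ716) (BT.leaf cJ717)) (BT.leaf cJ718)) (BT.node 719 (BT.leaf cJ719) (BT.leaf cJ720))) (BT.node 723 (BT.node 722 (BT.node 721 (BT.leaf cJ721) (BT.leaf cJ722)) (BT.leaf cJ723)) (BT.node 724 (BT.leaf cJ724) (BT.leaf cJ725)))))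 (BT.node 735 (BT.node 730 (BT.node 728 (BT.node 727 (BT.node 726 (BT.leaf cJ726) (BT.leaf cJ727)) (BT.leaf cJ728)) (BT.node 729 (BT.leaf cJ729) (BT.leaf cJ730))) (BT.node 733 (BT.node 732 (BT.node 731 (BT.leaf cJ731) (BT.leaf cJ732)) (BT.leaf cJ733)) (BT.node 734 (BT.leaf cJ734) (BT.leaf cJ735)))) (BT.node 740 (BT.node 738 (BT.node 737 (BT.node 736 (BT.leaf cJ736) (BT.leaf cJ737)) (BT.leaf cJ738)) (BT.node 739 (BT.leaf cJ739) (BT.leaf cJ740))) (BT.node 743 (BT.node 742 (BT.node 741 (BT.leaf cJ741) (BT.leaf cJ742)) (BT.leaf cJ743)) (BT.node 744 (BT.leaf cJ744) (BT.leaf cJ745))))))) (BT.node 787 (BT.node 766 (BT.node 756 (BT.node 751 (BT.node 748 (BT.node 747 (BT.node 746 (BT.leaf cJ746) (BT.leaf cJ747)) (BT.leaf cJ748)) (BT.node 750 (BT.node 749 (BT.leaf cJ749) (BT.leaf cJ750)) (BT.leaf cJ751))) (BT.node 754 (BT.node 753 (BT.node 752 (BT.leaf cJ752) (BT.leaf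 cJ753)) (BT.leaf cJ754)) (BT.node 755 (BT.leaf cJ755) (BT.leaf cJ756)))) (BT.node 761 (BT.node 759 (BT.node 758 (BT.node 757 (BT.leaf cJ757) (BT.leaf cJ758)) (BT.leaf cJ759)) (BT.node 760 (BT.leaf cJ760) (BT.leaf cJ761))) (BT.node 764 (BT.node 763 (BT.node 762 (BT.leaf cJ762) (BT.leaf cJ763)) (BT.leaf cJ764)) (BT.node 765 (BT.leaf cJ765) (BT.leaf cJ766))))) (BT.node 777 (BT.node 772 (BT.node 769 (BT.node 768 (BT.node 767 (BT.leaf cJ767) (BT.leaf cJ768)) (BT.leaf cJ769)) (BT.node 771 (BT.node 770 (BT.leaf cJ770) (BT.leaf cJ771)) (BT.leaf cJ772))) (BT.node 775 (BT.node 774 (BT.node 773 (BT.leaf cJ773) (BT.leaf cJ774)) (BT.leaf cJ775)) (BT.node 776 (BT.leaf cJ776) (BT.leaf cJ777)))) (BT.node 782 (BT.node 780 (BT.node 779 (BT.node 778 (BT.leaf cJ778) (BT.leaf cJ779)) (BT.leaf cJ780)) (BT.node 781 (BT.leaf cJ781) (BT.leaf cJ782))) (BT.node 785 (BT.node 784 (BT.node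 783 (BT.leaf cJ783) (BT.leaf cJ784)) (BT.leaf cJ785)) (BT.node 786 (BT.leaf cJ786) (BT.leaf cJ787)))))) (BT.node 808 (BT.node 798 (BT.node 793 (BT.node 790 (BT.node 789 (BT.node 788 (BT.leaf cJ788) (BT.leaf cJ789)) (BT.leaf cJ790)) (BT.node 792 (BT.node 791 (BT.leaf cJ791) (BT.leaf cJ792)) (BT.leaf cJ793))) (BT.node 796 (BT.node 795 (BT.node 794 (BT.leaf cJ794) (BT.leaf cJ795)) (BT.leaf cJ796)) (BT.node 797 (BT.leaf cJ797) (BT.leaf cJ798)))) (BT.node 803 (BT.node 801 (BT.node 800 (BT.node 799 (BT.leaf cJ799) (BT.leaf cJ800)) (BT.leaf cJ801)) (BT.node 802 (BT.leaf cJ802) (BT.leaf cJ803))) (BT.node 806 (BT.node 805 (BT.node 804 (BT.leaf cJ804) (BT.leaf cJ805)) (BT.leaf cJ806)) (BT.node 807 (BT.leaf cJ807) (BT.leaf cJ808))))) (BT.node 818 (BT.node 813 (BT.node 811 (BT.node 810 (BT.node 809 (BT.leaf cJ809) (BT.leaf cJ810)) (BT.leaf cJ811)) (BT.node 812 (BT.leaf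 cJ812) (BT.leaf cJ813))) (BT.node 816 (BT.node 815 (BT.node 814 (BT.leaf cJ814) (BT.leaf cJ815)) (BT.leaf cJ816)) (BT.node 817 (BT.leaf cJ817) (BT.leaf cJ818)))) (BT.node 823 (BT.node 821 (BT.node 820 (BT.node 819 (BT.leaf cJ819) (BT.leaf cJ820)) (BT.leaf cJ821)) (BT.node 822 (BT.leaf cJ822) (BT.leaf cJ823))) (BT.node 826 (BT.node 825 (BT.node 824 (BT.leaf cJ824) (BT.leaf cJ825)) (BT.leaf cJ826)) (BT.node 827 (BT.leaf cJ827) (BT.leaf cJ828)))))))) (BT.node 911 (BT.node 870 (BT.node 849 (BT.node 839 (BT.node 834 (BT.node 831 (BT.node 830 (BT.node 829 (BT.leaf cJ829) (BT.leaf cJ830)) (BT.leaf cJ831)) (BT.node 833 (BT.node 832 (BT.leaf cJ832) (BT.leaf cJ833)) (BT.leaf cJ834))) (BT.node 837 (BT.node 836 (BT.node 835 (BT.leaf cJ835) (BT.leaf cJ836)) (BT.leaf cJ837)) (BT.node 838 (BT.leaf cJ838) (BT.leaf cJ839)))) (BT.node 844 (BT.node 842 (BT.node 841 (BT.node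 840 (BT.leaf cJ840) (BT.leaf cJ841)) (BT.leaf cJ842)) (BT.node 843 (BT.leaf cJ843) (BT.leaf cJ844))) (BT.node 847 (BT.node 846 (BT.node 845 (BT.leaf cJ845) (BT.leaf cJ846)) (BT.leaf cJ847)) (BT.node 848 (BT.leaf cJ848) (BT.leaf cJ849))))) (BT.node 860 (BT.node 855 (BT.node 852 (BT.node 851 (BT.node 850 (BT.leaf cJ850) (BT.leaf cJ851)) (BT.leaf cJ852)) (BT.node 854 (BT.node 853 (BT.leaf cJ853) (BT.leaf cJ854)) (BT.leaf cJ855))) (BT.node 858 (BT.node 857 (BT.node 856 (BT.leaf cJ856) (BT.leaf cJ857)) (BT.leaf cJ858)) (BT.node 859 (BT.leaf cJ859) (BT.leaf cJ860)))) (BT.node 865 (BT.node 863 (BT.node 862 (BT.node 861 (BT.leaf cJ861) (BT.leaf cJ862)) (BT.leaf cJ863)) (BT.node 864 (BT.leaf cJ864) (BT.leaf cJ865))) (BT.node 868 (BT.node 867 (BT.node 866 (BT.leaf cJ866) (BT.leaf cJ867)) (BT.leaf cJ868)) (BT.node 869 (BT.leaf cJ869) (BT.leaf cJ870)))))) (BT.node 891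 (BT.node 881 (BT.node 876 (BT.node 873 (BT.node 872 (BT.node 871 (BT.leaf cJ871) (BT.leaf cJ872)) (BT.leaf cJ873)) (BT.node 875 (BT.node 874 (BT.leaf cJ874) (BT.leaf cJ875)) (BT.leaf cJ876))) (BT.node 879 (BT.node 878 (BT.node 877 (BT.leaf cJ877) (BT.leaf cJ878)) (BT.leaf cJ879)) (BT.node 880 (BT.leaf cJ880) (BT.leaf cJ881)))) (BT.node 886 (BT.node 884 (BT.node 883 (BT.node 882 (BT.leaf cJ882) (BT.leaf cJ883)) (BT.leaf cJ884)) (BT.node 885 (BT.leaf cJ885) (BT.leaf cJ886))) (BT.node 889 (BT.node 888 (BT.node 887 (BT.leaf cJ887) (BT.leaf cJ888)) (BT.leaf cJ889)) (BT.node 890 (BT.leaf cJ890) (BT.leaf cJ891))))) (BT.node 901 (BT.node 896 (BT.node 894 (BT.node 893 (BT.node 892 (BT.leaf cJ892) (BT.leaf cJ893)) (BT.leaf cJ894)) (BT.node 895 (BT.leaf cJ895) (BT.leaf cJ896))) (BT.node 899 (BT.node 898 (BT.node 897 (BT.leaf cJ897) (BT.leaf cJ898)) (BT.leaf cJ899)) (BT.node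 900 (BT.leaf cJ900) (BT.leaf cJ901)))) (BT.node 906 (BT.node 904 (BT.node 903 (BT.node 902 (BT.leaf cJ902) (BT.leaf cJ903)) (BT.leaf cJ904)) (BT.node 905 (BT.leaf cJ905) (BT.leaf cJ906))) (BT.node 909 (BT.node 908 (BT.node 907 (BT.leaf cJ907) (BT.leaf cJ908)) (BT.leaf cJ909)) (BT.node 910 (BT.leaf cJ910) (BT.leaf cJ911))))))) (BT.node 952 (BT.node 932 (BT.node 922 (BT.node 917 (BT.node 914 (BT.node 913 (BT.node 912 (BT.leaf cJ912) (BT.leaf cJ913)) (BT.leaf cJ914)) (BT.node 916 (BT.node 915 (BT.leaf cJ915) (BT.leaf cJ916)) (BT.leaf cJ917))) (BT.node 920 (BT.node 919 (BT.node 918 (BT.leaf cJ918) (BT.leaf cJ919)) (BT.leaf cJ920)) (BT.node 921 (BT.leaf cJ921) (BT.leaf cJ922)))) (BT.node 927 (BT.node 925 (BT.node 924 (BT.node 923 (BT.leaf cJ923) (BT.leaf cJ924)) (BT.leaf cJ925)) (BT.node 926 (BT.leaf cJ926) (BT.leaf cJ927))) (BT.node 930 (BT.node 929 (BT.node 928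 (BT.leaf cJ928) (BT.leaf cJ929)) (BT.leaf cJ930)) (BT.node 931 (BT.leaf cJ931) (BT.leaf cJ932))))) (BT.node 942 (BT.node 937 (BT.node 935 (BT.node 934 (BT.node 933 (BT.leaf cJ933) (BT.leaf cJ934)) (BT.leaf cJ935)) (BT.node 936 (BT.leaf cJ936) (BT.leaf cJ937))) (BT.node 940 (BT.node 939 (BT.node 938 (BT.leaf cJ938) (BT.leaf cJ939)) (BT.leaf cJ940)) (BT.node 941 (BT.leaf cJ941) (BT.leaf cJ942)))) (BT.node 947 (BT.node 945 (BT.node 944 (BT.node 943 (BT.leaf cJ943) (BT.leaf cJ944)) (BT.leaf cJ945)) (BT.node 946 (BT.leaf cJ946) (BT.leaf cJ947))) (BT.node 950 (BT.node 949 (BT.node 948 (BT.leaf cJ948) (BT.leaf cJ949)) (BT.leaf cJ950)) (BT.node 951 (BT.leaf cJ951) (BT.leaf cJ952)))))) (BT.node 973 (BT.node 963 (BT.node 958 (BT.node 955 (BT.node 954 (BT.node 953 (BT.leaf cJ953) (BT.leaf cJ954)) (BT.leaf cJ955)) (BT.node 957 (BT.node 956 (BT.leaf cJ956) (BT.leaf cJ957))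 (BT.leaf cJ958))) (BT.node 961 (BT.node 960 (BT.node 959 (BT.leaf cJ959) (BT.leaf cJ960)) (BT.leaf cJ961)) (BT.node 962 (BT.leaf cJ962) (BT.leaf cJ963)))) (BT.node 968 (BT.node 966 (BT.node 965 (BT.node 964 (BT.leaf cJ964) (BT.leaf cJ965)) (BT.leaf cJ966)) (BT.node 967 (BT.leaf cJ967) (BT.leaf cJ968))) (BT.node 971 (BT.node 970 (BT.node 969 (BT.leaf cJ969) (BT.leaf cJ970)) (BT.leaf cJ971)) (BT.node 972 (BT.leaf cJ972) (BT.leaf cJ973))))) (BT.node 983 (BT.node 978 (BT.node 976 (BT.node 975 (BT.node 974 (BT.leaf cJ974) (BT.leaf cJ975)) (BT.leaf cJ976)) (BT.node 977 (BT.leaf cJ977) (BT.leaf cJ978))) (BT.node 981 (BT.node 980 (BT.node 979 (BT.leaf cJ979) (BT.leaf cJ980)) (BT.leaf cJ981)) (BT.node 982 (BT.leaf cJ982) (BT.leaf cJ983)))) (BT.node 988 (BT.node 986 (BT.node 985 (BT.node 984 (BT.leaf cJ984) (BT.leaf cJ985)) (BT.leaf cJ986)) (BT.node 987 (BT.leaf cJ987)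 (BT.leaf cJ988))) (BT.node 991 (BT.node 990 (BT.node 989 (BT.leaf cJ989) (BT.leaf cJ990)) (BT.leaf cJ991)) (BT.node 992 (BT.leaf cJ992) (BT.leaf cJ993))))))))) (BT.node 1159 (BT.node 1076 (BT.node 1035 (BT.node 1014 (BT.node 1004 (BT.node 999 (BT.node 996 (BT.node 995 (BT.node 994 (BT.leaf cJ994) (BT.leaf cJ995)) (BT.leaf cJ996)) (BT.node 998 (BT.node 997 (BT.leaf cJ997) (BT.leaf cJ998)) (BT.leaf cJ999))) (BT.node 1002 (BT.node 1001 (BT.node 1000 (BT.leaf cJ1000) (BT.leaf cJ1001)) (BT.leaf cJ1002)) (BT.node 1003 (BT.leaf cJ1003) (BT.leaf cJ1004)))) (BT.node 1009 (BT.node 1007 (BT.node 1006 (BT.node 1005 (BT.leaf cJ1005) (BT.leaf cJ1006)) (BT.leaf cJ1007)) (BT.node 1008 (BT.leaf cJ1008) (BT.leaf cJ1009))) (BT.node 1012 (BT.node 1011 (BT.node 1010 (BT.leaf cJ1010) (BT.leaf cJ1011)) (BT.leaf cJ1012)) (BT.node 1013 (BT.leaf cJ1013) (BT.leaf cJ1014))))) (BT.node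 1025 (BT.node 1020 (BT.node 1017 (BT.node 1016 (BT.node 1015 (BT.leaf cJ1015) (BT.leaf cJ1016)) (BT.leaf cJ1017)) (BT.node 1019 (BT.node 1018 (BT.leaf cJ1018) (BT.leaf cJ1019)) (BT.leaf cJ1020))) (BT.node 1023 (BT.node 1022 (BT.node 1021 (BT.leaf cJ1021) (BT.leaf cJ1022)) (BT.leaf cJ1023)) (BT.node 1024 (BT.leaf cJ1024) (BT.leaf cJ1025)))) (BT.node 1030 (BT.node 1028 (BT.node 1027 (BT.node 1026 (BT.leaf cJ1026) (BT.leaf cJ1027)) (BT.leaf cJ1028)) (BT.node 1029 (BT.leaf cJ1029) (BT.leaf cJ1030))) (BT.node 1033 (BT.node 1032 (BT.node 1031 (BT.leaf cJ1031) (BT.leaf cJ1032)) (BT.leaf cJ1033)) (BT.node 1034 (BT.leaf cJ1034) (BT.leaf cJ1035)))))) (BT.node 1056 (BT.node 1046 (BT.node 1041 (BT.node 1038 (BT.node 1037 (BT.node 1036 (BT.leaf cJ1036) (BT.leaf cJ1037)) (BT.leaf cJ1038)) (BT.node 1040 (BT.node 1039 (BT.leaf cJ1039) (BT.leaf cJ1040)) (BT.leaf cJ1041)))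 (BT.node 1044 (BT.node 1043 (BT.node 1042 (BT.leaf cJ1042) (BT.leaf cJ1043)) (BT.leaf cJ1044)) (BT.node 1045 (BT.leaf cJ1045) (BT.leaf cJ1046)))) (BT.node 1051 (BT.node 1049 (BT.node 1048 (BT.node 1047 (BT.leaf cJ1047) (BT.leaf cJ1048)) (BT.leaf cJ1049)) (BT.node 1050 (BT.leaf cJ1050) (BT.leaf cJ1051))) (BT.node 1054 (BT.node 1053 (BT.node 1052 (BT.leaf cJ1052) (BT.leaf cJ1053)) (BT.leaf cJ1054)) (BT.node 1055 (BT.leaf cJ1055) (BT.leaf cJ1056))))) (BT.node 1066 (BT.node 1061 (BT.node 1059 (BT.node 1058 (BT.node 1057 (BT.leaf cJ1057) (BT.leaf cJ1058)) (BT.leaf cJ1059)) (BT.node 1060 (BT.leaf cJ1060) (BT.leaf cJ1061))) (BT.node 1064 (BT.node 1063 (BT.node 1062 (BT.leaf cJ1062) (BT.leaf cJ1063)) (BT.leaf cJ1064)) (BT.node 1065 (BT.leaf cJ1065) (BT.leaf cJ1066)))) (BT.node 1071 (BT.node 1069 (BT.node 1068 (BT.node 1067 (BT.leaf cJ1067) (BT.leaf cJ1068)) (BT.leaf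 cJ1069)) (BT.node 1070 (BT.leaf cJ1070) (BT.leaf cJ1071))) (BT.node 1074 (BT.node 1073 (BT.node 1072 (BT.leaf cJ1072) (BT.leaf cJ1073)) (BT.leaf cJ1074)) (BT.node 1075 (BT.leaf cJ1075) (BT.leaf cJ1076))))))) (BT.node 1118 (BT.node 1097 (BT.node 1087 (BT.node 1082 (BT.node 1079 (BT.node 1078 (BT.node 1077 (BT.leaf cJ1077) (BT.leaf cJ1078)) (BT.leaf cJ1079)) (BT.node 1081 (BT.node 1080 (BT.leaf cJ1080) (BT.leaf cJ1081)) (BT.leaf cJ1082))) (BT.node 1085 (BT.node 1084 (BT.node 1083 (BT.leaf cJ1083) (BT.leaf cJ1084)) (BT.leaf cJ1085)) (BT.node 1086 (BT.leaf cJ1086) (BT.leaf cJ1087)))) (BT.node 1092 (BT.node 1090 (BT.node 1089 (BT.node 1088 (BT.leaf cJ1088) (BT.leaf cJ1089)) (BT.leaf cJ1090)) (BT.node 1091 (BT.leaf cJ1091) (BT.leaf cJ1092))) (BT.node 1095 (BT.node 1094 (BT.node 1093 (BT.leaf cJ1093) (BT.leaf cJ1094)) (BT.leaf cJ1095)) (BT.node 1096 (BT.leaf cJ1096)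 (BT.leaf cJ1097))))) (BT.node 1108 (BT.node 1103 (BT.node 1100 (BT.node 1099 (BT.node 1098 (BT.leaf cJ1098) (BT.leaf cJ1099)) (BT.leaf cJ1100)) (BT.node 1102 (BT.node 1101 (BT.leaf cJ1101) (BT.leaf cJ1102)) (BT.leaf cJ1103))) (BT.node 1106 (BT.node 1105 (BT.node 1104 (BT.leaf cJ1104) (BT.leaf cJ1105)) (BT.leaf cJ1106)) (BT.node 1107 (BT.leaf cJ1107) (BT.leaf cJ1108)))) (BT.node 1113 (BT.node 1111 (BT.node 1110 (BT.node 1109 (BT.leaf cJ1109) (BT.leaf cJ1110)) (BT.leaf cJ1111)) (BT.node 1112 (BT.leaf cJ1112) (BT.leaf cJ1113))) (BT.node 1116 (BT.node 1115 (BT.node 1114 (BT.leaf cJ1114) (BT.leaf cJ1115)) (BT.leaf cJ1116)) (BT.node 1117 (BT.leaf cJ1117) (BT.leaf cJ1118)))))) (BT.node 1139 (BT.node 1129 (BT.node 1124 (BT.node 1121 (BT.node 1120 (BT.node 1119 (BT.leaf cJ1119) (BT.leaf cJ1120)) (BT.leaf cJ1121)) (BT.node 1123 (BT.node 1122 (BT.leaf cJ1122) (BT.leaf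 cJ1123)) (BT.leaf cJ1124))) (BT.node 1127 (BT.node 1126 (BT.node 1125 (BT.leaf cJ1125) (BT.leaf cJ1126)) (BT.leaf cJ1127)) (BT.node 1128 (BT.leaf cJ1128) (BT.leaf cJ1129)))) (BT.node 1134 (BT.node 1132 (BT.node 1131 (BT.node 1130 (BT.leaf cJ1130) (BT.leaf cJ1131)) (BT.leaf cJ1132)) (BT.node 1133 (BT.leaf cJ1133) (BT.leaf cJ1134))) (BT.node 1137 (BT.node 1136 (BT.node 1135 (BT.leaf cJ1135) (BT.leaf cJ1136)) (BT.leaf cJ1137)) (BT.node 1138 (BT.leaf cJ1138) (BT.leaf cJ1139))))) (BT.node 1149 (BT.node 1144 (BT.node 1142 (BT.node 1141 (BT.node 1140 (BT.leaf cJ1140) (BT.leaf cJ1141)) (BT.leaf cJ1142)) (BT.node 1143 (BT.leaf cJ1143) (BT.leaf cJ1144))) (BT.node 1147 (BT.node 1146 (BT.node 1145 (BT.leaf cJ1145) (BT.leaf cJ1146)) (BT.leaf cJ1147)) (BT.node 1148 (BT.leaf cJ1148) (BT.leaf cJ1149)))) (BT.node 1154 (BT.node 1152 (BT.node 1151 (BT.node 1150 (BT.leaf cJ1150)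 (BT.leaf cJ1151)) (BT.leaf cJ1152)) (BT.node 1153 (BT.leaf cJ1153) (BT.leaf cJ1154))) (BT.node 1157 (BT.node 1156 (BT.node 1155 (BT.leaf cJ1155) (BT.leaf cJ1156)) (BT.leaf cJ1157)) (BT.node 1158 (BT.leaf cJ1158) (BT.leaf cJ1159)))))))) (BT.node 1242 (BT.node 1201 (BT.node 1180 (BT.node 1170 (BT.node 1165 (BT.node 1162 (BT.node 1161 (BT.node 1160 (BT.leaf cJ1160) (BT.leaf cJ1161)) (BT.leaf cJ1162)) (BT.node 1164 (BT.node 1163 (BT.leaf cJ1163) (BT.leaf cJ1164)) (BT.leaf cJ1165))) (BT.node 1168 (BT.node 1167 (BT.node 1166 (BT.leaf cJ1166) (BT.leaf cJ1167)) (BT.leaf cJ1168)) (BT.node 1169 (BT.leaf cJ1169) (BT.leaf cJ1170)))) (BT.node 1175 (BT.node 1173 (BT.node 1172 (BT.node 1171 (BT.leaf cJ1171) (BT.leaf cJ1172)) (BT.leaf cJ1173)) (BT.node 1174 (BT.leaf cJ1174) (BT.leaf cJ1175))) (BT.node 1178 (BT.node 1177 (BT.node 1176 (BT.leaf cJ1176) (BT.leaf cJ1177)) (BT.leaf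 cJ1178)) (BT.node 1179 (BT.leaf cJ1179) (BT.leaf cJ1180))))) (BT.node 1191 (BT.node 1186 (BT.node 1183 (BT.node 1182 (BT.node 1181 (BT.leaf cJ1181) (BT.leaf cJ1182)) (BT.leaf cJ1183)) (BT.node 1185 (BT.node 1184 (BT.leaf cJ1184) (BT.leaf cJ1185)) (BT.leaf cJ1186))) (BT.node 1189 (BT.node 1188 (BT.node 1187 (BT.leaf cJ1187) (BT.leaf cJ1188)) (BT.leaf cJ1189)) (BT.node 1190 (BT.leaf cJ1190) (BT.leaf cJ1191)))) (BT.node 1196 (BT.node 1194 (BT.node 1193 (BT.node 1192 (BT.leaf cJ1192) (BT.leaf cJ1193)) (BT.leaf cJ1194)) (BT.node 1195 (BT.leaf cJ1195) (BT.leaf cJ1196))) (BT.node 1199 (BT.node 1198 (BT.node 1197 (BT.leaf cJ1197) (BT.leaf cJ1198)) (BT.leaf cJ1199)) (BT.node 1200 (BT.leaf cJ1200) (BT.leaf cJ1201)))))) (BT.node 1222 (BT.node 1212 (BT.node 1207 (BT.node 1204 (BT.node 1203 (BT.node 1202 (BT.leaf cJ1202) (BT.leaf cJ1203)) (BT.leaf cJ1204)) (BT.node 1206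 (BT.node 1205 (BT.leaf cJ1205) (BT.leaf cJ1206)) (BT.leaf cJ1207))) (BT.node 1210 (BT.node 1209 (BT.node 1208 (BT.leaf cJ1208) (BT.leaf cJ1209)) (BT.leaf cJ1210)) (BT.node 1211 (BT.leaf cJ1211) (BT.leaf cJ1212)))) (BT.node 1217 (BT.node 1215 (BT.node 1214 (BT.node 1213 (BT.leaf cJ1213) (BT.leaf cJ1214)) (BT.leaf cJ1215)) (BT.node 1216 (BT.leaf cJ1216) (BT.leaf cJ1217))) (BT.node 1220 (BT.node 1219 (BT.node 1218 (BT.leaf cJ1218) (BT.leaf cJ1219)) (BT.leaf cJ1220)) (BT.node 1221 (BT.leaf cJ1221) (BT.leaf cJ1222))))) (BT.node 1232 (BT.node 1227 (BT.node 1225 (BT.node 1224 (BT.node 1223 (BT.leaf cJ1223) (BT.leaf cJ1224)) (BT.leaf cJ1225)) (BT.node 1226 (BT.leaf cJ1226) (BT.leaf cJ1227))) (BT.node 1230 (BT.node 1229 (BT.node 1228 (BT.leaf cJ1228) (BT.leaf cJ1229)) (BT.leaf cJ1230)) (BT.node 1231 (BT.leaf cJ1231) (BT.leaf cJ1232)))) (BT.node 1237 (BT.node 1235 (BT.node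 1234 (BT.node 1233 (BT.leaf cJ1233) (BT.leaf cJ1234)) (BT.leaf cJ1235)) (BT.node 1236 (BT.leaf cJ1236) (BT.leaf cJ1237))) (BT.node 1240 (BT.node 1239 (BT.node 1238 (BT.leaf cJ1238) (BT.leaf cJ1239)) (BT.leaf cJ1240)) (BT.node 1241 (BT.leaf cJ1241) (BT.leaf cJ1242))))))) (BT.node 1283 (BT.node 1263 (BT.node 1253 (BT.node 1248 (BT.node 1245 (BT.node 1244 (BT.node 1243 (BT.leaf cJ1243) (BT.leaf cJ1244)) (BT.leaf cJ1245)) (BT.node 1247 (BT.node 1246 (BT.leaf cJ1246) (BT.leaf cJ1247)) (BT.leaf cJ1248))) (BT.node 1251 (BT.node 1250 (BT.node 1249 (BT.leaf cJ1249) (BT.leaf cJ1250)) (BT.leaf cJ1251)) (BT.node 1252 (BT.leaf cJ1252) (BT.leaf cJ1253)))) (BT.node 1258 (BT.node 1256 (BT.node 1255 (BT.node 1254 (BT.leaf cJ1254) (BT.leaf cJ1255)) (BT.leaf cJ1256)) (BT.node 1257 (BT.leaf cJ1257) (BT.leaf cJ1258))) (BT.node 1261 (BT.node 1260 (BT.node 1259 (BT.leaf cJ1259)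 (BT.leaf cJ1260)) (BT.leaf cJ1261)) (BT.node 1262 (BT.leaf cJ1262) (BT.leaf cJ1263))))) (BT.node 1273 (BT.node 1268 (BT.node 1266 (BT.node 1265 (BT.node 1264 (BT.leaf cJ1264) (BT.leaf cJ1265)) (BT.leaf cJ1266)) (BT.node 1267 (BT.leaf cJ1267) (BT.leaf cJ1268))) (BT.node 1271 (BT.node 1270 (BT.node 1269 (BT.leaf cJ1269) (BT.leaf cJ1270)) (BT.leaf cJ1271)) (BT.node 1272 (BT.leaf cJ1272) (BT.leaf cJ1273)))) (BT.node 1278 (BT.node 1276 (BT.node 1275 (BT.node 1274 (BT.leaf cJ1274) (BT.leaf cJ1275)) (BT.leaf cJ1276)) (BT.node 1277 (BT.leaf cJ1277) (BT.leaf cJ1278))) (BT.node 1281 (BT.node 1280 (BT.node 1279 (BT.leaf cJ1279) (BT.leaf cJ1280)) (BT.leaf cJ1281)) (BT.node 1282 (BT.leaf cJ1282) (BT.leaf cJ1283)))))) (BT.node 1304 (BT.node 1294 (BT.node 1289 (BT.node 1286 (BT.node 1285 (BT.node 1284 (BT.leaf cJ1284) (BT.leaf cJ1285)) (BT.leaf cJ1286)) (BT.node 1288 (BT.node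 1287 (BT.leaf cJ1287) (BT.leaf cJ1288)) (BT.leaf cJ1289))) (BT.node 1292 (BT.node 1291 (BT.node 1290 (BT.leaf cJ1290) (BT.leaf cJ1291)) (BT.leaf cJ1292)) (BT.node 1293 (BT.leaf cJ1293) (BT.leaf cJ1294)))) (BT.node 1299 (BT.node 1297 (BT.node 1296 (BT.node 1295 (BT.leaf cJ1295) (BT.leaf cJ1296)) (BT.leaf cJ1297)) (BT.node 1298 (BT.leaf cJ1298) (BT.leaf cJ1299))) (BT.node 1302 (BT.node 1301 (BT.node 1300 (BT.leaf cJ1300) (BT.leaf cJ1301)) (BT.leaf cJ1302)) (BT.node 1303 (BT.leaf cJ1303) (BT.leaf cJ1304))))) (BT.node 1314 (BT.node 1309 (BT.node 1307 (BT.node 1306 (BT.node 1305 (BT.leaf cJ1305) (BT.leaf cJ1306)) (BT.leaf cJ1307)) (BT.node 1308 (BT.leaf cJ1308) (BT.leaf cJ1309))) (BT.node 1312 (BT.node 1311 (BT.node 1310 (BT.leaf cJ1310) (BT.leaf cJ1311)) (BT.leaf cJ1312)) (BT.node 1313 (BT.leaf cJ1313) (BT.leaf cJ1314)))) (BT.node 1319 (BT.node 1317 (BT.node 1316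 (BT.node 1315 (BT.leaf cJ1315) (BT.leaf cJ1316)) (BT.leaf cJ1317)) (BT.node 1318 (BT.leaf cJ1318) (BT.leaf cJ1319))) (BT.node 1322 (BT.node 1321 (BT.node 1320 (BT.leaf cJ1320) (BT.leaf cJ1321)) (BT.leaf cJ1322)) (BT.node 1323 (BT.leaf cJ1323) (BT.leaf cJ1324))))))))))) (BT.node 1987 (BT.node 1656 (BT.node 1490 (BT.node 1407 (BT.node 1366 (BT.node 1345 (BT.node 1335 (BT.node 1330 (BT.node 1327 (BT.node 1326 (BT.node 1325 (BT.leaf cJ1325) (BT.leaf cJ1326)) (BT.leaf cJ1327)) (BT.node 1329 (BT.node 1328 (BT.leaf cJ1328) (BT.leaf cJ1329)) (BT.leaf cJ1330))) (BT.node 1333 (BT.node 1332 (BT.node 1331 (BT.leaf cJ1331) (BT.leaf cJ1332)) (BT.leaf cJ1333)) (BT.node 1334 (BT.leaf cJ1334) (BT.leaf cJ1335)))) (BT.node 1340 (BT.node 1338 (BT.node 1337 (BT.node 1336 (BT.leaf cJ1336) (BT.leaf cJ1337)) (BT.leaf cJ1338)) (BT.node 1339 (BT.leaf cJ1339) (BT.leaf cJ1340))) (BT.node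 1343 (BT.node 1342 (BT.node 1341 (BT.leaf cJ1341) (BT.leaf cJ1342)) (BT.leaf cJ1343)) (BT.node 1344 (BT.leaf cJ1344) (BT.leaf cJ1345))))) (BT.node 1356 (BT.node 1351 (BT.node 1348 (BT.node 1347 (BT.node 1346 (BT.leaf cJ1346) (BT.leaf cJ1347)) (BT.leaf cJ1348)) (BT.node 1350 (BT.node 1349 (BT.leaf cJ1349) (BT.leaf cJ1350)) (BT.leaf cJ1351))) (BT.node 1354 (BT.node 1353 (BT.node 1352 (BT.leaf cJ1352) (BT.leaf cJ1353)) (BT.leaf cJ1354)) (BT.node 1355 (BT.leaf cJ1355) (BT.leaf cJ1356)))) (BT.node 1361 (BT.node 1359 (BT.node 1358 (BT.node 1357 (BT.leaf cJ1357) (BT.leaf cJ1358)) (BT.leaf cJ1359)) (BT.node 1360 (BT.leaf cJ1360) (BT.leaf cJ1361))) (BT.node 1364 (BT.node 1363 (BT.node 1362 (BT.leaf cJ1362) (BT.leaf cJ1363)) (BT.leaf cJ1364)) (BT.node 1365 (BT.leaf cJ1365) (BT.leaf cJ1366)))))) (BT.node 1387 (BT.node 1377 (BT.node 1372 (BT.node 1369 (BT.node 1368 (BT.node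 1367 (BT.leaf cJ1367) (BT.leaf cJ1368)) (BT.leaf cJ1369)) (BT.node 1371 (BT.node 1370 (BT.leaf cJ1370) (BT.leaf cJ1371)) (BT.leaf cJ1372))) (BT.node 1375 (BT.node 1374 (BT.node 1373 (BT.leaf cJ1373) (BT.leaf cJ1374)) (BT.leaf cJ1375)) (BT.node 1376 (BT.leaf cJ1376) (BT.leaf cJ1377)))) (BT.node 1382 (BT.node 1380 (BT.node 1379 (BT.node 1378 (BT.leaf cJ1378) (BT.leaf cJ1379)) (BT.leaf cJ1380)) (BT.node 1381 (BT.leaf cJ1381) (BT.leaf cJ1382))) (BT.node 1385 (BT.node 1384 (BT.node 1383 (BT.leaf cJ1383) (BT.leaf cJ1384)) (BT.leaf cJ1385)) (BT.node 1386 (BT.leaf cJ1386) (BT.leaf cJ1387))))) (BT.node 1397 (BT.node 1392 (BT.node 1390 (BT.node 1389 (BT.node 1388 (BT.leaf cJ1388) (BT.leaf cJ1389)) (BT.leaf cJ1390)) (BT.node 1391 (BT.leaf cJ1391) (BT.leaf cJ1392))) (BT.node 1395 (BT.node 1394 (BT.node 1393 (BT.leaf cJ1393) (BT.leaf cJ1394)) (BT.leaf cJ1395)) (BT.node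 1396 (BT.leaf cJ1396) (BT.leaf cJ1397)))) (BT.node 1402 (BT.node 1400 (BT.node 1399 (BT.node 1398 (BT.leaf cJ1398) (BT.leaf cJ1399)) (BT.leaf cJ1400)) (BT.node 1401 (BT.leaf cJ1401) (BT.leaf cJ1402))) (BT.node 1405 (BT.node 1404 (BT.node 1403 (BT.leaf cJ1403) (BT.leaf cJ1404)) (BT.leaf cJ1405)) (BT.node 1406 (BT.leaf cJ1406) (BT.leaf cJ1407))))))) (BT.node 1449 (BT.node 1428 (BT.node 1418 (BT.node 1413 (BT.node 1410 (BT.node 1409 (BT.node 1408 (BT.leaf cJ1408) (BT.leaf cJ1409)) (BT.leaf cJ1410)) (BT.node 1412 (BT.node 1411 (BT.leaf cJ1411) (BT.leaf cJ1412)) (BT.leaf cJ1413))) (BT.node 1416 (BT.node 1415 (BT.node 1414 (BT.leaf cJ1414) (BT.leaf cJ1415)) (BT.leaf cJ1416)) (BT.node 1417 (BT.leaf cJ1417) (BT.leaf cJ1418)))) (BT.node 1423 (BT.node 1421 (BT.node 1420 (BT.node 1419 (BT.leaf cJ1419) (BT.leaf cJ1420)) (BT.leaf cJ1421)) (BT.node 1422 (BT.leaf cJ1422)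 (BT.leaf cJ1423))) (BT.node 1426 (BT.node 1425 (BT.node 1424 (BT.leaf cJ1424) (BT.leaf cJ1425)) (BT.leaf cJ1426)) (BT.node 1427 (BT.leaf cJ1427) (BT.leaf cJ1428))))) (BT.node 1439 (BT.node 1434 (BT.node 1431 (BT.node 1430 (BT.node 1429 (BT.leaf cJ1429) (BT.leaf cJ1430)) (BT.leaf cJ1431)) (BT.node 1433 (BT.node 1432 (BT.leaf cJ1432) (BT.leaf cJ1433)) (BT.leaf cJ1434))) (BT.node 1437 (BT.node 1436 (BT.node 1435 (BT.leaf cJ1435) (BT.leaf cJ1436)) (BT.leaf cJ1437)) (BT.node 1438 (BT.leaf cJ1438) (BT.leaf cJ1439)))) (BT.node 1444 (BT.node 1442 (BT.node 1441 (BT.node 1440 (BT.leaf cJ1440) (BT.leaf cJ1441)) (BT.leaf cJ1442)) (BT.node 1443 (BT.leaf cJ1443) (BT.leaf cJ1444))) (BT.node 1447 (BT.node 1446 (BT.node 1445 (BT.leaf cJ1445) (BT.leaf cJ1446)) (BT.leaf cJ1447)) (BT.node 1448 (BT.leaf cJ1448) (BT.leaf cJ1449)))))) (BT.node 1470 (BT.node 1460 (BT.node 1455 (BT.node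 1452 (BT.node 1451 (BT.node 1450 (BT.leaf cJ1450) (BT.leaf cJ1451)) (BT.leaf cJ1452)) (BT.node 1454 (BT.node 1453 (BT.leaf cJ1453) (BT.leaf cJ1454)) (BT.leaf cJ1455))) (BT.node 1458 (BT.node 1457 (BT.node 1456 (BT.leaf cJ1456) (BT.leaf cJ1457)) (BT.leaf cJ1458)) (BT.node 1459 (BT.leaf cJ1459) (BT.leaf cJ1460)))) (BT.node 1465 (BT.node 1463 (BT.node 1462 (BT.node 1461 (BT.leaf cJ1461) (BT.leaf cJ1462)) (BT.leaf cJ1463)) (BT.node 1464 (BT.leaf cJ1464) (BT.leaf cJ1465))) (BT.node 1468 (BT.node 1467 (BT.node 1466 (BT.leaf cJ1466) (BT.leaf cJ1467)) (BT.leaf cJ1468)) (BT.node 1469 (BT.leaf cJ1469) (BT.leaf cJ1470))))) (BT.node 1480 (BT.node 1475 (BT.node 1473 (BT.node 1472 (BT.node 1471 (BT.leaf cJ1471) (BT.leaf cJ1472)) (BT.leaf cJ1473)) (BT.node 1474 (BT.leaf cJ1474) (BT.leaf cJ1475))) (BT.node 1478 (BT.node 1477 (BT.node 1476 (BT.leaf cJ1476) (BT.leaf cJ1477))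 (BT.leaf cJ1478)) (BT.node 1479 (BT.leaf cJ1479) (BT.leaf cJ1480)))) (BT.node 1485 (BT.node 1483 (BT.node 1482 (BT.node 1481 (BT.leaf cJ1481) (BT.leaf cJ1482)) (BT.leaf cJ1483)) (BT.node 1484 (BT.leaf cJ1484) (BT.leaf cJ1485))) (BT.node 1488 (BT.node 1487 (BT.node 1486 (BT.leaf cJ1486) (BT.leaf cJ1487)) (BT.leaf cJ1488)) (BT.node 1489 (BT.leaf cJ1489) (BT.leaf cJ1490)))))))) (BT.node 1573 (BT.node 1532 (BT.node 1511 (BT.node 1501 (BT.node 1496 (BT.node 1493 (BT.node 1492 (BT.node 1491 (BT.leaf cJ1491) (BT.leaf cJ1492)) (BT.leaf cJ1493)) (BT.node 1495 (BT.node 1494 (BT.leaf cJ1494) (BT.leaf cJ1495)) (BT.leaf cJ1496))) (BT.node 1499 (BT.node 1498 (BT.node 1497 (BT.leaf cJ1497) (BT.leaf cJ1498)) (BT.leaf cJ1499)) (BT.node 1500 (BT.leaf cJ1500) (BT.leaf cJ1501)))) (BT.node 1506 (BT.node 1504 (BT.node 1503 (BT.node 1502 (BT.leaf cJ1502) (BT.leaf cJ1503)) (BT.leaf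 cJ1504)) (BT.node 1505 (BT.leaf cJ1505) (BT.leaf cJ1506))) (BT.node 1509 (BT.node 1508 (BT.node 1507 (BT.leaf cJ1507) (BT.leaf cJ1508)) (BT.leaf cJ1509)) (BT.node 1510 (BT.leaf cJ1510) (BT.leaf cJ1511))))) (BT.node 1522 (BT.node 1517 (BT.node 1514 (BT.node 1513 (BT.node 1512 (BT.leaf cJ1512) (BT.leaf cJ1513)) (BT.leaf cJ1514)) (BT.node 1516 (BT.node 1515 (BT.leaf cJ1515) (BT.leaf cJ1516)) (BT.leaf cJ1517))) (BT.node 1520 (BT.node 1519 (BT.node 1518 (BT.leaf cJ1518) (BT.leaf cJ1519)) (BT.leaf cJ1520)) (BT.node 1521 (BT.leaf cJ1521) (BT.leaf cJ1522)))) (BT.node 1527 (BT.node 1525 (BT.node 1524 (BT.node 1523 (BT.leaf cJ1523) (BT.leaf cJ1524)) (BT.leaf cJ1525)) (BT.node 1526 (BT.leaf cJ1526) (BT.leaf cJ1527))) (BT.node 1530 (BT.node 1529 (BT.node 1528 (BT.leaf cJ1528) (BT.leaf cJ1529)) (BT.leaf cJ1530)) (BT.node 1531 (BT.leaf cJ1531) (BT.leaf cJ1532)))))) (BT.node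 1553 (BT.node 1543 (BT.node 1538 (BT.node 1535 (BT.node 1534 (BT.node 1533 (BT.leaf cJ1533) (BT.leaf cJ1534)) (BT.leaf cJ1535)) (BT.node 1537 (BT.node 1536 (BT.leaf cJ1536) (BT.leaf cJ1537)) (BT.leaf cJ1538))) (BT.node 1541 (BT.node 1540 (BT.node 1539 (BT.leaf cJ1539) (BT.leaf cJ1540)) (BT.leaf cJ1541)) (BT.node 1542 (BT.leaf cJ1542) (BT.leaf cJ1543)))) (BT.node 1548 (BT.node 1546 (BT.node 1545 (BT.node 1544 (BT.leaf cJ1544) (BT.leaf cJ1545)) (BT.leaf cJ1546)) (BT.node 1547 (BT.leaf cJ1547) (BT.leaf cJ1548))) (BT.node 1551 (BT.node 1550 (BT.node 1549 (BT.leaf cJ1549) (BT.leaf cJ1550)) (BT.leaf cJ1551)) (BT.node 1552 (BT.leaf cJ1552) (BT.leaf cJ1553))))) (BT.node 1563 (BT.node 1558 (BT.node 1556 (BT.node 1555 (BT.node 1554 (BT.leaf cJ1554) (BT.leaf cJ1555)) (BT.leaf cJ1556)) (BT.node 1557 (BT.leaf cJ1557) (BT.leaf cJ1558))) (BT.node 1561 (BT.node 1560 (BT.node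 1559 (BT.leaf cJ1559) (BT.leaf cJ1560)) (BT.leaf cJ1561)) (BT.node 1562 (BT.leaf cJ1562) (BT.leaf cJ1563)))) (BT.node 1568 (BT.node 1566 (BT.node 1565 (BT.node 1564 (BT.leaf cJ1564) (BT.leaf cJ1565)) (BT.leaf cJ1566)) (BT.node 1567 (BT.leaf cJ1567) (BT.leaf cJ1568))) (BT.node 1571 (BT.node 1570 (BT.node 1569 (BT.leaf cJ1569) (BT.leaf cJ1570)) (BT.leaf cJ1571)) (BT.node 1572 (BT.leaf cJ1572) (BT.leaf cJ1573))))))) (BT.node 1615 (BT.node 1594 (BT.node 1584 (BT.node 1579 (BT.node 1576 (BT.node 1575 (BT.node 1574 (BT.leaf cJ1574) (BT.leaf cJ1575)) (BT.leaf cJ1576)) (BT.node 1578 (BT.node 1577 (BT.leaf cJ1577) (BT.leaf cJ1578)) (BT.leaf cJ1579))) (BT.node 1582 (BT.node 1581 (BT.node 1580 (BT.leaf cJ1580) (BT.leaf cJ1581)) (BT.leaf cJ1582)) (BT.node 1583 (BT.leaf cJ1583) (BT.leaf cJ1584)))) (BT.node 1589 (BT.node 1587 (BT.node 1586 (BT.node 1585 (BT.leaf cJ1585)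 (BT.leaf cJ1586)) (BT.leaf cJ1587)) (BT.node 1588 (BT.leaf cJ1588) (BT.leaf cJ1589))) (BT.node 1592 (BT.node 1591 (BT.node 1590 (BT.leaf cJ1590) (BT.leaf cJ1591)) (BT.leaf cJ1592)) (BT.node 1593 (BT.leaf cJ1593) (BT.leaf cJ1594))))) (BT.node 1605 (BT.node 1600 (BT.node 1597 (BT.node 1596 (BT.node 1595 (BT.leaf cJ1595) (BT.leaf cJ1596)) (BT.leaf cJ1597)) (BT.node 1599 (BT.node 1598 (BT.leaf cJ1598) (BT.leaf cJ1599)) (BT.leaf cJ1600))) (BT.node 1603 (BT.node 1602 (BT.node 1601 (BT.leaf cJ1601) (BT.leaf cJ1602)) (BT.leaf cJ1603)) (BT.node 1604 (BT.leaf cJ1604) (BT.leaf cJ1605)))) (BT.node 1610 (BT.node 1608 (BT.node 1607 (BT.node 1606 (BT.leaf cJ1606) (BT.leaf cJ1607)) (BT.leaf cJ1608)) (BT.node 1609 (BT.leaf cJ1609) (BT.leaf cJ1610))) (BT.node 1613 (BT.node 1612 (BT.node 1611 (BT.leaf cJ1611) (BT.leaf cJ1612)) (BT.leaf cJ1613)) (BT.node 1614 (BT.leaf cJ1614)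 (BT.leaf cJ1615)))))) (BT.node 1636 (BT.node 1626 (BT.node 1621 (BT.node 1618 (BT.node 1617 (BT.node 1616 (BT.leaf cJ1616) (BT.leaf cJ1617)) (BT.leaf cJ1618)) (BT.node 1620 (BT.node 1619 (BT.leaf cJ1619) (BT.leaf cJ1620)) (BT.leaf cJ1621))) (BT.node 1624 (BT.node 1623 (BT.node 1622 (BT.leaf cJ1622) (BT.leaf cJ1623)) (BT.leaf cJ1624)) (BT.node 1625 (BT.leaf cJ1625) (BT.leaf cJ1626)))) (BT.node 1631 (BT.node 1629 (BT.node 1628 (BT.node 1627 (BT.leaf cJ1627) (BT.leaf cJ1628)) (BT.leaf cJ1629)) (BT.node 1630 (BT.leaf cJ1630) (BT.leaf cJ1631))) (BT.node 1634 (BT.node 1633 (BT.node 1632 (BT.leaf cJ1632) (BT.leaf cJ1633)) (BT.leaf cJ1634)) (BT.node 1635 (BT.leaf cJ1635) (BT.leaf cJ1636))))) (BT.node 1646 (BT.node 1641 (BT.node 1639 (BT.node 1638 (BT.node 1637 (BT.leaf cJ1637) (BT.leaf cJ1638)) (BT.leaf cJ1639)) (BT.node 1640 (BT.leaf cJ1640) (BT.leaf cJ1641))) (BT.node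 1644 (BT.node 1643 (BT.node 1642 (BT.leaf cJ1642) (BT.leaf cJ1643)) (BT.leaf cJ1644)) (BT.node 1645 (BT.leaf cJ1645) (BT.leaf cJ1646)))) (BT.node 1651 (BT.node 1649 (BT.node 1648 (BT.node 1647 (BT.leaf cJ1647) (BT.leaf cJ1648)) (BT.leaf cJ1649)) (BT.node 1650 (BT.leaf cJ1650) (BT.leaf cJ1651))) (BT.node 1654 (BT.node 1653 (BT.node 1652 (BT.leaf cJ1652) (BT.leaf cJ1653)) (BT.leaf cJ1654)) (BT.node 1655 (BT.leaf cJ1655) (BT.leaf cJ1656))))))))) (BT.node 1822 (BT.node 1739 (BT.node 1698 (BT.node 1677 (BT.node 1667 (BT.node 1662 (BT.node 1659 (BT.node 1658 (BT.node 1657 (BT.leaf cJ1657) (BT.leaf cJ1658)) (BT.leaf cJ1659)) (BT.node 1661 (BT.node 1660 (BT.leaf cJ1660) (BT.leaf cJ1661)) (BT.leaf cJ1662))) (BT.node 1665 (BT.node 1664 (BT.node 1663 (BT.leaf cJ1663) (BT.leaf cJ1664)) (BT.leaf cJ1665)) (BT.node 1666 (BT.leaf cJ1666) (BT.leaf cJ1667)))) (BT.node 1672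 (BT.node 1670 (BT.node 1669 (BT.node 1668 (BT.leaf cJ1668) (BT.leaf cJ1669)) (BT.leaf cJ1670)) (BT.node 1671 (BT.leaf cJ1671) (BT.leaf cJ1672))) (BT.node 1675 (BT.node 1674 (BT.node 1673 (BT.leaf cJ1673) (BT.leaf cJ1674)) (BT.leaf cJ1675)) (BT.node 1676 (BT.leaf cJ1676) (BT.leaf cJ1677))))) (BT.node 1688 (BT.node 1683 (BT.node 1680 (BT.node 1679 (BT.node 1678 (BT.leaf cJ1678) (BT.leaf cJ1679)) (BT.leaf cJ1680)) (BT.node 1682 (BT.node 1681 (BT.leaf cJ1681) (BT.leaf cJ1682)) (BT.leaf cJ1683))) (BT.node 1686 (BT.node 1685 (BT.node 1684 (BT.leaf cJ1684) (BT.leaf cJ1685)) (BT.leaf cJ1686)) (BT.node 1687 (BT.leaf cJ1687) (BT.leaf cJ1688)))) (BT.node 1693 (BT.node 1691 (BT.node 1690 (BT.node 1689 (BT.leaf cJ1689) (BT.leaf cJ1690)) (BT.leaf cJ1691)) (BT.node 1692 (BT.leaf cJ1692) (BT.leaf cJ1693))) (BT.node 1696 (BT.node 1695 (BT.node 1694 (BT.leaf cJ1694) (BT.leaf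 cJ1695)) (BT.leaf cJ1696)) (BT.node 1697 (BT.leaf cJ1697) (BT.leaf cJ1698)))))) (BT.node 1719 (BT.node 1709 (BT.node 1704 (BT.node 1701 (BT.node 1700 (BT.node 1699 (BT.leaf cJ1699) (BT.leaf cJ1700)) (BT.leaf cJ1701)) (BT.node 1703 (BT.node 1702 (BT.leaf cJ1702) (BT.leaf cJ1703)) (BT.leaf cJ1704))) (BT.node 1707 (BT.node 1706 (BT.node 1705 (BT.leaf cJ1705) (BT.leaf cJ1706)) (BT.leaf cJ1707)) (BT.node 1708 (BT.leaf cJ1708) (BT.leaf cJ1709)))) (BT.node 1714 (BT.node 1712 (BT.node 1711 (BT.node 1710 (BT.leaf cJ1710) (BT.leaf cJ1711)) (BT.leaf cJ1712)) (BT.node 1713 (BT.leaf cJ1713) (BT.leaf cJ1714))) (BT.node 1717 (BT.node 1716 (BT.node 1715 (BT.leaf cJ1715) (BT.leaf cJ1716)) (BT.leaf cJ1717)) (BT.node 1718 (BT.leaf cJ1718) (BT.leaf cJ1719))))) (BT.node 1729 (BT.node 1724 (BT.node 1722 (BT.node 1721 (BT.node 1720 (BT.leaf cJ1720) (BT.leaf cJ1721)) (BT.leaf cJ1722))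 (BT.node 1723 (BT.leaf cJ1723) (BT.leaf cJ1724))) (BT.node 1727 (BT.node 1726 (BT.node 1725 (BT.leaf cJ1725) (BT.leaf cJ1726)) (BT.leaf cJ1727)) (BT.node 1728 (BT.leaf cJ1728) (BT.leaf cJ1729)))) (BT.node 1734 (BT.node 1732 (BT.node 1731 (BT.node 1730 (BT.leaf cJ1730) (BT.leaf cJ1731)) (BT.leaf cJ1732)) (BT.node 1733 (BT.leaf cJ1733) (BT.leaf cJ1734))) (BT.node 1737 (BT.node 1736 (BT.node 1735 (BT.leaf cJ1735) (BT.leaf cJ1736)) (BT.leaf cJ1737)) (BT.node 1738 (BT.leaf cJ1738) (BT.leaf cJ1739))))))) (BT.node 1781 (BT.node 1760 (BT.node 1750 (BT.node 1745 (BT.node 1742 (BT.node 1741 (BT.node 1740 (BT.leaf cJ1740) (BT.leaf cJ1741)) (BT.leaf cJ1742)) (BT.node 1744 (BT.node 1743 (BT.leaf cJ1743) (BT.leaf cJ1744)) (BT.leaf cJ1745))) (BT.node 1748 (BT.node 1747 (BT.node 1746 (BT.leaf cJ1746) (BT.leaf cJ1747)) (BT.leaf cJ1748)) (BT.node 1749 (BT.leaf cJ1749) (BT.leaf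 cJ1750)))) (BT.node 1755 (BT.node 1753 (BT.node 1752 (BT.node 1751 (BT.leaf cJ1751) (BT.leaf cJ1752)) (BT.leaf cJ1753)) (BT.node 1754 (BT.leaf cJ1754) (BT.leaf cJ1755))) (BT.node 1758 (BT.node 1757 (BT.node 1756 (BT.leaf cJ1756) (BT.leaf cJ1757)) (BT.leaf cJ1758)) (BT.node 1759 (BT.leaf cJ1759) (BT.leaf cJ1760))))) (BT.node 1771 (BT.node 1766 (BT.node 1763 (BT.node 1762 (BT.node 1761 (BT.leaf cJ1761) (BT.leaf cJ1762)) (BT.leaf cJ1763)) (BT.node 1765 (BT.node 1764 (BT.leaf cJ1764) (BT.leaf cJ1765)) (BT.leaf cJ1766))) (BT.node 1769 (BT.node 1768 (BT.node 1767 (BT.leaf cJ1767) (BT.leaf cJ1768)) (BT.leaf cJ1769)) (BT.node 1770 (BT.leaf cJ1770) (BT.leaf cJ1771)))) (BT.node 1776 (BT.node 1774 (BT.node 1773 (BT.node 1772 (BT.leaf cJ1772) (BT.leaf cJ1773)) (BT.leaf cJ1774)) (BT.node 1775 (BT.leaf cJ1775) (BT.leaf cJ1776))) (BT.node 1779 (BT.node 1778 (BT.node 1777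 (BT.leaf cJ1777) (BT.leaf cJ1778)) (BT.leaf cJ1779)) (BT.node 1780 (BT.leaf cJ1780) (BT.leaf cJ1781)))))) (BT.node 1802 (BT.node 1792 (BT.node 1787 (BT.node 1784 (BT.node 1783 (BT.node 1782 (BT.leaf cJ1782) (BT.leaf cJ1783)) (BT.leaf cJ1784)) (BT.node 1786 (BT.node 1785 (BT.leaf cJ1785) (BT.leaf cJ1786)) (BT.leaf cJ1787))) (BT.node 1790 (BT.node 1789 (BT.node 1788 (BT.leaf cJ1788) (BT.leaf cJ1789)) (BT.leaf cJ1790)) (BT.node 1791 (BT.leaf cJ1791) (BT.leaf cJ1792)))) (BT.node 1797 (BT.node 1795 (BT.node 1794 (BT.node 1793 (BT.leaf cJ1793) (BT.leaf cJ1794)) (BT.leaf cJ1795)) (BT.node 1796 (BT.leaf cJ1796) (BT.leaf cJ1797))) (BT.node 1800 (BT.node 1799 (BT.node 1798 (BT.leaf cJ1798) (BT.leaf cJ1799)) (BT.leaf cJ1800)) (BT.node 1801 (BT.leaf cJ1801) (BT.leaf cJ1802))))) (BT.node 1812 (BT.node 1807 (BT.node 1805 (BT.node 1804 (BT.node 1803 (BT.leaf cJ1803) (BT.leaf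 cJ1804)) (BT.leaf cJ1805)) (BT.node 1806 (BT.leaf cJ1806) (BT.leaf cJ1807))) (BT.node 1810 (BT.node 1809 (BT.node 1808 (BT.leaf cJ1808) (BT.leaf cJ1809)) (BT.leaf cJ1810)) (BT.node 1811 (BT.leaf cJ1811) (BT.leaf cJ1812)))) (BT.node 1817 (BT.node 1815 (BT.node 1814 (BT.node 1813 (BT.leaf cJ1813) (BT.leaf cJ1814)) (BT.leaf cJ1815)) (BT.node 1816 (BT.leaf cJ1816) (BT.leaf cJ1817))) (BT.node 1820 (BT.node 1819 (BT.node 1818 (BT.leaf cJ1818) (BT.leaf cJ1819)) (BT.leaf cJ1820)) (BT.node 1821 (BT.leaf cJ1821) (BT.leaf cJ1822)))))))) (BT.node 1905 (BT.node 1864 (BT.node 1843 (BT.node 1833 (BT.node 1828 (BT.node 1825 (BT.node 1824 (BT.node 1823 (BT.leaf cJ1823) (BT.leaf cJ1824)) (BT.leaf cJ1825)) (BT.node 1827 (BT.node 1826 (BT.leaf cJ1826) (BT.leaf cJ1827)) (BT.leaf cJ1828))) (BT.node 1831 (BT.node 1830 (BT.node 1829 (BT.leaf cJ1829) (BT.leaf cJ1830)) (BT.leaf cJ1831))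 (BT.node 1832 (BT.leaf cJ1832) (BT.leaf cJ1833)))) (BT.node 1838 (BT.node 1836 (BT.node 1835 (BT.node 1834 (BT.leaf cJ1834) (BT.leaf cJ1835)) (BT.leaf cJ1836)) (BT.node 1837 (BT.leaf cJ1837) (BT.leaf cJ1838))) (BT.node 1841 (BT.node 1840 (BT.node 1839 (BT.leaf cJ1839) (BT.leaf cJ1840)) (BT.leaf cJ1841)) (BT.node 1842 (BT.leaf cJ1842) (BT.leaf cJ1843))))) (BT.node 1854 (BT.node 1849 (BT.node 1846 (BT.node 1845 (BT.node 1844 (BT.leaf cJ1844) (BT.leaf cJ1845)) (BT.leaf cJ1846)) (BT.node 1848 (BT.node 1847 (BT.leaf cJ1847) (BT.leaf cJ1848)) (BT.leaf cJ1849))) (BT.node 1852 (BT.node 1851 (BT.node 1850 (BT.leaf cJ1850) (BT.leaf cJ1851)) (BT.leaf cJ1852)) (BT.node 1853 (BT.leaf cJ1853) (BT.leaf cJ1854)))) (BT.node 1859 (BT.node 1857 (BT.node 1856 (BT.node 1855 (BT.leaf cJ1855) (BT.leaf cJ1856)) (BT.leaf cJ1857)) (BT.node 1858 (BT.leaf cJ1858) (BT.leaf cJ1859))) (BT.node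 1862 (BT.node 1861 (BT.node 1860 (BT.leaf cJ1860) (BT.leaf cJ1861)) (BT.leaf cJ1862)) (BT.node 1863 (BT.leaf cJ1863) (BT.leaf cJ1864)))))) (BT.node 1885 (BT.node 1875 (BT.node 1870 (BT.node 1867 (BT.node 1866 (BT.node 1865 (BT.leaf cJ1865) (BT.leaf cJ1866)) (BT.leaf cJ1867)) (BT.node 1869 (BT.node 1868 (BT.leaf cJ1868) (BT.leaf cJ1869)) (BT.leaf cJ1870))) (BT.node 1873 (BT.node 1872 (BT.node 1871 (BT.leaf cJ1871) (BT.leaf cJ1872)) (BT.leaf cJ1873)) (BT.node 1874 (BT.leaf cJ1874) (BT.leaf cJ1875)))) (BT.node 1880 (BT.node 1878 (BT.node 1877 (BT.node 1876 (BT.leaf cJ1876) (BT.leaf cJ1877)) (BT.leaf cJ1878)) (BT.node 1879 (BT.leaf cJ1879) (BT.leaf cJ1880))) (BT.node 1883 (BT.node 1882 (BT.node 1881 (BT.leaf cJ1881) (BT.leaf cJ1882)) (BT.leaf cJ1883)) (BT.node 1884 (BT.leaf cJ1884) (BT.leaf cJ1885))))) (BT.node 1895 (BT.node 1890 (BT.node 1888 (BT.node 1887 (BT.node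 1886 (BT.leaf cJ1886) (BT.leaf cJ1887)) (BT.leaf cJ1888)) (BT.node 1889 (BT.leaf cJ1889) (BT.leaf cJ1890))) (BT.node 1893 (BT.node 1892 (BT.node 1891 (BT.leaf cJ1891) (BT.leaf cJ1892)) (BT.leaf cJ1893)) (BT.node 1894 (BT.leaf cJ1894) (BT.leaf cJ1895)))) (BT.node 1900 (BT.node 1898 (BT.node 1897 (BT.node 1896 (BT.leaf cJ1896) (BT.leaf cJ1897)) (BT.leaf cJ1898)) (BT.node 1899 (BT.leaf cJ1899) (BT.leaf cJ1900))) (BT.node 1903 (BT.node 1902 (BT.node 1901 (BT.leaf cJ1901) (BT.leaf cJ1902)) (BT.leaf cJ1903)) (BT.node 1904 (BT.leaf cJ1904) (BT.leaf cJ1905))))))) (BT.node 1946 (BT.node 1926 (BT.node 1916 (BT.node 1911 (BT.node 1908 (BT.node 1907 (BT.node 1906 (BT.leaf cJ1906) (BT.leaf cJ1907)) (BT.leaf cJ1908)) (BT.node 1910 (BT.node 1909 (BT.leaf cJ1909) (BT.leaf cJ1910)) (BT.leaf cJ1911))) (BT.node 1914 (BT.node 1913 (BT.node 1912 (BT.leaf cJ1912) (BT.leaf cJ1913))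 (BT.leaf cJ1914)) (BT.node 1915 (BT.leaf cJ1915) (BT.leaf cJ1916)))) (BT.node 1921 (BT.node 1919 (BT.node 1918 (BT.node 1917 (BT.leaf cJ1917) (BT.leaf cJ1918)) (BT.leaf cJ1919)) (BT.node 1920 (BT.leaf cJ1920) (BT.leaf cJ1921))) (BT.node 1924 (BT.node 1923 (BT.node 1922 (BT.leaf cJ1922) (BT.leaf cJ1923)) (BT.leaf cJ1924)) (BT.node 1925 (BT.leaf cJ1925) (BT.leaf cJ1926))))) (BT.node 1936 (BT.node 1931 (BT.node 1929 (BT.node 1928 (BT.node 1927 (BT.leaf cJ1927) (BT.leaf cJ1928)) (BT.leaf cJ1929)) (BT.node 1930 (BT.leaf cJ1930) (BT.leaf cJ1931))) (BT.node 1934 (BT.node 1933 (BT.node 1932 (BT.leaf cJ1932) (BT.leaf cJ1933)) (BT.leaf cJ1934)) (BT.node 1935 (BT.leaf cJ1935) (BT.leaf cJ1936)))) (BT.node 1941 (BT.node 1939 (BT.node 1938 (BT.node 1937 (BT.leaf cJ1937) (BT.leaf cJ1938)) (BT.leaf cJ1939)) (BT.node 1940 (BT.leaf cJ1940) (BT.leaf cJ1941))) (BT.node 1944 (BT.node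 1943 (BT.node 1942 (BT.leaf cJ1942) (BT.leaf cJ1943)) (BT.leaf cJ1944)) (BT.node 1945 (BT.leaf cJ1945) (BT.leaf cJ1946)))))) (BT.node 1967 (BT.node 1957 (BT.node 1952 (BT.node 1949 (BT.node 1948 (BT.node 1947 (BT.leaf cJ1947) (BT.leaf cJ1948)) (BT.leaf cJ1949)) (BT.node 1951 (BT.node 1950 (BT.leaf cJ1950) (BT.leaf cJ1951)) (BT.leaf cJ1952))) (BT.node 1955 (BT.node 1954 (BT.node 1953 (BT.leaf cJ1953) (BT.leaf cJ1954)) (BT.leaf cJ1955)) (BT.node 1956 (BT.leaf cJ1956) (BT.leaf cJ1957)))) (BT.node 1962 (BT.node 1960 (BT.node 1959 (BT.node 1958 (BT.leaf cJ1958) (BT.leaf cJ1959)) (BT.leaf cJ1960)) (BT.node 1961 (BT.leaf cJ1961) (BT.leaf cJ1962))) (BT.node 1965 (BT.node 1964 (BT.node 1963 (BT.leaf cJ1963) (BT.leaf cJ1964)) (BT.leaf cJ1965)) (BT.node 1966 (BT.leaf cJ1966) (BT.leaf cJ1967))))) (BT.node 1977 (BT.node 1972 (BT.node 1970 (BT.node 1969 (BT.node 1968 (BT.leaf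 cJ1968) (BT.leaf cJ1969)) (BT.leaf cJ1970)) (BT.node 1971 (BT.leaf cJ1971) (BT.leaf cJ1972))) (BT.node 1975 (BT.node 1974 (BT.node 1973 (BT.leaf cJ1973) (BT.leaf cJ1974)) (BT.leaf cJ1975)) (BT.node 1976 (BT.leaf cJ1976) (BT.leaf cJ1977)))) (BT.node 1982 (BT.node 1980 (BT.node 1979 (BT.node 1978 (BT.leaf cJ1978) (BT.leaf cJ1979)) (BT.leaf cJ1980)) (BT.node 1981 (BT.leaf cJ1981) (BT.leaf cJ1982))) (BT.node 1985 (BT.node 1984 (BT.node 1983 (BT.leaf cJ1983) (BT.leaf cJ1984)) (BT.leaf cJ1985)) (BT.node 1986 (BT.leaf cJ1986) (BT.leaf cJ1987)))))))))) (BT.node 2318 (BT.node 2153 (BT.node 2070 (BT.node 2029 (BT.node 2008 (BT.node 1998 (BT.node 1993 (BT.node 1990 (BT.node 1989 (BT.node 1988 (BT.leaf cJ1988) (BT.leaf cJ1989)) (BT.leaf cJ1990)) (BT.node 1992 (BT.node 1991 (BT.leaf cJ1991) (BT.leaf cJ1992)) (BT.leaf cJ1993))) (BT.node 1996 (BT.node 1995 (BT.node 1994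 (BT.leaf cJ1994) (BT.leaf cJ1995)) (BT.leaf cJ1996)) (BT.node 1997 (BT.leaf cJ1997) (BT.leaf cJ1998)))) (BT.node 2003 (BT.node 2001 (BT.node 2000 (BT.node 1999 (BT.leaf cJ1999) (BT.leaf cJ2000)) (BT.leaf cJ2001)) (BT.node 2002 (BT.leaf cJ2002) (BT.leaf cJ2003))) (BT.node 2006 (BT.node 2005 (BT.node 2004 (BT.leaf cJ2004) (BT.leaf cJ2005)) (BT.leaf cJ2006)) (BT.node 2007 (BT.leaf cJ2007) (BT.leaf cJ2008))))) (BT.node 2019 (BT.node 2014 (BT.node 2011 (BT.node 2010 (BT.node 2009 (BT.leaf cJ2009) (BT.leaf cJ2010)) (BT.leaf cJ2011)) (BT.node 2013 (BT.node 2012 (BT.leaf cJ2012) (BT.leaf cJ2013)) (BT.leaf cJ2014))) (BT.node 2017 (BT.node 2016 (BT.node 2015 (BT.leaf cJ2015) (BT.leaf cJ2016)) (BT.leaf cJ2017)) (BT.node 2018 (BT.leaf cJ2018) (BT.leaf cJ2019)))) (BT.node 2024 (BT.node 2022 (BT.node 2021 (BT.node 2020 (BT.leaf cJ2020) (BT.leaf cJ2021)) (BT.leaf cJ2022))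 (BT.node 2023 (BT.leaf cJ2023) (BT.leaf cJ2024))) (BT.node 2027 (BT.node 2026 (BT.node 2025 (BT.leaf cJ2025) (BT.leaf cJ2026)) (BT.leaf cJ2027)) (BT.node 2028 (BT.leaf cJ2028) (BT.leaf cJ2029)))))) (BT.node 2050 (BT.node 2040 (BT.node 2035 (BT.node 2032 (BT.node 2031 (BT.node 2030 (BT.leaf cJ2030) (BT.leaf cJ2031)) (BT.leaf cJ2032)) (BT.node 2034 (BT.node 2033 (BT.leaf cJ2033) (BT.leaf cJ2034)) (BT.leaf cJ2035))) (BT.node 2038 (BT.node 2037 (BT.node 2036 (BT.leaf cJ2036) (BT.leaf cJ2037)) (BT.leaf cJ2038)) (BT.node 2039 (BT.leaf cJ2039) (BT.leaf cJ2040)))) (BT.node 2045 (BT.node 2043 (BT.node 2042 (BT.node 2041 (BT.leaf cJ2041) (BT.leaf cJ2042)) (BT.leaf cJ2043)) (BT.node 2044 (BT.leaf cJ2044) (BT.leaf cJ2045))) (BT.node 2048 (BT.node 2047 (BT.node 2046 (BT.leaf cJ2046) (BT.leaf cJ2047)) (BT.leaf cJ2048)) (BT.node 2049 (BT.leaf cJ2049) (BT.leaf cJ2050)))))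 (BT.node 2060 (BT.node 2055 (BT.node 2053 (BT.node 2052 (BT.node 2051 (BT.leaf cJ2051) (BT.leaf cJ2052)) (BT.leaf cJ2053)) (BT.node 2054 (BT.leaf cJ2054) (BT.leaf cJ2055))) (BT.node 2058 (BT.node 2057 (BT.node 2056 (BT.leaf cJ2056) (BT.leaf cJ2057)) (BT.leaf cJ2058)) (BT.node 2059 (BT.leaf cJ2059) (BT.leaf cJ2060)))) (BT.node 2065 (BT.node 2063 (BT.node 2062 (BT.node 2061 (BT.leaf cJ2061) (BT.leaf cJ2062)) (BT.leaf cJ2063)) (BT.node 2064 (BT.leaf cJ2064) (BT.leaf cJ2065))) (BT.node 2068 (BT.node 2067 (BT.node 2066 (BT.leaf cJ2066) (BT.leaf cJ2067)) (BT.leaf cJ2068)) (BT.node 2069 (BT.leaf cJ2069) (BT.leaf cJ2070))))))) (BT.node 2112 (BT.node 2091 (BT.node 2081 (BT.node 2076 (BT.node 2073 (BT.node 2072 (BT.node 2071 (BT.leaf cJ2071) (BT.leaf cJ2072)) (BT.leaf cJ2073)) (BT.node 2075 (BT.node 2074 (BT.leaf cJ2074) (BT.leaf cJ2075)) (BT.leaf cJ2076))) (BT.node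 2079 (BT.node 2078 (BT.node 2077 (BT.leaf cJ2077) (BT.leaf cJ2078)) (BT.leaf cJ2079)) (BT.node 2080 (BT.leaf cJ2080) (BT.leaf cJ2081)))) (BT.node 2086 (BT.node 2084 (BT.node 2083 (BT.node 2082 (BT.leaf cJ2082) (BT.leaf cJ2083)) (BT.leaf cJ2084)) (BT.node 2085 (BT.leaf cJ2085) (BT.leaf cJ2086))) (BT.node 2089 (BT.node 2088 (BT.node 2087 (BT.leaf cJ2087) (BT.leaf cJ2088)) (BT.leaf cJ2089)) (BT.node 2090 (BT.leaf cJ2090) (BT.leaf cJ2091))))) (BT.node 2102 (BT.node 2097 (BT.node 2094 (BT.node 2093 (BT.node 2092 (BT.leaf cJ2092) (BT.leaf cJ2093)) (BT.leaf cJ2094)) (BT.node 2096 (BT.node 2095 (BT.leaf cJ2095) (BT.leaf cJ2096)) (BT.leaf cJ2097))) (BT.node 2100 (BT.node 2099 (BT.node 2098 (BT.leaf cJ2098) (BT.leaf cJ2099)) (BT.leaf cJ2100)) (BT.node 2101 (BT.leaf cJ2101) (BT.leaf cJ2102)))) (BT.node 2107 (BT.node 2105 (BT.node 2104 (BT.node 2103 (BT.leaf cJ2103) (BT.leaf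 cJ2104)) (BT.leaf cJ2105)) (BT.node 2106 (BT.leaf cJ2106) (BT.leaf cJ2107))) (BT.node 2110 (BT.node 2109 (BT.node 2108 (BT.leaf cJ2108) (BT.leaf cJ2109)) (BT.leaf cJ2110)) (BT.node 2111 (BT.leaf cJ2111) (BT.leaf cJ2112)))))) (BT.node 2133 (BT.node 2123 (BT.node 2118 (BT.node 2115 (BT.node 2114 (BT.node 2113 (BT.leaf cJ2113) (BT.leaf cJ2114)) (BT.leaf cJ2115)) (BT.node 2117 (BT.node 2116 (BT.leaf cJ2116) (BT.leaf cJ2117)) (BT.leaf cJ2118))) (BT.node 2121 (BT.node 2120 (BT.node 2119 (BT.leaf cJ2119) (BT.leaf cJ2120)) (BT.leaf cJ2121)) (BT.node 2122 (BT.leaf cJ2122) (BT.leaf cJ2123)))) (BT.node 2128 (BT.node 2126 (BT.node 2125 (BT.node 2124 (BT.leaf cJ2124) (BT.leaf cJ2125)) (BT.leaf cJ2126)) (BT.node 2127 (BT.leaf cJ2127) (BT.leaf cJ2128))) (BT.node 2131 (BT.node 2130 (BT.node 2129 (BT.leaf cJ2129) (BT.leaf cJ2130)) (BT.leaf cJ2131)) (BT.node 2132 (BT.leaf cJ2132)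 (BT.leaf cJ2133))))) (BT.node 2143 (BT.node 2138 (BT.node 2136 (BT.node 2135 (BT.node 2134 (BT.leaf cJ2134) (BT.leaf cJ2135)) (BT.leaf cJ2136)) (BT.node 2137 (BT.leaf cJ2137) (BT.leaf cJ2138))) (BT.node 2141 (BT.node 2140 (BT.node 2139 (BT.leaf cJ2139) (BT.leaf cJ2140)) (BT.leaf cJ2141)) (BT.node 2142 (BT.leaf cJ2142) (BT.leaf cJ2143)))) (BT.node 2148 (BT.node 2146 (BT.node 2145 (BT.node 2144 (BT.leaf cJ2144) (BT.leaf cJ2145)) (BT.leaf cJ2146)) (BT.node 2147 (BT.leaf cJ2147) (BT.leaf cJ2148))) (BT.node 2151 (BT.node 2150 (BT.node 2149 (BT.leaf cJ2149) (BT.leaf cJ2150)) (BT.leaf cJ2151)) (BT.node 2152 (BT.leaf cJ2152) (BT.leaf cJ2153)))))))) (BT.node 2236 (BT.node 2195 (BT.node 2174 (BT.node 2164 (BT.node 2159 (BT.node 2156 (BT.node 2155 (BT.node 2154 (BT.leaf cJ2154) (BT.leaf cJ2155)) (BT.leaf cJ2156)) (BT.node 2158 (BT.node 2157 (BT.leaf cJ2157) (BT.leaf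 cJ2158)) (BT.leaf cJ2159))) (BT.node 2162 (BT.node 2161 (BT.node 2160 (BT.leaf cJ2160) (BT.leaf cJ2161)) (BT.leaf cJ2162)) (BT.node 2163 (BT.leaf cJ2163) (BT.leaf cJ2164)))) (BT.node 2169 (BT.node 2167 (BT.node 2166 (BT.node 2165 (BT.leaf cJ2165) (BT.leaf cJ2166)) (BT.leaf cJ2167)) (BT.node 2168 (BT.leaf cJ2168) (BT.leaf cJ2169))) (BT.node 2172 (BT.node 2171 (BT.node 2170 (BT.leaf cJ2170) (BT.leaf cJ2171)) (BT.leaf cJ2172)) (BT.node 2173 (BT.leaf cJ2173) (BT.leaf cJ2174))))) (BT.node 2185 (BT.node 2180 (BT.node 2177 (BT.node 2176 (BT.node 2175 (BT.leaf cJ2175) (BT.leaf cJ2176)) (BT.leaf cJ2177)) (BT.node 2179 (BT.node 2178 (BT.leaf cJ2178) (BT.leaf cJ2179)) (BT.leaf cJ2180))) (BT.node 2183 (BT.node 2182 (BT.node 2181 (BT.leaf cJ2181) (BT.leaf cJ2182)) (BT.leaf cJ2183)) (BT.node 2184 (BT.leaf cJ2184) (BT.leaf cJ2185)))) (BT.node 2190 (BT.node 2188 (BT.node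 2187 (BT.node 2186 (BT.leaf cJ2186) (BT.leaf cJ2187)) (BT.leaf cJ2188)) (BT.node 2189 (BT.leaf cJ2189) (BT.leaf cJ2190))) (BT.node 2193 (BT.node 2192 (BT.node 2191 (BT.leaf cJ2191) (BT.leaf cJ2192)) (BT.leaf cJ2193)) (BT.node 2194 (BT.leaf cJ2194) (BT.leaf cJ2195)))))) (BT.node 2216 (BT.node 2206 (BT.node 2201 (BT.node 2198 (BT.node 2197 (BT.node 2196 (BT.leaf cJ2196) (BT.leaf cJ2197)) (BT.leaf cJ2198)) (BT.node 2200 (BT.node 2199 (BT.leaf cJ2199) (BT.leaf cJ2200)) (BT.leaf cJ2201))) (BT.node 2204 (BT.node 2203 (BT.node 2202 (BT.leaf cJ2202) (BT.leaf cJ2203)) (BT.leaf cJ2204)) (BT.node 2205 (BT.leaf cJ2205) (BT.leaf cJ2206)))) (BT.node 2211 (BT.node 2209 (BT.node 2208 (BT.node 2207 (BT.leaf cJ2207) (BT.leaf cJ2208)) (BT.leaf cJ2209)) (BT.node 2210 (BT.leaf cJ2210) (BT.leaf cJ2211))) (BT.node 2214 (BT.node 2213 (BT.node 2212 (BT.leaf cJ2212) (BT.leaf cJ2213))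 (BT.leaf cJ2214)) (BT.node 2215 (BT.leaf cJ2215) (BT.leaf cJ2216))))) (BT.node 2226 (BT.node 2221 (BT.node 2219 (BT.node 2218 (BT.node 2217 (BT.leaf cJ2217) (BT.leaf cJ2218)) (BT.leaf cJ2219)) (BT.node 2220 (BT.leaf cJ2220) (BT.leaf cJ2221))) (BT.node 2224 (BT.node 2223 (BT.node 2222 (BT.leaf cJ2222) (BT.leaf cJ2223)) (BT.leaf cJ2224)) (BT.node 2225 (BT.leaf cJ2225) (BT.leaf cJ2226)))) (BT.node 2231 (BT.node 2229 (BT.node 2228 (BT.node 2227 (BT.leaf cJ2227) (BT.leaf cJ2228)) (BT.leaf cJ2229)) (BT.node 2230 (BT.leaf cJ2230) (BT.leaf cJ2231))) (BT.node 2234 (BT.node 2233 (BT.node 2232 (BT.leaf cJ2232) (BT.leaf cJ2233)) (BT.leaf cJ2234)) (BT.node 2235 (BT.leaf cJ2235) (BT.leaf cJ2236))))))) (BT.node 2277 (BT.node 2257 (BT.node 2247 (BT.node 2242 (BT.node 2239 (BT.node 2238 (BT.node 2237 (BT.leaf cJ2237) (BT.leaf cJ2238)) (BT.leaf cJ2239)) (BT.node 2241 (BT.node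 2240 (BT.leaf cJ2240) (BT.leaf cJ2241)) (BT.leaf cJ2242))) (BT.node 2245 (BT.node 2244 (BT.node 2243 (BT.leaf cJ2243) (BT.leaf cJ2244)) (BT.leaf cJ2245)) (BT.node 2246 (BT.leaf cJ2246) (BT.leaf cJ2247)))) (BT.node 2252 (BT.node 2250 (BT.node 2249 (BT.node 2248 (BT.leaf cJ2248) (BT.leaf cJ2249)) (BT.leaf cJ2250)) (BT.node 2251 (BT.leaf cJ2251) (BT.leaf cJ2252))) (BT.node 2255 (BT.node 2254 (BT.node 2253 (BT.leaf cJ2253) (BT.leaf cJ2254)) (BT.leaf cJ2255)) (BT.node 2256 (BT.leaf cJ2256) (BT.leaf cJ2257))))) (BT.node 2267 (BT.node 2262 (BT.node 2260 (BT.node 2259 (BT.node 2258 (BT.leaf cJ2258) (BT.leaf cJ2259)) (BT.leaf cJ2260)) (BT.node 2261 (BT.leaf cJ2261) (BT.leaf cJ2262))) (BT.node 2265 (BT.node 2264 (BT.node 2263 (BT.leaf cJ2263) (BT.leaf cJ2264)) (BT.leaf cJ2265)) (BT.node 2266 (BT.leaf cJ2266) (BT.leaf cJ2267)))) (BT.node 2272 (BT.node 2270 (BT.node 2269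 (BT.node 2268 (BT.leaf cJ2268) (BT.leaf cJ2269)) (BT.leaf cJ2270)) (BT.node 2271 (BT.leaf cJ2271) (BT.leaf cJ2272))) (BT.node 2275 (BT.node 2274 (BT.node 2273 (BT.leaf cJ2273) (BT.leaf cJ2274)) (BT.leaf cJ2275)) (BT.node 2276 (BT.leaf cJ2276) (BT.leaf cJ2277)))))) (BT.node 2298 (BT.node 2288 (BT.node 2283 (BT.node 2280 (BT.node 2279 (BT.node 2278 (BT.leaf cJ2278) (BT.leaf cJ2279)) (BT.leaf cJ2280)) (BT.node 2282 (BT.node 2281 (BT.leaf cJ2281) (BT.leaf cJ2282)) (BT.leaf cJ2283))) (BT.node 2286 (BT.node 2285 (BT.node 2284 (BT.leaf cJ2284) (BT.leaf cJ2285)) (BT.leaf cJ2286)) (BT.node 2287 (BT.leaf cJ2287) (BT.leaf cJ2288)))) (BT.node 2293 (BT.node 2291 (BT.node 2290 (BT.node 2289 (BT.leaf cJ2289) (BT.leaf cJ2290)) (BT.leaf cJ2291)) (BT.node 2292 (BT.leaf cJ2292) (BT.leaf cJ2293))) (BT.node 2296 (BT.node 2295 (BT.node 2294 (BT.leaf cJ2294) (BT.leaf cJ2295)) (BT.leaf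 cJ2296)) (BT.node 2297 (BT.leaf cJ2297) (BT.leaf cJ2298))))) (BT.node 2308 (BT.node 2303 (BT.node 2301 (BT.node 2300 (BT.node 2299 (BT.leaf cJ2299) (BT.leaf cJ2300)) (BT.leaf cJ2301)) (BT.node 2302 (BT.leaf cJ2302) (BT.leaf cJ2303))) (BT.node 2306 (BT.node 2305 (BT.node 2304 (BT.leaf cJ2304) (BT.leaf cJ2305)) (BT.leaf cJ2306)) (BT.node 2307 (BT.leaf cJ2307) (BT.leaf cJ2308)))) (BT.node 2313 (BT.node 2311 (BT.node 2310 (BT.node 2309 (BT.leaf cJ2309) (BT.leaf cJ2310)) (BT.leaf cJ2311)) (BT.node 2312 (BT.leaf cJ2312) (BT.leaf cJ2313))) (BT.node 2316 (BT.node 2315 (BT.node 2314 (BT.leaf cJ2314) (BT.leaf cJ2315)) (BT.leaf cJ2316)) (BT.node 2317 (BT.leaf cJ2317) (BT.leaf cJ2318))))))))) (BT.node 2484 (BT.node 2401 (BT.node 2360 (BT.node 2339 (BT.node 2329 (BT.node 2324 (BT.node 2321 (BT.node 2320 (BT.node 2319 (BT.leaf cJ2319) (BT.leaf cJ2320)) (BT.leaf cJ2321))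 (BT.node 2323 (BT.node 2322 (BT.leaf cJ2322) (BT.leaf cJ2323)) (BT.leaf cJ2324))) (BT.node 2327 (BT.node 2326 (BT.node 2325 (BT.leaf cJ2325) (BT.leaf cJ2326)) (BT.leaf cJ2327)) (BT.node 2328 (BT.leaf cJ2328) (BT.leaf cJ2329)))) (BT.node 2334 (BT.node 2332 (BT.node 2331 (BT.node 2330 (BT.leaf cJ2330) (BT.leaf cJ2331)) (BT.leaf cJ2332)) (BT.node 2333 (BT.leaf cJ2333) (BT.leaf cJ2334))) (BT.node 2337 (BT.node 2336 (BT.node 2335 (BT.leaf cJ2335) (BT.leaf cJ2336)) (BT.leaf cJ2337)) (BT.node 2338 (BT.leaf cJ2338) (BT.leaf cJ2339))))) (BT.node 2350 (BT.node 2345 (BT.node 2342 (BT.node 2341 (BT.node 2340 (BT.leaf cJ2340) (BT.leaf cJ2341)) (BT.leaf cJ2342)) (BT.node 2344 (BT.node 2343 (BT.leaf cJ2343) (BT.leaf cJ2344)) (BT.leaf cJ2345))) (BT.node 2348 (BT.node 2347 (BT.node 2346 (BT.leaf cJ2346) (BT.leaf cJ2347)) (BT.leaf cJ2348)) (BT.node 2349 (BT.leaf cJ2349) (BT.leaf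 cJ2350)))) (BT.node 2355 (BT.node 2353 (BT.node 2352 (BT.node 2351 (BT.leaf cJ2351) (BT.leaf cJ2352)) (BT.leaf cJ2353)) (BT.node 2354 (BT.leaf cJ2354) (BT.leaf cJ2355))) (BT.node 2358 (BT.node 2357 (BT.node 2356 (BT.leaf cJ2356) (BT.leaf cJ2357)) (BT.leaf cJ2358)) (BT.node 2359 (BT.leaf cJ2359) (BT.leaf cJ2360)))))) (BT.node 2381 (BT.node 2371 (BT.node 2366 (BT.node 2363 (BT.node 2362 (BT.node 2361 (BT.leaf cJ2361) (BT.leaf cJ2362)) (BT.leaf cJ2363)) (BT.node 2365 (BT.node 2364 (BT.leaf cJ2364) (BT.leaf cJ2365)) (BT.leaf cJ2366))) (BT.node 2369 (BT.node 2368 (BT.node 2367 (BT.leaf cJ2367) (BT.leaf cJ2368)) (BT.leaf cJ2369)) (BT.node 2370 (BT.leaf cJ2370) (BT.leaf cJ2371)))) (BT.node 2376 (BT.node 2374 (BT.node 2373 (BT.node 2372 (BT.leaf cJ2372) (BT.leaf cJ2373)) (BT.leaf cJ2374)) (BT.node 2375 (BT.leaf cJ2375) (BT.leaf cJ2376))) (BT.node 2379 (BT.node 2378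 (BT.node 2377 (BT.leaf cJ2377) (BT.leaf cJ2378)) (BT.leaf cJ2379)) (BT.node 2380 (BT.leaf cJ2380) (BT.leaf cJ2381))))) (BT.node 2391 (BT.node 2386 (BT.node 2384 (BT.node 2383 (BT.node 2382 (BT.leaf cJ2382) (BT.leaf cJ2383)) (BT.leaf cJ2384)) (BT.node 2385 (BT.leaf cJ2385) (BT.leaf cJ2386))) (BT.node 2389 (BT.node 2388 (BT.node 2387 (BT.leaf cJ2387) (BT.leaf cJ2388)) (BT.leaf cJ2389)) (BT.node 2390 (BT.leaf cJ2390) (BT.leaf cJ2391)))) (BT.node 2396 (BT.node 2394 (BT.node 2393 (BT.node 2392 (BT.leaf cJ2392) (BT.leaf cJ2393)) (BT.leaf cJ2394)) (BT.node 2395 (BT.leaf cJ2395) (BT.leaf cJ2396))) (BT.node 2399 (BT.node 2398 (BT.node 2397 (BT.leaf cJ2397) (BT.leaf cJ2398)) (BT.leaf cJ2399)) (BT.node 2400 (BT.leaf cJ2400) (BT.leaf cJ2401))))))) (BT.node 2443 (BT.node 2422 (BT.node 2412 (BT.node 2407 (BT.node 2404 (BT.node 2403 (BT.node 2402 (BT.leaf cJ2402) (BT.leaf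 cJ2403)) (BT.leaf cJ2404)) (BT.node 2406 (BT.node 2405 (BT.leaf cJ2405) (BT.leaf cJ2406)) (BT.leaf cJ2407))) (BT.node 2410 (BT.node 2409 (BT.node 2408 (BT.leaf cJ2408) (BT.leaf cJ2409)) (BT.leaf cJ2410)) (BT.node 2411 (BT.leaf cJ2411) (BT.leaf cJ2412)))) (BT.node 2417 (BT.node 2415 (BT.node 2414 (BT.node 2413 (BT.leaf cJ2413) (BT.leaf cJ2414)) (BT.leaf cJ2415)) (BT.node 2416 (BT.leaf cJ2416) (BT.leaf cJ2417))) (BT.node 2420 (BT.node 2419 (BT.node 2418 (BT.leaf cJ2418) (BT.leaf cJ2419)) (BT.leaf cJ2420)) (BT.node 2421 (BT.leaf cJ2421) (BT.leaf cJ2422))))) (BT.node 2433 (BT.node 2428 (BT.node 2425 (BT.node 2424 (BT.node 2423 (BT.leaf cJ2423) (BT.leaf cJ2424)) (BT.leaf cJ2425)) (BT.node 2427 (BT.node 2426 (BT.leaf cJ2426) (BT.leaf cJ2427)) (BT.leaf cJ2428))) (BT.node 2431 (BT.node 2430 (BT.node 2429 (BT.leaf cJ2429) (BT.leaf cJ2430)) (BT.leaf cJ2431)) (BT.node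 2432 (BT.leaf cJ2432) (BT.leaf cJ2433)))) (BT.node 2438 (BT.node 2436 (BT.node 2435 (BT.node 2434 (BT.leaf cJ2434) (BT.leaf cJ2435)) (BT.leaf cJ2436)) (BT.node 2437 (BT.leaf cJ2437) (BT.leaf cJ2438))) (BT.node 2441 (BT.node 2440 (BT.node 2439 (BT.leaf cJ2439) (BT.leaf cJ2440)) (BT.leaf cJ2441)) (BT.node 2442 (BT.leaf cJ2442) (BT.leaf cJ2443)))))) (BT.node 2464 (BT.node 2454 (BT.node 2449 (BT.node 2446 (BT.node 2445 (BT.node 2444 (BT.leaf cJ2444) (BT.leaf cJ2445)) (BT.leaf cJ2446)) (BT.node 2448 (BT.node 2447 (BT.leaf cJ2447) (BT.leaf cJ2448)) (BT.leaf cJ2449))) (BT.node 2452 (BT.node 2451 (BT.node 2450 (BT.leaf cJ2450) (BT.leaf cJ2451)) (BT.leaf cJ2452)) (BT.node 2453 (BT.leaf cJ2453) (BT.leaf cJ2454)))) (BT.node 2459 (BT.node 2457 (BT.node 2456 (BT.node 2455 (BT.leaf cJ2455) (BT.leaf cJ2456)) (BT.leaf cJ2457)) (BT.node 2458 (BT.leaf cJ2458) (BT.leaf cJ2459)))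 (BT.node 2462 (BT.node 2461 (BT.node 2460 (BT.leaf cJ2460) (BT.leaf cJ2461)) (BT.leaf cJ2462)) (BT.node 2463 (BT.leaf cJ2463) (BT.leaf cJ2464))))) (BT.node 2474 (BT.node 2469 (BT.node 2467 (BT.node 2466 (BT.node 2465 (BT.leaf cJ2465) (BT.leaf cJ2466)) (BT.leaf cJ2467)) (BT.node 2468 (BT.leaf cJ2468) (BT.leaf cJ2469))) (BT.node 2472 (BT.node 2471 (BT.node 2470 (BT.leaf cJ2470) (BT.leaf cJ2471)) (BT.leaf cJ2472)) (BT.node 2473 (BT.leaf cJ2473) (BT.leaf cJ2474)))) (BT.node 2479 (BT.node 2477 (BT.node 2476 (BT.node 2475 (BT.leaf cJ2475) (BT.leaf cJ2476)) (BT.leaf cJ2477)) (BT.node 2478 (BT.leaf cJ2478) (BT.leaf cJ2479))) (BT.node 2482 (BT.node 2481 (BT.node 2480 (BT.leaf cJ2480) (BT.leaf cJ2481)) (BT.leaf cJ2482)) (BT.node 2483 (BT.leaf cJ2483) (BT.leaf cJ2484)))))))) (BT.node 2567 (BT.node 2526 (BT.node 2505 (BT.node 2495 (BT.node 2490 (BT.node 2487 (BT.node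 2486 (BT.node 2485 (BT.leaf cJ2485) (BT.leaf cJ2486)) (BT.leaf cJ2487)) (BT.node 2489 (BT.node 2488 (BT.leaf cJ2488) (BT.leaf cJ2489)) (BT.leaf cJ2490))) (BT.node 2493 (BT.node 2492 (BT.node 2491 (BT.leaf cJ2491) (BT.leaf cJ2492)) (BT.leaf cJ2493)) (BT.node 2494 (BT.leaf cJ2494) (BT.leaf cJ2495)))) (BT.node 2500 (BT.node 2498 (BT.node 2497 (BT.node 2496 (BT.leaf cJ2496) (BT.leaf cJ2497)) (BT.leaf cJ2498)) (BT.node 2499 (BT.leaf cJ2499) (BT.leaf cJ2500))) (BT.node 2503 (BT.node 2502 (BT.node 2501 (BT.leaf cJ2501) (BT.leaf cJ2502)) (BT.leaf cJ2503)) (BT.node 2504 (BT.leaf cJ2504) (BT.leaf cJ2505))))) (BT.node 2516 (BT.node 2511 (BT.node 2508 (BT.node 2507 (BT.node 2506 (BT.leaf cJ2506) (BT.leaf cJ2507)) (BT.leaf cJ2508)) (BT.node 2510 (BT.node 2509 (BT.leaf cJ2509) (BT.leaf cJ2510)) (BT.leaf cJ2511))) (BT.node 2514 (BT.node 2513 (BT.node 2512 (BT.leaf cJ2512)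 (BT.leaf cJ2513)) (BT.leaf cJ2514)) (BT.node 2515 (BT.leaf cJ2515) (BT.leaf cJ2516)))) (BT.node 2521 (BT.node 2519 (BT.node 2518 (BT.node 2517 (BT.leaf cJ2517) (BT.leaf cJ2518)) (BT.leaf cJ2519)) (BT.node 2520 (BT.leaf cJ2520) (BT.leaf cJ2521))) (BT.node 2524 (BT.node 2523 (BT.node 2522 (BT.leaf cJ2522) (BT.leaf cJ2523)) (BT.leaf cJ2524)) (BT.node 2525 (BT.leaf cJ2525) (BT.leaf cJ2526)))))) (BT.node 2547 (BT.node 2537 (BT.node 2532 (BT.node 2529 (BT.node 2528 (BT.node 2527 (BT.leaf cJ2527) (BT.leaf cJ2528)) (BT.leaf cJ2529)) (BT.node 2531 (BT.node 2530 (BT.leaf cJ2530) (BT.leaf cJ2531)) (BT.leaf cJ2532))) (BT.node 2535 (BT.node 2534 (BT.node 2533 (BT.leaf cJ2533) (BT.leaf cJ2534)) (BT.leaf cJ2535)) (BT.node 2536 (BT.leaf cJ2536) (BT.leaf cJ2537)))) (BT.node 2542 (BT.node 2540 (BT.node 2539 (BT.node 2538 (BT.leaf cJ2538) (BT.leaf cJ2539)) (BT.leaf cJ2540))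 (BT.node 2541 (BT.leaf cJ2541) (BT.leaf cJ2542))) (BT.node 2545 (BT.node 2544 (BT.node 2543 (BT.leaf cJ2543) (BT.leaf cJ2544)) (BT.leaf cJ2545)) (BT.node 2546 (BT.leaf cJ2546) (BT.leaf cJ2547))))) (BT.node 2557 (BT.node 2552 (BT.node 2550 (BT.node 2549 (BT.node 2548 (BT.leaf cJ2548) (BT.leaf cJ2549)) (BT.leaf cJ2550)) (BT.node 2551 (BT.leaf cJ2551) (BT.leaf cJ2552))) (BT.node 2555 (BT.node 2554 (BT.node 2553 (BT.leaf cJ2553) (BT.leaf cJ2554)) (BT.leaf cJ2555)) (BT.node 2556 (BT.leaf cJ2556) (BT.leaf cJ2557)))) (BT.node 2562 (BT.node 2560 (BT.node 2559 (BT.node 2558 (BT.leaf cJ2558) (BT.leaf cJ2559)) (BT.leaf cJ2560)) (BT.node 2561 (BT.leaf cJ2561) (BT.leaf cJ2562))) (BT.node 2565 (BT.node 2564 (BT.node 2563 (BT.leaf cJ2563) (BT.leaf cJ2564)) (BT.leaf cJ2565)) (BT.node 2566 (BT.leaf cJ2566) (BT.leaf cJ2567))))))) (BT.node 2608 (BT.node 2588 (BT.node 2578 (BT.node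 2573 (BT.node 2570 (BT.node 2569 (BT.node 2568 (BT.leaf cJ2568) (BT.leaf cJ2569)) (BT.leaf cJ2570)) (BT.node 2572 (BT.node 2571 (BT.leaf cJ2571) (BT.leaf cJ2572)) (BT.leaf cJ2573))) (BT.node 2576 (BT.node 2575 (BT.node 2574 (BT.leaf cJ2574) (BT.leaf cJ2575)) (BT.leaf cJ2576)) (BT.node 2577 (BT.leaf cJ2577) (BT.leaf cJ2578)))) (BT.node 2583 (BT.node 2581 (BT.node 2580 (BT.node 2579 (BT.leaf cJ2579) (BT.leaf cJ2580)) (BT.leaf cJ2581)) (BT.node 2582 (BT.leaf cJ2582) (BT.leaf cJ2583))) (BT.node 2586 (BT.node 2585 (BT.node 2584 (BT.leaf cJ2584) (BT.leaf cJ2585)) (BT.leaf cJ2586)) (BT.node 2587 (BT.leaf cJ2587) (BT.leaf cJ2588))))) (BT.node 2598 (BT.node 2593 (BT.node 2591 (BT.node 2590 (BT.node 2589 (BT.leaf cJ2589) (BT.leaf cJ2590)) (BT.leaf cJ2591)) (BT.node 2592 (BT.leaf cJ2592) (BT.leaf cJ2593))) (BT.node 2596 (BT.node 2595 (BT.node 2594 (BT.leaf cJ2594) (BT.leaf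 cJ2595)) (BT.leaf cJ2596)) (BT.node 2597 (BT.leaf cJ2597) (BT.leaf cJ2598)))) (BT.node 2603 (BT.node 2601 (BT.node 2600 (BT.node 2599 (BT.leaf cJ2599) (BT.leaf cJ2600)) (BT.leaf cJ2601)) (BT.node 2602 (BT.leaf cJ2602) (BT.leaf cJ2603))) (BT.node 2606 (BT.node 2605 (BT.node 2604 (BT.leaf cJ2604) (BT.leaf cJ2605)) (BT.leaf cJ2606)) (BT.node 2607 (BT.leaf cJ2607) (BT.leaf cJ2608)))))) (BT.node 2629 (BT.node 2619 (BT.node 2614 (BT.node 2611 (BT.node 2610 (BT.node 2609 (BT.leaf cJ2609) (BT.leaf cJ2610)) (BT.leaf cJ2611)) (BT.node 2613 (BT.node 2612 (BT.leaf cJ2612) (BT.leaf cJ2613)) (BT.leaf cJ2614))) (BT.node 2617 (BT.node 2616 (BT.node 2615 (BT.leaf cJ2615) (BT.leaf cJ2616)) (BT.leaf cJ2617)) (BT.node 2618 (BT.leaf cJ2618) (BT.leaf cJ2619)))) (BT.node 2624 (BT.node 2622 (BT.node 2621 (BT.node 2620 (BT.leaf cJ2620) (BT.leaf cJ2621)) (BT.leaf cJ2622)) (BT.node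 2623 (BT.leaf cJ2623) (BT.leaf cJ2624))) (BT.node 2627 (BT.node 2626 (BT.node 2625 (BT.leaf cJ2625) (BT.leaf cJ2626)) (BT.leaf cJ2627)) (BT.node 2628 (BT.leaf cJ2628) (BT.leaf cJ2629))))) (BT.node 2639 (BT.node 2634 (BT.node 2632 (BT.node 2631 (BT.node 2630 (BT.leaf cJ2630) (BT.leaf cJ2631)) (BT.leaf cJ2632)) (BT.node 2633 (BT.leaf cJ2633) (BT.leaf cJ2634))) (BT.node 2637 (BT.node 2636 (BT.node 2635 (BT.leaf cJ2635) (BT.leaf cJ2636)) (BT.leaf cJ2637)) (BT.node 2638 (BT.leaf cJ2638) (BT.leaf cJ2639)))) (BT.node 2644 (BT.node 2642 (BT.node 2641 (BT.node 2640 (BT.leaf cJ2640) (BT.leaf cJ2641)) (BT.leaf cJ2642)) (BT.node 2643 (BT.leaf cJ2643) (BT.leaf cJ2644))) (BT.node 2647 (BT.node 2646 (BT.node 2645 (BT.leaf cJ2645) (BT.leaf cJ2646)) (BT.leaf cJ2647)) (BT.node 2648 (BT.leaf cJ2648) (BT.leaf cJ2649))))))))))))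
/-- parent chunks -/
def parCT : BT ℕ := (BT.node 132 (BT.node 66 (BT.node 33 (BT.node 16 (BT.node 8 (BT.node 4 (BT.node 2 (BT.node 1 (BT.node 0 (BT.leaf cP0) (BT.leaf cP1)) (BT.leaf cP2)) (BT.node 3 (BT.leaf cP3) (BT.leaf cP4))) (BT.node 6 (BT.node 5 (BT.leaf cP5) (BT.leaf cP6)) (BT.node 7 (BT.leaf cP7) (BT.leaf cP8)))) (BT.node 12 (BT.node 10 (BT.node 9 (BT.leaf cP9) (BT.leaf cP10)) (BT.node 11 (BT.leaf cP11) (BT.leaf cP12))) (BT.node 14 (BT.node 13 (BT.leaf cP13) (BT.leaf cP14)) (BT.node 15 (BT.leaf cP15) (BT.leaf cP16))))) (BT.node 25 (BT.node 21 (BT.node 19 (BT.node 18 (BT.node 17 (BT.leaf cP17) (BT.leaf cP18)) (BT.leaf cP19)) (BT.node 20 (BT.leaf cP20) (BT.leaf cP21))) (BT.node 23 (BT.node 22 (BT.leaf cP22) (BT.leaf cP23)) (BT.node 24 (BT.leaf cP24) (BT.leaf cP25)))) (BT.node 29 (BT.node 27 (BT.node 26 (BT.leaf cP26) (BT.leaf cP27)) (BT.node 28 (BT.leaf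 cP28) (BT.leaf cP29))) (BT.node 31 (BT.node 30 (BT.leaf cP30) (BT.leaf cP31)) (BT.node 32 (BT.leaf cP32) (BT.leaf cP33)))))) (BT.node 50 (BT.node 42 (BT.node 38 (BT.node 36 (BT.node 35 (BT.node 34 (BT.leaf cP34) (BT.leaf cP35)) (BT.leaf cP36)) (BT.node 37 (BT.leaf cP37) (BT.leaf cP38))) (BT.node 40 (BT.node 39 (BT.leaf cP39) (BT.leaf cP40)) (BT.node 41 (BT.leaf cP41) (BT.leaf cP42)))) (BT.node 46 (BT.node 44 (BT.node 43 (BT.leaf cP43) (BT.leaf cP44)) (BT.node 45 (BT.leaf cP45) (BT.leaf cP46))) (BT.node 48 (BT.node 47 (BT.leaf cP47) (BT.leaf cP48)) (BT.node 49 (BT.leaf cP49) (BT.leaf cP50))))) (BT.node 58 (BT.node 54 (BT.node 52 (BT.node 51 (BT.leaf cP51) (BT.leaf cP52)) (BT.node 53 (BT.leaf cP53) (BT.leaf cP54))) (BT.node 56 (BT.node 55 (BT.leaf cP55) (BT.leaf cP56)) (BT.node 57 (BT.leaf cP57) (BT.leaf cP58)))) (BT.node 62 (BT.node 60 (BT.node 59 (BT.leaf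 cP59) (BT.leaf cP60)) (BT.node 61 (BT.leaf cP61) (BT.leaf cP62))) (BT.node 64 (BT.node 63 (BT.leaf cP63) (BT.leaf cP64)) (BT.node 65 (BT.leaf cP65) (BT.leaf cP66))))))) (BT.node 99 (BT.node 83 (BT.node 75 (BT.node 71 (BT.node 69 (BT.node 68 (BT.node 67 (BT.leaf cP67) (BT.leaf cP68)) (BT.leaf cP69)) (BT.node 70 (BT.leaf cP70) (BT.leaf cP71))) (BT.node 73 (BT.node 72 (BT.leaf cP72) (BT.leaf cP73)) (BT.node 74 (BT.leaf cP74) (BT.leaf cP75)))) (BT.node 79 (BT.node 77 (BT.node 76 (BT.leaf cP76) (BT.leaf cP77)) (BT.node 78 (BT.leaf cP78) (BT.leaf cP79))) (BT.node 81 (BT.node 80 (BT.leaf cP80) (BT.leaf cP81)) (BT.node 82 (BT.leaf cP82) (BT.leaf cP83))))) (BT.node 91 (BT.node 87 (BT.node 85 (BT.node 84 (BT.leaf cP84) (BT.leaf cP85)) (BT.node 86 (BT.leaf cP86) (BT.leaf cP87))) (BT.node 89 (BT.node 88 (BT.leaf cP88) (BT.leaf cP89)) (BT.node 90 (BT.leaf cP90) (BT.leaf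 cP91)))) (BT.node 95 (BT.node 93 (BT.node 92 (BT.leaf cP92) (BT.leaf cP93)) (BT.node 94 (BT.leaf cP94) (BT.leaf cP95))) (BT.node 97 (BT.node 96 (BT.leaf cP96) (BT.leaf cP97)) (BT.node 98 (BT.leaf cP98) (BT.leaf cP99)))))) (BT.node 116 (BT.node 108 (BT.node 104 (BT.node 102 (BT.node 101 (BT.node 100 (BT.leaf cP100) (BT.leaf cP101)) (BT.leaf cP102)) (BT.node 103 (BT.leaf cP103) (BT.leaf cP104))) (BT.node 106 (BT.node 105 (BT.leaf cP105) (BT.leaf cP106)) (BT.node 107 (BT.leaf cP107) (BT.leaf cP108)))) (BT.node 112 (BT.node 110 (BT.node 109 (BT.leaf cP109) (BT.leaf cP110)) (BT.node 111 (BT.leaf cP111) (BT.leaf cP112))) (BT.node 114 (BT.node 113 (BT.leaf cP113) (BT.leaf cP114)) (BT.node 115 (BT.leaf cP115) (BT.leaf cP116))))) (BT.node 124 (BT.node 120 (BT.node 118 (BT.node 117 (BT.leaf cP117) (BT.leaf cP118)) (BT.node 119 (BT.leaf cP119) (BT.leaf cP120))) (BT.node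 122 (BT.node 121 (BT.leaf cP121) (BT.leaf cP122)) (BT.node 123 (BT.leaf cP123) (BT.leaf cP124)))) (BT.node 128 (BT.node 126 (BT.node 125 (BT.leaf cP125) (BT.leaf cP126)) (BT.node 127 (BT.leaf cP127) (BT.leaf cP128))) (BT.node 130 (BT.node 129 (BT.leaf cP129) (BT.leaf cP130)) (BT.node 131 (BT.leaf cP131) (BT.leaf cP132)))))))) (BT.node 198 (BT.node 165 (BT.node 149 (BT.node 141 (BT.node 137 (BT.node 135 (BT.node 134 (BT.node 133 (BT.leaf cP133) (BT.leaf cP134)) (BT.leaf cP135)) (BT.node 136 (BT.leaf cP136) (BT.leaf cP137))) (BT.node 139 (BT.node 138 (BT.leaf cP138) (BT.leaf cP139)) (BT.node 140 (BT.leaf cP140) (BT.leaf cP141)))) (BT.node 145 (BT.node 143 (BT.node 142 (BT.leaf cP142) (BT.leaf cP143)) (BT.node 144 (BT.leaf cP144) (BT.leaf cP145))) (BT.node 147 (BT.node 146 (BT.leaf cP146) (BT.leaf cP147)) (BT.node 148 (BT.leaf cP148) (BT.leaf cP149))))) (BT.node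 157 (BT.node 153 (BT.node 151 (BT.node 150 (BT.leaf cP150) (BT.leaf cP151)) (BT.node 152 (BT.leaf cP152) (BT.leaf cP153))) (BT.node 155 (BT.node 154 (BT.leaf cP154) (BT.leaf cP155)) (BT.node 156 (BT.leaf cP156) (BT.leaf cP157)))) (BT.node 161 (BT.node 159 (BT.node 158 (BT.leaf cP158) (BT.leaf cP159)) (BT.node 160 (BT.leaf cP160) (BT.leaf cP161))) (BT.node 163 (BT.node 162 (BT.leaf cP162) (BT.leaf cP163)) (BT.node 164 (BT.leaf cP164) (BT.leaf cP165)))))) (BT.node 182 (BT.node 174 (BT.node 170 (BT.node 168 (BT.node 167 (BT.node 166 (BT.leaf cP166) (BT.leaf cP167)) (BT.leaf cP168)) (BT.node 169 (BT.leaf cP169) (BT.leaf cP170))) (BT.node 172 (BT.node 171 (BT.leaf cP171) (BT.leaf cP172)) (BT.node 173 (BT.leaf cP173) (BT.leaf cP174)))) (BT.node 178 (BT.node 176 (BT.node 175 (BT.leaf cP175) (BT.leaf cP176)) (BT.node 177 (BT.leaf cP177) (BT.leaf cP178))) (BT.node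 180 (BT.node 179 (BT.leaf cP179) (BT.leaf cP180)) (BT.node 181 (BT.leaf cP181) (BT.leaf cP182))))) (BT.node 190 (BT.node 186 (BT.node 184 (BT.node 183 (BT.leaf cP183) (BT.leaf cP184)) (BT.node 185 (BT.leaf cP185) (BT.leaf cP186))) (BT.node 188 (BT.node 187 (BT.leaf cP187) (BT.leaf cP188)) (BT.node 189 (BT.leaf cP189) (BT.leaf cP190)))) (BT.node 194 (BT.node 192 (BT.node 191 (BT.leaf cP191) (BT.leaf cP192)) (BT.node 193 (BT.leaf cP193) (BT.leaf cP194))) (BT.node 196 (BT.node 195 (BT.leaf cP195) (BT.leaf cP196)) (BT.node 197 (BT.leaf cP197) (BT.leaf cP198))))))) (BT.node 231 (BT.node 215 (BT.node 207 (BT.node 203 (BT.node 201 (BT.node 200 (BT.node 199 (BT.leaf cP199) (BT.leaf cP200)) (BT.leaf cP201)) (BT.node 202 (BT.leaf cP202) (BT.leaf cP203))) (BT.node 205 (BT.node 204 (BT.leaf cP204) (BT.leaf cP205)) (BT.node 206 (BT.leaf cP206) (BT.leaf cP207)))) (BT.node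 211 (BT.node 209 (BT.node 208 (BT.leaf cP208) (BT.leaf cP209)) (BT.node 210 (BT.leaf cP210) (BT.leaf cP211))) (BT.node 213 (BT.node 212 (BT.leaf cP212) (BT.leaf cP213)) (BT.node 214 (BT.leaf cP214) (BT.leaf cP215))))) (BT.node 223 (BT.node 219 (BT.node 217 (BT.node 216 (BT.leaf cP216) (BT.leaf cP217)) (BT.node 218 (BT.leaf cP218) (BT.leaf cP219))) (BT.node 221 (BT.node 220 (BT.leaf cP220) (BT.leaf cP221)) (BT.node 222 (BT.leaf cP222) (BT.leaf cP223)))) (BT.node 227 (BT.node 225 (BT.node 224 (BT.leaf cP224) (BT.leaf cP225)) (BT.node 226 (BT.leaf cP226) (BT.leaf cP227))) (BT.node 229 (BT.node 228 (BT.leaf cP228) (BT.leaf cP229)) (BT.node 230 (BT.leaf cP230) (BT.leaf cP231)))))) (BT.node 248 (BT.node 240 (BT.node 236 (BT.node 234 (BT.node 233 (BT.node 232 (BT.leaf cP232) (BT.leaf cP233)) (BT.leaf cP234)) (BT.node 235 (BT.leaf cP235) (BT.leaf cP236))) (BT.node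 238 (BT.node 237 (BT.leaf cP237) (BT.leaf cP238)) (BT.node 239 (BT.leaf cP239) (BT.leaf cP240)))) (BT.node 244 (BT.node 242 (BT.node 241 (BT.leaf cP241) (BT.leaf cP242)) (BT.node 243 (BT.leaf cP243) (BT.leaf cP244))) (BT.node 246 (BT.node 245 (BT.leaf cP245) (BT.leaf cP246)) (BT.node 247 (BT.leaf cP247) (BT.leaf cP248))))) (BT.node 256 (BT.node 252 (BT.node 250 (BT.node 249 (BT.leaf cP249) (BT.leaf cP250)) (BT.node 251 (BT.leaf cP251) (BT.leaf cP252))) (BT.node 254 (BT.node 253 (BT.leaf cP253) (BT.leaf cP254)) (BT.node 255 (BT.leaf cP255) (BT.leaf cP256)))) (BT.node 260 (BT.node 258 (BT.node 257 (BT.leaf cP257) (BT.leaf cP258)) (BT.node 259 (BT.leaf cP259) (BT.leaf cP260))) (BT.node 262 (BT.node 261 (BT.leaf cP261) (BT.leaf cP262)) (BT.node 263 (BT.leaf cP263) (BT.leaf cP264)))))))))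
/-- the certificate -/
def data : Data where
  k := 9
  N := 135552
  W := 38
  MW := 274877906944
  B := 262144
  CH := 512
  NCH := 265
  colE := colET
  JW := 64
  MJ := 18446744073709551616
  A := 1048576
  colJ := colJT
  PW := 27
  MP := 134217728
  parC := parCT
  inv := (BT.node 4 (BT.node 2 (BT.node 1 (BT.node 0 (BT.leaf 0) (BT.leaf 1)) (BT.leaf 2)) (BT.node 3 (BT.leaf 3) (BT.leaf 4))) (BT.node 7 (BT.node 6 (BT.node 5 (BT.leaf 5) (BT.leaf 6)) (BT.leaf 7)) (BT.node 8 (BT.leaf 8) (BT.leaf 9))))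
  rel := relT
  sub := subT
  fuel := 64

end Cfsg.Agent.Lib.Helper28.TCF23NW1Data
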