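import Cfsg.Agent.Lib.Helper28.TC2Range
import Cfsg.Agent.Lib.Helper28.TCF23NW1Data
import Cfsg.Agent.Lib.Helper28.TCF23NW1M0
set_option autoImplicit false
set_option maxRecDepth 100000
set_option maxHeartbeats 0

namespace Cfsg.Agent.Lib.Helper28.TCF23NW1M2
open Cfsg.Agent.Lib.Helper28.TC2Upper Cfsg.Agent.Lib.Helper28.TC2Lower Cfsg.Agent.Lib.Helper28.TC2Range Cfsg.Agent.Lib.Helper28.TCF23NW1Data

theorem fin10 : Data.finalRange data 92590 9259 = true := by decide +kernel
theorem fin11 : Data.finalRange data 101849 9259 = true := by decide +kernel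
theorem fin12 : Data.finalRange data 111108 9259 = true := by decide +kernel
theorem fin13 : Data.finalRange data 120367 9259 = true := by decide +kernel
theorem fin14 : Data.finalRange data 129626 5926 = true := by decide +kernel

end Cfsg.Agent.Lib.Helper28.TCF23NW1M2
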