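import Cfsg.Agent.Lib.Helper28.TCF23NW1Data
import Cfsg.Agent.Lib.Helper28.TCF23NW1U0
set_option autoImplicit false
set_option maxRecDepth 100000
set_option maxHeartbeats 0

namespace Cfsg.Agent.Lib.Helper28.TCF23NW1U6
open Cfsg.Agent.Lib.Helper28.TC2Upper Cfsg.Agent.Lib.Helper28.TCF23NW1Data

theorem chk30 : data.checkRange 23766 1087 = true := by decide +kernel
theorem chk31 : data.checkRange 24853 675 = true := by decide +kernel
theorem chk32 : data.checkRange 25528 793 = true := by decide +kernel
theorem chk33 : data.checkRange 26321 881 = true := by decide +kernel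
theorem chk34 : data.checkRange 27202 790 = true := by decide +kernel

end Cfsg.Agent.Lib.Helper28.TCF23NW1U6
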