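import Cfsg.Agent.Lib.Helper28.TCF23NW1Data
set_option autoImplicit false
set_option maxRecDepth 100000
set_option maxHeartbeats 0

namespace Cfsg.Agent.Lib.Helper28.TCF23NW1U3
open Cfsg.Agent.Lib.Helper28.TC2Upper Cfsg.Agent.Lib.Helper28.TCF23NW1Data

theorem chk15 : data.checkRange 11185 705 = true := by decide +kernel
theorem chk16 : data.checkRange 11890 736 = true := by decide +kernel
theorem chk17 : data.checkRange 12626 757 = true := by decide +kernel
theorem chk18 : data.checkRange 13383 1064 = true := by decide +kernel
theorem chk19 : data.checkRange 14447 810 = true := by decide +kernel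

end Cfsg.Agent.Lib.Helper28.TCF23NW1U3
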