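import Cfsg.Agent.Lib.Helper28.TCF23NW1Data
import Cfsg.Agent.Lib.Helper28.TCF23NW1U3
set_option autoImplicit false
set_option maxRecDepth 100000
set_option maxHeartbeats 0

namespace Cfsg.Agent.Lib.Helper28.TCF23NW1U9
open Cfsg.Agent.Lib.Helper28.TC2Upper Cfsg.Agent.Lib.Helper28.TCF23NW1Data

theorem chk45 : data.checkRange 37407 1102 = true := by decide +kernel
theorem chk46 : data.checkRange 38509 780 = true := by decide +kernel
theorem chk47 : data.checkRange 39289 755 = true := by decide +kernel
theorem chk48 : data.checkRange 40044 929 = true := by decide +kernel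
theorem chk49 : data.checkRange 40973 924 = true := by decide +kernel

end Cfsg.Agent.Lib.Helper28.TCF23NW1U9
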