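import Cfsg.Agent.Lib.Helper28.TCF23NW1Data
import Cfsg.Agent.Lib.Helper28.TCF23NW1U11
set_option autoImplicit false
set_option maxRecDepth 100000
set_option maxHeartbeats 0

namespace Cfsg.Agent.Lib.Helper28.TCF23NW1U17
open Cfsg.Agent.Lib.Helper28.TC2Upper Cfsg.Agent.Lib.Helper28.TCF23NW1Data

theorem chk85 : data.checkRange 77151 979 = true := by decide +kernel
theorem chk86 : data.checkRange 78130 927 = true := by decide +kernel
theorem chk87 : data.checkRange 79057 896 = true := by decide +kernel
theorem chk88 : data.checkRange 79953 893 = true := by decide +kernel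
theorem chk89 : data.checkRange 80846 1098 = true := by decide +kernel

end Cfsg.Agent.Lib.Helper28.TCF23NW1U17
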