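import Cfsg.Agent.Lib.Helper28.TCF23NW1Data
import Cfsg.Agent.Lib.Helper28.TCF23NW1U12
set_option autoImplicit false
set_option maxRecDepth 100000
set_option maxHeartbeats 0

namespace Cfsg.Agent.Lib.Helper28.TCF23NW1U18
open Cfsg.Agent.Lib.Helper28.TC2Upper Cfsg.Agent.Lib.Helper28.TCF23NW1Data

theorem chk90 : data.checkRange 81944 1069 = true := by decide +kernel
theorem chk91 : data.checkRange 83013 924 = true := by decide +kernel
theorem chk92 : data.checkRange 83937 995 = true := by decide +kernel
theorem chk93 : data.checkRange 84932 1116 = true := by decide +kernel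
theorem chk94 : data.checkRange 86048 1127 = true := by decide +kernel

end Cfsg.Agent.Lib.Helper28.TCF23NW1U18
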