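import Cfsg.Agent.Lib.Helper28.TCF23NW1Data
import Cfsg.Agent.Lib.Helper28.TCF23NW1U10
set_option autoImplicit false
set_option maxRecDepth 100000
set_option maxHeartbeats 0

namespace Cfsg.Agent.Lib.Helper28.TCF23NW1U16
open Cfsg.Agent.Lib.Helper28.TC2Upper Cfsg.Agent.Lib.Helper28.TCF23NW1Data

theorem chk80 : data.checkRange 71496 952 = true := by decide +kernel
theorem chk81 : data.checkRange 72448 1202 = true := by decide +kernel
theorem chk82 : data.checkRange 73650 1142 = true := by decide +kernel
theorem chk83 : data.checkRange 74792 1160 = true := by decide +kernel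
theorem chk84 : data.checkRange 75952 1199 = true := by decide +kernel

end Cfsg.Agent.Lib.Helper28.TCF23NW1U16
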