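import Cfsg.Agent.Lib.Helper28.TCF23NW1Data
import Cfsg.Agent.Lib.Helper28.TCF23NW1U16
set_option autoImplicit false
set_option maxRecDepth 100000
set_option maxHeartbeats 0

namespace Cfsg.Agent.Lib.Helper28.TCF23NW1U22
open Cfsg.Agent.Lib.Helper28.TC2Upper Cfsg.Agent.Lib.Helper28.TCF23NW1Data

theorem chk110 : data.checkRange 102963 1246 = true := by decide +kernel
theorem chk111 : data.checkRange 104209 1107 = true := by decide +kernel
theorem chk112 : data.checkRange 105316 955 = true := by decide +kernel
theorem chk113 : data.checkRange 106271 1001 = true := by decide +kernel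
theorem chk114 : data.checkRange 107272 968 = true := by decide +kernel

end Cfsg.Agent.Lib.Helper28.TCF23NW1U22
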