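import Cfsg.Agent.Lib.Helper28.TCF23NW1Data
import Cfsg.Agent.Lib.Helper28.TCF23NW1U18
set_option autoImplicit false
set_option maxRecDepth 100000
set_option maxHeartbeats 0

namespace Cfsg.Agent.Lib.Helper28.TCF23NW1U24
open Cfsg.Agent.Lib.Helper28.TC2Upper Cfsg.Agent.Lib.Helper28.TCF23NW1Data

theorem chk120 : data.checkRange 113691 1148 = true := by decide +kernel
theorem chk121 : data.checkRange 114839 1209 = true := by decide +kernel
theorem chk122 : data.checkRange 116048 1139 = true := by decide +kernel
theorem chk123 : data.checkRange 117187 1252 = true := by decide +kernel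
theorem chk124 : data.checkRange 118439 1222 = true := by decide +kernel

end Cfsg.Agent.Lib.Helper28.TCF23NW1U24
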