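import Cfsg.Agent.Lib.Helper28.TCF23NW1Data
import Cfsg.Agent.Lib.Helper28.TCF23NW1U19
set_option autoImplicit false
set_option maxRecDepth 100000
set_option maxHeartbeats 0

namespace Cfsg.Agent.Lib.Helper28.TCF23NW1U25
open Cfsg.Agent.Lib.Helper28.TC2Upper Cfsg.Agent.Lib.Helper28.TCF23NW1Data

theorem chk125 : data.checkRange 119661 1039 = true := by decide +kernel
theorem chk126 : data.checkRange 120700 1079 = true := by decide +kernel
theorem chk127 : data.checkRange 121779 1022 = true := by decide +kernel
theorem chk128 : data.checkRange 122801 991 = true := by decide +kernel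
theorem chk129 : data.checkRange 123792 1489 = true := by decide +kernel

end Cfsg.Agent.Lib.Helper28.TCF23NW1U25
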