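import Cfsg.Agent.Lib.Helper28.TCF23NW1Data
import Cfsg.Agent.Lib.Helper28.TCF23NW1U20
set_option autoImplicit false
set_option maxRecDepth 100000
set_option maxHeartbeats 0

namespace Cfsg.Agent.Lib.Helper28.TCF23NW1U26
open Cfsg.Agent.Lib.Helper28.TC2Upper Cfsg.Agent.Lib.Helper28.TCF23NW1Data

theorem chk130 : data.checkRange 125281 1343 = true := by decide +kernel
theorem chk131 : data.checkRange 126624 1319 = true := by decide +kernel
theorem chk132 : data.checkRange 127943 1541 = true := by decide +kernel
theorem chk133 : data.checkRange 129484 1527 = true := by decide +kernel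
theorem chk134 : data.checkRange 131011 1262 = true := by decide +kernel

end Cfsg.Agent.Lib.Helper28.TCF23NW1U26
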