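import Cfsg.Agent.Lib.Helper28.TCF23NW1Data
import Cfsg.Agent.Lib.Helper28.TCF23NW1U21
set_option autoImplicit false
set_option maxRecDepth 100000
set_option maxHeartbeats 0

namespace Cfsg.Agent.Lib.Helper28.TCF23NW1U27
open Cfsg.Agent.Lib.Helper28.TC2Upper Cfsg.Agent.Lib.Helper28.TCF23NW1Data

theorem chk135 : data.checkRange 132273 1206 = true := by decide +kernel
theorem chk136 : data.checkRange 133479 873 = true := by decide +kernel
theorem chk137 : data.checkRange 134352 600 = true := by decide +kernel
theorem chk138 : data.checkRange 134952 600 = true := by decide +kernel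

end Cfsg.Agent.Lib.Helper28.TCF23NW1U27
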