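import Cfsg.Agent.Lib.Helper28.TC2Glue
import Cfsg.Agent.Lib.Helper28.TC2Range
import Cfsg.Agent.Lib.Helper28.TCF23NW1Link
import Cfsg.Agent.Lib.Helper28.TCF23NW1M0
import Cfsg.Agent.Lib.Helper28.TCF23NW1M1
import Cfsg.Agent.Lib.Helper28.TCF23NW1M2
import Cfsg.Agent.Lib.Helper28.TCF23NW1M3
import Cfsg.Agent.Lib.Helper28.TCF23NW1U0
import Cfsg.Agent.Lib.Helper28.TCF23NW1U1
import Cfsg.Agent.Lib.Helper28.TCF23NW1U2
import Cfsg.Agent.Lib.Helper28.TCF23NW1U3
import Cfsg.Agent.Lib.Helper28.TCF23NW1U4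
import Cfsg.Agent.Lib.Helper28.TCF23NW1U5
import Cfsg.Agent.Lib.Helper28.TCF23NW1U6
import Cfsg.Agent.Lib.Helper28.TCF23NW1U7
import Cfsg.Agent.Lib.Helper28.TCF23NW1U8
import Cfsg.Agent.Lib.Helper28.TCF23NW1U9
import Cfsg.Agent.Lib.Helper28.TCF23NW1U10
import Cfsg.Agent.Lib.Helper28.TCF23NW1U11
import Cfsg.Agent.Lib.Helper28.TCF23NW1U12
import Cfsg.Agent.Lib.Helper28.TCF23NW1U13
import Cfsg.Agent.Lib.Helper28.TCF23NW1U14
import Cfsg.Agent.Lib.Helper28.TCF23NW1U15
import Cfsg.Agent.Lib.Helper28.TCF23NW1U16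
import Cfsg.Agent.Lib.Helper28.TCF23NW1U17
import Cfsg.Agent.Lib.Helper28.TCF23NW1U18
import Cfsg.Agent.Lib.Helper28.TCF23NW1U19
import Cfsg.Agent.Lib.Helper28.TCF23NW1U20
import Cfsg.Agent.Lib.Helper28.TCF23NW1U21
import Cfsg.Agent.Lib.Helper28.TCF23NW1U22
import Cfsg.Agent.Lib.Helper28.TCF23NW1U23
import Cfsg.Agent.Lib.Helper28.TCF23NW1U24
import Cfsg.Agent.Lib.Helper28.TCF23NW1U25
import Cfsg.Agent.Lib.Helper28.TCF23NW1U26
import Cfsg.Agent.Lib.Helper28.TCF23NW1U27

set_option autoImplicit false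
set_option maxRecDepth 100000
open Cfsg

namespace Cfsg.Agent.Lib.Helper28.TCF23NW1Main
open Cfsg.Agent.Lib.Helper28.TC2Upper Cfsg.Agent.Lib.Helper28.TC2Lower Cfsg.Agent.Lib.Helper28.TC2Glue Cfsg.Agent.Lib.Helper28.TC2Range
open Cfsg.Agent.Lib.Helper28.TCF23NW1Data Cfsg.Agent.Lib.Helper28.TCF23NW1Table Cfsg.Agent.Lib.Helper28.TCF23NW1Link

theorem hchk : ∀ v, v < data.N → data.checkNode v = true := by
  intro v hv
  have hv' : v < 135552 := hv
  rcases Nat.lt_or_ge v 609 with h0 | h0
  · exact (data.checkRange_iff 0 609).mp Cfsg.Agent.Lib.Helper28.TCF23NW1U0.chk0 v (by omega) (by omega)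
  rcases Nat.lt_or_ge v 1237 with h1 | h1
  · exact (data.checkRange_iff 609 628).mp Cfsg.Agent.Lib.Helper28.TCF23NW1U0.chk1 v (by omega) (by omega)
  rcases Nat.lt_or_ge v 1890 with h2 | h2
  · exact (data.checkRange_iff 1237 653).mp Cfsg.Agent.Lib.Helper28.TCF23NW1U0.chk2 v (by omega) (by omega)
  rcases Nat.lt_or_ge v 2573 with h3 | h3
  · exact (data.checkRange_iff 1890 683).mp Cfsg.Agent.Lib.Helper28.TCF23NW1U0.chk3 v (by omega) (by omega)
  rcases Nat.lt_or_ge v 3268 with h4 | h4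
  · exact (data.checkRange_iff 2573 695).mp Cfsg.Agent.Lib.Helper28.TCF23NW1U0.chk4 v (by omega) (by omega)
  rcases Nat.lt_or_ge v 4018 with h5 | h5
  · exact (data.checkRange_iff 3268 750).mp Cfsg.Agent.Lib.Helper28.TCF23NW1U1.chk5 v (by omega) (by omega)
  rcases Nat.lt_or_ge v 4790 with h6 | h6
  · exact (data.checkRange_iff 4018 772).mp Cfsg.Agent.Lib.Helper28.TCF23NW1U1.chk6 v (by omega) (by omega)
  rcases Nat.lt_or_ge v 5490 with h7 | h7
  · exact (data.checkRange_iff 4790 700).mp Cfsg.Agent.Lib.Helper28.TCF23NW1U1.chk7 v (by omega) (by omega)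
  rcases Nat.lt_or_ge v 6303 with h8 | h8
  · exact (data.checkRange_iff 5490 813).mp Cfsg.Agent.Lib.Helper28.TCF23NW1U1.chk8 v (by omega) (by omega)
  rcases Nat.lt_or_ge v 7070 with h9 | h9
  · exact (data.checkRange_iff 6303 767).mp Cfsg.Agent.Lib.Helper28.TCF23NW1U1.chk9 v (by omega) (by omega)
  rcases Nat.lt_or_ge v 7786 with h10 | h10
  · exact (data.checkRange_iff 7070 716).mp Cfsg.Agent.Lib.Helper28.TCF23NW1U2.chk10 v (by omega) (by omega)
  rcases Nat.lt_or_ge v 8741 with h11 | h11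
  · exact (data.checkRange_iff 7786 955).mp Cfsg.Agent.Lib.Helper28.TCF23NW1U2.chk11 v (by omega) (by omega)
  rcases Nat.lt_or_ge v 9424 with h12 | h12
  · exact (data.checkRange_iff 8741 683).mp Cfsg.Agent.Lib.Helper28.TCF23NW1U2.chk12 v (by omega) (by omega)
  rcases Nat.lt_or_ge v 10133 with h13 | h13
  · exact (data.checkRange_iff 9424 709).mp Cfsg.Agent.Lib.Helper28.TCF23NW1U2.chk13 v (by omega) (by omega)
  rcases Nat.lt_or_ge v 11185 with h14 | h14
  · exact (data.checkRange_iff 10133 1052).mp Cfsg.Agent.Lib.Helper28.TCF23NW1U2.chk14 v (by omega) (by omega)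
  rcases Nat.lt_or_ge v 11890 with h15 | h15
  · exact (data.checkRange_iff 11185 705).mp Cfsg.Agent.Lib.Helper28.TCF23NW1U3.chk15 v (by omega) (by omega)
  rcases Nat.lt_or_ge v 12626 with h16 | h16
  · exact (data.checkRange_iff 11890 736).mp Cfsg.Agent.Lib.Helper28.TCF23NW1U3.chk16 v (by omega) (by omega)
  rcases Nat.lt_or_ge v 13383 with h17 | h17
  · exact (data.checkRange_iff 12626 757).mp Cfsg.Agent.Lib.Helper28.TCF23NW1U3.chk17 v (by omega) (by omega)
  rcases Nat.lt_or_ge v 14447 with h18 | h18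
  · exact (data.checkRange_iff 13383 1064).mp Cfsg.Agent.Lib.Helper28.TCF23NW1U3.chk18 v (by omega) (by omega)
  rcases Nat.lt_or_ge v 15257 with h19 | h19
  · exact (data.checkRange_iff 14447 810).mp Cfsg.Agent.Lib.Helper28.TCF23NW1U3.chk19 v (by omega) (by omega)
  rcases Nat.lt_or_ge v 16023 with h20 | h20
  · exact (data.checkRange_iff 15257 766).mp Cfsg.Agent.Lib.Helper28.TCF23NW1U4.chk20 v (by omega) (by omega)
  rcases Nat.lt_or_ge v 16756 with h21 | h21
  · exact (data.checkRange_iff 16023 733).mp Cfsg.Agent.Lib.Helper28.TCF23NW1U4.chk21 v (by omega) (by omega)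
  rcases Nat.lt_or_ge v 17537 with h22 | h22
  · exact (data.checkRange_iff 16756 781).mp Cfsg.Agent.Lib.Helper28.TCF23NW1U4.chk22 v (by omega) (by omega)
  rcases Nat.lt_or_ge v 18631 with h23 | h23
  · exact (data.checkRange_iff 17537 1094).mp Cfsg.Agent.Lib.Helper28.TCF23NW1U4.chk23 v (by omega) (by omega)
  rcases Nat.lt_or_ge v 19582 with h24 | h24
  · exact (data.checkRange_iff 18631 951).mp Cfsg.Agent.Lib.Helper28.TCF23NW1U4.chk24 v (by omega) (by omega)
  rcases Nat.lt_or_ge v 20267 with h25 | h25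
  · exact (data.checkRange_iff 19582 685).mp Cfsg.Agent.Lib.Helper28.TCF23NW1U5.chk25 v (by omega) (by omega)
  rcases Nat.lt_or_ge v 21094 with h26 | h26
  · exact (data.checkRange_iff 20267 827).mp Cfsg.Agent.Lib.Helper28.TCF23NW1U5.chk26 v (by omega) (by omega)
  rcases Nat.lt_or_ge v 21852 with h27 | h27
  · exact (data.checkRange_iff 21094 758).mp Cfsg.Agent.Lib.Helper28.TCF23NW1U5.chk27 v (by omega) (by omega)
  rcases Nat.lt_or_ge v 22631 with h28 | h28
  · exact (data.checkRange_iff 21852 779).mp Cfsg.Agent.Lib.Helper28.TCF23NW1U5.chk28 v (by omega) (by omega)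
  rcases Nat.lt_or_ge v 23766 with h29 | h29
  · exact (data.checkRange_iff 22631 1135).mp Cfsg.Agent.Lib.Helper28.TCF23NW1U5.chk29 v (by omega) (by omega)
  rcases Nat.lt_or_ge v 24853 with h30 | h30
  · exact (data.checkRange_iff 23766 1087).mp Cfsg.Agent.Lib.Helper28.TCF23NW1U6.chk30 v (by omega) (by omega)
  rcases Nat.lt_or_ge v 25528 with h31 | h31
  · exact (data.checkRange_iff 24853 675).mp Cfsg.Agent.Lib.Helper28.TCF23NW1U6.chk31 v (by omega) (by omega)
  rcases Nat.lt_or_ge v 26321 with h32 | h32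
  · exact (data.checkRange_iff 25528 793).mp Cfsg.Agent.Lib.Helper28.TCF23NW1U6.chk32 v (by omega) (by omega)
  rcases Nat.lt_or_ge v 27202 with h33 | h33
  · exact (data.checkRange_iff 26321 881).mp Cfsg.Agent.Lib.Helper28.TCF23NW1U6.chk33 v (by omega) (by omega)
  rcases Nat.lt_or_ge v 27992 with h34 | h34
  · exact (data.checkRange_iff 27202 790).mp Cfsg.Agent.Lib.Helper28.TCF23NW1U6.chk34 v (by omega) (by omega)
  rcases Nat.lt_or_ge v 28829 with h35 | h35
  · exact (data.checkRange_iff 27992 837).mp Cfsg.Agent.Lib.Helper28.TCF23NW1U7.chk35 v (by omega) (by omega)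
  rcases Nat.lt_or_ge v 29989 with h36 | h36
  · exact (data.checkRange_iff 28829 1160).mp Cfsg.Agent.Lib.Helper28.TCF23NW1U7.chk36 v (by omega) (by omega)
  rcases Nat.lt_or_ge v 31182 with h37 | h37
  · exact (data.checkRange_iff 29989 1193).mp Cfsg.Agent.Lib.Helper28.TCF23NW1U7.chk37 v (by omega) (by omega)
  rcases Nat.lt_or_ge v 31960 with h38 | h38
  · exact (data.checkRange_iff 31182 778).mp Cfsg.Agent.Lib.Helper28.TCF23NW1U7.chk38 v (by omega) (by omega)
  rcases Nat.lt_or_ge v 32728 with h39 | h39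
  · exact (data.checkRange_iff 31960 768).mp Cfsg.Agent.Lib.Helper28.TCF23NW1U7.chk39 v (by omega) (by omega)
  rcases Nat.lt_or_ge v 33578 with h40 | h40
  · exact (data.checkRange_iff 32728 850).mp Cfsg.Agent.Lib.Helper28.TCF23NW1U8.chk40 v (by omega) (by omega)
  rcases Nat.lt_or_ge v 34452 with h41 | h41
  · exact (data.checkRange_iff 33578 874).mp Cfsg.Agent.Lib.Helper28.TCF23NW1U8.chk41 v (by omega) (by omega)
  rcases Nat.lt_or_ge v 35266 with h42 | h42
  · exact (data.checkRange_iff 34452 814).mp Cfsg.Agent.Lib.Helper28.TCF23NW1U8.chk42 v (by omega) (by omega)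
  rcases Nat.lt_or_ge v 36203 with h43 | h43
  · exact (data.checkRange_iff 35266 937).mp Cfsg.Agent.Lib.Helper28.TCF23NW1U8.chk43 v (by omega) (by omega)
  rcases Nat.lt_or_ge v 37407 with h44 | h44
  · exact (data.checkRange_iff 36203 1204).mp Cfsg.Agent.Lib.Helper28.TCF23NW1U8.chk44 v (by omega) (by omega)
  rcases Nat.lt_or_ge v 38509 with h45 | h45
  · exact (data.checkRange_iff 37407 1102).mp Cfsg.Agent.Lib.Helper28.TCF23NW1U9.chk45 v (by omega) (by omega)
  rcases Nat.lt_or_ge v 39289 with h46 | h46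
  · exact (data.checkRange_iff 38509 780).mp Cfsg.Agent.Lib.Helper28.TCF23NW1U9.chk46 v (by omega) (by omega)
  rcases Nat.lt_or_ge v 40044 with h47 | h47
  · exact (data.checkRange_iff 39289 755).mp Cfsg.Agent.Lib.Helper28.TCF23NW1U9.chk47 v (by omega) (by omega)
  rcases Nat.lt_or_ge v 40973 with h48 | h48
  · exact (data.checkRange_iff 40044 929).mp Cfsg.Agent.Lib.Helper28.TCF23NW1U9.chk48 v (by omega) (by omega)
  rcases Nat.lt_or_ge v 41897 with h49 | h49
  · exact (data.checkRange_iff 40973 924).mp Cfsg.Agent.Lib.Helper28.TCF23NW1U9.chk49 v (by omega) (by omega)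
  rcases Nat.lt_or_ge v 42739 with h50 | h50
  · exact (data.checkRange_iff 41897 842).mp Cfsg.Agent.Lib.Helper28.TCF23NW1U10.chk50 v (by omega) (by omega)
  rcases Nat.lt_or_ge v 43708 with h51 | h51
  · exact (data.checkRange_iff 42739 969).mp Cfsg.Agent.Lib.Helper28.TCF23NW1U10.chk51 v (by omega) (by omega)
  rcases Nat.lt_or_ge v 44858 with h52 | h52
  · exact (data.checkRange_iff 43708 1150).mp Cfsg.Agent.Lib.Helper28.TCF23NW1U10.chk52 v (by omega) (by omega)
  rcases Nat.lt_or_ge v 46091 with h53 | h53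
  · exact (data.checkRange_iff 44858 1233).mp Cfsg.Agent.Lib.Helper28.TCF23NW1U10.chk53 v (by omega) (by omega)
  rcases Nat.lt_or_ge v 46917 with h54 | h54
  · exact (data.checkRange_iff 46091 826).mp Cfsg.Agent.Lib.Helper28.TCF23NW1U10.chk54 v (by omega) (by omega)
  rcases Nat.lt_or_ge v 47719 with h55 | h55
  · exact (data.checkRange_iff 46917 802).mp Cfsg.Agent.Lib.Helper28.TCF23NW1U11.chk55 v (by omega) (by omega)
  rcases Nat.lt_or_ge v 48566 with h56 | h56
  · exact (data.checkRange_iff 47719 847).mp Cfsg.Agent.Lib.Helper28.TCF23NW1U11.chk56 v (by omega) (by omega)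
  rcases Nat.lt_or_ge v 49576 with h57 | h57
  · exact (data.checkRange_iff 48566 1010).mp Cfsg.Agent.Lib.Helper28.TCF23NW1U11.chk57 v (by omega) (by omega)
  rcases Nat.lt_or_ge v 50479 with h58 | h58
  · exact (data.checkRange_iff 49576 903).mp Cfsg.Agent.Lib.Helper28.TCF23NW1U11.chk58 v (by omega) (by omega)
  rcases Nat.lt_or_ge v 51372 with h59 | h59
  · exact (data.checkRange_iff 50479 893).mp Cfsg.Agent.Lib.Helper28.TCF23NW1U11.chk59 v (by omega) (by omega)
  rcases Nat.lt_or_ge v 52442 with h60 | h60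
  · exact (data.checkRange_iff 51372 1070).mp Cfsg.Agent.Lib.Helper28.TCF23NW1U12.chk60 v (by omega) (by omega)
  rcases Nat.lt_or_ge v 53618 with h61 | h61
  · exact (data.checkRange_iff 52442 1176).mp Cfsg.Agent.Lib.Helper28.TCF23NW1U12.chk61 v (by omega) (by omega)
  rcases Nat.lt_or_ge v 54841 with h62 | h62
  · exact (data.checkRange_iff 53618 1223).mp Cfsg.Agent.Lib.Helper28.TCF23NW1U12.chk62 v (by omega) (by omega)
  rcases Nat.lt_or_ge v 55798 with h63 | h63
  · exact (data.checkRange_iff 54841 957).mp Cfsg.Agent.Lib.Helper28.TCF23NW1U12.chk63 v (by omega) (by omega)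
  rcases Nat.lt_or_ge v 56634 with h64 | h64
  · exact (data.checkRange_iff 55798 836).mp Cfsg.Agent.Lib.Helper28.TCF23NW1U12.chk64 v (by omega) (by omega)
  rcases Nat.lt_or_ge v 57487 with h65 | h65
  · exact (data.checkRange_iff 56634 853).mp Cfsg.Agent.Lib.Helper28.TCF23NW1U13.chk65 v (by omega) (by omega)
  rcases Nat.lt_or_ge v 58483 with h66 | h66
  · exact (data.checkRange_iff 57487 996).mp Cfsg.Agent.Lib.Helper28.TCF23NW1U13.chk66 v (by omega) (by omega)
  rcases Nat.lt_or_ge v 59500 with h67 | h67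
  · exact (data.checkRange_iff 58483 1017).mp Cfsg.Agent.Lib.Helper28.TCF23NW1U13.chk67 v (by omega) (by omega)
  rcases Nat.lt_or_ge v 60372 with h68 | h68
  · exact (data.checkRange_iff 59500 872).mp Cfsg.Agent.Lib.Helper28.TCF23NW1U13.chk68 v (by omega) (by omega)
  rcases Nat.lt_or_ge v 61303 with h69 | h69
  · exact (data.checkRange_iff 60372 931).mp Cfsg.Agent.Lib.Helper28.TCF23NW1U13.chk69 v (by omega) (by omega)
  rcases Nat.lt_or_ge v 62457 with h70 | h70
  · exact (data.checkRange_iff 61303 1154).mp Cfsg.Agent.Lib.Helper28.TCF23NW1U14.chk70 v (by omega) (by omega)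
  rcases Nat.lt_or_ge v 63578 with h71 | h71
  · exact (data.checkRange_iff 62457 1121).mp Cfsg.Agent.Lib.Helper28.TCF23NW1U14.chk71 v (by omega) (by omega)
  rcases Nat.lt_or_ge v 64780 with h72 | h72
  · exact (data.checkRange_iff 63578 1202).mp Cfsg.Agent.Lib.Helper28.TCF23NW1U14.chk72 v (by omega) (by omega)
  rcases Nat.lt_or_ge v 65829 with h73 | h73
  · exact (data.checkRange_iff 64780 1049).mp Cfsg.Agent.Lib.Helper28.TCF23NW1U14.chk73 v (by omega) (by omega)
  rcases Nat.lt_or_ge v 66735 with h74 | h74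
  · exact (data.checkRange_iff 65829 906).mp Cfsg.Agent.Lib.Helper28.TCF23NW1U14.chk74 v (by omega) (by omega)
  rcases Nat.lt_or_ge v 67613 with h75 | h75
  · exact (data.checkRange_iff 66735 878).mp Cfsg.Agent.Lib.Helper28.TCF23NW1U15.chk75 v (by omega) (by omega)
  rcases Nat.lt_or_ge v 68466 with h76 | h76
  · exact (data.checkRange_iff 67613 853).mp Cfsg.Agent.Lib.Helper28.TCF23NW1U15.chk76 v (by omega) (by omega)
  rcases Nat.lt_or_ge v 69556 with h77 | h77
  · exact (data.checkRange_iff 68466 1090).mp Cfsg.Agent.Lib.Helper28.TCF23NW1U15.chk77 v (by omega) (by omega)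
  rcases Nat.lt_or_ge v 70610 with h78 | h78
  · exact (data.checkRange_iff 69556 1054).mp Cfsg.Agent.Lib.Helper28.TCF23NW1U15.chk78 v (by omega) (by omega)
  rcases Nat.lt_or_ge v 71496 with h79 | h79
  · exact (data.checkRange_iff 70610 886).mp Cfsg.Agent.Lib.Helper28.TCF23NW1U15.chk79 v (by omega) (by omega)
  rcases Nat.lt_or_ge v 72448 with h80 | h80
  · exact (data.checkRange_iff 71496 952).mp Cfsg.Agent.Lib.Helper28.TCF23NW1U16.chk80 v (by omega) (by omega)
  rcases Nat.lt_or_ge v 73650 with h81 | h81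
  · exact (data.checkRange_iff 72448 1202).mp Cfsg.Agent.Lib.Helper28.TCF23NW1U16.chk81 v (by omega) (by omega)
  rcases Nat.lt_or_ge v 74792 with h82 | h82
  · exact (data.checkRange_iff 73650 1142).mp Cfsg.Agent.Lib.Helper28.TCF23NW1U16.chk82 v (by omega) (by omega)
  rcases Nat.lt_or_ge v 75952 with h83 | h83
  · exact (data.checkRange_iff 74792 1160).mp Cfsg.Agent.Lib.Helper28.TCF23NW1U16.chk83 v (by omega) (by omega)
  rcases Nat.lt_or_ge v 77151 with h84 | h84
  · exact (data.checkRange_iff 75952 1199).mp Cfsg.Agent.Lib.Helper28.TCF23NW1U16.chk84 v (by omega) (by omega)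
  rcases Nat.lt_or_ge v 78130 with h85 | h85
  · exact (data.checkRange_iff 77151 979).mp Cfsg.Agent.Lib.Helper28.TCF23NW1U17.chk85 v (by omega) (by omega)
  rcases Nat.lt_or_ge v 79057 with h86 | h86
  · exact (data.checkRange_iff 78130 927).mp Cfsg.Agent.Lib.Helper28.TCF23NW1U17.chk86 v (by omega) (by omega)
  rcases Nat.lt_or_ge v 79953 with h87 | h87
  · exact (data.checkRange_iff 79057 896).mp Cfsg.Agent.Lib.Helper28.TCF23NW1U17.chk87 v (by omega) (by omega)
  rcases Nat.lt_or_ge v 80846 with h88 | h88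
  · exact (data.checkRange_iff 79953 893).mp Cfsg.Agent.Lib.Helper28.TCF23NW1U17.chk88 v (by omega) (by omega)
  rcases Nat.lt_or_ge v 81944 with h89 | h89
  · exact (data.checkRange_iff 80846 1098).mp Cfsg.Agent.Lib.Helper28.TCF23NW1U17.chk89 v (by omega) (by omega)
  rcases Nat.lt_or_ge v 83013 with h90 | h90
  · exact (data.checkRange_iff 81944 1069).mp Cfsg.Agent.Lib.Helper28.TCF23NW1U18.chk90 v (by omega) (by omega)
  rcases Nat.lt_or_ge v 83937 with h91 | h91
  · exact (data.checkRange_iff 83013 924).mp Cfsg.Agent.Lib.Helper28.TCF23NW1U18.chk91 v (by omega) (by omega)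
  rcases Nat.lt_or_ge v 84932 with h92 | h92
  · exact (data.checkRange_iff 83937 995).mp Cfsg.Agent.Lib.Helper28.TCF23NW1U18.chk92 v (by omega) (by omega)
  rcases Nat.lt_or_ge v 86048 with h93 | h93
  · exact (data.checkRange_iff 84932 1116).mp Cfsg.Agent.Lib.Helper28.TCF23NW1U18.chk93 v (by omega) (by omega)
  rcases Nat.lt_or_ge v 87175 with h94 | h94
  · exact (data.checkRange_iff 86048 1127).mp Cfsg.Agent.Lib.Helper28.TCF23NW1U18.chk94 v (by omega) (by omega)
  rcases Nat.lt_or_ge v 88222 with h95 | h95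
  · exact (data.checkRange_iff 87175 1047).mp Cfsg.Agent.Lib.Helper28.TCF23NW1U19.chk95 v (by omega) (by omega)
  rcases Nat.lt_or_ge v 89413 with h96 | h96
  · exact (data.checkRange_iff 88222 1191).mp Cfsg.Agent.Lib.Helper28.TCF23NW1U19.chk96 v (by omega) (by omega)
  rcases Nat.lt_or_ge v 90541 with h97 | h97
  · exact (data.checkRange_iff 89413 1128).mp Cfsg.Agent.Lib.Helper28.TCF23NW1U19.chk97 v (by omega) (by omega)
  rcases Nat.lt_or_ge v 91502 with h98 | h98
  · exact (data.checkRange_iff 90541 961).mp Cfsg.Agent.Lib.Helper28.TCF23NW1U19.chk98 v (by omega) (by omega)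
  rcases Nat.lt_or_ge v 92480 with h99 | h99
  · exact (data.checkRange_iff 91502 978).mp Cfsg.Agent.Lib.Helper28.TCF23NW1U19.chk99 v (by omega) (by omega)
  rcases Nat.lt_or_ge v 93407 with h100 | h100
  · exact (data.checkRange_iff 92480 927).mp Cfsg.Agent.Lib.Helper28.TCF23NW1U20.chk100 v (by omega) (by omega)
  rcases Nat.lt_or_ge v 94289 with h101 | h101
  · exact (data.checkRange_iff 93407 882).mp Cfsg.Agent.Lib.Helper28.TCF23NW1U20.chk101 v (by omega) (by omega)
  rcases Nat.lt_or_ge v 95422 with h102 | h102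
  · exact (data.checkRange_iff 94289 1133).mp Cfsg.Agent.Lib.Helper28.TCF23NW1U20.chk102 v (by omega) (by omega)
  rcases Nat.lt_or_ge v 96453 with h103 | h103
  · exact (data.checkRange_iff 95422 1031).mp Cfsg.Agent.Lib.Helper28.TCF23NW1U20.chk103 v (by omega) (by omega)
  rcases Nat.lt_or_ge v 97529 with h104 | h104
  · exact (data.checkRange_iff 96453 1076).mp Cfsg.Agent.Lib.Helper28.TCF23NW1U20.chk104 v (by omega) (by omega)
  rcases Nat.lt_or_ge v 98497 with h105 | h105
  · exact (data.checkRange_iff 97529 968).mp Cfsg.Agent.Lib.Helper28.TCF23NW1U21.chk105 v (by omega) (by omega)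
  rcases Nat.lt_or_ge v 99505 with h106 | h106
  · exact (data.checkRange_iff 98497 1008).mp Cfsg.Agent.Lib.Helper28.TCF23NW1U21.chk106 v (by omega) (by omega)
  rcases Nat.lt_or_ge v 100688 with h107 | h107
  · exact (data.checkRange_iff 99505 1183).mp Cfsg.Agent.Lib.Helper28.TCF23NW1U21.chk107 v (by omega) (by omega)
  rcases Nat.lt_or_ge v 101820 with h108 | h108
  · exact (data.checkRange_iff 100688 1132).mp Cfsg.Agent.Lib.Helper28.TCF23NW1U21.chk108 v (by omega) (by omega)
  rcases Nat.lt_or_ge v 102963 with h109 | h109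
  · exact (data.checkRange_iff 101820 1143).mp Cfsg.Agent.Lib.Helper28.TCF23NW1U21.chk109 v (by omega) (by omega)
  rcases Nat.lt_or_ge v 104209 with h110 | h110
  · exact (data.checkRange_iff 102963 1246).mp Cfsg.Agent.Lib.Helper28.TCF23NW1U22.chk110 v (by omega) (by omega)
  rcases Nat.lt_or_ge v 105316 with h111 | h111
  · exact (data.checkRange_iff 104209 1107).mp Cfsg.Agent.Lib.Helper28.TCF23NW1U22.chk111 v (by omega) (by omega)
  rcases Nat.lt_or_ge v 106271 with h112 | h112
  · exact (data.checkRange_iff 105316 955).mp Cfsg.Agent.Lib.Helper28.TCF23NW1U22.chk112 v (by omega) (by omega)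
  rcases Nat.lt_or_ge v 107272 with h113 | h113
  · exact (data.checkRange_iff 106271 1001).mp Cfsg.Agent.Lib.Helper28.TCF23NW1U22.chk113 v (by omega) (by omega)
  rcases Nat.lt_or_ge v 108240 with h114 | h114
  · exact (data.checkRange_iff 107272 968).mp Cfsg.Agent.Lib.Helper28.TCF23NW1U22.chk114 v (by omega) (by omega)
  rcases Nat.lt_or_ge v 109149 with h115 | h115
  · exact (data.checkRange_iff 108240 909).mp Cfsg.Agent.Lib.Helper28.TCF23NW1U23.chk115 v (by omega) (by omega)
  rcases Nat.lt_or_ge v 110347 with h116 | h116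
  · exact (data.checkRange_iff 109149 1198).mp Cfsg.Agent.Lib.Helper28.TCF23NW1U23.chk116 v (by omega) (by omega)
  rcases Nat.lt_or_ge v 111504 with h117 | h117
  · exact (data.checkRange_iff 110347 1157).mp Cfsg.Agent.Lib.Helper28.TCF23NW1U23.chk117 v (by omega) (by omega)
  rcases Nat.lt_or_ge v 112629 with h118 | h118
  · exact (data.checkRange_iff 111504 1125).mp Cfsg.Agent.Lib.Helper28.TCF23NW1U23.chk118 v (by omega) (by omega)
  rcases Nat.lt_or_ge v 113691 with h119 | h119
  · exact (data.checkRange_iff 112629 1062).mp Cfsg.Agent.Lib.Helper28.TCF23NW1U23.chk119 v (by omega) (by omega)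
  rcases Nat.lt_or_ge v 114839 with h120 | h120
  · exact (data.checkRange_iff 113691 1148).mp Cfsg.Agent.Lib.Helper28.TCF23NW1U24.chk120 v (by omega) (by omega)
  rcases Nat.lt_or_ge v 116048 with h121 | h121
  · exact (data.checkRange_iff 114839 1209).mp Cfsg.Agent.Lib.Helper28.TCF23NW1U24.chk121 v (by omega) (by omega)
  rcases Nat.lt_or_ge v 117187 with h122 | h122
  · exact (data.checkRange_iff 116048 1139).mp Cfsg.Agent.Lib.Helper28.TCF23NW1U24.chk122 v (by omega) (by omega)
  rcases Nat.lt_or_ge v 118439 with h123 | h123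
  · exact (data.checkRange_iff 117187 1252).mp Cfsg.Agent.Lib.Helper28.TCF23NW1U24.chk123 v (by omega) (by omega)
  rcases Nat.lt_or_ge v 119661 with h124 | h124
  · exact (data.checkRange_iff 118439 1222).mp Cfsg.Agent.Lib.Helper28.TCF23NW1U24.chk124 v (by omega) (by omega)
  rcases Nat.lt_or_ge v 120700 with h125 | h125
  · exact (data.checkRange_iff 119661 1039).mp Cfsg.Agent.Lib.Helper28.TCF23NW1U25.chk125 v (by omega) (by omega)
  rcases Nat.lt_or_ge v 121779 with h126 | h126
  · exact (data.checkRange_iff 120700 1079).mp Cfsg.Agent.Lib.Helper28.TCF23NW1U25.chk126 v (by omega) (by omega)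
  rcases Nat.lt_or_ge v 122801 with h127 | h127
  · exact (data.checkRange_iff 121779 1022).mp Cfsg.Agent.Lib.Helper28.TCF23NW1U25.chk127 v (by omega) (by omega)
  rcases Nat.lt_or_ge v 123792 with h128 | h128
  · exact (data.checkRange_iff 122801 991).mp Cfsg.Agent.Lib.Helper28.TCF23NW1U25.chk128 v (by omega) (by omega)
  rcases Nat.lt_or_ge v 125281 with h129 | h129
  · exact (data.checkRange_iff 123792 1489).mp Cfsg.Agent.Lib.Helper28.TCF23NW1U25.chk129 v (by omega) (by omega)
  rcases Nat.lt_or_ge v 126624 with h130 | h130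
  · exact (data.checkRange_iff 125281 1343).mp Cfsg.Agent.Lib.Helper28.TCF23NW1U26.chk130 v (by omega) (by omega)
  rcases Nat.lt_or_ge v 127943 with h131 | h131
  · exact (data.checkRange_iff 126624 1319).mp Cfsg.Agent.Lib.Helper28.TCF23NW1U26.chk131 v (by omega) (by omega)
  rcases Nat.lt_or_ge v 129484 with h132 | h132
  · exact (data.checkRange_iff 127943 1541).mp Cfsg.Agent.Lib.Helper28.TCF23NW1U26.chk132 v (by omega) (by omega)
  rcases Nat.lt_or_ge v 131011 with h133 | h133
  · exact (data.checkRange_iff 129484 1527).mp Cfsg.Agent.Lib.Helper28.TCF23NW1U26.chk133 v (by omega) (by omega)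
  rcases Nat.lt_or_ge v 132273 with h134 | h134
  · exact (data.checkRange_iff 131011 1262).mp Cfsg.Agent.Lib.Helper28.TCF23NW1U26.chk134 v (by omega) (by omega)
  rcases Nat.lt_or_ge v 133479 with h135 | h135
  · exact (data.checkRange_iff 132273 1206).mp Cfsg.Agent.Lib.Helper28.TCF23NW1U27.chk135 v (by omega) (by omega)
  rcases Nat.lt_or_ge v 134352 with h136 | h136
  · exact (data.checkRange_iff 133479 873).mp Cfsg.Agent.Lib.Helper28.TCF23NW1U27.chk136 v (by omega) (by omega)
  rcases Nat.lt_or_ge v 134952 with h137 | h137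
  · exact (data.checkRange_iff 134352 600).mp Cfsg.Agent.Lib.Helper28.TCF23NW1U27.chk137 v (by omega) (by omega)
  exact (data.checkRange_iff 134952 600).mp Cfsg.Agent.Lib.Helper28.TCF23NW1U27.chk138 v (by omega) (by omega)

theorem hrows : ∀ v, v < data.N → Data.rowOK data v = true := by
  intro v hv
  have hv' : v < 135552 := hv
  rcases Nat.lt_or_ge v 9259 with h0 | h0
  · exact (Data.finalRange_iff data 0 9259).mp Cfsg.Agent.Lib.Helper28.TCF23NW1M0.fin0 v (by omega) (by omega)
  rcases Nat.lt_or_ge v 18518 with h1 | h1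
  · exact (Data.finalRange_iff data 9259 9259).mp Cfsg.Agent.Lib.Helper28.TCF23NW1M0.fin1 v (by omega) (by omega)
  rcases Nat.lt_or_ge v 27777 with h2 | h2
  · exact (Data.finalRange_iff data 18518 9259).mp Cfsg.Agent.Lib.Helper28.TCF23NW1M0.fin2 v (by omega) (by omega)
  rcases Nat.lt_or_ge v 37036 with h3 | h3
  · exact (Data.finalRange_iff data 27777 9259).mp Cfsg.Agent.Lib.Helper28.TCF23NW1M0.fin3 v (by omega) (by omega)
  rcases Nat.lt_or_ge v 46295 with h4 | h4
  · exact (Data.finalRange_iff data 37036 9259).mp Cfsg.Agent.Lib.Helper28.TCF23NW1M0.fin4 v (by omega) (by omega)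
  rcases Nat.lt_or_ge v 55554 with h5 | h5
  · exact (Data.finalRange_iff data 46295 9259).mp Cfsg.Agent.Lib.Helper28.TCF23NW1M1.fin5 v (by omega) (by omega)
  rcases Nat.lt_or_ge v 64813 with h6 | h6
  · exact (Data.finalRange_iff data 55554 9259).mp Cfsg.Agent.Lib.Helper28.TCF23NW1M1.fin6 v (by omega) (by omega)
  rcases Nat.lt_or_ge v 74072 with h7 | h7
  · exact (Data.finalRange_iff data 64813 9259).mp Cfsg.Agent.Lib.Helper28.TCF23NW1M1.fin7 v (by omega) (by omega)
  rcases Nat.lt_or_ge v 83331 with h8 | h8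
  · exact (Data.finalRange_iff data 74072 9259).mp Cfsg.Agent.Lib.Helper28.TCF23NW1M1.fin8 v (by omega) (by omega)
  rcases Nat.lt_or_ge v 92590 with h9 | h9
  · exact (Data.finalRange_iff data 83331 9259).mp Cfsg.Agent.Lib.Helper28.TCF23NW1M1.fin9 v (by omega) (by omega)
  rcases Nat.lt_or_ge v 101849 with h10 | h10
  · exact (Data.finalRange_iff data 92590 9259).mp Cfsg.Agent.Lib.Helper28.TCF23NW1M2.fin10 v (by omega) (by omega)
  rcases Nat.lt_or_ge v 111108 with h11 | h11
  · exact (Data.finalRange_iff data 101849 9259).mp Cfsg.Agent.Lib.Helper28.TCF23NW1M2.fin11 v (by omega) (by omega)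
  rcases Nat.lt_or_ge v 120367 with h12 | h12
  · exact (Data.finalRange_iff data 111108 9259).mp Cfsg.Agent.Lib.Helper28.TCF23NW1M2.fin12 v (by omega) (by omega)
  rcases Nat.lt_or_ge v 129626 with h13 | h13
  · exact (Data.finalRange_iff data 120367 9259).mp Cfsg.Agent.Lib.Helper28.TCF23NW1M2.fin13 v (by omega) (by omega)
  exact (Data.finalRange_iff data 129626 5926).mp Cfsg.Agent.Lib.Helper28.TCF23NW1M2.fin14 v (by omega) (by omega)

theorem hfin : data.finalOK = true := Data.finalOK_of_rows data Cfsg.Agent.Lib.Helper28.TCF23NW1M3.hlive0 (by decide) hrows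

theorem pc0 : Data.countFrom data 0 40000 = 16609 := Cfsg.Agent.Lib.Helper28.TCF23NW1M3.cnt0
theorem pc1 : Data.countFrom data 0 80000 = 22127 := Data.countFrom_step data pc0 Cfsg.Agent.Lib.Helper28.TCF23NW1M3.cnt1 (by norm_num) (by norm_num)
theorem pc2 : Data.countFrom data 0 120000 = 25246 := Data.countFrom_step data pc1 Cfsg.Agent.Lib.Helper28.TCF23NW1M3.cnt2 (by norm_num) (by norm_num)
theorem pc3 : Data.countFrom data 0 135552 = 28160 := Data.countFrom_step data pc2 Cfsg.Agent.Lib.Helper28.TCF23NW1M3.cnt3 (by norm_num) (by norm_num)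

theorem hcount : data.countLive = 28160 := by
  rw [Data.countLive_eq]
  exact pc3

/-- the upper bound for the index -/
theorem mainU : Finite (PresentedGroup rels ⧸ (Subgroup.closure S).map (PresentedGroup.mk rels)) ∧
    Nat.card (PresentedGroup rels ⧸ (Subgroup.closure S).map (PresentedGroup.mk rels)) ≤ 28160 := by
  have h := upper link hchk hfin
  rw [hcount] at h
  exact h

end Cfsg.Agent.Lib.Helper28.TCF23NW1Main
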