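import Cfsg.Agent.Lib.Helper28.TC2Upper
import Cfsg.Agent.Lib.Helper28.TCF23NW2DataC0
set_option autoImplicit false
set_option maxRecDepth 100000

namespace Cfsg.Agent.Lib.Helper28.TCF23NW2Data
open Cfsg.Agent.Lib.Helper28.TC2Upper

/-- relators -/
def relT : BT (ℕ × List ℕ × List ℕ) := (BT.node 32 (BT.node 16 (BT.node 8 (BT.node 4 (BT.node 2 (BT.node 1 (BT.node 0 (BT.leaf (2, [0, 0], [0, 0])) (BT.leaf (6, [1, 0, 1, 0, 1, 0], [0, 1, 0, 1, 0, 1]))) (BT.leaf (4, [2, 0, 2, 0], [0, 2, 0, 2]))) (BT.node 3 (BT.leaf (4, [3, 0, 3, 0], [0, 3, 0, 3])) (BT.leaf (4, [4, 0, 4, 0], [0, 4, 0, 4])))) (BT.node 6 (BT.node 5 (BT.leaf (4, [6, 0, 6, 0], [0, 6, 0, 6])) (BT.leaf (4, [5, 0, 5, 0], [0, 5, 0, 5]))) (BT.node 7 (BT.leaf (4, [7, 0, 7, 0], [0, 7, 0, 7])) (BT.leaf (6, [0, 1, 0, 1, 0, 1], [1, 0, 1, 0, 1, 0]))))) (BT.node 12 (BT.node 10 (BT.node 9 (BT.leaf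 (2, [1, 1], [1, 1])) (BT.leaf (6, [2, 1, 2, 1, 2, 1], [1, 2, 1, 2, 1, 2]))) (BT.node 11 (BT.leaf (4, [3, 1, 3, 1], [1, 3, 1, 3])) (BT.leaf (4, [4, 1, 4, 1], [1, 4, 1, 4])))) (BT.node 14 (BT.node 13 (BT.leaf (4, [6, 1, 6, 1], [1, 6, 1, 6])) (BT.leaf (4, [5, 1, 5, 1], [1, 5, 1, 5]))) (BT.node 15 (BT.leaf (4, [7, 1, 7, 1], [1, 7, 1, 7])) (BT.leaf (4, [0, 2, 0, 2], [2, 0, 2, 0])))))) (BT.node 24 (BT.node 20 (BT.node 18 (BT.node 17 (BT.leaf (6, [1, 2, 1, 2, 1, 2], [2, 1, 2, 1, 2, 1])) (BT.leaf (2, [2, 2], [2, 2]))) (BT.node 19 (BT.leaf (6, [3, 2, 3, 2, 3, 2], [2, 3, 2, 3, 2, 3])) (BT.leaf (4, [4, 2, 4, 2], [2, 4, 2, 4])))) (BT.node 22 (BT.node 21 (BT.leaf (4, [6, 2, 6, 2], [2, 6, 2, 6])) (BT.leaf (4, [5, 2, 5, 2], [2, 5, 2, 5]))) (BT.node 23 (BT.leaf (4, [7, 2, 7, 2], [2, 7, 2, 7])) (BT.leaf (4, [0, 3, 0, 3], [3, 0, 3, 0]))))) (BT.node 28 (BT.node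 26 (BT.node 25 (BT.leaf (4, [1, 3, 1, 3], [3, 1, 3, 1])) (BT.leaf (6, [2, 3, 2, 3, 2, 3], [3, 2, 3, 2, 3, 2]))) (BT.node 27 (BT.leaf (2, [3, 3], [3, 3])) (BT.leaf (6, [4, 3, 4, 3, 4, 3], [3, 4, 3, 4, 3, 4])))) (BT.node 30 (BT.node 29 (BT.leaf (6, [6, 3, 6, 3, 6, 3], [3, 6, 3, 6, 3, 6])) (BT.leaf (4, [5, 3, 5, 3], [3, 5, 3, 5]))) (BT.node 31 (BT.leaf (4, [7, 3, 7, 3], [3, 7, 3, 7])) (BT.leaf (4, [0, 4, 0, 4], [4, 0, 4, 0]))))))) (BT.node 48 (BT.node 40 (BT.node 36 (BT.node 34 (BT.node 33 (BT.leaf (4, [1, 4, 1, 4], [4, 1, 4, 1])) (BT.leaf (4, [2, 4, 2, 4], [4, 2, 4, 2]))) (BT.node 35 (BT.leaf (6, [3, 4, 3, 4, 3, 4], [4, 3, 4, 3, 4, 3])) (BT.leaf (2, [4, 4], [4, 4])))) (BT.node 38 (BT.node 37 (BT.leaf (4, [6, 4, 6, 4], [4, 6, 4, 6])) (BT.leaf (6, [5, 4, 5, 4, 5, 4], [4, 5, 4, 5, 4, 5]))) (BT.node 39 (BT.leaf (4, [7, 4, 7, 4], [4, 7, 4, 7]))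 (BT.leaf (4, [0, 6, 0, 6], [6, 0, 6, 0]))))) (BT.node 44 (BT.node 42 (BT.node 41 (BT.leaf (4, [1, 6, 1, 6], [6, 1, 6, 1])) (BT.leaf (4, [2, 6, 2, 6], [6, 2, 6, 2]))) (BT.node 43 (BT.leaf (6, [3, 6, 3, 6, 3, 6], [6, 3, 6, 3, 6, 3])) (BT.leaf (4, [4, 6, 4, 6], [6, 4, 6, 4])))) (BT.node 46 (BT.node 45 (BT.leaf (2, [6, 6], [6, 6])) (BT.leaf (4, [5, 6, 5, 6], [6, 5, 6, 5]))) (BT.node 47 (BT.leaf (6, [7, 6, 7, 6, 7, 6], [6, 7, 6, 7, 6, 7])) (BT.leaf (4, [0, 5, 0, 5], [5, 0, 5, 0])))))) (BT.node 56 (BT.node 52 (BT.node 50 (BT.node 49 (BT.leaf (4, [1, 5, 1, 5], [5, 1, 5, 1])) (BT.leaf (4, [2, 5, 2, 5], [5, 2, 5, 2]))) (BT.node 51 (BT.leaf (4, [3, 5, 3, 5], [5, 3, 5, 3])) (BT.leaf (6, [4, 5, 4, 5, 4, 5], [5, 4, 5, 4, 5, 4])))) (BT.node 54 (BT.node 53 (BT.leaf (4, [6, 5, 6, 5], [5, 6, 5, 6])) (BT.leaf (2, [5, 5], [5, 5]))) (BT.node 55 (BT.leaf (4,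 [7, 5, 7, 5], [5, 7, 5, 7])) (BT.leaf (4, [0, 7, 0, 7], [7, 0, 7, 0]))))) (BT.node 60 (BT.node 58 (BT.node 57 (BT.leaf (4, [1, 7, 1, 7], [7, 1, 7, 1])) (BT.leaf (4, [2, 7, 2, 7], [7, 2, 7, 2]))) (BT.node 59 (BT.leaf (4, [3, 7, 3, 7], [7, 3, 7, 3])) (BT.leaf (4, [4, 7, 4, 7], [7, 4, 7, 4])))) (BT.node 62 (BT.node 61 (BT.leaf (6, [6, 7, 6, 7, 6, 7], [7, 6, 7, 6, 7, 6])) (BT.leaf (4, [5, 7, 5, 7], [7, 5, 7, 5]))) (BT.node 63 (BT.leaf (2, [7, 7], [7, 7])) (BT.leaf (63, [6, 5, 4, 3, 2, 1, 0, 6, 5, 4, 3, 2, 1, 0, 6, 5, 4, 3, 2, 1, 0, 6, 5, 4, 3, 2, 1, 0, 6, 5, 4, 3, 2, 1, 0, 6, 5, 4, 3, 2, 1, 0, 6, 5, 4, 3, 2, 1, 0, 6, 5, 4, 3, 2, 1, 0, 6, 5, 4, 3, 2, 1, 0], [0, 1, 2, 3, 4, 5, 6, 0, 1, 2, 3, 4, 5, 6, 0, 1, 2, 3, 4, 5, 6, 0, 1, 2, 3, 4, 5, 6, 0, 1, 2, 3, 4, 5, 6, 0, 1, 2, 3, 4, 5, 6, 0, 1, 2, 3, 4, 5, 6, 0, 1, 2, 3, 4, 5, 6, 0, 1, 2, 3, 4, 5,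 6]))))))))
/-- subgroup generators -/
def subT : BT (ℕ × List ℕ × List ℕ) := (BT.node 3 (BT.node 1 (BT.node 0 (BT.leaf (1, [0], [0])) (BT.leaf (1, [1], [1]))) (BT.node 2 (BT.leaf (1, [2], [2])) (BT.leaf (1, [3], [3])))) (BT.node 5 (BT.node 4 (BT.leaf (1, [4], [4])) (BT.leaf (1, [5], [5]))) (BT.leaf (1, [6], [6]))))
/-- fact chunks -/
def colET : BT ℕ := (BT.node 161 (BT.node 80 (BT.node 40 (BT.node 20 (BT.node 10 (BT.node 5 (BT.node 2 (BT.node 1 (BT.node 0 (BT.leaf cE0) (BT.leaf cE1)) (BT.leaf cE2)) (BT.node 4 (BT.node 3 (BT.leaf cE3) (BT.leaf cE4)) (BT.leaf cE5))) (BT.node 8 (BT.node 7 (BT.node 6 (BT.leaf cE6) (BT.leaf cE7)) (BT.leaf cE8)) (BT.node 9 (BT.leaf cE9) (BT.leaf cE10)))) (BT.node 15 (BT.node 13 (BT.node 12 (BT.node 11 (BT.leaf cE11) (BT.leaf cE12)) (BT.leaf cE13)) (BT.node 14 (BT.leaf cE14) (BT.leaf cE15))) (BT.node 18 (BT.node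 17 (BT.node 16 (BT.leaf cE16) (BT.leaf cE17)) (BT.leaf cE18)) (BT.node 19 (BT.leaf cE19) (BT.leaf cE20))))) (BT.node 30 (BT.node 25 (BT.node 23 (BT.node 22 (BT.node 21 (BT.leaf cE21) (BT.leaf cE22)) (BT.leaf cE23)) (BT.node 24 (BT.leaf cE24) (BT.leaf cE25))) (BT.node 28 (BT.node 27 (BT.node 26 (BT.leaf cE26) (BT.leaf cE27)) (BT.leaf cE28)) (BT.node 29 (BT.leaf cE29) (BT.leaf cE30)))) (BT.node 35 (BT.node 33 (BT.node 32 (BT.node 31 (BT.leaf cE31) (BT.leaf cE32)) (BT.leaf cE33)) (BT.node 34 (BT.leaf cE34) (BT.leaf cE35))) (BT.node 38 (BT.node 37 (BT.node 36 (BT.leaf cE36) (BT.leaf cE37)) (BT.leaf cE38)) (BT.node 39 (BT.leaf cE39) (BT.leaf cE40)))))) (BT.node 60 (BT.node 50 (BT.node 45 (BT.node 43 (BT.node 42 (BT.node 41 (BT.leaf cE41) (BT.leaf cE42)) (BT.leaf cE43)) (BT.node 44 (BT.leaf cE44) (BT.leaf cE45))) (BT.node 48 (BT.node 47 (BT.node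 46 (BT.leaf cE46) (BT.leaf cE47)) (BT.leaf cE48)) (BT.node 49 (BT.leaf cE49) (BT.leaf cE50)))) (BT.node 55 (BT.node 53 (BT.node 52 (BT.node 51 (BT.leaf cE51) (BT.leaf cE52)) (BT.leaf cE53)) (BT.node 54 (BT.leaf cE54) (BT.leaf cE55))) (BT.node 58 (BT.node 57 (BT.node 56 (BT.leaf cE56) (BT.leaf cE57)) (BT.leaf cE58)) (BT.node 59 (BT.leaf cE59) (BT.leaf cE60))))) (BT.node 70 (BT.node 65 (BT.node 63 (BT.node 62 (BT.node 61 (BT.leaf cE61) (BT.leaf cE62)) (BT.leaf cE63)) (BT.node 64 (BT.leaf cE64) (BT.leaf cE65))) (BT.node 68 (BT.node 67 (BT.node 66 (BT.leaf cE66) (BT.leaf cE67)) (BT.leaf cE68)) (BT.node 69 (BT.leaf cE69) (BT.leaf cE70)))) (BT.node 75 (BT.node 73 (BT.node 72 (BT.node 71 (BT.leaf cE71) (BT.leaf cE72)) (BT.leaf cE73)) (BT.node 74 (BT.leaf cE74) (BT.leaf cE75))) (BT.node 78 (BT.node 77 (BT.node 76 (BT.leaf cE76) (BT.leaf cE77))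 (BT.leaf cE78)) (BT.node 79 (BT.leaf cE79) (BT.leaf cE80))))))) (BT.node 121 (BT.node 101 (BT.node 91 (BT.node 86 (BT.node 83 (BT.node 82 (BT.node 81 (BT.leaf cE81) (BT.leaf cE82)) (BT.leaf cE83)) (BT.node 85 (BT.node 84 (BT.leaf cE84) (BT.leaf cE85)) (BT.leaf cE86))) (BT.node 89 (BT.node 88 (BT.node 87 (BT.leaf cE87) (BT.leaf cE88)) (BT.leaf cE89)) (BT.node 90 (BT.leaf cE90) (BT.leaf cE91)))) (BT.node 96 (BT.node 94 (BT.node 93 (BT.node 92 (BT.leaf cE92) (BT.leaf cE93)) (BT.leaf cE94)) (BT.node 95 (BT.leaf cE95) (BT.leaf cE96))) (BT.node 99 (BT.node 98 (BT.node 97 (BT.leaf cE97) (BT.leaf cE98)) (BT.leaf cE99)) (BT.node 100 (BT.leaf cE100) (BT.leaf cE101))))) (BT.node 111 (BT.node 106 (BT.node 104 (BT.node 103 (BT.node 102 (BT.leaf cE102) (BT.leaf cE103)) (BT.leaf cE104)) (BT.node 105 (BT.leaf cE105) (BT.leaf cE106))) (BT.node 109 (BT.node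 108 (BT.node 107 (BT.leaf cE107) (BT.leaf cE108)) (BT.leaf cE109)) (BT.node 110 (BT.leaf cE110) (BT.leaf cE111)))) (BT.node 116 (BT.node 114 (BT.node 113 (BT.node 112 (BT.leaf cE112) (BT.leaf cE113)) (BT.leaf cE114)) (BT.node 115 (BT.leaf cE115) (BT.leaf cE116))) (BT.node 119 (BT.node 118 (BT.node 117 (BT.leaf cE117) (BT.leaf cE118)) (BT.leaf cE119)) (BT.node 120 (BT.leaf cE120) (BT.leaf cE121)))))) (BT.node 141 (BT.node 131 (BT.node 126 (BT.node 124 (BT.node 123 (BT.node 122 (BT.leaf cE122) (BT.leaf cE123)) (BT.leaf cE124)) (BT.node 125 (BT.leaf cE125) (BT.leaf cE126))) (BT.node 129 (BT.node 128 (BT.node 127 (BT.leaf cE127) (BT.leaf cE128)) (BT.leaf cE129)) (BT.node 130 (BT.leaf cE130) (BT.leaf cE131)))) (BT.node 136 (BT.node 134 (BT.node 133 (BT.node 132 (BT.leaf cE132) (BT.leaf cE133)) (BT.leaf cE134)) (BT.node 135 (BT.leaf cE135) (BT.leaf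 cE136))) (BT.node 139 (BT.node 138 (BT.node 137 (BT.leaf cE137) (BT.leaf cE138)) (BT.leaf cE139)) (BT.node 140 (BT.leaf cE140) (BT.leaf cE141))))) (BT.node 151 (BT.node 146 (BT.node 144 (BT.node 143 (BT.node 142 (BT.leaf cE142) (BT.leaf cE143)) (BT.leaf cE144)) (BT.node 145 (BT.leaf cE145) (BT.leaf cE146))) (BT.node 149 (BT.node 148 (BT.node 147 (BT.leaf cE147) (BT.leaf cE148)) (BT.leaf cE149)) (BT.node 150 (BT.leaf cE150) (BT.leaf cE151)))) (BT.node 156 (BT.node 154 (BT.node 153 (BT.node 152 (BT.leaf cE152) (BT.leaf cE153)) (BT.leaf cE154)) (BT.node 155 (BT.leaf cE155) (BT.leaf cE156))) (BT.node 159 (BT.node 158 (BT.node 157 (BT.leaf cE157) (BT.leaf cE158)) (BT.leaf cE159)) (BT.node 160 (BT.leaf cE160) (BT.leaf cE161)))))))) (BT.node 242 (BT.node 202 (BT.node 182 (BT.node 172 (BT.node 167 (BT.node 164 (BT.node 163 (BT.node 162 (BT.leaf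 cE162) (BT.leaf cE163)) (BT.leaf cE164)) (BT.node 166 (BT.node 165 (BT.leaf cE165) (BT.leaf cE166)) (BT.leaf cE167))) (BT.node 170 (BT.node 169 (BT.node 168 (BT.leaf cE168) (BT.leaf cE169)) (BT.leaf cE170)) (BT.node 171 (BT.leaf cE171) (BT.leaf cE172)))) (BT.node 177 (BT.node 175 (BT.node 174 (BT.node 173 (BT.leaf cE173) (BT.leaf cE174)) (BT.leaf cE175)) (BT.node 176 (BT.leaf cE176) (BT.leaf cE177))) (BT.node 180 (BT.node 179 (BT.node 178 (BT.leaf cE178) (BT.leaf cE179)) (BT.leaf cE180)) (BT.node 181 (BT.leaf cE181) (BT.leaf cE182))))) (BT.node 192 (BT.node 187 (BT.node 185 (BT.node 184 (BT.node 183 (BT.leaf cE183) (BT.leaf cE184)) (BT.leaf cE185)) (BT.node 186 (BT.leaf cE186) (BT.leaf cE187))) (BT.node 190 (BT.node 189 (BT.node 188 (BT.leaf cE188) (BT.leaf cE189)) (BT.leaf cE190)) (BT.node 191 (BT.leaf cE191) (BT.leaf cE192)))) (BT.node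 197 (BT.node 195 (BT.node 194 (BT.node 193 (BT.leaf cE193) (BT.leaf cE194)) (BT.leaf cE195)) (BT.node 196 (BT.leaf cE196) (BT.leaf cE197))) (BT.node 200 (BT.node 199 (BT.node 198 (BT.leaf cE198) (BT.leaf cE199)) (BT.leaf cE200)) (BT.node 201 (BT.leaf cE201) (BT.leaf cE202)))))) (BT.node 222 (BT.node 212 (BT.node 207 (BT.node 205 (BT.node 204 (BT.node 203 (BT.leaf cE203) (BT.leaf cE204)) (BT.leaf cE205)) (BT.node 206 (BT.leaf cE206) (BT.leaf cE207))) (BT.node 210 (BT.node 209 (BT.node 208 (BT.leaf cE208) (BT.leaf cE209)) (BT.leaf cE210)) (BT.node 211 (BT.leaf cE211) (BT.leaf cE212)))) (BT.node 217 (BT.node 215 (BT.node 214 (BT.node 213 (BT.leaf cE213) (BT.leaf cE214)) (BT.leaf cE215)) (BT.node 216 (BT.leaf cE216) (BT.leaf cE217))) (BT.node 220 (BT.node 219 (BT.node 218 (BT.leaf cE218) (BT.leaf cE219)) (BT.leaf cE220)) (BT.node 221 (BT.leaf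 cE221) (BT.leaf cE222))))) (BT.node 232 (BT.node 227 (BT.node 225 (BT.node 224 (BT.node 223 (BT.leaf cE223) (BT.leaf cE224)) (BT.leaf cE225)) (BT.node 226 (BT.leaf cE226) (BT.leaf cE227))) (BT.node 230 (BT.node 229 (BT.node 228 (BT.leaf cE228) (BT.leaf cE229)) (BT.leaf cE230)) (BT.node 231 (BT.leaf cE231) (BT.leaf cE232)))) (BT.node 237 (BT.node 235 (BT.node 234 (BT.node 233 (BT.leaf cE233) (BT.leaf cE234)) (BT.leaf cE235)) (BT.node 236 (BT.leaf cE236) (BT.leaf cE237))) (BT.node 240 (BT.node 239 (BT.node 238 (BT.leaf cE238) (BT.leaf cE239)) (BT.leaf cE240)) (BT.node 241 (BT.leaf cE241) (BT.leaf cE242))))))) (BT.node 283 (BT.node 263 (BT.node 253 (BT.node 248 (BT.node 245 (BT.node 244 (BT.node 243 (BT.leaf cE243) (BT.leaf cE244)) (BT.leaf cE245)) (BT.node 247 (BT.node 246 (BT.leaf cE246) (BT.leaf cE247)) (BT.leaf cE248))) (BT.node 251 (BT.node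 250 (BT.node 249 (BT.leaf cE249) (BT.leaf cE250)) (BT.leaf cE251)) (BT.node 252 (BT.leaf cE252) (BT.leaf cE253)))) (BT.node 258 (BT.node 256 (BT.node 255 (BT.node 254 (BT.leaf cE254) (BT.leaf cE255)) (BT.leaf cE256)) (BT.node 257 (BT.leaf cE257) (BT.leaf cE258))) (BT.node 261 (BT.node 260 (BT.node 259 (BT.leaf cE259) (BT.leaf cE260)) (BT.leaf cE261)) (BT.node 262 (BT.leaf cE262) (BT.leaf cE263))))) (BT.node 273 (BT.node 268 (BT.node 266 (BT.node 265 (BT.node 264 (BT.leaf cE264) (BT.leaf cE265)) (BT.leaf cE266)) (BT.node 267 (BT.leaf cE267) (BT.leaf cE268))) (BT.node 271 (BT.node 270 (BT.node 269 (BT.leaf cE269) (BT.leaf cE270)) (BT.leaf cE271)) (BT.node 272 (BT.leaf cE272) (BT.leaf cE273)))) (BT.node 278 (BT.node 276 (BT.node 275 (BT.node 274 (BT.leaf cE274) (BT.leaf cE275)) (BT.leaf cE276)) (BT.node 277 (BT.leaf cE277) (BT.leaf cE278)))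 (BT.node 281 (BT.node 280 (BT.node 279 (BT.leaf cE279) (BT.leaf cE280)) (BT.leaf cE281)) (BT.node 282 (BT.leaf cE282) (BT.leaf cE283)))))) (BT.node 303 (BT.node 293 (BT.node 288 (BT.node 286 (BT.node 285 (BT.node 284 (BT.leaf cE284) (BT.leaf cE285)) (BT.leaf cE286)) (BT.node 287 (BT.leaf cE287) (BT.leaf cE288))) (BT.node 291 (BT.node 290 (BT.node 289 (BT.leaf cE289) (BT.leaf cE290)) (BT.leaf cE291)) (BT.node 292 (BT.leaf cE292) (BT.leaf cE293)))) (BT.node 298 (BT.node 296 (BT.node 295 (BT.node 294 (BT.leaf cE294) (BT.leaf cE295)) (BT.leaf cE296)) (BT.node 297 (BT.leaf cE297) (BT.leaf cE298))) (BT.node 301 (BT.node 300 (BT.node 299 (BT.leaf cE299) (BT.leaf cE300)) (BT.leaf cE301)) (BT.node 302 (BT.leaf cE302) (BT.leaf cE303))))) (BT.node 313 (BT.node 308 (BT.node 306 (BT.node 305 (BT.node 304 (BT.leaf cE304) (BT.leaf cE305)) (BT.leaf cE306))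 (BT.node 307 (BT.leaf cE307) (BT.leaf cE308))) (BT.node 311 (BT.node 310 (BT.node 309 (BT.leaf cE309) (BT.leaf cE310)) (BT.leaf cE311)) (BT.node 312 (BT.leaf cE312) (BT.leaf cE313)))) (BT.node 318 (BT.node 316 (BT.node 315 (BT.node 314 (BT.leaf cE314) (BT.leaf cE315)) (BT.leaf cE316)) (BT.node 317 (BT.leaf cE317) (BT.leaf cE318))) (BT.node 321 (BT.node 320 (BT.node 319 (BT.leaf cE319) (BT.leaf cE320)) (BT.leaf cE321)) (BT.node 322 (BT.leaf cE322) (BT.leaf cE323)))))))))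
/-- justification chunks -/
def colJT : BT ℕ := (BT.node 161 (BT.node 80 (BT.node 40 (BT.node 20 (BT.node 10 (BT.node 5 (BT.node 2 (BT.node 1 (BT.node 0 (BT.leaf cJ0) (BT.leaf cJ1)) (BT.leaf cJ2)) (BT.node 4 (BT.node 3 (BT.leaf cJ3) (BT.leaf cJ4)) (BT.leaf cJ5))) (BT.node 8 (BT.node 7 (BT.node 6 (BT.leaf cJ6) (BT.leaf cJ7)) (BT.leaf cJ8)) (BT.node 9 (BT.leaf cJ9) (BT.leaf cJ10)))) (BT.node 15 (BT.node 13 (BT.node 12 (BT.node 11 (BT.leaf cJ11) (BT.leaf cJ12)) (BT.leaf cJ13)) (BT.node 14 (BT.leaf cJ14) (BT.leaf cJ15))) (BT.node 18 (BT.node 17 (BT.node 16 (BT.leaf cJ16) (BT.leaf cJ17)) (BT.leaf cJ18)) (BT.node 19 (BT.leaf cJ19) (BT.leaf cJ20))))) (BT.node 30 (BT.node 25 (BT.node 23 (BT.node 22 (BT.node 21 (BT.leaf cJ21) (BT.leaf cJ22)) (BT.leaf cJ23)) (BT.node 24 (BT.leaf cJ24) (BT.leaf cJ25))) (BT.node 28 (BT.node 27 (BT.node 26 (BT.leaf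 cJ26) (BT.leaf cJ27)) (BT.leaf cJ28)) (BT.node 29 (BT.leaf cJ29) (BT.leaf cJ30)))) (BT.node 35 (BT.node 33 (BT.node 32 (BT.node 31 (BT.leaf cJ31) (BT.leaf cJ32)) (BT.leaf cJ33)) (BT.node 34 (BT.leaf cJ34) (BT.leaf cJ35))) (BT.node 38 (BT.node 37 (BT.node 36 (BT.leaf cJ36) (BT.leaf cJ37)) (BT.leaf cJ38)) (BT.node 39 (BT.leaf cJ39) (BT.leaf cJ40)))))) (BT.node 60 (BT.node 50 (BT.node 45 (BT.node 43 (BT.node 42 (BT.node 41 (BT.leaf cJ41) (BT.leaf cJ42)) (BT.leaf cJ43)) (BT.node 44 (BT.leaf cJ44) (BT.leaf cJ45))) (BT.node 48 (BT.node 47 (BT.node 46 (BT.leaf cJ46) (BT.leaf cJ47)) (BT.leaf cJ48)) (BT.node 49 (BT.leaf cJ49) (BT.leaf cJ50)))) (BT.node 55 (BT.node 53 (BT.node 52 (BT.node 51 (BT.leaf cJ51) (BT.leaf cJ52)) (BT.leaf cJ53)) (BT.node 54 (BT.leaf cJ54) (BT.leaf cJ55))) (BT.node 58 (BT.node 57 (BT.node 56 (BT.leaf cJ56) (BT.leaf cJ57))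 (BT.leaf cJ58)) (BT.node 59 (BT.leaf cJ59) (BT.leaf cJ60))))) (BT.node 70 (BT.node 65 (BT.node 63 (BT.node 62 (BT.node 61 (BT.leaf cJ61) (BT.leaf cJ62)) (BT.leaf cJ63)) (BT.node 64 (BT.leaf cJ64) (BT.leaf cJ65))) (BT.node 68 (BT.node 67 (BT.node 66 (BT.leaf cJ66) (BT.leaf cJ67)) (BT.leaf cJ68)) (BT.node 69 (BT.leaf cJ69) (BT.leaf cJ70)))) (BT.node 75 (BT.node 73 (BT.node 72 (BT.node 71 (BT.leaf cJ71) (BT.leaf cJ72)) (BT.leaf cJ73)) (BT.node 74 (BT.leaf cJ74) (BT.leaf cJ75))) (BT.node 78 (BT.node 77 (BT.node 76 (BT.leaf cJ76) (BT.leaf cJ77)) (BT.leaf cJ78)) (BT.node 79 (BT.leaf cJ79) (BT.leaf cJ80))))))) (BT.node 121 (BT.node 101 (BT.node 91 (BT.node 86 (BT.node 83 (BT.node 82 (BT.node 81 (BT.leaf cJ81) (BT.leaf cJ82)) (BT.leaf cJ83)) (BT.node 85 (BT.node 84 (BT.leaf cJ84) (BT.leaf cJ85)) (BT.leaf cJ86))) (BT.node 89 (BT.node 88 (BT.node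 87 (BT.leaf cJ87) (BT.leaf cJ88)) (BT.leaf cJ89)) (BT.node 90 (BT.leaf cJ90) (BT.leaf cJ91)))) (BT.node 96 (BT.node 94 (BT.node 93 (BT.node 92 (BT.leaf cJ92) (BT.leaf cJ93)) (BT.leaf cJ94)) (BT.node 95 (BT.leaf cJ95) (BT.leaf cJ96))) (BT.node 99 (BT.node 98 (BT.node 97 (BT.leaf cJ97) (BT.leaf cJ98)) (BT.leaf cJ99)) (BT.node 100 (BT.leaf cJ100) (BT.leaf cJ101))))) (BT.node 111 (BT.node 106 (BT.node 104 (BT.node 103 (BT.node 102 (BT.leaf cJ102) (BT.leaf cJ103)) (BT.leaf cJ104)) (BT.node 105 (BT.leaf cJ105) (BT.leaf cJ106))) (BT.node 109 (BT.node 108 (BT.node 107 (BT.leaf cJ107) (BT.leaf cJ108)) (BT.leaf cJ109)) (BT.node 110 (BT.leaf cJ110) (BT.leaf cJ111)))) (BT.node 116 (BT.node 114 (BT.node 113 (BT.node 112 (BT.leaf cJ112) (BT.leaf cJ113)) (BT.leaf cJ114)) (BT.node 115 (BT.leaf cJ115) (BT.leaf cJ116))) (BT.node 119 (BT.node 118 (BT.node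 117 (BT.leaf cJ117) (BT.leaf cJ118)) (BT.leaf cJ119)) (BT.node 120 (BT.leaf cJ120) (BT.leaf cJ121)))))) (BT.node 141 (BT.node 131 (BT.node 126 (BT.node 124 (BT.node 123 (BT.node 122 (BT.leaf cJ122) (BT.leaf cJ123)) (BT.leaf cJ124)) (BT.node 125 (BT.leaf cJ125) (BT.leaf cJ126))) (BT.node 129 (BT.node 128 (BT.node 127 (BT.leaf cJ127) (BT.leaf cJ128)) (BT.leaf cJ129)) (BT.node 130 (BT.leaf cJ130) (BT.leaf cJ131)))) (BT.node 136 (BT.node 134 (BT.node 133 (BT.node 132 (BT.leaf cJ132) (BT.leaf cJ133)) (BT.leaf cJ134)) (BT.node 135 (BT.leaf cJ135) (BT.leaf cJ136))) (BT.node 139 (BT.node 138 (BT.node 137 (BT.leaf cJ137) (BT.leaf cJ138)) (BT.leaf cJ139)) (BT.node 140 (BT.leaf cJ140) (BT.leaf cJ141))))) (BT.node 151 (BT.node 146 (BT.node 144 (BT.node 143 (BT.node 142 (BT.leaf cJ142) (BT.leaf cJ143)) (BT.leaf cJ144)) (BT.node 145 (BT.leaf cJ145)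 (BT.leaf cJ146))) (BT.node 149 (BT.node 148 (BT.node 147 (BT.leaf cJ147) (BT.leaf cJ148)) (BT.leaf cJ149)) (BT.node 150 (BT.leaf cJ150) (BT.leaf cJ151)))) (BT.node 156 (BT.node 154 (BT.node 153 (BT.node 152 (BT.leaf cJ152) (BT.leaf cJ153)) (BT.leaf cJ154)) (BT.node 155 (BT.leaf cJ155) (BT.leaf cJ156))) (BT.node 159 (BT.node 158 (BT.node 157 (BT.leaf cJ157) (BT.leaf cJ158)) (BT.leaf cJ159)) (BT.node 160 (BT.leaf cJ160) (BT.leaf cJ161)))))))) (BT.node 242 (BT.node 202 (BT.node 182 (BT.node 172 (BT.node 167 (BT.node 164 (BT.node 163 (BT.node 162 (BT.leaf cJ162) (BT.leaf cJ163)) (BT.leaf cJ164)) (BT.node 166 (BT.node 165 (BT.leaf cJ165) (BT.leaf cJ166)) (BT.leaf cJ167))) (BT.node 170 (BT.node 169 (BT.node 168 (BT.leaf cJ168) (BT.leaf cJ169)) (BT.leaf cJ170)) (BT.node 171 (BT.leaf cJ171) (BT.leaf cJ172)))) (BT.node 177 (BT.node 175 (BT.node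 174 (BT.node 173 (BT.leaf cJ173) (BT.leaf cJ174)) (BT.leaf cJ175)) (BT.node 176 (BT.leaf cJ176) (BT.leaf cJ177))) (BT.node 180 (BT.node 179 (BT.node 178 (BT.leaf cJ178) (BT.leaf cJ179)) (BT.leaf cJ180)) (BT.node 181 (BT.leaf cJ181) (BT.leaf cJ182))))) (BT.node 192 (BT.node 187 (BT.node 185 (BT.node 184 (BT.node 183 (BT.leaf cJ183) (BT.leaf cJ184)) (BT.leaf cJ185)) (BT.node 186 (BT.leaf cJ186) (BT.leaf cJ187))) (BT.node 190 (BT.node 189 (BT.node 188 (BT.leaf cJ188) (BT.leaf cJ189)) (BT.leaf cJ190)) (BT.node 191 (BT.leaf cJ191) (BT.leaf cJ192)))) (BT.node 197 (BT.node 195 (BT.node 194 (BT.node 193 (BT.leaf cJ193) (BT.leaf cJ194)) (BT.leaf cJ195)) (BT.node 196 (BT.leaf cJ196) (BT.leaf cJ197))) (BT.node 200 (BT.node 199 (BT.node 198 (BT.leaf cJ198) (BT.leaf cJ199)) (BT.leaf cJ200)) (BT.node 201 (BT.leaf cJ201) (BT.leaf cJ202)))))) (BT.node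 222 (BT.node 212 (BT.node 207 (BT.node 205 (BT.node 204 (BT.node 203 (BT.leaf cJ203) (BT.leaf cJ204)) (BT.leaf cJ205)) (BT.node 206 (BT.leaf cJ206) (BT.leaf cJ207))) (BT.node 210 (BT.node 209 (BT.node 208 (BT.leaf cJ208) (BT.leaf cJ209)) (BT.leaf cJ210)) (BT.node 211 (BT.leaf cJ211) (BT.leaf cJ212)))) (BT.node 217 (BT.node 215 (BT.node 214 (BT.node 213 (BT.leaf cJ213) (BT.leaf cJ214)) (BT.leaf cJ215)) (BT.node 216 (BT.leaf cJ216) (BT.leaf cJ217))) (BT.node 220 (BT.node 219 (BT.node 218 (BT.leaf cJ218) (BT.leaf cJ219)) (BT.leaf cJ220)) (BT.node 221 (BT.leaf cJ221) (BT.leaf cJ222))))) (BT.node 232 (BT.node 227 (BT.node 225 (BT.node 224 (BT.node 223 (BT.leaf cJ223) (BT.leaf cJ224)) (BT.leaf cJ225)) (BT.node 226 (BT.leaf cJ226) (BT.leaf cJ227))) (BT.node 230 (BT.node 229 (BT.node 228 (BT.leaf cJ228) (BT.leaf cJ229)) (BT.leaf cJ230)) (BT.node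 231 (BT.leaf cJ231) (BT.leaf cJ232)))) (BT.node 237 (BT.node 235 (BT.node 234 (BT.node 233 (BT.leaf cJ233) (BT.leaf cJ234)) (BT.leaf cJ235)) (BT.node 236 (BT.leaf cJ236) (BT.leaf cJ237))) (BT.node 240 (BT.node 239 (BT.node 238 (BT.leaf cJ238) (BT.leaf cJ239)) (BT.leaf cJ240)) (BT.node 241 (BT.leaf cJ241) (BT.leaf cJ242))))))) (BT.node 283 (BT.node 263 (BT.node 253 (BT.node 248 (BT.node 245 (BT.node 244 (BT.node 243 (BT.leaf cJ243) (BT.leaf cJ244)) (BT.leaf cJ245)) (BT.node 247 (BT.node 246 (BT.leaf cJ246) (BT.leaf cJ247)) (BT.leaf cJ248))) (BT.node 251 (BT.node 250 (BT.node 249 (BT.leaf cJ249) (BT.leaf cJ250)) (BT.leaf cJ251)) (BT.node 252 (BT.leaf cJ252) (BT.leaf cJ253)))) (BT.node 258 (BT.node 256 (BT.node 255 (BT.node 254 (BT.leaf cJ254) (BT.leaf cJ255)) (BT.leaf cJ256)) (BT.node 257 (BT.leaf cJ257) (BT.leaf cJ258))) (BT.node 261 (BT.node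 260 (BT.node 259 (BT.leaf cJ259) (BT.leaf cJ260)) (BT.leaf cJ261)) (BT.node 262 (BT.leaf cJ262) (BT.leaf cJ263))))) (BT.node 273 (BT.node 268 (BT.node 266 (BT.node 265 (BT.node 264 (BT.leaf cJ264) (BT.leaf cJ265)) (BT.leaf cJ266)) (BT.node 267 (BT.leaf cJ267) (BT.leaf cJ268))) (BT.node 271 (BT.node 270 (BT.node 269 (BT.leaf cJ269) (BT.leaf cJ270)) (BT.leaf cJ271)) (BT.node 272 (BT.leaf cJ272) (BT.leaf cJ273)))) (BT.node 278 (BT.node 276 (BT.node 275 (BT.node 274 (BT.leaf cJ274) (BT.leaf cJ275)) (BT.leaf cJ276)) (BT.node 277 (BT.leaf cJ277) (BT.leaf cJ278))) (BT.node 281 (BT.node 280 (BT.node 279 (BT.leaf cJ279) (BT.leaf cJ280)) (BT.leaf cJ281)) (BT.node 282 (BT.leaf cJ282) (BT.leaf cJ283)))))) (BT.node 303 (BT.node 293 (BT.node 288 (BT.node 286 (BT.node 285 (BT.node 284 (BT.leaf cJ284) (BT.leaf cJ285)) (BT.leaf cJ286)) (BT.node 287 (BT.leaf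 cJ287) (BT.leaf cJ288))) (BT.node 291 (BT.node 290 (BT.node 289 (BT.leaf cJ289) (BT.leaf cJ290)) (BT.leaf cJ291)) (BT.node 292 (BT.leaf cJ292) (BT.leaf cJ293)))) (BT.node 298 (BT.node 296 (BT.node 295 (BT.node 294 (BT.leaf cJ294) (BT.leaf cJ295)) (BT.leaf cJ296)) (BT.node 297 (BT.leaf cJ297) (BT.leaf cJ298))) (BT.node 301 (BT.node 300 (BT.node 299 (BT.leaf cJ299) (BT.leaf cJ300)) (BT.leaf cJ301)) (BT.node 302 (BT.leaf cJ302) (BT.leaf cJ303))))) (BT.node 313 (BT.node 308 (BT.node 306 (BT.node 305 (BT.node 304 (BT.leaf cJ304) (BT.leaf cJ305)) (BT.leaf cJ306)) (BT.node 307 (BT.leaf cJ307) (BT.leaf cJ308))) (BT.node 311 (BT.node 310 (BT.node 309 (BT.leaf cJ309) (BT.leaf cJ310)) (BT.leaf cJ311)) (BT.node 312 (BT.leaf cJ312) (BT.leaf cJ313)))) (BT.node 318 (BT.node 316 (BT.node 315 (BT.node 314 (BT.leaf cJ314) (BT.leaf cJ315)) (BT.leaf cJ316))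 (BT.node 317 (BT.leaf cJ317) (BT.leaf cJ318))) (BT.node 321 (BT.node 320 (BT.node 319 (BT.leaf cJ319) (BT.leaf cJ320)) (BT.leaf cJ321)) (BT.node 322 (BT.leaf cJ322) (BT.leaf cJ323)))))))))
/-- parent chunks -/
def parCT : BT ℕ := (BT.node 17 (BT.node 8 (BT.node 4 (BT.node 2 (BT.node 1 (BT.node 0 (BT.leaf cP0) (BT.leaf cP1)) (BT.leaf cP2)) (BT.node 3 (BT.leaf cP3) (BT.leaf cP4))) (BT.node 6 (BT.node 5 (BT.leaf cP5) (BT.leaf cP6)) (BT.node 7 (BT.leaf cP7) (BT.leaf cP8)))) (BT.node 13 (BT.node 11 (BT.node 10 (BT.node 9 (BT.leaf cP9) (BT.leaf cP10)) (BT.leaf cP11)) (BT.node 12 (BT.leaf cP12) (BT.leaf cP13))) (BT.node 15 (BT.node 14 (BT.leaf cP14) (BT.leaf cP15)) (BT.node 16 (BT.leaf cP16) (BT.leaf cP17))))) (BT.node 26 (BT.node 22 (BT.node 20 (BT.node 19 (BT.node 18 (BT.leaf cP18) (BT.leaf cP19)) (BT.leaf cP20)) (BT.node 21 (BT.leaf cP21)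 (BT.leaf cP22))) (BT.node 24 (BT.node 23 (BT.leaf cP23) (BT.leaf cP24)) (BT.node 25 (BT.leaf cP25) (BT.leaf cP26)))) (BT.node 31 (BT.node 29 (BT.node 28 (BT.node 27 (BT.leaf cP27) (BT.leaf cP28)) (BT.leaf cP29)) (BT.node 30 (BT.leaf cP30) (BT.leaf cP31))) (BT.node 33 (BT.node 32 (BT.leaf cP32) (BT.leaf cP33)) (BT.node 34 (BT.leaf cP34) (BT.leaf cP35))))))
/-- the certificate -/
def data : Data where
  k := 8
  N := 18194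
  W := 32
  MW := 4294967296
  B := 32768
  CH := 512
  NCH := 36
  colE := colET
  JW := 64
  MJ := 18446744073709551616
  A := 1048576
  colJ := colJT
  PW := 24
  MP := 16777216
  parC := parCT
  inv := (BT.node 4 (BT.node 2 (BT.node 1 (BT.node 0 (BT.leaf 0) (BT.leaf 1)) (BT.leaf 2)) (BT.node 3 (BT.leaf 3) (BT.leaf 4))) (BT.node 6 (BT.node 5 (BT.leaf 5) (BT.leaf 6)) (BT.node 7 (BT.leaf 7) (BT.leaf 8))))
  rel := relT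
  sub := subT
  fuel := 64

end Cfsg.Agent.Lib.Helper28.TCF23NW2Data
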