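import Cfsg.Prelude.Def_SporCoxeter
import Cfsg.Agent.Lib.Helper28.TCF23NW1Def
set_option autoImplicit false

namespace Cfsg.Agent.Lib.Helper28.TCF23NW2Def

/-- the generators -/
inductive Gen
  | a
  | b
  | c
  | d
  | e
  | f
  | h
  | i
  deriving DecidableEq

/-- the generators as generators of the larger presentation -/
def up : Gen → Cfsg.Agent.Lib.Helper28.TCF23NW1Def.Gen
  | .a => .a
  | .b => .b
  | .c => .c
  | .d => .d
  | .e => .e
  | .f => .f
  | .h => .h
  | .i => .i

/-- the Coxeter graph -/
def edges : List (Gen × ℕ × Gen) :=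
  [(.a, 3, .b), (.b, 3, .c), (.c, 3, .d), (.d, 3, .e), (.d, 3, .h), (.e, 3, .f), (.h, 3, .i)]

/-- the further relators -/
def extra : List (FreeGroup Gen) := [
  FreeGroup.mk [(.a, true), (.b, true), (.c, true), (.d, true), (.e, true), (.f, true), (.h, true), (.a, true), (.b, true), (.c, true), (.d, true), (.e, true), (.f, true), (.h, true), (.a, true), (.b, true), (.c, true), (.d, true), (.e, true), (.f, true), (.h, true), (.a, true), (.b, true), (.c, true), (.d, true), (.e, true), (.f, true), (.h, true), (.a, true), (.b, true), (.c, true), (.d, true), (.e, true), (.f, true), (.h, true), (.a, true), (.b, true), (.c, true), (.d, true), (.e, true), (.f, true), (.h, true), (.a, true), (.b, true), (.c, true), (.d, true), (.e, true), (.f, true), (.h, true), (.a, true), (.b, true), (.c, true), (.d, true), (.e, true), (.f, true), (.h, true), (.a, true), (.b, true), (.c, true), (.d, true), (.e, true), (.f, true), (.h, true)] ]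

end Cfsg.Agent.Lib.Helper28.TCF23NW2Def
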