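import Cfsg.Agent.Lib.Helper28.TCF23NW2Data
set_option autoImplicit false
set_option maxRecDepth 100000
set_option maxHeartbeats 0

namespace Cfsg.Agent.Lib.Helper28.TCF23NW2U3
open Cfsg.Agent.Lib.Helper28.TC2Upper Cfsg.Agent.Lib.Helper28.TCF23NW2Data

theorem chk15 : data.checkRange 12047 1021 = true := by decide +kernel
theorem chk16 : data.checkRange 13068 895 = true := by decide +kernel
theorem chk17 : data.checkRange 13963 1162 = true := by decide +kernel
theorem chk18 : data.checkRange 15125 871 = true := by decide +kernel
theorem chk19 : data.checkRange 15996 1254 = true := by decide +kernel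

end Cfsg.Agent.Lib.Helper28.TCF23NW2U3
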