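import Cfsg.Agent.Lib.Helper28.TC2Glue
import Cfsg.Agent.Lib.Helper28.TC2Range
import Cfsg.Agent.Lib.Helper28.TCF23NW2Link
import Cfsg.Agent.Lib.Helper28.TCF23NW2M0
import Cfsg.Agent.Lib.Helper28.TCF23NW2U0
import Cfsg.Agent.Lib.Helper28.TCF23NW2U1
import Cfsg.Agent.Lib.Helper28.TCF23NW2U2
import Cfsg.Agent.Lib.Helper28.TCF23NW2U3
import Cfsg.Agent.Lib.Helper28.TCF23NW2U4

set_option autoImplicit false
set_option maxRecDepth 100000
open Cfsg

namespace Cfsg.Agent.Lib.Helper28.TCF23NW2Main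
open Cfsg.Agent.Lib.Helper28.TC2Upper Cfsg.Agent.Lib.Helper28.TC2Lower Cfsg.Agent.Lib.Helper28.TC2Glue Cfsg.Agent.Lib.Helper28.TC2Range
open Cfsg.Agent.Lib.Helper28.TCF23NW2Data Cfsg.Agent.Lib.Helper28.TCF23NW2Table Cfsg.Agent.Lib.Helper28.TCF23NW2Link

theorem hchk : ∀ v, v < data.N → data.checkNode v = true := by
  intro v hv
  have hv' : v < 18194 := hv
  rcases Nat.lt_or_ge v 676 with h0 | h0
  · exact (data.checkRange_iff 0 676).mp Cfsg.Agent.Lib.Helper28.TCF23NW2U0.chk0 v (by omega) (by omega)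
  rcases Nat.lt_or_ge v 1371 with h1 | h1
  · exact (data.checkRange_iff 676 695).mp Cfsg.Agent.Lib.Helper28.TCF23NW2U0.chk1 v (by omega) (by omega)
  rcases Nat.lt_or_ge v 2083 with h2 | h2
  · exact (data.checkRange_iff 1371 712).mp Cfsg.Agent.Lib.Helper28.TCF23NW2U0.chk2 v (by omega) (by omega)
  rcases Nat.lt_or_ge v 2798 with h3 | h3
  · exact (data.checkRange_iff 2083 715).mp Cfsg.Agent.Lib.Helper28.TCF23NW2U0.chk3 v (by omega) (by omega)
  rcases Nat.lt_or_ge v 3545 with h4 | h4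
  · exact (data.checkRange_iff 2798 747).mp Cfsg.Agent.Lib.Helper28.TCF23NW2U0.chk4 v (by omega) (by omega)
  rcases Nat.lt_or_ge v 4333 with h5 | h5
  · exact (data.checkRange_iff 3545 788).mp Cfsg.Agent.Lib.Helper28.TCF23NW2U1.chk5 v (by omega) (by omega)
  rcases Nat.lt_or_ge v 5130 with h6 | h6
  · exact (data.checkRange_iff 4333 797).mp Cfsg.Agent.Lib.Helper28.TCF23NW2U1.chk6 v (by omega) (by omega)
  rcases Nat.lt_or_ge v 5878 with h7 | h7
  · exact (data.checkRange_iff 5130 748).mp Cfsg.Agent.Lib.Helper28.TCF23NW2U1.chk7 v (by omega) (by omega)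
  rcases Nat.lt_or_ge v 6781 with h8 | h8
  · exact (data.checkRange_iff 5878 903).mp Cfsg.Agent.Lib.Helper28.TCF23NW2U1.chk8 v (by omega) (by omega)
  rcases Nat.lt_or_ge v 7562 with h9 | h9
  · exact (data.checkRange_iff 6781 781).mp Cfsg.Agent.Lib.Helper28.TCF23NW2U1.chk9 v (by omega) (by omega)
  rcases Nat.lt_or_ge v 8488 with h10 | h10
  · exact (data.checkRange_iff 7562 926).mp Cfsg.Agent.Lib.Helper28.TCF23NW2U2.chk10 v (by omega) (by omega)
  rcases Nat.lt_or_ge v 9269 with h11 | h11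
  · exact (data.checkRange_iff 8488 781).mp Cfsg.Agent.Lib.Helper28.TCF23NW2U2.chk11 v (by omega) (by omega)
  rcases Nat.lt_or_ge v 10199 with h12 | h12
  · exact (data.checkRange_iff 9269 930).mp Cfsg.Agent.Lib.Helper28.TCF23NW2U2.chk12 v (by omega) (by omega)
  rcases Nat.lt_or_ge v 11089 with h13 | h13
  · exact (data.checkRange_iff 10199 890).mp Cfsg.Agent.Lib.Helper28.TCF23NW2U2.chk13 v (by omega) (by omega)
  rcases Nat.lt_or_ge v 12047 with h14 | h14
  · exact (data.checkRange_iff 11089 958).mp Cfsg.Agent.Lib.Helper28.TCF23NW2U2.chk14 v (by omega) (by omega)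
  rcases Nat.lt_or_ge v 13068 with h15 | h15
  · exact (data.checkRange_iff 12047 1021).mp Cfsg.Agent.Lib.Helper28.TCF23NW2U3.chk15 v (by omega) (by omega)
  rcases Nat.lt_or_ge v 13963 with h16 | h16
  · exact (data.checkRange_iff 13068 895).mp Cfsg.Agent.Lib.Helper28.TCF23NW2U3.chk16 v (by omega) (by omega)
  rcases Nat.lt_or_ge v 15125 with h17 | h17
  · exact (data.checkRange_iff 13963 1162).mp Cfsg.Agent.Lib.Helper28.TCF23NW2U3.chk17 v (by omega) (by omega)
  rcases Nat.lt_or_ge v 15996 with h18 | h18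
  · exact (data.checkRange_iff 15125 871).mp Cfsg.Agent.Lib.Helper28.TCF23NW2U3.chk18 v (by omega) (by omega)
  rcases Nat.lt_or_ge v 17250 with h19 | h19
  · exact (data.checkRange_iff 15996 1254).mp Cfsg.Agent.Lib.Helper28.TCF23NW2U3.chk19 v (by omega) (by omega)
  exact (data.checkRange_iff 17250 944).mp Cfsg.Agent.Lib.Helper28.TCF23NW2U4.chk20 v (by omega) (by omega)

theorem hrows : ∀ v, v < data.N → Data.rowOK data v = true := by
  intro v hv
  have hv' : v < 18194 := hv
  rcases Nat.lt_or_ge v 10416 with h0 | h0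
  · exact (Data.finalRange_iff data 0 10416).mp Cfsg.Agent.Lib.Helper28.TCF23NW2M0.fin0 v (by omega) (by omega)
  exact (Data.finalRange_iff data 10416 7778).mp Cfsg.Agent.Lib.Helper28.TCF23NW2M0.fin1 v (by omega) (by omega)

theorem hfin : data.finalOK = true := Data.finalOK_of_rows data Cfsg.Agent.Lib.Helper28.TCF23NW2M0.hlive0 (by decide) hrows

theorem pc0 : Data.countFrom data 0 18194 = 9477 := Cfsg.Agent.Lib.Helper28.TCF23NW2M0.cnt0

theorem hcount : data.countLive = 9477 := by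
  rw [Data.countLive_eq]
  exact pc0

/-- the upper bound for the index -/
theorem mainU : Finite (PresentedGroup rels ⧸ (Subgroup.closure S).map (PresentedGroup.mk rels)) ∧
    Nat.card (PresentedGroup rels ⧸ (Subgroup.closure S).map (PresentedGroup.mk rels)) ≤ 9477 := by
  have h := upper link hchk hfin
  rw [hcount] at h
  exact h

end Cfsg.Agent.Lib.Helper28.TCF23NW2Main
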