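import Cfsg.Agent.Lib.Helper28.TC2Lower
set_option autoImplicit false
set_option maxRecDepth 100000

namespace Cfsg.Agent.Lib.Helper28.TCF23NW3Table
open Cfsg.Agent.Lib.Helper28.TC2Upper Cfsg.Agent.Lib.Helper28.TC2Lower

/-- a dummy coset table (only the upper bound is proved) -/
def table : Table where
  n := 28
  k := 7
  w := 1
  M := 2
  CH := 1
  NCH := 1
  col := BT.leaf 0
  inv := (BT.node 3 (BT.node 1 (BT.node 0 (BT.leaf 0) (BT.leaf 1)) (BT.node 2 (BT.leaf 2) (BT.leaf 3))) (BT.node 5 (BT.node 4 (BT.leaf 4) (BT.leaf 5)) (BT.node 6 (BT.leaf 6) (BT.leaf 7))))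
  tw := 1
  TM := 2
  tree := BT.leaf 0

end Cfsg.Agent.Lib.Helper28.TCF23NW3Table
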