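import Cfsg.Agent.Lib.Helper28.TC2Glue
import Cfsg.Agent.Lib.Helper28.TCF23NW3Data
import Cfsg.Agent.Lib.Helper28.TCF23NW3Table
import Cfsg.Agent.Lib.Helper28.TCF23NW3Def
set_option autoImplicit false
set_option maxRecDepth 100000

namespace Cfsg.Agent.Lib.Helper28.TCF23NW3Link
open Cfsg.Agent.Lib.Helper28.TC2Upper Cfsg.Agent.Lib.Helper28.TC2Lower Cfsg.Agent.Lib.Helper28.TC2Glue Cfsg.Agent.Lib.Helper28.TCF23NW3Data Cfsg.Agent.Lib.Helper28.TCF23NW3Table

/-- the further relators in list form -/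
def extraWords : List (List (Cfsg.Agent.Lib.Helper28.TCF23NW3Def.Gen × Bool)) := [
  [(.a, true), (.b, true), (.c, true), (.d, true), (.e, true), (.f, true), (.h, true), (.a, true), (.b, true), (.c, true), (.d, true), (.e, true), (.f, true), (.h, true), (.a, true), (.b, true), (.c, true), (.d, true), (.e, true), (.f, true), (.h, true), (.a, true), (.b, true), (.c, true), (.d, true), (.e, true), (.f, true), (.h, true), (.a, true), (.b, true), (.c, true), (.d, true), (.e, true), (.f, true), (.h, true), (.a, true), (.b, true), (.c, true), (.d, true), (.e, true), (.f, true), (.h, true), (.a, true), (.b, true), (.c, true), (.d, true), (.e, true), (.f, true), (.h, true), (.a, true), (.b, true), (.c, true), (.d, true), (.e, true), (.f, true), (.h, true), (.a, true), (.b, true), (.c, true), (.d, true), (.e, true), (.f, true), (.h, true)] ]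

theorem hextra : Cfsg.Agent.Lib.Helper28.TCF23NW3Def.extra = extraWords.map FreeGroup.mk := by
  rfl

/-- all relators in list form -/
def relWords : List (List (Cfsg.Agent.Lib.Helper28.TCF23NW3Def.Gen × Bool)) := coxWords Cfsg.Agent.Lib.Helper28.TCF23NW3Def.edges ++ extraWords

/-- the subgroup generators in list form -/
def subWords : List (List (Cfsg.Agent.Lib.Helper28.TCF23NW3Def.Gen × Bool)) := [
  [(.b, true)],
  [(.c, true)],
  [(.d, true)],
  [(.e, true)],
  [(.f, true)],
  [(.h, true)] ]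

/-- coding of the letters -/
def lw : Cfsg.Agent.Lib.Helper28.TCF23NW3Def.Gen × Bool → ℕ
  | (.a, _) => 0
  | (.b, _) => 1
  | (.c, _) => 2
  | (.d, _) => 3
  | (.e, _) => 4
  | (.f, _) => 5
  | (.h, _) => 6

/-- decoding of the letters -/
def dec : ℕ → Cfsg.Agent.Lib.Helper28.TCF23NW3Def.Gen × Bool
  | 0 => (.a, true)
  | 1 => (.b, true)
  | 2 => (.c, true)
  | 3 => (.d, true)
  | 4 => (.e, true)
  | 5 => (.f, true)
  | _ => (.h, true)

/-- the relators -/
abbrev rels : Set (FreeGroup Cfsg.Agent.Lib.Helper28.TCF23NW3Def.Gen) := Cfsg.Spor.coxRelators Cfsg.Agent.Lib.Helper28.TCF23NW3Def.edges ∪ {r | r ∈ Cfsg.Agent.Lib.Helper28.TCF23NW3Def.extra}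

/-- the subgroup generators -/
abbrev S : Set (FreeGroup Cfsg.Agent.Lib.Helper28.TCF23NW3Def.Gen) := {FreeGroup.of Cfsg.Agent.Lib.Helper28.TCF23NW3Def.Gen.b, FreeGroup.of Cfsg.Agent.Lib.Helper28.TCF23NW3Def.Gen.c, FreeGroup.of Cfsg.Agent.Lib.Helper28.TCF23NW3Def.Gen.d, FreeGroup.of Cfsg.Agent.Lib.Helper28.TCF23NW3Def.Gen.e, FreeGroup.of Cfsg.Agent.Lib.Helper28.TCF23NW3Def.Gen.f, FreeGroup.of Cfsg.Agent.Lib.Helper28.TCF23NW3Def.Gen.h}

theorem hS : ∀ s, s ∈ S ↔ ∃ L ∈ subWords, s = FreeGroup.mk L := by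
  intro s
  simp only [S, subWords, Set.mem_insert_iff, Set.mem_singleton_iff, List.mem_cons, List.not_mem_nil,
    or_false, exists_eq_or_imp, exists_eq_left]
  rfl

theorem relD_ok : BT.all (fun t => decide (wfWord data t ∧ ∃ L ∈ relWords, t.2.1 = pathOf lw L)) data.rel = true := by
  decide +kernel

theorem subD_ok : BT.all (fun t => decide (wfWord data t ∧ ∃ L ∈ subWords, t.2.1 = pathOf lw L)) data.sub = true := by
  decide +kernel

theorem link : Link rels S relWords subWords lw dec data table where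
  hrels := mem_rels_iff _ _ _ hextra
  hS := hS
  lwk := by rintro ⟨x, b⟩; cases x <;> cases b <;> decide
  lwinv := by intro x; cases x <;> decide +kernel
  d1 := by intro l hl; have : l < 7 := hl; interval_cases l <;> rfl
  d2 := by intro x; cases x <;> rfl
  d3 := by
    intro x
    cases x
    · exact Or.inr ⟨rfl, invol_of_mem_coxNodes _ _ (by decide)⟩
    · exact Or.inr ⟨rfl, invol_of_mem_coxNodes _ _ (by decide)⟩
    · exact Or.inr ⟨rfl, invol_of_mem_coxNodes _ _ (by decide)⟩
    · exact Or.inr ⟨rfl, invol_of_mem_coxNodes _ _ (by decide)⟩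
    · exact Or.inr ⟨rfl, invol_of_mem_coxNodes _ _ (by decide)⟩
    · exact Or.inr ⟨rfl, invol_of_mem_coxNodes _ _ (by decide)⟩
    · exact Or.inr ⟨rfl, invol_of_mem_coxNodes _ _ (by decide)⟩
  invk := by intro l hl; have : l < 7 := hl; interval_cases l <;> decide +kernel
  relD := BT.All_of_all (fun _ h => of_decide_eq_true h) _ relD_ok
  subD := BT.All_of_all (fun _ h => of_decide_eq_true h) _ subD_ok
  Tk := rfl
  Tinv := fun _ => rfl

end Cfsg.Agent.Lib.Helper28.TCF23NW3Link
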