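import Cfsg.Agent.Lib.Helper28.TCF23NW3Data
set_option autoImplicit false
set_option maxRecDepth 100000
set_option maxHeartbeats 0

namespace Cfsg.Agent.Lib.Helper28.TCF23NW3U0
open Cfsg.Agent.Lib.Helper28.TC2Upper Cfsg.Agent.Lib.Helper28.TCF23NW3Data

theorem chk0 : data.checkRange 0 28 = true := by decide +kernel

end Cfsg.Agent.Lib.Helper28.TCF23NW3U0
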