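import Cfsg.Agent.Lib.Helper28.TC2Glue
import Cfsg.Agent.Lib.Helper28.TC2Range
import Cfsg.Agent.Lib.Helper28.TCF23NW3Link
import Cfsg.Agent.Lib.Helper28.TCF23NW3M0
import Cfsg.Agent.Lib.Helper28.TCF23NW3U0

set_option autoImplicit false
set_option maxRecDepth 100000
open Cfsg

namespace Cfsg.Agent.Lib.Helper28.TCF23NW3Main
open Cfsg.Agent.Lib.Helper28.TC2Upper Cfsg.Agent.Lib.Helper28.TC2Lower Cfsg.Agent.Lib.Helper28.TC2Glue Cfsg.Agent.Lib.Helper28.TC2Range
open Cfsg.Agent.Lib.Helper28.TCF23NW3Data Cfsg.Agent.Lib.Helper28.TCF23NW3Table Cfsg.Agent.Lib.Helper28.TCF23NW3Link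

theorem hchk : ∀ v, v < data.N → data.checkNode v = true := by
  intro v hv
  have hv' : v < 28 := hv
  exact (data.checkRange_iff 0 28).mp Cfsg.Agent.Lib.Helper28.TCF23NW3U0.chk0 v (by omega) (by omega)

theorem hrows : ∀ v, v < data.N → Data.rowOK data v = true := by
  intro v hv
  have hv' : v < 28 := hv
  exact (Data.finalRange_iff data 0 28).mp Cfsg.Agent.Lib.Helper28.TCF23NW3M0.fin0 v (by omega) (by omega)

theorem hfin : data.finalOK = true := Data.finalOK_of_rows data Cfsg.Agent.Lib.Helper28.TCF23NW3M0.hlive0 (by decide) hrows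

theorem pc0 : Data.countFrom data 0 28 = 28 := Cfsg.Agent.Lib.Helper28.TCF23NW3M0.cnt0

theorem hcount : data.countLive = 28 := by
  rw [Data.countLive_eq]
  exact pc0

/-- the upper bound for the index -/
theorem mainU : Finite (PresentedGroup rels ⧸ (Subgroup.closure S).map (PresentedGroup.mk rels)) ∧
    Nat.card (PresentedGroup rels ⧸ (Subgroup.closure S).map (PresentedGroup.mk rels)) ≤ 28 := by
  have h := upper link hchk hfin
  rw [hcount] at h
  exact h

end Cfsg.Agent.Lib.Helper28.TCF23NW3Main
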