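import Cfsg.Agent.Lib.Helper28.TC2Upper
import Cfsg.Agent.Lib.Helper28.TCF23NW4DataC0
import Cfsg.Agent.Lib.Helper28.TCF23NW4DataC1
set_option autoImplicit false
set_option maxRecDepth 100000

namespace Cfsg.Agent.Lib.Helper28.TCF23NW4Data
open Cfsg.Agent.Lib.Helper28.TC2Upper

/-- relators -/
def relT : BT (ℕ × List ℕ × List ℕ) := (BT.node 17 (BT.node 8 (BT.node 4 (BT.node 2 (BT.node 1 (BT.node 0 (BT.leaf (2, [0, 0], [0, 0])) (BT.leaf (6, [1, 0, 1, 0, 1, 0], [0, 1, 0, 1, 0, 1]))) (BT.leaf (4, [2, 0, 2, 0], [0, 2, 0, 2]))) (BT.node 3 (BT.leaf (4, [3, 0, 3, 0], [0, 3, 0, 3])) (BT.leaf (4, [5, 0, 5, 0], [0, 5, 0, 5])))) (BT.node 6 (BT.node 5 (BT.leaf (4, [4, 0, 4, 0], [0, 4, 0, 4])) (BT.leaf (6, [0, 1, 0, 1, 0, 1], [1, 0, 1, 0, 1, 0]))) (BT.node 7 (BT.leaf (2, [1, 1], [1, 1])) (BT.leaf (6, [2, 1, 2, 1, 2, 1], [1, 2, 1, 2, 1, 2]))))) (BT.node 13 (BT.node 11 (BT.node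 10 (BT.node 9 (BT.leaf (4, [3, 1, 3, 1], [1, 3, 1, 3])) (BT.leaf (4, [5, 1, 5, 1], [1, 5, 1, 5]))) (BT.leaf (4, [4, 1, 4, 1], [1, 4, 1, 4]))) (BT.node 12 (BT.leaf (4, [0, 2, 0, 2], [2, 0, 2, 0])) (BT.leaf (6, [1, 2, 1, 2, 1, 2], [2, 1, 2, 1, 2, 1])))) (BT.node 15 (BT.node 14 (BT.leaf (2, [2, 2], [2, 2])) (BT.leaf (6, [3, 2, 3, 2, 3, 2], [2, 3, 2, 3, 2, 3]))) (BT.node 16 (BT.leaf (6, [5, 2, 5, 2, 5, 2], [2, 5, 2, 5, 2, 5])) (BT.leaf (4, [4, 2, 4, 2], [2, 4, 2, 4])))))) (BT.node 26 (BT.node 22 (BT.node 20 (BT.node 19 (BT.node 18 (BT.leaf (4, [0, 3, 0, 3], [3, 0, 3, 0])) (BT.leaf (4, [1, 3, 1, 3], [3, 1, 3, 1]))) (BT.leaf (6, [2, 3, 2, 3, 2, 3], [3, 2, 3, 2, 3, 2]))) (BT.node 21 (BT.leaf (2, [3, 3], [3, 3])) (BT.leaf (4, [5, 3, 5, 3], [3, 5, 3, 5])))) (BT.node 24 (BT.node 23 (BT.leaf (6, [4, 3, 4, 3, 4, 3], [3, 4, 3, 4, 3, 4])) (BT.leaf (4, [0, 5, 0, 5], [5, 0, 5,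 0]))) (BT.node 25 (BT.leaf (4, [1, 5, 1, 5], [5, 1, 5, 1])) (BT.leaf (6, [2, 5, 2, 5, 2, 5], [5, 2, 5, 2, 5, 2]))))) (BT.node 31 (BT.node 29 (BT.node 28 (BT.node 27 (BT.leaf (4, [3, 5, 3, 5], [5, 3, 5, 3])) (BT.leaf (2, [5, 5], [5, 5]))) (BT.leaf (4, [4, 5, 4, 5], [5, 4, 5, 4]))) (BT.node 30 (BT.leaf (4, [0, 4, 0, 4], [4, 0, 4, 0])) (BT.leaf (4, [1, 4, 1, 4], [4, 1, 4, 1])))) (BT.node 33 (BT.node 32 (BT.leaf (4, [2, 4, 2, 4], [4, 2, 4, 2])) (BT.leaf (6, [3, 4, 3, 4, 3, 4], [4, 3, 4, 3, 4, 3]))) (BT.node 34 (BT.leaf (4, [5, 4, 5, 4], [4, 5, 4, 5])) (BT.leaf (2, [4, 4], [4, 4])))))))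
/-- subgroup generators -/
def subT : BT (ℕ × List ℕ × List ℕ) := (BT.leaf (0, [], []))
/-- fact chunks -/
def colET : BT ℕ := (BT.node 356 (BT.node 178 (BT.node 89 (BT.node 44 (BT.node 22 (BT.node 11 (BT.node 5 (BT.node 2 (BT.node 1 (BT.node 0 (BT.leaf cE0) (BT.leaf cE1)) (BT.leaf cE2)) (BT.node 4 (BT.node 3 (BT.leaf cE3) (BT.leaf cE4)) (BT.leaf cE5))) (BT.node 8 (BT.node 7 (BT.node 6 (BT.leaf cE6) (BT.leaf cE7)) (BT.leaf cE8)) (BT.node 10 (BT.node 9 (BT.leaf cE9) (BT.leaf cE10)) (BT.leaf cE11)))) (BT.node 17 (BT.node 14 (BT.node 13 (BT.node 12 (BT.leaf cE12) (BT.leaf cE13)) (BT.leaf cE14)) (BT.node 16 (BT.node 15 (BT.leaf cE15) (BT.leaf cE16)) (BT.leaf cE17))) (BT.node 20 (BT.node 19 (BT.node 18 (BT.leaf cE18) (BT.leaf cE19)) (BT.leaf cE20)) (BT.node 21 (BT.leaf cE21) (BT.leaf cE22))))) (BT.node 33 (BT.node 28 (BT.node 25 (BT.node 24 (BT.node 23 (BT.leaf cE23)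 (BT.leaf cE24)) (BT.leaf cE25)) (BT.node 27 (BT.node 26 (BT.leaf cE26) (BT.leaf cE27)) (BT.leaf cE28))) (BT.node 31 (BT.node 30 (BT.node 29 (BT.leaf cE29) (BT.leaf cE30)) (BT.leaf cE31)) (BT.node 32 (BT.leaf cE32) (BT.leaf cE33)))) (BT.node 39 (BT.node 36 (BT.node 35 (BT.node 34 (BT.leaf cE34) (BT.leaf cE35)) (BT.leaf cE36)) (BT.node 38 (BT.node 37 (BT.leaf cE37) (BT.leaf cE38)) (BT.leaf cE39))) (BT.node 42 (BT.node 41 (BT.node 40 (BT.leaf cE40) (BT.leaf cE41)) (BT.leaf cE42)) (BT.node 43 (BT.leaf cE43) (BT.leaf cE44)))))) (BT.node 67 (BT.node 56 (BT.node 50 (BT.node 47 (BT.node 46 (BT.node 45 (BT.leaf cE45) (BT.leaf cE46)) (BT.leaf cE47)) (BT.node 49 (BT.node 48 (BT.leaf cE48) (BT.leaf cE49)) (BT.leaf cE50))) (BT.node 53 (BT.node 52 (BT.node 51 (BT.leaf cE51) (BT.leaf cE52)) (BT.leaf cE53)) (BT.node 55 (BT.node 54 (BT.leaf cE54) (BT.leaf cE55)) (BT.leaf cE56))))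 (BT.node 62 (BT.node 59 (BT.node 58 (BT.node 57 (BT.leaf cE57) (BT.leaf cE58)) (BT.leaf cE59)) (BT.node 61 (BT.node 60 (BT.leaf cE60) (BT.leaf cE61)) (BT.leaf cE62))) (BT.node 65 (BT.node 64 (BT.node 63 (BT.leaf cE63) (BT.leaf cE64)) (BT.leaf cE65)) (BT.node 66 (BT.leaf cE66) (BT.leaf cE67))))) (BT.node 78 (BT.node 73 (BT.node 70 (BT.node 69 (BT.node 68 (BT.leaf cE68) (BT.leaf cE69)) (BT.leaf cE70)) (BT.node 72 (BT.node 71 (BT.leaf cE71) (BT.leaf cE72)) (BT.leaf cE73))) (BT.node 76 (BT.node 75 (BT.node 74 (BT.leaf cE74) (BT.leaf cE75)) (BT.leaf cE76)) (BT.node 77 (BT.leaf cE77) (BT.leaf cE78)))) (BT.node 84 (BT.node 81 (BT.node 80 (BT.node 79 (BT.leaf cE79) (BT.leaf cE80)) (BT.leaf cE81)) (BT.node 83 (BT.node 82 (BT.leaf cE82) (BT.leaf cE83)) (BT.leaf cE84))) (BT.node 87 (BT.node 86 (BT.node 85 (BT.leaf cE85) (BT.leaf cE86)) (BT.leaf cE87)) (BT.node 88 (BT.leaf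 cE88) (BT.leaf cE89))))))) (BT.node 134 (BT.node 112 (BT.node 101 (BT.node 95 (BT.node 92 (BT.node 91 (BT.node 90 (BT.leaf cE90) (BT.leaf cE91)) (BT.leaf cE92)) (BT.node 94 (BT.node 93 (BT.leaf cE93) (BT.leaf cE94)) (BT.leaf cE95))) (BT.node 98 (BT.node 97 (BT.node 96 (BT.leaf cE96) (BT.leaf cE97)) (BT.leaf cE98)) (BT.node 100 (BT.node 99 (BT.leaf cE99) (BT.leaf cE100)) (BT.leaf cE101)))) (BT.node 107 (BT.node 104 (BT.node 103 (BT.node 102 (BT.leaf cE102) (BT.leaf cE103)) (BT.leaf cE104)) (BT.node 106 (BT.node 105 (BT.leaf cE105) (BT.leaf cE106)) (BT.leaf cE107))) (BT.node 110 (BT.node 109 (BT.node 108 (BT.leaf cE108) (BT.leaf cE109)) (BT.leaf cE110)) (BT.node 111 (BT.leaf cE111) (BT.leaf cE112))))) (BT.node 123 (BT.node 118 (BT.node 115 (BT.node 114 (BT.node 113 (BT.leaf cE113) (BT.leaf cE114)) (BT.leaf cE115)) (BT.node 117 (BT.node 116 (BT.leaf cE116) (BT.leaf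 cE117)) (BT.leaf cE118))) (BT.node 121 (BT.node 120 (BT.node 119 (BT.leaf cE119) (BT.leaf cE120)) (BT.leaf cE121)) (BT.node 122 (BT.leaf cE122) (BT.leaf cE123)))) (BT.node 129 (BT.node 126 (BT.node 125 (BT.node 124 (BT.leaf cE124) (BT.leaf cE125)) (BT.leaf cE126)) (BT.node 128 (BT.node 127 (BT.leaf cE127) (BT.leaf cE128)) (BT.leaf cE129))) (BT.node 132 (BT.node 131 (BT.node 130 (BT.leaf cE130) (BT.leaf cE131)) (BT.leaf cE132)) (BT.node 133 (BT.leaf cE133) (BT.leaf cE134)))))) (BT.node 156 (BT.node 145 (BT.node 140 (BT.node 137 (BT.node 136 (BT.node 135 (BT.leaf cE135) (BT.leaf cE136)) (BT.leaf cE137)) (BT.node 139 (BT.node 138 (BT.leaf cE138) (BT.leaf cE139)) (BT.leaf cE140))) (BT.node 143 (BT.node 142 (BT.node 141 (BT.leaf cE141) (BT.leaf cE142)) (BT.leaf cE143)) (BT.node 144 (BT.leaf cE144) (BT.leaf cE145)))) (BT.node 151 (BT.node 148 (BT.node 147 (BT.node 146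 (BT.leaf cE146) (BT.leaf cE147)) (BT.leaf cE148)) (BT.node 150 (BT.node 149 (BT.leaf cE149) (BT.leaf cE150)) (BT.leaf cE151))) (BT.node 154 (BT.node 153 (BT.node 152 (BT.leaf cE152) (BT.leaf cE153)) (BT.leaf cE154)) (BT.node 155 (BT.leaf cE155) (BT.leaf cE156))))) (BT.node 167 (BT.node 162 (BT.node 159 (BT.node 158 (BT.node 157 (BT.leaf cE157) (BT.leaf cE158)) (BT.leaf cE159)) (BT.node 161 (BT.node 160 (BT.leaf cE160) (BT.leaf cE161)) (BT.leaf cE162))) (BT.node 165 (BT.node 164 (BT.node 163 (BT.leaf cE163) (BT.leaf cE164)) (BT.leaf cE165)) (BT.node 166 (BT.leaf cE166) (BT.leaf cE167)))) (BT.node 173 (BT.node 170 (BT.node 169 (BT.node 168 (BT.leaf cE168) (BT.leaf cE169)) (BT.leaf cE170)) (BT.node 172 (BT.node 171 (BT.leaf cE171) (BT.leaf cE172)) (BT.leaf cE173))) (BT.node 176 (BT.node 175 (BT.node 174 (BT.leaf cE174) (BT.leaf cE175)) (BT.leaf cE176)) (BT.node 177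 (BT.leaf cE177) (BT.leaf cE178)))))))) (BT.node 267 (BT.node 223 (BT.node 201 (BT.node 190 (BT.node 184 (BT.node 181 (BT.node 180 (BT.node 179 (BT.leaf cE179) (BT.leaf cE180)) (BT.leaf cE181)) (BT.node 183 (BT.node 182 (BT.leaf cE182) (BT.leaf cE183)) (BT.leaf cE184))) (BT.node 187 (BT.node 186 (BT.node 185 (BT.leaf cE185) (BT.leaf cE186)) (BT.leaf cE187)) (BT.node 189 (BT.node 188 (BT.leaf cE188) (BT.leaf cE189)) (BT.leaf cE190)))) (BT.node 196 (BT.node 193 (BT.node 192 (BT.node 191 (BT.leaf cE191) (BT.leaf cE192)) (BT.leaf cE193)) (BT.node 195 (BT.node 194 (BT.leaf cE194) (BT.leaf cE195)) (BT.leaf cE196))) (BT.node 199 (BT.node 198 (BT.node 197 (BT.leaf cE197) (BT.leaf cE198)) (BT.leaf cE199)) (BT.node 200 (BT.leaf cE200) (BT.leaf cE201))))) (BT.node 212 (BT.node 207 (BT.node 204 (BT.node 203 (BT.node 202 (BT.leaf cE202) (BT.leaf cE203)) (BT.leaf cE204)) (BT.node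 206 (BT.node 205 (BT.leaf cE205) (BT.leaf cE206)) (BT.leaf cE207))) (BT.node 210 (BT.node 209 (BT.node 208 (BT.leaf cE208) (BT.leaf cE209)) (BT.leaf cE210)) (BT.node 211 (BT.leaf cE211) (BT.leaf cE212)))) (BT.node 218 (BT.node 215 (BT.node 214 (BT.node 213 (BT.leaf cE213) (BT.leaf cE214)) (BT.leaf cE215)) (BT.node 217 (BT.node 216 (BT.leaf cE216) (BT.leaf cE217)) (BT.leaf cE218))) (BT.node 221 (BT.node 220 (BT.node 219 (BT.leaf cE219) (BT.leaf cE220)) (BT.leaf cE221)) (BT.node 222 (BT.leaf cE222) (BT.leaf cE223)))))) (BT.node 245 (BT.node 234 (BT.node 229 (BT.node 226 (BT.node 225 (BT.node 224 (BT.leaf cE224) (BT.leaf cE225)) (BT.leaf cE226)) (BT.node 228 (BT.node 227 (BT.leaf cE227) (BT.leaf cE228)) (BT.leaf cE229))) (BT.node 232 (BT.node 231 (BT.node 230 (BT.leaf cE230) (BT.leaf cE231)) (BT.leaf cE232)) (BT.node 233 (BT.leaf cE233) (BT.leaf cE234)))) (BT.node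 240 (BT.node 237 (BT.node 236 (BT.node 235 (BT.leaf cE235) (BT.leaf cE236)) (BT.leaf cE237)) (BT.node 239 (BT.node 238 (BT.leaf cE238) (BT.leaf cE239)) (BT.leaf cE240))) (BT.node 243 (BT.node 242 (BT.node 241 (BT.leaf cE241) (BT.leaf cE242)) (BT.leaf cE243)) (BT.node 244 (BT.leaf cE244) (BT.leaf cE245))))) (BT.node 256 (BT.node 251 (BT.node 248 (BT.node 247 (BT.node 246 (BT.leaf cE246) (BT.leaf cE247)) (BT.leaf cE248)) (BT.node 250 (BT.node 249 (BT.leaf cE249) (BT.leaf cE250)) (BT.leaf cE251))) (BT.node 254 (BT.node 253 (BT.node 252 (BT.leaf cE252) (BT.leaf cE253)) (BT.leaf cE254)) (BT.node 255 (BT.leaf cE255) (BT.leaf cE256)))) (BT.node 262 (BT.node 259 (BT.node 258 (BT.node 257 (BT.leaf cE257) (BT.leaf cE258)) (BT.leaf cE259)) (BT.node 261 (BT.node 260 (BT.leaf cE260) (BT.leaf cE261)) (BT.leaf cE262))) (BT.node 265 (BT.node 264 (BT.node 263 (BT.leaf cE263) (BT.leaf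 cE264)) (BT.leaf cE265)) (BT.node 266 (BT.leaf cE266) (BT.leaf cE267))))))) (BT.node 312 (BT.node 290 (BT.node 279 (BT.node 273 (BT.node 270 (BT.node 269 (BT.node 268 (BT.leaf cE268) (BT.leaf cE269)) (BT.leaf cE270)) (BT.node 272 (BT.node 271 (BT.leaf cE271) (BT.leaf cE272)) (BT.leaf cE273))) (BT.node 276 (BT.node 275 (BT.node 274 (BT.leaf cE274) (BT.leaf cE275)) (BT.leaf cE276)) (BT.node 278 (BT.node 277 (BT.leaf cE277) (BT.leaf cE278)) (BT.leaf cE279)))) (BT.node 285 (BT.node 282 (BT.node 281 (BT.node 280 (BT.leaf cE280) (BT.leaf cE281)) (BT.leaf cE282)) (BT.node 284 (BT.node 283 (BT.leaf cE283) (BT.leaf cE284)) (BT.leaf cE285))) (BT.node 288 (BT.node 287 (BT.node 286 (BT.leaf cE286) (BT.leaf cE287)) (BT.leaf cE288)) (BT.node 289 (BT.leaf cE289) (BT.leaf cE290))))) (BT.node 301 (BT.node 296 (BT.node 293 (BT.node 292 (BT.node 291 (BT.leaf cE291) (BT.leaf cE292))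 (BT.leaf cE293)) (BT.node 295 (BT.node 294 (BT.leaf cE294) (BT.leaf cE295)) (BT.leaf cE296))) (BT.node 299 (BT.node 298 (BT.node 297 (BT.leaf cE297) (BT.leaf cE298)) (BT.leaf cE299)) (BT.node 300 (BT.leaf cE300) (BT.leaf cE301)))) (BT.node 307 (BT.node 304 (BT.node 303 (BT.node 302 (BT.leaf cE302) (BT.leaf cE303)) (BT.leaf cE304)) (BT.node 306 (BT.node 305 (BT.leaf cE305) (BT.leaf cE306)) (BT.leaf cE307))) (BT.node 310 (BT.node 309 (BT.node 308 (BT.leaf cE308) (BT.leaf cE309)) (BT.leaf cE310)) (BT.node 311 (BT.leaf cE311) (BT.leaf cE312)))))) (BT.node 334 (BT.node 323 (BT.node 318 (BT.node 315 (BT.node 314 (BT.node 313 (BT.leaf cE313) (BT.leaf cE314)) (BT.leaf cE315)) (BT.node 317 (BT.node 316 (BT.leaf cE316) (BT.leaf cE317)) (BT.leaf cE318))) (BT.node 321 (BT.node 320 (BT.node 319 (BT.leaf cE319) (BT.leaf cE320)) (BT.leaf cE321)) (BT.node 322 (BT.leaf cE322) (BT.leaf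 cE323)))) (BT.node 329 (BT.node 326 (BT.node 325 (BT.node 324 (BT.leaf cE324) (BT.leaf cE325)) (BT.leaf cE326)) (BT.node 328 (BT.node 327 (BT.leaf cE327) (BT.leaf cE328)) (BT.leaf cE329))) (BT.node 332 (BT.node 331 (BT.node 330 (BT.leaf cE330) (BT.leaf cE331)) (BT.leaf cE332)) (BT.node 333 (BT.leaf cE333) (BT.leaf cE334))))) (BT.node 345 (BT.node 340 (BT.node 337 (BT.node 336 (BT.node 335 (BT.leaf cE335) (BT.leaf cE336)) (BT.leaf cE337)) (BT.node 339 (BT.node 338 (BT.leaf cE338) (BT.leaf cE339)) (BT.leaf cE340))) (BT.node 343 (BT.node 342 (BT.node 341 (BT.leaf cE341) (BT.leaf cE342)) (BT.leaf cE343)) (BT.node 344 (BT.leaf cE344) (BT.leaf cE345)))) (BT.node 351 (BT.node 348 (BT.node 347 (BT.node 346 (BT.leaf cE346) (BT.leaf cE347)) (BT.leaf cE348)) (BT.node 350 (BT.node 349 (BT.leaf cE349) (BT.leaf cE350)) (BT.leaf cE351))) (BT.node 354 (BT.node 353 (BT.node 352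 (BT.leaf cE352) (BT.leaf cE353)) (BT.leaf cE354)) (BT.node 355 (BT.leaf cE355) (BT.leaf cE356))))))))) (BT.node 535 (BT.node 446 (BT.node 401 (BT.node 379 (BT.node 368 (BT.node 362 (BT.node 359 (BT.node 358 (BT.node 357 (BT.leaf cE357) (BT.leaf cE358)) (BT.leaf cE359)) (BT.node 361 (BT.node 360 (BT.leaf cE360) (BT.leaf cE361)) (BT.leaf cE362))) (BT.node 365 (BT.node 364 (BT.node 363 (BT.leaf cE363) (BT.leaf cE364)) (BT.leaf cE365)) (BT.node 367 (BT.node 366 (BT.leaf cE366) (BT.leaf cE367)) (BT.leaf cE368)))) (BT.node 374 (BT.node 371 (BT.node 370 (BT.node 369 (BT.leaf cE369) (BT.leaf cE370)) (BT.leaf cE371)) (BT.node 373 (BT.node 372 (BT.leaf cE372) (BT.leaf cE373)) (BT.leaf cE374))) (BT.node 377 (BT.node 376 (BT.node 375 (BT.leaf cE375) (BT.leaf cE376)) (BT.leaf cE377)) (BT.node 378 (BT.leaf cE378) (BT.leaf cE379))))) (BT.node 390 (BT.node 385 (BT.node 382 (BT.node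 381 (BT.node 380 (BT.leaf cE380) (BT.leaf cE381)) (BT.leaf cE382)) (BT.node 384 (BT.node 383 (BT.leaf cE383) (BT.leaf cE384)) (BT.leaf cE385))) (BT.node 388 (BT.node 387 (BT.node 386 (BT.leaf cE386) (BT.leaf cE387)) (BT.leaf cE388)) (BT.node 389 (BT.leaf cE389) (BT.leaf cE390)))) (BT.node 396 (BT.node 393 (BT.node 392 (BT.node 391 (BT.leaf cE391) (BT.leaf cE392)) (BT.leaf cE393)) (BT.node 395 (BT.node 394 (BT.leaf cE394) (BT.leaf cE395)) (BT.leaf cE396))) (BT.node 399 (BT.node 398 (BT.node 397 (BT.leaf cE397) (BT.leaf cE398)) (BT.leaf cE399)) (BT.node 400 (BT.leaf cE400) (BT.leaf cE401)))))) (BT.node 424 (BT.node 413 (BT.node 407 (BT.node 404 (BT.node 403 (BT.node 402 (BT.leaf cE402) (BT.leaf cE403)) (BT.leaf cE404)) (BT.node 406 (BT.node 405 (BT.leaf cE405) (BT.leaf cE406)) (BT.leaf cE407))) (BT.node 410 (BT.node 409 (BT.node 408 (BT.leaf cE408) (BT.leaf cE409))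 (BT.leaf cE410)) (BT.node 412 (BT.node 411 (BT.leaf cE411) (BT.leaf cE412)) (BT.leaf cE413)))) (BT.node 419 (BT.node 416 (BT.node 415 (BT.node 414 (BT.leaf cE414) (BT.leaf cE415)) (BT.leaf cE416)) (BT.node 418 (BT.node 417 (BT.leaf cE417) (BT.leaf cE418)) (BT.leaf cE419))) (BT.node 422 (BT.node 421 (BT.node 420 (BT.leaf cE420) (BT.leaf cE421)) (BT.leaf cE422)) (BT.node 423 (BT.leaf cE423) (BT.leaf cE424))))) (BT.node 435 (BT.node 430 (BT.node 427 (BT.node 426 (BT.node 425 (BT.leaf cE425) (BT.leaf cE426)) (BT.leaf cE427)) (BT.node 429 (BT.node 428 (BT.leaf cE428) (BT.leaf cE429)) (BT.leaf cE430))) (BT.node 433 (BT.node 432 (BT.node 431 (BT.leaf cE431) (BT.leaf cE432)) (BT.leaf cE433)) (BT.node 434 (BT.leaf cE434) (BT.leaf cE435)))) (BT.node 441 (BT.node 438 (BT.node 437 (BT.node 436 (BT.leaf cE436) (BT.leaf cE437)) (BT.leaf cE438)) (BT.node 440 (BT.node 439 (BT.leaf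 cE439) (BT.leaf cE440)) (BT.leaf cE441))) (BT.node 444 (BT.node 443 (BT.node 442 (BT.leaf cE442) (BT.leaf cE443)) (BT.leaf cE444)) (BT.node 445 (BT.leaf cE445) (BT.leaf cE446))))))) (BT.node 491 (BT.node 469 (BT.node 458 (BT.node 452 (BT.node 449 (BT.node 448 (BT.node 447 (BT.leaf cE447) (BT.leaf cE448)) (BT.leaf cE449)) (BT.node 451 (BT.node 450 (BT.leaf cE450) (BT.leaf cE451)) (BT.leaf cE452))) (BT.node 455 (BT.node 454 (BT.node 453 (BT.leaf cE453) (BT.leaf cE454)) (BT.leaf cE455)) (BT.node 457 (BT.node 456 (BT.leaf cE456) (BT.leaf cE457)) (BT.leaf cE458)))) (BT.node 464 (BT.node 461 (BT.node 460 (BT.node 459 (BT.leaf cE459) (BT.leaf cE460)) (BT.leaf cE461)) (BT.node 463 (BT.node 462 (BT.leaf cE462) (BT.leaf cE463)) (BT.leaf cE464))) (BT.node 467 (BT.node 466 (BT.node 465 (BT.leaf cE465) (BT.leaf cE466)) (BT.leaf cE467)) (BT.node 468 (BT.leaf cE468) (BT.leaf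 cE469))))) (BT.node 480 (BT.node 475 (BT.node 472 (BT.node 471 (BT.node 470 (BT.leaf cE470) (BT.leaf cE471)) (BT.leaf cE472)) (BT.node 474 (BT.node 473 (BT.leaf cE473) (BT.leaf cE474)) (BT.leaf cE475))) (BT.node 478 (BT.node 477 (BT.node 476 (BT.leaf cE476) (BT.leaf cE477)) (BT.leaf cE478)) (BT.node 479 (BT.leaf cE479) (BT.leaf cE480)))) (BT.node 486 (BT.node 483 (BT.node 482 (BT.node 481 (BT.leaf cE481) (BT.leaf cE482)) (BT.leaf cE483)) (BT.node 485 (BT.node 484 (BT.leaf cE484) (BT.leaf cE485)) (BT.leaf cE486))) (BT.node 489 (BT.node 488 (BT.node 487 (BT.leaf cE487) (BT.leaf cE488)) (BT.leaf cE489)) (BT.node 490 (BT.leaf cE490) (BT.leaf cE491)))))) (BT.node 513 (BT.node 502 (BT.node 497 (BT.node 494 (BT.node 493 (BT.node 492 (BT.leaf cE492) (BT.leaf cE493)) (BT.leaf cE494)) (BT.node 496 (BT.node 495 (BT.leaf cE495) (BT.leaf cE496)) (BT.leaf cE497))) (BT.node 500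 (BT.node 499 (BT.node 498 (BT.leaf cE498) (BT.leaf cE499)) (BT.leaf cE500)) (BT.node 501 (BT.leaf cE501) (BT.leaf cE502)))) (BT.node 508 (BT.node 505 (BT.node 504 (BT.node 503 (BT.leaf cE503) (BT.leaf cE504)) (BT.leaf cE505)) (BT.node 507 (BT.node 506 (BT.leaf cE506) (BT.leaf cE507)) (BT.leaf cE508))) (BT.node 511 (BT.node 510 (BT.node 509 (BT.leaf cE509) (BT.leaf cE510)) (BT.leaf cE511)) (BT.node 512 (BT.leaf cE512) (BT.leaf cE513))))) (BT.node 524 (BT.node 519 (BT.node 516 (BT.node 515 (BT.node 514 (BT.leaf cE514) (BT.leaf cE515)) (BT.leaf cE516)) (BT.node 518 (BT.node 517 (BT.leaf cE517) (BT.leaf cE518)) (BT.leaf cE519))) (BT.node 522 (BT.node 521 (BT.node 520 (BT.leaf cE520) (BT.leaf cE521)) (BT.leaf cE522)) (BT.node 523 (BT.leaf cE523) (BT.leaf cE524)))) (BT.node 530 (BT.node 527 (BT.node 526 (BT.node 525 (BT.leaf cE525) (BT.leaf cE526)) (BT.leaf cE527)) (BT.node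 529 (BT.node 528 (BT.leaf cE528) (BT.leaf cE529)) (BT.leaf cE530))) (BT.node 533 (BT.node 532 (BT.node 531 (BT.leaf cE531) (BT.leaf cE532)) (BT.leaf cE533)) (BT.node 534 (BT.leaf cE534) (BT.leaf cE535)))))))) (BT.node 624 (BT.node 580 (BT.node 558 (BT.node 547 (BT.node 541 (BT.node 538 (BT.node 537 (BT.node 536 (BT.leaf cE536) (BT.leaf cE537)) (BT.leaf cE538)) (BT.node 540 (BT.node 539 (BT.leaf cE539) (BT.leaf cE540)) (BT.leaf cE541))) (BT.node 544 (BT.node 543 (BT.node 542 (BT.leaf cE542) (BT.leaf cE543)) (BT.leaf cE544)) (BT.node 546 (BT.node 545 (BT.leaf cE545) (BT.leaf cE546)) (BT.leaf cE547)))) (BT.node 553 (BT.node 550 (BT.node 549 (BT.node 548 (BT.leaf cE548) (BT.leaf cE549)) (BT.leaf cE550)) (BT.node 552 (BT.node 551 (BT.leaf cE551) (BT.leaf cE552)) (BT.leaf cE553))) (BT.node 556 (BT.node 555 (BT.node 554 (BT.leaf cE554) (BT.leaf cE555)) (BT.leaf cE556))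 (BT.node 557 (BT.leaf cE557) (BT.leaf cE558))))) (BT.node 569 (BT.node 564 (BT.node 561 (BT.node 560 (BT.node 559 (BT.leaf cE559) (BT.leaf cE560)) (BT.leaf cE561)) (BT.node 563 (BT.node 562 (BT.leaf cE562) (BT.leaf cE563)) (BT.leaf cE564))) (BT.node 567 (BT.node 566 (BT.node 565 (BT.leaf cE565) (BT.leaf cE566)) (BT.leaf cE567)) (BT.node 568 (BT.leaf cE568) (BT.leaf cE569)))) (BT.node 575 (BT.node 572 (BT.node 571 (BT.node 570 (BT.leaf cE570) (BT.leaf cE571)) (BT.leaf cE572)) (BT.node 574 (BT.node 573 (BT.leaf cE573) (BT.leaf cE574)) (BT.leaf cE575))) (BT.node 578 (BT.node 577 (BT.node 576 (BT.leaf cE576) (BT.leaf cE577)) (BT.leaf cE578)) (BT.node 579 (BT.leaf cE579) (BT.leaf cE580)))))) (BT.node 602 (BT.node 591 (BT.node 586 (BT.node 583 (BT.node 582 (BT.node 581 (BT.leaf cE581) (BT.leaf cE582)) (BT.leaf cE583)) (BT.node 585 (BT.node 584 (BT.leaf cE584) (BT.leaf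 cE585)) (BT.leaf cE586))) (BT.node 589 (BT.node 588 (BT.node 587 (BT.leaf cE587) (BT.leaf cE588)) (BT.leaf cE589)) (BT.node 590 (BT.leaf cE590) (BT.leaf cE591)))) (BT.node 597 (BT.node 594 (BT.node 593 (BT.node 592 (BT.leaf cE592) (BT.leaf cE593)) (BT.leaf cE594)) (BT.node 596 (BT.node 595 (BT.leaf cE595) (BT.leaf cE596)) (BT.leaf cE597))) (BT.node 600 (BT.node 599 (BT.node 598 (BT.leaf cE598) (BT.leaf cE599)) (BT.leaf cE600)) (BT.node 601 (BT.leaf cE601) (BT.leaf cE602))))) (BT.node 613 (BT.node 608 (BT.node 605 (BT.node 604 (BT.node 603 (BT.leaf cE603) (BT.leaf cE604)) (BT.leaf cE605)) (BT.node 607 (BT.node 606 (BT.leaf cE606) (BT.leaf cE607)) (BT.leaf cE608))) (BT.node 611 (BT.node 610 (BT.node 609 (BT.leaf cE609) (BT.leaf cE610)) (BT.leaf cE611)) (BT.node 612 (BT.leaf cE612) (BT.leaf cE613)))) (BT.node 619 (BT.node 616 (BT.node 615 (BT.node 614 (BT.leaf cE614)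 (BT.leaf cE615)) (BT.leaf cE616)) (BT.node 618 (BT.node 617 (BT.leaf cE617) (BT.leaf cE618)) (BT.leaf cE619))) (BT.node 622 (BT.node 621 (BT.node 620 (BT.leaf cE620) (BT.leaf cE621)) (BT.leaf cE622)) (BT.node 623 (BT.leaf cE623) (BT.leaf cE624))))))) (BT.node 669 (BT.node 647 (BT.node 636 (BT.node 630 (BT.node 627 (BT.node 626 (BT.node 625 (BT.leaf cE625) (BT.leaf cE626)) (BT.leaf cE627)) (BT.node 629 (BT.node 628 (BT.leaf cE628) (BT.leaf cE629)) (BT.leaf cE630))) (BT.node 633 (BT.node 632 (BT.node 631 (BT.leaf cE631) (BT.leaf cE632)) (BT.leaf cE633)) (BT.node 635 (BT.node 634 (BT.leaf cE634) (BT.leaf cE635)) (BT.leaf cE636)))) (BT.node 642 (BT.node 639 (BT.node 638 (BT.node 637 (BT.leaf cE637) (BT.leaf cE638)) (BT.leaf cE639)) (BT.node 641 (BT.node 640 (BT.leaf cE640) (BT.leaf cE641)) (BT.leaf cE642))) (BT.node 645 (BT.node 644 (BT.node 643 (BT.leaf cE643) (BT.leaf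 cE644)) (BT.leaf cE645)) (BT.node 646 (BT.leaf cE646) (BT.leaf cE647))))) (BT.node 658 (BT.node 653 (BT.node 650 (BT.node 649 (BT.node 648 (BT.leaf cE648) (BT.leaf cE649)) (BT.leaf cE650)) (BT.node 652 (BT.node 651 (BT.leaf cE651) (BT.leaf cE652)) (BT.leaf cE653))) (BT.node 656 (BT.node 655 (BT.node 654 (BT.leaf cE654) (BT.leaf cE655)) (BT.leaf cE656)) (BT.node 657 (BT.leaf cE657) (BT.leaf cE658)))) (BT.node 664 (BT.node 661 (BT.node 660 (BT.node 659 (BT.leaf cE659) (BT.leaf cE660)) (BT.leaf cE661)) (BT.node 663 (BT.node 662 (BT.leaf cE662) (BT.leaf cE663)) (BT.leaf cE664))) (BT.node 667 (BT.node 666 (BT.node 665 (BT.leaf cE665) (BT.leaf cE666)) (BT.leaf cE667)) (BT.node 668 (BT.leaf cE668) (BT.leaf cE669)))))) (BT.node 691 (BT.node 680 (BT.node 675 (BT.node 672 (BT.node 671 (BT.node 670 (BT.leaf cE670) (BT.leaf cE671)) (BT.leaf cE672)) (BT.node 674 (BT.node 673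 (BT.leaf cE673) (BT.leaf cE674)) (BT.leaf cE675))) (BT.node 678 (BT.node 677 (BT.node 676 (BT.leaf cE676) (BT.leaf cE677)) (BT.leaf cE678)) (BT.node 679 (BT.leaf cE679) (BT.leaf cE680)))) (BT.node 686 (BT.node 683 (BT.node 682 (BT.node 681 (BT.leaf cE681) (BT.leaf cE682)) (BT.leaf cE683)) (BT.node 685 (BT.node 684 (BT.leaf cE684) (BT.leaf cE685)) (BT.leaf cE686))) (BT.node 689 (BT.node 688 (BT.node 687 (BT.leaf cE687) (BT.leaf cE688)) (BT.leaf cE689)) (BT.node 690 (BT.leaf cE690) (BT.leaf cE691))))) (BT.node 702 (BT.node 697 (BT.node 694 (BT.node 693 (BT.node 692 (BT.leaf cE692) (BT.leaf cE693)) (BT.leaf cE694)) (BT.node 696 (BT.node 695 (BT.leaf cE695) (BT.leaf cE696)) (BT.leaf cE697))) (BT.node 700 (BT.node 699 (BT.node 698 (BT.leaf cE698) (BT.leaf cE699)) (BT.leaf cE700)) (BT.node 701 (BT.leaf cE701) (BT.leaf cE702)))) (BT.node 708 (BT.node 705 (BT.node 704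 (BT.node 703 (BT.leaf cE703) (BT.leaf cE704)) (BT.leaf cE705)) (BT.node 707 (BT.node 706 (BT.leaf cE706) (BT.leaf cE707)) (BT.leaf cE708))) (BT.node 711 (BT.node 710 (BT.node 709 (BT.leaf cE709) (BT.leaf cE710)) (BT.leaf cE711)) (BT.node 712 (BT.leaf cE712) (BT.leaf cE713))))))))))
/-- justification chunks -/
def colJT : BT ℕ := (BT.node 356 (BT.node 178 (BT.node 89 (BT.node 44 (BT.node 22 (BT.node 11 (BT.node 5 (BT.node 2 (BT.node 1 (BT.node 0 (BT.leaf cJ0) (BT.leaf cJ1)) (BT.leaf cJ2)) (BT.node 4 (BT.node 3 (BT.leaf cJ3) (BT.leaf cJ4)) (BT.leaf cJ5))) (BT.node 8 (BT.node 7 (BT.node 6 (BT.leaf cJ6) (BT.leaf cJ7)) (BT.leaf cJ8)) (BT.node 10 (BT.node 9 (BT.leaf cJ9) (BT.leaf cJ10)) (BT.leaf cJ11)))) (BT.node 17 (BT.node 14 (BT.node 13 (BT.node 12 (BT.leaf cJ12) (BT.leaf cJ13)) (BT.leaf cJ14)) (BT.node 16 (BT.node 15 (BT.leaf cJ15) (BT.leaf cJ16)) (BT.leaf cJ17)))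 (BT.node 20 (BT.node 19 (BT.node 18 (BT.leaf cJ18) (BT.leaf cJ19)) (BT.leaf cJ20)) (BT.node 21 (BT.leaf cJ21) (BT.leaf cJ22))))) (BT.node 33 (BT.node 28 (BT.node 25 (BT.node 24 (BT.node 23 (BT.leaf cJ23) (BT.leaf cJ24)) (BT.leaf cJ25)) (BT.node 27 (BT.node 26 (BT.leaf cJ26) (BT.leaf cJ27)) (BT.leaf cJ28))) (BT.node 31 (BT.node 30 (BT.node 29 (BT.leaf cJ29) (BT.leaf cJ30)) (BT.leaf cJ31)) (BT.node 32 (BT.leaf cJ32) (BT.leaf cJ33)))) (BT.node 39 (BT.node 36 (BT.node 35 (BT.node 34 (BT.leaf cJ34) (BT.leaf cJ35)) (BT.leaf cJ36)) (BT.node 38 (BT.node 37 (BT.leaf cJ37) (BT.leaf cJ38)) (BT.leaf cJ39))) (BT.node 42 (BT.node 41 (BT.node 40 (BT.leaf cJ40) (BT.leaf cJ41)) (BT.leaf cJ42)) (BT.node 43 (BT.leaf cJ43) (BT.leaf cJ44)))))) (BT.node 67 (BT.node 56 (BT.node 50 (BT.node 47 (BT.node 46 (BT.node 45 (BT.leaf cJ45) (BT.leaf cJ46)) (BT.leaf cJ47)) (BT.node 49 (BT.node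 48 (BT.leaf cJ48) (BT.leaf cJ49)) (BT.leaf cJ50))) (BT.node 53 (BT.node 52 (BT.node 51 (BT.leaf cJ51) (BT.leaf cJ52)) (BT.leaf cJ53)) (BT.node 55 (BT.node 54 (BT.leaf cJ54) (BT.leaf cJ55)) (BT.leaf cJ56)))) (BT.node 62 (BT.node 59 (BT.node 58 (BT.node 57 (BT.leaf cJ57) (BT.leaf cJ58)) (BT.leaf cJ59)) (BT.node 61 (BT.node 60 (BT.leaf cJ60) (BT.leaf cJ61)) (BT.leaf cJ62))) (BT.node 65 (BT.node 64 (BT.node 63 (BT.leaf cJ63) (BT.leaf cJ64)) (BT.leaf cJ65)) (BT.node 66 (BT.leaf cJ66) (BT.leaf cJ67))))) (BT.node 78 (BT.node 73 (BT.node 70 (BT.node 69 (BT.node 68 (BT.leaf cJ68) (BT.leaf cJ69)) (BT.leaf cJ70)) (BT.node 72 (BT.node 71 (BT.leaf cJ71) (BT.leaf cJ72)) (BT.leaf cJ73))) (BT.node 76 (BT.node 75 (BT.node 74 (BT.leaf cJ74) (BT.leaf cJ75)) (BT.leaf cJ76)) (BT.node 77 (BT.leaf cJ77) (BT.leaf cJ78)))) (BT.node 84 (BT.node 81 (BT.node 80 (BT.node 79 (BT.leaf cJ79)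 (BT.leaf cJ80)) (BT.leaf cJ81)) (BT.node 83 (BT.node 82 (BT.leaf cJ82) (BT.leaf cJ83)) (BT.leaf cJ84))) (BT.node 87 (BT.node 86 (BT.node 85 (BT.leaf cJ85) (BT.leaf cJ86)) (BT.leaf cJ87)) (BT.node 88 (BT.leaf cJ88) (BT.leaf cJ89))))))) (BT.node 134 (BT.node 112 (BT.node 101 (BT.node 95 (BT.node 92 (BT.node 91 (BT.node 90 (BT.leaf cJ90) (BT.leaf cJ91)) (BT.leaf cJ92)) (BT.node 94 (BT.node 93 (BT.leaf cJ93) (BT.leaf cJ94)) (BT.leaf cJ95))) (BT.node 98 (BT.node 97 (BT.node 96 (BT.leaf cJ96) (BT.leaf cJ97)) (BT.leaf cJ98)) (BT.node 100 (BT.node 99 (BT.leaf cJ99) (BT.leaf cJ100)) (BT.leaf cJ101)))) (BT.node 107 (BT.node 104 (BT.node 103 (BT.node 102 (BT.leaf cJ102) (BT.leaf cJ103)) (BT.leaf cJ104)) (BT.node 106 (BT.node 105 (BT.leaf cJ105) (BT.leaf cJ106)) (BT.leaf cJ107))) (BT.node 110 (BT.node 109 (BT.node 108 (BT.leaf cJ108) (BT.leaf cJ109)) (BT.leaf cJ110)) (BT.node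 111 (BT.leaf cJ111) (BT.leaf cJ112))))) (BT.node 123 (BT.node 118 (BT.node 115 (BT.node 114 (BT.node 113 (BT.leaf cJ113) (BT.leaf cJ114)) (BT.leaf cJ115)) (BT.node 117 (BT.node 116 (BT.leaf cJ116) (BT.leaf cJ117)) (BT.leaf cJ118))) (BT.node 121 (BT.node 120 (BT.node 119 (BT.leaf cJ119) (BT.leaf cJ120)) (BT.leaf cJ121)) (BT.node 122 (BT.leaf cJ122) (BT.leaf cJ123)))) (BT.node 129 (BT.node 126 (BT.node 125 (BT.node 124 (BT.leaf cJ124) (BT.leaf cJ125)) (BT.leaf cJ126)) (BT.node 128 (BT.node 127 (BT.leaf cJ127) (BT.leaf cJ128)) (BT.leaf cJ129))) (BT.node 132 (BT.node 131 (BT.node 130 (BT.leaf cJ130) (BT.leaf cJ131)) (BT.leaf cJ132)) (BT.node 133 (BT.leaf cJ133) (BT.leaf cJ134)))))) (BT.node 156 (BT.node 145 (BT.node 140 (BT.node 137 (BT.node 136 (BT.node 135 (BT.leaf cJ135) (BT.leaf cJ136)) (BT.leaf cJ137)) (BT.node 139 (BT.node 138 (BT.leaf cJ138) (BT.leaf cJ139))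 (BT.leaf cJ140))) (BT.node 143 (BT.node 142 (BT.node 141 (BT.leaf cJ141) (BT.leaf cJ142)) (BT.leaf cJ143)) (BT.node 144 (BT.leaf cJ144) (BT.leaf cJ145)))) (BT.node 151 (BT.node 148 (BT.node 147 (BT.node 146 (BT.leaf cJ146) (BT.leaf cJ147)) (BT.leaf cJ148)) (BT.node 150 (BT.node 149 (BT.leaf cJ149) (BT.leaf cJ150)) (BT.leaf cJ151))) (BT.node 154 (BT.node 153 (BT.node 152 (BT.leaf cJ152) (BT.leaf cJ153)) (BT.leaf cJ154)) (BT.node 155 (BT.leaf cJ155) (BT.leaf cJ156))))) (BT.node 167 (BT.node 162 (BT.node 159 (BT.node 158 (BT.node 157 (BT.leaf cJ157) (BT.leaf cJ158)) (BT.leaf cJ159)) (BT.node 161 (BT.node 160 (BT.leaf cJ160) (BT.leaf cJ161)) (BT.leaf cJ162))) (BT.node 165 (BT.node 164 (BT.node 163 (BT.leaf cJ163) (BT.leaf cJ164)) (BT.leaf cJ165)) (BT.node 166 (BT.leaf cJ166) (BT.leaf cJ167)))) (BT.node 173 (BT.node 170 (BT.node 169 (BT.node 168 (BT.leaf cJ168) (BT.leaf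 cJ169)) (BT.leaf cJ170)) (BT.node 172 (BT.node 171 (BT.leaf cJ171) (BT.leaf cJ172)) (BT.leaf cJ173))) (BT.node 176 (BT.node 175 (BT.node 174 (BT.leaf cJ174) (BT.leaf cJ175)) (BT.leaf cJ176)) (BT.node 177 (BT.leaf cJ177) (BT.leaf cJ178)))))))) (BT.node 267 (BT.node 223 (BT.node 201 (BT.node 190 (BT.node 184 (BT.node 181 (BT.node 180 (BT.node 179 (BT.leaf cJ179) (BT.leaf cJ180)) (BT.leaf cJ181)) (BT.node 183 (BT.node 182 (BT.leaf cJ182) (BT.leaf cJ183)) (BT.leaf cJ184))) (BT.node 187 (BT.node 186 (BT.node 185 (BT.leaf cJ185) (BT.leaf cJ186)) (BT.leaf cJ187)) (BT.node 189 (BT.node 188 (BT.leaf cJ188) (BT.leaf cJ189)) (BT.leaf cJ190)))) (BT.node 196 (BT.node 193 (BT.node 192 (BT.node 191 (BT.leaf cJ191) (BT.leaf cJ192)) (BT.leaf cJ193)) (BT.node 195 (BT.node 194 (BT.leaf cJ194) (BT.leaf cJ195)) (BT.leaf cJ196))) (BT.node 199 (BT.node 198 (BT.node 197 (BT.leaf cJ197)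 (BT.leaf cJ198)) (BT.leaf cJ199)) (BT.node 200 (BT.leaf cJ200) (BT.leaf cJ201))))) (BT.node 212 (BT.node 207 (BT.node 204 (BT.node 203 (BT.node 202 (BT.leaf cJ202) (BT.leaf cJ203)) (BT.leaf cJ204)) (BT.node 206 (BT.node 205 (BT.leaf cJ205) (BT.leaf cJ206)) (BT.leaf cJ207))) (BT.node 210 (BT.node 209 (BT.node 208 (BT.leaf cJ208) (BT.leaf cJ209)) (BT.leaf cJ210)) (BT.node 211 (BT.leaf cJ211) (BT.leaf cJ212)))) (BT.node 218 (BT.node 215 (BT.node 214 (BT.node 213 (BT.leaf cJ213) (BT.leaf cJ214)) (BT.leaf cJ215)) (BT.node 217 (BT.node 216 (BT.leaf cJ216) (BT.leaf cJ217)) (BT.leaf cJ218))) (BT.node 221 (BT.node 220 (BT.node 219 (BT.leaf cJ219) (BT.leaf cJ220)) (BT.leaf cJ221)) (BT.node 222 (BT.leaf cJ222) (BT.leaf cJ223)))))) (BT.node 245 (BT.node 234 (BT.node 229 (BT.node 226 (BT.node 225 (BT.node 224 (BT.leaf cJ224) (BT.leaf cJ225)) (BT.leaf cJ226)) (BT.node 228 (BT.node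 227 (BT.leaf cJ227) (BT.leaf cJ228)) (BT.leaf cJ229))) (BT.node 232 (BT.node 231 (BT.node 230 (BT.leaf cJ230) (BT.leaf cJ231)) (BT.leaf cJ232)) (BT.node 233 (BT.leaf cJ233) (BT.leaf cJ234)))) (BT.node 240 (BT.node 237 (BT.node 236 (BT.node 235 (BT.leaf cJ235) (BT.leaf cJ236)) (BT.leaf cJ237)) (BT.node 239 (BT.node 238 (BT.leaf cJ238) (BT.leaf cJ239)) (BT.leaf cJ240))) (BT.node 243 (BT.node 242 (BT.node 241 (BT.leaf cJ241) (BT.leaf cJ242)) (BT.leaf cJ243)) (BT.node 244 (BT.leaf cJ244) (BT.leaf cJ245))))) (BT.node 256 (BT.node 251 (BT.node 248 (BT.node 247 (BT.node 246 (BT.leaf cJ246) (BT.leaf cJ247)) (BT.leaf cJ248)) (BT.node 250 (BT.node 249 (BT.leaf cJ249) (BT.leaf cJ250)) (BT.leaf cJ251))) (BT.node 254 (BT.node 253 (BT.node 252 (BT.leaf cJ252) (BT.leaf cJ253)) (BT.leaf cJ254)) (BT.node 255 (BT.leaf cJ255) (BT.leaf cJ256)))) (BT.node 262 (BT.node 259 (BT.node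 258 (BT.node 257 (BT.leaf cJ257) (BT.leaf cJ258)) (BT.leaf cJ259)) (BT.node 261 (BT.node 260 (BT.leaf cJ260) (BT.leaf cJ261)) (BT.leaf cJ262))) (BT.node 265 (BT.node 264 (BT.node 263 (BT.leaf cJ263) (BT.leaf cJ264)) (BT.leaf cJ265)) (BT.node 266 (BT.leaf cJ266) (BT.leaf cJ267))))))) (BT.node 312 (BT.node 290 (BT.node 279 (BT.node 273 (BT.node 270 (BT.node 269 (BT.node 268 (BT.leaf cJ268) (BT.leaf cJ269)) (BT.leaf cJ270)) (BT.node 272 (BT.node 271 (BT.leaf cJ271) (BT.leaf cJ272)) (BT.leaf cJ273))) (BT.node 276 (BT.node 275 (BT.node 274 (BT.leaf cJ274) (BT.leaf cJ275)) (BT.leaf cJ276)) (BT.node 278 (BT.node 277 (BT.leaf cJ277) (BT.leaf cJ278)) (BT.leaf cJ279)))) (BT.node 285 (BT.node 282 (BT.node 281 (BT.node 280 (BT.leaf cJ280) (BT.leaf cJ281)) (BT.leaf cJ282)) (BT.node 284 (BT.node 283 (BT.leaf cJ283) (BT.leaf cJ284)) (BT.leaf cJ285))) (BT.node 288 (BT.node 287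 (BT.node 286 (BT.leaf cJ286) (BT.leaf cJ287)) (BT.leaf cJ288)) (BT.node 289 (BT.leaf cJ289) (BT.leaf cJ290))))) (BT.node 301 (BT.node 296 (BT.node 293 (BT.node 292 (BT.node 291 (BT.leaf cJ291) (BT.leaf cJ292)) (BT.leaf cJ293)) (BT.node 295 (BT.node 294 (BT.leaf cJ294) (BT.leaf cJ295)) (BT.leaf cJ296))) (BT.node 299 (BT.node 298 (BT.node 297 (BT.leaf cJ297) (BT.leaf cJ298)) (BT.leaf cJ299)) (BT.node 300 (BT.leaf cJ300) (BT.leaf cJ301)))) (BT.node 307 (BT.node 304 (BT.node 303 (BT.node 302 (BT.leaf cJ302) (BT.leaf cJ303)) (BT.leaf cJ304)) (BT.node 306 (BT.node 305 (BT.leaf cJ305) (BT.leaf cJ306)) (BT.leaf cJ307))) (BT.node 310 (BT.node 309 (BT.node 308 (BT.leaf cJ308) (BT.leaf cJ309)) (BT.leaf cJ310)) (BT.node 311 (BT.leaf cJ311) (BT.leaf cJ312)))))) (BT.node 334 (BT.node 323 (BT.node 318 (BT.node 315 (BT.node 314 (BT.node 313 (BT.leaf cJ313) (BT.leaf cJ314)) (BT.leaf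 cJ315)) (BT.node 317 (BT.node 316 (BT.leaf cJ316) (BT.leaf cJ317)) (BT.leaf cJ318))) (BT.node 321 (BT.node 320 (BT.node 319 (BT.leaf cJ319) (BT.leaf cJ320)) (BT.leaf cJ321)) (BT.node 322 (BT.leaf cJ322) (BT.leaf cJ323)))) (BT.node 329 (BT.node 326 (BT.node 325 (BT.node 324 (BT.leaf cJ324) (BT.leaf cJ325)) (BT.leaf cJ326)) (BT.node 328 (BT.node 327 (BT.leaf cJ327) (BT.leaf cJ328)) (BT.leaf cJ329))) (BT.node 332 (BT.node 331 (BT.node 330 (BT.leaf cJ330) (BT.leaf cJ331)) (BT.leaf cJ332)) (BT.node 333 (BT.leaf cJ333) (BT.leaf cJ334))))) (BT.node 345 (BT.node 340 (BT.node 337 (BT.node 336 (BT.node 335 (BT.leaf cJ335) (BT.leaf cJ336)) (BT.leaf cJ337)) (BT.node 339 (BT.node 338 (BT.leaf cJ338) (BT.leaf cJ339)) (BT.leaf cJ340))) (BT.node 343 (BT.node 342 (BT.node 341 (BT.leaf cJ341) (BT.leaf cJ342)) (BT.leaf cJ343)) (BT.node 344 (BT.leaf cJ344) (BT.leaf cJ345)))) (BT.node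 351 (BT.node 348 (BT.node 347 (BT.node 346 (BT.leaf cJ346) (BT.leaf cJ347)) (BT.leaf cJ348)) (BT.node 350 (BT.node 349 (BT.leaf cJ349) (BT.leaf cJ350)) (BT.leaf cJ351))) (BT.node 354 (BT.node 353 (BT.node 352 (BT.leaf cJ352) (BT.leaf cJ353)) (BT.leaf cJ354)) (BT.node 355 (BT.leaf cJ355) (BT.leaf cJ356))))))))) (BT.node 535 (BT.node 446 (BT.node 401 (BT.node 379 (BT.node 368 (BT.node 362 (BT.node 359 (BT.node 358 (BT.node 357 (BT.leaf cJ357) (BT.leaf cJ358)) (BT.leaf cJ359)) (BT.node 361 (BT.node 360 (BT.leaf cJ360) (BT.leaf cJ361)) (BT.leaf cJ362))) (BT.node 365 (BT.node 364 (BT.node 363 (BT.leaf cJ363) (BT.leaf cJ364)) (BT.leaf cJ365)) (BT.node 367 (BT.node 366 (BT.leaf cJ366) (BT.leaf cJ367)) (BT.leaf cJ368)))) (BT.node 374 (BT.node 371 (BT.node 370 (BT.node 369 (BT.leaf cJ369) (BT.leaf cJ370)) (BT.leaf cJ371)) (BT.node 373 (BT.node 372 (BT.leaf cJ372) (BT.leaf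 cJ373)) (BT.leaf cJ374))) (BT.node 377 (BT.node 376 (BT.node 375 (BT.leaf cJ375) (BT.leaf cJ376)) (BT.leaf cJ377)) (BT.node 378 (BT.leaf cJ378) (BT.leaf cJ379))))) (BT.node 390 (BT.node 385 (BT.node 382 (BT.node 381 (BT.node 380 (BT.leaf cJ380) (BT.leaf cJ381)) (BT.leaf cJ382)) (BT.node 384 (BT.node 383 (BT.leaf cJ383) (BT.leaf cJ384)) (BT.leaf cJ385))) (BT.node 388 (BT.node 387 (BT.node 386 (BT.leaf cJ386) (BT.leaf cJ387)) (BT.leaf cJ388)) (BT.node 389 (BT.leaf cJ389) (BT.leaf cJ390)))) (BT.node 396 (BT.node 393 (BT.node 392 (BT.node 391 (BT.leaf cJ391) (BT.leaf cJ392)) (BT.leaf cJ393)) (BT.node 395 (BT.node 394 (BT.leaf cJ394) (BT.leaf cJ395)) (BT.leaf cJ396))) (BT.node 399 (BT.node 398 (BT.node 397 (BT.leaf cJ397) (BT.leaf cJ398)) (BT.leaf cJ399)) (BT.node 400 (BT.leaf cJ400) (BT.leaf cJ401)))))) (BT.node 424 (BT.node 413 (BT.node 407 (BT.node 404 (BT.node 403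 (BT.node 402 (BT.leaf cJ402) (BT.leaf cJ403)) (BT.leaf cJ404)) (BT.node 406 (BT.node 405 (BT.leaf cJ405) (BT.leaf cJ406)) (BT.leaf cJ407))) (BT.node 410 (BT.node 409 (BT.node 408 (BT.leaf cJ408) (BT.leaf cJ409)) (BT.leaf cJ410)) (BT.node 412 (BT.node 411 (BT.leaf cJ411) (BT.leaf cJ412)) (BT.leaf cJ413)))) (BT.node 419 (BT.node 416 (BT.node 415 (BT.node 414 (BT.leaf cJ414) (BT.leaf cJ415)) (BT.leaf cJ416)) (BT.node 418 (BT.node 417 (BT.leaf cJ417) (BT.leaf cJ418)) (BT.leaf cJ419))) (BT.node 422 (BT.node 421 (BT.node 420 (BT.leaf cJ420) (BT.leaf cJ421)) (BT.leaf cJ422)) (BT.node 423 (BT.leaf cJ423) (BT.leaf cJ424))))) (BT.node 435 (BT.node 430 (BT.node 427 (BT.node 426 (BT.node 425 (BT.leaf cJ425) (BT.leaf cJ426)) (BT.leaf cJ427)) (BT.node 429 (BT.node 428 (BT.leaf cJ428) (BT.leaf cJ429)) (BT.leaf cJ430))) (BT.node 433 (BT.node 432 (BT.node 431 (BT.leaf cJ431) (BT.leaf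 cJ432)) (BT.leaf cJ433)) (BT.node 434 (BT.leaf cJ434) (BT.leaf cJ435)))) (BT.node 441 (BT.node 438 (BT.node 437 (BT.node 436 (BT.leaf cJ436) (BT.leaf cJ437)) (BT.leaf cJ438)) (BT.node 440 (BT.node 439 (BT.leaf cJ439) (BT.leaf cJ440)) (BT.leaf cJ441))) (BT.node 444 (BT.node 443 (BT.node 442 (BT.leaf cJ442) (BT.leaf cJ443)) (BT.leaf cJ444)) (BT.node 445 (BT.leaf cJ445) (BT.leaf cJ446))))))) (BT.node 491 (BT.node 469 (BT.node 458 (BT.node 452 (BT.node 449 (BT.node 448 (BT.node 447 (BT.leaf cJ447) (BT.leaf cJ448)) (BT.leaf cJ449)) (BT.node 451 (BT.node 450 (BT.leaf cJ450) (BT.leaf cJ451)) (BT.leaf cJ452))) (BT.node 455 (BT.node 454 (BT.node 453 (BT.leaf cJ453) (BT.leaf cJ454)) (BT.leaf cJ455)) (BT.node 457 (BT.node 456 (BT.leaf cJ456) (BT.leaf cJ457)) (BT.leaf cJ458)))) (BT.node 464 (BT.node 461 (BT.node 460 (BT.node 459 (BT.leaf cJ459) (BT.leaf cJ460)) (BT.leaf cJ461))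 (BT.node 463 (BT.node 462 (BT.leaf cJ462) (BT.leaf cJ463)) (BT.leaf cJ464))) (BT.node 467 (BT.node 466 (BT.node 465 (BT.leaf cJ465) (BT.leaf cJ466)) (BT.leaf cJ467)) (BT.node 468 (BT.leaf cJ468) (BT.leaf cJ469))))) (BT.node 480 (BT.node 475 (BT.node 472 (BT.node 471 (BT.node 470 (BT.leaf cJ470) (BT.leaf cJ471)) (BT.leaf cJ472)) (BT.node 474 (BT.node 473 (BT.leaf cJ473) (BT.leaf cJ474)) (BT.leaf cJ475))) (BT.node 478 (BT.node 477 (BT.node 476 (BT.leaf cJ476) (BT.leaf cJ477)) (BT.leaf cJ478)) (BT.node 479 (BT.leaf cJ479) (BT.leaf cJ480)))) (BT.node 486 (BT.node 483 (BT.node 482 (BT.node 481 (BT.leaf cJ481) (BT.leaf cJ482)) (BT.leaf cJ483)) (BT.node 485 (BT.node 484 (BT.leaf cJ484) (BT.leaf cJ485)) (BT.leaf cJ486))) (BT.node 489 (BT.node 488 (BT.node 487 (BT.leaf cJ487) (BT.leaf cJ488)) (BT.leaf cJ489)) (BT.node 490 (BT.leaf cJ490) (BT.leaf cJ491)))))) (BT.node 513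 (BT.node 502 (BT.node 497 (BT.node 494 (BT.node 493 (BT.node 492 (BT.leaf cJ492) (BT.leaf cJ493)) (BT.leaf cJ494)) (BT.node 496 (BT.node 495 (BT.leaf cJ495) (BT.leaf cJ496)) (BT.leaf cJ497))) (BT.node 500 (BT.node 499 (BT.node 498 (BT.leaf cJ498) (BT.leaf cJ499)) (BT.leaf cJ500)) (BT.node 501 (BT.leaf cJ501) (BT.leaf cJ502)))) (BT.node 508 (BT.node 505 (BT.node 504 (BT.node 503 (BT.leaf cJ503) (BT.leaf cJ504)) (BT.leaf cJ505)) (BT.node 507 (BT.node 506 (BT.leaf cJ506) (BT.leaf cJ507)) (BT.leaf cJ508))) (BT.node 511 (BT.node 510 (BT.node 509 (BT.leaf cJ509) (BT.leaf cJ510)) (BT.leaf cJ511)) (BT.node 512 (BT.leaf cJ512) (BT.leaf cJ513))))) (BT.node 524 (BT.node 519 (BT.node 516 (BT.node 515 (BT.node 514 (BT.leaf cJ514) (BT.leaf cJ515)) (BT.leaf cJ516)) (BT.node 518 (BT.node 517 (BT.leaf cJ517) (BT.leaf cJ518)) (BT.leaf cJ519))) (BT.node 522 (BT.node 521 (BT.node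 520 (BT.leaf cJ520) (BT.leaf cJ521)) (BT.leaf cJ522)) (BT.node 523 (BT.leaf cJ523) (BT.leaf cJ524)))) (BT.node 530 (BT.node 527 (BT.node 526 (BT.node 525 (BT.leaf cJ525) (BT.leaf cJ526)) (BT.leaf cJ527)) (BT.node 529 (BT.node 528 (BT.leaf cJ528) (BT.leaf cJ529)) (BT.leaf cJ530))) (BT.node 533 (BT.node 532 (BT.node 531 (BT.leaf cJ531) (BT.leaf cJ532)) (BT.leaf cJ533)) (BT.node 534 (BT.leaf cJ534) (BT.leaf cJ535)))))))) (BT.node 624 (BT.node 580 (BT.node 558 (BT.node 547 (BT.node 541 (BT.node 538 (BT.node 537 (BT.node 536 (BT.leaf cJ536) (BT.leaf cJ537)) (BT.leaf cJ538)) (BT.node 540 (BT.node 539 (BT.leaf cJ539) (BT.leaf cJ540)) (BT.leaf cJ541))) (BT.node 544 (BT.node 543 (BT.node 542 (BT.leaf cJ542) (BT.leaf cJ543)) (BT.leaf cJ544)) (BT.node 546 (BT.node 545 (BT.leaf cJ545) (BT.leaf cJ546)) (BT.leaf cJ547)))) (BT.node 553 (BT.node 550 (BT.node 549 (BT.node 548 (BT.leaf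 cJ548) (BT.leaf cJ549)) (BT.leaf cJ550)) (BT.node 552 (BT.node 551 (BT.leaf cJ551) (BT.leaf cJ552)) (BT.leaf cJ553))) (BT.node 556 (BT.node 555 (BT.node 554 (BT.leaf cJ554) (BT.leaf cJ555)) (BT.leaf cJ556)) (BT.node 557 (BT.leaf cJ557) (BT.leaf cJ558))))) (BT.node 569 (BT.node 564 (BT.node 561 (BT.node 560 (BT.node 559 (BT.leaf cJ559) (BT.leaf cJ560)) (BT.leaf cJ561)) (BT.node 563 (BT.node 562 (BT.leaf cJ562) (BT.leaf cJ563)) (BT.leaf cJ564))) (BT.node 567 (BT.node 566 (BT.node 565 (BT.leaf cJ565) (BT.leaf cJ566)) (BT.leaf cJ567)) (BT.node 568 (BT.leaf cJ568) (BT.leaf cJ569)))) (BT.node 575 (BT.node 572 (BT.node 571 (BT.node 570 (BT.leaf cJ570) (BT.leaf cJ571)) (BT.leaf cJ572)) (BT.node 574 (BT.node 573 (BT.leaf cJ573) (BT.leaf cJ574)) (BT.leaf cJ575))) (BT.node 578 (BT.node 577 (BT.node 576 (BT.leaf cJ576) (BT.leaf cJ577)) (BT.leaf cJ578)) (BT.node 579 (BT.leaf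 cJ579) (BT.leaf cJ580)))))) (BT.node 602 (BT.node 591 (BT.node 586 (BT.node 583 (BT.node 582 (BT.node 581 (BT.leaf cJ581) (BT.leaf cJ582)) (BT.leaf cJ583)) (BT.node 585 (BT.node 584 (BT.leaf cJ584) (BT.leaf cJ585)) (BT.leaf cJ586))) (BT.node 589 (BT.node 588 (BT.node 587 (BT.leaf cJ587) (BT.leaf cJ588)) (BT.leaf cJ589)) (BT.node 590 (BT.leaf cJ590) (BT.leaf cJ591)))) (BT.node 597 (BT.node 594 (BT.node 593 (BT.node 592 (BT.leaf cJ592) (BT.leaf cJ593)) (BT.leaf cJ594)) (BT.node 596 (BT.node 595 (BT.leaf cJ595) (BT.leaf cJ596)) (BT.leaf cJ597))) (BT.node 600 (BT.node 599 (BT.node 598 (BT.leaf cJ598) (BT.leaf cJ599)) (BT.leaf cJ600)) (BT.node 601 (BT.leaf cJ601) (BT.leaf cJ602))))) (BT.node 613 (BT.node 608 (BT.node 605 (BT.node 604 (BT.node 603 (BT.leaf cJ603) (BT.leaf cJ604)) (BT.leaf cJ605)) (BT.node 607 (BT.node 606 (BT.leaf cJ606) (BT.leaf cJ607)) (BT.leaf cJ608)))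 (BT.node 611 (BT.node 610 (BT.node 609 (BT.leaf cJ609) (BT.leaf cJ610)) (BT.leaf cJ611)) (BT.node 612 (BT.leaf cJ612) (BT.leaf cJ613)))) (BT.node 619 (BT.node 616 (BT.node 615 (BT.node 614 (BT.leaf cJ614) (BT.leaf cJ615)) (BT.leaf cJ616)) (BT.node 618 (BT.node 617 (BT.leaf cJ617) (BT.leaf cJ618)) (BT.leaf cJ619))) (BT.node 622 (BT.node 621 (BT.node 620 (BT.leaf cJ620) (BT.leaf cJ621)) (BT.leaf cJ622)) (BT.node 623 (BT.leaf cJ623) (BT.leaf cJ624))))))) (BT.node 669 (BT.node 647 (BT.node 636 (BT.node 630 (BT.node 627 (BT.node 626 (BT.node 625 (BT.leaf cJ625) (BT.leaf cJ626)) (BT.leaf cJ627)) (BT.node 629 (BT.node 628 (BT.leaf cJ628) (BT.leaf cJ629)) (BT.leaf cJ630))) (BT.node 633 (BT.node 632 (BT.node 631 (BT.leaf cJ631) (BT.leaf cJ632)) (BT.leaf cJ633)) (BT.node 635 (BT.node 634 (BT.leaf cJ634) (BT.leaf cJ635)) (BT.leaf cJ636)))) (BT.node 642 (BT.node 639 (BT.node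 638 (BT.node 637 (BT.leaf cJ637) (BT.leaf cJ638)) (BT.leaf cJ639)) (BT.node 641 (BT.node 640 (BT.leaf cJ640) (BT.leaf cJ641)) (BT.leaf cJ642))) (BT.node 645 (BT.node 644 (BT.node 643 (BT.leaf cJ643) (BT.leaf cJ644)) (BT.leaf cJ645)) (BT.node 646 (BT.leaf cJ646) (BT.leaf cJ647))))) (BT.node 658 (BT.node 653 (BT.node 650 (BT.node 649 (BT.node 648 (BT.leaf cJ648) (BT.leaf cJ649)) (BT.leaf cJ650)) (BT.node 652 (BT.node 651 (BT.leaf cJ651) (BT.leaf cJ652)) (BT.leaf cJ653))) (BT.node 656 (BT.node 655 (BT.node 654 (BT.leaf cJ654) (BT.leaf cJ655)) (BT.leaf cJ656)) (BT.node 657 (BT.leaf cJ657) (BT.leaf cJ658)))) (BT.node 664 (BT.node 661 (BT.node 660 (BT.node 659 (BT.leaf cJ659) (BT.leaf cJ660)) (BT.leaf cJ661)) (BT.node 663 (BT.node 662 (BT.leaf cJ662) (BT.leaf cJ663)) (BT.leaf cJ664))) (BT.node 667 (BT.node 666 (BT.node 665 (BT.leaf cJ665) (BT.leaf cJ666)) (BT.leaf cJ667))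 (BT.node 668 (BT.leaf cJ668) (BT.leaf cJ669)))))) (BT.node 691 (BT.node 680 (BT.node 675 (BT.node 672 (BT.node 671 (BT.node 670 (BT.leaf cJ670) (BT.leaf cJ671)) (BT.leaf cJ672)) (BT.node 674 (BT.node 673 (BT.leaf cJ673) (BT.leaf cJ674)) (BT.leaf cJ675))) (BT.node 678 (BT.node 677 (BT.node 676 (BT.leaf cJ676) (BT.leaf cJ677)) (BT.leaf cJ678)) (BT.node 679 (BT.leaf cJ679) (BT.leaf cJ680)))) (BT.node 686 (BT.node 683 (BT.node 682 (BT.node 681 (BT.leaf cJ681) (BT.leaf cJ682)) (BT.leaf cJ683)) (BT.node 685 (BT.node 684 (BT.leaf cJ684) (BT.leaf cJ685)) (BT.leaf cJ686))) (BT.node 689 (BT.node 688 (BT.node 687 (BT.leaf cJ687) (BT.leaf cJ688)) (BT.leaf cJ689)) (BT.node 690 (BT.leaf cJ690) (BT.leaf cJ691))))) (BT.node 702 (BT.node 697 (BT.node 694 (BT.node 693 (BT.node 692 (BT.leaf cJ692) (BT.leaf cJ693)) (BT.leaf cJ694)) (BT.node 696 (BT.node 695 (BT.leaf cJ695) (BT.leaf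 cJ696)) (BT.leaf cJ697))) (BT.node 700 (BT.node 699 (BT.node 698 (BT.leaf cJ698) (BT.leaf cJ699)) (BT.leaf cJ700)) (BT.node 701 (BT.leaf cJ701) (BT.leaf cJ702)))) (BT.node 708 (BT.node 705 (BT.node 704 (BT.node 703 (BT.leaf cJ703) (BT.leaf cJ704)) (BT.leaf cJ705)) (BT.node 707 (BT.node 706 (BT.leaf cJ706) (BT.leaf cJ707)) (BT.leaf cJ708))) (BT.node 711 (BT.node 710 (BT.node 709 (BT.leaf cJ709) (BT.leaf cJ710)) (BT.leaf cJ711)) (BT.node 712 (BT.leaf cJ712) (BT.leaf cJ713))))))))))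
/-- parent chunks -/
def parCT : BT ℕ := (BT.node 50 (BT.node 25 (BT.node 12 (BT.node 6 (BT.node 3 (BT.node 1 (BT.node 0 (BT.leaf cP0) (BT.leaf cP1)) (BT.node 2 (BT.leaf cP2) (BT.leaf cP3))) (BT.node 5 (BT.node 4 (BT.leaf cP4) (BT.leaf cP5)) (BT.leaf cP6))) (BT.node 9 (BT.node 8 (BT.node 7 (BT.leaf cP7) (BT.leaf cP8)) (BT.leaf cP9)) (BT.node 11 (BT.node 10 (BT.leaf cP10) (BT.leaf cP11)) (BT.leaf cP12)))) (BT.node 19 (BT.node 16 (BT.node 14 (BT.node 13 (BT.leaf cP13) (BT.leaf cP14)) (BT.node 15 (BT.leaf cP15) (BT.leaf cP16))) (BT.node 18 (BT.node 17 (BT.leaf cP17) (BT.leaf cP18)) (BT.leaf cP19))) (BT.node 22 (BT.node 21 (BT.node 20 (BT.leaf cP20) (BT.leaf cP21)) (BT.leaf cP22)) (BT.node 24 (BT.node 23 (BT.leaf cP23) (BT.leaf cP24)) (BT.leaf cP25))))) (BT.node 38 (BT.node 32 (BT.node 29 (BT.node 27 (BT.node 26 (BT.leaf cP26) (BT.leaf cP27)) (BT.node 28 (BT.leaf cP28)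 (BT.leaf cP29))) (BT.node 31 (BT.node 30 (BT.leaf cP30) (BT.leaf cP31)) (BT.leaf cP32))) (BT.node 35 (BT.node 34 (BT.node 33 (BT.leaf cP33) (BT.leaf cP34)) (BT.leaf cP35)) (BT.node 37 (BT.node 36 (BT.leaf cP36) (BT.leaf cP37)) (BT.leaf cP38)))) (BT.node 44 (BT.node 41 (BT.node 40 (BT.node 39 (BT.leaf cP39) (BT.leaf cP40)) (BT.leaf cP41)) (BT.node 43 (BT.node 42 (BT.leaf cP42) (BT.leaf cP43)) (BT.leaf cP44))) (BT.node 47 (BT.node 46 (BT.node 45 (BT.leaf cP45) (BT.leaf cP46)) (BT.leaf cP47)) (BT.node 49 (BT.node 48 (BT.leaf cP48) (BT.leaf cP49)) (BT.leaf cP50)))))) (BT.node 76 (BT.node 63 (BT.node 57 (BT.node 54 (BT.node 52 (BT.node 51 (BT.leaf cP51) (BT.leaf cP52)) (BT.node 53 (BT.leaf cP53) (BT.leaf cP54))) (BT.node 56 (BT.node 55 (BT.leaf cP55) (BT.leaf cP56)) (BT.leaf cP57))) (BT.node 60 (BT.node 59 (BT.node 58 (BT.leaf cP58) (BT.leaf cP59)) (BT.leaf cP60)) (BT.node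 62 (BT.node 61 (BT.leaf cP61) (BT.leaf cP62)) (BT.leaf cP63)))) (BT.node 70 (BT.node 67 (BT.node 65 (BT.node 64 (BT.leaf cP64) (BT.leaf cP65)) (BT.node 66 (BT.leaf cP66) (BT.leaf cP67))) (BT.node 69 (BT.node 68 (BT.leaf cP68) (BT.leaf cP69)) (BT.leaf cP70))) (BT.node 73 (BT.node 72 (BT.node 71 (BT.leaf cP71) (BT.leaf cP72)) (BT.leaf cP73)) (BT.node 75 (BT.node 74 (BT.leaf cP74) (BT.leaf cP75)) (BT.leaf cP76))))) (BT.node 89 (BT.node 83 (BT.node 80 (BT.node 78 (BT.node 77 (BT.leaf cP77) (BT.leaf cP78)) (BT.node 79 (BT.leaf cP79) (BT.leaf cP80))) (BT.node 82 (BT.node 81 (BT.leaf cP81) (BT.leaf cP82)) (BT.leaf cP83))) (BT.node 86 (BT.node 85 (BT.node 84 (BT.leaf cP84) (BT.leaf cP85)) (BT.leaf cP86)) (BT.node 88 (BT.node 87 (BT.leaf cP87) (BT.leaf cP88)) (BT.leaf cP89)))) (BT.node 95 (BT.node 92 (BT.node 91 (BT.node 90 (BT.leaf cP90) (BT.leaf cP91)) (BT.leaf cP92))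 (BT.node 94 (BT.node 93 (BT.leaf cP93) (BT.leaf cP94)) (BT.leaf cP95))) (BT.node 98 (BT.node 97 (BT.node 96 (BT.leaf cP96) (BT.leaf cP97)) (BT.leaf cP98)) (BT.node 100 (BT.node 99 (BT.leaf cP99) (BT.leaf cP100)) (BT.leaf cP101)))))))
/-- the certificate -/
def data : Data where
  k := 6
  N := 51840
  W := 35
  MW := 34359738368
  B := 65536
  CH := 512
  NCH := 102
  colE := colET
  JW := 64
  MJ := 18446744073709551616
  A := 1048576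
  colJ := colJT
  PW := 25
  MP := 33554432
  parC := parCT
  inv := (BT.node 3 (BT.node 1 (BT.node 0 (BT.leaf 0) (BT.leaf 1)) (BT.node 2 (BT.leaf 2) (BT.leaf 3))) (BT.node 5 (BT.node 4 (BT.leaf 4) (BT.leaf 5)) (BT.leaf 6)))
  rel := relT
  sub := subT
  fuel := 64

end Cfsg.Agent.Lib.Helper28.TCF23NW4Data
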