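import Cfsg.Agent.Lib.Helper28.TCF23NW4Data
import Cfsg.Agent.Lib.Helper28.TCF23NW4U0
set_option autoImplicit false
set_option maxRecDepth 100000
set_option maxHeartbeats 0

namespace Cfsg.Agent.Lib.Helper28.TCF23NW4U6
open Cfsg.Agent.Lib.Helper28.TC2Upper Cfsg.Agent.Lib.Helper28.TCF23NW4Data

theorem chk30 : data.checkRange 25740 858 = true := by decide +kernel
theorem chk31 : data.checkRange 26598 858 = true := by decide +kernel
theorem chk32 : data.checkRange 27456 858 = true := by decide +kernel
theorem chk33 : data.checkRange 28314 858 = true := by decide +kernel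
theorem chk34 : data.checkRange 29172 858 = true := by decide +kernel

end Cfsg.Agent.Lib.Helper28.TCF23NW4U6
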