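import Cfsg.Agent.Lib.Helper28.TC2Tower
import Cfsg.Agent.Lib.Helper28.TC2Tower2
import Cfsg.Agent.Lib.Helper28.TCF23NW0Main
import Cfsg.Agent.Lib.Helper28.TCF23NW1Main
import Cfsg.Agent.Lib.Helper28.TCF23NW2Main
import Cfsg.Agent.Lib.Helper28.TCF23NW3Main
import Cfsg.Agent.Lib.Helper28.TCF23NW4Main
set_option autoImplicit false
set_option maxRecDepth 100000

namespace Cfsg.Agent.Lib.Helper28.TCF23NTower
open Cfsg.Agent.Lib.Helper28.TC2Tower Cfsg.Agent.Lib.Helper28.TC2Glue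

theorem card4 : Finite (PresentedGroup Cfsg.Agent.Lib.Helper28.TCF23NW4Link.rels) ∧ Nat.card (PresentedGroup Cfsg.Agent.Lib.Helper28.TCF23NW4Link.rels) = 51840 := by
  have h : ((Subgroup.closure Cfsg.Agent.Lib.Helper28.TCF23NW4Link.S).map (PresentedGroup.mk Cfsg.Agent.Lib.Helper28.TCF23NW4Link.rels)).index = 51840 := Cfsg.Agent.Lib.Helper28.TCF23NW4Main.main.1
  have e : (Subgroup.closure Cfsg.Agent.Lib.Helper28.TCF23NW4Link.S).map (PresentedGroup.mk Cfsg.Agent.Lib.Helper28.TCF23NW4Link.rels) = ⊥ := by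
    show (Subgroup.closure {1}).map _ = ⊥
    rw [Subgroup.closure_singleton_one, Subgroup.map_bot]
  rw [e] at h
  exact card_of_index_bot (by norm_num) h

theorem up3 : ∀ L ∈ Cfsg.Agent.Lib.Helper28.TCF23NW4Link.relWords, upWord Cfsg.Agent.Lib.Helper28.TCF23NW4Def.up L ∈ Cfsg.Agent.Lib.Helper28.TCF23NW3Link.relWords := by decide +kernel

theorem card3 : Finite (PresentedGroup Cfsg.Agent.Lib.Helper28.TCF23NW3Link.rels) ∧ Nat.card (PresentedGroup Cfsg.Agent.Lib.Helper28.TCF23NW3Link.rels) ≤ 1451520 := by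
  haveI := card4.1
  have hrel := hrel_of_words Cfsg.Agent.Lib.Helper28.TCF23NW3Link.rels Cfsg.Agent.Lib.Helper28.TCF23NW4Link.rels Cfsg.Agent.Lib.Helper28.TCF23NW4Def.up Cfsg.Agent.Lib.Helper28.TCF23NW3Link.relWords Cfsg.Agent.Lib.Helper28.TCF23NW4Link.relWords
    Cfsg.Agent.Lib.Helper28.TCF23NW3Link.link.hrels Cfsg.Agent.Lib.Helper28.TCF23NW4Link.link.hrels up3
  have hS : ∀ s ∈ Cfsg.Agent.Lib.Helper28.TCF23NW3Link.S, ∃ b, s = FreeGroup.of (Cfsg.Agent.Lib.Helper28.TCF23NW4Def.up b) := by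
    intro s hs
    simp only [Cfsg.Agent.Lib.Helper28.TCF23NW3Link.S, Set.mem_insert_iff, Set.mem_singleton_iff] at hs
    rcases hs with rfl | rfl | rfl | rfl | rfl | rfl
    exacts [⟨.b, rfl⟩, ⟨.c, rfl⟩, ⟨.d, rfl⟩, ⟨.e, rfl⟩, ⟨.f, rfl⟩, ⟨.h, rfl⟩]
  obtain ⟨hfin, hle⟩ := card_le_of_subpres Cfsg.Agent.Lib.Helper28.TCF23NW3Link.rels Cfsg.Agent.Lib.Helper28.TCF23NW4Link.rels Cfsg.Agent.Lib.Helper28.TCF23NW4Def.up hrel Cfsg.Agent.Lib.Helper28.TCF23NW3Link.S hS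
  obtain ⟨hq, hqle⟩ := Cfsg.Agent.Lib.Helper28.TCF23NW3Main.mainU
  exact Cfsg.Agent.Lib.Helper28.TC2Tower2.card_le_of_quot _ hfin hq hqle (le_trans hle (le_of_eq card4.2))

theorem up2 : ∀ L ∈ Cfsg.Agent.Lib.Helper28.TCF23NW3Link.relWords, upWord Cfsg.Agent.Lib.Helper28.TCF23NW3Def.up L ∈ Cfsg.Agent.Lib.Helper28.TCF23NW2Link.relWords := by decide +kernel

theorem card2 : Finite (PresentedGroup Cfsg.Agent.Lib.Helper28.TCF23NW2Link.rels) ∧ Nat.card (PresentedGroup Cfsg.Agent.Lib.Helper28.TCF23NW2Link.rels) ≤ 13756055040 := by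
  haveI := card3.1
  have hrel := hrel_of_words Cfsg.Agent.Lib.Helper28.TCF23NW2Link.rels Cfsg.Agent.Lib.Helper28.TCF23NW3Link.rels Cfsg.Agent.Lib.Helper28.TCF23NW3Def.up Cfsg.Agent.Lib.Helper28.TCF23NW2Link.relWords Cfsg.Agent.Lib.Helper28.TCF23NW3Link.relWords
    Cfsg.Agent.Lib.Helper28.TCF23NW2Link.link.hrels Cfsg.Agent.Lib.Helper28.TCF23NW3Link.link.hrels up2
  have hS : ∀ s ∈ Cfsg.Agent.Lib.Helper28.TCF23NW2Link.S, ∃ b, s = FreeGroup.of (Cfsg.Agent.Lib.Helper28.TCF23NW3Def.up b) := by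
    intro s hs
    simp only [Cfsg.Agent.Lib.Helper28.TCF23NW2Link.S, Set.mem_insert_iff, Set.mem_singleton_iff] at hs
    rcases hs with rfl | rfl | rfl | rfl | rfl | rfl | rfl
    exacts [⟨.a, rfl⟩, ⟨.b, rfl⟩, ⟨.c, rfl⟩, ⟨.d, rfl⟩, ⟨.e, rfl⟩, ⟨.f, rfl⟩, ⟨.h, rfl⟩]
  obtain ⟨hfin, hle⟩ := card_le_of_subpres Cfsg.Agent.Lib.Helper28.TCF23NW2Link.rels Cfsg.Agent.Lib.Helper28.TCF23NW3Link.rels Cfsg.Agent.Lib.Helper28.TCF23NW3Def.up hrel Cfsg.Agent.Lib.Helper28.TCF23NW2Link.S hS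
  obtain ⟨hq, hqle⟩ := Cfsg.Agent.Lib.Helper28.TCF23NW2Main.mainU
  exact Cfsg.Agent.Lib.Helper28.TC2Tower2.card_le_of_quot _ hfin hq hqle (le_trans hle (card3.2))

theorem up1 : ∀ L ∈ Cfsg.Agent.Lib.Helper28.TCF23NW2Link.relWords, upWord Cfsg.Agent.Lib.Helper28.TCF23NW2Def.up L ∈ Cfsg.Agent.Lib.Helper28.TCF23NW1Link.relWords := by decide +kernel

theorem card1 : Finite (PresentedGroup Cfsg.Agent.Lib.Helper28.TCF23NW1Link.rels) ∧ Nat.card (PresentedGroup Cfsg.Agent.Lib.Helper28.TCF23NW1Link.rels) ≤ 387370509926400 := by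
  haveI := card2.1
  have hrel := hrel_of_words Cfsg.Agent.Lib.Helper28.TCF23NW1Link.rels Cfsg.Agent.Lib.Helper28.TCF23NW2Link.rels Cfsg.Agent.Lib.Helper28.TCF23NW2Def.up Cfsg.Agent.Lib.Helper28.TCF23NW1Link.relWords Cfsg.Agent.Lib.Helper28.TCF23NW2Link.relWords
    Cfsg.Agent.Lib.Helper28.TCF23NW1Link.link.hrels Cfsg.Agent.Lib.Helper28.TCF23NW2Link.link.hrels up1
  have hS : ∀ s ∈ Cfsg.Agent.Lib.Helper28.TCF23NW1Link.S, ∃ b, s = FreeGroup.of (Cfsg.Agent.Lib.Helper28.TCF23NW2Def.up b) := by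
    intro s hs
    simp only [Cfsg.Agent.Lib.Helper28.TCF23NW1Link.S, Set.mem_insert_iff, Set.mem_singleton_iff] at hs
    rcases hs with rfl | rfl | rfl | rfl | rfl | rfl | rfl | rfl
    exacts [⟨.a, rfl⟩, ⟨.b, rfl⟩, ⟨.c, rfl⟩, ⟨.d, rfl⟩, ⟨.e, rfl⟩, ⟨.f, rfl⟩, ⟨.h, rfl⟩, ⟨.i, rfl⟩]
  obtain ⟨hfin, hle⟩ := card_le_of_subpres Cfsg.Agent.Lib.Helper28.TCF23NW1Link.rels Cfsg.Agent.Lib.Helper28.TCF23NW2Link.rels Cfsg.Agent.Lib.Helper28.TCF23NW2Def.up hrel Cfsg.Agent.Lib.Helper28.TCF23NW1Link.S hS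
  obtain ⟨hq, hqle⟩ := Cfsg.Agent.Lib.Helper28.TCF23NW1Main.mainU
  exact Cfsg.Agent.Lib.Helper28.TC2Tower2.card_le_of_quot _ hfin hq hqle (le_trans hle (card2.2))

theorem up0 : ∀ L ∈ Cfsg.Agent.Lib.Helper28.TCF23NW1Link.relWords, upWord Cfsg.Agent.Lib.Helper28.TCF23NW1Def.up L ∈ Cfsg.Agent.Lib.Helper28.TCF23NW0Link.relWords := by decide +kernel

theorem card0 : Finite (PresentedGroup Cfsg.Agent.Lib.Helper28.TCF23NW0Link.rels) ∧ Nat.card (PresentedGroup Cfsg.Agent.Lib.Helper28.TCF23NW0Link.rels) ≤ 12268411419879014400 := by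
  haveI := card1.1
  have hrel := hrel_of_words Cfsg.Agent.Lib.Helper28.TCF23NW0Link.rels Cfsg.Agent.Lib.Helper28.TCF23NW1Link.rels Cfsg.Agent.Lib.Helper28.TCF23NW1Def.up Cfsg.Agent.Lib.Helper28.TCF23NW0Link.relWords Cfsg.Agent.Lib.Helper28.TCF23NW1Link.relWords
    Cfsg.Agent.Lib.Helper28.TCF23NW0Link.link.hrels Cfsg.Agent.Lib.Helper28.TCF23NW1Link.link.hrels up0
  have hS : ∀ s ∈ Cfsg.Agent.Lib.Helper28.TCF23NW0Link.S, ∃ b, s = FreeGroup.of (Cfsg.Agent.Lib.Helper28.TCF23NW1Def.up b) := by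
    intro s hs
    simp only [Cfsg.Agent.Lib.Helper28.TCF23NW0Link.S, Set.mem_insert_iff, Set.mem_singleton_iff] at hs
    rcases hs with rfl | rfl | rfl | rfl | rfl | rfl | rfl | rfl | rfl
    exacts [⟨.a, rfl⟩, ⟨.b, rfl⟩, ⟨.c, rfl⟩, ⟨.d, rfl⟩, ⟨.e, rfl⟩, ⟨.f, rfl⟩, ⟨.g, rfl⟩, ⟨.h, rfl⟩, ⟨.i, rfl⟩]
  obtain ⟨hfin, hle⟩ := card_le_of_subpres Cfsg.Agent.Lib.Helper28.TCF23NW0Link.rels Cfsg.Agent.Lib.Helper28.TCF23NW1Link.rels Cfsg.Agent.Lib.Helper28.TCF23NW1Def.up hrel Cfsg.Agent.Lib.Helper28.TCF23NW0Link.S hS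
  obtain ⟨hq, hqle⟩ := Cfsg.Agent.Lib.Helper28.TCF23NW0Main.mainU
  exact Cfsg.Agent.Lib.Helper28.TC2Tower2.card_le_of_quot _ hfin hq hqle (le_trans hle (card1.2))

end Cfsg.Agent.Lib.Helper28.TCF23NTower
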