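import Cfsg.Agent.Lib.Helper28.TC2Range
import Cfsg.Agent.Lib.Helper28.TCF23NW0Data
set_option autoImplicit false
set_option maxRecDepth 100000
set_option maxHeartbeats 0

namespace Cfsg.Agent.Lib.Helper28.TCF23NW0M8
open Cfsg.Agent.Lib.Helper28.TC2Upper Cfsg.Agent.Lib.Helper28.TC2Lower Cfsg.Agent.Lib.Helper28.TC2Range Cfsg.Agent.Lib.Helper28.TCF23NW0Data

theorem cnt2 : Data.countFrom data 80000 40000 = 3156 := by decide +kernel
theorem cnt3 : Data.countFrom data 120000 40000 = 1500 := by decide +kernel
theorem cnt4 : Data.countFrom data 160000 40000 = 1864 := by decide +kernel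
theorem cnt5 : Data.countFrom data 200000 40000 = 1406 := by decide +kernel
theorem cnt6 : Data.countFrom data 240000 40000 = 1069 := by decide +kernel

end Cfsg.Agent.Lib.Helper28.TCF23NW0M8
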