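import Cfsg.Agent.Lib.Helper28.TCF23NW0Data
set_option autoImplicit false
set_option maxRecDepth 100000
set_option maxHeartbeats 0

namespace Cfsg.Agent.Lib.Helper28.TCF23NW0U10
open Cfsg.Agent.Lib.Helper28.TC2Upper Cfsg.Agent.Lib.Helper28.TCF23NW0Data

theorem chk50 : data.checkRange 38857 769 = true := by decide +kernel
theorem chk51 : data.checkRange 39626 871 = true := by decide +kernel
theorem chk52 : data.checkRange 40497 739 = true := by decide +kernel
theorem chk53 : data.checkRange 41236 727 = true := by decide +kernel
theorem chk54 : data.checkRange 41963 824 = true := by decide +kernel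

end Cfsg.Agent.Lib.Helper28.TCF23NW0U10
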