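import Cfsg.Agent.Lib.Helper28.TCF23NW0Data
set_option autoImplicit false
set_option maxRecDepth 100000
set_option maxHeartbeats 0

namespace Cfsg.Agent.Lib.Helper28.TCF23NW0U34
open Cfsg.Agent.Lib.Helper28.TC2Upper Cfsg.Agent.Lib.Helper28.TCF23NW0Data

theorem chk170 : data.checkRange 166916 1169 = true := by decide +kernel
theorem chk171 : data.checkRange 168085 1089 = true := by decide +kernel
theorem chk172 : data.checkRange 169174 954 = true := by decide +kernel
theorem chk173 : data.checkRange 170128 1111 = true := by decide +kernel
theorem chk174 : data.checkRange 171239 1169 = true := by decide +kernel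

end Cfsg.Agent.Lib.Helper28.TCF23NW0U34
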