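import Cfsg.Agent.Lib.Helper28.TCF23NW0Data
set_option autoImplicit false
set_option maxRecDepth 100000
set_option maxHeartbeats 0

namespace Cfsg.Agent.Lib.Helper28.TCF23NW0U46
open Cfsg.Agent.Lib.Helper28.TC2Upper Cfsg.Agent.Lib.Helper28.TCF23NW0Data

theorem chk230 : data.checkRange 236904 1148 = true := by decide +kernel
theorem chk231 : data.checkRange 238052 1199 = true := by decide +kernel
theorem chk232 : data.checkRange 239251 1117 = true := by decide +kernel
theorem chk233 : data.checkRange 240368 1195 = true := by decide +kernel
theorem chk234 : data.checkRange 241563 1228 = true := by decide +kernel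

end Cfsg.Agent.Lib.Helper28.TCF23NW0U46
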