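import Cfsg.Agent.Lib.Helper28.TC2Simple
import Cfsg.Agent.Lib.Helper28.TCFi22AW0Main
set_option autoImplicit false
set_option maxRecDepth 100000
set_option maxHeartbeats 0

namespace Cfsg.Agent.Lib.Helper28.TCFi22ATrDef
open Cfsg.Agent.Lib.Helper28.TC2Upper Cfsg.Agent.Lib.Helper28.TC2Lower Cfsg.Agent.Lib.Helper28.TC2Orbit Cfsg.Agent.Lib.Helper28.TC2Glue Cfsg.Agent.Lib.Helper28.TC2Simple Cfsg.Agent.Lib.Helper28.TCFi22AW0Table Cfsg.Agent.Lib.Helper28.TCFi22AW0Link Cfsg.Agent.Lib.Helper28.TCFi22AW0Main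

/-- the central involution of the subgroup, as a word -/
def zWord : List (Cfsg.Spor.Fi22.Gen × Bool) := [(.a, true)]
/-- a coset whose transposition commutes with `z` -/
def ycWord : List (Cfsg.Spor.Fi22.Gen × Bool) := [(.b, true), (.c, true), (.a, true), (.b, true)]
/-- a coset whose transposition does not commute with `z` -/
def yoWord : List (Cfsg.Spor.Fi22.Gen × Bool) := [(.b, true)]
theorem hyc : orbData.oid (table.walkT (pathOf lw ycWord) 0) = 2 := by decide +kernel
theorem hyo : orbData.oid (table.walkT (pathOf lw yoWord) 0) = 1 := by decide +kernel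
theorem hmc : table.walkT (pathOf lw (FreeGroup.invRev ycWord ++ zWord ++ ycWord)) 0 = 0 := by decide +kernel
theorem hmo : table.walkT (pathOf lw (FreeGroup.invRev yoWord ++ zWord ++ yoWord ++ zWord ++ FreeGroup.invRev yoWord)) 0 = 0 := by decide +kernel
theorem hzne : table.walkT (pathOf lw zWord) 1 ≠ 1 := by decide +kernel
theorem hcne : table.walkT (pathOf lw (ycWord ++ zWord ++ FreeGroup.invRev ycWord ++ zWord)) 1 ≠ 1 := by decide +kernel
theorem hone : table.walkT (pathOf lw (yoWord ++ zWord ++ FreeGroup.invRev yoWord ++ zWord)) 0 ≠ 0 := by decide +kernel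
theorem h00 : orbData.oid 0 = 0 := by decide +kernel

/-- the commutators of `z` with the generators of the subgroup -/
def commWords : List (List (Cfsg.Spor.Fi22.Gen × Bool)) := subWords.map fun s => zWord ++ s ++ FreeGroup.invRev zWord ++ FreeGroup.invRev s
/-- their paths -/
def commPaths : List (List ℕ) := [[0, 0, 0, 0],
  [2, 0, 2, 0],
  [3, 0, 3, 0],
  [4, 0, 4, 0],
  [5, 0, 5, 0],
  [6, 0, 6, 0],
  [7, 0, 7, 0],
  [8, 0, 8, 0],
  [0, 1, 2, 3, 4, 7, 0, 1, 2, 3, 4, 7, 0, 1, 2, 3, 4, 7, 0, 1, 2, 3, 4, 7, 0, 1, 2, 3, 4, 7, 0, 7, 4, 3, 2, 1, 0, 7, 4, 3, 2, 1, 0, 7, 4, 3, 2, 1, 0, 7, 4, 3, 2, 1, 0, 7, 4, 3, 2, 1, 0, 0]]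
theorem commPaths_eq : commWords.map (pathOf lw) = commPaths := by decide +kernel
theorem tp0 : table.relOK commPaths 0 2659 = true := by decide +kernel
theorem tp1 : table.relOK commPaths 2659 851 = true := by decide +kernel
theorem cl0 : clsOK orbData 3 0 3510 = true := by decide +kernel

theorem hcomm : ∀ W ∈ commWords, ∀ p, p < table.n → table.walkT (pathOf lw W) p = p := by
  intro W hW p hp
  have hp' : p < 3510 := hp
  have hP : pathOf lw W ∈ commPaths := by rw [← commPaths_eq]; exact List.mem_map_of_mem hW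
  rcases Nat.lt_or_ge p 2659 with h0 | h0
  · exact (Table.relOK_iff commPaths 0 2659).mp tp0 p (by omega) (by omega) _ hP
  exact (Table.relOK_iff commPaths 2659 851).mp tp1 p (by omega) (by omega) _ hP

theorem hclsAll : ∀ p, p < table.n → orbData.oid p < 3 := by
  intro p hp
  have hp' : p < 3510 := hp
  exact (clsOK_iff orbData 3 0 3510).mp cl0 p (by omega) (by omega)

end Cfsg.Agent.Lib.Helper28.TCFi22ATrDef
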