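import Cfsg.Agent.Lib.Helper28.TC2Tower
import Cfsg.Agent.Lib.Helper28.TCFi22W1Main
import Cfsg.Agent.Lib.Helper28.TCFi22W2Main
import Cfsg.Agent.Lib.Helper28.TCFi22W3Main
set_option autoImplicit false
set_option maxRecDepth 100000

namespace Cfsg.Agent.Lib.Helper28.TCFi22TowerB
open Cfsg.Agent.Lib.Helper28.TC2Tower Cfsg.Agent.Lib.Helper28.TC2Glue

theorem card3 : Finite (PresentedGroup Cfsg.Agent.Lib.Helper28.TCFi22W3Link.rels) ∧ Nat.card (PresentedGroup Cfsg.Agent.Lib.Helper28.TCFi22W3Link.rels) = 51840 := by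
  have h : ((Subgroup.closure Cfsg.Agent.Lib.Helper28.TCFi22W3Link.S).map (PresentedGroup.mk Cfsg.Agent.Lib.Helper28.TCFi22W3Link.rels)).index = 51840 := Cfsg.Agent.Lib.Helper28.TCFi22W3Main.main.1
  have e : (Subgroup.closure Cfsg.Agent.Lib.Helper28.TCFi22W3Link.S).map (PresentedGroup.mk Cfsg.Agent.Lib.Helper28.TCFi22W3Link.rels) = ⊥ := by
    show (Subgroup.closure {1}).map _ = ⊥
    rw [Subgroup.closure_singleton_one, Subgroup.map_bot]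
  rw [e] at h
  exact card_of_index_bot (by norm_num) h

theorem up2 : ∀ L ∈ Cfsg.Agent.Lib.Helper28.TCFi22W3Link.relWords, upWord Cfsg.Agent.Lib.Helper28.TCFi22W3Def.up L ∈ Cfsg.Agent.Lib.Helper28.TCFi22W2Link.relWords := by decide +kernel

theorem card2 : Finite (PresentedGroup Cfsg.Agent.Lib.Helper28.TCFi22W2Link.rels) ∧ Nat.card (PresentedGroup Cfsg.Agent.Lib.Helper28.TCFi22W2Link.rels) ≤ 12597120 := by
  haveI := card3.1
  have hrel := hrel_of_words Cfsg.Agent.Lib.Helper28.TCFi22W2Link.rels Cfsg.Agent.Lib.Helper28.TCFi22W3Link.rels Cfsg.Agent.Lib.Helper28.TCFi22W3Def.up Cfsg.Agent.Lib.Helper28.TCFi22W2Link.relWords Cfsg.Agent.Lib.Helper28.TCFi22W3Link.relWords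
    Cfsg.Agent.Lib.Helper28.TCFi22W2Link.link.hrels Cfsg.Agent.Lib.Helper28.TCFi22W3Link.link.hrels up2
  have hS : ∀ s ∈ Cfsg.Agent.Lib.Helper28.TCFi22W2Link.S, ∃ b, s = FreeGroup.of (Cfsg.Agent.Lib.Helper28.TCFi22W3Def.up b) := by
    intro s hs
    simp only [Cfsg.Agent.Lib.Helper28.TCFi22W2Link.S, Set.mem_insert_iff, Set.mem_singleton_iff] at hs
    rcases hs with rfl | rfl | rfl | rfl | rfl | rfl
    exacts [⟨.b, rfl⟩, ⟨.c, rfl⟩, ⟨.d, rfl⟩, ⟨.e, rfl⟩, ⟨.f, rfl⟩, ⟨.h, rfl⟩]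
  obtain ⟨hfin, hle⟩ := card_le_of_subpres Cfsg.Agent.Lib.Helper28.TCFi22W2Link.rels Cfsg.Agent.Lib.Helper28.TCFi22W3Link.rels Cfsg.Agent.Lib.Helper28.TCFi22W3Def.up hrel Cfsg.Agent.Lib.Helper28.TCFi22W2Link.S hS
  have hidx : ((Subgroup.closure Cfsg.Agent.Lib.Helper28.TCFi22W2Link.S).map (PresentedGroup.mk Cfsg.Agent.Lib.Helper28.TCFi22W2Link.rels)).index = 243 := Cfsg.Agent.Lib.Helper28.TCFi22W2Main.main.1
  haveI := hfin
  refine ⟨finite_of_index _ (by rw [hidx]; norm_num), ?_⟩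
  exact card_le_of_index _ hidx (le_trans hle (le_of_eq card3.2))

theorem up1 : ∀ L ∈ Cfsg.Agent.Lib.Helper28.TCFi22W2Link.relWords, upWord Cfsg.Agent.Lib.Helper28.TCFi22W2Def.up L ∈ Cfsg.Agent.Lib.Helper28.TCFi22W1Link.relWords := by decide +kernel

theorem card1 : Finite (PresentedGroup Cfsg.Agent.Lib.Helper28.TCFi22W1Link.rels) ∧ Nat.card (PresentedGroup Cfsg.Agent.Lib.Helper28.TCFi22W1Link.rels) ≤ 4585351680 := by
  haveI := card2.1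
  have hrel := hrel_of_words Cfsg.Agent.Lib.Helper28.TCFi22W1Link.rels Cfsg.Agent.Lib.Helper28.TCFi22W2Link.rels Cfsg.Agent.Lib.Helper28.TCFi22W2Def.up Cfsg.Agent.Lib.Helper28.TCFi22W1Link.relWords Cfsg.Agent.Lib.Helper28.TCFi22W2Link.relWords
    Cfsg.Agent.Lib.Helper28.TCFi22W1Link.link.hrels Cfsg.Agent.Lib.Helper28.TCFi22W2Link.link.hrels up1
  have hS : ∀ s ∈ Cfsg.Agent.Lib.Helper28.TCFi22W1Link.S, ∃ b, s = FreeGroup.of (Cfsg.Agent.Lib.Helper28.TCFi22W2Def.up b) := by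
    intro s hs
    simp only [Cfsg.Agent.Lib.Helper28.TCFi22W1Link.S, Set.mem_insert_iff, Set.mem_singleton_iff] at hs
    rcases hs with rfl | rfl | rfl | rfl | rfl | rfl | rfl
    exacts [⟨.b, rfl⟩, ⟨.c, rfl⟩, ⟨.d, rfl⟩, ⟨.e, rfl⟩, ⟨.f, rfl⟩, ⟨.h, rfl⟩, ⟨.i, rfl⟩]
  obtain ⟨hfin, hle⟩ := card_le_of_subpres Cfsg.Agent.Lib.Helper28.TCFi22W1Link.rels Cfsg.Agent.Lib.Helper28.TCFi22W2Link.rels Cfsg.Agent.Lib.Helper28.TCFi22W2Def.up hrel Cfsg.Agent.Lib.Helper28.TCFi22W1Link.S hS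
  have hidx : ((Subgroup.closure Cfsg.Agent.Lib.Helper28.TCFi22W1Link.S).map (PresentedGroup.mk Cfsg.Agent.Lib.Helper28.TCFi22W1Link.rels)).index = 364 := Cfsg.Agent.Lib.Helper28.TCFi22W1Main.main.1
  haveI := hfin
  refine ⟨finite_of_index _ (by rw [hidx]; norm_num), ?_⟩
  exact card_le_of_index _ hidx (le_trans hle (card2.2))

end Cfsg.Agent.Lib.Helper28.TCFi22TowerB
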