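import Cfsg.Agent.Lib.Helper28.TCFi22aTable
set_option autoImplicit false
set_option maxRecDepth 100000
set_option maxHeartbeats 0

namespace Cfsg.Agent.Lib.Helper28.TCFi22aL1
open Cfsg.Agent.Lib.Helper28.TCUpper Cfsg.Agent.Lib.Helper28.TCLower Cfsg.Agent.Lib.Helper28.TCFi22aTable

theorem rel6 : table.relOK relPaths 2706 451 = true := by decide +kernel
theorem rel7 : table.relOK relPaths 3157 353 = true := by decide +kernel

end Cfsg.Agent.Lib.Helper28.TCFi22aL1
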