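import Cfsg.Agent.Lib.Helper28.TCFi22aData
set_option autoImplicit false
set_option maxRecDepth 100000
set_option maxHeartbeats 0

namespace Cfsg.Agent.Lib.Helper28.TCFi22aU0
open Cfsg.Agent.Lib.Helper28.TCUpper Cfsg.Agent.Lib.Helper28.TCFi22aData

theorem chk0 : data.checkRange 0 609 = true := by decide +kernel
theorem chk1 : data.checkRange 609 611 = true := by decide +kernel
theorem chk2 : data.checkRange 1220 600 = true := by decide +kernel
theorem chk3 : data.checkRange 1820 600 = true := by decide +kernel
theorem chk4 : data.checkRange 2420 600 = true := by decide +kernel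

end Cfsg.Agent.Lib.Helper28.TCFi22aU0
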