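import Cfsg.Agent.Lib.Helper28.TCFi22bTable
import Cfsg.Agent.Lib.Helper28.TCFi22bL1
set_option autoImplicit false
set_option maxRecDepth 100000
set_option maxHeartbeats 0

namespace Cfsg.Agent.Lib.Helper28.TCFi22bL4
open Cfsg.Agent.Lib.Helper28.TC2Upper Cfsg.Agent.Lib.Helper28.TC2Lower Cfsg.Agent.Lib.Helper28.TCFi22bTable

theorem rel24 : table.relOK relPaths 10824 451 = true := by decide +kernel
theorem rel25 : table.relOK relPaths 11275 451 = true := by decide +kernel
theorem rel26 : table.relOK relPaths 11726 451 = true := by decide +kernel
theorem rel27 : table.relOK relPaths 12177 451 = true := by decide +kernel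
theorem rel28 : table.relOK relPaths 12628 451 = true := by decide +kernel
theorem rel29 : table.relOK relPaths 13079 451 = true := by decide +kernel

end Cfsg.Agent.Lib.Helper28.TCFi22bL4
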