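import Cfsg.Agent.Lib.Helper28.TCFi22bTable
import Cfsg.Agent.Lib.Helper28.TCFi22bL2
set_option autoImplicit false
set_option maxRecDepth 100000
set_option maxHeartbeats 0

namespace Cfsg.Agent.Lib.Helper28.TCFi22bL5
open Cfsg.Agent.Lib.Helper28.TC2Upper Cfsg.Agent.Lib.Helper28.TC2Lower Cfsg.Agent.Lib.Helper28.TCFi22bTable

theorem rel30 : table.relOK relPaths 13530 451 = true := by decide +kernel
theorem rel31 : table.relOK relPaths 13981 99 = true := by decide +kernel

end Cfsg.Agent.Lib.Helper28.TCFi22bL5
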