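import Cfsg.Agent.Lib.Helper28.TCFi22bData
set_option autoImplicit false
set_option maxRecDepth 100000
set_option maxHeartbeats 0

namespace Cfsg.Agent.Lib.Helper28.TCFi22bU1
open Cfsg.Agent.Lib.Helper28.TC2Upper Cfsg.Agent.Lib.Helper28.TCFi22bData

theorem chk5 : data.checkRange 4655 1448 = true := by decide +kernel
theorem chk6 : data.checkRange 6103 1208 = true := by decide +kernel
theorem chk7 : data.checkRange 7311 1380 = true := by decide +kernel
theorem chk8 : data.checkRange 8691 1400 = true := by decide +kernel
theorem chk9 : data.checkRange 10091 600 = true := by decide +kernel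

end Cfsg.Agent.Lib.Helper28.TCFi22bU1
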