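import Cfsg.Agent.Lib.Helper28.TCFi23Table
set_option autoImplicit false
set_option maxRecDepth 100000
set_option maxHeartbeats 0

namespace Cfsg.Agent.Lib.Helper28.TCFi23L1
open Cfsg.Agent.Lib.Helper28.TC2Upper Cfsg.Agent.Lib.Helper28.TC2Lower Cfsg.Agent.Lib.Helper28.TCFi23Table

theorem rel9 : table.relOK relPaths 4743 527 = true := by decide +kernel
theorem rel10 : table.relOK relPaths 5270 527 = true := by decide +kernel
theorem rel11 : table.relOK relPaths 5797 527 = true := by decide +kernel
theorem rel12 : table.relOK relPaths 6324 527 = true := by decide +kernel
theorem rel13 : table.relOK relPaths 6851 527 = true := by decide +kernel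
theorem rel14 : table.relOK relPaths 7378 527 = true := by decide +kernel
theorem rel15 : table.relOK relPaths 7905 527 = true := by decide +kernel
theorem rel16 : table.relOK relPaths 8432 527 = true := by decide +kernel
theorem rel17 : table.relOK relPaths 8959 527 = true := by decide +kernel

end Cfsg.Agent.Lib.Helper28.TCFi23L1
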