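import Cfsg.Agent.Lib.Helper28.TCFi23Table
set_option autoImplicit false
set_option maxRecDepth 100000
set_option maxHeartbeats 0

namespace Cfsg.Agent.Lib.Helper28.TCFi23L2
open Cfsg.Agent.Lib.Helper28.TC2Upper Cfsg.Agent.Lib.Helper28.TC2Lower Cfsg.Agent.Lib.Helper28.TCFi23Table

theorem rel18 : table.relOK relPaths 9486 527 = true := by decide +kernel
theorem rel19 : table.relOK relPaths 10013 527 = true := by decide +kernel
theorem rel20 : table.relOK relPaths 10540 527 = true := by decide +kernel
theorem rel21 : table.relOK relPaths 11067 527 = true := by decide +kernel
theorem rel22 : table.relOK relPaths 11594 527 = true := by decide +kernel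
theorem rel23 : table.relOK relPaths 12121 527 = true := by decide +kernel
theorem rel24 : table.relOK relPaths 12648 527 = true := by decide +kernel
theorem rel25 : table.relOK relPaths 13175 527 = true := by decide +kernel
theorem rel26 : table.relOK relPaths 13702 527 = true := by decide +kernel

end Cfsg.Agent.Lib.Helper28.TCFi23L2
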