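import Cfsg.Agent.Lib.Helper28.TCFi23Table
import Cfsg.Agent.Lib.Helper28.TCFi23L0
set_option autoImplicit false
set_option maxRecDepth 100000
set_option maxHeartbeats 0

namespace Cfsg.Agent.Lib.Helper28.TCFi23L3
open Cfsg.Agent.Lib.Helper28.TC2Upper Cfsg.Agent.Lib.Helper28.TC2Lower Cfsg.Agent.Lib.Helper28.TCFi23Table

theorem rel27 : table.relOK relPaths 14229 527 = true := by decide +kernel
theorem rel28 : table.relOK relPaths 14756 527 = true := by decide +kernel
theorem rel29 : table.relOK relPaths 15283 527 = true := by decide +kernel
theorem rel30 : table.relOK relPaths 15810 527 = true := by decide +kernel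
theorem rel31 : table.relOK relPaths 16337 527 = true := by decide +kernel
theorem rel32 : table.relOK relPaths 16864 527 = true := by decide +kernel
theorem rel33 : table.relOK relPaths 17391 527 = true := by decide +kernel
theorem rel34 : table.relOK relPaths 17918 527 = true := by decide +kernel
theorem rel35 : table.relOK relPaths 18445 527 = true := by decide +kernel

end Cfsg.Agent.Lib.Helper28.TCFi23L3
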