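import Cfsg.Agent.Lib.Helper28.TCFi23Table
import Cfsg.Agent.Lib.Helper28.TCFi23L1
set_option autoImplicit false
set_option maxRecDepth 100000
set_option maxHeartbeats 0

namespace Cfsg.Agent.Lib.Helper28.TCFi23L4
open Cfsg.Agent.Lib.Helper28.TC2Upper Cfsg.Agent.Lib.Helper28.TC2Lower Cfsg.Agent.Lib.Helper28.TCFi23Table

theorem rel36 : table.relOK relPaths 18972 527 = true := by decide +kernel
theorem rel37 : table.relOK relPaths 19499 527 = true := by decide +kernel
theorem rel38 : table.relOK relPaths 20026 527 = true := by decide +kernel
theorem rel39 : table.relOK relPaths 20553 527 = true := by decide +kernel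
theorem rel40 : table.relOK relPaths 21080 527 = true := by decide +kernel
theorem rel41 : table.relOK relPaths 21607 527 = true := by decide +kernel
theorem rel42 : table.relOK relPaths 22134 527 = true := by decide +kernel
theorem rel43 : table.relOK relPaths 22661 527 = true := by decide +kernel
theorem rel44 : table.relOK relPaths 23188 527 = true := by decide +kernel

end Cfsg.Agent.Lib.Helper28.TCFi23L4
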