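import Cfsg.Agent.Lib.Helper28.TCFi23Table
import Cfsg.Agent.Lib.Helper28.TCFi23L2
set_option autoImplicit false
set_option maxRecDepth 100000
set_option maxHeartbeats 0

namespace Cfsg.Agent.Lib.Helper28.TCFi23L5
open Cfsg.Agent.Lib.Helper28.TC2Upper Cfsg.Agent.Lib.Helper28.TC2Lower Cfsg.Agent.Lib.Helper28.TCFi23Table

theorem rel45 : table.relOK relPaths 23715 527 = true := by decide +kernel
theorem rel46 : table.relOK relPaths 24242 527 = true := by decide +kernel
theorem rel47 : table.relOK relPaths 24769 527 = true := by decide +kernel
theorem rel48 : table.relOK relPaths 25296 527 = true := by decide +kernel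
theorem rel49 : table.relOK relPaths 25823 527 = true := by decide +kernel
theorem rel50 : table.relOK relPaths 26350 527 = true := by decide +kernel
theorem rel51 : table.relOK relPaths 26877 527 = true := by decide +kernel
theorem rel52 : table.relOK relPaths 27404 527 = true := by decide +kernel
theorem rel53 : table.relOK relPaths 27931 527 = true := by decide +kernel

end Cfsg.Agent.Lib.Helper28.TCFi23L5
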