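import Cfsg.Agent.Lib.Helper28.TCFi23Table
import Cfsg.Agent.Lib.Helper28.TCFi23L3
set_option autoImplicit false
set_option maxRecDepth 100000
set_option maxHeartbeats 0

namespace Cfsg.Agent.Lib.Helper28.TCFi23L6
open Cfsg.Agent.Lib.Helper28.TC2Upper Cfsg.Agent.Lib.Helper28.TC2Lower Cfsg.Agent.Lib.Helper28.TCFi23Table

theorem rel54 : table.relOK relPaths 28458 527 = true := by decide +kernel
theorem rel55 : table.relOK relPaths 28985 527 = true := by decide +kernel
theorem rel56 : table.relOK relPaths 29512 527 = true := by decide +kernel
theorem rel57 : table.relOK relPaths 30039 527 = true := by decide +kernel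
theorem rel58 : table.relOK relPaths 30566 527 = true := by decide +kernel
theorem rel59 : table.relOK relPaths 31093 527 = true := by decide +kernel
theorem rel60 : table.relOK relPaths 31620 51 = true := by decide +kernel

end Cfsg.Agent.Lib.Helper28.TCFi23L6
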