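import Cfsg.Agent.Lib.Helper28.TCFi23Data
import Cfsg.Agent.Lib.Helper28.TCFi23Table
set_option autoImplicit false
set_option maxRecDepth 100000
set_option maxHeartbeats 0

namespace Cfsg.Agent.Lib.Helper28.TCFi23M
open Cfsg.Agent.Lib.Helper28.TC2Upper Cfsg.Agent.Lib.Helper28.TC2Lower Cfsg.Agent.Lib.Helper28.TC2Orbit Cfsg.Agent.Lib.Helper28.TCFi23Data Cfsg.Agent.Lib.Helper28.TCFi23Table

theorem hfin : data.finalOK = true := by decide +kernel
theorem hcount : data.countLive = table.n := by decide +kernel
theorem hinvOK : table.invOK = true := by decide +kernel
theorem hperm : table.permOK 0 table.n = true := by decide +kernel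
theorem hsub0 : table.subOK subPaths = true := by decide +kernel
theorem htree : table.treeOK = true := by decide +kernel
theorem clo0 : orbData.closedOK table subPaths 0 31671 = true := by decide +kernel
theorem conn0 : orbData.connOK table 0 31671 = true := by decide +kernel
theorem hgens : BT.all (fun s => decide (s ∈ subPaths)) orbData.gens = true := by decide +kernel

end Cfsg.Agent.Lib.Helper28.TCFi23M
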