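import Cfsg.Agent.Lib.Helper28.TCFi23W0Main
import Cfsg.Agent.Lib.Helper28.TCFi23Tower
import Cfsg.Agent.Lib.Helper28.TCFi23BMain
import Cfsg.Agent.Lib.Helper28.TC2Simple
import Cfsg.Agent.Lib.Helper28.PcCert
set_option autoImplicit false
set_option maxRecDepth 100000

/-!
# The presented Fischer group `Fi₂₃` with its faithful action on 31671 points, as a model

The word problem for the letters of the extended table (34 letters) is solved by walking the nine base points.
-/

namespace Cfsg.Agent.Lib.Helper28.TCFi23Model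
open Cfsg.Agent.Lib.Helper28.TC2Upper Cfsg.Agent.Lib.Helper28.TC2Lower Cfsg.Agent.Lib.Helper28.TC2Range
open Cfsg.Agent.Lib.Helper28.TC2Bsgs Cfsg.Agent.Lib.Helper28.PcCert Cfsg.Agent.Lib.Helper28.TC2Simple
open Cfsg.Agent.Lib.Helper28.TC2Glue

/-- a model of an extended table from an injective homomorphism to the group of the first letters -/
theorem model_of_agree {T T' : Table} (hT : T.OK) (hT' : T'.OK) (hn : T'.n = T.n) (hk : T.k ≤ T'.k)
    (hagree : ∀ p, p < T.n → ∀ l, l < T.k → T'.tau l p = T.tau l p)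
    {X : Type*} [Group X] (φ : X →* Equiv.Perm (Fin T.n)) (hinj : Function.Injective φ)
    (hgen : ∀ l, l < T.k → Table.sigma hT l ∈ φ.range)
    (B : List ℕ) (hB : ∀ b ∈ B, b < T'.n)
    (hΓ : ∀ l, l < T'.k → Table.sigma hT' l ∈ baseGroup hT' T.k)
    (hc : Nat.card (pstab (baseGroup hT' T.k) (toFin T'.n B)) ≤ 1) : Nonempty (Model hT' B X) := by
  obtain ⟨n', k', w', M', CH', NCH', col', inv', tw', TM', tree'⟩ := T'
  simp only at hn
  subst hn
  have hle : baseGroup hT' T.k ≤ φ.range := by
    unfold baseGroup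
    rw [Subgroup.closure_le]
    rintro π ⟨l, hl, rfl⟩
    have e : Table.sigma hT' l = Table.sigma hT l := by
      apply Equiv.ext
      intro p
      apply Fin.ext
      rw [Table.sigma_apply hT' (lt_of_lt_of_le hl hk), Table.sigma_apply hT hl]
      exact hagree p.val p.2 l hl
    rw [SetLike.mem_coe, e]
    exact hgen l hl
  have hpre : ∀ l, l < k' → ∃ x : X, φ x = Table.sigma hT' l := fun l hl => hle (hΓ l hl)
  let η : ℕ → X := fun l => if h : l < k' then Classical.choose (hpre l h) else 1
  have hη : ∀ l, l < k' → φ (η l) = Table.sigma hT' l := by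
    intro l hl
    show φ (if h : l < k' then Classical.choose (hpre l h) else 1) = _
    rw [dif_pos hl]
    exact Classical.choose_spec (hpre l hl)
  exact ⟨⟨φ, hinj, η, hη, faithful_of_pstab hT' B hB _ hΓ hc⟩⟩

/-- the presented group -/
abbrev X : Type := PresentedGroup Cfsg.Agent.Lib.Helper28.TCFi23W0Link.rels

/-- the base -/
def base : List ℕ := [8, 7, 6, 5, 4, 3, 1, 2, 0]

open Cfsg.Agent.Lib.Helper28.TCFi23BTable Cfsg.Agent.Lib.Helper28.TCFi23BMain in
theorem card_pstab : 4089470473293004800 * Nat.card (pstab (baseGroup hTB 10) (toFin btable.n base)) ≤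
    Nat.card (baseGroup hTB 10) := by
  have h : 31671 * (28160 * (3159 * (288 * (35 * (12 * (3 * (2 * (2 *
      Nat.card (pstab (baseGroup hTB 10) (toFin btable.n [8, 7, 6, 5, 4, 3, 1, 2, 0]))))))))))
      ≤ Nat.card (pstab (baseGroup hTB 10) (toFin btable.n [])) :=
    chain_stepN lev0 (chain_stepN lev1 (chain_stepN lev2 (chain_stepN lev3 (chain_stepN lev4 (chain_stepN lev5
      (chain_stepN lev6 (chain_stepN lev7 (chain_stepN lev8 (le_refl _)))))))))
  have e : 4089470473293004800 * Nat.card (pstab (baseGroup hTB 10) (toFin btable.n base)) =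
      31671 * (28160 * (3159 * (288 * (35 * (12 * (3 * (2 * (2 *
      Nat.card (pstab (baseGroup hTB 10) (toFin btable.n [8, 7, 6, 5, 4, 3, 1, 2, 0])))))))))) := by
    show 4089470473293004800 * Nat.card (pstab (baseGroup hTB 10) (toFin btable.n [8, 7, 6, 5, 4, 3, 1, 2, 0])) = _
    ring
  rw [e]
  exact h

open Cfsg.Agent.Lib.Helper28.TCFi23BTable Cfsg.Agent.Lib.Helper28.TCFi23BMain in
/-- the model -/
theorem exists_model : Finite X ∧ Nat.card X = 4089470473293004800 ∧ Nonempty (Model hTB base X) := by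
  obtain ⟨_, φ, hφ, _, _, _, _⟩ := Cfsg.Agent.Lib.Helper28.TCFi23W0Main.main
  obtain ⟨hfin, hle⟩ := Cfsg.Agent.Lib.Helper28.TCFi23Tower.card0
  haveI : Finite X := hfin
  have hgen := sigma_mem_range Cfsg.Agent.Lib.Helper28.TCFi23W0Link.link Cfsg.Agent.Lib.Helper28.TCFi23W0Main.hT φ hφ
  have hlow : 4089470473293004800 ≤ Nat.card φ.range :=
    le_trans card_base (card_baseGroup_le Cfsg.Agent.Lib.Helper28.TCFi23W0Main.hT hTB rfl (by decide) hagree φ.range hgen)
  obtain ⟨hinj, hcard⟩ := injective_of_card_le φ hle hlow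
  refine ⟨hfin, hcard, ?_⟩
  have h1 : Nat.card (baseGroup hTB 10) ≤ Nat.card φ.range :=
    card_baseGroup_le Cfsg.Agent.Lib.Helper28.TCFi23W0Main.hT hTB rfl (by decide) hagree φ.range hgen
  have h2 : Nat.card φ.range ≤ Nat.card X :=
    Nat.card_le_card_of_surjective φ.rangeRestrict φ.rangeRestrict_surjective
  have h3 := card_pstab
  have h4 : Nat.card X ≤ 4089470473293004800 := hle
  have hc : Nat.card (pstab (baseGroup hTB 10) (toFin btable.n base)) ≤ 1 := by
    have : 4089470473293004800 * Nat.card (pstab (baseGroup hTB 10) (toFin btable.n base)) ≤ 4089470473293004800 * 1 := by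
      omega
    exact Nat.le_of_mul_le_mul_left this (by norm_num)
  exact model_of_agree Cfsg.Agent.Lib.Helper28.TCFi23W0Main.hT hTB rfl (by decide) hagree φ hinj hgen base
    (by decide) hΓ hc

end Cfsg.Agent.Lib.Helper28.TCFi23Model
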