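import Cfsg.Agent.Lib.Helper28.TCFi23SylData
import Cfsg.Agent.Lib.Helper28.TCFi23BTable
set_option autoImplicit false
set_option maxRecDepth 100000
set_option maxHeartbeats 0

namespace Cfsg.Agent.Lib.Helper28.TCFi23SylChk0
open Cfsg.Agent.Lib.Helper28.TC2Upper Cfsg.Agent.Lib.Helper28.TC2Lower Cfsg.Agent.Lib.Helper28.TC2Range Cfsg.Agent.Lib.Helper28.TC2Bsgs Cfsg.Agent.Lib.Helper28.PcCert Cfsg.Agent.Lib.Helper28.SubTab Cfsg.Agent.Lib.Helper28.Pc2Cert Cfsg.Agent.Lib.Helper28.TCFi23SylData

theorem hlink : linkRange Cfsg.Agent.Lib.Helper28.TCFi23BTable.btable stable 18 sdefs 0 513 = true := by decide +kernel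
theorem hdefsOK : defsOK Cfsg.Agent.Lib.Helper28.TCFi23BTable.btable 18 sdefs = true := by decide +kernel
theorem hchain : chkChainI stable BS 18 PL CS = true := by decide +kernel
theorem hnorm : chkNorm stable BS VL PL VN = true := by decide +kernel
theorem hcomm : chkComm stable BS VL VL = true := by decide +kernel
theorem hwits : chkWits stable PL BS 18 Ws = true := by decide +kernel
theorem hBS : BS.map (iota stable 18) = [8, 7, 6, 5, 4, 3, 1, 2, 0] := by decide +kernel

end Cfsg.Agent.Lib.Helper28.TCFi23SylChk0
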