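import Cfsg.Agent.Lib.Helper28.TCFi23SylData
import Cfsg.Agent.Lib.Helper28.TCFi23BTable
import Cfsg.Agent.Lib.Helper28.TCFi23SylChk6
set_option autoImplicit false
set_option maxRecDepth 100000
set_option maxHeartbeats 0

namespace Cfsg.Agent.Lib.Helper28.TCFi23SylChk10
open Cfsg.Agent.Lib.Helper28.TC2Upper Cfsg.Agent.Lib.Helper28.TC2Lower Cfsg.Agent.Lib.Helper28.TC2Range Cfsg.Agent.Lib.Helper28.TC2Bsgs Cfsg.Agent.Lib.Helper28.PcCert Cfsg.Agent.Lib.Helper28.SubTab Cfsg.Agent.Lib.Helper28.Pc2Cert Cfsg.Agent.Lib.Helper28.TCFi23SylData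

theorem elt12 : chkRange stable PL Ws Ks 128 196608 16384 = true := by decide +kernel
theorem elt13 : chkRange stable PL Ws Ks 128 212992 16384 = true := by decide +kernel

end Cfsg.Agent.Lib.Helper28.TCFi23SylChk10
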