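import Cfsg.Agent.Lib.Helper28.TCFi23SylData
import Cfsg.Agent.Lib.Helper28.TCFi23BTable
set_option autoImplicit false
set_option maxRecDepth 100000
set_option maxHeartbeats 0

namespace Cfsg.Agent.Lib.Helper28.TCFi23SylChk3
open Cfsg.Agent.Lib.Helper28.TC2Upper Cfsg.Agent.Lib.Helper28.TC2Lower Cfsg.Agent.Lib.Helper28.TC2Range Cfsg.Agent.Lib.Helper28.TC2Bsgs Cfsg.Agent.Lib.Helper28.PcCert Cfsg.Agent.Lib.Helper28.SubTab Cfsg.Agent.Lib.Helper28.Pc2Cert Cfsg.Agent.Lib.Helper28.TCFi23SylData

theorem ind2_0 : indepRange stable BS 2 rest2 0 32768 = true := by decide +kernel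
theorem ind3_0 : indepRange stable BS 3 rest3 0 16384 = true := by decide +kernel
theorem ind4_0 : indepRange stable BS 4 rest4 0 8192 = true := by decide +kernel
theorem ind5_0 : indepRange stable BS 5 rest5 0 4096 = true := by decide +kernel
theorem ind6_0 : indepRange stable BS 6 rest6 0 2048 = true := by decide +kernel
theorem ind7_0 : indepRange stable BS 7 rest7 0 1024 = true := by decide +kernel
theorem ind8_0 : indepRange stable BS 8 rest8 0 512 = true := by decide +kernel
theorem ind9_0 : indepRange stable BS 9 rest9 0 256 = true := by decide +kernel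
theorem ind10_0 : indepRange stable BS 10 rest10 0 128 = true := by decide +kernel
theorem ind11_0 : indepRange stable BS 11 rest11 0 64 = true := by decide +kernel
theorem ind12_0 : indepRange stable BS 12 rest12 0 32 = true := by decide +kernel
theorem ind13_0 : indepRange stable BS 13 rest13 0 16 = true := by decide +kernel
theorem ind14_0 : indepRange stable BS 14 rest14 0 8 = true := by decide +kernel
theorem ind15_0 : indepRange stable BS 15 rest15 0 4 = true := by decide +kernel
theorem ind16_0 : indepRange stable BS 16 rest16 0 2 = true := by decide +kernel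
theorem ind17_0 : indepRange stable BS 17 rest17 0 1 = true := by decide +kernel

end Cfsg.Agent.Lib.Helper28.TCFi23SylChk3
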