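import Cfsg.Agent.Lib.Helper28.TCFi23SylChk0
import Cfsg.Agent.Lib.Helper28.TCFi23SylChk1
import Cfsg.Agent.Lib.Helper28.TCFi23SylChk2
import Cfsg.Agent.Lib.Helper28.TCFi23SylChk3
import Cfsg.Agent.Lib.Helper28.TCFi23SylChk4
import Cfsg.Agent.Lib.Helper28.TCFi23SylChk5
import Cfsg.Agent.Lib.Helper28.TCFi23SylChk6
import Cfsg.Agent.Lib.Helper28.TCFi23SylChk7
import Cfsg.Agent.Lib.Helper28.TCFi23SylChk8
import Cfsg.Agent.Lib.Helper28.TCFi23SylChk9
import Cfsg.Agent.Lib.Helper28.TCFi23SylChk10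
import Cfsg.Agent.Lib.Helper28.TCFi23SylChk11
import Cfsg.Agent.Lib.Helper28.Pc2Indep
import Cfsg.Agent.Lib.Helper28.TCFi23Model
import Cfsg.Agent.Lib.Helper28.Syl2Abs

set_option autoImplicit false
set_option maxRecDepth 100000

/-!
# A Sylow 2-subgroup of the presented `Fi₂₃` and its normal elementary abelian subgroups

The subgroup `S` generated by 18 involutions (words in the letters of the extended table of `Fi₂₃`) has order
`2 ^ 18`; the last 11 generate a normal elementary abelian subgroup `V` of order `2 ^ 11`; every element of `S`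
outside `V`, up to 128 exceptions, has a square different from one or does not commute with one of its conjugates.
-/

namespace Cfsg.Agent.Lib.Helper28.TCFi23SylMain
open Cfsg.Agent.Lib.Helper28.TC2Upper Cfsg.Agent.Lib.Helper28.TC2Lower Cfsg.Agent.Lib.Helper28.TC2Range Cfsg.Agent.Lib.Helper28.TC2Bsgs Cfsg.Agent.Lib.Helper28.PcChain Cfsg.Agent.Lib.Helper28.PcCert Cfsg.Agent.Lib.Helper28.SubTab Cfsg.Agent.Lib.Helper28.Pc2Chain Cfsg.Agent.Lib.Helper28.Pc2Cert Cfsg.Agent.Lib.Helper28.Pc2Indep Cfsg.Agent.Lib.Helper28.TCFi23SylData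
open Cfsg.Agent.Lib.Helper28.TCFi23BTable Cfsg.Agent.Lib.Helper28.TCFi23BMain Cfsg.Agent.Lib.Helper28.TCFi23Model

theorem hrows : ∀ x, x < stable.n → linkRow btable stable 18 sdefs x = true := by
  intro x hx
  have hx' : x < 513 := hx
  exact (linkRange_iff btable stable 18 sdefs 0 513).mp Cfsg.Agent.Lib.Helper28.TCFi23SylChk0.hlink x (by omega) (by omega)

theorem hind0 : ∀ e, e < 131072 → agreeNF stable BS 0 rest0 e = false := by
  intro e he
  rcases Nat.lt_or_ge e 32768 with h0 | h0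
  · exact (indepRange_iff stable BS 0 rest0 0 32768).mp Cfsg.Agent.Lib.Helper28.TCFi23SylChk1.ind0_0 e (by omega) (by omega)
  rcases Nat.lt_or_ge e 65536 with h1 | h1
  · exact (indepRange_iff stable BS 0 rest0 32768 32768).mp Cfsg.Agent.Lib.Helper28.TCFi23SylChk1.ind0_1 e (by omega) (by omega)
  rcases Nat.lt_or_ge e 98304 with h2 | h2
  · exact (indepRange_iff stable BS 0 rest0 65536 32768).mp Cfsg.Agent.Lib.Helper28.TCFi23SylChk1.ind0_2 e (by omega) (by omega)
  exact (indepRange_iff stable BS 0 rest0 98304 32768).mp Cfsg.Agent.Lib.Helper28.TCFi23SylChk2.ind0_3 e (by omega) (by omega)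

theorem hind1 : ∀ e, e < 65536 → agreeNF stable BS 1 rest1 e = false := by
  intro e he
  rcases Nat.lt_or_ge e 32768 with h0 | h0
  · exact (indepRange_iff stable BS 1 rest1 0 32768).mp Cfsg.Agent.Lib.Helper28.TCFi23SylChk2.ind1_0 e (by omega) (by omega)
  exact (indepRange_iff stable BS 1 rest1 32768 32768).mp Cfsg.Agent.Lib.Helper28.TCFi23SylChk2.ind1_1 e (by omega) (by omega)

theorem hind2 : ∀ e, e < 32768 → agreeNF stable BS 2 rest2 e = false := by
  intro e he
  exact (indepRange_iff stable BS 2 rest2 0 32768).mp Cfsg.Agent.Lib.Helper28.TCFi23SylChk3.ind2_0 e (by omega) (by omega)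

theorem hind3 : ∀ e, e < 16384 → agreeNF stable BS 3 rest3 e = false := by
  intro e he
  exact (indepRange_iff stable BS 3 rest3 0 16384).mp Cfsg.Agent.Lib.Helper28.TCFi23SylChk3.ind3_0 e (by omega) (by omega)

theorem hind4 : ∀ e, e < 8192 → agreeNF stable BS 4 rest4 e = false := by
  intro e he
  exact (indepRange_iff stable BS 4 rest4 0 8192).mp Cfsg.Agent.Lib.Helper28.TCFi23SylChk3.ind4_0 e (by omega) (by omega)

theorem hind5 : ∀ e, e < 4096 → agreeNF stable BS 5 rest5 e = false := by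
  intro e he
  exact (indepRange_iff stable BS 5 rest5 0 4096).mp Cfsg.Agent.Lib.Helper28.TCFi23SylChk3.ind5_0 e (by omega) (by omega)

theorem hind6 : ∀ e, e < 2048 → agreeNF stable BS 6 rest6 e = false := by
  intro e he
  exact (indepRange_iff stable BS 6 rest6 0 2048).mp Cfsg.Agent.Lib.Helper28.TCFi23SylChk3.ind6_0 e (by omega) (by omega)

theorem hind7 : ∀ e, e < 1024 → agreeNF stable BS 7 rest7 e = false := by
  intro e he
  exact (indepRange_iff stable BS 7 rest7 0 1024).mp Cfsg.Agent.Lib.Helper28.TCFi23SylChk3.ind7_0 e (by omega) (by omega)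

theorem hind8 : ∀ e, e < 512 → agreeNF stable BS 8 rest8 e = false := by
  intro e he
  exact (indepRange_iff stable BS 8 rest8 0 512).mp Cfsg.Agent.Lib.Helper28.TCFi23SylChk3.ind8_0 e (by omega) (by omega)

theorem hind9 : ∀ e, e < 256 → agreeNF stable BS 9 rest9 e = false := by
  intro e he
  exact (indepRange_iff stable BS 9 rest9 0 256).mp Cfsg.Agent.Lib.Helper28.TCFi23SylChk3.ind9_0 e (by omega) (by omega)

theorem hind10 : ∀ e, e < 128 → agreeNF stable BS 10 rest10 e = false := by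
  intro e he
  exact (indepRange_iff stable BS 10 rest10 0 128).mp Cfsg.Agent.Lib.Helper28.TCFi23SylChk3.ind10_0 e (by omega) (by omega)

theorem hind11 : ∀ e, e < 64 → agreeNF stable BS 11 rest11 e = false := by
  intro e he
  exact (indepRange_iff stable BS 11 rest11 0 64).mp Cfsg.Agent.Lib.Helper28.TCFi23SylChk3.ind11_0 e (by omega) (by omega)

theorem hind12 : ∀ e, e < 32 → agreeNF stable BS 12 rest12 e = false := by
  intro e he
  exact (indepRange_iff stable BS 12 rest12 0 32).mp Cfsg.Agent.Lib.Helper28.TCFi23SylChk3.ind12_0 e (by omega) (by omega)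

theorem hind13 : ∀ e, e < 16 → agreeNF stable BS 13 rest13 e = false := by
  intro e he
  exact (indepRange_iff stable BS 13 rest13 0 16).mp Cfsg.Agent.Lib.Helper28.TCFi23SylChk3.ind13_0 e (by omega) (by omega)

theorem hind14 : ∀ e, e < 8 → agreeNF stable BS 14 rest14 e = false := by
  intro e he
  exact (indepRange_iff stable BS 14 rest14 0 8).mp Cfsg.Agent.Lib.Helper28.TCFi23SylChk3.ind14_0 e (by omega) (by omega)

theorem hind15 : ∀ e, e < 4 → agreeNF stable BS 15 rest15 e = false := by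
  intro e he
  exact (indepRange_iff stable BS 15 rest15 0 4).mp Cfsg.Agent.Lib.Helper28.TCFi23SylChk3.ind15_0 e (by omega) (by omega)

theorem hind16 : ∀ e, e < 2 → agreeNF stable BS 16 rest16 e = false := by
  intro e he
  exact (indepRange_iff stable BS 16 rest16 0 2).mp Cfsg.Agent.Lib.Helper28.TCFi23SylChk3.ind16_0 e (by omega) (by omega)

theorem hind17 : ∀ e, e < 1 → agreeNF stable BS 17 rest17 e = false := by
  intro e he
  exact (indepRange_iff stable BS 17 rest17 0 1).mp Cfsg.Agent.Lib.Helper28.TCFi23SylChk3.ind17_0 e (by omega) (by omega)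

theorem helt : ∀ e, e < 262144 → chkElt stable PL Ws Ks 128 e = true := by
  intro e he
  rcases Nat.lt_or_ge e 16384 with h0 | h0
  · exact (chkRange_iff stable PL Ws Ks 128 0 16384).mp Cfsg.Agent.Lib.Helper28.TCFi23SylChk4.elt0 e (by omega) (by omega)
  rcases Nat.lt_or_ge e 32768 with h1 | h1
  · exact (chkRange_iff stable PL Ws Ks 128 16384 16384).mp Cfsg.Agent.Lib.Helper28.TCFi23SylChk4.elt1 e (by omega) (by omega)
  rcases Nat.lt_or_ge e 49152 with h2 | h2
  · exact (chkRange_iff stable PL Ws Ks 128 32768 16384).mp Cfsg.Agent.Lib.Helper28.TCFi23SylChk5.elt2 e (by omega) (by omega)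
  rcases Nat.lt_or_ge e 65536 with h3 | h3
  · exact (chkRange_iff stable PL Ws Ks 128 49152 16384).mp Cfsg.Agent.Lib.Helper28.TCFi23SylChk5.elt3 e (by omega) (by omega)
  rcases Nat.lt_or_ge e 81920 with h4 | h4
  · exact (chkRange_iff stable PL Ws Ks 128 65536 16384).mp Cfsg.Agent.Lib.Helper28.TCFi23SylChk6.elt4 e (by omega) (by omega)
  rcases Nat.lt_or_ge e 98304 with h5 | h5
  · exact (chkRange_iff stable PL Ws Ks 128 81920 16384).mp Cfsg.Agent.Lib.Helper28.TCFi23SylChk6.elt5 e (by omega) (by omega)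
  rcases Nat.lt_or_ge e 114688 with h6 | h6
  · exact (chkRange_iff stable PL Ws Ks 128 98304 16384).mp Cfsg.Agent.Lib.Helper28.TCFi23SylChk7.elt6 e (by omega) (by omega)
  rcases Nat.lt_or_ge e 131072 with h7 | h7
  · exact (chkRange_iff stable PL Ws Ks 128 114688 16384).mp Cfsg.Agent.Lib.Helper28.TCFi23SylChk7.elt7 e (by omega) (by omega)
  rcases Nat.lt_or_ge e 147456 with h8 | h8
  · exact (chkRange_iff stable PL Ws Ks 128 131072 16384).mp Cfsg.Agent.Lib.Helper28.TCFi23SylChk8.elt8 e (by omega) (by omega)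
  rcases Nat.lt_or_ge e 163840 with h9 | h9
  · exact (chkRange_iff stable PL Ws Ks 128 147456 16384).mp Cfsg.Agent.Lib.Helper28.TCFi23SylChk8.elt9 e (by omega) (by omega)
  rcases Nat.lt_or_ge e 180224 with h10 | h10
  · exact (chkRange_iff stable PL Ws Ks 128 163840 16384).mp Cfsg.Agent.Lib.Helper28.TCFi23SylChk9.elt10 e (by omega) (by omega)
  rcases Nat.lt_or_ge e 196608 with h11 | h11
  · exact (chkRange_iff stable PL Ws Ks 128 180224 16384).mp Cfsg.Agent.Lib.Helper28.TCFi23SylChk9.elt11 e (by omega) (by omega)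
  rcases Nat.lt_or_ge e 212992 with h12 | h12
  · exact (chkRange_iff stable PL Ws Ks 128 196608 16384).mp Cfsg.Agent.Lib.Helper28.TCFi23SylChk10.elt12 e (by omega) (by omega)
  rcases Nat.lt_or_ge e 229376 with h13 | h13
  · exact (chkRange_iff stable PL Ws Ks 128 212992 16384).mp Cfsg.Agent.Lib.Helper28.TCFi23SylChk10.elt13 e (by omega) (by omega)
  rcases Nat.lt_or_ge e 245760 with h14 | h14
  · exact (chkRange_iff stable PL Ws Ks 128 229376 16384).mp Cfsg.Agent.Lib.Helper28.TCFi23SylChk11.elt14 e (by omega) (by omega)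
  exact (chkRange_iff stable PL Ws Ks 128 245760 16384).mp Cfsg.Agent.Lib.Helper28.TCFi23SylChk11.elt15 e (by omega) (by omega)

theorem hsteps : ∀ i, i < PL.length → ∀ e, e < 2 ^ (PL.drop (i + 1)).length →
    agreeNF stable BS (PL.getD i 0) (PL.drop (i + 1)) e = false := by
  intro i hi
  have hi' : i < 18 := hi
  interval_cases i
  · exact fun e he => hind0 e he
  · exact fun e he => hind1 e he
  · exact fun e he => hind2 e he
  · exact fun e he => hind3 e he
  · exact fun e he => hind4 e he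
  · exact fun e he => hind5 e he
  · exact fun e he => hind6 e he
  · exact fun e he => hind7 e he
  · exact fun e he => hind8 e he
  · exact fun e he => hind9 e he
  · exact fun e he => hind10 e he
  · exact fun e he => hind11 e he
  · exact fun e he => hind12 e he
  · exact fun e he => hind13 e he
  · exact fun e he => hind14 e he
  · exact fun e he => hind15 e he
  · exact fun e he => hind16 e he
  · exact fun e he => hind17 e he

/-- the statement for a model of the small table -/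
theorem core_of [Finite X] (W : WModel stable 18 BS X) :
    ∃ (S V : Subgroup X) (K : Set X), Nat.card S = 2 ^ 18 ∧ V ≤ S ∧ Nat.card V = 2 ^ 11 ∧
    (∀ a ∈ V, ∀ b ∈ V, a * b = b * a) ∧ (∀ a ∈ V, a ^ 2 = 1) ∧ (∀ s ∈ S, ∀ v ∈ V, s * v * s⁻¹ ∈ V) ∧
    2 * K.ncard < 2 ^ 11 ∧ ∀ x ∈ S, x ∉ V → x ∉ K → Cfsg.Agent.Lib.Helper28.Syl2Abs.Excl S x := by
  classical
  have hBSlt : ∀ b ∈ BS, b < stable.n := by decide
  obtain ⟨hok, hch⟩ := chain_of_chk2 W PL CS Cfsg.Agent.Lib.Helper28.TCFi23SylChk0.hchain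
  have hind : Indep2 (PL.map W.η) := indep_of_steps W hBSlt PL hok hsteps
  have hVsub : ∀ l ∈ VL, l ∈ PL := by decide
  have hdrop : (PL.map W.η).drop 7 = VL.map W.η := by simp [PL, VL]
  have hlenP : (PL.map W.η).length = 18 := by simp [PL]
  have hlenV : (VL.map W.η).length = 11 := by simp [VL]
  have hcomm : ∀ a ∈ VL.map W.η, ∀ b ∈ VL.map W.η, a * b = b * a := comm_of_chk W hok hVsub hVsub Cfsg.Agent.Lib.Helper28.TCFi23SylChk0.hcomm
  have hsq : ∀ a ∈ VL.map W.η, a ^ 2 = 1 := by
    intro a ha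
    rw [List.mem_map] at ha
    obtain ⟨l, hl, rfl⟩ := ha
    exact (hok l (hVsub l hl)).2
  have hgsq : ∀ g ∈ PL.map W.η, g ^ 2 = 1 := by
    intro a ha
    rw [List.mem_map] at ha
    obtain ⟨l, hl, rfl⟩ := ha
    exact (hok l hl).2
  have hnorm := norm_of_chk W hok hVsub PL VN (fun l hl => hl) Cfsg.Agent.Lib.Helper28.TCFi23SylChk0.hnorm
  have hchV : Chain2 (VL.map W.η) := by rw [← hdrop]; exact chain2_drop _ hch 7
  have hinV : Indep2 (VL.map W.η) := by rw [← hdrop]; exact indep2_drop _ hind 7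
  refine ⟨cl (PL.map W.η), cl (VL.map W.η),
    ((Ks.toFinset.image fun e => nfElt2 (PL.map W.η) e : Finset X) : Set X), ?_, ?_, ?_, ?_, ?_, ?_, ?_, ?_⟩
  · rw [card_cl2 _ hch hind, hlenP]
  · rw [← hdrop]
    unfold cl
    exact Subgroup.closure_mono fun x hx => List.mem_of_mem_drop hx
  · rw [card_cl2 _ hchV hinV, hlenV]
  · exact comm_of_cl hcomm
  · exact sq_of_cl hcomm hsq
  · exact conj_mem_of_gens hgsq hnorm
  · rw [Set.ncard_coe_finset]
    have h1 : (Ks.toFinset.image fun e => nfElt2 (PL.map W.η) e).card ≤ Ks.toFinset.card := Finset.card_image_le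
    have h2 : Ks.toFinset.card ≤ Ks.length := List.toFinset_card_le Ks
    have h3 : Ks.length = 128 := by decide
    omega
  · intro x hxS hxV hxK
    obtain ⟨e, he, rfl⟩ := exists_nf2 _ hch x hxS
    rw [hlenP] at he
    have he' : e < 262144 := by norm_num at he; exact he
    rcases excl_of_chk W hok Ws Cfsg.Agent.Lib.Helper28.TCFi23SylChk0.hwits Ks 128 e (helt e he') with h | h | h
    · exfalso
      apply hxV
      rw [← hdrop]
      exact nfElt2_mem_drop _ 7 e h
    · exfalso
      apply hxK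
      rw [Finset.mem_coe, Finset.mem_image]
      exact ⟨e, List.mem_toFinset.mpr h, rfl⟩
    · exact h

/-- the Sylow 2-subgroup, its normal elementary abelian subgroup and the exceptional set -/
theorem core : ∃ (S V : Subgroup X) (K : Set X), Nat.card S = 2 ^ 18 ∧ V ≤ S ∧ Nat.card V = 2 ^ 11 ∧
    (∀ a ∈ V, ∀ b ∈ V, a * b = b * a) ∧ (∀ a ∈ V, a ^ 2 = 1) ∧ (∀ s ∈ S, ∀ v ∈ V, s * v * s⁻¹ ∈ V) ∧
    2 * K.ncard < 2 ^ 11 ∧ ∀ x ∈ S, x ∉ V → x ∉ K → Cfsg.Agent.Lib.Helper28.Syl2Abs.Excl S x := by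
  obtain ⟨hfin, _, ⟨M⟩⟩ := exists_model
  haveI : Finite X := hfin
  have L : Link btable stable 18 sdefs := link_of_rows btable stable 18 sdefs hrows Cfsg.Agent.Lib.Helper28.TCFi23SylChk0.hdefsOK
  have hBSlt : ∀ b ∈ BS, b < stable.n := by decide
  exact core_of (wmodel M L BS Cfsg.Agent.Lib.Helper28.TCFi23SylChk0.hBS hBSlt)

end Cfsg.Agent.Lib.Helper28.TCFi23SylMain
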