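import Cfsg.Agent.Lib.Helper28.TCFi23TrDef
set_option autoImplicit false
set_option maxRecDepth 100000
set_option maxHeartbeats 0

namespace Cfsg.Agent.Lib.Helper28.TCFi23TrCd
open Cfsg.Agent.Lib.Helper28.TC2Upper Cfsg.Agent.Lib.Helper28.TC2Lower Cfsg.Agent.Lib.Helper28.TC2Orbit Cfsg.Agent.Lib.Helper28.TC2Glue Cfsg.Agent.Lib.Helper28.TC2Simple Cfsg.Agent.Lib.Helper28.TCFi23W0Table Cfsg.Agent.Lib.Helper28.TCFi23W0Link Cfsg.Agent.Lib.Helper28.TCFi23TrDef

/-- the path of the word -/
def path : List ℕ := [3, 7, 6, 5, 4, 3, 2, 1, 8, 3, 2, 4, 3, 5, 4, 6, 5, 7, 6, 8, 3, 2, 4, 3, 5, 4, 8, 3, 2, 1, 2, 3, 8, 4, 5, 3, 4, 2, 3, 8, 6, 7, 5, 6, 4, 5, 3, 4, 2, 3, 8, 1, 2, 3, 4, 5, 6, 7, 3, 7, 6, 5, 4, 3, 2, 1, 8, 3, 2, 4, 3, 5, 4, 6, 5, 7, 6, 8, 3, 2, 4, 3, 5, 4, 8, 3, 2, 1, 2, 3, 8, 4, 5, 3, 4, 2, 3, 8, 6, 7, 5, 6, 4, 5, 3, 4, 2, 3, 8, 1, 2, 3, 4, 5, 6, 7]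
theorem path_eq : pathOf lw (zWord ++ [(.d, true)] ++ FreeGroup.invRev zWord ++ [(.d, false)]) = path := by decide +kernel
theorem tp0 : table.relOK [path] 0 2155 = true := by decide +kernel
theorem tp1 : table.relOK [path] 2155 2155 = true := by decide +kernel
theorem tp2 : table.relOK [path] 4310 2155 = true := by decide +kernel
theorem tp3 : table.relOK [path] 6465 2155 = true := by decide +kernel
theorem tp4 : table.relOK [path] 8620 2155 = true := by decide +kernel
theorem tp5 : table.relOK [path] 10775 2155 = true := by decide +kernel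
theorem tp6 : table.relOK [path] 12930 2155 = true := by decide +kernel
theorem tp7 : table.relOK [path] 15085 2155 = true := by decide +kernel
theorem tp8 : table.relOK [path] 17240 2155 = true := by decide +kernel
theorem tp9 : table.relOK [path] 19395 2155 = true := by decide +kernel
theorem tp10 : table.relOK [path] 21550 2155 = true := by decide +kernel
theorem tp11 : table.relOK [path] 23705 2155 = true := by decide +kernel
theorem tp12 : table.relOK [path] 25860 2155 = true := by decide +kernel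
theorem tp13 : table.relOK [path] 28015 2155 = true := by decide +kernel
theorem tp14 : table.relOK [path] 30170 1501 = true := by decide +kernel

theorem fix : ∀ p, p < table.n → table.walkT path p = p := by
  intro p hp
  have hp' : p < 31671 := hp
  rcases Nat.lt_or_ge p 2155 with h0 | h0
  · exact (Table.relOK_iff [path] 0 2155).mp tp0 p (by omega) (by omega) _ (List.mem_singleton.mpr rfl)
  rcases Nat.lt_or_ge p 4310 with h1 | h1
  · exact (Table.relOK_iff [path] 2155 2155).mp tp1 p (by omega) (by omega) _ (List.mem_singleton.mpr rfl)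
  rcases Nat.lt_or_ge p 6465 with h2 | h2
  · exact (Table.relOK_iff [path] 4310 2155).mp tp2 p (by omega) (by omega) _ (List.mem_singleton.mpr rfl)
  rcases Nat.lt_or_ge p 8620 with h3 | h3
  · exact (Table.relOK_iff [path] 6465 2155).mp tp3 p (by omega) (by omega) _ (List.mem_singleton.mpr rfl)
  rcases Nat.lt_or_ge p 10775 with h4 | h4
  · exact (Table.relOK_iff [path] 8620 2155).mp tp4 p (by omega) (by omega) _ (List.mem_singleton.mpr rfl)
  rcases Nat.lt_or_ge p 12930 with h5 | h5
  · exact (Table.relOK_iff [path] 10775 2155).mp tp5 p (by omega) (by omega) _ (List.mem_singleton.mpr rfl)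
  rcases Nat.lt_or_ge p 15085 with h6 | h6
  · exact (Table.relOK_iff [path] 12930 2155).mp tp6 p (by omega) (by omega) _ (List.mem_singleton.mpr rfl)
  rcases Nat.lt_or_ge p 17240 with h7 | h7
  · exact (Table.relOK_iff [path] 15085 2155).mp tp7 p (by omega) (by omega) _ (List.mem_singleton.mpr rfl)
  rcases Nat.lt_or_ge p 19395 with h8 | h8
  · exact (Table.relOK_iff [path] 17240 2155).mp tp8 p (by omega) (by omega) _ (List.mem_singleton.mpr rfl)
  rcases Nat.lt_or_ge p 21550 with h9 | h9
  · exact (Table.relOK_iff [path] 19395 2155).mp tp9 p (by omega) (by omega) _ (List.mem_singleton.mpr rfl)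
  rcases Nat.lt_or_ge p 23705 with h10 | h10
  · exact (Table.relOK_iff [path] 21550 2155).mp tp10 p (by omega) (by omega) _ (List.mem_singleton.mpr rfl)
  rcases Nat.lt_or_ge p 25860 with h11 | h11
  · exact (Table.relOK_iff [path] 23705 2155).mp tp11 p (by omega) (by omega) _ (List.mem_singleton.mpr rfl)
  rcases Nat.lt_or_ge p 28015 with h12 | h12
  · exact (Table.relOK_iff [path] 25860 2155).mp tp12 p (by omega) (by omega) _ (List.mem_singleton.mpr rfl)
  rcases Nat.lt_or_ge p 30170 with h13 | h13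
  · exact (Table.relOK_iff [path] 28015 2155).mp tp13 p (by omega) (by omega) _ (List.mem_singleton.mpr rfl)
  exact (Table.relOK_iff [path] 30170 1501).mp tp14 p (by omega) (by omega) _ (List.mem_singleton.mpr rfl)

end Cfsg.Agent.Lib.Helper28.TCFi23TrCd
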