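import Cfsg.Agent.Lib.Helper28.TCFi23FinalChk
set_option autoImplicit false
set_option maxRecDepth 100000
set_option maxHeartbeats 0

namespace Cfsg.Agent.Lib.Helper28.TCFi23TrDef
open Cfsg.Agent.Lib.Helper28.TC2Upper Cfsg.Agent.Lib.Helper28.TC2Lower Cfsg.Agent.Lib.Helper28.TC2Orbit Cfsg.Agent.Lib.Helper28.TC2Glue Cfsg.Agent.Lib.Helper28.TC2Simple Cfsg.Agent.Lib.Helper28.TCFi23W0Table Cfsg.Agent.Lib.Helper28.TCFi23W0Link

/-- the central involution of the subgroup, as a word -/
def zWord : List (Cfsg.Spor.Fi23.Gen × Bool) := [(.j, true), (.g, true), (.f, true), (.e, true), (.d, true), (.c, true), (.b, true), (.h, true), (.d, true), (.c, true), (.e, true), (.d, true), (.f, true), (.e, true), (.g, true), (.f, true), (.j, true), (.g, true), (.h, true), (.d, true), (.c, true), (.e, true), (.d, true), (.f, true), (.e, true), (.h, true), (.d, true), (.c, true), (.b, true), (.c, false), (.d, false), (.h, false), (.e, false), (.f, false), (.d, false), (.e, false), (.c, false), (.d, false), (.h, false), (.g, false), (.j, false), (.f, false), (.g, false), (.e, false), (.f, false),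 (.d, false), (.e, false), (.c, false), (.d, false), (.h, false), (.b, false), (.c, false), (.d, false), (.e, false), (.f, false), (.g, false), (.j, false)]
/-- a coset whose transposition commutes with `z` -/
def ycWord : List (Cfsg.Spor.Fi23.Gen × Bool) := [(.j, true), (.g, true), (.f, true), (.e, true), (.d, true), (.h, true), (.c, true), (.d, true), (.e, true), (.f, true), (.g, true), (.j, true)]
/-- a coset whose transposition does not commute with `z` -/
def yoWord : List (Cfsg.Spor.Fi23.Gen × Bool) := [(.j, true)]
theorem hyc : orbData.oid (table.walkT (pathOf lw ycWord) 0) = 2 := by decide +kernel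
theorem hyo : orbData.oid (table.walkT (pathOf lw yoWord) 0) = 1 := by decide +kernel
theorem hmc : table.walkT (pathOf lw (FreeGroup.invRev ycWord ++ zWord ++ ycWord)) 0 = 0 := by decide +kernel
theorem hmo : table.walkT (pathOf lw (FreeGroup.invRev yoWord ++ zWord ++ yoWord ++ zWord ++ FreeGroup.invRev yoWord)) 0 = 0 := by decide +kernel
theorem hzne : table.walkT (pathOf lw zWord) 1 ≠ 1 := by decide +kernel

end Cfsg.Agent.Lib.Helper28.TCFi23TrDef
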