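import Cfsg.Agent.Lib.Helper28.TCFi23TrDef
set_option autoImplicit false
set_option maxRecDepth 100000
set_option maxHeartbeats 0

namespace Cfsg.Agent.Lib.Helper28.TCFi23TrZ
open Cfsg.Agent.Lib.Helper28.TC2Upper Cfsg.Agent.Lib.Helper28.TC2Lower Cfsg.Agent.Lib.Helper28.TC2Orbit Cfsg.Agent.Lib.Helper28.TC2Glue Cfsg.Agent.Lib.Helper28.TC2Simple Cfsg.Agent.Lib.Helper28.TCFi23W0Table Cfsg.Agent.Lib.Helper28.TCFi23W0Link Cfsg.Agent.Lib.Helper28.TCFi23TrDef

/-- the path of the word -/
def path : List ℕ := [7, 6, 5, 4, 3, 2, 1, 8, 3, 2, 4, 3, 5, 4, 6, 5, 7, 6, 8, 3, 2, 4, 3, 5, 4, 8, 3, 2, 1, 2, 3, 8, 4, 5, 3, 4, 2, 3, 8, 6, 7, 5, 6, 4, 5, 3, 4, 2, 3, 8, 1, 2, 3, 4, 5, 6, 7, 7, 6, 5, 4, 3, 2, 1, 8, 3, 2, 4, 3, 5, 4, 6, 5, 7, 6, 8, 3, 2, 4, 3, 5, 4, 8, 3, 2, 1, 2, 3, 8, 4, 5, 3, 4, 2, 3, 8, 6, 7, 5, 6, 4, 5, 3, 4, 2, 3, 8, 1, 2, 3, 4, 5, 6, 7]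
theorem path_eq : pathOf lw (zWord ++ zWord) = path := by decide +kernel
theorem tp0 : table.relOK [path] 0 2192 = true := by decide +kernel
theorem tp1 : table.relOK [path] 2192 2192 = true := by decide +kernel
theorem tp2 : table.relOK [path] 4384 2192 = true := by decide +kernel
theorem tp3 : table.relOK [path] 6576 2192 = true := by decide +kernel
theorem tp4 : table.relOK [path] 8768 2192 = true := by decide +kernel
theorem tp5 : table.relOK [path] 10960 2192 = true := by decide +kernel
theorem tp6 : table.relOK [path] 13152 2192 = true := by decide +kernel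
theorem tp7 : table.relOK [path] 15344 2192 = true := by decide +kernel
theorem tp8 : table.relOK [path] 17536 2192 = true := by decide +kernel
theorem tp9 : table.relOK [path] 19728 2192 = true := by decide +kernel
theorem tp10 : table.relOK [path] 21920 2192 = true := by decide +kernel
theorem tp11 : table.relOK [path] 24112 2192 = true := by decide +kernel
theorem tp12 : table.relOK [path] 26304 2192 = true := by decide +kernel
theorem tp13 : table.relOK [path] 28496 2192 = true := by decide +kernel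
theorem tp14 : table.relOK [path] 30688 983 = true := by decide +kernel

theorem fix : ∀ p, p < table.n → table.walkT path p = p := by
  intro p hp
  have hp' : p < 31671 := hp
  rcases Nat.lt_or_ge p 2192 with h0 | h0
  · exact (Table.relOK_iff [path] 0 2192).mp tp0 p (by omega) (by omega) _ (List.mem_singleton.mpr rfl)
  rcases Nat.lt_or_ge p 4384 with h1 | h1
  · exact (Table.relOK_iff [path] 2192 2192).mp tp1 p (by omega) (by omega) _ (List.mem_singleton.mpr rfl)
  rcases Nat.lt_or_ge p 6576 with h2 | h2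
  · exact (Table.relOK_iff [path] 4384 2192).mp tp2 p (by omega) (by omega) _ (List.mem_singleton.mpr rfl)
  rcases Nat.lt_or_ge p 8768 with h3 | h3
  · exact (Table.relOK_iff [path] 6576 2192).mp tp3 p (by omega) (by omega) _ (List.mem_singleton.mpr rfl)
  rcases Nat.lt_or_ge p 10960 with h4 | h4
  · exact (Table.relOK_iff [path] 8768 2192).mp tp4 p (by omega) (by omega) _ (List.mem_singleton.mpr rfl)
  rcases Nat.lt_or_ge p 13152 with h5 | h5
  · exact (Table.relOK_iff [path] 10960 2192).mp tp5 p (by omega) (by omega) _ (List.mem_singleton.mpr rfl)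
  rcases Nat.lt_or_ge p 15344 with h6 | h6
  · exact (Table.relOK_iff [path] 13152 2192).mp tp6 p (by omega) (by omega) _ (List.mem_singleton.mpr rfl)
  rcases Nat.lt_or_ge p 17536 with h7 | h7
  · exact (Table.relOK_iff [path] 15344 2192).mp tp7 p (by omega) (by omega) _ (List.mem_singleton.mpr rfl)
  rcases Nat.lt_or_ge p 19728 with h8 | h8
  · exact (Table.relOK_iff [path] 17536 2192).mp tp8 p (by omega) (by omega) _ (List.mem_singleton.mpr rfl)
  rcases Nat.lt_or_ge p 21920 with h9 | h9
  · exact (Table.relOK_iff [path] 19728 2192).mp tp9 p (by omega) (by omega) _ (List.mem_singleton.mpr rfl)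
  rcases Nat.lt_or_ge p 24112 with h10 | h10
  · exact (Table.relOK_iff [path] 21920 2192).mp tp10 p (by omega) (by omega) _ (List.mem_singleton.mpr rfl)
  rcases Nat.lt_or_ge p 26304 with h11 | h11
  · exact (Table.relOK_iff [path] 24112 2192).mp tp11 p (by omega) (by omega) _ (List.mem_singleton.mpr rfl)
  rcases Nat.lt_or_ge p 28496 with h12 | h12
  · exact (Table.relOK_iff [path] 26304 2192).mp tp12 p (by omega) (by omega) _ (List.mem_singleton.mpr rfl)
  rcases Nat.lt_or_ge p 30688 with h13 | h13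
  · exact (Table.relOK_iff [path] 28496 2192).mp tp13 p (by omega) (by omega) _ (List.mem_singleton.mpr rfl)
  exact (Table.relOK_iff [path] 30688 983).mp tp14 p (by omega) (by omega) _ (List.mem_singleton.mpr rfl)

end Cfsg.Agent.Lib.Helper28.TCFi23TrZ
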