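import Cfsg.Agent.Lib.Helper28.TCFi23Data
set_option autoImplicit false
set_option maxRecDepth 100000
set_option maxHeartbeats 0

namespace Cfsg.Agent.Lib.Helper28.TCFi23U0
open Cfsg.Agent.Lib.Helper28.TC2Upper Cfsg.Agent.Lib.Helper28.TCFi23Data

theorem chk0 : data.checkRange 0 738 = true := by decide +kernel
theorem chk1 : data.checkRange 738 799 = true := by decide +kernel
theorem chk2 : data.checkRange 1537 831 = true := by decide +kernel
theorem chk3 : data.checkRange 2368 930 = true := by decide +kernel
theorem chk4 : data.checkRange 3298 959 = true := by decide +kernel
theorem chk5 : data.checkRange 4257 971 = true := by decide +kernel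
theorem chk6 : data.checkRange 5228 1398 = true := by decide +kernel
theorem chk7 : data.checkRange 6626 898 = true := by decide +kernel

end Cfsg.Agent.Lib.Helper28.TCFi23U0
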