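import Cfsg.Agent.Lib.Helper28.TCFi23Data
set_option autoImplicit false
set_option maxRecDepth 100000
set_option maxHeartbeats 0

namespace Cfsg.Agent.Lib.Helper28.TCFi23U1
open Cfsg.Agent.Lib.Helper28.TC2Upper Cfsg.Agent.Lib.Helper28.TCFi23Data

theorem chk8 : data.checkRange 7524 1899 = true := by decide +kernel
theorem chk9 : data.checkRange 9423 820 = true := by decide +kernel
theorem chk10 : data.checkRange 10243 1237 = true := by decide +kernel
theorem chk11 : data.checkRange 11480 2390 = true := by decide +kernel
theorem chk12 : data.checkRange 13870 901 = true := by decide +kernel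
theorem chk13 : data.checkRange 14771 1458 = true := by decide +kernel
theorem chk14 : data.checkRange 16229 3552 = true := by decide +kernel
theorem chk15 : data.checkRange 19781 929 = true := by decide +kernel

end Cfsg.Agent.Lib.Helper28.TCFi23U1
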