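import Cfsg.Agent.Lib.Helper28.TCFi23Data
set_option autoImplicit false
set_option maxRecDepth 100000
set_option maxHeartbeats 0

namespace Cfsg.Agent.Lib.Helper28.TCFi23U2
open Cfsg.Agent.Lib.Helper28.TC2Upper Cfsg.Agent.Lib.Helper28.TCFi23Data

theorem chk16 : data.checkRange 20710 942 = true := by decide +kernel
theorem chk17 : data.checkRange 21652 1916 = true := by decide +kernel
theorem chk18 : data.checkRange 23568 4994 = true := by decide +kernel
theorem chk19 : data.checkRange 28562 851 = true := by decide +kernel
theorem chk20 : data.checkRange 29413 1335 = true := by decide +kernel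
theorem chk21 : data.checkRange 30748 1013 = true := by decide +kernel
theorem chk22 : data.checkRange 31761 3056 = true := by decide +kernel
theorem chk23 : data.checkRange 34817 6830 = true := by decide +kernel

end Cfsg.Agent.Lib.Helper28.TCFi23U2
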