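import Cfsg.Agent.Lib.Helper28.TCFi23Data
set_option autoImplicit false
set_option maxRecDepth 100000
set_option maxHeartbeats 0

namespace Cfsg.Agent.Lib.Helper28.TCFi23U3
open Cfsg.Agent.Lib.Helper28.TC2Upper Cfsg.Agent.Lib.Helper28.TCFi23Data

theorem chk24 : data.checkRange 41647 1011 = true := by decide +kernel
theorem chk25 : data.checkRange 42658 1780 = true := by decide +kernel
theorem chk26 : data.checkRange 44438 1179 = true := by decide +kernel
theorem chk27 : data.checkRange 45617 1143 = true := by decide +kernel
theorem chk28 : data.checkRange 46760 728 = true := by decide +kernel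
theorem chk29 : data.checkRange 47488 728 = true := by decide +kernel
theorem chk30 : data.checkRange 48216 728 = true := by decide +kernel
theorem chk31 : data.checkRange 48944 728 = true := by decide +kernel

end Cfsg.Agent.Lib.Helper28.TCFi23U3
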