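import Cfsg.Agent.Lib.Helper28.TCFi23Data
import Cfsg.Agent.Lib.Helper28.TCFi23U0
set_option autoImplicit false
set_option maxRecDepth 100000
set_option maxHeartbeats 0

namespace Cfsg.Agent.Lib.Helper28.TCFi23U4
open Cfsg.Agent.Lib.Helper28.TC2Upper Cfsg.Agent.Lib.Helper28.TCFi23Data

theorem chk32 : data.checkRange 49672 728 = true := by decide +kernel
theorem chk33 : data.checkRange 50400 728 = true := by decide +kernel
theorem chk34 : data.checkRange 51128 728 = true := by decide +kernel
theorem chk35 : data.checkRange 51856 728 = true := by decide +kernel
theorem chk36 : data.checkRange 52584 728 = true := by decide +kernel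
theorem chk37 : data.checkRange 53312 728 = true := by decide +kernel
theorem chk38 : data.checkRange 54040 728 = true := by decide +kernel
theorem chk39 : data.checkRange 54768 728 = true := by decide +kernel

end Cfsg.Agent.Lib.Helper28.TCFi23U4
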