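import Cfsg.Agent.Lib.Helper28.TCFi23Data
import Cfsg.Agent.Lib.Helper28.TCFi23U1
set_option autoImplicit false
set_option maxRecDepth 100000
set_option maxHeartbeats 0

namespace Cfsg.Agent.Lib.Helper28.TCFi23U5
open Cfsg.Agent.Lib.Helper28.TC2Upper Cfsg.Agent.Lib.Helper28.TCFi23Data

theorem chk40 : data.checkRange 55496 728 = true := by decide +kernel
theorem chk41 : data.checkRange 56224 728 = true := by decide +kernel
theorem chk42 : data.checkRange 56952 728 = true := by decide +kernel
theorem chk43 : data.checkRange 57680 728 = true := by decide +kernel
theorem chk44 : data.checkRange 58408 728 = true := by decide +kernel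
theorem chk45 : data.checkRange 59136 728 = true := by decide +kernel
theorem chk46 : data.checkRange 59864 728 = true := by decide +kernel
theorem chk47 : data.checkRange 60592 728 = true := by decide +kernel

end Cfsg.Agent.Lib.Helper28.TCFi23U5
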