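import Cfsg.Agent.Lib.Helper28.TCFi23Data
import Cfsg.Agent.Lib.Helper28.TCFi23U2
set_option autoImplicit false
set_option maxRecDepth 100000
set_option maxHeartbeats 0

namespace Cfsg.Agent.Lib.Helper28.TCFi23U6
open Cfsg.Agent.Lib.Helper28.TC2Upper Cfsg.Agent.Lib.Helper28.TCFi23Data

theorem chk48 : data.checkRange 61320 728 = true := by decide +kernel
theorem chk49 : data.checkRange 62048 728 = true := by decide +kernel
theorem chk50 : data.checkRange 62776 728 = true := by decide +kernel
theorem chk51 : data.checkRange 63504 728 = true := by decide +kernel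
theorem chk52 : data.checkRange 64232 251 = true := by decide +kernel

end Cfsg.Agent.Lib.Helper28.TCFi23U6
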