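import Cfsg.Agent.Lib.Helper28.TC2Range
import Cfsg.Agent.Lib.Helper28.TCFi24Data
import Cfsg.Agent.Lib.Helper28.TCFi24Table
import Cfsg.Agent.Lib.Helper28.TCFi24M5
set_option autoImplicit false
set_option maxRecDepth 100000
set_option maxHeartbeats 0

namespace Cfsg.Agent.Lib.Helper28.TCFi24M7
open Cfsg.Agent.Lib.Helper28.TC2Upper Cfsg.Agent.Lib.Helper28.TC2Lower Cfsg.Agent.Lib.Helper28.TC2Range Cfsg.Agent.Lib.Helper28.TCFi24Data Cfsg.Agent.Lib.Helper28.TCFi24Table

theorem prm12 : Table.permRange table 150000 12500 = true := by decide +kernel
theorem prm13 : Table.permRange table 162500 12500 = true := by decide +kernel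
theorem prm14 : Table.permRange table 175000 12500 = true := by decide +kernel
theorem prm15 : Table.permRange table 187500 12500 = true := by decide +kernel
theorem prm16 : Table.permRange table 200000 12500 = true := by decide +kernel
theorem prm17 : Table.permRange table 212500 12500 = true := by decide +kernel
theorem prm18 : Table.permRange table 225000 12500 = true := by decide +kernel
theorem prm19 : Table.permRange table 237500 12500 = true := by decide +kernel
theorem prm20 : Table.permRange table 250000 12500 = true := by decide +kernel
theorem prm21 : Table.permRange table 262500 12500 = true := by decide +kernel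

end Cfsg.Agent.Lib.Helper28.TCFi24M7
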