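import Cfsg.Agent.Lib.Helper28.TCFi24Data
import Cfsg.Agent.Lib.Helper28.TCFi24U46
set_option autoImplicit false
set_option maxRecDepth 100000
set_option maxHeartbeats 0

namespace Cfsg.Agent.Lib.Helper28.TCFi24U50
open Cfsg.Agent.Lib.Helper28.TC2Upper Cfsg.Agent.Lib.Helper28.TCFi24Data

theorem chk500 : data.checkRange 374176 616 = true := by decide +kernel
theorem chk501 : data.checkRange 374792 616 = true := by decide +kernel
theorem chk502 : data.checkRange 375408 616 = true := by decide +kernel
theorem chk503 : data.checkRange 376024 616 = true := by decide +kernel
theorem chk504 : data.checkRange 376640 616 = true := by decide +kernel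
theorem chk505 : data.checkRange 377256 616 = true := by decide +kernel
theorem chk506 : data.checkRange 377872 616 = true := by decide +kernel
theorem chk507 : data.checkRange 378488 616 = true := by decide +kernel
theorem chk508 : data.checkRange 379104 616 = true := by decide +kernel
theorem chk509 : data.checkRange 379720 616 = true := by decide +kernel

end Cfsg.Agent.Lib.Helper28.TCFi24U50
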