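import Cfsg.Agent.Lib.Helper28.TCG24W2Data
set_option autoImplicit false
set_option maxRecDepth 100000
set_option maxHeartbeats 0

namespace Cfsg.Agent.Lib.Helper28.TCG24W2U2
open Cfsg.Agent.Lib.Helper28.TC2Upper Cfsg.Agent.Lib.Helper28.TCG24W2Data

theorem chk10 : data.checkRange 19082 3010 = true := by decide +kernel

end Cfsg.Agent.Lib.Helper28.TCG24W2U2
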