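import Cfsg.Agent.Lib.Helper28.TCLower
import Cfsg.Prelude.Def_SporCoxeter
set_option autoImplicit false

/-!
# Verified coset enumeration: glue to presented groups

Words of the free group are given in list form; a coding `lw` turns a letter `(x, b)` into a
natural number.
-/

namespace Cfsg.Agent.Lib.Helper28.TCGlue
open Cfsg.Agent.Lib.Helper28.TCUpper Cfsg.Agent.Lib.Helper28.TCLower

variable {α : Type}

/-- the coded path of a word in list form (paths are read from the right) -/
def pathOf (lw : α × Bool → ℕ) (L : List (α × Bool)) : List ℕ := (L.map lw).reverse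

theorem lift_mk_eq_pathProd {K : Type*} [Group K] (f : α → K) (lw : α × Bool → ℕ) (γ : ℕ → K)
    (hγ : ∀ x b, γ (lw (x, b)) = cond b (f x) (f x)⁻¹) (L : List (α × Bool)) :
    FreeGroup.lift f (FreeGroup.mk L) = pathProd γ (pathOf lw L) := by
  rw [FreeGroup.lift_mk, pathProd_eq, pathOf, List.reverse_reverse, List.map_map]
  congr 1
  apply List.map_congr_left
  rintro ⟨x, b⟩ _
  exact (hγ x b).symm

/-- the Coxeter word `(x y)^m` in list form -/
def coxWord (x y : α) (m : ℕ) : List (α × Bool) := (List.replicate m [(x, true), (y, true)]).flatten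

theorem mk_coxWord (x y : α) (m : ℕ) :
    FreeGroup.mk (coxWord x y m) = (FreeGroup.of x * FreeGroup.of y) ^ m := by
  induction m with
  | zero => rfl
  | succ m ih =>
    rw [pow_succ', ← ih]
    show FreeGroup.mk ([(x, true), (y, true)] ++ coxWord x y m) = _
    rw [← FreeGroup.mul_mk]
    rfl

/-- all Coxeter relators of an edge list, in list form -/
def coxWords [DecidableEq α] (edges : List (α × ℕ × α)) : List (List (α × Bool)) :=
  (Cfsg.Spor.coxNodes edges).flatMap fun x =>
    (Cfsg.Spor.coxNodes edges).map fun y => coxWord x y (Cfsg.Spor.coxLabel edges x y)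

theorem mem_coxRelators_iff [DecidableEq α] (edges : List (α × ℕ × α)) (r : FreeGroup α) :
    r ∈ Cfsg.Spor.coxRelators edges ↔ ∃ L ∈ coxWords edges, r = FreeGroup.mk L := by
  unfold Cfsg.Spor.coxRelators coxWords
  simp only [Set.mem_setOf_eq, List.mem_flatMap, List.mem_map]
  constructor
  · rintro ⟨x, hx, y, hy, rfl⟩
    exact ⟨_, ⟨x, hx, y, hy, rfl⟩, (mk_coxWord x y _).symm⟩
  · rintro ⟨L, ⟨x, hx, y, hy, rfl⟩, rfl⟩
    exact ⟨x, hx, y, hy, mk_coxWord x y _⟩

/-- the relators of a Coxeter-type presentation, in list form -/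
theorem mem_rels_iff [DecidableEq α] (edges : List (α × ℕ × α)) (extra : List (FreeGroup α))
    (extraWords : List (List (α × Bool))) (hextra : extra = extraWords.map FreeGroup.mk)
    (r : FreeGroup α) :
    r ∈ Cfsg.Spor.coxRelators edges ∪ {r | r ∈ extra} ↔
      ∃ L ∈ coxWords edges ++ extraWords, r = FreeGroup.mk L := by
  rw [Set.mem_union, mem_coxRelators_iff, Set.mem_setOf_eq, hextra]
  simp only [List.mem_map, List.mem_append]
  constructor
  · rintro (⟨L, hL, rfl⟩ | ⟨L, hL, rfl⟩)
    · exact ⟨L, Or.inl hL, rfl⟩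
    · exact ⟨L, Or.inr hL, rfl⟩
  · rintro ⟨L, hL | hL, rfl⟩
    · exact Or.inl ⟨L, hL, rfl⟩
    · exact Or.inr ⟨L, hL, rfl⟩

/-- value of a letter in a presented group -/
def letVal {rels : Set (FreeGroup α)} (xb : α × Bool) : PresentedGroup rels :=
  cond xb.2 (PresentedGroup.of xb.1) (PresentedGroup.of xb.1)⁻¹

/-- the elements attached to the coded letters -/
def gam {rels : Set (FreeGroup α)} (k : ℕ) (dec : ℕ → α × Bool) (l : ℕ) : PresentedGroup rels :=
  if l < k then letVal (dec l) else 1

/-- a node of a Coxeter graph is an involution of the presented group -/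
theorem invol_of_mem_coxNodes [DecidableEq α] (edges : List (α × ℕ × α)) (extra : Set (FreeGroup α))
    {x : α} (hx : x ∈ Cfsg.Spor.coxNodes edges) :
    (PresentedGroup.of x : PresentedGroup (Cfsg.Spor.coxRelators edges ∪ extra))⁻¹ = PresentedGroup.of x := by
  have hmem : (FreeGroup.of x * FreeGroup.of x) ^ 1 ∈ Cfsg.Spor.coxRelators edges ∪ extra := by
    left
    refine ⟨x, hx, x, hx, ?_⟩
    simp [Cfsg.Spor.coxLabel]
  have h1 : PresentedGroup.mk (Cfsg.Spor.coxRelators edges ∪ extra)
      ((FreeGroup.of x * FreeGroup.of x) ^ 1) = 1 := PresentedGroup.one_of_mem hmem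
  rw [pow_one, map_mul] at h1
  exact inv_eq_of_mul_eq_one_left h1

section Main
variable (rels S : Set (FreeGroup α)) (relWords subWords : List (List (α × Bool)))
  (lw : α × Bool → ℕ) (dec : ℕ → α × Bool) (D : Data) (T : Table)

/-- the hypotheses connecting a presentation, a coding and the two certificates -/
structure Link : Prop where
  hrels : ∀ r, r ∈ rels ↔ ∃ L ∈ relWords, r = FreeGroup.mk L
  hS : ∀ s, s ∈ S ↔ ∃ L ∈ subWords, s = FreeGroup.mk L
  lwk : ∀ xb, lw xb < D.k
  lwinv : ∀ x, lw (x, false) = D.invl (lw (x, true))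
  d1 : ∀ l, l < D.k → lw (dec l) = l
  d2 : ∀ x, dec (lw (x, true)) = (x, true)
  d3 : ∀ x, dec (lw (x, false)) = (x, false) ∨
    (dec (lw (x, false)) = (x, true) ∧ (PresentedGroup.of x : PresentedGroup rels)⁻¹ = PresentedGroup.of x)
  invk : ∀ l, l < D.k → D.invl l < D.k ∧ D.invl (D.invl l) = l
  relD : BT.All (fun t => wfWord D t ∧ ∃ L ∈ relWords, t.2.1 = pathOf lw L) D.rel
  subD : BT.All (fun t => wfWord D t ∧ ∃ L ∈ subWords, t.2.1 = pathOf lw L) D.sub
  Tk : T.k = D.k
  Tinv : ∀ l, T.invl l = D.invl l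

variable {rels S relWords subWords lw dec D T}

theorem gam_lw (hL : Link rels S relWords subWords lw dec D T) (x : α) (b : Bool) :
    (gam D.k dec (lw (x, b)) : PresentedGroup rels) = cond b (PresentedGroup.of x) (PresentedGroup.of x)⁻¹ := by
  unfold gam
  rw [if_pos (hL.lwk _)]
  cases b with
  | true => rw [hL.d2]; rfl
  | false =>
    rcases hL.d3 x with h | ⟨h1, h2⟩
    · rw [h]; rfl
    · rw [h1]
      show PresentedGroup.of x = (PresentedGroup.of x)⁻¹
      exact h2.symm

theorem gam_inv (hL : Link rels S relWords subWords lw dec D T) (l : ℕ) (hl : l < D.k) :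
    (gam D.k dec (D.invl l) : PresentedGroup rels) = (gam D.k dec l)⁻¹ := by
  rcases hxb : dec l with ⟨x, b⟩
  have hl' : lw (x, b) = l := by rw [← hxb]; exact hL.d1 l hl
  rw [← hl']
  cases b with
  | true =>
    rw [← hL.lwinv, gam_lw hL, gam_lw hL]
    rfl
  | false =>
    rw [hL.lwinv, (hL.invk _ (hL.lwk _)).2, ← hL.lwinv, gam_lw hL, gam_lw hL]
    show PresentedGroup.of x = ((PresentedGroup.of x)⁻¹)⁻¹
    rw [inv_inv]

theorem mk_eq_pathProd (hL : Link rels S relWords subWords lw dec D T) (L : List (α × Bool)) :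
    PresentedGroup.mk rels (FreeGroup.mk L) = pathProd (gam D.k dec) (pathOf lw L) := by
  rw [← lift_mk_eq_pathProd (fun x => (PresentedGroup.of x : PresentedGroup rels)) lw _ (gam_lw hL)]
  have : FreeGroup.lift (fun x => (PresentedGroup.of x : PresentedGroup rels)) = PresentedGroup.mk rels := by
    ext x
    simp [PresentedGroup.of]
  rw [this]

theorem hyp_of_link (hL : Link rels S relWords subWords lw dec D T) :
    Hyp D (gam D.k dec : ℕ → PresentedGroup rels)
      ((QuotientGroup.mk 1 : PresentedGroup rels ⧸ (Subgroup.closure S).map (PresentedGroup.mk rels))) := by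
  refine ⟨gam_inv hL, ?_, ?_⟩
  · refine BT.look_of_all' ?_ _ hL.relD
    rintro t ⟨ht, L, hLm, hp⟩
    refine ⟨ht, fun x => ?_⟩
    rw [pathAct_eq_pathProd, hp, ← mk_eq_pathProd hL]
    have : FreeGroup.mk L ∈ rels := (hL.hrels _).mpr ⟨L, hLm, rfl⟩
    rw [PresentedGroup.one_of_mem this, one_smul]
  · refine BT.look_of_all' ?_ _ hL.subD
    rintro t ⟨ht, L, hLm, hp⟩
    refine ⟨ht, ?_⟩
    rw [pathAct_eq_pathProd, hp, ← mk_eq_pathProd hL]
    have : FreeGroup.mk L ∈ S := (hL.hS _).mpr ⟨L, hLm, rfl⟩
    have hH : PresentedGroup.mk rels (FreeGroup.mk L) ∈ (Subgroup.closure S).map (PresentedGroup.mk rels) :=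
      Subgroup.mem_map_of_mem _ (Subgroup.subset_closure this)
    show (QuotientGroup.mk (PresentedGroup.mk rels (FreeGroup.mk L) * 1) : _ ⧸ _) = QuotientGroup.mk 1
    rw [mul_one, QuotientGroup.eq, mul_one]
    exact Subgroup.inv_mem _ hH

theorem mem_closure_gam (hL : Link rels S relWords subWords lw dec D T) (g : PresentedGroup rels) :
    g ∈ Submonoid.closure {g : PresentedGroup rels | ∃ l, l < D.k ∧ g = gam D.k dec l} := by
  induction g using PresentedGroup.induction_on with
  | H z =>
    induction z using FreeGroup.induction_on with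
    | C1 => rw [map_one]; exact Submonoid.one_mem _
    | of x =>
      apply Submonoid.subset_closure
      exact ⟨lw (x, true), hL.lwk _, (gam_lw hL x true).symm⟩
    | inv_of x _ =>
      apply Submonoid.subset_closure
      refine ⟨lw (x, false), hL.lwk _, ?_⟩
      rw [gam_lw hL x false, map_inv]
      rfl
    | mul x y hx hy => rw [map_mul]; exact Submonoid.mul_mem _ hx hy

/-- the upper bound: the cosets are covered by the live nodes -/
theorem upper (hL : Link rels S relWords subWords lw dec D T)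
    (hchk : ∀ v, v < D.N → D.checkNode v = true) (hb : D.boundsOK = true) (hfin : D.finalOK = true) :
    Finite (PresentedGroup rels ⧸ (Subgroup.closure S).map (PresentedGroup.mk rels)) ∧
    Nat.card (PresentedGroup rels ⧸ (Subgroup.closure S).map (PresentedGroup.mk rels)) ≤ D.countLive := by
  have hy := hyp_of_link hL
  have hnode : ∀ v, v < D.N → (∀ l, l < D.k → D.checkE v l = true) ∧ D.checkQ v = true := by
    intro v hv
    have := hchk v hv
    unfold Data.checkNode at this
    rw [Bool.and_eq_true, allLoop_eq_true] at this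
    exact this
  have hE : ∀ p l, l < D.k → D.rnk (D.ent l p) ≠ 0 → D.checkE p l = true := by
    intro p l hl hr
    rcases Nat.lt_or_ge p D.N with hp | hp
    · exact (hnode p hp).1 l hl
    · exact absurd (D.rnk_ent_eq_zero hb hp l) hr
  have hQ : ∀ v, D.rnk (D.ent D.k v) ≠ 0 → D.checkQ v = true := by
    intro v hr
    rcases Nat.lt_or_ge v D.N with hp | hp
    · exact (hnode v hp).2
    · exact absurd (D.rnk_ent_eq_zero hb hp D.k) hr
  have hall := all_hold hy hE hQ
  have hcov : ∀ x : PresentedGroup rels ⧸ (Subgroup.closure S).map (PresentedGroup.mk rels),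
      ∃ v, v < D.N ∧ D.live.testBit v = true ∧ x = omega D (gam D.k dec : ℕ → PresentedGroup rels)
        (QuotientGroup.mk 1 : PresentedGroup rels ⧸ (Subgroup.closure S).map (PresentedGroup.mk rels)) v := by
    intro x
    induction x using QuotientGroup.induction_on with
    | H g =>
      obtain ⟨v, hv, hl, he⟩ := cover hall hfin g (mem_closure_gam hL g)
      refine ⟨v, hv, hl, ?_⟩
      rw [← he]
      show _ = (QuotientGroup.mk (g * 1) : _ ⧸ _)
      rw [mul_one]
  exact ⟨finite_of_cover hcov, card_le_countLive hcov⟩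

/-- the permutation representation and the orbit map -/
theorem lower (hL : Link rels S relWords subWords lw dec D T) (hT : T.OK) (hn : 0 < T.n)
    (hrelT : ∀ L ∈ relWords, ∀ p, p < T.n → T.walkT (pathOf lw L) p = p)
    (hsubT : ∀ L ∈ subWords, T.walkT (pathOf lw L) 0 = 0) (htree : T.treeOK = true) :
    ∃ φ : PresentedGroup rels →* Equiv.Perm (Fin T.n),
      (∀ x, φ (PresentedGroup.of x) = Table.sigma hT (lw (x, true))) ∧
      ∃ f : PresentedGroup rels ⧸ (Subgroup.closure S).map (PresentedGroup.mk rels) → Fin T.n,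
        Function.Surjective f ∧ (∀ g q, f (g • q) = φ g (f q)) ∧ f (QuotientGroup.mk 1) = ⟨0, hn⟩ := by
  have hσ : ∀ x b, Table.sigma hT (lw (x, b)) =
      cond b (Table.sigma hT (lw (x, true))) (Table.sigma hT (lw (x, true)))⁻¹ := by
    intro x b
    cases b with
    | true => rfl
    | false =>
      show Table.sigma hT (lw (x, false)) = (Table.sigma hT (lw (x, true)))⁻¹
      rw [hL.lwinv, ← hL.Tinv, Table.sigma_inv hT (by rw [hL.Tk]; exact hL.lwk _)]
  have hlt : ∀ L : List (α × Bool), ∀ l ∈ pathOf lw L, l < T.k := by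
    intro L l hl
    unfold pathOf at hl
    rw [List.mem_reverse, List.mem_map] at hl
    obtain ⟨xb, _, rfl⟩ := hl
    rw [hL.Tk]; exact hL.lwk _
  have hlift : ∀ L : List (α × Bool), FreeGroup.lift (fun x => Table.sigma hT (lw (x, true))) (FreeGroup.mk L) =
      pathProd (Table.sigma hT) (pathOf lw L) :=
    fun L => lift_mk_eq_pathProd _ lw _ hσ L
  have hr : ∀ r ∈ rels, FreeGroup.lift (fun x => Table.sigma hT (lw (x, true))) r = 1 := by
    intro r hr
    obtain ⟨L, hLm, rfl⟩ := (hL.hrels r).mp hr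
    rw [hlift]
    exact Table.pathProd_sigma_eq_one hT _ (hlt L) (hrelT L hLm)
  let φ : PresentedGroup rels →* Equiv.Perm (Fin T.n) := PresentedGroup.toGroup hr
  have hφof : ∀ x, φ (PresentedGroup.of x) = Table.sigma hT (lw (x, true)) := fun x => PresentedGroup.toGroup.of hr
  have hφγ : ∀ l, l < T.k → φ (gam D.k dec l) = Table.sigma hT l := by
    intro l hl
    rw [hL.Tk] at hl
    rcases hxb : dec l with ⟨x, b⟩
    have hl' : lw (x, b) = l := by rw [← hxb]; exact hL.d1 l hl
    rw [← hl', gam_lw hL, hσ]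
    cases b with
    | true => exact hφof x
    | false =>
      show φ (PresentedGroup.of x)⁻¹ = _
      rw [map_inv, hφof]; rfl
  have hH : ∀ h ∈ (Subgroup.closure S).map (PresentedGroup.mk rels), φ h ⟨0, hn⟩ = ⟨0, hn⟩ := by
    intro h hh
    have hle : (Subgroup.closure S).map (PresentedGroup.mk rels) ≤
        (MulAction.stabilizer (Equiv.Perm (Fin T.n)) (⟨0, hn⟩ : Fin T.n)).comap φ := by
      rw [Subgroup.map_le_iff_le_comap, Subgroup.closure_le]
      intro s hs
      obtain ⟨L, hLm, rfl⟩ := (hL.hS s).mp hs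
      show φ (PresentedGroup.mk rels (FreeGroup.mk L)) ∈ MulAction.stabilizer _ _
      rw [MulAction.mem_stabilizer_iff]
      have : φ (PresentedGroup.mk rels (FreeGroup.mk L)) =
          FreeGroup.lift (fun x => Table.sigma hT (lw (x, true))) (FreeGroup.mk L) := rfl
      rw [this, hlift]
      apply Fin.ext
      show (pathProd (Table.sigma hT) (pathOf lw L) ⟨0, hn⟩).val = 0
      rw [Table.pathProd_sigma_apply hT _ (hlt L)]
      exact hsubT L hLm
    exact MulAction.mem_stabilizer_iff.mp (hle hh)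
  refine ⟨φ, hφof, orbitMap _ hn φ hH, orbitMap_surjective _ hT hn φ (gam D.k dec) hH hφγ htree,
    orbitMap_smul _ hn φ hH, ?_⟩
  rw [orbitMap_mk, map_one]
  rfl

/-- the index, and the equivariant bijection with the points of the table -/
theorem index_eq (hL : Link rels S relWords subWords lw dec D T)
    (hchk : ∀ v, v < D.N → D.checkNode v = true) (hb : D.boundsOK = true) (hfin : D.finalOK = true)
    (hcount : D.countLive = T.n) (hT : T.OK) (hn : 0 < T.n)
    (hrelT : ∀ L ∈ relWords, ∀ p, p < T.n → T.walkT (pathOf lw L) p = p)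
    (hsubT : ∀ L ∈ subWords, T.walkT (pathOf lw L) 0 = 0) (htree : T.treeOK = true) :
    ((Subgroup.closure S).map (PresentedGroup.mk rels)).index = T.n ∧
    ∃ φ : PresentedGroup rels →* Equiv.Perm (Fin T.n),
      (∀ x, φ (PresentedGroup.of x) = Table.sigma hT (lw (x, true))) ∧
      ∃ f : PresentedGroup rels ⧸ (Subgroup.closure S).map (PresentedGroup.mk rels) → Fin T.n,
        Function.Bijective f ∧ (∀ g q, f (g • q) = φ g (f q)) ∧ f (QuotientGroup.mk 1) = ⟨0, hn⟩ := by
  obtain ⟨hfinite, hle⟩ := upper hL hchk hb hfin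
  obtain ⟨φ, hφ, f, hsurj, hequiv, h0⟩ := lower hL hT hn hrelT hsubT htree
  rw [hcount] at hle
  have hle' : Nat.card (PresentedGroup rels ⧸ (Subgroup.closure S).map (PresentedGroup.mk rels)) ≤
      Nat.card (Fin T.n) := by rw [Nat.card_fin]; exact hle
  have hbij := hsurj.bijective_of_nat_card_le hle'
  refine ⟨?_, φ, hφ, f, hbij, hequiv, h0⟩
  have := Nat.card_congr (Equiv.ofBijective f hbij)
  rw [Nat.card_fin] at this
  exact this

end Main

end Cfsg.Agent.Lib.Helper28.TCGlue
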