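import Cfsg.Agent.Lib.Helper28.TCUpper
set_option autoImplicit false

/-!
# Verified coset enumeration: the permutation representation (lower bound)

A coset table on `n` points is given by packed columns.  We check that the letters act as
permutations, that the relator paths act trivially, that the subgroup generators fix the point `0`
and that the action is transitive.
-/

namespace Cfsg.Agent.Lib.Helper28.TCLower
open Cfsg.Agent.Lib.Helper28.TCUpper

/-- product of a path: the first letter is the rightmost factor -/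
def pathProd {K : Type*} [Monoid K] (γ : ℕ → K) : List ℕ → K
  | [] => 1
  | l :: ls => pathProd γ ls * γ l

theorem pathAct_eq_pathProd {G : Type*} [Group G] {X : Type*} [MulAction G X] (γ : ℕ → G)
    (w : List ℕ) (x : X) : pathAct γ w x = pathProd γ w • x := by
  induction w generalizing x with
  | nil => simp [pathAct, pathProd]
  | cons l ls ih =>
    show pathAct γ ls (γ l • x) = (pathProd γ ls * γ l) • x
    rw [ih, mul_smul]

theorem pathProd_eq {K : Type*} [Monoid K] (γ : ℕ → K) (w : List ℕ) :
    pathProd γ w = (w.reverse.map γ).prod := by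
  induction w with
  | nil => rfl
  | cons l ls ih =>
    show pathProd γ ls * γ l = _
    rw [ih, List.reverse_cons, List.map_append, List.prod_append]
    simp

/-- static data of a coset table -/
structure Table where
  /-- number of points -/
  n : ℕ
  /-- number of letters -/
  k : ℕ
  /-- slot width and modulus -/
  w : ℕ
  M : ℕ
  /-- columns by letter -/
  col : BT ℕ
  /-- inverse letters -/
  inv : BT ℕ
  /-- tree: slot = parent + M * letter, width `tw`, modulus `TM` -/
  tw : ℕ
  TM : ℕ
  tree : ℕ

namespace Table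
variable (T : Table)

/-- image of the point `p` under the letter `l` -/
noncomputable def tau (l p : ℕ) : ℕ := slot T.w T.M (T.col.look l) p
/-- inverse letter -/
noncomputable def invl (l : ℕ) : ℕ := T.inv.look l

/-- walk along a path -/
noncomputable def walkT (w : List ℕ) : ℕ → ℕ :=
  @List.rec ℕ (fun _ => ℕ → ℕ) (fun p => p) (fun l _ ih p => ih (T.tau l p)) w

theorem walkT_nil (p : ℕ) : T.walkT [] p = p := rfl
theorem walkT_cons (l : ℕ) (ls : List ℕ) (p : ℕ) : T.walkT (l :: ls) p = T.walkT ls (T.tau l p) := rfl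

/-- the letters act as mutually inverse maps on `[0, n)` -/
noncomputable def permOK (lo cnt : ℕ) : Bool :=
  allLoop (fun i => allLoop (fun l => and (Nat.ble (Nat.succ (T.tau l (Nat.add lo i))) T.n)
    (Nat.beq (T.tau (T.invl l) (T.tau l (Nat.add lo i))) (Nat.add lo i))) T.k) cnt

/-- the inverse letter map is an involution on `[0, k)` -/
noncomputable def invOK : Bool :=
  allLoop (fun l => and (Nat.ble (Nat.succ (T.invl l)) T.k) (Nat.beq (T.invl (T.invl l)) l)) T.k

/-- all paths of the list return to their start, for the points `lo, …, lo + cnt - 1` -/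
noncomputable def relOK (rels : List (List ℕ)) (lo cnt : ℕ) : Bool :=
  allLoop (fun i => @List.rec (List ℕ) (fun _ => Bool) true
    (fun r _ ih => and (Nat.beq (T.walkT r (Nat.add lo i)) (Nat.add lo i)) ih) rels) cnt

/-- all paths of the list fix the point `0` -/
noncomputable def subOK (subs : List (List ℕ)) : Bool :=
  @List.rec (List ℕ) (fun _ => Bool) true (fun r _ ih => and (Nat.beq (T.walkT r 0) 0) ih) subs

/-- every point other than `0` is the image of a smaller point under a letter -/
noncomputable def treeOK : Bool :=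
  allLoop (fun i => and (and (Nat.ble (Nat.mod (slot T.tw T.TM T.tree (Nat.succ i)) T.M) i)
    (Nat.ble (Nat.succ (Nat.div (slot T.tw T.TM T.tree (Nat.succ i)) T.M)) T.k))
    (Nat.beq (T.tau (Nat.div (slot T.tw T.TM T.tree (Nat.succ i)) T.M)
      (Nat.mod (slot T.tw T.TM T.tree (Nat.succ i)) T.M)) (Nat.succ i))) (Nat.pred T.n)

/-- the table consists of mutually inverse maps -/
structure OK : Prop where
  perm : ∀ p, p < T.n → ∀ l, l < T.k → T.tau l p < T.n ∧ T.tau (T.invl l) (T.tau l p) = p
  inv : ∀ l, l < T.k → T.invl l < T.k ∧ T.invl (T.invl l) = l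

theorem ok_of_checks (hinv : T.invOK = true) (hperm : T.permOK 0 T.n = true) : T.OK := by
  unfold invOK at hinv
  unfold permOK at hperm
  rw [allLoop_eq_true] at hinv hperm
  constructor
  · intro p hp l hl
    have := hperm p hp
    rw [allLoop_eq_true] at this
    have := this l hl
    rw [Bool.and_eq_true, Nat.ble_eq, Data.nbeq_iff] at this
    have e : Nat.add 0 p = p := by simp
    rw [e] at this
    exact ⟨this.1, this.2⟩
  · intro l hl
    have := hinv l hl
    rw [Bool.and_eq_true, Nat.ble_eq, Data.nbeq_iff] at this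
    exact ⟨this.1, this.2⟩

variable {T}

/-- the permutation of `Fin n` given by the letter `l` (the identity for `l ≥ k`) -/
noncomputable def sigma (h : T.OK) (l : ℕ) : Equiv.Perm (Fin T.n) :=
  if hl : l < T.k then
    { toFun := fun p => ⟨T.tau l p, (h.perm p p.2 l hl).1⟩
      invFun := fun p => ⟨T.tau (T.invl l) p, (h.perm p p.2 _ (h.inv l hl).1).1⟩
      left_inv := fun p => Fin.ext (h.perm p p.2 l hl).2
      right_inv := fun p => Fin.ext (by
        have := (h.perm p p.2 _ (h.inv l hl).1).2
        rwa [(h.inv l hl).2] at this) }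
  else 1

theorem sigma_apply (h : T.OK) {l : ℕ} (hl : l < T.k) (p : Fin T.n) :
    (sigma h l p).val = T.tau l p.val := by
  unfold sigma
  rw [dif_pos hl]
  rfl

theorem sigma_inv (h : T.OK) {l : ℕ} (hl : l < T.k) : sigma h (T.invl l) = (sigma h l)⁻¹ := by
  ext p
  rw [sigma_apply h (h.inv l hl).1]
  have : (sigma h l)⁻¹ p = (sigma h l).symm p := rfl
  rw [this]
  unfold sigma
  rw [dif_pos hl]
  rfl

theorem pathProd_sigma_apply (h : T.OK) (w : List ℕ) (hw : ∀ l ∈ w, l < T.k) (p : Fin T.n) :
    (pathProd (sigma h) w p).val = T.walkT w p.val := by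
  induction w generalizing p with
  | nil => rfl
  | cons l ls ih =>
    show (pathProd (sigma h) ls (sigma h l p)).val = T.walkT ls (T.tau l p.val)
    rw [ih (fun x hx => hw x (List.mem_cons_of_mem _ hx)), sigma_apply h (hw l List.mem_cons_self)]

theorem relOK_iff (rels : List (List ℕ)) (lo cnt : ℕ) :
    T.relOK rels lo cnt = true ↔ ∀ p, lo ≤ p → p < lo + cnt → ∀ r ∈ rels, T.walkT r p = p := by
  unfold relOK
  rw [allLoop_eq_true]
  have key : ∀ (q : ℕ) (rs : List (List ℕ)),
      @List.rec (List ℕ) (fun _ => Bool) true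
        (fun r _ ih => and (Nat.beq (T.walkT r q) q) ih) rs = true ↔ ∀ r ∈ rs, T.walkT r q = q := by
    intro q rs
    induction rs with
    | nil => simp
    | cons r rs ih =>
      show (and (Nat.beq (T.walkT r q) q) _) = true ↔ _
      rw [Bool.and_eq_true, ih, Data.nbeq_iff]
      simp
  constructor
  · intro h p h1 h2 r hr
    have := (key _ _).mp (h (p - lo) (by omega)) r hr
    rwa [show Nat.add lo (p - lo) = p by simp only [Nat.add_eq]; omega] at this
  · intro h i hi
    exact (key _ _).mpr (h _ (by simp only [Nat.add_eq]; omega) (by simp only [Nat.add_eq]; omega))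

theorem subOK_iff (subs : List (List ℕ)) :
    T.subOK subs = true ↔ ∀ r ∈ subs, T.walkT r 0 = 0 := by
  unfold subOK
  induction subs with
  | nil => simp
  | cons r rs ih =>
    show (and (Nat.beq (T.walkT r 0) 0) _) = true ↔ _
    rw [Bool.and_eq_true, ih, Data.nbeq_iff]
    simp

theorem pathProd_sigma_eq_one (h : T.OK) (w : List ℕ) (hw : ∀ l ∈ w, l < T.k)
    (hfix : ∀ p, p < T.n → T.walkT w p = p) : pathProd (sigma h) w = 1 := by
  ext p
  rw [pathProd_sigma_apply h w hw, hfix p p.2]
  rfl

end Table

/-! ### The orbit map -/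

section Orbit
variable {G : Type*} [Group G] (H : Subgroup G) {T : Table} (hT : T.OK) (hn : 0 < T.n)
  (φ : G →* Equiv.Perm (Fin T.n)) (γ : ℕ → G)

/-- the orbit map `g H ↦ φ g 0` -/
noncomputable def orbitMap (hH : ∀ h ∈ H, φ h ⟨0, hn⟩ = ⟨0, hn⟩) : G ⧸ H → Fin T.n :=
  Quotient.lift (fun g : G => φ g ⟨0, hn⟩) (by
    intro a b hab
    have hab' : a⁻¹ * b ∈ H := QuotientGroup.leftRel_apply.mp hab
    have := hH _ hab'
    show φ a ⟨0, hn⟩ = φ b ⟨0, hn⟩
    have e : b = a * (a⁻¹ * b) := by group
    rw [e, map_mul, Equiv.Perm.mul_apply, this])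

theorem orbitMap_mk (hH : ∀ h ∈ H, φ h ⟨0, hn⟩ = ⟨0, hn⟩) (g : G) :
    orbitMap H hn φ hH (QuotientGroup.mk g) = φ g ⟨0, hn⟩ := rfl

theorem orbitMap_smul (hH : ∀ h ∈ H, φ h ⟨0, hn⟩ = ⟨0, hn⟩) (g : G) (q : G ⧸ H) :
    orbitMap H hn φ hH (g • q) = φ g (orbitMap H hn φ hH q) := by
  induction q using QuotientGroup.induction_on with
  | H a =>
    show orbitMap H hn φ hH (QuotientGroup.mk (g * a)) = _
    rw [orbitMap_mk, orbitMap_mk, map_mul, Equiv.Perm.mul_apply]

theorem orbitMap_surjective (hH : ∀ h ∈ H, φ h ⟨0, hn⟩ = ⟨0, hn⟩)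
    (hφ : ∀ l, l < T.k → φ (γ l) = Table.sigma hT l) (htree : T.treeOK = true) :
    Function.Surjective (orbitMap H hn φ hH) := by
  unfold Table.treeOK at htree
  rw [allLoop_eq_true] at htree
  have key : ∀ m : ℕ, ∀ p : ℕ, p ≤ m → ∀ hp : p < T.n, ∃ g : G, φ g ⟨0, hn⟩ = ⟨p, hp⟩ := by
    intro m
    induction m with
    | zero =>
      intro p hp0 hp
      have : p = 0 := by omega
      subst this
      exact ⟨1, by simp⟩
    | succ m ih =>
      intro p hpm hp
      rcases Nat.lt_or_ge p (m + 1) with h | h
      · exact ih p (by omega) hp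
      · have hpe : p = m + 1 := by omega
        subst hpe
        have := htree m (by
          have : m + 1 < T.n := hp
          show m < Nat.pred T.n
          rw [Nat.pred_eq_sub_one]; omega)
        rw [Bool.and_eq_true, Bool.and_eq_true, Nat.ble_eq, Nat.ble_eq, Data.nbeq_iff] at this
        obtain ⟨⟨h1, h2⟩, h3⟩ := this
        set par := Nat.mod (slot T.tw T.TM T.tree (Nat.succ m)) T.M with hpar
        set lt := Nat.div (slot T.tw T.TM T.tree (Nat.succ m)) T.M with hlt
        obtain ⟨g, hg⟩ := ih par h1 (by omega)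
        refine ⟨γ lt * g, ?_⟩
        rw [map_mul, Equiv.Perm.mul_apply, hg, hφ lt h2]
        apply Fin.ext
        rw [Table.sigma_apply hT h2]
        exact h3
  intro p
  obtain ⟨g, hg⟩ := key p.val p.val le_rfl p.2
  exact ⟨QuotientGroup.mk g, by rw [orbitMap_mk, hg]⟩

end Orbit

end Cfsg.Agent.Lib.Helper28.TCLower
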