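import Cfsg.Agent.Lib.Helper28.TCO73BTable
import Cfsg.Agent.Lib.Helper28.TCFi22W1Table
set_option autoImplicit false
set_option maxRecDepth 100000
set_option maxHeartbeats 0

namespace Cfsg.Agent.Lib.Helper28.TCO73BChk1
open Cfsg.Agent.Lib.Helper28.TC2Upper Cfsg.Agent.Lib.Helper28.TC2Lower Cfsg.Agent.Lib.Helper28.TC2Orbit Cfsg.Agent.Lib.Helper28.TC2Range Cfsg.Agent.Lib.Helper28.TC2Bsgs Cfsg.Agent.Lib.Helper28.TCO73BTable

theorem hA0 : ∀ l ∈ A0, l < btable.k ∧ ∀ q ∈ ([] : List ℕ), btable.tau l q = q := by decide +kernel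
theorem conn1_0 : OrbData.connOKc orb1 btable 1 0 364 = true := by decide +kernel
theorem cnt1 : orb1.count 364 1 = 243 := by decide +kernel
theorem hgens1 : BT.all (fun s => decide (s ∈ A1.map fun l => [l])) orb1.gens = true := by decide +kernel
theorem hA1 : ∀ l ∈ A1, l < btable.k ∧ ∀ q ∈ ([0] : List ℕ), btable.tau l q = q := by decide +kernel
theorem conn2_0 : OrbData.connOKc orb2 btable 1 0 364 = true := by decide +kernel
theorem cnt2 : orb2.count 364 1 = 72 := by decide +kernel
theorem hgens2 : BT.all (fun s => decide (s ∈ A2.map fun l => [l])) orb2.gens = true := by decide +kernel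
theorem hA2 : ∀ l ∈ A2, l < btable.k ∧ ∀ q ∈ ([1, 0] : List ℕ), btable.tau l q = q := by decide +kernel
theorem conn3_0 : OrbData.connOKc orb3 btable 1 0 364 = true := by decide +kernel
theorem cnt3 : orb3.count 364 1 = 20 := by decide +kernel
theorem hgens3 : BT.all (fun s => decide (s ∈ A3.map fun l => [l])) orb3.gens = true := by decide +kernel
theorem hA3 : ∀ l ∈ A3, l < btable.k ∧ ∀ q ∈ ([2, 1, 0] : List ℕ), btable.tau l q = q := by decide +kernel
theorem conn4_0 : OrbData.connOKc orb4 btable 1 0 364 = true := by decide +kernel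
theorem cnt4 : orb4.count 364 1 = 9 := by decide +kernel
theorem hgens4 : BT.all (fun s => decide (s ∈ A4.map fun l => [l])) orb4.gens = true := by decide +kernel
theorem hA4 : ∀ l ∈ A4, l < btable.k ∧ ∀ q ∈ ([3, 2, 1, 0] : List ℕ), btable.tau l q = q := by decide +kernel
theorem conn5_0 : OrbData.connOKc orb5 btable 1 0 364 = true := by decide +kernel
theorem cnt5 : orb5.count 364 1 = 2 := by decide +kernel
theorem hgens5 : BT.all (fun s => decide (s ∈ A5.map fun l => [l])) orb5.gens = true := by decide +kernel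
theorem hA5 : ∀ l ∈ A5, l < btable.k ∧ ∀ q ∈ ([4, 3, 2, 1, 0] : List ℕ), btable.tau l q = q := by decide +kernel
theorem conn6_0 : OrbData.connOKc orb6 btable 1 0 364 = true := by decide +kernel
theorem cnt6 : orb6.count 364 1 = 2 := by decide +kernel
theorem hgens6 : BT.all (fun s => decide (s ∈ A6.map fun l => [l])) orb6.gens = true := by decide +kernel
theorem hA6 : ∀ l ∈ A6, l < btable.k ∧ ∀ q ∈ ([6, 4, 3, 2, 1, 0] : List ℕ), btable.tau l q = q := by decide +kernel
theorem hinvOK : btable.invOK = true := by decide +kernel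
theorem dlt : defsLt 8 btable.k defs = true := by decide +kernel
theorem hrel : btable.relOK Cfsg.Agent.Lib.Helper28.TCFi22W1Table.relPaths 0 364 = true := by decide +kernel

end Cfsg.Agent.Lib.Helper28.TCO73BChk1
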