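import Cfsg.Agent.Lib.Helper28.TCO73BChk0
import Cfsg.Agent.Lib.Helper28.TCO73BChk1

set_option autoImplicit false
set_option maxRecDepth 100000

namespace Cfsg.Agent.Lib.Helper28.TCO73BMain
open Cfsg.Agent.Lib.Helper28.TC2Upper Cfsg.Agent.Lib.Helper28.TC2Lower Cfsg.Agent.Lib.Helper28.TC2Orbit Cfsg.Agent.Lib.Helper28.TC2Range Cfsg.Agent.Lib.Helper28.TC2Bsgs Cfsg.Agent.Lib.Helper28.TCO73BTable

theorem hpermAll : ∀ p, p < btable.n → Table.permRow btable p = true := by
  intro p hp
  have hp' : p < 364 := hp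
  exact (Table.permRange_iff btable 0 364).mp Cfsg.Agent.Lib.Helper28.TCO73BChk0.prm0 p (by omega) (by omega)

theorem hTB : btable.OK := Table.ok_of_rows btable Cfsg.Agent.Lib.Helper28.TCO73BChk1.hinvOK hpermAll

theorem hdef8 : ∀ p, p < btable.n → btable.walkT (defs.look 8) p = btable.tau 8 p := by
  intro p hp
  have hp' : p < 364 := hp
  exact (defRange_iff defs 8 0 364).mp Cfsg.Agent.Lib.Helper28.TCO73BChk0.def8_0 p (by omega) (by omega)

theorem hdef9 : ∀ p, p < btable.n → btable.walkT (defs.look 9) p = btable.tau 9 p := by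
  intro p hp
  have hp' : p < 364 := hp
  exact (defRange_iff defs 9 0 364).mp Cfsg.Agent.Lib.Helper28.TCO73BChk0.def9_0 p (by omega) (by omega)

theorem hdef10 : ∀ p, p < btable.n → btable.walkT (defs.look 10) p = btable.tau 10 p := by
  intro p hp
  have hp' : p < 364 := hp
  exact (defRange_iff defs 10 0 364).mp Cfsg.Agent.Lib.Helper28.TCO73BChk0.def10_0 p (by omega) (by omega)

theorem hdef11 : ∀ p, p < btable.n → btable.walkT (defs.look 11) p = btable.tau 11 p := by
  intro p hp
  have hp' : p < 364 := hp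
  exact (defRange_iff defs 11 0 364).mp Cfsg.Agent.Lib.Helper28.TCO73BChk0.def11_0 p (by omega) (by omega)

theorem hdef12 : ∀ p, p < btable.n → btable.walkT (defs.look 12) p = btable.tau 12 p := by
  intro p hp
  have hp' : p < 364 := hp
  exact (defRange_iff defs 12 0 364).mp Cfsg.Agent.Lib.Helper28.TCO73BChk0.def12_0 p (by omega) (by omega)

theorem hdef13 : ∀ p, p < btable.n → btable.walkT (defs.look 13) p = btable.tau 13 p := by
  intro p hp
  have hp' : p < 364 := hp
  exact (defRange_iff defs 13 0 364).mp Cfsg.Agent.Lib.Helper28.TCO73BChk0.def13_0 p (by omega) (by omega)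

theorem hdef14 : ∀ p, p < btable.n → btable.walkT (defs.look 14) p = btable.tau 14 p := by
  intro p hp
  have hp' : p < 364 := hp
  exact (defRange_iff defs 14 0 364).mp Cfsg.Agent.Lib.Helper28.TCO73BChk0.def14_0 p (by omega) (by omega)

theorem hdef15 : ∀ p, p < btable.n → btable.walkT (defs.look 15) p = btable.tau 15 p := by
  intro p hp
  have hp' : p < 364 := hp
  exact (defRange_iff defs 15 0 364).mp Cfsg.Agent.Lib.Helper28.TCO73BChk0.def15_0 p (by omega) (by omega)

theorem hdef16 : ∀ p, p < btable.n → btable.walkT (defs.look 16) p = btable.tau 16 p := by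
  intro p hp
  have hp' : p < 364 := hp
  exact (defRange_iff defs 16 0 364).mp Cfsg.Agent.Lib.Helper28.TCO73BChk0.def16_0 p (by omega) (by omega)

theorem hdef17 : ∀ p, p < btable.n → btable.walkT (defs.look 17) p = btable.tau 17 p := by
  intro p hp
  have hp' : p < 364 := hp
  exact (defRange_iff defs 17 0 364).mp Cfsg.Agent.Lib.Helper28.TCO73BChk0.def17_0 p (by omega) (by omega)

theorem hdef18 : ∀ p, p < btable.n → btable.walkT (defs.look 18) p = btable.tau 18 p := by
  intro p hp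
  have hp' : p < 364 := hp
  exact (defRange_iff defs 18 0 364).mp Cfsg.Agent.Lib.Helper28.TCO73BChk0.def18_0 p (by omega) (by omega)

theorem hdef19 : ∀ p, p < btable.n → btable.walkT (defs.look 19) p = btable.tau 19 p := by
  intro p hp
  have hp' : p < 364 := hp
  exact (defRange_iff defs 19 0 364).mp Cfsg.Agent.Lib.Helper28.TCO73BChk0.def19_0 p (by omega) (by omega)

theorem hdef20 : ∀ p, p < btable.n → btable.walkT (defs.look 20) p = btable.tau 20 p := by
  intro p hp
  have hp' : p < 364 := hp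
  exact (defRange_iff defs 20 0 364).mp Cfsg.Agent.Lib.Helper28.TCO73BChk0.def20_0 p (by omega) (by omega)

theorem hdef21 : ∀ p, p < btable.n → btable.walkT (defs.look 21) p = btable.tau 21 p := by
  intro p hp
  have hp' : p < 364 := hp
  exact (defRange_iff defs 21 0 364).mp Cfsg.Agent.Lib.Helper28.TCO73BChk0.def21_0 p (by omega) (by omega)

theorem hdef22 : ∀ p, p < btable.n → btable.walkT (defs.look 22) p = btable.tau 22 p := by
  intro p hp
  have hp' : p < 364 := hp
  exact (defRange_iff defs 22 0 364).mp Cfsg.Agent.Lib.Helper28.TCO73BChk0.def22_0 p (by omega) (by omega)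

theorem hdef23 : ∀ p, p < btable.n → btable.walkT (defs.look 23) p = btable.tau 23 p := by
  intro p hp
  have hp' : p < 364 := hp
  exact (defRange_iff defs 23 0 364).mp Cfsg.Agent.Lib.Helper28.TCO73BChk0.def23_0 p (by omega) (by omega)

theorem hdef24 : ∀ p, p < btable.n → btable.walkT (defs.look 24) p = btable.tau 24 p := by
  intro p hp
  have hp' : p < 364 := hp
  exact (defRange_iff defs 24 0 364).mp Cfsg.Agent.Lib.Helper28.TCO73BChk0.def24_0 p (by omega) (by omega)

theorem hdef25 : ∀ p, p < btable.n → btable.walkT (defs.look 25) p = btable.tau 25 p := by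
  intro p hp
  have hp' : p < 364 := hp
  exact (defRange_iff defs 25 0 364).mp Cfsg.Agent.Lib.Helper28.TCO73BChk0.def25_0 p (by omega) (by omega)

theorem hdef26 : ∀ p, p < btable.n → btable.walkT (defs.look 26) p = btable.tau 26 p := by
  intro p hp
  have hp' : p < 364 := hp
  exact (defRange_iff defs 26 0 364).mp Cfsg.Agent.Lib.Helper28.TCO73BChk0.def26_0 p (by omega) (by omega)

theorem hdef27 : ∀ p, p < btable.n → btable.walkT (defs.look 27) p = btable.tau 27 p := by
  intro p hp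
  have hp' : p < 364 := hp
  exact (defRange_iff defs 27 0 364).mp Cfsg.Agent.Lib.Helper28.TCO73BChk0.def27_0 p (by omega) (by omega)

theorem hdef28 : ∀ p, p < btable.n → btable.walkT (defs.look 28) p = btable.tau 28 p := by
  intro p hp
  have hp' : p < 364 := hp
  exact (defRange_iff defs 28 0 364).mp Cfsg.Agent.Lib.Helper28.TCO73BChk0.def28_0 p (by omega) (by omega)

theorem hdef29 : ∀ p, p < btable.n → btable.walkT (defs.look 29) p = btable.tau 29 p := by
  intro p hp
  have hp' : p < 364 := hp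
  exact (defRange_iff defs 29 0 364).mp Cfsg.Agent.Lib.Helper28.TCO73BChk0.def29_0 p (by omega) (by omega)

theorem hdef30 : ∀ p, p < btable.n → btable.walkT (defs.look 30) p = btable.tau 30 p := by
  intro p hp
  have hp' : p < 364 := hp
  exact (defRange_iff defs 30 0 364).mp Cfsg.Agent.Lib.Helper28.TCO73BChk0.def30_0 p (by omega) (by omega)

theorem hdef31 : ∀ p, p < btable.n → btable.walkT (defs.look 31) p = btable.tau 31 p := by
  intro p hp
  have hp' : p < 364 := hp
  exact (defRange_iff defs 31 0 364).mp Cfsg.Agent.Lib.Helper28.TCO73BChk0.def31_0 p (by omega) (by omega)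

theorem hdef32 : ∀ p, p < btable.n → btable.walkT (defs.look 32) p = btable.tau 32 p := by
  intro p hp
  have hp' : p < 364 := hp
  exact (defRange_iff defs 32 0 364).mp Cfsg.Agent.Lib.Helper28.TCO73BChk0.def32_0 p (by omega) (by omega)

theorem hdef33 : ∀ p, p < btable.n → btable.walkT (defs.look 33) p = btable.tau 33 p := by
  intro p hp
  have hp' : p < 364 := hp
  exact (defRange_iff defs 33 0 364).mp Cfsg.Agent.Lib.Helper28.TCO73BChk0.def33_0 p (by omega) (by omega)

theorem hdef34 : ∀ p, p < btable.n → btable.walkT (defs.look 34) p = btable.tau 34 p := by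
  intro p hp
  have hp' : p < 364 := hp
  exact (defRange_iff defs 34 0 364).mp Cfsg.Agent.Lib.Helper28.TCO73BChk0.def34_0 p (by omega) (by omega)

theorem hdef35 : ∀ p, p < btable.n → btable.walkT (defs.look 35) p = btable.tau 35 p := by
  intro p hp
  have hp' : p < 364 := hp
  exact (defRange_iff defs 35 0 364).mp Cfsg.Agent.Lib.Helper28.TCO73BChk0.def35_0 p (by omega) (by omega)

theorem hdef36 : ∀ p, p < btable.n → btable.walkT (defs.look 36) p = btable.tau 36 p := by
  intro p hp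
  have hp' : p < 364 := hp
  exact (defRange_iff defs 36 0 364).mp Cfsg.Agent.Lib.Helper28.TCO73BChk0.def36_0 p (by omega) (by omega)

theorem hdef37 : ∀ p, p < btable.n → btable.walkT (defs.look 37) p = btable.tau 37 p := by
  intro p hp
  have hp' : p < 364 := hp
  exact (defRange_iff defs 37 0 364).mp Cfsg.Agent.Lib.Helper28.TCO73BChk0.def37_0 p (by omega) (by omega)

theorem hdef38 : ∀ p, p < btable.n → btable.walkT (defs.look 38) p = btable.tau 38 p := by
  intro p hp
  have hp' : p < 364 := hp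
  exact (defRange_iff defs 38 0 364).mp Cfsg.Agent.Lib.Helper28.TCO73BChk0.def38_0 p (by omega) (by omega)

theorem hdef39 : ∀ p, p < btable.n → btable.walkT (defs.look 39) p = btable.tau 39 p := by
  intro p hp
  have hp' : p < 364 := hp
  exact (defRange_iff defs 39 0 364).mp Cfsg.Agent.Lib.Helper28.TCO73BChk0.def39_0 p (by omega) (by omega)

theorem hdef40 : ∀ p, p < btable.n → btable.walkT (defs.look 40) p = btable.tau 40 p := by
  intro p hp
  have hp' : p < 364 := hp
  exact (defRange_iff defs 40 0 364).mp Cfsg.Agent.Lib.Helper28.TCO73BChk0.def40_0 p (by omega) (by omega)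

theorem hdef41 : ∀ p, p < btable.n → btable.walkT (defs.look 41) p = btable.tau 41 p := by
  intro p hp
  have hp' : p < 364 := hp
  exact (defRange_iff defs 41 0 364).mp Cfsg.Agent.Lib.Helper28.TCO73BChk0.def41_0 p (by omega) (by omega)

theorem hdef42 : ∀ p, p < btable.n → btable.walkT (defs.look 42) p = btable.tau 42 p := by
  intro p hp
  have hp' : p < 364 := hp
  exact (defRange_iff defs 42 0 364).mp Cfsg.Agent.Lib.Helper28.TCO73BChk0.def42_0 p (by omega) (by omega)

theorem hdef43 : ∀ p, p < btable.n → btable.walkT (defs.look 43) p = btable.tau 43 p := by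
  intro p hp
  have hp' : p < 364 := hp
  exact (defRange_iff defs 43 0 364).mp Cfsg.Agent.Lib.Helper28.TCO73BChk0.def43_0 p (by omega) (by omega)

theorem hdef : ∀ e, 8 ≤ e → e < btable.k → ∀ p, p < btable.n → btable.walkT (defs.look e) p = btable.tau e p := by
  intro e h1 h2 p hp
  have h2' : e < 44 := h2
  interval_cases e
  · exact hdef8 p hp
  · exact hdef9 p hp
  · exact hdef10 p hp
  · exact hdef11 p hp
  · exact hdef12 p hp
  · exact hdef13 p hp
  · exact hdef14 p hp
  · exact hdef15 p hp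
  · exact hdef16 p hp
  · exact hdef17 p hp
  · exact hdef18 p hp
  · exact hdef19 p hp
  · exact hdef20 p hp
  · exact hdef21 p hp
  · exact hdef22 p hp
  · exact hdef23 p hp
  · exact hdef24 p hp
  · exact hdef25 p hp
  · exact hdef26 p hp
  · exact hdef27 p hp
  · exact hdef28 p hp
  · exact hdef29 p hp
  · exact hdef30 p hp
  · exact hdef31 p hp
  · exact hdef32 p hp
  · exact hdef33 p hp
  · exact hdef34 p hp
  · exact hdef35 p hp
  · exact hdef36 p hp
  · exact hdef37 p hp
  · exact hdef38 p hp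
  · exact hdef39 p hp
  · exact hdef40 p hp
  · exact hdef41 p hp
  · exact hdef42 p hp
  · exact hdef43 p hp

theorem hΓ : ∀ l, l < btable.k → Table.sigma hTB l ∈ baseGroup hTB 8 :=
  sigma_mem_baseGroup hTB 8 defs Cfsg.Agent.Lib.Helper28.TCO73BChk1.dlt hdef

theorem hconn0 : ∀ p, p < btable.n → orb0.oid p = 1 →
    (orb0.depth p = 0 ∧ orb0.roots.look 1 = p) ∨
    (orb0.depth p ≠ 0 ∧ orb0.parent p < btable.n ∧ orb0.oid (orb0.parent p) = 1 ∧
      orb0.depth (orb0.parent p) + 1 = orb0.depth p ∧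
      btable.walkT (orb0.gens.look (orb0.gen p)) (orb0.parent p) = p) := by
  intro p hp
  have hp' : p < 364 := hp
  exact (OrbData.connOKc_iff orb0 btable 1 0 364).mp Cfsg.Agent.Lib.Helper28.TCO73BChk0.conn0_0 p (by omega) (by omega)

theorem lev0 : 364 * Nat.card (pstab (baseGroup hTB 8) (toFin btable.n [0])) ≤
    Nat.card (pstab (baseGroup hTB 8) (toFin btable.n [])) :=
  level_boundN hTB _ [] A0 orb0 1 0 364 rfl (by decide) Cfsg.Agent.Lib.Helper28.TCO73BChk0.cnt0 hΓ Cfsg.Agent.Lib.Helper28.TCO73BChk1.hA0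
    (BT.All_of_all (fun _ h => of_decide_eq_true h) _ Cfsg.Agent.Lib.Helper28.TCO73BChk0.hgens0) hconn0

theorem hconn1 : ∀ p, p < btable.n → orb1.oid p = 1 →
    (orb1.depth p = 0 ∧ orb1.roots.look 1 = p) ∨
    (orb1.depth p ≠ 0 ∧ orb1.parent p < btable.n ∧ orb1.oid (orb1.parent p) = 1 ∧
      orb1.depth (orb1.parent p) + 1 = orb1.depth p ∧
      btable.walkT (orb1.gens.look (orb1.gen p)) (orb1.parent p) = p) := by
  intro p hp
  have hp' : p < 364 := hp
  exact (OrbData.connOKc_iff orb1 btable 1 0 364).mp Cfsg.Agent.Lib.Helper28.TCO73BChk1.conn1_0 p (by omega) (by omega)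

theorem lev1 : 243 * Nat.card (pstab (baseGroup hTB 8) (toFin btable.n [1, 0])) ≤
    Nat.card (pstab (baseGroup hTB 8) (toFin btable.n [0])) :=
  level_boundN hTB _ [0] A1 orb1 1 1 243 rfl (by decide) Cfsg.Agent.Lib.Helper28.TCO73BChk1.cnt1 hΓ Cfsg.Agent.Lib.Helper28.TCO73BChk1.hA1
    (BT.All_of_all (fun _ h => of_decide_eq_true h) _ Cfsg.Agent.Lib.Helper28.TCO73BChk1.hgens1) hconn1

theorem hconn2 : ∀ p, p < btable.n → orb2.oid p = 1 →
    (orb2.depth p = 0 ∧ orb2.roots.look 1 = p) ∨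
    (orb2.depth p ≠ 0 ∧ orb2.parent p < btable.n ∧ orb2.oid (orb2.parent p) = 1 ∧
      orb2.depth (orb2.parent p) + 1 = orb2.depth p ∧
      btable.walkT (orb2.gens.look (orb2.gen p)) (orb2.parent p) = p) := by
  intro p hp
  have hp' : p < 364 := hp
  exact (OrbData.connOKc_iff orb2 btable 1 0 364).mp Cfsg.Agent.Lib.Helper28.TCO73BChk1.conn2_0 p (by omega) (by omega)

theorem lev2 : 72 * Nat.card (pstab (baseGroup hTB 8) (toFin btable.n [2, 1, 0])) ≤
    Nat.card (pstab (baseGroup hTB 8) (toFin btable.n [1, 0])) :=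
  level_boundN hTB _ [1, 0] A2 orb2 1 2 72 rfl (by decide) Cfsg.Agent.Lib.Helper28.TCO73BChk1.cnt2 hΓ Cfsg.Agent.Lib.Helper28.TCO73BChk1.hA2
    (BT.All_of_all (fun _ h => of_decide_eq_true h) _ Cfsg.Agent.Lib.Helper28.TCO73BChk1.hgens2) hconn2

theorem hconn3 : ∀ p, p < btable.n → orb3.oid p = 1 →
    (orb3.depth p = 0 ∧ orb3.roots.look 1 = p) ∨
    (orb3.depth p ≠ 0 ∧ orb3.parent p < btable.n ∧ orb3.oid (orb3.parent p) = 1 ∧
      orb3.depth (orb3.parent p) + 1 = orb3.depth p ∧
      btable.walkT (orb3.gens.look (orb3.gen p)) (orb3.parent p) = p) := by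
  intro p hp
  have hp' : p < 364 := hp
  exact (OrbData.connOKc_iff orb3 btable 1 0 364).mp Cfsg.Agent.Lib.Helper28.TCO73BChk1.conn3_0 p (by omega) (by omega)

theorem lev3 : 20 * Nat.card (pstab (baseGroup hTB 8) (toFin btable.n [3, 2, 1, 0])) ≤
    Nat.card (pstab (baseGroup hTB 8) (toFin btable.n [2, 1, 0])) :=
  level_boundN hTB _ [2, 1, 0] A3 orb3 1 3 20 rfl (by decide) Cfsg.Agent.Lib.Helper28.TCO73BChk1.cnt3 hΓ Cfsg.Agent.Lib.Helper28.TCO73BChk1.hA3
    (BT.All_of_all (fun _ h => of_decide_eq_true h) _ Cfsg.Agent.Lib.Helper28.TCO73BChk1.hgens3) hconn3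

theorem hconn4 : ∀ p, p < btable.n → orb4.oid p = 1 →
    (orb4.depth p = 0 ∧ orb4.roots.look 1 = p) ∨
    (orb4.depth p ≠ 0 ∧ orb4.parent p < btable.n ∧ orb4.oid (orb4.parent p) = 1 ∧
      orb4.depth (orb4.parent p) + 1 = orb4.depth p ∧
      btable.walkT (orb4.gens.look (orb4.gen p)) (orb4.parent p) = p) := by
  intro p hp
  have hp' : p < 364 := hp
  exact (OrbData.connOKc_iff orb4 btable 1 0 364).mp Cfsg.Agent.Lib.Helper28.TCO73BChk1.conn4_0 p (by omega) (by omega)

theorem lev4 : 9 * Nat.card (pstab (baseGroup hTB 8) (toFin btable.n [4, 3, 2, 1, 0])) ≤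
    Nat.card (pstab (baseGroup hTB 8) (toFin btable.n [3, 2, 1, 0])) :=
  level_boundN hTB _ [3, 2, 1, 0] A4 orb4 1 4 9 rfl (by decide) Cfsg.Agent.Lib.Helper28.TCO73BChk1.cnt4 hΓ Cfsg.Agent.Lib.Helper28.TCO73BChk1.hA4
    (BT.All_of_all (fun _ h => of_decide_eq_true h) _ Cfsg.Agent.Lib.Helper28.TCO73BChk1.hgens4) hconn4

theorem hconn5 : ∀ p, p < btable.n → orb5.oid p = 1 →
    (orb5.depth p = 0 ∧ orb5.roots.look 1 = p) ∨
    (orb5.depth p ≠ 0 ∧ orb5.parent p < btable.n ∧ orb5.oid (orb5.parent p) = 1 ∧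
      orb5.depth (orb5.parent p) + 1 = orb5.depth p ∧
      btable.walkT (orb5.gens.look (orb5.gen p)) (orb5.parent p) = p) := by
  intro p hp
  have hp' : p < 364 := hp
  exact (OrbData.connOKc_iff orb5 btable 1 0 364).mp Cfsg.Agent.Lib.Helper28.TCO73BChk1.conn5_0 p (by omega) (by omega)

theorem lev5 : 2 * Nat.card (pstab (baseGroup hTB 8) (toFin btable.n [6, 4, 3, 2, 1, 0])) ≤
    Nat.card (pstab (baseGroup hTB 8) (toFin btable.n [4, 3, 2, 1, 0])) :=
  level_boundN hTB _ [4, 3, 2, 1, 0] A5 orb5 1 6 2 rfl (by decide) Cfsg.Agent.Lib.Helper28.TCO73BChk1.cnt5 hΓ Cfsg.Agent.Lib.Helper28.TCO73BChk1.hA5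
    (BT.All_of_all (fun _ h => of_decide_eq_true h) _ Cfsg.Agent.Lib.Helper28.TCO73BChk1.hgens5) hconn5

theorem hconn6 : ∀ p, p < btable.n → orb6.oid p = 1 →
    (orb6.depth p = 0 ∧ orb6.roots.look 1 = p) ∨
    (orb6.depth p ≠ 0 ∧ orb6.parent p < btable.n ∧ orb6.oid (orb6.parent p) = 1 ∧
      orb6.depth (orb6.parent p) + 1 = orb6.depth p ∧
      btable.walkT (orb6.gens.look (orb6.gen p)) (orb6.parent p) = p) := by
  intro p hp
  have hp' : p < 364 := hp
  exact (OrbData.connOKc_iff orb6 btable 1 0 364).mp Cfsg.Agent.Lib.Helper28.TCO73BChk1.conn6_0 p (by omega) (by omega)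

theorem lev6 : 2 * Nat.card (pstab (baseGroup hTB 8) (toFin btable.n [5, 6, 4, 3, 2, 1, 0])) ≤
    Nat.card (pstab (baseGroup hTB 8) (toFin btable.n [6, 4, 3, 2, 1, 0])) :=
  level_boundN hTB _ [6, 4, 3, 2, 1, 0] A6 orb6 1 5 2 rfl (by decide) Cfsg.Agent.Lib.Helper28.TCO73BChk1.cnt6 hΓ Cfsg.Agent.Lib.Helper28.TCO73BChk1.hA6
    (BT.All_of_all (fun _ h => of_decide_eq_true h) _ Cfsg.Agent.Lib.Helper28.TCO73BChk1.hgens6) hconn6

/-- the base: its pointwise stabiliser has index at least the order of the group -/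
def base : List ℕ := [5, 6, 4, 3, 2, 1, 0]

theorem card_pstab : 4585351680 * Nat.card (pstab (baseGroup hTB 8) (toFin btable.n base)) ≤ Nat.card (baseGroup hTB 8) := by
  have h : 364 * (243 * (72 * (20 * (9 * (2 * (2 * (Nat.card (pstab (baseGroup hTB 8) (toFin btable.n [5, 6, 4, 3, 2, 1, 0]))))))))) ≤ Nat.card (pstab (baseGroup hTB 8) (toFin btable.n [])) :=
    chain_stepN lev0 (chain_stepN lev1 (chain_stepN lev2 (chain_stepN lev3 (chain_stepN lev4 (chain_stepN lev5 (chain_stepN lev6 (le_refl _)))))))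
  have e : 4585351680 * Nat.card (pstab (baseGroup hTB 8) (toFin btable.n base)) = 364 * (243 * (72 * (20 * (9 * (2 * (2 * (Nat.card (pstab (baseGroup hTB 8) (toFin btable.n [5, 6, 4, 3, 2, 1, 0]))))))))) := by
    show 4585351680 * Nat.card (pstab (baseGroup hTB 8) (toFin btable.n [5, 6, 4, 3, 2, 1, 0])) = _
    ring
  rw [e]
  exact h

theorem hrelT : ∀ P ∈ Cfsg.Agent.Lib.Helper28.TCFi22W1Table.relPaths, ∀ p, p < btable.n → btable.walkT P p = p := by
  intro P hP p hp
  have hp' : p < 364 := hp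
  exact (Table.relOK_iff _ 0 364).mp Cfsg.Agent.Lib.Helper28.TCO73BChk1.hrel p (by omega) (by omega) P hP

end Cfsg.Agent.Lib.Helper28.TCO73BMain
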