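import Cfsg.Agent.Lib.Helper28.TCO73Cert
import Cfsg.Agent.Lib.Helper28.TCO73BMain
import Cfsg.Agent.Lib.Helper28.PcFix
set_option autoImplicit false
set_option maxRecDepth 100000
set_option maxHeartbeats 0

namespace Cfsg.Agent.Lib.Helper28.TCO73CChk1
open Cfsg.Agent.Lib.Helper28.TC2Upper Cfsg.Agent.Lib.Helper28.TC2Lower Cfsg.Agent.Lib.Helper28.TC2Orbit Cfsg.Agent.Lib.Helper28.TC2Range Cfsg.Agent.Lib.Helper28.TC2Bsgs Cfsg.Agent.Lib.Helper28.PcCert Cfsg.Agent.Lib.Helper28.PcElt Cfsg.Agent.Lib.Helper28.PcFix Cfsg.Agent.Lib.Helper28.TCO73BTable Cfsg.Agent.Lib.Helper28.TCO73Cert Cfsg.Agent.Lib.Helper28.TCO73BMain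

theorem ylt1 : ltAll 8 (ypaths.look 1) = true := by decide +kernel
theorem mv1 : movedCount btable (nfPath cert.PL (cert.ycode.look 1)) = 315 := by decide +kernel
theorem yag2 : agreeB btable base (nfPath cert.PL (cert.ycode.look 2)) (ypaths.look 2) = true := by decide +kernel
theorem ylt2 : ltAll 8 (ypaths.look 2) = true := by decide +kernel
theorem mv2 : movedCount btable (nfPath cert.PL (cert.ycode.look 2)) = 324 := by decide +kernel
theorem yag3 : agreeB btable base (nfPath cert.PL (cert.ycode.look 3)) (ypaths.look 3) = true := by decide +kernel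
theorem ylt3 : ltAll 8 (ypaths.look 3) = true := by decide +kernel
theorem mv3 : movedCount btable (nfPath cert.PL (cert.ycode.look 3)) = 360 := by decide +kernel

end Cfsg.Agent.Lib.Helper28.TCO73CChk1
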