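import Cfsg.Agent.Lib.Helper28.TCO73Cert
import Cfsg.Agent.Lib.Helper28.TCO73BMain
import Cfsg.Agent.Lib.Helper28.PcFix
set_option autoImplicit false
set_option maxRecDepth 100000
set_option maxHeartbeats 0

namespace Cfsg.Agent.Lib.Helper28.TCO73CChk2
open Cfsg.Agent.Lib.Helper28.TC2Upper Cfsg.Agent.Lib.Helper28.TC2Lower Cfsg.Agent.Lib.Helper28.TC2Orbit Cfsg.Agent.Lib.Helper28.TC2Range Cfsg.Agent.Lib.Helper28.TC2Bsgs Cfsg.Agent.Lib.Helper28.PcCert Cfsg.Agent.Lib.Helper28.PcElt Cfsg.Agent.Lib.Helper28.PcFix Cfsg.Agent.Lib.Helper28.TCO73BTable Cfsg.Agent.Lib.Helper28.TCO73Cert Cfsg.Agent.Lib.Helper28.TCO73BMain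

theorem yag4 : agreeB btable base (nfPath cert.PL (cert.ycode.look 4)) (ypaths.look 4) = true := by decide +kernel
theorem ylt4 : ltAll 8 (ypaths.look 4) = true := by decide +kernel
theorem mv4 : movedCount btable (nfPath cert.PL (cert.ycode.look 4)) = 360 := by decide +kernel
theorem yag5 : agreeB btable base (nfPath cert.PL (cert.ycode.look 5)) (ypaths.look 5) = true := by decide +kernel
theorem ylt5 : ltAll 8 (ypaths.look 5) = true := by decide +kernel
theorem mv5 : movedCount btable (nfPath cert.PL (cert.ycode.look 5)) = 351 := by decide +kernel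
theorem yag6 : agreeB btable base (nfPath cert.PL (cert.ycode.look 6)) (ypaths.look 6) = true := by decide +kernel
theorem ylt6 : ltAll 8 (ypaths.look 6) = true := by decide +kernel

end Cfsg.Agent.Lib.Helper28.TCO73CChk2
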