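import Cfsg.Agent.Lib.Helper28.TCO73Cert
import Cfsg.Agent.Lib.Helper28.TCO73BMain
import Cfsg.Agent.Lib.Helper28.PcFix
import Cfsg.Agent.Lib.Helper28.TCO73CChk0
set_option autoImplicit false
set_option maxRecDepth 100000
set_option maxHeartbeats 0

namespace Cfsg.Agent.Lib.Helper28.TCO73CChk3
open Cfsg.Agent.Lib.Helper28.TC2Upper Cfsg.Agent.Lib.Helper28.TC2Lower Cfsg.Agent.Lib.Helper28.TC2Orbit Cfsg.Agent.Lib.Helper28.TC2Range Cfsg.Agent.Lib.Helper28.TC2Bsgs Cfsg.Agent.Lib.Helper28.PcCert Cfsg.Agent.Lib.Helper28.PcElt Cfsg.Agent.Lib.Helper28.PcFix Cfsg.Agent.Lib.Helper28.TCO73BTable Cfsg.Agent.Lib.Helper28.TCO73Cert Cfsg.Agent.Lib.Helper28.TCO73BMain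

theorem mv6 : movedCount btable (nfPath cert.PL (cert.ycode.look 6)) = 351 := by decide +kernel
theorem elt0 : cert.chkRange btable base 0 2500 = true := by decide +kernel
theorem elt1 : cert.chkRange btable base 2500 2500 = true := by decide +kernel
theorem elt2 : cert.chkRange btable base 5000 2500 = true := by decide +kernel
theorem elt3 : cert.chkRange btable base 7500 2500 = true := by decide +kernel
theorem elt4 : cert.chkRange btable base 10000 2500 = true := by decide +kernel
theorem elt5 : cert.chkRange btable base 12500 2500 = true := by decide +kernel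
theorem elt6 : cert.chkRange btable base 15000 2500 = true := by decide +kernel

end Cfsg.Agent.Lib.Helper28.TCO73CChk3
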