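import Cfsg.Agent.Lib.Helper28.TCO73Cert
import Cfsg.Agent.Lib.Helper28.TCO73BMain
import Cfsg.Agent.Lib.Helper28.PcFix
import Cfsg.Agent.Lib.Helper28.TCO73CChk1
set_option autoImplicit false
set_option maxRecDepth 100000
set_option maxHeartbeats 0

namespace Cfsg.Agent.Lib.Helper28.TCO73CChk4
open Cfsg.Agent.Lib.Helper28.TC2Upper Cfsg.Agent.Lib.Helper28.TC2Lower Cfsg.Agent.Lib.Helper28.TC2Orbit Cfsg.Agent.Lib.Helper28.TC2Range Cfsg.Agent.Lib.Helper28.TC2Bsgs Cfsg.Agent.Lib.Helper28.PcCert Cfsg.Agent.Lib.Helper28.PcElt Cfsg.Agent.Lib.Helper28.PcFix Cfsg.Agent.Lib.Helper28.TCO73BTable Cfsg.Agent.Lib.Helper28.TCO73Cert Cfsg.Agent.Lib.Helper28.TCO73BMain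

theorem elt7 : cert.chkRange btable base 17500 2183 = true := by decide +kernel

end Cfsg.Agent.Lib.Helper28.TCO73CChk4
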