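import Cfsg.Agent.Lib.Helper28.TCO73T3
import Cfsg.Agent.Lib.Helper28.TCO73Cert
import Cfsg.Agent.Lib.Helper28.TCFi22W1Table
import Cfsg.Agent.Lib.Helper28.PcFix
set_option autoImplicit false
set_option maxRecDepth 100000
set_option maxHeartbeats 0

namespace Cfsg.Agent.Lib.Helper28.TCO73T3Chk0
open Cfsg.Agent.Lib.Helper28.TC2Upper Cfsg.Agent.Lib.Helper28.TC2Lower Cfsg.Agent.Lib.Helper28.TC2Orbit Cfsg.Agent.Lib.Helper28.TC2Range Cfsg.Agent.Lib.Helper28.TC2Bsgs Cfsg.Agent.Lib.Helper28.PcFix Cfsg.Agent.Lib.Helper28.TCO73T3 Cfsg.Agent.Lib.Helper28.TCO73Cert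

theorem prm0 : Table.permRange table3 0 3159 = true := by decide +kernel
theorem hinvOK : table3.invOK = true := by decide +kernel
theorem rel0 : table3.relOK Cfsg.Agent.Lib.Helper28.TCFi22W1Table.relPaths 0 581 = true := by decide +kernel
theorem rel1 : table3.relOK Cfsg.Agent.Lib.Helper28.TCFi22W1Table.relPaths 581 581 = true := by decide +kernel
theorem rel2 : table3.relOK Cfsg.Agent.Lib.Helper28.TCFi22W1Table.relPaths 1162 581 = true := by decide +kernel
theorem rel3 : table3.relOK Cfsg.Agent.Lib.Helper28.TCFi22W1Table.relPaths 1743 581 = true := by decide +kernel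
theorem rel4 : table3.relOK Cfsg.Agent.Lib.Helper28.TCFi22W1Table.relPaths 2324 581 = true := by decide +kernel
theorem rel5 : table3.relOK Cfsg.Agent.Lib.Helper28.TCFi22W1Table.relPaths 2905 254 = true := by decide +kernel

end Cfsg.Agent.Lib.Helper28.TCO73T3Chk0
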