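import Cfsg.Agent.Lib.Helper28.TCO73T3
import Cfsg.Agent.Lib.Helper28.TCO73Cert
import Cfsg.Agent.Lib.Helper28.TCFi22W1Table
import Cfsg.Agent.Lib.Helper28.PcFix
set_option autoImplicit false
set_option maxRecDepth 100000
set_option maxHeartbeats 0

namespace Cfsg.Agent.Lib.Helper28.TCO73T3Chk1
open Cfsg.Agent.Lib.Helper28.TC2Upper Cfsg.Agent.Lib.Helper28.TC2Lower Cfsg.Agent.Lib.Helper28.TC2Orbit Cfsg.Agent.Lib.Helper28.TC2Range Cfsg.Agent.Lib.Helper28.TC2Bsgs Cfsg.Agent.Lib.Helper28.PcFix Cfsg.Agent.Lib.Helper28.TCO73T3 Cfsg.Agent.Lib.Helper28.TCO73Cert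

theorem mv0 : movedCount table3 (ypaths.look 0) = 3078 := by decide +kernel
theorem mv1 : movedCount table3 (ypaths.look 1) = 3159 := by decide +kernel
theorem mv2 : movedCount table3 (ypaths.look 2) = 3159 := by decide +kernel
theorem mv3 : movedCount table3 (ypaths.look 3) = 3159 := by decide +kernel
theorem mv4 : movedCount table3 (ypaths.look 4) = 3132 := by decide +kernel
theorem mv5 : movedCount table3 (ypaths.look 5) = 3132 := by decide +kernel
theorem mv6 : movedCount table3 (ypaths.look 6) = 3159 := by decide +kernel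

end Cfsg.Agent.Lib.Helper28.TCO73T3Chk1
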