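import Cfsg.Agent.Lib.Helper28.TCO73CChk0
import Cfsg.Agent.Lib.Helper28.TCO73CChk1
import Cfsg.Agent.Lib.Helper28.TCO73CChk2
import Cfsg.Agent.Lib.Helper28.TCO73CChk3
import Cfsg.Agent.Lib.Helper28.TCO73CChk4
import Cfsg.Agent.Lib.Helper28.TCO73T3Chk0
import Cfsg.Agent.Lib.Helper28.TCO73T3Chk1

set_option autoImplicit false
set_option maxRecDepth 100000

namespace Cfsg.Agent.Lib.Helper28.TCO73Aux
open Cfsg.Agent.Lib.Helper28.TC2Upper Cfsg.Agent.Lib.Helper28.TC2Lower Cfsg.Agent.Lib.Helper28.TC2Orbit Cfsg.Agent.Lib.Helper28.TC2Range Cfsg.Agent.Lib.Helper28.TC2Bsgs Cfsg.Agent.Lib.Helper28.PcCert Cfsg.Agent.Lib.Helper28.PcElt Cfsg.Agent.Lib.Helper28.PcFix Cfsg.Agent.Lib.Helper28.TCO73BTable Cfsg.Agent.Lib.Helper28.TCO73BMain Cfsg.Agent.Lib.Helper28.TCO73Cert Cfsg.Agent.Lib.Helper28.TCO73T3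

theorem hpermAll3 : ∀ p, p < table3.n → Table.permRow table3 p = true := by
  intro p hp
  have hp' : p < 3159 := hp
  exact (Table.permRange_iff table3 0 3159).mp Cfsg.Agent.Lib.Helper28.TCO73T3Chk0.prm0 p (by omega) (by omega)

theorem hT3 : table3.OK := Table.ok_of_rows table3 Cfsg.Agent.Lib.Helper28.TCO73T3Chk0.hinvOK hpermAll3

theorem hrelT3 : ∀ P ∈ Cfsg.Agent.Lib.Helper28.TCFi22W1Table.relPaths, ∀ p, p < table3.n → table3.walkT P p = p := by
  intro P hP p hp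
  have hp' : p < 3159 := hp
  rcases Nat.lt_or_ge p 581 with h0 | h0
  · exact (Table.relOK_iff _ 0 581).mp Cfsg.Agent.Lib.Helper28.TCO73T3Chk0.rel0 p (by omega) (by omega) P hP
  rcases Nat.lt_or_ge p 1162 with h1 | h1
  · exact (Table.relOK_iff _ 581 581).mp Cfsg.Agent.Lib.Helper28.TCO73T3Chk0.rel1 p (by omega) (by omega) P hP
  rcases Nat.lt_or_ge p 1743 with h2 | h2
  · exact (Table.relOK_iff _ 1162 581).mp Cfsg.Agent.Lib.Helper28.TCO73T3Chk0.rel2 p (by omega) (by omega) P hP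
  rcases Nat.lt_or_ge p 2324 with h3 | h3
  · exact (Table.relOK_iff _ 1743 581).mp Cfsg.Agent.Lib.Helper28.TCO73T3Chk0.rel3 p (by omega) (by omega) P hP
  rcases Nat.lt_or_ge p 2905 with h4 | h4
  · exact (Table.relOK_iff _ 2324 581).mp Cfsg.Agent.Lib.Helper28.TCO73T3Chk0.rel4 p (by omega) (by omega) P hP
  exact (Table.relOK_iff _ 2905 254).mp Cfsg.Agent.Lib.Helper28.TCO73T3Chk0.rel5 p (by omega) (by omega) P hP

theorem helt : ∀ e, e < 19683 → cert.chkElt btable base e = true := by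
  intro e he
  rcases Nat.lt_or_ge e 2500 with h0 | h0
  · exact (Cert.chkRange_iff cert btable base 0 2500).mp Cfsg.Agent.Lib.Helper28.TCO73CChk3.elt0 e (by omega) (by omega)
  rcases Nat.lt_or_ge e 5000 with h1 | h1
  · exact (Cert.chkRange_iff cert btable base 2500 2500).mp Cfsg.Agent.Lib.Helper28.TCO73CChk3.elt1 e (by omega) (by omega)
  rcases Nat.lt_or_ge e 7500 with h2 | h2
  · exact (Cert.chkRange_iff cert btable base 5000 2500).mp Cfsg.Agent.Lib.Helper28.TCO73CChk3.elt2 e (by omega) (by omega)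
  rcases Nat.lt_or_ge e 10000 with h3 | h3
  · exact (Cert.chkRange_iff cert btable base 7500 2500).mp Cfsg.Agent.Lib.Helper28.TCO73CChk3.elt3 e (by omega) (by omega)
  rcases Nat.lt_or_ge e 12500 with h4 | h4
  · exact (Cert.chkRange_iff cert btable base 10000 2500).mp Cfsg.Agent.Lib.Helper28.TCO73CChk3.elt4 e (by omega) (by omega)
  rcases Nat.lt_or_ge e 15000 with h5 | h5
  · exact (Cert.chkRange_iff cert btable base 12500 2500).mp Cfsg.Agent.Lib.Helper28.TCO73CChk3.elt5 e (by omega) (by omega)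
  rcases Nat.lt_or_ge e 17500 with h6 | h6
  · exact (Cert.chkRange_iff cert btable base 15000 2500).mp Cfsg.Agent.Lib.Helper28.TCO73CChk3.elt6 e (by omega) (by omega)
  exact (Cert.chkRange_iff cert btable base 17500 2183).mp Cfsg.Agent.Lib.Helper28.TCO73CChk4.elt7 e (by omega) (by omega)

theorem hchain : chkChain btable base btable.k cert.PL CS = true := Cfsg.Agent.Lib.Helper28.TCO73CChk0.chain
theorem hindep : chkIndep btable base cert.PL = true := Cfsg.Agent.Lib.Helper28.TCO73CChk0.indep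
theorem hroots : cert.chkRoots btable base = true := Cfsg.Agent.Lib.Helper28.TCO73CChk0.roots
theorem hchky : cert.chkY btable base = true := Cfsg.Agent.Lib.Helper28.TCO73CChk0.chky

/-- numbers of moved points of the representatives, on 364 and on 3159 points -/
def mv364 : List ℕ := [333, 315, 324, 360, 360, 351, 351]
def mv3159 : List ℕ := [3078, 3159, 3159, 3159, 3132, 3132, 3159]

theorem hyag : ∀ i, i < 7 → agreeB btable base (nfPath cert.PL (cert.ycode.look i)) (ypaths.look i) = true := by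
  intro i hi
  interval_cases i
  · exact Cfsg.Agent.Lib.Helper28.TCO73CChk0.yag0
  · exact Cfsg.Agent.Lib.Helper28.TCO73CChk0.yag1
  · exact Cfsg.Agent.Lib.Helper28.TCO73CChk1.yag2
  · exact Cfsg.Agent.Lib.Helper28.TCO73CChk1.yag3
  · exact Cfsg.Agent.Lib.Helper28.TCO73CChk2.yag4
  · exact Cfsg.Agent.Lib.Helper28.TCO73CChk2.yag5
  · exact Cfsg.Agent.Lib.Helper28.TCO73CChk2.yag6

theorem hylt : ∀ i, i < 7 → ltAll 8 (ypaths.look i) = true := by
  intro i hi
  interval_cases i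
  · exact Cfsg.Agent.Lib.Helper28.TCO73CChk0.ylt0
  · exact Cfsg.Agent.Lib.Helper28.TCO73CChk1.ylt1
  · exact Cfsg.Agent.Lib.Helper28.TCO73CChk1.ylt2
  · exact Cfsg.Agent.Lib.Helper28.TCO73CChk1.ylt3
  · exact Cfsg.Agent.Lib.Helper28.TCO73CChk2.ylt4
  · exact Cfsg.Agent.Lib.Helper28.TCO73CChk2.ylt5
  · exact Cfsg.Agent.Lib.Helper28.TCO73CChk2.ylt6

theorem hmv364 : ∀ i, i < 7 → movedCount btable (nfPath cert.PL (cert.ycode.look i)) = mv364.getD i 0 := by
  intro i hi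
  interval_cases i
  · exact Cfsg.Agent.Lib.Helper28.TCO73CChk0.mv0
  · exact Cfsg.Agent.Lib.Helper28.TCO73CChk1.mv1
  · exact Cfsg.Agent.Lib.Helper28.TCO73CChk1.mv2
  · exact Cfsg.Agent.Lib.Helper28.TCO73CChk1.mv3
  · exact Cfsg.Agent.Lib.Helper28.TCO73CChk2.mv4
  · exact Cfsg.Agent.Lib.Helper28.TCO73CChk2.mv5
  · exact Cfsg.Agent.Lib.Helper28.TCO73CChk3.mv6

theorem hmv3159 : ∀ i, i < 7 → movedCount table3 (ypaths.look i) = mv3159.getD i 0 := by
  intro i hi
  interval_cases i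
  · exact Cfsg.Agent.Lib.Helper28.TCO73T3Chk1.mv0
  · exact Cfsg.Agent.Lib.Helper28.TCO73T3Chk1.mv1
  · exact Cfsg.Agent.Lib.Helper28.TCO73T3Chk1.mv2
  · exact Cfsg.Agent.Lib.Helper28.TCO73T3Chk1.mv3
  · exact Cfsg.Agent.Lib.Helper28.TCO73T3Chk1.mv4
  · exact Cfsg.Agent.Lib.Helper28.TCO73T3Chk1.mv5
  · exact Cfsg.Agent.Lib.Helper28.TCO73T3Chk1.mv6

theorem hdistinct : ∀ i j, i < 7 → j < 7 → mv364.getD i 0 = mv364.getD j 0 → mv3159.getD i 0 = mv3159.getD j 0 → i = j := by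
  intro i j hi hj
  interval_cases i <;> interval_cases j <;> simp [mv364, mv3159]

end Cfsg.Agent.Lib.Helper28.TCO73Aux
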