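import Cfsg.Agent.Lib.Helper28.TCO73BTable
import Cfsg.Agent.Lib.Helper28.TCFi22W1Table
set_option autoImplicit false
set_option maxRecDepth 100000
set_option maxHeartbeats 0

namespace Cfsg.Agent.Lib.Helper28.TCO73BChk0
open Cfsg.Agent.Lib.Helper28.TC2Upper Cfsg.Agent.Lib.Helper28.TC2Lower Cfsg.Agent.Lib.Helper28.TC2Orbit Cfsg.Agent.Lib.Helper28.TC2Range Cfsg.Agent.Lib.Helper28.TC2Bsgs Cfsg.Agent.Lib.Helper28.TCO73BTable

theorem prm0 : Table.permRange btable 0 364 = true := by decide +kernel
theorem def8_0 : defRange btable defs 8 0 364 = true := by decide +kernel
theorem def9_0 : defRange btable defs 9 0 364 = true := by decide +kernel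
theorem def10_0 : defRange btable defs 10 0 364 = true := by decide +kernel
theorem def11_0 : defRange btable defs 11 0 364 = true := by decide +kernel
theorem def12_0 : defRange btable defs 12 0 364 = true := by decide +kernel
theorem def13_0 : defRange btable defs 13 0 364 = true := by decide +kernel
theorem def14_0 : defRange btable defs 14 0 364 = true := by decide +kernel
theorem def15_0 : defRange btable defs 15 0 364 = true := by decide +kernel
theorem def16_0 : defRange btable defs 16 0 364 = true := by decide +kernel
theorem def17_0 : defRange btable defs 17 0 364 = true := by decide +kernel
theorem def18_0 : defRange btable defs 18 0 364 = true := by decide +kernel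
theorem def19_0 : defRange btable defs 19 0 364 = true := by decide +kernel
theorem def20_0 : defRange btable defs 20 0 364 = true := by decide +kernel
theorem def21_0 : defRange btable defs 21 0 364 = true := by decide +kernel
theorem def22_0 : defRange btable defs 22 0 364 = true := by decide +kernel
theorem def23_0 : defRange btable defs 23 0 364 = true := by decide +kernel
theorem def24_0 : defRange btable defs 24 0 364 = true := by decide +kernel
theorem def25_0 : defRange btable defs 25 0 364 = true := by decide +kernel
theorem def26_0 : defRange btable defs 26 0 364 = true := by decide +kernel
theorem def27_0 : defRange btable defs 27 0 364 = true := by decide +kernel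
theorem def28_0 : defRange btable defs 28 0 364 = true := by decide +kernel
theorem def29_0 : defRange btable defs 29 0 364 = true := by decide +kernel
theorem def30_0 : defRange btable defs 30 0 364 = true := by decide +kernel
theorem def31_0 : defRange btable defs 31 0 364 = true := by decide +kernel
theorem def32_0 : defRange btable defs 32 0 364 = true := by decide +kernel
theorem def33_0 : defRange btable defs 33 0 364 = true := by decide +kernel
theorem def34_0 : defRange btable defs 34 0 364 = true := by decide +kernel
theorem def35_0 : defRange btable defs 35 0 364 = true := by decide +kernel
theorem def36_0 : defRange btable defs 36 0 364 = true := by decide +kernel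
theorem def37_0 : defRange btable defs 37 0 364 = true := by decide +kernel
theorem def38_0 : defRange btable defs 38 0 364 = true := by decide +kernel
theorem def39_0 : defRange btable defs 39 0 364 = true := by decide +kernel
theorem def40_0 : defRange btable defs 40 0 364 = true := by decide +kernel
theorem def41_0 : defRange btable defs 41 0 364 = true := by decide +kernel
theorem def42_0 : defRange btable defs 42 0 364 = true := by decide +kernel
theorem def43_0 : defRange btable defs 43 0 364 = true := by decide +kernel
theorem conn0_0 : OrbData.connOKc orb0 btable 1 0 364 = true := by decide +kernel
theorem cnt0 : orb0.count 364 1 = 364 := by decide +kernel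
theorem hgens0 : BT.all (fun s => decide (s ∈ A0.map fun l => [l])) orb0.gens = true := by decide +kernel

end Cfsg.Agent.Lib.Helper28.TCO73BChk0
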