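import Cfsg.Agent.Lib.Helper28.TCO73Aux
import Cfsg.Agent.Lib.Helper28.TC2Hom
import Cfsg.Agent.Lib.Helper28.TCFi22W1Link
import Cfsg.Agent.Lib.Helper28.TCFi22TowerB
import Cfsg.Agent.Lib.Helper13.Fi22O7RepB

set_option autoImplicit false
set_option maxRecDepth 100000

/-!
# `Ω₇(3)` has exactly seven classes of subgroups of order three

The presented group `X` on `b, …, i` (isomorphic to `PΩ₇(3)`) acts faithfully on 364 points; a Sylow
3-subgroup is enumerated by normal forms, every element of order three of it carries a conjugacy certificate to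
one of seven representatives, and the representatives are told apart by the numbers of moved points on 364 and
on 3159 points.
-/

namespace Cfsg.Agent.Lib.Helper28.TCO73Main
open Cfsg.Agent.Lib.Helper28.TC2Upper Cfsg.Agent.Lib.Helper28.TC2Lower Cfsg.Agent.Lib.Helper28.TC2Glue
open Cfsg.Agent.Lib.Helper28.TC2Range Cfsg.Agent.Lib.Helper28.TC2Bsgs Cfsg.Agent.Lib.Helper28.TC2Hom
open Cfsg.Agent.Lib.Helper28.PcChain Cfsg.Agent.Lib.Helper28.PcCert Cfsg.Agent.Lib.Helper28.PcElt
open Cfsg.Agent.Lib.Helper28.PcFix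
open Cfsg.Agent.Lib.Helper28.TCO73BTable Cfsg.Agent.Lib.Helper28.TCO73BMain Cfsg.Agent.Lib.Helper28.TCO73Cert
open Cfsg.Agent.Lib.Helper28.TCO73T3 Cfsg.Agent.Lib.Helper28.TCO73Aux
open Cfsg.Agent.Lib.Helper28.TCFi22W1Link

/-- the generators -/
abbrev Gen : Type := Cfsg.Agent.Lib.Helper28.TCFi22W1Def.Gen

/-- the presented group -/
abbrev X : Type := PresentedGroup rels

theorem lwkB (xb : Gen × Bool) : lw xb < btable.k := by
  rcases xb with ⟨x, b⟩
  cases x <;> cases b <;> decide

theorem lwinvB (x : Gen) : lw (x, false) = btable.invl (lw (x, true)) := by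
  cases x <;> decide +kernel

theorem lwk3 (xb : Gen × Bool) : lw xb < table3.k := by
  rcases xb with ⟨x, b⟩
  cases x <;> cases b <;> decide

theorem lwinv3 (x : Gen) : lw (x, false) = table3.invl (lw (x, true)) := by
  cases x <;> decide +kernel

theorem exists_phi : ∃ φ : X →* Equiv.Perm (Fin btable.n),
    ∀ (L : List (Gen × Bool)) (p : Fin btable.n),
      (φ (PresentedGroup.mk rels (FreeGroup.mk L)) p).val = btable.walkT (pathOf lw L) p.val :=
  hom_of_table rels relWords (fun r hr => (link.hrels r).mp hr) lw btable hTB lwkB lwinvB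
    (fun L hL => hrelT _ (hrelmem L hL))

theorem exists_psi : ∃ ψ : X →* Equiv.Perm (Fin table3.n),
    ∀ (L : List (Gen × Bool)) (p : Fin table3.n),
      (ψ (PresentedGroup.mk rels (FreeGroup.mk L)) p).val = table3.walkT (pathOf lw L) p.val :=
  hom_of_table rels relWords (fun r hr => (link.hrels r).mp hr) lw table3 hT3 lwk3 lwinv3
    (fun L hL => hrelT3 _ (hrelmem L hL))

theorem exists_gen_of_lt : ∀ l, l < 8 → ∃ x : Gen, lw (x, true) = l := by
  intro l hl
  interval_cases l
  exacts [⟨.b, rfl⟩, ⟨.c, rfl⟩, ⟨.d, rfl⟩, ⟨.e, rfl⟩, ⟨.f, rfl⟩, ⟨.g, rfl⟩, ⟨.h, rfl⟩, ⟨.i, rfl⟩]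

theorem lw_dec : ∀ l, l < 8 → lw (dec l) = l := by
  intro l hl
  interval_cases l <;> rfl

theorem pathOf_dec (p : List ℕ) (h : ∀ l ∈ p, l < 8) : pathOf lw (p.reverse.map dec) = p := by
  unfold pathOf
  rw [List.map_map, List.map_reverse, List.reverse_reverse]
  have : List.map (lw ∘ dec) p = List.map id p := List.map_congr_left fun l hl => lw_dec l (h l hl)
  rw [this, List.map_id]

theorem ltAll_mono {k k' : ℕ} (hk : k ≤ k') {u : List ℕ} (h : ltAll k u = true) : ltAll k' u = true := by
  rw [ltAll_iff] at *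
  exact fun l hl => lt_of_lt_of_le (h l hl) hk

theorem factorization_three : (4585351680 : ℕ).factorization 3 = 9 := by
  have e : (4585351680 : ℕ) = 3 ^ 9 * 232960 := by norm_num
  rw [e, Nat.factorization_mul (by norm_num) (by norm_num), Nat.Prime.factorization_pow Nat.prime_three]
  have h0 : (232960 : ℕ).factorization 3 = 0 := Nat.factorization_eq_zero_of_not_dvd (by norm_num)
  simp [h0]

/-- the classes of elements of order three of `X` -/
theorem core : ∃ y : Fin 7 → X, (∀ i, orderOf (y i) = 3) ∧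
    (∀ z : X, orderOf z = 3 → ∃ g : X, ∃ i, g * z * g⁻¹ = y i) ∧
    (∀ i j, ∀ g : X, (g * y i * g⁻¹ = y j ∨ g * y i * g⁻¹ = (y j)⁻¹) → i = j) := by
  obtain ⟨φ, hφ⟩ := exists_phi
  obtain ⟨ψ, hψ⟩ := exists_psi
  haveI : Finite X := Cfsg.Agent.Lib.Helper28.TCFi22TowerB.card1.1
  have hle : Nat.card X ≤ 4585351680 := Cfsg.Agent.Lib.Helper28.TCFi22TowerB.card1.2
  -- values on generators
  have hof : ∀ x : Gen, φ (PresentedGroup.of x) = Table.sigma hTB (lw (x, true)) := by
    intro x
    ext p
    have this : (φ (PresentedGroup.of x) p).val = btable.walkT (pathOf lw [(x, true)]) p.val := hφ [(x, true)] p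
    rw [Table.sigma_apply hTB (lwkB _), this]
    show btable.walkT [lw (x, true)] p.val = _
    rw [Table.walkT_cons, Table.walkT_nil]
  have hΓle : baseGroup hTB 8 ≤ φ.range := by
    unfold baseGroup
    rw [Subgroup.closure_le]
    rintro π ⟨l, hl, rfl⟩
    obtain ⟨x, rfl⟩ := exists_gen_of_lt l hl
    exact ⟨PresentedGroup.of x, hof x⟩
  have h1 : Nat.card (baseGroup hTB 8) ≤ Nat.card φ.range := Subgroup.card_le_of_le hΓle
  have h2 : Nat.card φ.range ≤ Nat.card X :=
    Nat.card_le_card_of_surjective φ.rangeRestrict φ.rangeRestrict_surjective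
  have h3 := card_pstab
  have hp1 : 1 ≤ Nat.card (pstab (baseGroup hTB 8) (toFin btable.n base)) := one_le_card _ _
  have hc : Nat.card (pstab (baseGroup hTB 8) (toFin btable.n base)) ≤ 1 := by
    have : 4585351680 * Nat.card (pstab (baseGroup hTB 8) (toFin btable.n base)) ≤ 4585351680 * 1 := by
      omega
    exact Nat.le_of_mul_le_mul_left this (by norm_num)
  have hcardX : Nat.card X = 4585351680 := by
    have : 4585351680 * 1 ≤ 4585351680 * Nat.card (pstab (baseGroup hTB 8) (toFin btable.n base)) :=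
      Nat.mul_le_mul_left _ hp1
    omega
  have hcardR : Nat.card φ.range = Nat.card X := by
    have : 4585351680 * 1 ≤ 4585351680 * Nat.card (pstab (baseGroup hTB 8) (toFin btable.n base)) :=
      Nat.mul_le_mul_left _ hp1
    omega
  have hinj : Function.Injective φ := by
    rw [← MonoidHom.rangeRestrict_injective_iff]
    exact ((Nat.bijective_iff_surjective_and_card φ.rangeRestrict).2
      ⟨φ.rangeRestrict_surjective, hcardR.symm⟩).1
  have hB : ∀ b ∈ base, b < btable.n := by decide
  have hfaith : Faithful hTB base := faithful_of_pstab hTB base hB (baseGroup hTB 8) hΓ hc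
  have hpre : ∀ l, l < btable.k → ∃ x : X, φ x = Table.sigma hTB l := fun l hl => hΓle (hΓ l hl)
  let η : ℕ → X := fun l => if h : l < btable.k then Classical.choose (hpre l h) else 1
  have hη : ∀ l, l < btable.k → φ (η l) = Table.sigma hTB l := by
    intro l hl
    show φ (if h : l < btable.k then Classical.choose (hpre l h) else 1) = _
    rw [dif_pos hl]
    exact Classical.choose_spec (hpre l hl)
  let M : Model hTB base X := ⟨φ, hinj, η, hη, hfaith⟩
  obtain ⟨hok, _⟩ := chain_of_chk M cert.PL CS hchain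
  have hnf : ∀ c, pathProd η (nfPath cert.PL c) = nfElt (gens η cert.PL) c :=
    pathProd_nfPath η cert.PL (fun r hr => (hok r hr).1)
  have hlt : ∀ c, ltAll btable.k (nfPath cert.PL c) = true :=
    fun c => ltAll_nfPath (fun r hr => (hok r hr).2) c
  have hfac : (Nat.card X).factorization 3 = cert.PL.length := by
    rw [hcardX, factorization_three]
    rfl
  have hpow : (3 : ℕ) ^ cert.PL.length = 19683 := by decide
  -- the images of products of paths
  have hφpath : ∀ u : List ℕ, ltAll btable.k u = true → ∀ p : Fin btable.n,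
      (φ (pathProd η u) p).val = btable.walkT u p.val := by
    intro u hu p
    have hu' := (ltAll_iff _ _).mp hu
    rw [map_pathProd φ η (Table.sigma hTB) u fun l hl => hη l (hu' l hl),
      Table.pathProd_sigma_apply hTB u hu']
  -- words
  have hword : ∀ L : List (Gen × Bool), pathProd η (pathOf lw L) = PresentedGroup.mk rels (FreeGroup.mk L) := by
    intro L
    apply hinj
    ext p
    have hlt' : ltAll btable.k (pathOf lw L) = true := by
      rw [ltAll_iff]
      intro l hl
      unfold pathOf at hl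
      rw [List.mem_reverse, List.mem_map] at hl
      obtain ⟨xb, _, rfl⟩ := hl
      exact lwkB _
    rw [hφpath _ hlt', hφ]
  refine ⟨fun i => nfElt (gens η cert.PL) (cert.ycode.look i.val), fun i => ?_, fun z hz => ?_, fun i j g hg => ?_⟩
  · exact orderOf_y M cert hok hchky i.val i.2
  · obtain ⟨g, i, hi, hgi⟩ := exists_conj_rep M cert CS hchain hindep hroots
      (fun e he => helt e (by rw [hpow] at he; exact he)) hfac z hz
    exact ⟨g, ⟨i, hi⟩, hgi⟩
  · -- invariants
    have hyi : ∀ i : Fin 7, nfElt (gens η cert.PL) (cert.ycode.look i.val) =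
        PresentedGroup.mk rels (FreeGroup.mk ((ypaths.look i.val).reverse.map dec)) := by
      intro i
      rw [← hword, pathOf_dec _ ((ltAll_iff _ _).mp (hylt i.val i.2)), ← hnf]
      exact M.eq_of_agree (hlt _) (ltAll_mono (by decide) (hylt i.val i.2)) (hyag i.val i.2)
    have hs364 : ∀ i : Fin 7, (φ (nfElt (gens η cert.PL) (cert.ycode.look i.val))).support.card =
        mv364.getD i.val 0 := by
      intro i
      rw [← hmv364 i.val i.2]
      apply card_support_eq
      intro p
      rw [← hnf, hφpath _ (hlt _)]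
    have hs3159 : ∀ i : Fin 7, (ψ (nfElt (gens η cert.PL) (cert.ycode.look i.val))).support.card =
        mv3159.getD i.val 0 := by
      intro i
      rw [← hmv3159 i.val i.2]
      apply card_support_eq
      intro p
      rw [hyi, hψ, pathOf_dec _ ((ltAll_iff _ _).mp (hylt i.val i.2))]
    have hconj : ∀ (K : Type) [Group K] (θ : X →* K) (a b g : X),
        (g * a * g⁻¹ = b ∨ g * a * g⁻¹ = b⁻¹) →
        (θ g * θ a * (θ g)⁻¹ = θ b ∨ θ g * θ a * (θ g)⁻¹ = (θ b)⁻¹) := by
      intro K _ θ a b g h
      rcases h with h | h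
      · left
        have := congrArg θ h
        simpa only [map_mul, map_inv] using this
      · right
        have := congrArg θ h
        simpa only [map_mul, map_inv] using this
    have e1 := card_support_of_conj (hconj _ φ _ _ g hg)
    have e2 := card_support_of_conj (hconj _ ψ _ _ g hg)
    rw [hs364, hs364] at e1
    rw [hs3159, hs3159] at e2
    exact Fin.ext (hdistinct i.val j.val i.2 j.2 e1 e2)

/-- the statement for `PΩ₇(3)` -/
theorem main : ∃ Y : Fin 7 → Subgroup (Cfsg.POmega (ZMod 3) (Cfsg.quadFormOdd 3 (ZMod 3))),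
    (∀ i, Nat.card (Y i) = 3) ∧
    (∀ i j, (∃ g : Cfsg.POmega (ZMod 3) (Cfsg.quadFormOdd 3 (ZMod 3)),
      (Y i).map (MulAut.conj g).toMonoidHom = Y j) → i = j) ∧
    (∀ Z : Subgroup (Cfsg.POmega (ZMod 3) (Cfsg.quadFormOdd 3 (ZMod 3))), Nat.card Z = 3 →
      ∃ i, ∃ g : Cfsg.POmega (ZMod 3) (Cfsg.quadFormOdd 3 (ZMod 3)),
        Z.map (MulAut.conj g).toMonoidHom = Y i) := by
  haveI : Finite X := Cfsg.Agent.Lib.Helper28.TCFi22TowerB.card1.1
  have hle : Nat.card X ≤ 4585351680 := Cfsg.Agent.Lib.Helper28.TCFi22TowerB.card1.2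
  obtain ⟨ι⟩ := Cfsg.Agent.Lib.Helper13.Fi22O7.main_hat hle
  obtain ⟨y, h2, h1, h3⟩ := core
  exact classes_of_reps_equiv ι y h2 h1 h3

end Cfsg.Agent.Lib.Helper28.TCO73Main
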