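import Cfsg.Agent.Lib.Helper28.TC2Simple2
import Cfsg.Agent.Lib.Helper28.TCONMain
set_option autoImplicit false
set_option maxRecDepth 100000
set_option maxHeartbeats 0

namespace Cfsg.Agent.Lib.Helper28.TCONFinalW
open Cfsg.Agent.Lib.Helper28.TC2Upper Cfsg.Agent.Lib.Helper28.TC2Lower Cfsg.Agent.Lib.Helper28.TC2Orbit Cfsg.Agent.Lib.Helper28.TC2Glue Cfsg.Agent.Lib.Helper28.TC2Simple Cfsg.Agent.Lib.Helper28.TCONTable Cfsg.Agent.Lib.Helper28.TCONLink Cfsg.Agent.Lib.Helper28.TCONOrb

/-- the element of order 5 -/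
def tWord : List (Cfsg.Spor.ON.Gen × Bool) := [(.e, true), (.g, true), (.d, true), (.g, false)]
/-- the path of its power -/
def tPath : List ℕ := [1, 5, 0, 6, 1, 5, 0, 6, 1, 5, 0, 6, 1, 5, 0, 6, 1, 5, 0, 6]
theorem tPath_eq : pathOf lw (List.replicate 5 tWord).flatten = tPath := by decide +kernel
/-- a coset of the class 2 -/
def yWord2 : List (Cfsg.Spor.ON.Gen × Bool) := [(.g, true), (.b, true), (.g, true)]
/-- an element of the subgroup -/
def hWord2 : List (Cfsg.Spor.ON.Gen × Bool) := [(.c, true), (.d, true), (.c, true)]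
theorem hy2 : orbData.oid (table.walkT (pathOf lw yWord2) 0) = 2 := by decide +kernel
theorem hz2 : orbData.oid (table.walkT (pathOf lw (yWord2 ++ hWord2 ++ yWord2)) 0) = 1 := by decide +kernel
/-- a coset of the class 3 -/
def yWord3 : List (Cfsg.Spor.ON.Gen × Bool) := [(.g, true), (.c, true), (.g, true)]
/-- an element of the subgroup -/
def hWord3 : List (Cfsg.Spor.ON.Gen × Bool) := [(.b, true), (.c, true), (.d, true), (.c, true), (.b, true)]
theorem hy3 : orbData.oid (table.walkT (pathOf lw yWord3) 0) = 3 := by decide +kernel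
theorem hz3 : orbData.oid (table.walkT (pathOf lw (yWord3 ++ hWord3 ++ yWord3)) 0) = 1 := by decide +kernel
/-- a coset of the class 4 -/
def yWord4 : List (Cfsg.Spor.ON.Gen × Bool) := [(.g, true), (.d, true), (.b, true), (.g, true)]
/-- an element of the subgroup -/
def hWord4 : List (Cfsg.Spor.ON.Gen × Bool) := [(.c, true), (.d, true), (.c, true)]
theorem hy4 : orbData.oid (table.walkT (pathOf lw yWord4) 0) = 4 := by decide +kernel
theorem hz4 : orbData.oid (table.walkT (pathOf lw (yWord4 ++ hWord4 ++ yWord4)) 0) = 1 := by decide +kernel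
theorem hg0 : orbData.oid (table.walkT (pathOf lw [(.g, true)]) 0) = 1 := by decide +kernel
theorem h00 : orbData.oid 0 = 0 := by decide +kernel

end Cfsg.Agent.Lib.Helper28.TCONFinalW
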