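import Cfsg.Agent.Lib.Helper28.TCSuzF2Table
import Cfsg.Agent.Lib.Helper28.TCSuzF2L3
set_option autoImplicit false
set_option maxRecDepth 100000
set_option maxHeartbeats 0

namespace Cfsg.Agent.Lib.Helper28.TCSuzF2L6
open Cfsg.Agent.Lib.Helper28.TC2Upper Cfsg.Agent.Lib.Helper28.TC2Lower Cfsg.Agent.Lib.Helper28.TCSuzF2Table

theorem rel24 : table.relOK chkPaths 64272 1248 = true := by decide +kernel

end Cfsg.Agent.Lib.Helper28.TCSuzF2L6
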