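import Cfsg.Agent.Lib.Helper28.TCSuzaData
set_option autoImplicit false
set_option maxRecDepth 100000
set_option maxHeartbeats 0

namespace Cfsg.Agent.Lib.Helper28.TCSuzaU1
open Cfsg.Agent.Lib.Helper28.TCUpper Cfsg.Agent.Lib.Helper28.TCSuzaData

theorem chk5 : data.checkRange 5684 1470 = true := by decide +kernel
theorem chk6 : data.checkRange 7154 2184 = true := by decide +kernel
theorem chk7 : data.checkRange 9338 3020 = true := by decide +kernel
theorem chk8 : data.checkRange 12358 5 = true := by decide +kernel

end Cfsg.Agent.Lib.Helper28.TCSuzaU1
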