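import Cfsg.Agent.Lib.Helper28.TC2Upper
import Cfsg.Agent.Lib.Helper28.TCSuzbDataC0
import Cfsg.Agent.Lib.Helper28.TCSuzbDataC1
set_option autoImplicit false
set_option maxRecDepth 100000

namespace Cfsg.Agent.Lib.Helper28.TCSuzbData
open Cfsg.Agent.Lib.Helper28.TC2Upper

/-- relators -/
def relT : BT (ℕ × List ℕ × List ℕ) := (BT.node 26 (BT.node 13 (BT.node 6 (BT.node 3 (BT.node 1 (BT.node 0 (BT.leaf (2, [0, 0], [0, 0])) (BT.leaf (10, [1, 0, 1, 0, 1, 0, 1, 0, 1, 0], [0, 1, 0, 1, 0, 1, 0, 1, 0, 1]))) (BT.node 2 (BT.leaf (4, [2, 0, 2, 0], [0, 2, 0, 2])) (BT.leaf (4, [3, 0, 3, 0], [0, 3, 0, 3])))) (BT.node 5 (BT.node 4 (BT.leaf (4, [5, 0, 5, 0], [0, 5, 0, 5])) (BT.leaf (4, [6, 0, 6, 0], [0, 6, 0, 6]))) (BT.leaf (4, [4, 0, 4, 0], [0, 4, 0, 4])))) (BT.node 10 (BT.node 8 (BT.node 7 (BT.leaf (10, [0, 1, 0, 1, 0, 1, 0, 1, 0, 1], [1, 0, 1, 0, 1, 0, 1, 0, 1,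 0])) (BT.leaf (2, [1, 1], [1, 1]))) (BT.node 9 (BT.leaf (6, [2, 1, 2, 1, 2, 1], [1, 2, 1, 2, 1, 2])) (BT.leaf (4, [3, 1, 3, 1], [1, 3, 1, 3])))) (BT.node 12 (BT.node 11 (BT.leaf (6, [5, 1, 5, 1, 5, 1], [1, 5, 1, 5, 1, 5])) (BT.leaf (6, [6, 1, 6, 1, 6, 1], [1, 6, 1, 6, 1, 6]))) (BT.leaf (4, [4, 1, 4, 1], [1, 4, 1, 4]))))) (BT.node 20 (BT.node 17 (BT.node 15 (BT.node 14 (BT.leaf (4, [0, 2, 0, 2], [2, 0, 2, 0])) (BT.leaf (6, [1, 2, 1, 2, 1, 2], [2, 1, 2, 1, 2, 1]))) (BT.node 16 (BT.leaf (2, [2, 2], [2, 2])) (BT.leaf (16, [3, 2, 3, 2, 3, 2, 3, 2, 3, 2, 3, 2, 3, 2, 3, 2], [2, 3, 2, 3, 2, 3, 2, 3, 2, 3, 2, 3, 2, 3, 2, 3])))) (BT.node 19 (BT.node 18 (BT.leaf (4, [5, 2, 5, 2], [2, 5, 2, 5])) (BT.leaf (4, [6, 2, 6, 2], [2, 6, 2, 6]))) (BT.leaf (4, [4, 2, 4, 2], [2, 4, 2, 4])))) (BT.node 23 (BT.node 22 (BT.node 21 (BT.leaf (4, [0, 3, 0, 3], [3, 0, 3, 0])) (BT.leaf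 (4, [1, 3, 1, 3], [3, 1, 3, 1]))) (BT.leaf (16, [2, 3, 2, 3, 2, 3, 2, 3, 2, 3, 2, 3, 2, 3, 2, 3], [3, 2, 3, 2, 3, 2, 3, 2, 3, 2, 3, 2, 3, 2, 3, 2]))) (BT.node 25 (BT.node 24 (BT.leaf (2, [3, 3], [3, 3])) (BT.leaf (4, [5, 3, 5, 3], [3, 5, 3, 5]))) (BT.leaf (4, [6, 3, 6, 3], [3, 6, 3, 6])))))) (BT.node 40 (BT.node 33 (BT.node 30 (BT.node 28 (BT.node 27 (BT.leaf (6, [4, 3, 4, 3, 4, 3], [3, 4, 3, 4, 3, 4])) (BT.leaf (4, [0, 5, 0, 5], [5, 0, 5, 0]))) (BT.node 29 (BT.leaf (6, [1, 5, 1, 5, 1, 5], [5, 1, 5, 1, 5, 1])) (BT.leaf (4, [2, 5, 2, 5], [5, 2, 5, 2])))) (BT.node 32 (BT.node 31 (BT.leaf (4, [3, 5, 3, 5], [5, 3, 5, 3])) (BT.leaf (2, [5, 5], [5, 5]))) (BT.leaf (8, [6, 5, 6, 5, 6, 5, 6, 5], [5, 6, 5, 6, 5, 6, 5, 6])))) (BT.node 37 (BT.node 35 (BT.node 34 (BT.leaf (4, [4, 5, 4, 5], [5, 4, 5, 4])) (BT.leaf (4, [0, 6, 0, 6], [6, 0, 6, 0]))) (BT.node 36 (BT.leaf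 (6, [1, 6, 1, 6, 1, 6], [6, 1, 6, 1, 6, 1])) (BT.leaf (4, [2, 6, 2, 6], [6, 2, 6, 2])))) (BT.node 39 (BT.node 38 (BT.leaf (4, [3, 6, 3, 6], [6, 3, 6, 3])) (BT.leaf (8, [5, 6, 5, 6, 5, 6, 5, 6], [6, 5, 6, 5, 6, 5, 6, 5]))) (BT.leaf (2, [6, 6], [6, 6]))))) (BT.node 47 (BT.node 44 (BT.node 42 (BT.node 41 (BT.leaf (4, [4, 6, 4, 6], [6, 4, 6, 4])) (BT.leaf (4, [0, 4, 0, 4], [4, 0, 4, 0]))) (BT.node 43 (BT.leaf (4, [1, 4, 1, 4], [4, 1, 4, 1])) (BT.leaf (4, [2, 4, 2, 4], [4, 2, 4, 2])))) (BT.node 46 (BT.node 45 (BT.leaf (6, [3, 4, 3, 4, 3, 4], [4, 3, 4, 3, 4, 3])) (BT.leaf (4, [5, 4, 5, 4], [4, 5, 4, 5]))) (BT.leaf (4, [6, 4, 6, 4], [4, 6, 4, 6])))) (BT.node 50 (BT.node 49 (BT.node 48 (BT.leaf (2, [4, 4], [4, 4])) (BT.leaf (9, [2, 3, 2, 3, 2, 3, 2, 3, 0], [0, 3, 2, 3, 2, 3, 2, 3, 2]))) (BT.leaf (5, [5, 6, 5, 6, 0], [0, 6, 5, 6, 5]))) (BT.node 52 (BT.node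 51 (BT.leaf (20, [5, 2, 1, 0, 5, 2, 1, 0, 5, 2, 1, 0, 5, 2, 1, 0, 5, 2, 1, 0], [0, 1, 2, 5, 0, 1, 2, 5, 0, 1, 2, 5, 0, 1, 2, 5, 0, 1, 2, 5])) (BT.leaf (15, [6, 5, 1, 6, 5, 1, 6, 5, 1, 6, 5, 1, 6, 5, 1], [1, 5, 6, 1, 5, 6, 1, 5, 6, 1, 5, 6, 1, 5, 6]))) (BT.leaf (78, [4, 3, 2, 3, 2, 1, 3, 2, 3, 2, 1, 3, 2, 3, 2, 1, 3, 2, 3, 2, 1, 3, 2, 3, 2, 1, 4, 3, 2, 3, 2, 1, 3, 2, 3, 2, 1, 3, 2, 3, 2, 1, 3, 2, 3, 2, 1, 3, 2, 3, 2, 1, 4, 3, 2, 3, 2, 1, 3, 2, 3, 2, 1, 3, 2, 3, 2, 1, 3, 2, 3, 2, 1, 3, 2, 3, 2, 1], [1, 2, 3, 2, 3, 1, 2, 3, 2, 3, 1, 2, 3, 2, 3, 1, 2, 3, 2, 3, 1, 2, 3, 2, 3, 4, 1, 2, 3, 2, 3, 1, 2, 3, 2, 3, 1, 2, 3, 2, 3, 1, 2, 3, 2, 3, 1, 2, 3, 2, 3, 4, 1, 2, 3, 2, 3, 1, 2, 3, 2, 3, 1, 2, 3, 2, 3, 1, 2, 3, 2, 3, 1, 2, 3, 2, 3, 4])))))))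
/-- subgroup generators -/
def subT : BT (ℕ × List ℕ × List ℕ) := (BT.node 2 (BT.node 1 (BT.node 0 (BT.leaf (1, [0], [0])) (BT.leaf (1, [1], [1]))) (BT.leaf (1, [2], [2]))) (BT.node 4 (BT.node 3 (BT.leaf (1, [3], [3])) (BT.leaf (1, [5], [5]))) (BT.leaf (1, [6], [6]))))
/-- fact chunks -/
def colET : BT ℕ := (BT.node 263 (BT.node 131 (BT.node 65 (BT.node 32 (BT.node 16 (BT.node 8 (BT.node 4 (BT.node 2 (BT.node 1 (BT.node 0 (BT.leaf cE0) (BT.leaf cE1)) (BT.leaf cE2)) (BT.node 3 (BT.leaf cE3) (BT.leaf cE4))) (BT.node 6 (BT.node 5 (BT.leaf cE5) (BT.leaf cE6)) (BT.node 7 (BT.leaf cE7) (BT.leaf cE8)))) (BT.node 12 (BT.node 10 (BT.node 9 (BT.leaf cE9) (BT.leaf cE10)) (BT.node 11 (BT.leaf cE11) (BT.leaf cE12))) (BT.node 14 (BT.node 13 (BT.leaf cE13) (BT.leaf cE14)) (BT.node 15 (BT.leaf cE15) (BT.leaf cE16))))) (BT.node 24 (BT.node 20 (BT.node 18 (BT.node 17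 (BT.leaf cE17) (BT.leaf cE18)) (BT.node 19 (BT.leaf cE19) (BT.leaf cE20))) (BT.node 22 (BT.node 21 (BT.leaf cE21) (BT.leaf cE22)) (BT.node 23 (BT.leaf cE23) (BT.leaf cE24)))) (BT.node 28 (BT.node 26 (BT.node 25 (BT.leaf cE25) (BT.leaf cE26)) (BT.node 27 (BT.leaf cE27) (BT.leaf cE28))) (BT.node 30 (BT.node 29 (BT.leaf cE29) (BT.leaf cE30)) (BT.node 31 (BT.leaf cE31) (BT.leaf cE32)))))) (BT.node 49 (BT.node 41 (BT.node 37 (BT.node 35 (BT.node 34 (BT.node 33 (BT.leaf cE33) (BT.leaf cE34)) (BT.leaf cE35)) (BT.node 36 (BT.leaf cE36) (BT.leaf cE37))) (BT.node 39 (BT.node 38 (BT.leaf cE38) (BT.leaf cE39)) (BT.node 40 (BT.leaf cE40) (BT.leaf cE41)))) (BT.node 45 (BT.node 43 (BT.node 42 (BT.leaf cE42) (BT.leaf cE43)) (BT.node 44 (BT.leaf cE44) (BT.leaf cE45))) (BT.node 47 (BT.node 46 (BT.leaf cE46) (BT.leaf cE47)) (BT.node 48 (BT.leaf cE48) (BT.leaf cE49)))))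 (BT.node 57 (BT.node 53 (BT.node 51 (BT.node 50 (BT.leaf cE50) (BT.leaf cE51)) (BT.node 52 (BT.leaf cE52) (BT.leaf cE53))) (BT.node 55 (BT.node 54 (BT.leaf cE54) (BT.leaf cE55)) (BT.node 56 (BT.leaf cE56) (BT.leaf cE57)))) (BT.node 61 (BT.node 59 (BT.node 58 (BT.leaf cE58) (BT.leaf cE59)) (BT.node 60 (BT.leaf cE60) (BT.leaf cE61))) (BT.node 63 (BT.node 62 (BT.leaf cE62) (BT.leaf cE63)) (BT.node 64 (BT.leaf cE64) (BT.leaf cE65))))))) (BT.node 98 (BT.node 82 (BT.node 74 (BT.node 70 (BT.node 68 (BT.node 67 (BT.node 66 (BT.leaf cE66) (BT.leaf cE67)) (BT.leaf cE68)) (BT.node 69 (BT.leaf cE69) (BT.leaf cE70))) (BT.node 72 (BT.node 71 (BT.leaf cE71) (BT.leaf cE72)) (BT.node 73 (BT.leaf cE73) (BT.leaf cE74)))) (BT.node 78 (BT.node 76 (BT.node 75 (BT.leaf cE75) (BT.leaf cE76)) (BT.node 77 (BT.leaf cE77) (BT.leaf cE78))) (BT.node 80 (BT.node 79 (BT.leaf cE79)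 (BT.leaf cE80)) (BT.node 81 (BT.leaf cE81) (BT.leaf cE82))))) (BT.node 90 (BT.node 86 (BT.node 84 (BT.node 83 (BT.leaf cE83) (BT.leaf cE84)) (BT.node 85 (BT.leaf cE85) (BT.leaf cE86))) (BT.node 88 (BT.node 87 (BT.leaf cE87) (BT.leaf cE88)) (BT.node 89 (BT.leaf cE89) (BT.leaf cE90)))) (BT.node 94 (BT.node 92 (BT.node 91 (BT.leaf cE91) (BT.leaf cE92)) (BT.node 93 (BT.leaf cE93) (BT.leaf cE94))) (BT.node 96 (BT.node 95 (BT.leaf cE95) (BT.leaf cE96)) (BT.node 97 (BT.leaf cE97) (BT.leaf cE98)))))) (BT.node 115 (BT.node 107 (BT.node 103 (BT.node 101 (BT.node 100 (BT.node 99 (BT.leaf cE99) (BT.leaf cE100)) (BT.leaf cE101)) (BT.node 102 (BT.leaf cE102) (BT.leaf cE103))) (BT.node 105 (BT.node 104 (BT.leaf cE104) (BT.leaf cE105)) (BT.node 106 (BT.leaf cE106) (BT.leaf cE107)))) (BT.node 111 (BT.node 109 (BT.node 108 (BT.leaf cE108) (BT.leaf cE109)) (BT.node 110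 (BT.leaf cE110) (BT.leaf cE111))) (BT.node 113 (BT.node 112 (BT.leaf cE112) (BT.leaf cE113)) (BT.node 114 (BT.leaf cE114) (BT.leaf cE115))))) (BT.node 123 (BT.node 119 (BT.node 117 (BT.node 116 (BT.leaf cE116) (BT.leaf cE117)) (BT.node 118 (BT.leaf cE118) (BT.leaf cE119))) (BT.node 121 (BT.node 120 (BT.leaf cE120) (BT.leaf cE121)) (BT.node 122 (BT.leaf cE122) (BT.leaf cE123)))) (BT.node 127 (BT.node 125 (BT.node 124 (BT.leaf cE124) (BT.leaf cE125)) (BT.node 126 (BT.leaf cE126) (BT.leaf cE127))) (BT.node 129 (BT.node 128 (BT.leaf cE128) (BT.leaf cE129)) (BT.node 130 (BT.leaf cE130) (BT.leaf cE131)))))))) (BT.node 197 (BT.node 164 (BT.node 148 (BT.node 140 (BT.node 136 (BT.node 134 (BT.node 133 (BT.node 132 (BT.leaf cE132) (BT.leaf cE133)) (BT.leaf cE134)) (BT.node 135 (BT.leaf cE135) (BT.leaf cE136))) (BT.node 138 (BT.node 137 (BT.leaf cE137) (BT.leaf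 cE138)) (BT.node 139 (BT.leaf cE139) (BT.leaf cE140)))) (BT.node 144 (BT.node 142 (BT.node 141 (BT.leaf cE141) (BT.leaf cE142)) (BT.node 143 (BT.leaf cE143) (BT.leaf cE144))) (BT.node 146 (BT.node 145 (BT.leaf cE145) (BT.leaf cE146)) (BT.node 147 (BT.leaf cE147) (BT.leaf cE148))))) (BT.node 156 (BT.node 152 (BT.node 150 (BT.node 149 (BT.leaf cE149) (BT.leaf cE150)) (BT.node 151 (BT.leaf cE151) (BT.leaf cE152))) (BT.node 154 (BT.node 153 (BT.leaf cE153) (BT.leaf cE154)) (BT.node 155 (BT.leaf cE155) (BT.leaf cE156)))) (BT.node 160 (BT.node 158 (BT.node 157 (BT.leaf cE157) (BT.leaf cE158)) (BT.node 159 (BT.leaf cE159) (BT.leaf cE160))) (BT.node 162 (BT.node 161 (BT.leaf cE161) (BT.leaf cE162)) (BT.node 163 (BT.leaf cE163) (BT.leaf cE164)))))) (BT.node 181 (BT.node 173 (BT.node 169 (BT.node 167 (BT.node 166 (BT.node 165 (BT.leaf cE165) (BT.leaf cE166))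 (BT.leaf cE167)) (BT.node 168 (BT.leaf cE168) (BT.leaf cE169))) (BT.node 171 (BT.node 170 (BT.leaf cE170) (BT.leaf cE171)) (BT.node 172 (BT.leaf cE172) (BT.leaf cE173)))) (BT.node 177 (BT.node 175 (BT.node 174 (BT.leaf cE174) (BT.leaf cE175)) (BT.node 176 (BT.leaf cE176) (BT.leaf cE177))) (BT.node 179 (BT.node 178 (BT.leaf cE178) (BT.leaf cE179)) (BT.node 180 (BT.leaf cE180) (BT.leaf cE181))))) (BT.node 189 (BT.node 185 (BT.node 183 (BT.node 182 (BT.leaf cE182) (BT.leaf cE183)) (BT.node 184 (BT.leaf cE184) (BT.leaf cE185))) (BT.node 187 (BT.node 186 (BT.leaf cE186) (BT.leaf cE187)) (BT.node 188 (BT.leaf cE188) (BT.leaf cE189)))) (BT.node 193 (BT.node 191 (BT.node 190 (BT.leaf cE190) (BT.leaf cE191)) (BT.node 192 (BT.leaf cE192) (BT.leaf cE193))) (BT.node 195 (BT.node 194 (BT.leaf cE194) (BT.leaf cE195)) (BT.node 196 (BT.leaf cE196) (BT.leaf cE197)))))))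 (BT.node 230 (BT.node 214 (BT.node 206 (BT.node 202 (BT.node 200 (BT.node 199 (BT.node 198 (BT.leaf cE198) (BT.leaf cE199)) (BT.leaf cE200)) (BT.node 201 (BT.leaf cE201) (BT.leaf cE202))) (BT.node 204 (BT.node 203 (BT.leaf cE203) (BT.leaf cE204)) (BT.node 205 (BT.leaf cE205) (BT.leaf cE206)))) (BT.node 210 (BT.node 208 (BT.node 207 (BT.leaf cE207) (BT.leaf cE208)) (BT.node 209 (BT.leaf cE209) (BT.leaf cE210))) (BT.node 212 (BT.node 211 (BT.leaf cE211) (BT.leaf cE212)) (BT.node 213 (BT.leaf cE213) (BT.leaf cE214))))) (BT.node 222 (BT.node 218 (BT.node 216 (BT.node 215 (BT.leaf cE215) (BT.leaf cE216)) (BT.node 217 (BT.leaf cE217) (BT.leaf cE218))) (BT.node 220 (BT.node 219 (BT.leaf cE219) (BT.leaf cE220)) (BT.node 221 (BT.leaf cE221) (BT.leaf cE222)))) (BT.node 226 (BT.node 224 (BT.node 223 (BT.leaf cE223) (BT.leaf cE224)) (BT.node 225 (BT.leaf cE225)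 (BT.leaf cE226))) (BT.node 228 (BT.node 227 (BT.leaf cE227) (BT.leaf cE228)) (BT.node 229 (BT.leaf cE229) (BT.leaf cE230)))))) (BT.node 247 (BT.node 239 (BT.node 235 (BT.node 233 (BT.node 232 (BT.node 231 (BT.leaf cE231) (BT.leaf cE232)) (BT.leaf cE233)) (BT.node 234 (BT.leaf cE234) (BT.leaf cE235))) (BT.node 237 (BT.node 236 (BT.leaf cE236) (BT.leaf cE237)) (BT.node 238 (BT.leaf cE238) (BT.leaf cE239)))) (BT.node 243 (BT.node 241 (BT.node 240 (BT.leaf cE240) (BT.leaf cE241)) (BT.node 242 (BT.leaf cE242) (BT.leaf cE243))) (BT.node 245 (BT.node 244 (BT.leaf cE244) (BT.leaf cE245)) (BT.node 246 (BT.leaf cE246) (BT.leaf cE247))))) (BT.node 255 (BT.node 251 (BT.node 249 (BT.node 248 (BT.leaf cE248) (BT.leaf cE249)) (BT.node 250 (BT.leaf cE250) (BT.leaf cE251))) (BT.node 253 (BT.node 252 (BT.leaf cE252) (BT.leaf cE253)) (BT.node 254 (BT.leaf cE254) (BT.leaf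 cE255)))) (BT.node 259 (BT.node 257 (BT.node 256 (BT.leaf cE256) (BT.leaf cE257)) (BT.node 258 (BT.leaf cE258) (BT.leaf cE259))) (BT.node 261 (BT.node 260 (BT.leaf cE260) (BT.leaf cE261)) (BT.node 262 (BT.leaf cE262) (BT.leaf cE263))))))))) (BT.node 395 (BT.node 329 (BT.node 296 (BT.node 280 (BT.node 272 (BT.node 268 (BT.node 266 (BT.node 265 (BT.node 264 (BT.leaf cE264) (BT.leaf cE265)) (BT.leaf cE266)) (BT.node 267 (BT.leaf cE267) (BT.leaf cE268))) (BT.node 270 (BT.node 269 (BT.leaf cE269) (BT.leaf cE270)) (BT.node 271 (BT.leaf cE271) (BT.leaf cE272)))) (BT.node 276 (BT.node 274 (BT.node 273 (BT.leaf cE273) (BT.leaf cE274)) (BT.node 275 (BT.leaf cE275) (BT.leaf cE276))) (BT.node 278 (BT.node 277 (BT.leaf cE277) (BT.leaf cE278)) (BT.node 279 (BT.leaf cE279) (BT.leaf cE280))))) (BT.node 288 (BT.node 284 (BT.node 282 (BT.node 281 (BT.leaf cE281) (BT.leaf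 cE282)) (BT.node 283 (BT.leaf cE283) (BT.leaf cE284))) (BT.node 286 (BT.node 285 (BT.leaf cE285) (BT.leaf cE286)) (BT.node 287 (BT.leaf cE287) (BT.leaf cE288)))) (BT.node 292 (BT.node 290 (BT.node 289 (BT.leaf cE289) (BT.leaf cE290)) (BT.node 291 (BT.leaf cE291) (BT.leaf cE292))) (BT.node 294 (BT.node 293 (BT.leaf cE293) (BT.leaf cE294)) (BT.node 295 (BT.leaf cE295) (BT.leaf cE296)))))) (BT.node 313 (BT.node 305 (BT.node 301 (BT.node 299 (BT.node 298 (BT.node 297 (BT.leaf cE297) (BT.leaf cE298)) (BT.leaf cE299)) (BT.node 300 (BT.leaf cE300) (BT.leaf cE301))) (BT.node 303 (BT.node 302 (BT.leaf cE302) (BT.leaf cE303)) (BT.node 304 (BT.leaf cE304) (BT.leaf cE305)))) (BT.node 309 (BT.node 307 (BT.node 306 (BT.leaf cE306) (BT.leaf cE307)) (BT.node 308 (BT.leaf cE308) (BT.leaf cE309))) (BT.node 311 (BT.node 310 (BT.leaf cE310) (BT.leaf cE311)) (BT.node 312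 (BT.leaf cE312) (BT.leaf cE313))))) (BT.node 321 (BT.node 317 (BT.node 315 (BT.node 314 (BT.leaf cE314) (BT.leaf cE315)) (BT.node 316 (BT.leaf cE316) (BT.leaf cE317))) (BT.node 319 (BT.node 318 (BT.leaf cE318) (BT.leaf cE319)) (BT.node 320 (BT.leaf cE320) (BT.leaf cE321)))) (BT.node 325 (BT.node 323 (BT.node 322 (BT.leaf cE322) (BT.leaf cE323)) (BT.node 324 (BT.leaf cE324) (BT.leaf cE325))) (BT.node 327 (BT.node 326 (BT.leaf cE326) (BT.leaf cE327)) (BT.node 328 (BT.leaf cE328) (BT.leaf cE329))))))) (BT.node 362 (BT.node 346 (BT.node 338 (BT.node 334 (BT.node 332 (BT.node 331 (BT.node 330 (BT.leaf cE330) (BT.leaf cE331)) (BT.leaf cE332)) (BT.node 333 (BT.leaf cE333) (BT.leaf cE334))) (BT.node 336 (BT.node 335 (BT.leaf cE335) (BT.leaf cE336)) (BT.node 337 (BT.leaf cE337) (BT.leaf cE338)))) (BT.node 342 (BT.node 340 (BT.node 339 (BT.leaf cE339) (BT.leaf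 cE340)) (BT.node 341 (BT.leaf cE341) (BT.leaf cE342))) (BT.node 344 (BT.node 343 (BT.leaf cE343) (BT.leaf cE344)) (BT.node 345 (BT.leaf cE345) (BT.leaf cE346))))) (BT.node 354 (BT.node 350 (BT.node 348 (BT.node 347 (BT.leaf cE347) (BT.leaf cE348)) (BT.node 349 (BT.leaf cE349) (BT.leaf cE350))) (BT.node 352 (BT.node 351 (BT.leaf cE351) (BT.leaf cE352)) (BT.node 353 (BT.leaf cE353) (BT.leaf cE354)))) (BT.node 358 (BT.node 356 (BT.node 355 (BT.leaf cE355) (BT.leaf cE356)) (BT.node 357 (BT.leaf cE357) (BT.leaf cE358))) (BT.node 360 (BT.node 359 (BT.leaf cE359) (BT.leaf cE360)) (BT.node 361 (BT.leaf cE361) (BT.leaf cE362)))))) (BT.node 379 (BT.node 371 (BT.node 367 (BT.node 365 (BT.node 364 (BT.node 363 (BT.leaf cE363) (BT.leaf cE364)) (BT.leaf cE365)) (BT.node 366 (BT.leaf cE366) (BT.leaf cE367))) (BT.node 369 (BT.node 368 (BT.leaf cE368) (BT.leaf cE369))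 (BT.node 370 (BT.leaf cE370) (BT.leaf cE371)))) (BT.node 375 (BT.node 373 (BT.node 372 (BT.leaf cE372) (BT.leaf cE373)) (BT.node 374 (BT.leaf cE374) (BT.leaf cE375))) (BT.node 377 (BT.node 376 (BT.leaf cE376) (BT.leaf cE377)) (BT.node 378 (BT.leaf cE378) (BT.leaf cE379))))) (BT.node 387 (BT.node 383 (BT.node 381 (BT.node 380 (BT.leaf cE380) (BT.leaf cE381)) (BT.node 382 (BT.leaf cE382) (BT.leaf cE383))) (BT.node 385 (BT.node 384 (BT.leaf cE384) (BT.leaf cE385)) (BT.node 386 (BT.leaf cE386) (BT.leaf cE387)))) (BT.node 391 (BT.node 389 (BT.node 388 (BT.leaf cE388) (BT.leaf cE389)) (BT.node 390 (BT.leaf cE390) (BT.leaf cE391))) (BT.node 393 (BT.node 392 (BT.leaf cE392) (BT.leaf cE393)) (BT.node 394 (BT.leaf cE394) (BT.leaf cE395)))))))) (BT.node 461 (BT.node 428 (BT.node 412 (BT.node 404 (BT.node 400 (BT.node 398 (BT.node 397 (BT.node 396 (BT.leaf cE396)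 (BT.leaf cE397)) (BT.leaf cE398)) (BT.node 399 (BT.leaf cE399) (BT.leaf cE400))) (BT.node 402 (BT.node 401 (BT.leaf cE401) (BT.leaf cE402)) (BT.node 403 (BT.leaf cE403) (BT.leaf cE404)))) (BT.node 408 (BT.node 406 (BT.node 405 (BT.leaf cE405) (BT.leaf cE406)) (BT.node 407 (BT.leaf cE407) (BT.leaf cE408))) (BT.node 410 (BT.node 409 (BT.leaf cE409) (BT.leaf cE410)) (BT.node 411 (BT.leaf cE411) (BT.leaf cE412))))) (BT.node 420 (BT.node 416 (BT.node 414 (BT.node 413 (BT.leaf cE413) (BT.leaf cE414)) (BT.node 415 (BT.leaf cE415) (BT.leaf cE416))) (BT.node 418 (BT.node 417 (BT.leaf cE417) (BT.leaf cE418)) (BT.node 419 (BT.leaf cE419) (BT.leaf cE420)))) (BT.node 424 (BT.node 422 (BT.node 421 (BT.leaf cE421) (BT.leaf cE422)) (BT.node 423 (BT.leaf cE423) (BT.leaf cE424))) (BT.node 426 (BT.node 425 (BT.leaf cE425) (BT.leaf cE426)) (BT.node 427 (BT.leaf cE427)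 (BT.leaf cE428)))))) (BT.node 445 (BT.node 437 (BT.node 433 (BT.node 431 (BT.node 430 (BT.node 429 (BT.leaf cE429) (BT.leaf cE430)) (BT.leaf cE431)) (BT.node 432 (BT.leaf cE432) (BT.leaf cE433))) (BT.node 435 (BT.node 434 (BT.leaf cE434) (BT.leaf cE435)) (BT.node 436 (BT.leaf cE436) (BT.leaf cE437)))) (BT.node 441 (BT.node 439 (BT.node 438 (BT.leaf cE438) (BT.leaf cE439)) (BT.node 440 (BT.leaf cE440) (BT.leaf cE441))) (BT.node 443 (BT.node 442 (BT.leaf cE442) (BT.leaf cE443)) (BT.node 444 (BT.leaf cE444) (BT.leaf cE445))))) (BT.node 453 (BT.node 449 (BT.node 447 (BT.node 446 (BT.leaf cE446) (BT.leaf cE447)) (BT.node 448 (BT.leaf cE448) (BT.leaf cE449))) (BT.node 451 (BT.node 450 (BT.leaf cE450) (BT.leaf cE451)) (BT.node 452 (BT.leaf cE452) (BT.leaf cE453)))) (BT.node 457 (BT.node 455 (BT.node 454 (BT.leaf cE454) (BT.leaf cE455)) (BT.node 456 (BT.leaf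 cE456) (BT.leaf cE457))) (BT.node 459 (BT.node 458 (BT.leaf cE458) (BT.leaf cE459)) (BT.node 460 (BT.leaf cE460) (BT.leaf cE461))))))) (BT.node 494 (BT.node 478 (BT.node 470 (BT.node 466 (BT.node 464 (BT.node 463 (BT.node 462 (BT.leaf cE462) (BT.leaf cE463)) (BT.leaf cE464)) (BT.node 465 (BT.leaf cE465) (BT.leaf cE466))) (BT.node 468 (BT.node 467 (BT.leaf cE467) (BT.leaf cE468)) (BT.node 469 (BT.leaf cE469) (BT.leaf cE470)))) (BT.node 474 (BT.node 472 (BT.node 471 (BT.leaf cE471) (BT.leaf cE472)) (BT.node 473 (BT.leaf cE473) (BT.leaf cE474))) (BT.node 476 (BT.node 475 (BT.leaf cE475) (BT.leaf cE476)) (BT.node 477 (BT.leaf cE477) (BT.leaf cE478))))) (BT.node 486 (BT.node 482 (BT.node 480 (BT.node 479 (BT.leaf cE479) (BT.leaf cE480)) (BT.node 481 (BT.leaf cE481) (BT.leaf cE482))) (BT.node 484 (BT.node 483 (BT.leaf cE483) (BT.leaf cE484)) (BT.node 485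 (BT.leaf cE485) (BT.leaf cE486)))) (BT.node 490 (BT.node 488 (BT.node 487 (BT.leaf cE487) (BT.leaf cE488)) (BT.node 489 (BT.leaf cE489) (BT.leaf cE490))) (BT.node 492 (BT.node 491 (BT.leaf cE491) (BT.leaf cE492)) (BT.node 493 (BT.leaf cE493) (BT.leaf cE494)))))) (BT.node 511 (BT.node 503 (BT.node 499 (BT.node 497 (BT.node 496 (BT.node 495 (BT.leaf cE495) (BT.leaf cE496)) (BT.leaf cE497)) (BT.node 498 (BT.leaf cE498) (BT.leaf cE499))) (BT.node 501 (BT.node 500 (BT.leaf cE500) (BT.leaf cE501)) (BT.node 502 (BT.leaf cE502) (BT.leaf cE503)))) (BT.node 507 (BT.node 505 (BT.node 504 (BT.leaf cE504) (BT.leaf cE505)) (BT.node 506 (BT.leaf cE506) (BT.leaf cE507))) (BT.node 509 (BT.node 508 (BT.leaf cE508) (BT.leaf cE509)) (BT.node 510 (BT.leaf cE510) (BT.leaf cE511))))) (BT.node 519 (BT.node 515 (BT.node 513 (BT.node 512 (BT.leaf cE512) (BT.leaf cE513)) (BT.node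 514 (BT.leaf cE514) (BT.leaf cE515))) (BT.node 517 (BT.node 516 (BT.leaf cE516) (BT.leaf cE517)) (BT.node 518 (BT.leaf cE518) (BT.leaf cE519)))) (BT.node 523 (BT.node 521 (BT.node 520 (BT.leaf cE520) (BT.leaf cE521)) (BT.node 522 (BT.leaf cE522) (BT.leaf cE523))) (BT.node 525 (BT.node 524 (BT.leaf cE524) (BT.leaf cE525)) (BT.node 526 (BT.leaf cE526) (BT.leaf cE527))))))))))
/-- justification chunks -/
def colJT : BT ℕ := (BT.node 263 (BT.node 131 (BT.node 65 (BT.node 32 (BT.node 16 (BT.node 8 (BT.node 4 (BT.node 2 (BT.node 1 (BT.node 0 (BT.leaf cJ0) (BT.leaf cJ1)) (BT.leaf cJ2)) (BT.node 3 (BT.leaf cJ3) (BT.leaf cJ4))) (BT.node 6 (BT.node 5 (BT.leaf cJ5) (BT.leaf cJ6)) (BT.node 7 (BT.leaf cJ7) (BT.leaf cJ8)))) (BT.node 12 (BT.node 10 (BT.node 9 (BT.leaf cJ9) (BT.leaf cJ10)) (BT.node 11 (BT.leaf cJ11) (BT.leaf cJ12))) (BT.node 14 (BT.node 13 (BT.leaf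 cJ13) (BT.leaf cJ14)) (BT.node 15 (BT.leaf cJ15) (BT.leaf cJ16))))) (BT.node 24 (BT.node 20 (BT.node 18 (BT.node 17 (BT.leaf cJ17) (BT.leaf cJ18)) (BT.node 19 (BT.leaf cJ19) (BT.leaf cJ20))) (BT.node 22 (BT.node 21 (BT.leaf cJ21) (BT.leaf cJ22)) (BT.node 23 (BT.leaf cJ23) (BT.leaf cJ24)))) (BT.node 28 (BT.node 26 (BT.node 25 (BT.leaf cJ25) (BT.leaf cJ26)) (BT.node 27 (BT.leaf cJ27) (BT.leaf cJ28))) (BT.node 30 (BT.node 29 (BT.leaf cJ29) (BT.leaf cJ30)) (BT.node 31 (BT.leaf cJ31) (BT.leaf cJ32)))))) (BT.node 49 (BT.node 41 (BT.node 37 (BT.node 35 (BT.node 34 (BT.node 33 (BT.leaf cJ33) (BT.leaf cJ34)) (BT.leaf cJ35)) (BT.node 36 (BT.leaf cJ36) (BT.leaf cJ37))) (BT.node 39 (BT.node 38 (BT.leaf cJ38) (BT.leaf cJ39)) (BT.node 40 (BT.leaf cJ40) (BT.leaf cJ41)))) (BT.node 45 (BT.node 43 (BT.node 42 (BT.leaf cJ42) (BT.leaf cJ43)) (BT.node 44 (BT.leaf cJ44)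 (BT.leaf cJ45))) (BT.node 47 (BT.node 46 (BT.leaf cJ46) (BT.leaf cJ47)) (BT.node 48 (BT.leaf cJ48) (BT.leaf cJ49))))) (BT.node 57 (BT.node 53 (BT.node 51 (BT.node 50 (BT.leaf cJ50) (BT.leaf cJ51)) (BT.node 52 (BT.leaf cJ52) (BT.leaf cJ53))) (BT.node 55 (BT.node 54 (BT.leaf cJ54) (BT.leaf cJ55)) (BT.node 56 (BT.leaf cJ56) (BT.leaf cJ57)))) (BT.node 61 (BT.node 59 (BT.node 58 (BT.leaf cJ58) (BT.leaf cJ59)) (BT.node 60 (BT.leaf cJ60) (BT.leaf cJ61))) (BT.node 63 (BT.node 62 (BT.leaf cJ62) (BT.leaf cJ63)) (BT.node 64 (BT.leaf cJ64) (BT.leaf cJ65))))))) (BT.node 98 (BT.node 82 (BT.node 74 (BT.node 70 (BT.node 68 (BT.node 67 (BT.node 66 (BT.leaf cJ66) (BT.leaf cJ67)) (BT.leaf cJ68)) (BT.node 69 (BT.leaf cJ69) (BT.leaf cJ70))) (BT.node 72 (BT.node 71 (BT.leaf cJ71) (BT.leaf cJ72)) (BT.node 73 (BT.leaf cJ73) (BT.leaf cJ74)))) (BT.node 78 (BT.node 76 (BT.node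 75 (BT.leaf cJ75) (BT.leaf cJ76)) (BT.node 77 (BT.leaf cJ77) (BT.leaf cJ78))) (BT.node 80 (BT.node 79 (BT.leaf cJ79) (BT.leaf cJ80)) (BT.node 81 (BT.leaf cJ81) (BT.leaf cJ82))))) (BT.node 90 (BT.node 86 (BT.node 84 (BT.node 83 (BT.leaf cJ83) (BT.leaf cJ84)) (BT.node 85 (BT.leaf cJ85) (BT.leaf cJ86))) (BT.node 88 (BT.node 87 (BT.leaf cJ87) (BT.leaf cJ88)) (BT.node 89 (BT.leaf cJ89) (BT.leaf cJ90)))) (BT.node 94 (BT.node 92 (BT.node 91 (BT.leaf cJ91) (BT.leaf cJ92)) (BT.node 93 (BT.leaf cJ93) (BT.leaf cJ94))) (BT.node 96 (BT.node 95 (BT.leaf cJ95) (BT.leaf cJ96)) (BT.node 97 (BT.leaf cJ97) (BT.leaf cJ98)))))) (BT.node 115 (BT.node 107 (BT.node 103 (BT.node 101 (BT.node 100 (BT.node 99 (BT.leaf cJ99) (BT.leaf cJ100)) (BT.leaf cJ101)) (BT.node 102 (BT.leaf cJ102) (BT.leaf cJ103))) (BT.node 105 (BT.node 104 (BT.leaf cJ104) (BT.leaf cJ105)) (BT.node 106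 (BT.leaf cJ106) (BT.leaf cJ107)))) (BT.node 111 (BT.node 109 (BT.node 108 (BT.leaf cJ108) (BT.leaf cJ109)) (BT.node 110 (BT.leaf cJ110) (BT.leaf cJ111))) (BT.node 113 (BT.node 112 (BT.leaf cJ112) (BT.leaf cJ113)) (BT.node 114 (BT.leaf cJ114) (BT.leaf cJ115))))) (BT.node 123 (BT.node 119 (BT.node 117 (BT.node 116 (BT.leaf cJ116) (BT.leaf cJ117)) (BT.node 118 (BT.leaf cJ118) (BT.leaf cJ119))) (BT.node 121 (BT.node 120 (BT.leaf cJ120) (BT.leaf cJ121)) (BT.node 122 (BT.leaf cJ122) (BT.leaf cJ123)))) (BT.node 127 (BT.node 125 (BT.node 124 (BT.leaf cJ124) (BT.leaf cJ125)) (BT.node 126 (BT.leaf cJ126) (BT.leaf cJ127))) (BT.node 129 (BT.node 128 (BT.leaf cJ128) (BT.leaf cJ129)) (BT.node 130 (BT.leaf cJ130) (BT.leaf cJ131)))))))) (BT.node 197 (BT.node 164 (BT.node 148 (BT.node 140 (BT.node 136 (BT.node 134 (BT.node 133 (BT.node 132 (BT.leaf cJ132) (BT.leaf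 cJ133)) (BT.leaf cJ134)) (BT.node 135 (BT.leaf cJ135) (BT.leaf cJ136))) (BT.node 138 (BT.node 137 (BT.leaf cJ137) (BT.leaf cJ138)) (BT.node 139 (BT.leaf cJ139) (BT.leaf cJ140)))) (BT.node 144 (BT.node 142 (BT.node 141 (BT.leaf cJ141) (BT.leaf cJ142)) (BT.node 143 (BT.leaf cJ143) (BT.leaf cJ144))) (BT.node 146 (BT.node 145 (BT.leaf cJ145) (BT.leaf cJ146)) (BT.node 147 (BT.leaf cJ147) (BT.leaf cJ148))))) (BT.node 156 (BT.node 152 (BT.node 150 (BT.node 149 (BT.leaf cJ149) (BT.leaf cJ150)) (BT.node 151 (BT.leaf cJ151) (BT.leaf cJ152))) (BT.node 154 (BT.node 153 (BT.leaf cJ153) (BT.leaf cJ154)) (BT.node 155 (BT.leaf cJ155) (BT.leaf cJ156)))) (BT.node 160 (BT.node 158 (BT.node 157 (BT.leaf cJ157) (BT.leaf cJ158)) (BT.node 159 (BT.leaf cJ159) (BT.leaf cJ160))) (BT.node 162 (BT.node 161 (BT.leaf cJ161) (BT.leaf cJ162)) (BT.node 163 (BT.leaf cJ163) (BT.leaf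 cJ164)))))) (BT.node 181 (BT.node 173 (BT.node 169 (BT.node 167 (BT.node 166 (BT.node 165 (BT.leaf cJ165) (BT.leaf cJ166)) (BT.leaf cJ167)) (BT.node 168 (BT.leaf cJ168) (BT.leaf cJ169))) (BT.node 171 (BT.node 170 (BT.leaf cJ170) (BT.leaf cJ171)) (BT.node 172 (BT.leaf cJ172) (BT.leaf cJ173)))) (BT.node 177 (BT.node 175 (BT.node 174 (BT.leaf cJ174) (BT.leaf cJ175)) (BT.node 176 (BT.leaf cJ176) (BT.leaf cJ177))) (BT.node 179 (BT.node 178 (BT.leaf cJ178) (BT.leaf cJ179)) (BT.node 180 (BT.leaf cJ180) (BT.leaf cJ181))))) (BT.node 189 (BT.node 185 (BT.node 183 (BT.node 182 (BT.leaf cJ182) (BT.leaf cJ183)) (BT.node 184 (BT.leaf cJ184) (BT.leaf cJ185))) (BT.node 187 (BT.node 186 (BT.leaf cJ186) (BT.leaf cJ187)) (BT.node 188 (BT.leaf cJ188) (BT.leaf cJ189)))) (BT.node 193 (BT.node 191 (BT.node 190 (BT.leaf cJ190) (BT.leaf cJ191)) (BT.node 192 (BT.leaf cJ192)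 (BT.leaf cJ193))) (BT.node 195 (BT.node 194 (BT.leaf cJ194) (BT.leaf cJ195)) (BT.node 196 (BT.leaf cJ196) (BT.leaf cJ197))))))) (BT.node 230 (BT.node 214 (BT.node 206 (BT.node 202 (BT.node 200 (BT.node 199 (BT.node 198 (BT.leaf cJ198) (BT.leaf cJ199)) (BT.leaf cJ200)) (BT.node 201 (BT.leaf cJ201) (BT.leaf cJ202))) (BT.node 204 (BT.node 203 (BT.leaf cJ203) (BT.leaf cJ204)) (BT.node 205 (BT.leaf cJ205) (BT.leaf cJ206)))) (BT.node 210 (BT.node 208 (BT.node 207 (BT.leaf cJ207) (BT.leaf cJ208)) (BT.node 209 (BT.leaf cJ209) (BT.leaf cJ210))) (BT.node 212 (BT.node 211 (BT.leaf cJ211) (BT.leaf cJ212)) (BT.node 213 (BT.leaf cJ213) (BT.leaf cJ214))))) (BT.node 222 (BT.node 218 (BT.node 216 (BT.node 215 (BT.leaf cJ215) (BT.leaf cJ216)) (BT.node 217 (BT.leaf cJ217) (BT.leaf cJ218))) (BT.node 220 (BT.node 219 (BT.leaf cJ219) (BT.leaf cJ220)) (BT.node 221 (BT.leaf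 cJ221) (BT.leaf cJ222)))) (BT.node 226 (BT.node 224 (BT.node 223 (BT.leaf cJ223) (BT.leaf cJ224)) (BT.node 225 (BT.leaf cJ225) (BT.leaf cJ226))) (BT.node 228 (BT.node 227 (BT.leaf cJ227) (BT.leaf cJ228)) (BT.node 229 (BT.leaf cJ229) (BT.leaf cJ230)))))) (BT.node 247 (BT.node 239 (BT.node 235 (BT.node 233 (BT.node 232 (BT.node 231 (BT.leaf cJ231) (BT.leaf cJ232)) (BT.leaf cJ233)) (BT.node 234 (BT.leaf cJ234) (BT.leaf cJ235))) (BT.node 237 (BT.node 236 (BT.leaf cJ236) (BT.leaf cJ237)) (BT.node 238 (BT.leaf cJ238) (BT.leaf cJ239)))) (BT.node 243 (BT.node 241 (BT.node 240 (BT.leaf cJ240) (BT.leaf cJ241)) (BT.node 242 (BT.leaf cJ242) (BT.leaf cJ243))) (BT.node 245 (BT.node 244 (BT.leaf cJ244) (BT.leaf cJ245)) (BT.node 246 (BT.leaf cJ246) (BT.leaf cJ247))))) (BT.node 255 (BT.node 251 (BT.node 249 (BT.node 248 (BT.leaf cJ248) (BT.leaf cJ249)) (BT.node 250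 (BT.leaf cJ250) (BT.leaf cJ251))) (BT.node 253 (BT.node 252 (BT.leaf cJ252) (BT.leaf cJ253)) (BT.node 254 (BT.leaf cJ254) (BT.leaf cJ255)))) (BT.node 259 (BT.node 257 (BT.node 256 (BT.leaf cJ256) (BT.leaf cJ257)) (BT.node 258 (BT.leaf cJ258) (BT.leaf cJ259))) (BT.node 261 (BT.node 260 (BT.leaf cJ260) (BT.leaf cJ261)) (BT.node 262 (BT.leaf cJ262) (BT.leaf cJ263))))))))) (BT.node 395 (BT.node 329 (BT.node 296 (BT.node 280 (BT.node 272 (BT.node 268 (BT.node 266 (BT.node 265 (BT.node 264 (BT.leaf cJ264) (BT.leaf cJ265)) (BT.leaf cJ266)) (BT.node 267 (BT.leaf cJ267) (BT.leaf cJ268))) (BT.node 270 (BT.node 269 (BT.leaf cJ269) (BT.leaf cJ270)) (BT.node 271 (BT.leaf cJ271) (BT.leaf cJ272)))) (BT.node 276 (BT.node 274 (BT.node 273 (BT.leaf cJ273) (BT.leaf cJ274)) (BT.node 275 (BT.leaf cJ275) (BT.leaf cJ276))) (BT.node 278 (BT.node 277 (BT.leaf cJ277) (BT.leaf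 cJ278)) (BT.node 279 (BT.leaf cJ279) (BT.leaf cJ280))))) (BT.node 288 (BT.node 284 (BT.node 282 (BT.node 281 (BT.leaf cJ281) (BT.leaf cJ282)) (BT.node 283 (BT.leaf cJ283) (BT.leaf cJ284))) (BT.node 286 (BT.node 285 (BT.leaf cJ285) (BT.leaf cJ286)) (BT.node 287 (BT.leaf cJ287) (BT.leaf cJ288)))) (BT.node 292 (BT.node 290 (BT.node 289 (BT.leaf cJ289) (BT.leaf cJ290)) (BT.node 291 (BT.leaf cJ291) (BT.leaf cJ292))) (BT.node 294 (BT.node 293 (BT.leaf cJ293) (BT.leaf cJ294)) (BT.node 295 (BT.leaf cJ295) (BT.leaf cJ296)))))) (BT.node 313 (BT.node 305 (BT.node 301 (BT.node 299 (BT.node 298 (BT.node 297 (BT.leaf cJ297) (BT.leaf cJ298)) (BT.leaf cJ299)) (BT.node 300 (BT.leaf cJ300) (BT.leaf cJ301))) (BT.node 303 (BT.node 302 (BT.leaf cJ302) (BT.leaf cJ303)) (BT.node 304 (BT.leaf cJ304) (BT.leaf cJ305)))) (BT.node 309 (BT.node 307 (BT.node 306 (BT.leaf cJ306)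 (BT.leaf cJ307)) (BT.node 308 (BT.leaf cJ308) (BT.leaf cJ309))) (BT.node 311 (BT.node 310 (BT.leaf cJ310) (BT.leaf cJ311)) (BT.node 312 (BT.leaf cJ312) (BT.leaf cJ313))))) (BT.node 321 (BT.node 317 (BT.node 315 (BT.node 314 (BT.leaf cJ314) (BT.leaf cJ315)) (BT.node 316 (BT.leaf cJ316) (BT.leaf cJ317))) (BT.node 319 (BT.node 318 (BT.leaf cJ318) (BT.leaf cJ319)) (BT.node 320 (BT.leaf cJ320) (BT.leaf cJ321)))) (BT.node 325 (BT.node 323 (BT.node 322 (BT.leaf cJ322) (BT.leaf cJ323)) (BT.node 324 (BT.leaf cJ324) (BT.leaf cJ325))) (BT.node 327 (BT.node 326 (BT.leaf cJ326) (BT.leaf cJ327)) (BT.node 328 (BT.leaf cJ328) (BT.leaf cJ329))))))) (BT.node 362 (BT.node 346 (BT.node 338 (BT.node 334 (BT.node 332 (BT.node 331 (BT.node 330 (BT.leaf cJ330) (BT.leaf cJ331)) (BT.leaf cJ332)) (BT.node 333 (BT.leaf cJ333) (BT.leaf cJ334))) (BT.node 336 (BT.node 335 (BT.leaf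 cJ335) (BT.leaf cJ336)) (BT.node 337 (BT.leaf cJ337) (BT.leaf cJ338)))) (BT.node 342 (BT.node 340 (BT.node 339 (BT.leaf cJ339) (BT.leaf cJ340)) (BT.node 341 (BT.leaf cJ341) (BT.leaf cJ342))) (BT.node 344 (BT.node 343 (BT.leaf cJ343) (BT.leaf cJ344)) (BT.node 345 (BT.leaf cJ345) (BT.leaf cJ346))))) (BT.node 354 (BT.node 350 (BT.node 348 (BT.node 347 (BT.leaf cJ347) (BT.leaf cJ348)) (BT.node 349 (BT.leaf cJ349) (BT.leaf cJ350))) (BT.node 352 (BT.node 351 (BT.leaf cJ351) (BT.leaf cJ352)) (BT.node 353 (BT.leaf cJ353) (BT.leaf cJ354)))) (BT.node 358 (BT.node 356 (BT.node 355 (BT.leaf cJ355) (BT.leaf cJ356)) (BT.node 357 (BT.leaf cJ357) (BT.leaf cJ358))) (BT.node 360 (BT.node 359 (BT.leaf cJ359) (BT.leaf cJ360)) (BT.node 361 (BT.leaf cJ361) (BT.leaf cJ362)))))) (BT.node 379 (BT.node 371 (BT.node 367 (BT.node 365 (BT.node 364 (BT.node 363 (BT.leaf cJ363)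 (BT.leaf cJ364)) (BT.leaf cJ365)) (BT.node 366 (BT.leaf cJ366) (BT.leaf cJ367))) (BT.node 369 (BT.node 368 (BT.leaf cJ368) (BT.leaf cJ369)) (BT.node 370 (BT.leaf cJ370) (BT.leaf cJ371)))) (BT.node 375 (BT.node 373 (BT.node 372 (BT.leaf cJ372) (BT.leaf cJ373)) (BT.node 374 (BT.leaf cJ374) (BT.leaf cJ375))) (BT.node 377 (BT.node 376 (BT.leaf cJ376) (BT.leaf cJ377)) (BT.node 378 (BT.leaf cJ378) (BT.leaf cJ379))))) (BT.node 387 (BT.node 383 (BT.node 381 (BT.node 380 (BT.leaf cJ380) (BT.leaf cJ381)) (BT.node 382 (BT.leaf cJ382) (BT.leaf cJ383))) (BT.node 385 (BT.node 384 (BT.leaf cJ384) (BT.leaf cJ385)) (BT.node 386 (BT.leaf cJ386) (BT.leaf cJ387)))) (BT.node 391 (BT.node 389 (BT.node 388 (BT.leaf cJ388) (BT.leaf cJ389)) (BT.node 390 (BT.leaf cJ390) (BT.leaf cJ391))) (BT.node 393 (BT.node 392 (BT.leaf cJ392) (BT.leaf cJ393)) (BT.node 394 (BT.leaf cJ394)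 (BT.leaf cJ395)))))))) (BT.node 461 (BT.node 428 (BT.node 412 (BT.node 404 (BT.node 400 (BT.node 398 (BT.node 397 (BT.node 396 (BT.leaf cJ396) (BT.leaf cJ397)) (BT.leaf cJ398)) (BT.node 399 (BT.leaf cJ399) (BT.leaf cJ400))) (BT.node 402 (BT.node 401 (BT.leaf cJ401) (BT.leaf cJ402)) (BT.node 403 (BT.leaf cJ403) (BT.leaf cJ404)))) (BT.node 408 (BT.node 406 (BT.node 405 (BT.leaf cJ405) (BT.leaf cJ406)) (BT.node 407 (BT.leaf cJ407) (BT.leaf cJ408))) (BT.node 410 (BT.node 409 (BT.leaf cJ409) (BT.leaf cJ410)) (BT.node 411 (BT.leaf cJ411) (BT.leaf cJ412))))) (BT.node 420 (BT.node 416 (BT.node 414 (BT.node 413 (BT.leaf cJ413) (BT.leaf cJ414)) (BT.node 415 (BT.leaf cJ415) (BT.leaf cJ416))) (BT.node 418 (BT.node 417 (BT.leaf cJ417) (BT.leaf cJ418)) (BT.node 419 (BT.leaf cJ419) (BT.leaf cJ420)))) (BT.node 424 (BT.node 422 (BT.node 421 (BT.leaf cJ421) (BT.leaf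 cJ422)) (BT.node 423 (BT.leaf cJ423) (BT.leaf cJ424))) (BT.node 426 (BT.node 425 (BT.leaf cJ425) (BT.leaf cJ426)) (BT.node 427 (BT.leaf cJ427) (BT.leaf cJ428)))))) (BT.node 445 (BT.node 437 (BT.node 433 (BT.node 431 (BT.node 430 (BT.node 429 (BT.leaf cJ429) (BT.leaf cJ430)) (BT.leaf cJ431)) (BT.node 432 (BT.leaf cJ432) (BT.leaf cJ433))) (BT.node 435 (BT.node 434 (BT.leaf cJ434) (BT.leaf cJ435)) (BT.node 436 (BT.leaf cJ436) (BT.leaf cJ437)))) (BT.node 441 (BT.node 439 (BT.node 438 (BT.leaf cJ438) (BT.leaf cJ439)) (BT.node 440 (BT.leaf cJ440) (BT.leaf cJ441))) (BT.node 443 (BT.node 442 (BT.leaf cJ442) (BT.leaf cJ443)) (BT.node 444 (BT.leaf cJ444) (BT.leaf cJ445))))) (BT.node 453 (BT.node 449 (BT.node 447 (BT.node 446 (BT.leaf cJ446) (BT.leaf cJ447)) (BT.node 448 (BT.leaf cJ448) (BT.leaf cJ449))) (BT.node 451 (BT.node 450 (BT.leaf cJ450) (BT.leaf cJ451))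 (BT.node 452 (BT.leaf cJ452) (BT.leaf cJ453)))) (BT.node 457 (BT.node 455 (BT.node 454 (BT.leaf cJ454) (BT.leaf cJ455)) (BT.node 456 (BT.leaf cJ456) (BT.leaf cJ457))) (BT.node 459 (BT.node 458 (BT.leaf cJ458) (BT.leaf cJ459)) (BT.node 460 (BT.leaf cJ460) (BT.leaf cJ461))))))) (BT.node 494 (BT.node 478 (BT.node 470 (BT.node 466 (BT.node 464 (BT.node 463 (BT.node 462 (BT.leaf cJ462) (BT.leaf cJ463)) (BT.leaf cJ464)) (BT.node 465 (BT.leaf cJ465) (BT.leaf cJ466))) (BT.node 468 (BT.node 467 (BT.leaf cJ467) (BT.leaf cJ468)) (BT.node 469 (BT.leaf cJ469) (BT.leaf cJ470)))) (BT.node 474 (BT.node 472 (BT.node 471 (BT.leaf cJ471) (BT.leaf cJ472)) (BT.node 473 (BT.leaf cJ473) (BT.leaf cJ474))) (BT.node 476 (BT.node 475 (BT.leaf cJ475) (BT.leaf cJ476)) (BT.node 477 (BT.leaf cJ477) (BT.leaf cJ478))))) (BT.node 486 (BT.node 482 (BT.node 480 (BT.node 479 (BT.leaf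 cJ479) (BT.leaf cJ480)) (BT.node 481 (BT.leaf cJ481) (BT.leaf cJ482))) (BT.node 484 (BT.node 483 (BT.leaf cJ483) (BT.leaf cJ484)) (BT.node 485 (BT.leaf cJ485) (BT.leaf cJ486)))) (BT.node 490 (BT.node 488 (BT.node 487 (BT.leaf cJ487) (BT.leaf cJ488)) (BT.node 489 (BT.leaf cJ489) (BT.leaf cJ490))) (BT.node 492 (BT.node 491 (BT.leaf cJ491) (BT.leaf cJ492)) (BT.node 493 (BT.leaf cJ493) (BT.leaf cJ494)))))) (BT.node 511 (BT.node 503 (BT.node 499 (BT.node 497 (BT.node 496 (BT.node 495 (BT.leaf cJ495) (BT.leaf cJ496)) (BT.leaf cJ497)) (BT.node 498 (BT.leaf cJ498) (BT.leaf cJ499))) (BT.node 501 (BT.node 500 (BT.leaf cJ500) (BT.leaf cJ501)) (BT.node 502 (BT.leaf cJ502) (BT.leaf cJ503)))) (BT.node 507 (BT.node 505 (BT.node 504 (BT.leaf cJ504) (BT.leaf cJ505)) (BT.node 506 (BT.leaf cJ506) (BT.leaf cJ507))) (BT.node 509 (BT.node 508 (BT.leaf cJ508) (BT.leaf cJ509))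 (BT.node 510 (BT.leaf cJ510) (BT.leaf cJ511))))) (BT.node 519 (BT.node 515 (BT.node 513 (BT.node 512 (BT.leaf cJ512) (BT.leaf cJ513)) (BT.node 514 (BT.leaf cJ514) (BT.leaf cJ515))) (BT.node 517 (BT.node 516 (BT.leaf cJ516) (BT.leaf cJ517)) (BT.node 518 (BT.leaf cJ518) (BT.leaf cJ519)))) (BT.node 523 (BT.node 521 (BT.node 520 (BT.leaf cJ520) (BT.leaf cJ521)) (BT.node 522 (BT.leaf cJ522) (BT.leaf cJ523))) (BT.node 525 (BT.node 524 (BT.leaf cJ524) (BT.leaf cJ525)) (BT.node 526 (BT.leaf cJ526) (BT.leaf cJ527))))))))))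
/-- parent chunks -/
def parCT : BT ℕ := (BT.node 32 (BT.node 16 (BT.node 8 (BT.node 4 (BT.node 2 (BT.node 1 (BT.node 0 (BT.leaf cP0) (BT.leaf cP1)) (BT.leaf cP2)) (BT.node 3 (BT.leaf cP3) (BT.leaf cP4))) (BT.node 6 (BT.node 5 (BT.leaf cP5) (BT.leaf cP6)) (BT.node 7 (BT.leaf cP7) (BT.leaf cP8)))) (BT.node 12 (BT.node 10 (BT.node 9 (BT.leaf cP9) (BT.leaf cP10)) (BT.node 11 (BT.leaf cP11) (BT.leaf cP12))) (BT.node 14 (BT.node 13 (BT.leaf cP13) (BT.leaf cP14)) (BT.node 15 (BT.leaf cP15) (BT.leaf cP16))))) (BT.node 24 (BT.node 20 (BT.node 18 (BT.node 17 (BT.leaf cP17) (BT.leaf cP18)) (BT.node 19 (BT.leaf cP19) (BT.leaf cP20))) (BT.node 22 (BT.node 21 (BT.leaf cP21) (BT.leaf cP22)) (BT.node 23 (BT.leaf cP23) (BT.leaf cP24)))) (BT.node 28 (BT.node 26 (BT.node 25 (BT.leaf cP25) (BT.leaf cP26)) (BT.node 27 (BT.leaf cP27) (BT.leaf cP28))) (BT.node 30 (BT.node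 29 (BT.leaf cP29) (BT.leaf cP30)) (BT.node 31 (BT.leaf cP31) (BT.leaf cP32)))))) (BT.node 49 (BT.node 41 (BT.node 37 (BT.node 35 (BT.node 34 (BT.node 33 (BT.leaf cP33) (BT.leaf cP34)) (BT.leaf cP35)) (BT.node 36 (BT.leaf cP36) (BT.leaf cP37))) (BT.node 39 (BT.node 38 (BT.leaf cP38) (BT.leaf cP39)) (BT.node 40 (BT.leaf cP40) (BT.leaf cP41)))) (BT.node 45 (BT.node 43 (BT.node 42 (BT.leaf cP42) (BT.leaf cP43)) (BT.node 44 (BT.leaf cP44) (BT.leaf cP45))) (BT.node 47 (BT.node 46 (BT.leaf cP46) (BT.leaf cP47)) (BT.node 48 (BT.leaf cP48) (BT.leaf cP49))))) (BT.node 57 (BT.node 53 (BT.node 51 (BT.node 50 (BT.leaf cP50) (BT.leaf cP51)) (BT.node 52 (BT.leaf cP52) (BT.leaf cP53))) (BT.node 55 (BT.node 54 (BT.leaf cP54) (BT.leaf cP55)) (BT.node 56 (BT.leaf cP56) (BT.leaf cP57)))) (BT.node 61 (BT.node 59 (BT.node 58 (BT.leaf cP58) (BT.leaf cP59)) (BT.node 60 (BT.leaf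 cP60) (BT.leaf cP61))) (BT.node 63 (BT.node 62 (BT.leaf cP62) (BT.leaf cP63)) (BT.node 64 (BT.leaf cP64) (BT.leaf cP65)))))))
/-- the certificate -/
def data : Data where
  k := 7
  N := 33379
  W := 34
  MW := 17179869184
  B := 65536
  CH := 512
  NCH := 66
  colE := colET
  JW := 64
  MJ := 18446744073709551616
  A := 1048576
  colJ := colJT
  PW := 25
  MP := 33554432
  parC := parCT
  inv := (BT.node 3 (BT.node 1 (BT.node 0 (BT.leaf 0) (BT.leaf 1)) (BT.node 2 (BT.leaf 2) (BT.leaf 3))) (BT.node 5 (BT.node 4 (BT.leaf 4) (BT.leaf 5)) (BT.node 6 (BT.leaf 6) (BT.leaf 7))))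
  rel := relT
  sub := subT
  fuel := 64

end Cfsg.Agent.Lib.Helper28.TCSuzbData
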