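import Cfsg.Agent.Lib.Helper28.TCSuzbTable
set_option autoImplicit false
set_option maxRecDepth 100000
set_option maxHeartbeats 0

namespace Cfsg.Agent.Lib.Helper28.TCSuzbL2
open Cfsg.Agent.Lib.Helper28.TC2Upper Cfsg.Agent.Lib.Helper28.TC2Lower Cfsg.Agent.Lib.Helper28.TCSuzbTable

theorem rel14 : table.relOK relPaths 11382 813 = true := by decide +kernel
theorem rel15 : table.relOK relPaths 12195 813 = true := by decide +kernel
theorem rel16 : table.relOK relPaths 13008 813 = true := by decide +kernel
theorem rel17 : table.relOK relPaths 13821 813 = true := by decide +kernel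
theorem rel18 : table.relOK relPaths 14634 813 = true := by decide +kernel
theorem rel19 : table.relOK relPaths 15447 813 = true := by decide +kernel
theorem rel20 : table.relOK relPaths 16260 813 = true := by decide +kernel

end Cfsg.Agent.Lib.Helper28.TCSuzbL2
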