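import Cfsg.Agent.Lib.Helper28.TCSuzbTable
import Cfsg.Agent.Lib.Helper28.TCSuzbL0
set_option autoImplicit false
set_option maxRecDepth 100000
set_option maxHeartbeats 0

namespace Cfsg.Agent.Lib.Helper28.TCSuzbL3
open Cfsg.Agent.Lib.Helper28.TC2Upper Cfsg.Agent.Lib.Helper28.TC2Lower Cfsg.Agent.Lib.Helper28.TCSuzbTable

theorem rel21 : table.relOK relPaths 17073 813 = true := by decide +kernel
theorem rel22 : table.relOK relPaths 17886 813 = true := by decide +kernel
theorem rel23 : table.relOK relPaths 18699 813 = true := by decide +kernel
theorem rel24 : table.relOK relPaths 19512 813 = true := by decide +kernel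
theorem rel25 : table.relOK relPaths 20325 813 = true := by decide +kernel
theorem rel26 : table.relOK relPaths 21138 813 = true := by decide +kernel
theorem rel27 : table.relOK relPaths 21951 813 = true := by decide +kernel

end Cfsg.Agent.Lib.Helper28.TCSuzbL3
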