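import Cfsg.Agent.Lib.Helper28.TCSuzbData
set_option autoImplicit false
set_option maxRecDepth 100000
set_option maxHeartbeats 0

namespace Cfsg.Agent.Lib.Helper28.TCSuzbU1
open Cfsg.Agent.Lib.Helper28.TC2Upper Cfsg.Agent.Lib.Helper28.TCSuzbData

theorem chk6 : data.checkRange 11338 1064 = true := by decide +kernel
theorem chk7 : data.checkRange 12402 1323 = true := by decide +kernel
theorem chk8 : data.checkRange 13725 1144 = true := by decide +kernel
theorem chk9 : data.checkRange 14869 1201 = true := by decide +kernel
theorem chk10 : data.checkRange 16070 1090 = true := by decide +kernel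
theorem chk11 : data.checkRange 17160 1668 = true := by decide +kernel

end Cfsg.Agent.Lib.Helper28.TCSuzbU1
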