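import Cfsg.Agent.Lib.Helper28.TCSuzbData
set_option autoImplicit false
set_option maxRecDepth 100000
set_option maxHeartbeats 0

namespace Cfsg.Agent.Lib.Helper28.TCSuzbU2
open Cfsg.Agent.Lib.Helper28.TC2Upper Cfsg.Agent.Lib.Helper28.TCSuzbData

theorem chk12 : data.checkRange 18828 1053 = true := by decide +kernel
theorem chk13 : data.checkRange 19881 1030 = true := by decide +kernel
theorem chk14 : data.checkRange 20911 1006 = true := by decide +kernel
theorem chk15 : data.checkRange 21917 1006 = true := by decide +kernel
theorem chk16 : data.checkRange 22923 1006 = true := by decide +kernel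
theorem chk17 : data.checkRange 23929 1008 = true := by decide +kernel

end Cfsg.Agent.Lib.Helper28.TCSuzbU2
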