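import Cfsg.Agent.Lib.Helper28.TCSuzbData
set_option autoImplicit false
set_option maxRecDepth 100000
set_option maxHeartbeats 0

namespace Cfsg.Agent.Lib.Helper28.TCSuzbU3
open Cfsg.Agent.Lib.Helper28.TC2Upper Cfsg.Agent.Lib.Helper28.TCSuzbData

theorem chk18 : data.checkRange 24937 1012 = true := by decide +kernel
theorem chk19 : data.checkRange 25949 1004 = true := by decide +kernel
theorem chk20 : data.checkRange 26953 1021 = true := by decide +kernel
theorem chk21 : data.checkRange 27974 1014 = true := by decide +kernel
theorem chk22 : data.checkRange 28988 1009 = true := by decide +kernel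
theorem chk23 : data.checkRange 29997 1000 = true := by decide +kernel

end Cfsg.Agent.Lib.Helper28.TCSuzbU3
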