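import Cfsg.Agent.Lib.Helper28.TCSuzbData
import Cfsg.Agent.Lib.Helper28.TCSuzbU0
set_option autoImplicit false
set_option maxRecDepth 100000
set_option maxHeartbeats 0

namespace Cfsg.Agent.Lib.Helper28.TCSuzbU4
open Cfsg.Agent.Lib.Helper28.TC2Upper Cfsg.Agent.Lib.Helper28.TCSuzbData

theorem chk24 : data.checkRange 30997 1001 = true := by decide +kernel
theorem chk25 : data.checkRange 31998 1002 = true := by decide +kernel
theorem chk26 : data.checkRange 33000 379 = true := by decide +kernel

end Cfsg.Agent.Lib.Helper28.TCSuzbU4
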