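import Cfsg.Agent.Lib.Helper28.TC2Upper
import Cfsg.Agent.Lib.Helper28.TCU6W0DataC0
set_option autoImplicit false
set_option maxRecDepth 100000

namespace Cfsg.Agent.Lib.Helper28.TCU6W0Data
open Cfsg.Agent.Lib.Helper28.TC2Upper

/-- relators -/
def relT : BT (ℕ × List ℕ × List ℕ) := (BT.node 38 (BT.node 19 (BT.node 9 (BT.node 4 (BT.node 2 (BT.node 1 (BT.node 0 (BT.leaf (2, [2, 2], [2, 2])) (BT.leaf (6, [3, 2, 3, 2, 3, 2], [2, 3, 2, 3, 2, 3]))) (BT.leaf (4, [4, 2, 4, 2], [2, 4, 2, 4]))) (BT.node 3 (BT.leaf (4, [5, 2, 5, 2], [2, 5, 2, 5])) (BT.leaf (4, [7, 2, 7, 2], [2, 7, 2, 7])))) (BT.node 7 (BT.node 6 (BT.node 5 (BT.leaf (4, [9, 2, 9, 2], [2, 9, 2, 9])) (BT.leaf (4, [6, 2, 6, 2], [2, 6, 2, 6]))) (BT.leaf (4, [8, 2, 8, 2], [2, 8, 2, 8]))) (BT.node 8 (BT.leaf (6, [2, 3, 2, 3, 2, 3], [3, 2, 3, 2,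 3, 2])) (BT.leaf (2, [3, 3], [3, 3]))))) (BT.node 14 (BT.node 12 (BT.node 11 (BT.node 10 (BT.leaf (6, [4, 3, 4, 3, 4, 3], [3, 4, 3, 4, 3, 4])) (BT.leaf (4, [5, 3, 5, 3], [3, 5, 3, 5]))) (BT.leaf (6, [7, 3, 7, 3, 7, 3], [3, 7, 3, 7, 3, 7]))) (BT.node 13 (BT.leaf (4, [9, 3, 9, 3], [3, 9, 3, 9])) (BT.leaf (4, [6, 3, 6, 3], [3, 6, 3, 6])))) (BT.node 17 (BT.node 16 (BT.node 15 (BT.leaf (4, [8, 3, 8, 3], [3, 8, 3, 8])) (BT.leaf (4, [2, 4, 2, 4], [4, 2, 4, 2]))) (BT.leaf (6, [3, 4, 3, 4, 3, 4], [4, 3, 4, 3, 4, 3]))) (BT.node 18 (BT.leaf (2, [4, 4], [4, 4])) (BT.leaf (6, [5, 4, 5, 4, 5, 4], [4, 5, 4, 5, 4, 5])))))) (BT.node 29 (BT.node 24 (BT.node 22 (BT.node 21 (BT.node 20 (BT.leaf (4, [7, 4, 7, 4], [4, 7, 4, 7])) (BT.leaf (4, [9, 4, 9, 4], [4, 9, 4, 9]))) (BT.leaf (4, [6, 4, 6, 4], [4, 6, 4, 6]))) (BT.node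 23 (BT.leaf (4, [8, 4, 8, 4], [4, 8, 4, 8])) (BT.leaf (4, [2, 5, 2, 5], [5, 2, 5, 2])))) (BT.node 27 (BT.node 26 (BT.node 25 (BT.leaf (4, [3, 5, 3, 5], [5, 3, 5, 3])) (BT.leaf (6, [4, 5, 4, 5, 4, 5], [5, 4, 5, 4, 5, 4]))) (BT.leaf (2, [5, 5], [5, 5]))) (BT.node 28 (BT.leaf (4, [7, 5, 7, 5], [5, 7, 5, 7])) (BT.leaf (6, [9, 5, 9, 5, 9, 5], [5, 9, 5, 9, 5, 9]))))) (BT.node 34 (BT.node 32 (BT.node 31 (BT.node 30 (BT.leaf (6, [6, 5, 6, 5, 6, 5], [5, 6, 5, 6, 5, 6])) (BT.leaf (4, [8, 5, 8, 5], [5, 8, 5, 8]))) (BT.leaf (4, [2, 7, 2, 7], [7, 2, 7, 2]))) (BT.node 33 (BT.leaf (6, [3, 7, 3, 7, 3, 7], [7, 3, 7, 3, 7, 3])) (BT.leaf (4, [4, 7, 4, 7], [7, 4, 7, 4])))) (BT.node 36 (BT.node 35 (BT.leaf (4, [5, 7, 5, 7], [7, 5, 7, 5])) (BT.leaf (2, [7, 7], [7, 7]))) (BT.node 37 (BT.leaf (4, [9, 7, 9, 7], [7, 9,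 7, 9])) (BT.leaf (4, [6, 7, 6, 7], [7, 6, 7, 6]))))))) (BT.node 57 (BT.node 48 (BT.node 43 (BT.node 41 (BT.node 40 (BT.node 39 (BT.leaf (6, [8, 7, 8, 7, 8, 7], [7, 8, 7, 8, 7, 8])) (BT.leaf (4, [2, 9, 2, 9], [9, 2, 9, 2]))) (BT.leaf (4, [3, 9, 3, 9], [9, 3, 9, 3]))) (BT.node 42 (BT.leaf (4, [4, 9, 4, 9], [9, 4, 9, 4])) (BT.leaf (6, [5, 9, 5, 9, 5, 9], [9, 5, 9, 5, 9, 5])))) (BT.node 46 (BT.node 45 (BT.node 44 (BT.leaf (4, [7, 9, 7, 9], [9, 7, 9, 7])) (BT.leaf (2, [9, 9], [9, 9]))) (BT.leaf (4, [6, 9, 6, 9], [9, 6, 9, 6]))) (BT.node 47 (BT.leaf (6, [8, 9, 8, 9, 8, 9], [9, 8, 9, 8, 9, 8])) (BT.leaf (4, [2, 6, 2, 6], [6, 2, 6, 2]))))) (BT.node 53 (BT.node 51 (BT.node 50 (BT.node 49 (BT.leaf (4, [3, 6, 3, 6], [6, 3, 6, 3])) (BT.leaf (4, [4, 6, 4, 6], [6, 4, 6, 4]))) (BT.leaf (6, [5, 6, 5, 6, 5, 6],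 [6, 5, 6, 5, 6, 5]))) (BT.node 52 (BT.leaf (4, [7, 6, 7, 6], [6, 7, 6, 7])) (BT.leaf (4, [9, 6, 9, 6], [6, 9, 6, 9])))) (BT.node 55 (BT.node 54 (BT.leaf (2, [6, 6], [6, 6])) (BT.leaf (4, [8, 6, 8, 6], [6, 8, 6, 8]))) (BT.node 56 (BT.leaf (4, [2, 8, 2, 8], [8, 2, 8, 2])) (BT.leaf (4, [3, 8, 3, 8], [8, 3, 8, 3])))))) (BT.node 67 (BT.node 62 (BT.node 60 (BT.node 59 (BT.node 58 (BT.leaf (4, [4, 8, 4, 8], [8, 4, 8, 4])) (BT.leaf (4, [5, 8, 5, 8], [8, 5, 8, 5]))) (BT.leaf (6, [7, 8, 7, 8, 7, 8], [8, 7, 8, 7, 8, 7]))) (BT.node 61 (BT.leaf (6, [9, 8, 9, 8, 9, 8], [8, 9, 8, 9, 8, 9])) (BT.leaf (4, [6, 8, 6, 8], [8, 6, 8, 6])))) (BT.node 65 (BT.node 64 (BT.node 63 (BT.leaf (2, [8, 8], [8, 8])) (BT.leaf (2, [0, 0], [1, 1]))) (BT.leaf (4, [2, 0, 2, 0], [1, 2, 1, 2]))) (BT.node 66 (BT.leaf (4, [3, 0, 3, 0],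 [1, 3, 1, 3])) (BT.leaf (4, [4, 0, 4, 0], [1, 4, 1, 4]))))) (BT.node 72 (BT.node 70 (BT.node 69 (BT.node 68 (BT.leaf (4, [5, 0, 5, 0], [1, 5, 1, 5])) (BT.leaf (4, [6, 0, 6, 0], [1, 6, 1, 6]))) (BT.leaf (4, [7, 0, 7, 0], [1, 7, 1, 7]))) (BT.node 71 (BT.leaf (4, [8, 0, 8, 0], [1, 8, 1, 8])) (BT.leaf (4, [9, 0, 9, 0], [1, 9, 1, 9])))) (BT.node 74 (BT.node 73 (BT.leaf (63, [8, 7, 6, 5, 4, 3, 2, 8, 7, 6, 5, 4, 3, 2, 8, 7, 6, 5, 4, 3, 2, 8, 7, 6, 5, 4, 3, 2, 8, 7, 6, 5, 4, 3, 2, 8, 7, 6, 5, 4, 3, 2, 8, 7, 6, 5, 4, 3, 2, 8, 7, 6, 5, 4, 3, 2, 8, 7, 6, 5, 4, 3, 2], [2, 3, 4, 5, 6, 7, 8, 2, 3, 4, 5, 6, 7, 8, 2, 3, 4, 5, 6, 7, 8, 2, 3, 4, 5, 6, 7, 8, 2, 3, 4, 5, 6, 7, 8, 2, 3, 4, 5, 6, 7, 8, 2, 3, 4, 5, 6, 7, 8, 2, 3, 4, 5, 6, 7, 8, 2, 3, 4, 5, 6, 7, 8])) (BT.leaf (26, [4, 3, 5, 4, 7, 3, 8, 7, 9, 5, 4, 3,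 8, 7, 9, 5, 6, 8, 9, 4, 3, 7, 8, 6, 5, 9], [9, 5, 6, 8, 7, 3, 4, 9, 8, 6, 5, 9, 7, 8, 3, 4, 5, 9, 7, 8, 3, 7, 4, 5, 3, 4]))) (BT.node 75 (BT.leaf (31, [0, 7, 3, 2, 4, 3, 5, 4, 6, 5, 7, 3, 2, 4, 3, 7, 9, 5, 4, 3, 6, 5, 4, 2, 9, 5, 6, 3, 4, 5, 9], [9, 5, 4, 3, 6, 5, 9, 2, 4, 5, 6, 3, 4, 5, 9, 7, 3, 4, 2, 3, 7, 5, 6, 4, 5, 3, 4, 2, 3, 7, 1])) (BT.leaf (30, [4, 5, 4, 6, 5, 4, 7, 8, 7, 9, 5, 4, 6, 5, 8, 9, 5, 8, 7, 6, 8, 4, 5, 9, 8, 5, 6, 4, 5, 9], [9, 5, 4, 6, 5, 8, 9, 5, 4, 8, 6, 7, 8, 5, 9, 8, 5, 6, 4, 5, 9, 7, 8, 7, 4, 5, 6, 4, 5, 4]))))))))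
/-- subgroup generators -/
def subT : BT (ℕ × List ℕ × List ℕ) := (BT.node 3 (BT.node 1 (BT.node 0 (BT.leaf (1, [0], [1])) (BT.leaf (1, [2], [2]))) (BT.node 2 (BT.leaf (1, [3], [3])) (BT.leaf (1, [4], [4])))) (BT.node 5 (BT.node 4 (BT.leaf (1, [5], [5])) (BT.leaf (1, [6], [6]))) (BT.node 6 (BT.leaf (1, [7], [7])) (BT.leaf (1, [8], [8])))))
/-- fact chunks -/
def colET : BT ℕ := (BT.node 71 (BT.node 35 (BT.node 17 (BT.node 8 (BT.node 4 (BT.node 2 (BT.node 1 (BT.node 0 (BT.leaf cE0) (BT.leaf cE1)) (BT.leaf cE2)) (BT.node 3 (BT.leaf cE3) (BT.leaf cE4))) (BT.node 6 (BT.node 5 (BT.leaf cE5) (BT.leaf cE6)) (BT.node 7 (BT.leaf cE7) (BT.leaf cE8)))) (BT.node 13 (BT.node 11 (BT.node 10 (BT.node 9 (BT.leaf cE9) (BT.leaf cE10)) (BT.leaf cE11)) (BT.node 12 (BT.leaf cE12) (BT.leaf cE13))) (BT.node 15 (BT.node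 14 (BT.leaf cE14) (BT.leaf cE15)) (BT.node 16 (BT.leaf cE16) (BT.leaf cE17))))) (BT.node 26 (BT.node 22 (BT.node 20 (BT.node 19 (BT.node 18 (BT.leaf cE18) (BT.leaf cE19)) (BT.leaf cE20)) (BT.node 21 (BT.leaf cE21) (BT.leaf cE22))) (BT.node 24 (BT.node 23 (BT.leaf cE23) (BT.leaf cE24)) (BT.node 25 (BT.leaf cE25) (BT.leaf cE26)))) (BT.node 31 (BT.node 29 (BT.node 28 (BT.node 27 (BT.leaf cE27) (BT.leaf cE28)) (BT.leaf cE29)) (BT.node 30 (BT.leaf cE30) (BT.leaf cE31))) (BT.node 33 (BT.node 32 (BT.leaf cE32) (BT.leaf cE33)) (BT.node 34 (BT.leaf cE34) (BT.leaf cE35)))))) (BT.node 53 (BT.node 44 (BT.node 40 (BT.node 38 (BT.node 37 (BT.node 36 (BT.leaf cE36) (BT.leaf cE37)) (BT.leaf cE38)) (BT.node 39 (BT.leaf cE39) (BT.leaf cE40))) (BT.node 42 (BT.node 41 (BT.leaf cE41) (BT.leaf cE42)) (BT.node 43 (BT.leaf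 cE43) (BT.leaf cE44)))) (BT.node 49 (BT.node 47 (BT.node 46 (BT.node 45 (BT.leaf cE45) (BT.leaf cE46)) (BT.leaf cE47)) (BT.node 48 (BT.leaf cE48) (BT.leaf cE49))) (BT.node 51 (BT.node 50 (BT.leaf cE50) (BT.leaf cE51)) (BT.node 52 (BT.leaf cE52) (BT.leaf cE53))))) (BT.node 62 (BT.node 58 (BT.node 56 (BT.node 55 (BT.node 54 (BT.leaf cE54) (BT.leaf cE55)) (BT.leaf cE56)) (BT.node 57 (BT.leaf cE57) (BT.leaf cE58))) (BT.node 60 (BT.node 59 (BT.leaf cE59) (BT.leaf cE60)) (BT.node 61 (BT.leaf cE61) (BT.leaf cE62)))) (BT.node 67 (BT.node 65 (BT.node 64 (BT.node 63 (BT.leaf cE63) (BT.leaf cE64)) (BT.leaf cE65)) (BT.node 66 (BT.leaf cE66) (BT.leaf cE67))) (BT.node 69 (BT.node 68 (BT.leaf cE68) (BT.leaf cE69)) (BT.node 70 (BT.leaf cE70) (BT.leaf cE71))))))) (BT.node 107 (BT.node 89 (BT.node 80 (BT.node 76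 (BT.node 74 (BT.node 73 (BT.node 72 (BT.leaf cE72) (BT.leaf cE73)) (BT.leaf cE74)) (BT.node 75 (BT.leaf cE75) (BT.leaf cE76))) (BT.node 78 (BT.node 77 (BT.leaf cE77) (BT.leaf cE78)) (BT.node 79 (BT.leaf cE79) (BT.leaf cE80)))) (BT.node 85 (BT.node 83 (BT.node 82 (BT.node 81 (BT.leaf cE81) (BT.leaf cE82)) (BT.leaf cE83)) (BT.node 84 (BT.leaf cE84) (BT.leaf cE85))) (BT.node 87 (BT.node 86 (BT.leaf cE86) (BT.leaf cE87)) (BT.node 88 (BT.leaf cE88) (BT.leaf cE89))))) (BT.node 98 (BT.node 94 (BT.node 92 (BT.node 91 (BT.node 90 (BT.leaf cE90) (BT.leaf cE91)) (BT.leaf cE92)) (BT.node 93 (BT.leaf cE93) (BT.leaf cE94))) (BT.node 96 (BT.node 95 (BT.leaf cE95) (BT.leaf cE96)) (BT.node 97 (BT.leaf cE97) (BT.leaf cE98)))) (BT.node 103 (BT.node 101 (BT.node 100 (BT.node 99 (BT.leaf cE99) (BT.leaf cE100)) (BT.leaf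 cE101)) (BT.node 102 (BT.leaf cE102) (BT.leaf cE103))) (BT.node 105 (BT.node 104 (BT.leaf cE104) (BT.leaf cE105)) (BT.node 106 (BT.leaf cE106) (BT.leaf cE107)))))) (BT.node 125 (BT.node 116 (BT.node 112 (BT.node 110 (BT.node 109 (BT.node 108 (BT.leaf cE108) (BT.leaf cE109)) (BT.leaf cE110)) (BT.node 111 (BT.leaf cE111) (BT.leaf cE112))) (BT.node 114 (BT.node 113 (BT.leaf cE113) (BT.leaf cE114)) (BT.node 115 (BT.leaf cE115) (BT.leaf cE116)))) (BT.node 121 (BT.node 119 (BT.node 118 (BT.node 117 (BT.leaf cE117) (BT.leaf cE118)) (BT.leaf cE119)) (BT.node 120 (BT.leaf cE120) (BT.leaf cE121))) (BT.node 123 (BT.node 122 (BT.leaf cE122) (BT.leaf cE123)) (BT.node 124 (BT.leaf cE124) (BT.leaf cE125))))) (BT.node 134 (BT.node 130 (BT.node 128 (BT.node 127 (BT.node 126 (BT.leaf cE126) (BT.leaf cE127)) (BT.leaf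 cE128)) (BT.node 129 (BT.leaf cE129) (BT.leaf cE130))) (BT.node 132 (BT.node 131 (BT.leaf cE131) (BT.leaf cE132)) (BT.node 133 (BT.leaf cE133) (BT.leaf cE134)))) (BT.node 138 (BT.node 136 (BT.node 135 (BT.leaf cE135) (BT.leaf cE136)) (BT.node 137 (BT.leaf cE137) (BT.leaf cE138))) (BT.node 140 (BT.node 139 (BT.leaf cE139) (BT.leaf cE140)) (BT.node 141 (BT.leaf cE141) (BT.leaf cE142))))))))
/-- justification chunks -/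
def colJT : BT ℕ := (BT.node 71 (BT.node 35 (BT.node 17 (BT.node 8 (BT.node 4 (BT.node 2 (BT.node 1 (BT.node 0 (BT.leaf cJ0) (BT.leaf cJ1)) (BT.leaf cJ2)) (BT.node 3 (BT.leaf cJ3) (BT.leaf cJ4))) (BT.node 6 (BT.node 5 (BT.leaf cJ5) (BT.leaf cJ6)) (BT.node 7 (BT.leaf cJ7) (BT.leaf cJ8)))) (BT.node 13 (BT.node 11 (BT.node 10 (BT.node 9 (BT.leaf cJ9) (BT.leaf cJ10)) (BT.leaf cJ11)) (BT.node 12 (BT.leaf cJ12) (BT.leaf cJ13))) (BT.node 15 (BT.node 14 (BT.leaf cJ14) (BT.leaf cJ15)) (BT.node 16 (BT.leaf cJ16) (BT.leaf cJ17))))) (BT.node 26 (BT.node 22 (BT.node 20 (BT.node 19 (BT.node 18 (BT.leaf cJ18) (BT.leaf cJ19)) (BT.leaf cJ20)) (BT.node 21 (BT.leaf cJ21) (BT.leaf cJ22))) (BT.node 24 (BT.node 23 (BT.leaf cJ23) (BT.leaf cJ24)) (BT.node 25 (BT.leaf cJ25) (BT.leaf cJ26)))) (BT.node 31 (BT.node 29 (BT.node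 28 (BT.node 27 (BT.leaf cJ27) (BT.leaf cJ28)) (BT.leaf cJ29)) (BT.node 30 (BT.leaf cJ30) (BT.leaf cJ31))) (BT.node 33 (BT.node 32 (BT.leaf cJ32) (BT.leaf cJ33)) (BT.node 34 (BT.leaf cJ34) (BT.leaf cJ35)))))) (BT.node 53 (BT.node 44 (BT.node 40 (BT.node 38 (BT.node 37 (BT.node 36 (BT.leaf cJ36) (BT.leaf cJ37)) (BT.leaf cJ38)) (BT.node 39 (BT.leaf cJ39) (BT.leaf cJ40))) (BT.node 42 (BT.node 41 (BT.leaf cJ41) (BT.leaf cJ42)) (BT.node 43 (BT.leaf cJ43) (BT.leaf cJ44)))) (BT.node 49 (BT.node 47 (BT.node 46 (BT.node 45 (BT.leaf cJ45) (BT.leaf cJ46)) (BT.leaf cJ47)) (BT.node 48 (BT.leaf cJ48) (BT.leaf cJ49))) (BT.node 51 (BT.node 50 (BT.leaf cJ50) (BT.leaf cJ51)) (BT.node 52 (BT.leaf cJ52) (BT.leaf cJ53))))) (BT.node 62 (BT.node 58 (BT.node 56 (BT.node 55 (BT.node 54 (BT.leaf cJ54) (BT.leaf cJ55)) (BT.leaf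 cJ56)) (BT.node 57 (BT.leaf cJ57) (BT.leaf cJ58))) (BT.node 60 (BT.node 59 (BT.leaf cJ59) (BT.leaf cJ60)) (BT.node 61 (BT.leaf cJ61) (BT.leaf cJ62)))) (BT.node 67 (BT.node 65 (BT.node 64 (BT.node 63 (BT.leaf cJ63) (BT.leaf cJ64)) (BT.leaf cJ65)) (BT.node 66 (BT.leaf cJ66) (BT.leaf cJ67))) (BT.node 69 (BT.node 68 (BT.leaf cJ68) (BT.leaf cJ69)) (BT.node 70 (BT.leaf cJ70) (BT.leaf cJ71))))))) (BT.node 107 (BT.node 89 (BT.node 80 (BT.node 76 (BT.node 74 (BT.node 73 (BT.node 72 (BT.leaf cJ72) (BT.leaf cJ73)) (BT.leaf cJ74)) (BT.node 75 (BT.leaf cJ75) (BT.leaf cJ76))) (BT.node 78 (BT.node 77 (BT.leaf cJ77) (BT.leaf cJ78)) (BT.node 79 (BT.leaf cJ79) (BT.leaf cJ80)))) (BT.node 85 (BT.node 83 (BT.node 82 (BT.node 81 (BT.leaf cJ81) (BT.leaf cJ82)) (BT.leaf cJ83)) (BT.node 84 (BT.leaf cJ84) (BT.leaf cJ85)))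 (BT.node 87 (BT.node 86 (BT.leaf cJ86) (BT.leaf cJ87)) (BT.node 88 (BT.leaf cJ88) (BT.leaf cJ89))))) (BT.node 98 (BT.node 94 (BT.node 92 (BT.node 91 (BT.node 90 (BT.leaf cJ90) (BT.leaf cJ91)) (BT.leaf cJ92)) (BT.node 93 (BT.leaf cJ93) (BT.leaf cJ94))) (BT.node 96 (BT.node 95 (BT.leaf cJ95) (BT.leaf cJ96)) (BT.node 97 (BT.leaf cJ97) (BT.leaf cJ98)))) (BT.node 103 (BT.node 101 (BT.node 100 (BT.node 99 (BT.leaf cJ99) (BT.leaf cJ100)) (BT.leaf cJ101)) (BT.node 102 (BT.leaf cJ102) (BT.leaf cJ103))) (BT.node 105 (BT.node 104 (BT.leaf cJ104) (BT.leaf cJ105)) (BT.node 106 (BT.leaf cJ106) (BT.leaf cJ107)))))) (BT.node 125 (BT.node 116 (BT.node 112 (BT.node 110 (BT.node 109 (BT.node 108 (BT.leaf cJ108) (BT.leaf cJ109)) (BT.leaf cJ110)) (BT.node 111 (BT.leaf cJ111) (BT.leaf cJ112))) (BT.node 114 (BT.node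 113 (BT.leaf cJ113) (BT.leaf cJ114)) (BT.node 115 (BT.leaf cJ115) (BT.leaf cJ116)))) (BT.node 121 (BT.node 119 (BT.node 118 (BT.node 117 (BT.leaf cJ117) (BT.leaf cJ118)) (BT.leaf cJ119)) (BT.node 120 (BT.leaf cJ120) (BT.leaf cJ121))) (BT.node 123 (BT.node 122 (BT.leaf cJ122) (BT.leaf cJ123)) (BT.node 124 (BT.leaf cJ124) (BT.leaf cJ125))))) (BT.node 134 (BT.node 130 (BT.node 128 (BT.node 127 (BT.node 126 (BT.leaf cJ126) (BT.leaf cJ127)) (BT.leaf cJ128)) (BT.node 129 (BT.leaf cJ129) (BT.leaf cJ130))) (BT.node 132 (BT.node 131 (BT.leaf cJ131) (BT.leaf cJ132)) (BT.node 133 (BT.leaf cJ133) (BT.leaf cJ134)))) (BT.node 138 (BT.node 136 (BT.node 135 (BT.leaf cJ135) (BT.leaf cJ136)) (BT.node 137 (BT.leaf cJ137) (BT.leaf cJ138))) (BT.node 140 (BT.node 139 (BT.leaf cJ139) (BT.leaf cJ140)) (BT.node 141 (BT.leaf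 cJ141) (BT.leaf cJ142))))))))
/-- parent chunks -/
def parCT : BT ℕ := (BT.node 6 (BT.node 3 (BT.node 1 (BT.node 0 (BT.leaf cP0) (BT.leaf cP1)) (BT.node 2 (BT.leaf cP2) (BT.leaf cP3))) (BT.node 5 (BT.node 4 (BT.leaf cP4) (BT.leaf cP5)) (BT.leaf cP6))) (BT.node 9 (BT.node 8 (BT.node 7 (BT.leaf cP7) (BT.leaf cP8)) (BT.leaf cP9)) (BT.node 11 (BT.node 10 (BT.leaf cP10) (BT.leaf cP11)) (BT.leaf cP12))))
/-- the certificate -/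
def data : Data where
  k := 10
  N := 6411
  W := 29
  MW := 536870912
  B := 8192
  CH := 512
  NCH := 13
  colE := colET
  JW := 64
  MJ := 18446744073709551616
  A := 1048576
  colJ := colJT
  PW := 22
  MP := 4194304
  parC := parCT
  inv := (BT.node 5 (BT.node 2 (BT.node 1 (BT.node 0 (BT.leaf 1) (BT.leaf 0)) (BT.leaf 2)) (BT.node 4 (BT.node 3 (BT.leaf 3) (BT.leaf 4)) (BT.leaf 5))) (BT.node 8 (BT.node 7 (BT.node 6 (BT.leaf 6) (BT.leaf 7)) (BT.leaf 8)) (BT.node 9 (BT.leaf 9) (BT.leaf 10))))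
  rel := relT
  sub := subT
  fuel := 64

end Cfsg.Agent.Lib.Helper28.TCU6W0Data
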