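import Cfsg.Prelude.Def_SporCoxeter
set_option autoImplicit false

namespace Cfsg.Agent.Lib.Helper28.TCU6W0Def

/-- the generators -/
inductive Gen
  | a
  | c
  | d
  | e
  | f
  | g
  | h
  | i
  | u
  deriving DecidableEq

/-- the Coxeter graph -/
def edges : List (Gen × ℕ × Gen) :=
  [(.c, 3, .d), (.d, 3, .e), (.d, 3, .h), (.e, 3, .f), (.f, 3, .g), (.h, 3, .i), (.u, 3, .f), (.u, 3, .i)]

/-- the further relators -/
def extra : List (FreeGroup Gen) := [
  FreeGroup.mk [(.a, true), (.a, true)],
  FreeGroup.mk [(.a, true), (.c, true), (.a, true), (.c, true)],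
  FreeGroup.mk [(.a, true), (.d, true), (.a, true), (.d, true)],
  FreeGroup.mk [(.a, true), (.e, true), (.a, true), (.e, true)],
  FreeGroup.mk [(.a, true), (.f, true), (.a, true), (.f, true)],
  FreeGroup.mk [(.a, true), (.g, true), (.a, true), (.g, true)],
  FreeGroup.mk [(.a, true), (.h, true), (.a, true), (.h, true)],
  FreeGroup.mk [(.a, true), (.i, true), (.a, true), (.i, true)],
  FreeGroup.mk [(.a, true), (.u, true), (.a, true), (.u, true)],
  FreeGroup.mk [(.c, true), (.d, true), (.e, true), (.f, true), (.g, true), (.h, true), (.i, true), (.c, true), (.d, true), (.e, true), (.f, true), (.g, true), (.h, true), (.i, true), (.c, true), (.d, true), (.e, true), (.f, true), (.g, true), (.h, true), (.i, true), (.c, true), (.d, true), (.e, true), (.f, true), (.g, true), (.h, true), (.i, true), (.c, true), (.d, true), (.e, true), (.f, true), (.g, true), (.h, true), (.i, true), (.c, true), (.d, true), (.e, true), (.f, true), (.g, true), (.h, true), (.i, true), (.c, true), (.d, true), (.e, true), (.f, true), (.g, true), (.h, true), (.i, true), (.c, true), (.d, true), (.e, true), (.f, true), (.g,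 true), (.h, true), (.i, true), (.c, true), (.d, true), (.e, true), (.f, true), (.g, true), (.h, true), (.i, true)],
  FreeGroup.mk [(.u, true), (.f, true), (.g, true), (.i, true), (.h, true), (.d, true), (.e, true), (.u, true), (.i, true), (.g, true), (.f, true), (.u, true), (.h, true), (.i, true), (.d, true), (.e, true), (.f, true), (.u, true), (.h, true), (.i, true), (.d, true), (.h, true), (.e, true), (.f, true), (.d, true), (.e, true)],
  FreeGroup.mk [(.u, true), (.f, true), (.e, true), (.d, true), (.g, true), (.f, true), (.u, true), (.c, true), (.e, true), (.f, true), (.g, true), (.d, true), (.e, true), (.f, true), (.u, true), (.h, true), (.d, true), (.e, true), (.c, true), (.d, true), (.h, true), (.f, true), (.g, true), (.e, true), (.f, true), (.d, true), (.e, true), (.c, true), (.d, true), (.h, true), (.a, true)],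
  FreeGroup.mk [(.u, true), (.f, true), (.e, true), (.g, true), (.f, true), (.i, true), (.u, true), (.f, true), (.e, true), (.i, true), (.g, true), (.h, true), (.i, true), (.f, true), (.u, true), (.i, true), (.f, true), (.g, true), (.e, true), (.f, true), (.u, true), (.h, true), (.i, true), (.h, true), (.e, true), (.f, true), (.g, true), (.e, true), (.f, true), (.e, true)] ]

end Cfsg.Agent.Lib.Helper28.TCU6W0Def
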