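import Cfsg.Agent.Lib.Helper28.TCFi22AW0Main
import Cfsg.Agent.Lib.Helper28.TCU6W0Link
import Cfsg.Agent.Lib.Helper28.TC2Subst
set_option autoImplicit false
set_option maxRecDepth 100000
set_option maxHeartbeats 0

namespace Cfsg.Agent.Lib.Helper28.TCU6Psi
open Cfsg.Agent.Lib.Helper28.TC2Upper Cfsg.Agent.Lib.Helper28.TC2Lower Cfsg.Agent.Lib.Helper28.TC2Glue Cfsg.Agent.Lib.Helper28.TC2Subst Cfsg.Agent.Lib.Helper28.TCFi22AW0Table Cfsg.Agent.Lib.Helper28.TCFi22AW0Link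

/-- the words for the generators -/
def sub : Cfsg.Agent.Lib.Helper28.TCU6W0Def.Gen → List (Cfsg.Spor.Fi22.Gen × Bool)
  | .a => [(.a, true)]
  | .c => [(.c, true)]
  | .d => [(.d, true)]
  | .e => [(.e, true)]
  | .f => [(.f, true)]
  | .g => [(.g, true)]
  | .h => [(.h, true)]
  | .i => [(.i, true)]
  | .u => [(.a, true), (.b, true), (.c, true), (.d, true), (.e, true), (.h, true), (.a, true), (.b, true), (.c, true), (.d, true), (.e, true), (.h, true), (.a, true), (.b, true), (.c, true), (.d, true), (.e, true), (.h, true), (.a, true), (.b, true), (.c, true), (.d, true), (.e, true), (.h, true), (.a, true), (.b, true), (.c, true), (.d, true), (.e, true), (.h, true)]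

/-- the paths of the substituted relators -/
def paths : List (List ℕ) := [[2, 2],
  [3, 2, 3, 2, 3, 2],
  [3, 2, 3, 2, 3, 2],
  [4, 2, 4, 2],
  [5, 2, 5, 2],
  [7, 2, 7, 2],
  [7, 4, 3, 2, 1, 0, 7, 4, 3, 2, 1, 0, 7, 4, 3, 2, 1, 0, 7, 4, 3, 2, 1, 0, 7, 4, 3, 2, 1, 0, 2, 7, 4, 3, 2, 1, 0, 7, 4, 3, 2, 1, 0, 7, 4, 3, 2, 1, 0, 7, 4, 3, 2, 1, 0, 7, 4, 3, 2, 1, 0, 2],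
  [7, 4, 3, 2, 1, 0, 7, 4, 3, 2, 1, 0, 7, 4, 3, 2, 1, 0, 7, 4, 3, 2, 1, 0, 7, 4, 3, 2, 1, 0, 2, 7, 4, 3, 2, 1, 0, 7, 4, 3, 2, 1, 0, 7, 4, 3, 2, 1, 0, 7, 4, 3, 2, 1, 0, 7, 4, 3, 2, 1, 0, 2],
  [3, 2, 3, 2, 3, 2],
  [4, 2, 4, 2],
  [7, 2, 7, 2],
  [5, 2, 5, 2],
  [6, 2, 6, 2],
  [8, 2, 8, 2],
  [5, 2, 5, 2],
  [8, 2, 8, 2],
  [2, 3, 2, 3, 2, 3],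
  [3, 3],
  [3, 3],
  [4, 3, 4, 3, 4, 3],
  [5, 3, 5, 3],
  [7, 3, 7, 3, 7, 3],
  [7, 4, 3, 2, 1, 0, 7, 4, 3, 2, 1, 0, 7, 4, 3, 2, 1, 0, 7, 4, 3, 2, 1, 0, 7, 4, 3, 2, 1, 0, 3, 7, 4, 3, 2, 1, 0, 7, 4, 3, 2, 1, 0, 7, 4, 3, 2, 1, 0, 7, 4, 3, 2, 1, 0, 7, 4, 3, 2, 1, 0, 3],
  [7, 4, 3, 2, 1, 0, 7, 4, 3, 2, 1, 0, 7, 4, 3, 2, 1, 0, 7, 4, 3, 2, 1, 0, 7, 4, 3, 2, 1, 0, 3, 7, 4, 3, 2, 1, 0, 7, 4, 3, 2, 1, 0, 7, 4, 3, 2, 1, 0, 7, 4, 3, 2, 1, 0, 7, 4, 3, 2, 1, 0, 3],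
  [3, 3],
  [4, 3, 4, 3, 4, 3],
  [7, 3, 7, 3, 7, 3],
  [5, 3, 5, 3],
  [6, 3, 6, 3],
  [8, 3, 8, 3],
  [5, 3, 5, 3],
  [8, 3, 8, 3],
  [2, 3, 2, 3, 2, 3],
  [3, 3],
  [3, 3],
  [4, 3, 4, 3, 4, 3],
  [5, 3, 5, 3],
  [7, 3, 7, 3, 7, 3],
  [7, 4, 3, 2, 1, 0, 7, 4, 3, 2, 1, 0, 7, 4, 3, 2, 1, 0, 7, 4, 3, 2, 1, 0, 7, 4, 3, 2, 1, 0, 3, 7, 4, 3, 2, 1, 0, 7, 4, 3, 2, 1, 0, 7, 4, 3, 2, 1, 0, 7, 4, 3, 2, 1, 0, 7, 4, 3, 2, 1, 0, 3],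
  [7, 4, 3, 2, 1, 0, 7, 4, 3, 2, 1, 0, 7, 4, 3, 2, 1, 0, 7, 4, 3, 2, 1, 0, 7, 4, 3, 2, 1, 0, 3, 7, 4, 3, 2, 1, 0, 7, 4, 3, 2, 1, 0, 7, 4, 3, 2, 1, 0, 7, 4, 3, 2, 1, 0, 7, 4, 3, 2, 1, 0, 3],
  [3, 3],
  [4, 3, 4, 3, 4, 3],
  [7, 3, 7, 3, 7, 3],
  [5, 3, 5, 3],
  [6, 3, 6, 3],
  [8, 3, 8, 3],
  [5, 3, 5, 3],
  [8, 3, 8, 3],
  [2, 4, 2, 4],
  [3, 4, 3, 4, 3, 4],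
  [3, 4, 3, 4, 3, 4],
  [4, 4],
  [5, 4, 5, 4, 5, 4],
  [7, 4, 7, 4],
  [7, 4, 3, 2, 1, 0, 7, 4, 3, 2, 1, 0, 7, 4, 3, 2, 1, 0, 7, 4, 3, 2, 1, 0, 7, 4, 3, 2, 1, 0, 4, 7, 4, 3, 2, 1, 0, 7, 4, 3, 2, 1, 0, 7, 4, 3, 2, 1, 0, 7, 4, 3, 2, 1, 0, 7, 4, 3, 2, 1, 0, 4],
  [7, 4, 3, 2, 1, 0, 7, 4, 3, 2, 1, 0, 7, 4, 3, 2, 1, 0, 7, 4, 3, 2, 1, 0, 7, 4, 3, 2, 1, 0, 4, 7, 4, 3, 2, 1, 0, 7, 4, 3, 2, 1, 0, 7, 4, 3, 2, 1, 0, 7, 4, 3, 2, 1, 0, 7, 4, 3, 2, 1, 0, 4],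
  [3, 4, 3, 4, 3, 4],
  [4, 4],
  [7, 4, 7, 4],
  [5, 4, 5, 4, 5, 4],
  [6, 4, 6, 4],
  [8, 4, 8, 4],
  [5, 4, 5, 4, 5, 4],
  [8, 4, 8, 4],
  [2, 5, 2, 5],
  [3, 5, 3, 5],
  [3, 5, 3, 5],
  [4, 5, 4, 5, 4, 5],
  [5, 5],
  [7, 5, 7, 5],
  [7, 4, 3, 2, 1, 0, 7, 4, 3, 2, 1, 0, 7, 4, 3, 2, 1, 0, 7, 4, 3, 2, 1, 0, 7, 4, 3, 2, 1, 0, 5, 7, 4, 3, 2, 1, 0, 7, 4, 3, 2, 1, 0, 7, 4, 3, 2, 1, 0, 7, 4, 3, 2, 1, 0, 7, 4, 3, 2, 1, 0, 5, 7, 4, 3, 2, 1, 0, 7, 4, 3, 2, 1, 0, 7, 4, 3, 2, 1, 0, 7, 4, 3, 2, 1, 0, 7, 4, 3, 2, 1, 0, 5],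
  [7, 4, 3, 2, 1, 0, 7, 4, 3, 2, 1, 0, 7, 4, 3, 2, 1, 0, 7, 4, 3, 2, 1, 0, 7, 4, 3, 2, 1, 0, 5, 7, 4, 3, 2, 1, 0, 7, 4, 3, 2, 1, 0, 7, 4, 3, 2, 1, 0, 7, 4, 3, 2, 1, 0, 7, 4, 3, 2, 1, 0, 5, 7, 4, 3, 2, 1, 0, 7, 4, 3, 2, 1, 0, 7, 4, 3, 2, 1, 0, 7, 4, 3, 2, 1, 0, 7, 4, 3, 2, 1, 0, 5],
  [3, 5, 3, 5],
  [4, 5, 4, 5, 4, 5],
  [7, 5, 7, 5],
  [5, 5],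
  [6, 5, 6, 5, 6, 5],
  [8, 5, 8, 5],
  [5, 5],
  [8, 5, 8, 5],
  [2, 7, 2, 7],
  [3, 7, 3, 7, 3, 7],
  [3, 7, 3, 7, 3, 7],
  [4, 7, 4, 7],
  [5, 7, 5, 7],
  [7, 7],
  [7, 4, 3, 2, 1, 0, 7, 4, 3, 2, 1, 0, 7, 4, 3, 2, 1, 0, 7, 4, 3, 2, 1, 0, 7, 4, 3, 2, 1, 0, 7, 7, 4, 3, 2, 1, 0, 7, 4, 3, 2, 1, 0, 7, 4, 3, 2, 1, 0, 7, 4, 3, 2, 1, 0, 7, 4, 3, 2, 1, 0, 7],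
  [7, 4, 3, 2, 1, 0, 7, 4, 3, 2, 1, 0, 7, 4, 3, 2, 1, 0, 7, 4, 3, 2, 1, 0, 7, 4, 3, 2, 1, 0, 7, 7, 4, 3, 2, 1, 0, 7, 4, 3, 2, 1, 0, 7, 4, 3, 2, 1, 0, 7, 4, 3, 2, 1, 0, 7, 4, 3, 2, 1, 0, 7],
  [3, 7, 3, 7, 3, 7],
  [4, 7, 4, 7],
  [7, 7],
  [5, 7, 5, 7],
  [6, 7, 6, 7],
  [8, 7, 8, 7, 8, 7],
  [5, 7, 5, 7],
  [8, 7, 8, 7, 8, 7],
  [2, 7, 4, 3, 2, 1, 0, 7, 4, 3, 2, 1, 0, 7, 4, 3, 2, 1, 0, 7, 4, 3, 2, 1, 0, 7, 4, 3, 2, 1, 0, 2, 7, 4, 3, 2, 1, 0, 7, 4, 3, 2, 1, 0, 7, 4, 3, 2, 1, 0, 7, 4, 3, 2, 1, 0, 7, 4, 3, 2, 1, 0],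
  [3, 7, 4, 3, 2, 1, 0, 7, 4, 3, 2, 1, 0, 7, 4, 3, 2, 1, 0, 7, 4, 3, 2, 1, 0, 7, 4, 3, 2, 1, 0, 3, 7, 4, 3, 2, 1, 0, 7, 4, 3, 2, 1, 0, 7, 4, 3, 2, 1, 0, 7, 4, 3, 2, 1, 0, 7, 4, 3, 2, 1, 0],
  [3, 7, 4, 3, 2, 1, 0, 7, 4, 3, 2, 1, 0, 7, 4, 3, 2, 1, 0, 7, 4, 3, 2, 1, 0, 7, 4, 3, 2, 1, 0, 3, 7, 4, 3, 2, 1, 0, 7, 4, 3, 2, 1, 0, 7, 4, 3, 2, 1, 0, 7, 4, 3, 2, 1, 0, 7, 4, 3, 2, 1, 0],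
  [4, 7, 4, 3, 2, 1, 0, 7, 4, 3, 2, 1, 0, 7, 4, 3, 2, 1, 0, 7, 4, 3, 2, 1, 0, 7, 4, 3, 2, 1, 0, 4, 7, 4, 3, 2, 1, 0, 7, 4, 3, 2, 1, 0, 7, 4, 3, 2, 1, 0, 7, 4, 3, 2, 1, 0, 7, 4, 3, 2, 1, 0],
  [5, 7, 4, 3, 2, 1, 0, 7, 4, 3, 2, 1, 0, 7, 4, 3, 2, 1, 0, 7, 4, 3, 2, 1, 0, 7, 4, 3, 2, 1, 0, 5, 7, 4, 3, 2, 1, 0, 7, 4, 3, 2, 1, 0, 7, 4, 3, 2, 1, 0, 7, 4, 3, 2, 1, 0, 7, 4, 3, 2, 1, 0, 5, 7, 4, 3, 2, 1, 0, 7, 4, 3, 2, 1, 0, 7, 4, 3, 2, 1, 0, 7, 4, 3, 2, 1, 0, 7, 4, 3, 2, 1, 0],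
  [7, 7, 4, 3, 2, 1, 0, 7, 4, 3, 2, 1, 0, 7, 4, 3, 2, 1, 0, 7, 4, 3, 2, 1, 0, 7, 4, 3, 2, 1, 0, 7, 7, 4, 3, 2, 1, 0, 7, 4, 3, 2, 1, 0, 7, 4, 3, 2, 1, 0, 7, 4, 3, 2, 1, 0, 7, 4, 3, 2, 1, 0],
  [7, 4, 3, 2, 1, 0, 7, 4, 3, 2, 1, 0, 7, 4, 3, 2, 1, 0, 7, 4, 3, 2, 1, 0, 7, 4, 3, 2, 1, 0, 7, 4, 3, 2, 1, 0, 7, 4, 3, 2, 1, 0, 7, 4, 3, 2, 1, 0, 7, 4, 3, 2, 1, 0, 7, 4, 3, 2, 1, 0],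
  [7, 4, 3, 2, 1, 0, 7, 4, 3, 2, 1, 0, 7, 4, 3, 2, 1, 0, 7, 4, 3, 2, 1, 0, 7, 4, 3, 2, 1, 0, 7, 4, 3, 2, 1, 0, 7, 4, 3, 2, 1, 0, 7, 4, 3, 2, 1, 0, 7, 4, 3, 2, 1, 0, 7, 4, 3, 2, 1, 0],
  [3, 7, 4, 3, 2, 1, 0, 7, 4, 3, 2, 1, 0, 7, 4, 3, 2, 1, 0, 7, 4, 3, 2, 1, 0, 7, 4, 3, 2, 1, 0, 3, 7, 4, 3, 2, 1, 0, 7, 4, 3, 2, 1, 0, 7, 4, 3, 2, 1, 0, 7, 4, 3, 2, 1, 0, 7, 4, 3, 2, 1, 0],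
  [4, 7, 4, 3, 2, 1, 0, 7, 4, 3, 2, 1, 0, 7, 4, 3, 2, 1, 0, 7, 4, 3, 2, 1, 0, 7, 4, 3, 2, 1, 0, 4, 7, 4, 3, 2, 1, 0, 7, 4, 3, 2, 1, 0, 7, 4, 3, 2, 1, 0, 7, 4, 3, 2, 1, 0, 7, 4, 3, 2, 1, 0],
  [7, 7, 4, 3, 2, 1, 0, 7, 4, 3, 2, 1, 0, 7, 4, 3, 2, 1, 0, 7, 4, 3, 2, 1, 0, 7, 4, 3, 2, 1, 0, 7, 7, 4, 3, 2, 1, 0, 7, 4, 3, 2, 1, 0, 7, 4, 3, 2, 1, 0, 7, 4, 3, 2, 1, 0, 7, 4, 3, 2, 1, 0],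
  [5, 7, 4, 3, 2, 1, 0, 7, 4, 3, 2, 1, 0, 7, 4, 3, 2, 1, 0, 7, 4, 3, 2, 1, 0, 7, 4, 3, 2, 1, 0, 5, 7, 4, 3, 2, 1, 0, 7, 4, 3, 2, 1, 0, 7, 4, 3, 2, 1, 0, 7, 4, 3, 2, 1, 0, 7, 4, 3, 2, 1, 0, 5, 7, 4, 3, 2, 1, 0, 7, 4, 3, 2, 1, 0, 7, 4, 3, 2, 1, 0, 7, 4, 3, 2, 1, 0, 7, 4, 3, 2, 1, 0],
  [6, 7, 4, 3, 2, 1, 0, 7, 4, 3, 2, 1, 0, 7, 4, 3, 2, 1, 0, 7, 4, 3, 2, 1, 0, 7, 4, 3, 2, 1, 0, 6, 7, 4, 3, 2, 1, 0, 7, 4, 3, 2, 1, 0, 7, 4, 3, 2, 1, 0, 7, 4, 3, 2, 1, 0, 7, 4, 3, 2, 1, 0],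
  [8, 7, 4, 3, 2, 1, 0, 7, 4, 3, 2, 1, 0, 7, 4, 3, 2, 1, 0, 7, 4, 3, 2, 1, 0, 7, 4, 3, 2, 1, 0, 8, 7, 4, 3, 2, 1, 0, 7, 4, 3, 2, 1, 0, 7, 4, 3, 2, 1, 0, 7, 4, 3, 2, 1, 0, 7, 4, 3, 2, 1, 0, 8, 7, 4, 3, 2, 1, 0, 7, 4, 3, 2, 1, 0, 7, 4, 3, 2, 1, 0, 7, 4, 3, 2, 1, 0, 7, 4, 3, 2, 1, 0],
  [5, 7, 4, 3, 2, 1, 0, 7, 4, 3, 2, 1, 0, 7, 4, 3, 2, 1, 0, 7, 4, 3, 2, 1, 0, 7, 4, 3, 2, 1, 0, 5, 7, 4, 3, 2, 1, 0, 7, 4, 3, 2, 1, 0, 7, 4, 3, 2, 1, 0, 7, 4, 3, 2, 1, 0, 7, 4, 3, 2, 1, 0, 5, 7, 4, 3, 2, 1, 0, 7, 4, 3, 2, 1, 0, 7, 4, 3, 2, 1, 0, 7, 4, 3, 2, 1, 0, 7, 4, 3, 2, 1, 0],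
  [8, 7, 4, 3, 2, 1, 0, 7, 4, 3, 2, 1, 0, 7, 4, 3, 2, 1, 0, 7, 4, 3, 2, 1, 0, 7, 4, 3, 2, 1, 0, 8, 7, 4, 3, 2, 1, 0, 7, 4, 3, 2, 1, 0, 7, 4, 3, 2, 1, 0, 7, 4, 3, 2, 1, 0, 7, 4, 3, 2, 1, 0, 8, 7, 4, 3, 2, 1, 0, 7, 4, 3, 2, 1, 0, 7, 4, 3, 2, 1, 0, 7, 4, 3, 2, 1, 0, 7, 4, 3, 2, 1, 0],
  [2, 7, 4, 3, 2, 1, 0, 7, 4, 3, 2, 1, 0, 7, 4, 3, 2, 1, 0, 7, 4, 3, 2, 1, 0, 7, 4, 3, 2, 1, 0, 2, 7, 4, 3, 2, 1, 0, 7, 4, 3, 2, 1, 0, 7, 4, 3, 2, 1, 0, 7, 4, 3, 2, 1, 0, 7, 4, 3, 2, 1, 0],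
  [3, 7, 4, 3, 2, 1, 0, 7, 4, 3, 2, 1, 0, 7, 4, 3, 2, 1, 0, 7, 4, 3, 2, 1, 0, 7, 4, 3, 2, 1, 0, 3, 7, 4, 3, 2, 1, 0, 7, 4, 3, 2, 1, 0, 7, 4, 3, 2, 1, 0, 7, 4, 3, 2, 1, 0, 7, 4, 3, 2, 1, 0],
  [3, 7, 4, 3, 2, 1, 0, 7, 4, 3, 2, 1, 0, 7, 4, 3, 2, 1, 0, 7, 4, 3, 2, 1, 0, 7, 4, 3, 2, 1, 0, 3, 7, 4, 3, 2, 1, 0, 7, 4, 3, 2, 1, 0, 7, 4, 3, 2, 1, 0, 7, 4, 3, 2, 1, 0, 7, 4, 3, 2, 1, 0],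
  [4, 7, 4, 3, 2, 1, 0, 7, 4, 3, 2, 1, 0, 7, 4, 3, 2, 1, 0, 7, 4, 3, 2, 1, 0, 7, 4, 3, 2, 1, 0, 4, 7, 4, 3, 2, 1, 0, 7, 4, 3, 2, 1, 0, 7, 4, 3, 2, 1, 0, 7, 4, 3, 2, 1, 0, 7, 4, 3, 2, 1, 0],
  [5, 7, 4, 3, 2, 1, 0, 7, 4, 3, 2, 1, 0, 7, 4, 3, 2, 1, 0, 7, 4, 3, 2, 1, 0, 7, 4, 3, 2, 1, 0, 5, 7, 4, 3, 2, 1, 0, 7, 4, 3, 2, 1, 0, 7, 4, 3, 2, 1, 0, 7, 4, 3, 2, 1, 0, 7, 4, 3, 2, 1, 0, 5, 7, 4, 3, 2, 1, 0, 7, 4, 3, 2, 1, 0, 7, 4, 3, 2, 1, 0, 7, 4, 3, 2, 1, 0, 7, 4, 3, 2, 1, 0],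
  [7, 7, 4, 3, 2, 1, 0, 7, 4, 3, 2, 1, 0, 7, 4, 3, 2, 1, 0, 7, 4, 3, 2, 1, 0, 7, 4, 3, 2, 1, 0, 7, 7, 4, 3, 2, 1, 0, 7, 4, 3, 2, 1, 0, 7, 4, 3, 2, 1, 0, 7, 4, 3, 2, 1, 0, 7, 4, 3, 2, 1, 0],
  [7, 4, 3, 2, 1, 0, 7, 4, 3, 2, 1, 0, 7, 4, 3, 2, 1, 0, 7, 4, 3, 2, 1, 0, 7, 4, 3, 2, 1, 0, 7, 4, 3, 2, 1, 0, 7, 4, 3, 2, 1, 0, 7, 4, 3, 2, 1, 0, 7, 4, 3, 2, 1, 0, 7, 4, 3, 2, 1, 0],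
  [7, 4, 3, 2, 1, 0, 7, 4, 3, 2, 1, 0, 7, 4, 3, 2, 1, 0, 7, 4, 3, 2, 1, 0, 7, 4, 3, 2, 1, 0, 7, 4, 3, 2, 1, 0, 7, 4, 3, 2, 1, 0, 7, 4, 3, 2, 1, 0, 7, 4, 3, 2, 1, 0, 7, 4, 3, 2, 1, 0],
  [3, 7, 4, 3, 2, 1, 0, 7, 4, 3, 2, 1, 0, 7, 4, 3, 2, 1, 0, 7, 4, 3, 2, 1, 0, 7, 4, 3, 2, 1, 0, 3, 7, 4, 3, 2, 1, 0, 7, 4, 3, 2, 1, 0, 7, 4, 3, 2, 1, 0, 7, 4, 3, 2, 1, 0, 7, 4, 3, 2, 1, 0],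
  [4, 7, 4, 3, 2, 1, 0, 7, 4, 3, 2, 1, 0, 7, 4, 3, 2, 1, 0, 7, 4, 3, 2, 1, 0, 7, 4, 3, 2, 1, 0, 4, 7, 4, 3, 2, 1, 0, 7, 4, 3, 2, 1, 0, 7, 4, 3, 2, 1, 0, 7, 4, 3, 2, 1, 0, 7, 4, 3, 2, 1, 0],
  [7, 7, 4, 3, 2, 1, 0, 7, 4, 3, 2, 1, 0, 7, 4, 3, 2, 1, 0, 7, 4, 3, 2, 1, 0, 7, 4, 3, 2, 1, 0, 7, 7, 4, 3, 2, 1, 0, 7, 4, 3, 2, 1, 0, 7, 4, 3, 2, 1, 0, 7, 4, 3, 2, 1, 0, 7, 4, 3, 2, 1, 0],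
  [5, 7, 4, 3, 2, 1, 0, 7, 4, 3, 2, 1, 0, 7, 4, 3, 2, 1, 0, 7, 4, 3, 2, 1, 0, 7, 4, 3, 2, 1, 0, 5, 7, 4, 3, 2, 1, 0, 7, 4, 3, 2, 1, 0, 7, 4, 3, 2, 1, 0, 7, 4, 3, 2, 1, 0, 7, 4, 3, 2, 1, 0, 5, 7, 4, 3, 2, 1, 0, 7, 4, 3, 2, 1, 0, 7, 4, 3, 2, 1, 0, 7, 4, 3, 2, 1, 0, 7, 4, 3, 2, 1, 0],
  [6, 7, 4, 3, 2, 1, 0, 7, 4, 3, 2, 1, 0, 7, 4, 3, 2, 1, 0, 7, 4, 3, 2, 1, 0, 7, 4, 3, 2, 1, 0, 6, 7, 4, 3, 2, 1, 0, 7, 4, 3, 2, 1, 0, 7, 4, 3, 2, 1, 0, 7, 4, 3, 2, 1, 0, 7, 4, 3, 2, 1, 0],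
  [8, 7, 4, 3, 2, 1, 0, 7, 4, 3, 2, 1, 0, 7, 4, 3, 2, 1, 0, 7, 4, 3, 2, 1, 0, 7, 4, 3, 2, 1, 0, 8, 7, 4, 3, 2, 1, 0, 7, 4, 3, 2, 1, 0, 7, 4, 3, 2, 1, 0, 7, 4, 3, 2, 1, 0, 7, 4, 3, 2, 1, 0, 8, 7, 4, 3, 2, 1, 0, 7, 4, 3, 2, 1, 0, 7, 4, 3, 2, 1, 0, 7, 4, 3, 2, 1, 0, 7, 4, 3, 2, 1, 0],
  [5, 7, 4, 3, 2, 1, 0, 7, 4, 3, 2, 1, 0, 7, 4, 3, 2, 1, 0, 7, 4, 3, 2, 1, 0, 7, 4, 3, 2, 1, 0, 5, 7, 4, 3, 2, 1, 0, 7, 4, 3, 2, 1, 0, 7, 4, 3, 2, 1, 0, 7, 4, 3, 2, 1, 0, 7, 4, 3, 2, 1, 0, 5, 7, 4, 3, 2, 1, 0, 7, 4, 3, 2, 1, 0, 7, 4, 3, 2, 1, 0, 7, 4, 3, 2, 1, 0, 7, 4, 3, 2, 1, 0],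
  [8, 7, 4, 3, 2, 1, 0, 7, 4, 3, 2, 1, 0, 7, 4, 3, 2, 1, 0, 7, 4, 3, 2, 1, 0, 7, 4, 3, 2, 1, 0, 8, 7, 4, 3, 2, 1, 0, 7, 4, 3, 2, 1, 0, 7, 4, 3, 2, 1, 0, 7, 4, 3, 2, 1, 0, 7, 4, 3, 2, 1, 0, 8, 7, 4, 3, 2, 1, 0, 7, 4, 3, 2, 1, 0, 7, 4, 3, 2, 1, 0, 7, 4, 3, 2, 1, 0, 7, 4, 3, 2, 1, 0],
  [2, 3, 2, 3, 2, 3],
  [3, 3],
  [3, 3],
  [4, 3, 4, 3, 4, 3],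
  [5, 3, 5, 3],
  [7, 3, 7, 3, 7, 3],
  [7, 4, 3, 2, 1, 0, 7, 4, 3, 2, 1, 0, 7, 4, 3, 2, 1, 0, 7, 4, 3, 2, 1, 0, 7, 4, 3, 2, 1, 0, 3, 7, 4, 3, 2, 1, 0, 7, 4, 3, 2, 1, 0, 7, 4, 3, 2, 1, 0, 7, 4, 3, 2, 1, 0, 7, 4, 3, 2, 1, 0, 3],
  [7, 4, 3, 2, 1, 0, 7, 4, 3, 2, 1, 0, 7, 4, 3, 2, 1, 0, 7, 4, 3, 2, 1, 0, 7, 4, 3, 2, 1, 0, 3, 7, 4, 3, 2, 1, 0, 7, 4, 3, 2, 1, 0, 7, 4, 3, 2, 1, 0, 7, 4, 3, 2, 1, 0, 7, 4, 3, 2, 1, 0, 3],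
  [3, 3],
  [4, 3, 4, 3, 4, 3],
  [7, 3, 7, 3, 7, 3],
  [5, 3, 5, 3],
  [6, 3, 6, 3],
  [8, 3, 8, 3],
  [5, 3, 5, 3],
  [8, 3, 8, 3],
  [2, 4, 2, 4],
  [3, 4, 3, 4, 3, 4],
  [3, 4, 3, 4, 3, 4],
  [4, 4],
  [5, 4, 5, 4, 5, 4],
  [7, 4, 7, 4],
  [7, 4, 3, 2, 1, 0, 7, 4, 3, 2, 1, 0, 7, 4, 3, 2, 1, 0, 7, 4, 3, 2, 1, 0, 7, 4, 3, 2, 1, 0, 4, 7, 4, 3, 2, 1, 0, 7, 4, 3, 2, 1, 0, 7, 4, 3, 2, 1, 0, 7, 4, 3, 2, 1, 0, 7, 4, 3, 2, 1, 0, 4],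
  [7, 4, 3, 2, 1, 0, 7, 4, 3, 2, 1, 0, 7, 4, 3, 2, 1, 0, 7, 4, 3, 2, 1, 0, 7, 4, 3, 2, 1, 0, 4, 7, 4, 3, 2, 1, 0, 7, 4, 3, 2, 1, 0, 7, 4, 3, 2, 1, 0, 7, 4, 3, 2, 1, 0, 7, 4, 3, 2, 1, 0, 4],
  [3, 4, 3, 4, 3, 4],
  [4, 4],
  [7, 4, 7, 4],
  [5, 4, 5, 4, 5, 4],
  [6, 4, 6, 4],
  [8, 4, 8, 4],
  [5, 4, 5, 4, 5, 4],
  [8, 4, 8, 4],
  [2, 7, 2, 7],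
  [3, 7, 3, 7, 3, 7],
  [3, 7, 3, 7, 3, 7],
  [4, 7, 4, 7],
  [5, 7, 5, 7],
  [7, 7],
  [7, 4, 3, 2, 1, 0, 7, 4, 3, 2, 1, 0, 7, 4, 3, 2, 1, 0, 7, 4, 3, 2, 1, 0, 7, 4, 3, 2, 1, 0, 7, 7, 4, 3, 2, 1, 0, 7, 4, 3, 2, 1, 0, 7, 4, 3, 2, 1, 0, 7, 4, 3, 2, 1, 0, 7, 4, 3, 2, 1, 0, 7],
  [7, 4, 3, 2, 1, 0, 7, 4, 3, 2, 1, 0, 7, 4, 3, 2, 1, 0, 7, 4, 3, 2, 1, 0, 7, 4, 3, 2, 1, 0, 7, 7, 4, 3, 2, 1, 0, 7, 4, 3, 2, 1, 0, 7, 4, 3, 2, 1, 0, 7, 4, 3, 2, 1, 0, 7, 4, 3, 2, 1, 0, 7],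
  [3, 7, 3, 7, 3, 7],
  [4, 7, 4, 7],
  [7, 7],
  [5, 7, 5, 7],
  [6, 7, 6, 7],
  [8, 7, 8, 7, 8, 7],
  [5, 7, 5, 7],
  [8, 7, 8, 7, 8, 7],
  [2, 5, 2, 5],
  [3, 5, 3, 5],
  [3, 5, 3, 5],
  [4, 5, 4, 5, 4, 5],
  [5, 5],
  [7, 5, 7, 5],
  [7, 4, 3, 2, 1, 0, 7, 4, 3, 2, 1, 0, 7, 4, 3, 2, 1, 0, 7, 4, 3, 2, 1, 0, 7, 4, 3, 2, 1, 0, 5, 7, 4, 3, 2, 1, 0, 7, 4, 3, 2, 1, 0, 7, 4, 3, 2, 1, 0, 7, 4, 3, 2, 1, 0, 7, 4, 3, 2, 1, 0, 5, 7, 4, 3, 2, 1, 0, 7, 4, 3, 2, 1, 0, 7, 4, 3, 2, 1, 0, 7, 4, 3, 2, 1, 0, 7, 4, 3, 2, 1, 0, 5],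
  [7, 4, 3, 2, 1, 0, 7, 4, 3, 2, 1, 0, 7, 4, 3, 2, 1, 0, 7, 4, 3, 2, 1, 0, 7, 4, 3, 2, 1, 0, 5, 7, 4, 3, 2, 1, 0, 7, 4, 3, 2, 1, 0, 7, 4, 3, 2, 1, 0, 7, 4, 3, 2, 1, 0, 7, 4, 3, 2, 1, 0, 5, 7, 4, 3, 2, 1, 0, 7, 4, 3, 2, 1, 0, 7, 4, 3, 2, 1, 0, 7, 4, 3, 2, 1, 0, 7, 4, 3, 2, 1, 0, 5],
  [3, 5, 3, 5],
  [4, 5, 4, 5, 4, 5],
  [7, 5, 7, 5],
  [5, 5],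
  [6, 5, 6, 5, 6, 5],
  [8, 5, 8, 5],
  [5, 5],
  [8, 5, 8, 5],
  [2, 6, 2, 6],
  [3, 6, 3, 6],
  [3, 6, 3, 6],
  [4, 6, 4, 6],
  [5, 6, 5, 6, 5, 6],
  [7, 6, 7, 6],
  [7, 4, 3, 2, 1, 0, 7, 4, 3, 2, 1, 0, 7, 4, 3, 2, 1, 0, 7, 4, 3, 2, 1, 0, 7, 4, 3, 2, 1, 0, 6, 7, 4, 3, 2, 1, 0, 7, 4, 3, 2, 1, 0, 7, 4, 3, 2, 1, 0, 7, 4, 3, 2, 1, 0, 7, 4, 3, 2, 1, 0, 6],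
  [7, 4, 3, 2, 1, 0, 7, 4, 3, 2, 1, 0, 7, 4, 3, 2, 1, 0, 7, 4, 3, 2, 1, 0, 7, 4, 3, 2, 1, 0, 6, 7, 4, 3, 2, 1, 0, 7, 4, 3, 2, 1, 0, 7, 4, 3, 2, 1, 0, 7, 4, 3, 2, 1, 0, 7, 4, 3, 2, 1, 0, 6],
  [3, 6, 3, 6],
  [4, 6, 4, 6],
  [7, 6, 7, 6],
  [5, 6, 5, 6, 5, 6],
  [6, 6],
  [8, 6, 8, 6],
  [5, 6, 5, 6, 5, 6],
  [8, 6, 8, 6],
  [2, 8, 2, 8],
  [3, 8, 3, 8],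
  [3, 8, 3, 8],
  [4, 8, 4, 8],
  [5, 8, 5, 8],
  [7, 8, 7, 8, 7, 8],
  [7, 4, 3, 2, 1, 0, 7, 4, 3, 2, 1, 0, 7, 4, 3, 2, 1, 0, 7, 4, 3, 2, 1, 0, 7, 4, 3, 2, 1, 0, 8, 7, 4, 3, 2, 1, 0, 7, 4, 3, 2, 1, 0, 7, 4, 3, 2, 1, 0, 7, 4, 3, 2, 1, 0, 7, 4, 3, 2, 1, 0, 8, 7, 4, 3, 2, 1, 0, 7, 4, 3, 2, 1, 0, 7, 4, 3, 2, 1, 0, 7, 4, 3, 2, 1, 0, 7, 4, 3, 2, 1, 0, 8],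
  [7, 4, 3, 2, 1, 0, 7, 4, 3, 2, 1, 0, 7, 4, 3, 2, 1, 0, 7, 4, 3, 2, 1, 0, 7, 4, 3, 2, 1, 0, 8, 7, 4, 3, 2, 1, 0, 7, 4, 3, 2, 1, 0, 7, 4, 3, 2, 1, 0, 7, 4, 3, 2, 1, 0, 7, 4, 3, 2, 1, 0, 8, 7, 4, 3, 2, 1, 0, 7, 4, 3, 2, 1, 0, 7, 4, 3, 2, 1, 0, 7, 4, 3, 2, 1, 0, 7, 4, 3, 2, 1, 0, 8],
  [3, 8, 3, 8],
  [4, 8, 4, 8],
  [7, 8, 7, 8, 7, 8],
  [5, 8, 5, 8],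
  [6, 8, 6, 8],
  [8, 8],
  [5, 8, 5, 8],
  [8, 8],
  [2, 5, 2, 5],
  [3, 5, 3, 5],
  [3, 5, 3, 5],
  [4, 5, 4, 5, 4, 5],
  [5, 5],
  [7, 5, 7, 5],
  [7, 4, 3, 2, 1, 0, 7, 4, 3, 2, 1, 0, 7, 4, 3, 2, 1, 0, 7, 4, 3, 2, 1, 0, 7, 4, 3, 2, 1, 0, 5, 7, 4, 3, 2, 1, 0, 7, 4, 3, 2, 1, 0, 7, 4, 3, 2, 1, 0, 7, 4, 3, 2, 1, 0, 7, 4, 3, 2, 1, 0, 5, 7, 4, 3, 2, 1, 0, 7, 4, 3, 2, 1, 0, 7, 4, 3, 2, 1, 0, 7, 4, 3, 2, 1, 0, 7, 4, 3, 2, 1, 0, 5],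
  [7, 4, 3, 2, 1, 0, 7, 4, 3, 2, 1, 0, 7, 4, 3, 2, 1, 0, 7, 4, 3, 2, 1, 0, 7, 4, 3, 2, 1, 0, 5, 7, 4, 3, 2, 1, 0, 7, 4, 3, 2, 1, 0, 7, 4, 3, 2, 1, 0, 7, 4, 3, 2, 1, 0, 7, 4, 3, 2, 1, 0, 5, 7, 4, 3, 2, 1, 0, 7, 4, 3, 2, 1, 0, 7, 4, 3, 2, 1, 0, 7, 4, 3, 2, 1, 0, 7, 4, 3, 2, 1, 0, 5],
  [3, 5, 3, 5],
  [4, 5, 4, 5, 4, 5],
  [7, 5, 7, 5],
  [5, 5],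
  [6, 5, 6, 5, 6, 5],
  [8, 5, 8, 5],
  [5, 5],
  [8, 5, 8, 5],
  [2, 8, 2, 8],
  [3, 8, 3, 8],
  [3, 8, 3, 8],
  [4, 8, 4, 8],
  [5, 8, 5, 8],
  [7, 8, 7, 8, 7, 8],
  [7, 4, 3, 2, 1, 0, 7, 4, 3, 2, 1, 0, 7, 4, 3, 2, 1, 0, 7, 4, 3, 2, 1, 0, 7, 4, 3, 2, 1, 0, 8, 7, 4, 3, 2, 1, 0, 7, 4, 3, 2, 1, 0, 7, 4, 3, 2, 1, 0, 7, 4, 3, 2, 1, 0, 7, 4, 3, 2, 1, 0, 8, 7, 4, 3, 2, 1, 0, 7, 4, 3, 2, 1, 0, 7, 4, 3, 2, 1, 0, 7, 4, 3, 2, 1, 0, 7, 4, 3, 2, 1, 0, 8],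
  [7, 4, 3, 2, 1, 0, 7, 4, 3, 2, 1, 0, 7, 4, 3, 2, 1, 0, 7, 4, 3, 2, 1, 0, 7, 4, 3, 2, 1, 0, 8, 7, 4, 3, 2, 1, 0, 7, 4, 3, 2, 1, 0, 7, 4, 3, 2, 1, 0, 7, 4, 3, 2, 1, 0, 7, 4, 3, 2, 1, 0, 8, 7, 4, 3, 2, 1, 0, 7, 4, 3, 2, 1, 0, 7, 4, 3, 2, 1, 0, 7, 4, 3, 2, 1, 0, 7, 4, 3, 2, 1, 0, 8],
  [3, 8, 3, 8],
  [4, 8, 4, 8],
  [7, 8, 7, 8, 7, 8],
  [5, 8, 5, 8],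
  [6, 8, 6, 8],
  [8, 8],
  [5, 8, 5, 8],
  [8, 8],
  [0, 0],
  [2, 0, 2, 0],
  [3, 0, 3, 0],
  [4, 0, 4, 0],
  [5, 0, 5, 0],
  [6, 0, 6, 0],
  [7, 0, 7, 0],
  [8, 0, 8, 0],
  [7, 4, 3, 2, 1, 0, 7, 4, 3, 2, 1, 0, 7, 4, 3, 2, 1, 0, 7, 4, 3, 2, 1, 0, 7, 4, 3, 2, 1, 0, 0, 7, 4, 3, 2, 1, 0, 7, 4, 3, 2, 1, 0, 7, 4, 3, 2, 1, 0, 7, 4, 3, 2, 1, 0, 7, 4, 3, 2, 1, 0, 0],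
  [8, 7, 6, 5, 4, 3, 2, 8, 7, 6, 5, 4, 3, 2, 8, 7, 6, 5, 4, 3, 2, 8, 7, 6, 5, 4, 3, 2, 8, 7, 6, 5, 4, 3, 2, 8, 7, 6, 5, 4, 3, 2, 8, 7, 6, 5, 4, 3, 2, 8, 7, 6, 5, 4, 3, 2, 8, 7, 6, 5, 4, 3, 2],
  [4, 3, 5, 4, 7, 3, 8, 7, 7, 4, 3, 2, 1, 0, 7, 4, 3, 2, 1, 0, 7, 4, 3, 2, 1, 0, 7, 4, 3, 2, 1, 0, 7, 4, 3, 2, 1, 0, 5, 4, 3, 8, 7, 7, 4, 3, 2, 1, 0, 7, 4, 3, 2, 1, 0, 7, 4, 3, 2, 1, 0, 7, 4, 3, 2, 1, 0, 7, 4, 3, 2, 1, 0, 5, 6, 8, 7, 4, 3, 2, 1, 0, 7, 4, 3, 2, 1, 0, 7, 4, 3, 2, 1, 0, 7, 4, 3, 2, 1, 0, 7, 4, 3, 2, 1, 0, 4, 3, 7, 8, 6, 5, 7, 4, 3, 2, 1, 0, 7, 4, 3, 2, 1, 0, 7, 4, 3, 2, 1, 0, 7, 4, 3, 2, 1, 0, 7, 4, 3, 2, 1, 0],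
  [0, 7, 3, 2, 4, 3, 5, 4, 6, 5, 7, 3, 2, 4, 3, 7, 7, 4, 3, 2, 1, 0, 7, 4, 3, 2, 1, 0, 7, 4, 3, 2, 1, 0, 7, 4, 3, 2, 1, 0, 7, 4, 3, 2, 1, 0, 5, 4, 3, 6, 5, 4, 2, 7, 4, 3, 2, 1, 0, 7, 4, 3, 2, 1, 0, 7, 4, 3, 2, 1, 0, 7, 4, 3, 2, 1, 0, 7, 4, 3, 2, 1, 0, 5, 6, 3, 4, 5, 7, 4, 3, 2, 1, 0, 7, 4, 3, 2, 1, 0, 7, 4, 3, 2, 1, 0, 7, 4, 3, 2, 1, 0, 7, 4, 3, 2, 1, 0],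
  [4, 5, 4, 6, 5, 4, 7, 8, 7, 7, 4, 3, 2, 1, 0, 7, 4, 3, 2, 1, 0, 7, 4, 3, 2, 1, 0, 7, 4, 3, 2, 1, 0, 7, 4, 3, 2, 1, 0, 5, 4, 6, 5, 8, 7, 4, 3, 2, 1, 0, 7, 4, 3, 2, 1, 0, 7, 4, 3, 2, 1, 0, 7, 4, 3, 2, 1, 0, 7, 4, 3, 2, 1, 0, 5, 8, 7, 6, 8, 4, 5, 7, 4, 3, 2, 1, 0, 7, 4, 3, 2, 1, 0, 7, 4, 3, 2, 1, 0, 7, 4, 3, 2, 1, 0, 7, 4, 3, 2, 1, 0, 8, 5, 6, 4, 5, 7, 4, 3, 2, 1, 0, 7, 4, 3, 2, 1, 0, 7, 4, 3, 2, 1, 0, 7, 4, 3, 2, 1, 0, 7, 4, 3, 2, 1, 0]]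

/-- the same without repetitions -/
def pathsD : List (List ℕ) := [[2, 2],
  [3, 2, 3, 2, 3, 2],
  [4, 2, 4, 2],
  [5, 2, 5, 2],
  [7, 2, 7, 2],
  [7, 4, 3, 2, 1, 0, 7, 4, 3, 2, 1, 0, 7, 4, 3, 2, 1, 0, 7, 4, 3, 2, 1, 0, 7, 4, 3, 2, 1, 0, 2, 7, 4, 3, 2, 1, 0, 7, 4, 3, 2, 1, 0, 7, 4, 3, 2, 1, 0, 7, 4, 3, 2, 1, 0, 7, 4, 3, 2, 1, 0, 2],
  [6, 2, 6, 2],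
  [8, 2, 8, 2],
  [2, 3, 2, 3, 2, 3],
  [3, 3],
  [4, 3, 4, 3, 4, 3],
  [5, 3, 5, 3],
  [7, 3, 7, 3, 7, 3],
  [7, 4, 3, 2, 1, 0, 7, 4, 3, 2, 1, 0, 7, 4, 3, 2, 1, 0, 7, 4, 3, 2, 1, 0, 7, 4, 3, 2, 1, 0, 3, 7, 4, 3, 2, 1, 0, 7, 4, 3, 2, 1, 0, 7, 4, 3, 2, 1, 0, 7, 4, 3, 2, 1, 0, 7, 4, 3, 2, 1, 0, 3],
  [6, 3, 6, 3],
  [8, 3, 8, 3],
  [2, 4, 2, 4],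
  [3, 4, 3, 4, 3, 4],
  [4, 4],
  [5, 4, 5, 4, 5, 4],
  [7, 4, 7, 4],
  [7, 4, 3, 2, 1, 0, 7, 4, 3, 2, 1, 0, 7, 4, 3, 2, 1, 0, 7, 4, 3, 2, 1, 0, 7, 4, 3, 2, 1, 0, 4, 7, 4, 3, 2, 1, 0, 7, 4, 3, 2, 1, 0, 7, 4, 3, 2, 1, 0, 7, 4, 3, 2, 1, 0, 7, 4, 3, 2, 1, 0, 4],
  [6, 4, 6, 4],
  [8, 4, 8, 4],
  [2, 5, 2, 5],
  [3, 5, 3, 5],
  [4, 5, 4, 5, 4, 5],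
  [5, 5],
  [7, 5, 7, 5],
  [7, 4, 3, 2, 1, 0, 7, 4, 3, 2, 1, 0, 7, 4, 3, 2, 1, 0, 7, 4, 3, 2, 1, 0, 7, 4, 3, 2, 1, 0, 5, 7, 4, 3, 2, 1, 0, 7, 4, 3, 2, 1, 0, 7, 4, 3, 2, 1, 0, 7, 4, 3, 2, 1, 0, 7, 4, 3, 2, 1, 0, 5, 7, 4, 3, 2, 1, 0, 7, 4, 3, 2, 1, 0, 7, 4, 3, 2, 1, 0, 7, 4, 3, 2, 1, 0, 7, 4, 3, 2, 1, 0, 5],
  [6, 5, 6, 5, 6, 5],
  [8, 5, 8, 5],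
  [2, 7, 2, 7],
  [3, 7, 3, 7, 3, 7],
  [4, 7, 4, 7],
  [5, 7, 5, 7],
  [7, 7],
  [7, 4, 3, 2, 1, 0, 7, 4, 3, 2, 1, 0, 7, 4, 3, 2, 1, 0, 7, 4, 3, 2, 1, 0, 7, 4, 3, 2, 1, 0, 7, 7, 4, 3, 2, 1, 0, 7, 4, 3, 2, 1, 0, 7, 4, 3, 2, 1, 0, 7, 4, 3, 2, 1, 0, 7, 4, 3, 2, 1, 0, 7],
  [6, 7, 6, 7],
  [8, 7, 8, 7, 8, 7],
  [2, 7, 4, 3, 2, 1, 0, 7, 4, 3, 2, 1, 0, 7, 4, 3, 2, 1, 0, 7, 4, 3, 2, 1, 0, 7, 4, 3, 2, 1, 0, 2, 7, 4, 3, 2, 1, 0, 7, 4, 3, 2, 1, 0, 7, 4, 3, 2, 1, 0, 7, 4, 3, 2, 1, 0, 7, 4, 3, 2, 1, 0],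
  [3, 7, 4, 3, 2, 1, 0, 7, 4, 3, 2, 1, 0, 7, 4, 3, 2, 1, 0, 7, 4, 3, 2, 1, 0, 7, 4, 3, 2, 1, 0, 3, 7, 4, 3, 2, 1, 0, 7, 4, 3, 2, 1, 0, 7, 4, 3, 2, 1, 0, 7, 4, 3, 2, 1, 0, 7, 4, 3, 2, 1, 0],
  [4, 7, 4, 3, 2, 1, 0, 7, 4, 3, 2, 1, 0, 7, 4, 3, 2, 1, 0, 7, 4, 3, 2, 1, 0, 7, 4, 3, 2, 1, 0, 4, 7, 4, 3, 2, 1, 0, 7, 4, 3, 2, 1, 0, 7, 4, 3, 2, 1, 0, 7, 4, 3, 2, 1, 0, 7, 4, 3, 2, 1, 0],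
  [5, 7, 4, 3, 2, 1, 0, 7, 4, 3, 2, 1, 0, 7, 4, 3, 2, 1, 0, 7, 4, 3, 2, 1, 0, 7, 4, 3, 2, 1, 0, 5, 7, 4, 3, 2, 1, 0, 7, 4, 3, 2, 1, 0, 7, 4, 3, 2, 1, 0, 7, 4, 3, 2, 1, 0, 7, 4, 3, 2, 1, 0, 5, 7, 4, 3, 2, 1, 0, 7, 4, 3, 2, 1, 0, 7, 4, 3, 2, 1, 0, 7, 4, 3, 2, 1, 0, 7, 4, 3, 2, 1, 0],
  [7, 7, 4, 3, 2, 1, 0, 7, 4, 3, 2, 1, 0, 7, 4, 3, 2, 1, 0, 7, 4, 3, 2, 1, 0, 7, 4, 3, 2, 1, 0, 7, 7, 4, 3, 2, 1, 0, 7, 4, 3, 2, 1, 0, 7, 4, 3, 2, 1, 0, 7, 4, 3, 2, 1, 0, 7, 4, 3, 2, 1, 0],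
  [7, 4, 3, 2, 1, 0, 7, 4, 3, 2, 1, 0, 7, 4, 3, 2, 1, 0, 7, 4, 3, 2, 1, 0, 7, 4, 3, 2, 1, 0, 7, 4, 3, 2, 1, 0, 7, 4, 3, 2, 1, 0, 7, 4, 3, 2, 1, 0, 7, 4, 3, 2, 1, 0, 7, 4, 3, 2, 1, 0],
  [6, 7, 4, 3, 2, 1, 0, 7, 4, 3, 2, 1, 0, 7, 4, 3, 2, 1, 0, 7, 4, 3, 2, 1, 0, 7, 4, 3, 2, 1, 0, 6, 7, 4, 3, 2, 1, 0, 7, 4, 3, 2, 1, 0, 7, 4, 3, 2, 1, 0, 7, 4, 3, 2, 1, 0, 7, 4, 3, 2, 1, 0],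
  [8, 7, 4, 3, 2, 1, 0, 7, 4, 3, 2, 1, 0, 7, 4, 3, 2, 1, 0, 7, 4, 3, 2, 1, 0, 7, 4, 3, 2, 1, 0, 8, 7, 4, 3, 2, 1, 0, 7, 4, 3, 2, 1, 0, 7, 4, 3, 2, 1, 0, 7, 4, 3, 2, 1, 0, 7, 4, 3, 2, 1, 0, 8, 7, 4, 3, 2, 1, 0, 7, 4, 3, 2, 1, 0, 7, 4, 3, 2, 1, 0, 7, 4, 3, 2, 1, 0, 7, 4, 3, 2, 1, 0],
  [2, 6, 2, 6],
  [3, 6, 3, 6],
  [4, 6, 4, 6],
  [5, 6, 5, 6, 5, 6],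
  [7, 6, 7, 6],
  [7, 4, 3, 2, 1, 0, 7, 4, 3, 2, 1, 0, 7, 4, 3, 2, 1, 0, 7, 4, 3, 2, 1, 0, 7, 4, 3, 2, 1, 0, 6, 7, 4, 3, 2, 1, 0, 7, 4, 3, 2, 1, 0, 7, 4, 3, 2, 1, 0, 7, 4, 3, 2, 1, 0, 7, 4, 3, 2, 1, 0, 6],
  [6, 6],
  [8, 6, 8, 6],
  [2, 8, 2, 8],
  [3, 8, 3, 8],
  [4, 8, 4, 8],
  [5, 8, 5, 8],
  [7, 8, 7, 8, 7, 8],
  [7, 4, 3, 2, 1, 0, 7, 4, 3, 2, 1, 0, 7, 4, 3, 2, 1, 0, 7, 4, 3, 2, 1, 0, 7, 4, 3, 2, 1, 0, 8, 7, 4, 3, 2, 1, 0, 7, 4, 3, 2, 1, 0, 7, 4, 3, 2, 1, 0, 7, 4, 3, 2, 1, 0, 7, 4, 3, 2, 1, 0, 8, 7, 4, 3, 2, 1, 0, 7, 4, 3, 2, 1, 0, 7, 4, 3, 2, 1, 0, 7, 4, 3, 2, 1, 0, 7, 4, 3, 2, 1, 0, 8],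
  [6, 8, 6, 8],
  [8, 8],
  [0, 0],
  [2, 0, 2, 0],
  [3, 0, 3, 0],
  [4, 0, 4, 0],
  [5, 0, 5, 0],
  [6, 0, 6, 0],
  [7, 0, 7, 0],
  [8, 0, 8, 0],
  [7, 4, 3, 2, 1, 0, 7, 4, 3, 2, 1, 0, 7, 4, 3, 2, 1, 0, 7, 4, 3, 2, 1, 0, 7, 4, 3, 2, 1, 0, 0, 7, 4, 3, 2, 1, 0, 7, 4, 3, 2, 1, 0, 7, 4, 3, 2, 1, 0, 7, 4, 3, 2, 1, 0, 7, 4, 3, 2, 1, 0, 0],
  [8, 7, 6, 5, 4, 3, 2, 8, 7, 6, 5, 4, 3, 2, 8, 7, 6, 5, 4, 3, 2, 8, 7, 6, 5, 4, 3, 2, 8, 7, 6, 5, 4, 3, 2, 8, 7, 6, 5, 4, 3, 2, 8, 7, 6, 5, 4, 3, 2, 8, 7, 6, 5, 4, 3, 2, 8, 7, 6, 5, 4, 3, 2],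
  [4, 3, 5, 4, 7, 3, 8, 7, 7, 4, 3, 2, 1, 0, 7, 4, 3, 2, 1, 0, 7, 4, 3, 2, 1, 0, 7, 4, 3, 2, 1, 0, 7, 4, 3, 2, 1, 0, 5, 4, 3, 8, 7, 7, 4, 3, 2, 1, 0, 7, 4, 3, 2, 1, 0, 7, 4, 3, 2, 1, 0, 7, 4, 3, 2, 1, 0, 7, 4, 3, 2, 1, 0, 5, 6, 8, 7, 4, 3, 2, 1, 0, 7, 4, 3, 2, 1, 0, 7, 4, 3, 2, 1, 0, 7, 4, 3, 2, 1, 0, 7, 4, 3, 2, 1, 0, 4, 3, 7, 8, 6, 5, 7, 4, 3, 2, 1, 0, 7, 4, 3, 2, 1, 0, 7, 4, 3, 2, 1, 0, 7, 4, 3, 2, 1, 0, 7, 4, 3, 2, 1, 0],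
  [0, 7, 3, 2, 4, 3, 5, 4, 6, 5, 7, 3, 2, 4, 3, 7, 7, 4, 3, 2, 1, 0, 7, 4, 3, 2, 1, 0, 7, 4, 3, 2, 1, 0, 7, 4, 3, 2, 1, 0, 7, 4, 3, 2, 1, 0, 5, 4, 3, 6, 5, 4, 2, 7, 4, 3, 2, 1, 0, 7, 4, 3, 2, 1, 0, 7, 4, 3, 2, 1, 0, 7, 4, 3, 2, 1, 0, 7, 4, 3, 2, 1, 0, 5, 6, 3, 4, 5, 7, 4, 3, 2, 1, 0, 7, 4, 3, 2, 1, 0, 7, 4, 3, 2, 1, 0, 7, 4, 3, 2, 1, 0, 7, 4, 3, 2, 1, 0],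
  [4, 5, 4, 6, 5, 4, 7, 8, 7, 7, 4, 3, 2, 1, 0, 7, 4, 3, 2, 1, 0, 7, 4, 3, 2, 1, 0, 7, 4, 3, 2, 1, 0, 7, 4, 3, 2, 1, 0, 5, 4, 6, 5, 8, 7, 4, 3, 2, 1, 0, 7, 4, 3, 2, 1, 0, 7, 4, 3, 2, 1, 0, 7, 4, 3, 2, 1, 0, 7, 4, 3, 2, 1, 0, 5, 8, 7, 6, 8, 4, 5, 7, 4, 3, 2, 1, 0, 7, 4, 3, 2, 1, 0, 7, 4, 3, 2, 1, 0, 7, 4, 3, 2, 1, 0, 7, 4, 3, 2, 1, 0, 8, 5, 6, 4, 5, 7, 4, 3, 2, 1, 0, 7, 4, 3, 2, 1, 0, 7, 4, 3, 2, 1, 0, 7, 4, 3, 2, 1, 0, 7, 4, 3, 2, 1, 0]]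

theorem paths_eq : (Cfsg.Agent.Lib.Helper28.TCU6W0Link.relWords.map fun L => pathOf lw (substW sub L)) = paths := by decide +kernel
theorem paths_sub : ∀ P ∈ paths, P ∈ pathsD := by decide +kernel
theorem tp0 : table.relOK pathsD 0 137 = true := by decide +kernel
theorem tp1 : table.relOK pathsD 137 137 = true := by decide +kernel
theorem tp2 : table.relOK pathsD 274 137 = true := by decide +kernel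
theorem tp3 : table.relOK pathsD 411 137 = true := by decide +kernel
theorem tp4 : table.relOK pathsD 548 137 = true := by decide +kernel
theorem tp5 : table.relOK pathsD 685 137 = true := by decide +kernel
theorem tp6 : table.relOK pathsD 822 137 = true := by decide +kernel
theorem tp7 : table.relOK pathsD 959 137 = true := by decide +kernel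
theorem tp8 : table.relOK pathsD 1096 137 = true := by decide +kernel
theorem tp9 : table.relOK pathsD 1233 137 = true := by decide +kernel
theorem tp10 : table.relOK pathsD 1370 137 = true := by decide +kernel
theorem tp11 : table.relOK pathsD 1507 137 = true := by decide +kernel
theorem tp12 : table.relOK pathsD 1644 137 = true := by decide +kernel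
theorem tp13 : table.relOK pathsD 1781 137 = true := by decide +kernel
theorem tp14 : table.relOK pathsD 1918 137 = true := by decide +kernel
theorem tp15 : table.relOK pathsD 2055 137 = true := by decide +kernel
theorem tp16 : table.relOK pathsD 2192 137 = true := by decide +kernel
theorem tp17 : table.relOK pathsD 2329 137 = true := by decide +kernel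
theorem tp18 : table.relOK pathsD 2466 137 = true := by decide +kernel
theorem tp19 : table.relOK pathsD 2603 137 = true := by decide +kernel
theorem tp20 : table.relOK pathsD 2740 137 = true := by decide +kernel
theorem tp21 : table.relOK pathsD 2877 137 = true := by decide +kernel
theorem tp22 : table.relOK pathsD 3014 137 = true := by decide +kernel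
theorem tp23 : table.relOK pathsD 3151 137 = true := by decide +kernel
theorem tp24 : table.relOK pathsD 3288 137 = true := by decide +kernel
theorem tp25 : table.relOK pathsD 3425 85 = true := by decide +kernel

theorem fix : ∀ P ∈ paths, ∀ p, p < table.n → table.walkT P p = p := by
  intro P hP p hp
  have hp' : p < 3510 := hp
  rcases Nat.lt_or_ge p 137 with h0 | h0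
  · exact (Table.relOK_iff pathsD 0 137).mp tp0 p (by omega) (by omega) P (paths_sub P hP)
  rcases Nat.lt_or_ge p 274 with h1 | h1
  · exact (Table.relOK_iff pathsD 137 137).mp tp1 p (by omega) (by omega) P (paths_sub P hP)
  rcases Nat.lt_or_ge p 411 with h2 | h2
  · exact (Table.relOK_iff pathsD 274 137).mp tp2 p (by omega) (by omega) P (paths_sub P hP)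
  rcases Nat.lt_or_ge p 548 with h3 | h3
  · exact (Table.relOK_iff pathsD 411 137).mp tp3 p (by omega) (by omega) P (paths_sub P hP)
  rcases Nat.lt_or_ge p 685 with h4 | h4
  · exact (Table.relOK_iff pathsD 548 137).mp tp4 p (by omega) (by omega) P (paths_sub P hP)
  rcases Nat.lt_or_ge p 822 with h5 | h5
  · exact (Table.relOK_iff pathsD 685 137).mp tp5 p (by omega) (by omega) P (paths_sub P hP)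
  rcases Nat.lt_or_ge p 959 with h6 | h6
  · exact (Table.relOK_iff pathsD 822 137).mp tp6 p (by omega) (by omega) P (paths_sub P hP)
  rcases Nat.lt_or_ge p 1096 with h7 | h7
  · exact (Table.relOK_iff pathsD 959 137).mp tp7 p (by omega) (by omega) P (paths_sub P hP)
  rcases Nat.lt_or_ge p 1233 with h8 | h8
  · exact (Table.relOK_iff pathsD 1096 137).mp tp8 p (by omega) (by omega) P (paths_sub P hP)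
  rcases Nat.lt_or_ge p 1370 with h9 | h9
  · exact (Table.relOK_iff pathsD 1233 137).mp tp9 p (by omega) (by omega) P (paths_sub P hP)
  rcases Nat.lt_or_ge p 1507 with h10 | h10
  · exact (Table.relOK_iff pathsD 1370 137).mp tp10 p (by omega) (by omega) P (paths_sub P hP)
  rcases Nat.lt_or_ge p 1644 with h11 | h11
  · exact (Table.relOK_iff pathsD 1507 137).mp tp11 p (by omega) (by omega) P (paths_sub P hP)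
  rcases Nat.lt_or_ge p 1781 with h12 | h12
  · exact (Table.relOK_iff pathsD 1644 137).mp tp12 p (by omega) (by omega) P (paths_sub P hP)
  rcases Nat.lt_or_ge p 1918 with h13 | h13
  · exact (Table.relOK_iff pathsD 1781 137).mp tp13 p (by omega) (by omega) P (paths_sub P hP)
  rcases Nat.lt_or_ge p 2055 with h14 | h14
  · exact (Table.relOK_iff pathsD 1918 137).mp tp14 p (by omega) (by omega) P (paths_sub P hP)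
  rcases Nat.lt_or_ge p 2192 with h15 | h15
  · exact (Table.relOK_iff pathsD 2055 137).mp tp15 p (by omega) (by omega) P (paths_sub P hP)
  rcases Nat.lt_or_ge p 2329 with h16 | h16
  · exact (Table.relOK_iff pathsD 2192 137).mp tp16 p (by omega) (by omega) P (paths_sub P hP)
  rcases Nat.lt_or_ge p 2466 with h17 | h17
  · exact (Table.relOK_iff pathsD 2329 137).mp tp17 p (by omega) (by omega) P (paths_sub P hP)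
  rcases Nat.lt_or_ge p 2603 with h18 | h18
  · exact (Table.relOK_iff pathsD 2466 137).mp tp18 p (by omega) (by omega) P (paths_sub P hP)
  rcases Nat.lt_or_ge p 2740 with h19 | h19
  · exact (Table.relOK_iff pathsD 2603 137).mp tp19 p (by omega) (by omega) P (paths_sub P hP)
  rcases Nat.lt_or_ge p 2877 with h20 | h20
  · exact (Table.relOK_iff pathsD 2740 137).mp tp20 p (by omega) (by omega) P (paths_sub P hP)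
  rcases Nat.lt_or_ge p 3014 with h21 | h21
  · exact (Table.relOK_iff pathsD 2877 137).mp tp21 p (by omega) (by omega) P (paths_sub P hP)
  rcases Nat.lt_or_ge p 3151 with h22 | h22
  · exact (Table.relOK_iff pathsD 3014 137).mp tp22 p (by omega) (by omega) P (paths_sub P hP)
  rcases Nat.lt_or_ge p 3288 with h23 | h23
  · exact (Table.relOK_iff pathsD 3151 137).mp tp23 p (by omega) (by omega) P (paths_sub P hP)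
  rcases Nat.lt_or_ge p 3425 with h24 | h24
  · exact (Table.relOK_iff pathsD 3288 137).mp tp24 p (by omega) (by omega) P (paths_sub P hP)
  exact (Table.relOK_iff pathsD 3425 85).mp tp25 p (by omega) (by omega) P (paths_sub P hP)

theorem hrel : ∀ L ∈ Cfsg.Agent.Lib.Helper28.TCU6W0Link.relWords, ∀ p, p < table.n → table.walkT (pathOf lw (substW sub L)) p = p := by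
  intro L hL
  apply fix
  rw [← paths_eq]
  exact List.mem_map_of_mem hL

end Cfsg.Agent.Lib.Helper28.TCU6Psi
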