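set_option autoImplicit false

namespace Cfsg.Agent.Lib.Helper28.TCU6W1Data

def cE0 : Nat := 0x1421
def cE1 : Nat := 0x122d
def cE2 : Nat := 0x1884
def cE3 : Nat := 0x1a88
def cE4 : Nat := 0x1c8c
def cE5 : Nat := 0x1e90
def cE6 : Nat := 0x2094
def cE7 : Nat := 0x2298
def cE8 : Nat := 0x249c
def cE9 : Nat := 0x0
def cJ0 : Nat := 0x1000000003130000000000000001
def cJ1 : Nat := 0x20000000000000018
def cJ2 : Nat := 0x2000000003230000000000000004
def cJ3 : Nat := 0x2000000003330000000000000014
def cJ4 : Nat := 0x2000000003430000000000000024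
def cJ5 : Nat := 0x2000000003530000000000000034
def cJ6 : Nat := 0x2000000003630000000000000044
def cJ7 : Nat := 0x2000000003730000000000000054
def cJ8 : Nat := 0x2000000003830000000000000064
def cJ9 : Nat := 0x0
def cP0 : Nat := 0x200400

end Cfsg.Agent.Lib.Helper28.TCU6W1Data
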