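import Cfsg.Agent.Lib.Helper28.TC2Orbit
set_option autoImplicit false
set_option maxRecDepth 100000

namespace Cfsg.Agent.Lib.Helper28.TCU6W2Table
open Cfsg.Agent.Lib.Helper28.TC2Upper Cfsg.Agent.Lib.Helper28.TC2Lower Cfsg.Agent.Lib.Helper28.TC2Orbit

def cT0 : ℕ := 0xcdf75d5b149ca307b9ac5a12a31c8518820
def cT1 : ℕ := 0xdead8a66579d6307b9aa5b0e8498a320820
def cT2 : ℕ := 0xbe758ddab49be30931ae4a968398a410c20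
def cT3 : ℕ := 0xde33aadaf29d1d07c56c6a928398a418440
def cT4 : ℕ := 0xd6ef8cd2b68ca6d7ba0c5a928398a418801
def cT5 : ℕ := 0xdeb38bceb1b3a90649af5a928290e618820
def cT6 : ℕ := 0xdeb38bdab4849b37ae2971d86520a418820
def cR0 : ℕ := 0x2b805c06c01501a02cc0640b106802b819a08d056032c0d60c9024831c04e0c605282900080230210184100000
/-- table chunks -/
def colTT : BT ℕ := (BT.node 3 (BT.node 1 (BT.node 0 (BT.leaf cT0) (BT.leaf cT1)) (BT.node 2 (BT.leaf cT2) (BT.leaf cT3))) (BT.node 5 (BT.node 4 (BT.leaf cT4) (BT.leaf cT5)) (BT.leaf cT6)))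
/-- spanning tree chunks -/
def treeT : BT ℕ := (BT.leaf cR0)
/-- relator paths -/
def relPaths : List (List ℕ) := [[0, 0], [1, 0, 1, 0, 1, 0], [2, 0, 2, 0], [3, 0, 3, 0], [5, 0, 5, 0], [4, 0, 4, 0], [6, 0, 6, 0], [0, 1, 0, 1, 0, 1], [1, 1], [2, 1, 2, 1, 2, 1], [3, 1, 3, 1], [5, 1, 5, 1, 5, 1], [4, 1, 4, 1], [6, 1, 6, 1], [0, 2, 0, 2], [1, 2, 1, 2, 1, 2], [2, 2], [3, 2, 3, 2, 3, 2], [5, 2, 5, 2], [4, 2, 4, 2], [6, 2, 6, 2], [0, 3, 0, 3], [1, 3, 1, 3], [2, 3, 2, 3, 2, 3], [3, 3], [5, 3, 5, 3], [4, 3, 4, 3, 4, 3], [6, 3, 6, 3], [0, 5, 0, 5], [1, 5, 1, 5, 1, 5], [2, 5, 2, 5], [3, 5, 3, 5], [5, 5], [4, 5, 4, 5], [6, 5, 6, 5, 6, 5], [0, 4, 0, 4], [1, 4, 1, 4], [2, 4, 2, 4], [3, 4, 3, 4, 3, 4], [5, 4, 5, 4], [4, 4], [6, 4, 6, 4], [0, 6, 0, 6], [1, 6, 1, 6], [2, 6, 2, 6], [3, 6, 3, 6],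 [5, 6, 5, 6, 5, 6], [4, 6, 4, 6], [6, 6], [6, 5, 4, 3, 2, 1, 0, 6, 5, 4, 3, 2, 1, 0, 6, 5, 4, 3, 2, 1, 0, 6, 5, 4, 3, 2, 1, 0, 6, 5, 4, 3, 2, 1, 0, 6, 5, 4, 3, 2, 1, 0, 6, 5, 4, 3, 2, 1, 0, 6, 5, 4, 3, 2, 1, 0, 6, 5, 4, 3, 2, 1, 0]]
/-- subgroup generator paths -/
def subPaths : List (List ℕ) := [[0], [1], [2], [3], [5], [6]]
/-- the relator paths that are checked directly -/
def chkPaths : List (List ℕ) := [[1, 0, 1, 0, 1, 0], [2, 0, 2, 0], [3, 0, 3, 0], [5, 0, 5, 0], [4, 0, 4, 0], [6, 0, 6, 0], [2, 1, 2, 1, 2, 1], [3, 1, 3, 1], [5, 1, 5, 1, 5, 1], [4, 1, 4, 1], [6, 1, 6, 1], [3, 2, 3, 2, 3, 2], [5, 2, 5, 2], [4, 2, 4, 2], [6, 2, 6, 2], [5, 3, 5, 3], [4, 3, 4, 3, 4, 3], [6, 3, 6, 3], [4, 5, 4, 5], [6, 5, 6, 5, 6, 5], [6, 4, 6, 4], [6, 5, 4, 3, 2, 1, 0, 6, 5, 4, 3, 2, 1, 0, 6,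 5, 4, 3, 2, 1, 0, 6, 5, 4, 3, 2, 1, 0, 6, 5, 4, 3, 2, 1, 0, 6, 5, 4, 3, 2, 1, 0, 6, 5, 4, 3, 2, 1, 0, 6, 5, 4, 3, 2, 1, 0, 6, 5, 4, 3, 2, 1, 0]]
/-- the coset table -/
def table : Table where
  n := 28
  k := 7
  w := 5
  M := 32
  CH := 1024
  NCH := 1
  col := colTT
  inv := (BT.node 3 (BT.node 1 (BT.node 0 (BT.leaf 0) (BT.leaf 1)) (BT.node 2 (BT.leaf 2) (BT.leaf 3))) (BT.node 5 (BT.node 4 (BT.leaf 4) (BT.leaf 5)) (BT.node 6 (BT.leaf 6) (BT.leaf 7))))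
  tw := 13
  TM := 8192
  tree := treeT

end Cfsg.Agent.Lib.Helper28.TCU6W2Table
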