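import Cfsg.Agent.Lib.Helper28.TCU6W3Table
set_option autoImplicit false
set_option maxRecDepth 100000
set_option maxHeartbeats 0

namespace Cfsg.Agent.Lib.Helper28.TCU6W3L1
open Cfsg.Agent.Lib.Helper28.TC2Upper Cfsg.Agent.Lib.Helper28.TC2Lower Cfsg.Agent.Lib.Helper28.TCU6W3Table

theorem rel6 : table.relOK chkPaths 21426 3571 = true := by decide +kernel
theorem rel7 : table.relOK chkPaths 24997 3571 = true := by decide +kernel
theorem rel8 : table.relOK chkPaths 28568 3571 = true := by decide +kernel
theorem rel9 : table.relOK chkPaths 32139 3571 = true := by decide +kernel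
theorem rel10 : table.relOK chkPaths 35710 3571 = true := by decide +kernel
theorem rel11 : table.relOK chkPaths 39281 3571 = true := by decide +kernel

end Cfsg.Agent.Lib.Helper28.TCU6W3L1
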