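import Cfsg.Agent.Lib.Helper28.TCU6W3Table
set_option autoImplicit false
set_option maxRecDepth 100000
set_option maxHeartbeats 0

namespace Cfsg.Agent.Lib.Helper28.TCU6W3L2
open Cfsg.Agent.Lib.Helper28.TC2Upper Cfsg.Agent.Lib.Helper28.TC2Lower Cfsg.Agent.Lib.Helper28.TCU6W3Table

theorem rel12 : table.relOK chkPaths 42852 3571 = true := by decide +kernel
theorem rel13 : table.relOK chkPaths 46423 3571 = true := by decide +kernel
theorem rel14 : table.relOK chkPaths 49994 1846 = true := by decide +kernel

end Cfsg.Agent.Lib.Helper28.TCU6W3L2
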