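import Mathlib
set_option autoImplicit false

/-!
# Verified coset enumeration: the upper bound

A Todd–Coxeter run is recorded as a *static* table of time-stamped facts
* `E v l = (d, r)`: "`γ l • ω v = ω d`", derived at time `r`;
* `Q v = (u, r)`: "`ω v = ω u`", derived at time `r`;
each with a justification that only uses facts of smaller time stamp.  Every fact is
checked on its own (no state), so the check can be split into arbitrarily many pieces.
-/

namespace Cfsg.Agent.Lib.Helper28.TCUpper

/-- balanced lookup tree -/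
inductive BT (α : Type) where
  | leaf : α → BT α
  | node : ℕ → BT α → BT α → BT α

namespace BT
variable {α : Type}

/-- lookup: go left when `j ≤ pivot` -/
noncomputable def look (t : BT α) (j : ℕ) : α :=
  @BT.rec α (fun _ => α) (fun a => a) (fun p _ _ ihl ihr => cond (Nat.ble j p) ihl ihr) t

theorem look_leaf (a : α) (j : ℕ) : look (BT.leaf a) j = a := rfl

theorem look_node (p : ℕ) (l r : BT α) (j : ℕ) :
    look (BT.node p l r) j = cond (Nat.ble j p) (look l j) (look r j) := rfl

/-- all leaves satisfy `P` -/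
def All (P : α → Prop) : BT α → Prop
  | BT.leaf a => P a
  | BT.node _ l r => All P l ∧ All P r

theorem look_of_all {P : α → Prop} : ∀ (t : BT α), All P t → ∀ j, P (look t j)
  | BT.leaf a, h, j => h
  | BT.node p l r, h, j => by
      rw [look_node]
      cases Nat.ble j p
      · exact look_of_all r h.2 j
      · exact look_of_all l h.1 j

theorem look_of_all' {P Q : α → Prop} (h : ∀ a, P a → Q a) : ∀ (t : BT α), All P t → All Q t
  | BT.leaf a, ht => h a ht
  | BT.node _ l r, ht => ⟨look_of_all' h l ht.1, look_of_all' h r ht.2⟩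

/-- Boolean version of `All` -/
def all (f : α → Bool) : BT α → Bool
  | BT.leaf a => f a
  | BT.node _ l r => all f l && all f r

theorem All_of_all {f : α → Bool} {P : α → Prop} (hf : ∀ a, f a = true → P a) :
    ∀ t : BT α, all f t = true → All P t
  | BT.leaf a, h => hf a h
  | BT.node _ l r, h => by
      simp only [all, Bool.and_eq_true] at h
      exact ⟨All_of_all hf l h.1, All_of_all hf r h.2⟩

end BT

/-- read the slot of width `W` (modulus `MW = 2 ^ W`) at position `v` of a packed column -/
noncomputable def slot (W MW col v : ℕ) : ℕ := Nat.mod (Nat.shiftRight col (Nat.mul W v)) MW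

/-- loop: all `i < n` satisfy `f` -/
noncomputable def allLoop (f : ℕ → Bool) (n : ℕ) : Bool :=
  @Nat.rec (fun _ => Bool) true (fun i ih => and (f i) ih) n

theorem allLoop_succ (f : ℕ → Bool) (n : ℕ) : allLoop f (n + 1) = (f n && allLoop f n) := rfl

theorem allLoop_eq_true (f : ℕ → Bool) (n : ℕ) : allLoop f n = true ↔ ∀ i, i < n → f i = true := by
  induction n with
  | zero => simp [allLoop]
  | succ k ih =>
    rw [allLoop_succ, Bool.and_eq_true, ih]
    constructor
    · rintro ⟨h1, h2⟩ i hi
      rcases Nat.lt_succ_iff_lt_or_eq.mp hi with h | h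
      · exact h2 i h
      · rw [h]; exact h1
    · intro h
      exact ⟨h k (Nat.lt_succ_self k), fun i hi => h i (Nat.lt_succ_of_lt hi)⟩

/-- static data of a certificate -/
structure Data where
  /-- number of letters; column `k` is the `Q` column -/
  k : ℕ
  /-- number of nodes -/
  N : ℕ
  /-- width of a fact slot and its modulus -/
  W : ℕ
  MW : ℕ
  /-- modulus of the target part of a slot: slot = target + B * rank -/
  B : ℕ
  /-- fact columns by letter (letter `k` is the `Q` column) -/
  colE : BT ℕ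
  /-- width of a justification slot and its modulus; field modulus -/
  JW : ℕ
  MJ : ℕ
  A : ℕ
  /-- justification columns by letter -/
  colJ : BT ℕ
  /-- parents: slot = parent + B * letter -/
  PW : ℕ
  MP : ℕ
  parC : ℕ
  /-- inverse letter -/
  inv : BT ℕ
  /-- relators: (length, path, inverse path) -/
  rel : BT (ℕ × List ℕ × List ℕ)
  /-- subgroup generators: (length, path, inverse path) -/
  sub : BT (ℕ × List ℕ × List ℕ)
  /-- bit mask of the live nodes -/
  live : ℕ
  /-- fuel for following `Q` chains -/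
  fuel : ℕ

namespace Data
variable (D : Data)

/-- the fact slot of node `v` and letter `l` -/
noncomputable def ent (l v : ℕ) : ℕ := slot D.W D.MW (D.colE.look l) v
/-- target of a fact slot -/
noncomputable def tgt (e : ℕ) : ℕ := Nat.mod e D.B
/-- time stamp of a fact slot (`0` = no fact) -/
noncomputable def rnk (e : ℕ) : ℕ := Nat.div e D.B
/-- the fact exists and is older than `r` -/
noncomputable def okr (r e : ℕ) : Bool := and (Nat.ble 1 (D.rnk e)) (Nat.ble (Nat.succ (D.rnk e)) r)
/-- justification slot -/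
noncomputable def jst (l v : ℕ) : ℕ := slot D.JW D.MJ (D.colJ.look l) v
/-- parent of a node -/
noncomputable def par (v : ℕ) : ℕ := Nat.mod (slot D.PW D.MP D.parC v) D.B
/-- letter by which a node was defined from its parent -/
noncomputable def plet (v : ℕ) : ℕ := Nat.div (slot D.PW D.MP D.parC v) D.B
/-- inverse letter -/
noncomputable def invl (l : ℕ) : ℕ := D.inv.look l

theorem okr_iff (r e : ℕ) : D.okr r e = true ↔ D.rnk e ≠ 0 ∧ D.rnk e < r := by
  unfold okr
  rw [Bool.and_eq_true, Nat.ble_eq, Nat.ble_eq]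
  constructor
  · rintro ⟨h1, h2⟩; exact ⟨by omega, h2⟩
  · rintro ⟨h1, h2⟩; exact ⟨by omega, h2⟩

/-- follow `Q` facts older than `r` -/
noncomputable def nrmr (r : ℕ) (f : ℕ) : ℕ → ℕ :=
  @Nat.rec (fun _ => ℕ → ℕ) (fun v => v)
    (fun _ ih v => cond (D.okr r (D.ent D.k v)) (ih (D.tgt (D.ent D.k v))) v) f

theorem nrmr_zero (r v : ℕ) : D.nrmr r 0 v = v := rfl
theorem nrmr_succ (r f v : ℕ) : D.nrmr r (f + 1) v =
    cond (D.okr r (D.ent D.k v)) (D.nrmr r f (D.tgt (D.ent D.k v))) v := rfl

/-- one step: use the fact at `(p, l)` if older than `r`, then normalise -/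
noncomputable def stepr (r p l : ℕ) : Option ℕ :=
  cond (D.okr r (D.ent l p)) (some (D.nrmr r D.fuel (D.tgt (D.ent l p)))) none

/-- walk the first `n` letters of a path, returning the end node and the remaining path -/
noncomputable def walkN (r : ℕ) (n : ℕ) : List ℕ → ℕ → Option (ℕ × List ℕ) :=
  @Nat.rec (fun _ => List ℕ → ℕ → Option (ℕ × List ℕ)) (fun w p => some (p, w))
    (fun _ ih w p => @List.casesOn ℕ (fun _ => Option (ℕ × List ℕ)) w none
      (fun l ls => @Option.casesOn ℕ (fun _ => Option (ℕ × List ℕ)) (D.stepr r p l) none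
        (fun q => ih ls q))) n

theorem walkN_zero (r : ℕ) (w : List ℕ) (p : ℕ) : D.walkN r 0 w p = some (p, w) := rfl
theorem walkN_succ_nil (r n p : ℕ) : D.walkN r (n + 1) [] p = none := rfl
theorem walkN_succ_cons (r n l : ℕ) (ls : List ℕ) (p : ℕ) :
    D.walkN r (n + 1) (l :: ls) p =
      @Option.casesOn ℕ (fun _ => Option (ℕ × List ℕ)) (D.stepr r p l) none
        (fun q => D.walkN r n ls q) := rfl

/-- `{a, b} = {v, u}` as ordered pairs up to swapping -/
noncomputable def pairok (a b v u : ℕ) : Bool :=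
  or (and (Nat.beq a v) (Nat.beq b u)) (and (Nat.beq a u) (Nat.beq b v))

theorem nbeq_iff (a b : ℕ) : Nat.beq a b = true ↔ a = b :=
  ⟨Nat.eq_of_beq_eq_true, fun h => h ▸ Nat.beq_refl a⟩

theorem pairok_iff (a b v u : ℕ) : pairok a b v u = true ↔ (a = v ∧ b = u) ∨ (a = u ∧ b = v) := by
  unfold pairok
  rw [Bool.or_eq_true, Bool.and_eq_true, Bool.and_eq_true, nbeq_iff, nbeq_iff, nbeq_iff, nbeq_iff]

/-- `stepr` gives exactly `d` -/
noncomputable def stepIs (r a b d : ℕ) : Bool :=
  @Option.casesOn ℕ (fun _ => Bool) (D.stepr r a b) false (fun q => Nat.beq q d)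

theorem stepIs_iff (r a b d : ℕ) : D.stepIs r a b d = true ↔ D.stepr r a b = some d := by
  unfold stepIs
  cases h : D.stepr r a b with
  | none => simp
  | some q => simp

/-- scan justification of an `E` fact `(p, l) ↦ d`: walk `g` letters of the path from `c` to `p`, the next
letter is `l`, and walk the remaining letters backwards from `c` to `d` -/
noncomputable def scanE (r : ℕ) (t : ℕ × List ℕ × List ℕ) (c g p l d : ℕ) : Bool :=
  and (Nat.ble (Nat.succ g) t.1)
    (@Option.casesOn (ℕ × List ℕ) (fun _ => Bool) (D.walkN r g t.2.1 c) false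
      (fun fr => @List.casesOn ℕ (fun _ => Bool) fr.2 false
        (fun lg _ => and (and (Nat.beq fr.1 p) (Nat.beq lg l))
          (@Option.casesOn (ℕ × List ℕ) (fun _ => Bool) (D.walkN r (Nat.sub (Nat.sub t.1 1) g) t.2.2 c) false
            (fun br => Nat.beq br.1 d)))))

/-- scan justification of a `Q` fact `v ↦ u`: a full walk from `c` ends at `f`, and `{f, c} = {v, u}` -/
noncomputable def scanQ (r : ℕ) (t : ℕ × List ℕ × List ℕ) (c v u : ℕ) : Bool :=
  @Option.casesOn (ℕ × List ℕ) (fun _ => Bool) (D.walkN r t.1 t.2.1 c) false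
    (fun fr => pairok fr.1 c v u)

/-- first field of a justification -/
noncomputable def jA (j : ℕ) : ℕ := Nat.mod (Nat.div j 16) D.A
/-- second field of a justification -/
noncomputable def jB (j : ℕ) : ℕ := Nat.mod (Nat.div (Nat.div j 16) D.A) D.A
/-- third field of a justification -/
noncomputable def jC (j : ℕ) : ℕ := Nat.div (Nat.div (Nat.div j 16) D.A) D.A
/-- type of a justification -/
noncomputable def jT (j : ℕ) : ℕ := Nat.mod j 16

/-- check of the `E` fact at `(p, l)` (no fact: nothing to check) -/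
noncomputable def checkE (p l : ℕ) : Bool :=
  let e := D.ent l p
  let r := D.rnk e
  let d := D.tgt e
  let j := D.jst l p
  or (Nat.beq r 0)
  (or (and (Nat.beq (jT j) 3) (D.scanE r (D.rel.look (D.jA j)) (D.jB j) (D.jC j) p l d))
  (or (and (Nat.beq (jT j) 8) (and (and (and (Nat.beq (D.invl (D.jB j)) l) (Nat.ble (Nat.succ (D.jB j)) D.k))
      (D.stepIs r (D.jA j) (D.jB j) p)) (Nat.beq (D.nrmr r D.fuel (D.jA j)) d)))
  (or (and (Nat.beq (jT j) 1) (and (and (Nat.beq (D.par d) p) (Nat.beq (D.plet d) l)) (Nat.ble (Nat.succ p) d)))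
  (or (and (Nat.beq (jT j) 2) (and (and (Nat.beq (D.par p) d) (Nat.beq (D.invl (D.plet p)) l))
      (and (Nat.ble (Nat.succ d) p) (Nat.ble (Nat.succ (D.plet p)) D.k))))
  (or (and (Nat.beq (jT j) 7) (and (and (Nat.beq (D.jB j) l) (Nat.beq (D.nrmr r D.fuel (D.jA j)) p))
      (D.stepIs r (D.jA j) (D.jB j) d)))
  (and (Nat.beq (jT j) 4) (D.scanE r (D.sub.look (D.jA j)) 0 (D.jC j) p l d)))))))

/-- check of the `Q` fact at `v` -/
noncomputable def checkQ (v : ℕ) : Bool :=
  let e := D.ent D.k v
  let r := D.rnk e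
  let u := D.tgt e
  let j := D.jst D.k v
  or (Nat.beq r 0)
  (or (and (Nat.beq (jT j) 9) (and (and (Nat.beq (D.nrmr r D.fuel (D.jA j)) (D.nrmr r D.fuel (D.jB j)))
      (Nat.ble (Nat.succ (D.jC j)) D.k))
      (@Option.casesOn ℕ (fun _ => Bool) (D.stepr r (D.jA j) (D.jC j)) false
        (fun s1 => @Option.casesOn ℕ (fun _ => Bool) (D.stepr r (D.jB j) (D.jC j)) false
          (fun s2 => pairok s1 s2 v u)))))
  (or (and (Nat.beq (jT j) 10) (and (and (Nat.ble (Nat.succ (D.jB j)) D.k) (Nat.ble (Nat.succ (D.invl (D.jB j))) D.k))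
      (@Option.casesOn ℕ (fun _ => Bool) (D.stepr r (D.jA j) (D.jB j)) false
        (fun dd => and (Nat.beq dd (D.nrmr r D.fuel (D.jC j)))
          (@Option.casesOn ℕ (fun _ => Bool) (D.stepr r (D.jC j) (D.invl (D.jB j))) false
            (fun mm => pairok (D.nrmr r D.fuel (D.jA j)) mm v u))))))
  (or (and (Nat.beq (jT j) 5) (D.scanQ r (D.rel.look (D.jA j)) (D.jB j) v u))
  (and (Nat.beq (jT j) 6) (D.scanQ r (D.sub.look (D.jA j)) 0 v u)))))

/-- all facts of node `v` -/
noncomputable def checkNode (v : ℕ) : Bool := and (allLoop (fun l => D.checkE v l) D.k) (D.checkQ v)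

/-- all facts of the nodes `lo, …, lo + n - 1` -/
noncomputable def checkRange (lo n : ℕ) : Bool := allLoop (fun i => D.checkNode (Nat.add lo i)) n

theorem checkRange_iff (lo n : ℕ) :
    D.checkRange lo n = true ↔ ∀ v, lo ≤ v → v < lo + n → D.checkNode v = true := by
  unfold checkRange
  rw [allLoop_eq_true]
  constructor
  · intro h v h1 h2
    have := h (v - lo) (by omega)
    rwa [show Nat.add lo (v - lo) = v by simp only [Nat.add_eq]; omega] at this
  · intro h i hi
    exact h _ (by simp only [Nat.add_eq]; omega) (by simp only [Nat.add_eq]; omega)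

end Data

/-! ### Semantics -/

section Sem
variable {G : Type*} [Group G] {X : Type*} [MulAction G X]

/-- action of a path: the first letter acts first -/
def pathAct (γ : ℕ → G) : List ℕ → X → X
  | [], x => x
  | l :: ls, x => pathAct γ ls (γ l • x)

theorem pathAct_append (γ : ℕ → G) (u v : List ℕ) (x : X) :
    pathAct γ (u ++ v) x = pathAct γ v (pathAct γ u x) := by
  induction u generalizing x with
  | nil => rfl
  | cons l ls ih => exact ih (γ l • x)

/-- the inverse path undoes a path -/
theorem pathAct_inv (γ : ℕ → G) (iv : ℕ → ℕ) (u : List ℕ) (hiv : ∀ l ∈ u, γ (iv l) = (γ l)⁻¹) (x : X) :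
    pathAct γ (u.reverse.map iv) (pathAct γ u x) = x := by
  induction u generalizing x with
  | nil => rfl
  | cons l ls ih =>
    rw [List.reverse_cons, List.map_append, pathAct_append]
    show pathAct γ [iv l] (pathAct γ (ls.reverse.map iv) (pathAct γ ls (γ l • x))) = x
    rw [ih (fun y hy => hiv y (List.mem_cons_of_mem _ hy))]
    show γ (iv l) • γ l • x = x
    rw [hiv l List.mem_cons_self, inv_smul_smul]

variable (D : Data) (γ : ℕ → G) (x0 : X)

/-- the point attached to a node: `ω 0 = x0`, `ω v = γ (plet v) • ω (par v)` -/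
noncomputable def omega (v : ℕ) : X :=
  if h : v ≠ 0 ∧ D.par v < v then γ (D.plet v) • omega (D.par v) else x0
termination_by v
decreasing_by exact h.2

theorem omega_zero : omega D γ x0 0 = x0 := by
  rw [omega]; simp

theorem omega_of_lt {v : ℕ} (h : D.par v < v) :
    omega D γ x0 v = γ (D.plet v) • omega D γ x0 (D.par v) := by
  rw [omega]
  rw [dif_pos ⟨by omega, h⟩]

/-- all facts older than `r` hold -/
structure IH (r : ℕ) : Prop where
  e : ∀ p l, l < D.k → D.rnk (D.ent l p) ≠ 0 → D.rnk (D.ent l p) < r →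
    γ l • omega D γ x0 p = omega D γ x0 (D.tgt (D.ent l p))
  q : ∀ v, D.rnk (D.ent D.k v) ≠ 0 → D.rnk (D.ent D.k v) < r →
    omega D γ x0 v = omega D γ x0 (D.tgt (D.ent D.k v))

variable {D γ x0}

theorem nrmr_sound {r : ℕ} (ih : IH D γ x0 r) (f v : ℕ) :
    omega D γ x0 (D.nrmr r f v) = omega D γ x0 v := by
  induction f generalizing v with
  | zero => rfl
  | succ f hf =>
    rw [Data.nrmr_succ]
    cases h : D.okr r (D.ent D.k v) with
    | false => rfl
    | true =>
      rw [Data.okr_iff] at h
      show omega D γ x0 (D.nrmr r f (D.tgt (D.ent D.k v))) = _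
      rw [hf, ← ih.q v h.1 h.2]

theorem stepr_sound {r : ℕ} (ih : IH D γ x0 r) {p l q : ℕ} (hl : l < D.k)
    (h : D.stepr r p l = some q) : γ l • omega D γ x0 p = omega D γ x0 q := by
  unfold Data.stepr at h
  cases h' : D.okr r (D.ent l p) with
  | false => rw [h'] at h; exact absurd h (by simp)
  | true =>
    rw [h'] at h
    rw [Data.okr_iff] at h'
    have : D.nrmr r D.fuel (D.tgt (D.ent l p)) = q := by simpa using h
    rw [← this, nrmr_sound ih, ih.e p l hl h'.1 h'.2]

theorem walkN_sound {r : ℕ} (ih : IH D γ x0 r) (n : ℕ) :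
    ∀ (w : List ℕ) (p q : ℕ) (rest : List ℕ), (∀ l ∈ w, l < D.k) → D.walkN r n w p = some (q, rest) →
      ∃ pre, w = pre ++ rest ∧ pre.length = n ∧ pathAct γ pre (omega D γ x0 p) = omega D γ x0 q := by
  induction n with
  | zero =>
    intro w p q rest _ h
    rw [Data.walkN_zero] at h
    have h1 : p = q ∧ w = rest := by simpa using h
    exact ⟨[], by simp [h1.2], rfl, by rw [h1.1]; rfl⟩
  | succ n hn =>
    intro w p q rest hw h
    cases w with
    | nil => rw [Data.walkN_succ_nil] at h; exact absurd h (by simp)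
    | cons l ls =>
      rw [Data.walkN_succ_cons] at h
      cases hs : D.stepr r p l with
      | none => rw [hs] at h; exact absurd h (by simp)
      | some q1 =>
        rw [hs] at h
        obtain ⟨pre, h1, h2, h3⟩ := hn ls q1 q rest (fun x hx => hw x (List.mem_cons_of_mem _ hx)) h
        refine ⟨l :: pre, by rw [h1]; rfl, by simp [h2], ?_⟩
        show pathAct γ pre (γ l • omega D γ x0 p) = _
        rw [stepr_sound ih (hw l (List.mem_cons_self)) hs, h3]

/-- well-formedness of a (length, path, inverse path) triple -/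
def wfWord (D : Data) (t : ℕ × List ℕ × List ℕ) : Prop :=
  t.1 = t.2.1.length ∧ t.2.2 = t.2.1.reverse.map D.invl ∧ ∀ l ∈ t.2.1, l < D.k ∧ D.invl l < D.k

noncomputable instance wfWordDec (D : Data) (t : ℕ × List ℕ × List ℕ) : Decidable (wfWord D t) := by
  unfold wfWord; infer_instance

variable (D γ x0) in
/-- hypotheses on the letters, relators and subgroup generators -/
structure Hyp : Prop where
  inv : ∀ l, l < D.k → γ (D.invl l) = (γ l)⁻¹
  rel : BT.All (fun t => wfWord D t ∧ ∀ x : X, pathAct γ t.2.1 x = x) D.rel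
  sub : BT.All (fun t => wfWord D t ∧ pathAct γ t.2.1 x0 = x0) D.sub

theorem scanE_sound (hy : Hyp D γ x0) {r : ℕ} (ih : IH D γ x0 r) {t : ℕ × List ℕ × List ℕ} (ht : wfWord D t)
    {c g p l d : ℕ} (hcyc : pathAct γ t.2.1 (omega D γ x0 c) = omega D γ x0 c)
    (h : D.scanE r t c g p l d = true) : γ l • omega D γ x0 p = omega D γ x0 d := by
  obtain ⟨m, w, wri⟩ := t
  obtain ⟨hm, hwri, hlt⟩ := ht
  simp only at hm hwri hlt hcyc
  unfold Data.scanE at h
  rw [Bool.and_eq_true, Nat.ble_eq] at h
  obtain ⟨hg, h⟩ := h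
  simp only at hg h
  cases h1 : D.walkN r g w c with
  | none => rw [h1] at h; exact absurd h (by simp)
  | some fr =>
    obtain ⟨f, rest⟩ := fr
    rw [h1] at h
    cases rest with
    | nil => exact absurd h (by simp)
    | cons lg rest' =>
      simp only [Bool.and_eq_true, Data.nbeq_iff] at h
      obtain ⟨⟨hf, hlg⟩, h⟩ := h
      cases h2 : D.walkN r (Nat.sub (Nat.sub m 1) g) wri c with
      | none => rw [h2] at h; exact absurd h (by simp)
      | some br =>
        obtain ⟨b, rest2⟩ := br
        rw [h2] at h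
        have hb : b = d := by simpa [Data.nbeq_iff] using h
        obtain ⟨pre, e1, e2, e3⟩ := walkN_sound ih g w c f (lg :: rest') (fun x hx => (hlt x hx).1) h1
        have hwri_lt : ∀ x ∈ wri, x < D.k := by
          intro x hx
          rw [hwri, List.mem_map] at hx
          obtain ⟨y, hy1, hy2⟩ := hx
          rw [← hy2]
          exact (hlt y (List.mem_reverse.mp hy1)).2
        obtain ⟨pre2, f1, f2, f3⟩ := walkN_sound ih _ wri c b rest2 hwri_lt h2
        -- identify pre2
        have hw2 : wri = rest'.reverse.map D.invl ++ ([D.invl lg] ++ pre.reverse.map D.invl) := by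
          rw [hwri, e1]; simp
        have hlen : (rest'.reverse.map D.invl).length = pre2.length := by
          rw [f2, List.length_map, List.length_reverse]
          have : m = pre.length + (rest'.length + 1) := by rw [hm, e1]; simp
          simp only [Nat.sub_eq]
          omega
        have hpre2 : pre2 = rest'.reverse.map D.invl := by
          have := List.append_inj (hw2.symm.trans f1) hlen
          exact this.1.symm
        rw [e1, pathAct_append] at hcyc
        have hc2 : pathAct γ rest' (γ lg • omega D γ x0 f) = omega D γ x0 c := by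
          rw [← e3]; exact hcyc
        have hrest : ∀ y ∈ rest', γ (D.invl y) = (γ y)⁻¹ := by
          intro y hy'
          exact hy.inv y (hlt y (by rw [e1]; simp [hy'])).1
        rw [hpre2, ← hc2, pathAct_inv γ D.invl rest' hrest] at f3
        rw [← hf, ← hlg, ← hb, f3]

theorem scanQ_sound {r : ℕ} (ih : IH D γ x0 r) {t : ℕ × List ℕ × List ℕ} (ht : wfWord D t)
    {c v u : ℕ} (hcyc : pathAct γ t.2.1 (omega D γ x0 c) = omega D γ x0 c)
    (h : D.scanQ r t c v u = true) : omega D γ x0 v = omega D γ x0 u := by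
  obtain ⟨m, w, wri⟩ := t
  obtain ⟨hm, _, hlt⟩ := ht
  simp only at hm hlt hcyc
  unfold Data.scanQ at h
  simp only at h
  cases h1 : D.walkN r m w c with
  | none => rw [h1] at h; exact absurd h (by simp)
  | some fr =>
    obtain ⟨f, rest⟩ := fr
    rw [h1] at h
    simp only [Data.pairok_iff] at h
    obtain ⟨pre, e1, e2, e3⟩ := walkN_sound ih m w c f rest (fun x hx => (hlt x hx).1) h1
    have hrest : rest = [] := by
      have : w.length = pre.length + rest.length := by rw [e1]; simp
      have : rest.length = 0 := by omega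
      exact List.length_eq_zero_iff.mp this
    rw [hrest, List.append_nil] at e1
    rw [← e1, hcyc] at e3
    rcases h with ⟨h1, h2⟩ | ⟨h1, h2⟩
    · rw [← h1, ← h2, e3]
    · rw [← h1, ← h2, e3]

theorem checkE_sound (hy : Hyp D γ x0) {p l : ℕ} (hl : l < D.k)
    (ih : IH D γ x0 (D.rnk (D.ent l p))) (h : D.checkE p l = true) (hr : D.rnk (D.ent l p) ≠ 0) :
    γ l • omega D γ x0 p = omega D γ x0 (D.tgt (D.ent l p)) := by
  unfold Data.checkE at h
  simp only [Bool.or_eq_true, Bool.and_eq_true, Data.nbeq_iff, Nat.ble_eq, Data.stepIs_iff] at h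
  generalize D.jA (D.jst l p) = a at h
  generalize D.jB (D.jst l p) = b at h
  generalize D.jC (D.jst l p) = c at h
  generalize Data.jT (D.jst l p) = ty at h
  generalize D.tgt (D.ent l p) = d at h ⊢
  generalize D.rnk (D.ent l p) = r at h ih hr
  rcases h with h | h | h | h | h | h | h
  · exact absurd h hr
  · obtain ⟨-, h⟩ := h
    have hw := BT.look_of_all D.rel hy.rel a
    exact scanE_sound hy ih hw.1 (hw.2 _) h
  · obtain ⟨-, ⟨⟨h1, h2⟩, h3⟩, h4⟩ := h
    have e1 := stepr_sound ih (show b < D.k from h2) h3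
    have e2 := nrmr_sound ih D.fuel a
    rw [h4] at e2
    rw [e2, ← e1, ← h1, hy.inv _ h2, inv_smul_smul]
  · obtain ⟨-, ⟨h1, h2⟩, h3⟩ := h
    have : D.par d < d := by rw [h1]; exact h3
    rw [omega_of_lt D γ x0 this, h1, h2]
  · obtain ⟨-, ⟨h1, h2⟩, h3, h4⟩ := h
    have : D.par p < p := by rw [h1]; exact h3
    rw [omega_of_lt D γ x0 this, h1, ← h2, hy.inv _ h4, inv_smul_smul]
  · obtain ⟨-, ⟨h1, h2⟩, h3⟩ := h
    have e1 := stepr_sound ih (show b < D.k by rw [h1]; exact hl) h3
    have e2 := nrmr_sound ih D.fuel a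
    rw [h2] at e2
    rw [e2, ← h1, e1]
  · obtain ⟨-, h⟩ := h
    have hw := BT.look_of_all D.sub hy.sub a
    refine scanE_sound hy ih hw.1 ?_ h
    rw [omega_zero]; exact hw.2

theorem checkQ_sound (hy : Hyp D γ x0) {v : ℕ}
    (ih : IH D γ x0 (D.rnk (D.ent D.k v))) (h : D.checkQ v = true) (hr : D.rnk (D.ent D.k v) ≠ 0) :
    omega D γ x0 v = omega D γ x0 (D.tgt (D.ent D.k v)) := by
  unfold Data.checkQ at h
  simp only [Bool.or_eq_true, Bool.and_eq_true, Data.nbeq_iff, Nat.ble_eq] at h
  generalize D.jA (D.jst D.k v) = a at h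
  generalize D.jB (D.jst D.k v) = b at h
  generalize D.jC (D.jst D.k v) = c at h
  generalize Data.jT (D.jst D.k v) = ty at h
  generalize D.tgt (D.ent D.k v) = u at h ⊢
  generalize D.rnk (D.ent D.k v) = r at h ih hr
  rcases h with h | h | h | h | h
  · exact absurd h hr
  · obtain ⟨-, ⟨h1, h2⟩, h3⟩ := h
    cases hs1 : D.stepr r a c with
    | none => rw [hs1] at h3; exact absurd h3 (by simp)
    | some s1 =>
      rw [hs1] at h3
      cases hs2 : D.stepr r b c with
      | none => rw [hs2] at h3; exact absurd h3 (by simp)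
      | some s2 =>
        rw [hs2] at h3
        simp only [Data.pairok_iff] at h3
        have e1 := stepr_sound ih (show c < D.k from h2) hs1
        have e2 := stepr_sound ih (show c < D.k from h2) hs2
        have e3 := nrmr_sound ih D.fuel a
        have e4 := nrmr_sound ih D.fuel b
        rw [h1, e4] at e3
        rw [← e3, e2] at e1
        rcases h3 with ⟨a1, a2⟩ | ⟨a1, a2⟩
        · rw [← a1, ← a2, e1]
        · rw [← a1, ← a2, e1]
  · obtain ⟨-, ⟨h1, h2⟩, h3⟩ := h
    cases hs1 : D.stepr r a b with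
    | none => rw [hs1] at h3; exact absurd h3 (by simp)
    | some dd =>
      rw [hs1] at h3
      simp only [Bool.and_eq_true, Data.nbeq_iff] at h3
      obtain ⟨h4, h3⟩ := h3
      cases hs2 : D.stepr r c (D.invl b) with
      | none => rw [hs2] at h3; exact absurd h3 (by simp)
      | some mm =>
        rw [hs2] at h3
        simp only [Data.pairok_iff] at h3
        have e1 := stepr_sound ih (show b < D.k from h1) hs1
        have e2 := stepr_sound ih (show D.invl b < D.k from h2) hs2
        have e3 := nrmr_sound ih D.fuel a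
        have e4 := nrmr_sound ih D.fuel c
        rw [← h4, ← e1] at e4
        rw [← e4, hy.inv _ h1, inv_smul_smul, ← e3] at e2
        rcases h3 with ⟨a1, a2⟩ | ⟨a1, a2⟩
        · rw [← a1, ← a2, e2]
        · rw [← a1, ← a2, e2]
  · obtain ⟨-, h⟩ := h
    have hw := BT.look_of_all D.rel hy.rel a
    exact scanQ_sound ih hw.1 (hw.2 _) h
  · obtain ⟨-, h⟩ := h
    have hw := BT.look_of_all D.sub hy.sub a
    refine scanQ_sound ih hw.1 ?_ h
    rw [omega_zero]; exact hw.2

/-- all facts hold, provided each of them passes its check -/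
theorem all_hold (hy : Hyp D γ x0)
    (hE : ∀ p l, l < D.k → D.rnk (D.ent l p) ≠ 0 → D.checkE p l = true)
    (hQ : ∀ v, D.rnk (D.ent D.k v) ≠ 0 → D.checkQ v = true) : ∀ r, IH D γ x0 r := by
  intro r
  induction r with
  | zero => exact ⟨fun _ _ _ _ h => absurd h (Nat.not_lt_zero _), fun _ _ h => absurd h (Nat.not_lt_zero _)⟩
  | succ r ih =>
    have mono : ∀ s, s ≤ r → IH D γ x0 s := fun s hs =>
      ⟨fun p l hl h1 h2 => ih.e p l hl h1 (lt_of_lt_of_le h2 hs),
       fun v h1 h2 => ih.q v h1 (lt_of_lt_of_le h2 hs)⟩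
    constructor
    · intro p l hl h1 h2
      exact checkE_sound hy hl (mono _ (Nat.lt_succ_iff.mp h2)) (hE p l hl h1) h1
    · intro v h1 h2
      exact checkQ_sound hy (mono _ (Nat.lt_succ_iff.mp h2)) (hQ v h1) h1

end Sem

/-! ### Bounds, the final check and the cover -/

/-- loop: sum of `f i` over `i < n` -/
noncomputable def sumLoop (f : ℕ → ℕ) (n : ℕ) : ℕ :=
  @Nat.rec (fun _ => ℕ) 0 (fun i ih => Nat.add (f i) ih) n

theorem sumLoop_succ (f : ℕ → ℕ) (n : ℕ) : sumLoop f (n + 1) = f n + sumLoop f n := rfl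

theorem sumLoop_eq (f : ℕ → ℕ) (n : ℕ) : sumLoop f n = ∑ i ∈ Finset.range n, f i := by
  induction n with
  | zero => rfl
  | succ k ih => rw [Finset.sum_range_succ, ← ih, sumLoop_succ, add_comm]

theorem slot_eq_zero {W MW col N v : ℕ} (h : col < 2 ^ (W * N)) (hv : N ≤ v) : slot W MW col v = 0 := by
  unfold slot
  have h1 : Nat.shiftRight col (Nat.mul W v) = 0 := by
    show col >>> (W * v) = 0
    rw [Nat.shiftRight_eq_div_pow]
    apply Nat.div_eq_of_lt
    exact lt_of_lt_of_le h (Nat.pow_le_pow_right (by norm_num) (Nat.mul_le_mul_left W hv))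
  rw [h1]
  exact Nat.zero_mod MW

namespace Data
variable (D : Data)

/-- all fact columns fit into `N` slots -/
noncomputable def boundsOK : Bool :=
  BT.all (fun col => Nat.ble (Nat.succ col) (Nat.shiftLeft 1 (Nat.mul D.W D.N))) D.colE

theorem rnk_ent_eq_zero (hb : D.boundsOK = true) {v : ℕ} (hv : D.N ≤ v) (l : ℕ) :
    D.rnk (D.ent l v) = 0 := by
  have hall : BT.All (fun col => col < 2 ^ (D.W * D.N)) D.colE := by
    refine BT.All_of_all (f := fun col => Nat.ble (Nat.succ col) (Nat.shiftLeft 1 (Nat.mul D.W D.N))) ?_ _ hb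
    intro col hc
    rw [Nat.ble_eq] at hc
    have : Nat.shiftLeft 1 (Nat.mul D.W D.N) = 2 ^ (D.W * D.N) := by
      show 1 <<< (D.W * D.N) = _
      rw [Nat.one_shiftLeft]
    rw [this] at hc
    exact hc
  have := BT.look_of_all D.colE hall l
  unfold rnk ent
  rw [slot_eq_zero this hv]
  exact Nat.zero_div _

/-- the live nodes have complete rows leading to live nodes -/
noncomputable def finalOK : Bool :=
  and (Nat.testBit D.live 0) (and (Nat.ble 1 D.N)
    (allLoop (fun v => cond (Nat.testBit D.live v)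
      (allLoop (fun l => and (Nat.ble 1 (D.rnk (D.ent l v)))
        (and (Nat.testBit D.live (D.nrmr D.MW D.fuel (D.tgt (D.ent l v))))
             (Nat.ble (Nat.succ (D.nrmr D.MW D.fuel (D.tgt (D.ent l v)))) D.N))) D.k) true) D.N))

/-- number of live nodes -/
noncomputable def countLive : ℕ := sumLoop (fun v => cond (Nat.testBit D.live v) 1 0) D.N

end Data

section Cover
variable {G : Type*} [Group G] {X : Type*} [MulAction G X] {D : Data} {γ : ℕ → G} {x0 : X}

theorem cover (hall : ∀ r, IH D γ x0 r) (hfin : D.finalOK = true) (g : G)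
    (hg : g ∈ Submonoid.closure {g : G | ∃ l, l < D.k ∧ g = γ l}) :
    ∃ v, v < D.N ∧ D.live.testBit v = true ∧ g • x0 = omega D γ x0 v := by
  unfold Data.finalOK at hfin
  rw [Bool.and_eq_true, Bool.and_eq_true, Nat.ble_eq, allLoop_eq_true] at hfin
  obtain ⟨h0, hN, hrows⟩ := hfin
  induction hg using Submonoid.closure_induction_left with
  | one => exact ⟨0, hN, h0, by rw [one_smul, omega_zero]⟩
  | mul_left x hx y _ ihy =>
    obtain ⟨l, hl, rfl⟩ := hx
    obtain ⟨v, hv, hlive, hy⟩ := ihy
    have hrow := hrows v hv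
    rw [hlive] at hrow
    simp only [cond_true] at hrow
    rw [allLoop_eq_true] at hrow
    have := hrow l hl
    rw [Bool.and_eq_true, Bool.and_eq_true, Nat.ble_eq, Nat.ble_eq] at this
    obtain ⟨h1, h2, h3⟩ := this
    refine ⟨_, h3, h2, ?_⟩
    rw [mul_smul, hy, nrmr_sound (hall D.MW)]
    exact (hall (D.rnk (D.ent l v) + 1)).e v l hl (by omega) (Nat.lt_succ_self _)

theorem card_le_countLive
    (hcov : ∀ x : X, ∃ v, v < D.N ∧ D.live.testBit v = true ∧ x = omega D γ x0 v) :
    Nat.card X ≤ D.countLive := by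
  classical
  let s : Finset ℕ := (Finset.range D.N).filter (fun v => D.live.testBit v = true)
  have hs : s.card = D.countLive := by
    unfold Data.countLive
    rw [sumLoop_eq, Finset.card_filter]
    apply Finset.sum_congr rfl
    intro v _
    cases D.live.testBit v <;> simp
  have hsurj : Function.Surjective (fun v : s => omega D γ x0 v.1) := by
    intro x
    obtain ⟨v, hv, hl, hx⟩ := hcov x
    exact ⟨⟨v, by simp [s, hv, hl]⟩, hx.symm⟩
  have h1 := Nat.card_le_card_of_surjective _ hsurj
  have h2 : Nat.card s = s.card := by rw [Nat.card_eq_fintype_card, Fintype.card_coe]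
  rw [h2, hs] at h1
  exact h1

theorem finite_of_cover
    (hcov : ∀ x : X, ∃ v, v < D.N ∧ D.live.testBit v = true ∧ x = omega D γ x0 v) : Finite X := by
  classical
  have hsurj : Function.Surjective (fun v : Fin D.N => omega D γ x0 v.1) := by
    intro x
    obtain ⟨v, hv, _, hx⟩ := hcov x
    exact ⟨⟨v, hv⟩, hx.symm⟩
  exact Finite.of_surjective _ hsurj

end Cover

end Cfsg.Agent.Lib.Helper28.TCUpper
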