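import Mathlib

/-!
S5641 (helper8's market), Stage I, leaf I6i `even_card_of_quadratic` (helper28): a matrix killed by a quadratic polynomial
without roots lives in even dimension.  Pure linear algebra: a `T`-invariant subspace of even dimension which is not
everything can be enlarged by a `T`-invariant plane `span {v, T v}`.
-/

set_option autoImplicit false
set_option linter.unusedSectionVars false
set_option linter.unusedVariables false

namespace Cfsg.Agent.Lib.Helper28.TWLeaf

open Module

section quad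
variable {F : Type*} [Field F] {V : Type*} [AddCommGroup V] [Module F V]

/-- no eigenvectors -/
lemma quad_no_eigen (T : V →ₗ[F] V) (ν τ : F)
    (hno : ∀ l : F, ν * l ^ 2 - τ * l + 1 ≠ 0) (hT : ∀ v, ν • T (T v) - τ • T v + v = 0)
    {v : V} {l : F} (hv : T v = l • v) : v = 0 := by
  have h := hT v
  rw [hv, map_smul, hv, smul_smul, smul_smul, smul_smul] at h
  have h2 : (ν * l * l - τ * l + 1) • v = 0 := by
    rw [add_smul, sub_smul, one_smul]
    exact h
  rcases smul_eq_zero.mp h2 with h3 | h3
  · exact absurd (by rw [← h3]; ring) (hno l)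
  · exact h3

/-- the quadratic form `ν a² + τ a b + b²` has no non-trivial zero -/
lemma quad_form_ne_zero (ν τ : F) (hν : ν ≠ 0) (hno : ∀ l : F, ν * l ^ 2 - τ * l + 1 ≠ 0) {a b : F}
    (hab : a ≠ 0 ∨ b ≠ 0) : ν * a ^ 2 + τ * a * b + b ^ 2 ≠ 0 := by
  by_cases hb : b = 0
  · subst hb
    have ha : a ≠ 0 := by
      rcases hab with h | h
      · exact h
      · exact absurd rfl h
    intro h
    have h0 : ν * a ^ 2 = 0 := by linear_combination h
    rcases mul_eq_zero.mp h0 with h1 | h1
    · exact hν h1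
    · exact ha ((pow_eq_zero_iff (two_ne_zero)).mp h1)
  · intro h
    apply hno (-(a / b))
    field_simp
    linear_combination h

/-- `T² v` in terms of `v`, `T v` -/
lemma quad_TT (T : V →ₗ[F] V) (ν τ : F) (hν : ν ≠ 0) (hT : ∀ v, ν • T (T v) - τ • T v + v = 0) (v : V) :
    T (T v) = (ν⁻¹ * τ) • T v - ν⁻¹ • v := by
  have h := hT v
  have h1 : ν • T (T v) = τ • T v - v := by
    have : ν • T (T v) = (ν • T (T v) - τ • T v + v) + (τ • T v - v) := by abel
    rw [this, h, zero_add]
  calc T (T v) = ν⁻¹ • (ν • T (T v)) := by rw [smul_smul, inv_mul_cancel₀ hν, one_smul]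
    _ = (ν⁻¹ * τ) • T v - ν⁻¹ • v := by rw [h1, smul_sub, smul_smul]

/-- the enlargement step -/
lemma quad_step [FiniteDimensional F V] (T : V →ₗ[F] V) (ν τ : F) (hν : ν ≠ 0)
    (hno : ∀ l : F, ν * l ^ 2 - τ * l + 1 ≠ 0) (hT : ∀ v, ν • T (T v) - τ • T v + v = 0)
    (W : Submodule F V) (hW : ∀ w ∈ W, T w ∈ W) {v : V} (hv : v ∉ W) :
    ∃ W' : Submodule F V, (∀ w ∈ W', T w ∈ W') ∧ finrank F W' = finrank F W + 2 := by
  have hv0 : v ≠ 0 := fun h => hv (h ▸ W.zero_mem)
  set P : Submodule F V := Submodule.span F {v, T v} with hP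
  have hvP : v ∈ P := Submodule.subset_span (Set.mem_insert _ _)
  have hTvP : T v ∈ P := Submodule.subset_span (Set.mem_insert_of_mem _ rfl)
  have hPinv : ∀ w ∈ P, T w ∈ P := by
    intro w hw
    obtain ⟨a, b, rfl⟩ := Submodule.mem_span_pair.mp hw
    rw [map_add, map_smul, map_smul, quad_TT T ν τ hν hT v]
    exact P.add_mem (P.smul_mem _ hTvP) (P.smul_mem _ (P.sub_mem (P.smul_mem _ hTvP) (P.smul_mem _ hvP)))
  have hli : LinearIndependent F ![v, T v] := by
    rw [LinearIndependent.pair_iff]
    intro s t hst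
    by_cases ht : t = 0
    · subst ht
      rw [zero_smul, add_zero] at hst
      rcases smul_eq_zero.mp hst with h | h
      · exact ⟨h, rfl⟩
      · exact absurd h hv0
    · exfalso
      apply hv0
      apply quad_no_eigen T ν τ hno hT (l := -(t⁻¹ * s))
      have h1 : t • T v = -(s • v) := by
        have : t • T v = (s • v + t • T v) - s • v := by abel
        rw [this, hst, zero_sub]
      calc T v = t⁻¹ • (t • T v) := by rw [smul_smul, inv_mul_cancel₀ ht, one_smul]
        _ = (-(t⁻¹ * s)) • v := by rw [h1, smul_neg, smul_smul, neg_smul]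
  have hPfr : finrank F P = 2 := by
    have h := finrank_span_eq_card hli
    rw [Fintype.card_fin] at h
    have hr : Set.range ![v, T v] = {v, T v} := by
      ext x
      simp only [Set.mem_range, Set.mem_insert_iff, Set.mem_singleton_iff]
      constructor
      · rintro ⟨i, rfl⟩
        fin_cases i
        · left; rfl
        · right; rfl
      · rintro (rfl | rfl)
        · exact ⟨0, rfl⟩
        · exact ⟨1, rfl⟩
    rw [hr] at h
    exact h
  have hdisj : W ⊓ P = ⊥ := by
    rw [eq_bot_iff]
    rintro x ⟨hxW, hxP⟩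
    rw [Submodule.mem_bot]
    by_contra hx0
    obtain ⟨a, b, hab⟩ := Submodule.mem_span_pair.mp hxP
    have hab0 : a ≠ 0 ∨ b ≠ 0 := by
      by_contra hcon
      push Not at hcon
      apply hx0
      rw [← hab, hcon.1, hcon.2, zero_smul, zero_smul, add_zero]
    have hδ := quad_form_ne_zero ν τ hν hno hab0
    have hTx : T x = (-(ν⁻¹ * b)) • v + (a + ν⁻¹ * τ * b) • T v := by
      rw [← hab, map_add, map_smul, map_smul, quad_TT T ν τ hν hT v]
      module
    have hTxW : T x ∈ W := hW x hxW
    -- solve for `v`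
    have key : (ν * a ^ 2 + τ * a * b + b ^ 2) • v = (ν * a + τ * b) • x - (ν * b) • T x := by
      rw [hTx, ← hab]
      simp only [smul_add, smul_smul, neg_mul, mul_neg]
      have e1 : ν * b * (ν⁻¹ * b) = b ^ 2 := by field_simp
      have e2 : ν * b * (a + ν⁻¹ * τ * b) = ν * b * a + τ * b * b := by field_simp
      rw [e1, e2]
      module
    apply hv
    have h1 : (ν * a ^ 2 + τ * a * b + b ^ 2) • v ∈ W := by
      rw [key]
      exact W.sub_mem (W.smul_mem _ hxW) (W.smul_mem _ hTxW)
    have h2 := W.smul_mem (ν * a ^ 2 + τ * a * b + b ^ 2)⁻¹ h1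
    rwa [smul_smul, inv_mul_cancel₀ hδ, one_smul] at h2
  refine ⟨W ⊔ P, ?_, ?_⟩
  · intro w hw
    obtain ⟨w1, hw1, w2, hw2, rfl⟩ := Submodule.mem_sup.mp hw
    rw [map_add]
    exact Submodule.add_mem _ (Submodule.mem_sup_left (hW w1 hw1)) (Submodule.mem_sup_right (hPinv w2 hw2))
  · have h := Submodule.finrank_sup_add_finrank_inf_eq W P
    rw [hdisj, finrank_bot, add_zero, hPfr] at h
    exact h

/-- a linear map killed by a quadratic polynomial without roots: the dimension is even -/
theorem quad_even [FiniteDimensional F V] (T : V →ₗ[F] V) (ν τ : F) (hν : ν ≠ 0)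
    (hno : ∀ l : F, ν * l ^ 2 - τ * l + 1 ≠ 0) (hT : ∀ v, ν • T (T v) - τ • T v + v = 0) :
    Even (finrank F V) := by
  have main : ∀ n : ℕ, ∀ W : Submodule F V, (∀ w ∈ W, T w ∈ W) → Even (finrank F W) →
      finrank F V - finrank F W = n → Even (finrank F V) := by
    intro n
    induction n using Nat.strong_induction_on with
    | _ n ih =>
      intro W hW hev hn
      by_cases htop : W = ⊤
      · rw [htop, finrank_top] at hev
        exact hev
      · obtain ⟨v, hv⟩ : ∃ v : V, v ∉ W := by
          by_contra hcon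
          push Not at hcon
          exact htop (eq_top_iff.mpr fun x _ => hcon x)
        obtain ⟨W', hW', hfr⟩ := quad_step T ν τ hν hno hT W hW hv
        have hle := Submodule.finrank_le W'
        refine ih (finrank F V - finrank F W') (by omega) W' hW' ?_ rfl
        rw [hfr]
        obtain ⟨r, hr⟩ := hev
        exact ⟨r + 1, by omega⟩
  exact main _ ⊥ (fun w hw => by rw [(Submodule.mem_bot F).mp hw, map_zero]; exact Submodule.zero_mem _)
    (by rw [finrank_bot]; exact ⟨0, rfl⟩) rfl

end quad

/-- I6i (exact signature of `notes/S5641_I_leaves.lean`) -/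
theorem even_card_of_quadratic {F : Type*} [Field F] [Fintype F] {κ : Type*} [Fintype κ] [DecidableEq κ]
    (γ : Matrix κ κ F) (ν τ : F) (hν : ν ≠ 0)
    (hno : ∀ l : F, ν * l ^ 2 - τ * l + 1 ≠ 0) (h : ν • (γ * γ) - τ • γ + 1 = 0) :
    Even (Fintype.card κ) := by
  have hT : ∀ v : κ → F, ν • Matrix.toLin' γ (Matrix.toLin' γ v) - τ • Matrix.toLin' γ v + v = 0 := by
    intro v
    have h1 := congrArg (fun M : Matrix κ κ F => M.mulVec v) h
    simp only [Matrix.add_mulVec, Matrix.sub_mulVec, Matrix.smul_mulVec, Matrix.one_mulVec,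
      Matrix.zero_mulVec, ← Matrix.mulVec_mulVec] at h1
    rw [Matrix.toLin'_apply, Matrix.toLin'_apply]
    exact h1
  have := quad_even (Matrix.toLin' γ) ν τ hν hno hT
  rwa [Module.finrank_fintype_fun_eq_card] at this

end Cfsg.Agent.Lib.Helper28.TWLeaf
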