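import Mathlib
import Cfsg.Agent.Lib.Helper8.TW.Defs
import Cfsg.Agent.Lib.Helper22.TWExtBasic
import Cfsg.Agent.Lib.Helper22.TWExtMore
import Cfsg.Agent.Lib.Helper26.TWFibA
import Cfsg.Agent.Lib.Helper26.TWFibB
import Cfsg.Agent.Lib.Helper6.TWT1

/-!
S5641 (helper8's market), Stage I, leaf I6j (helper28): the end of (I6).
-/

set_option autoImplicit false
set_option linter.unusedSectionVars false
set_option linter.unusedVariables false

namespace Cfsg.Agent.Lib.Helper28.TWLeaf
open Matrix Module Cfsg.Geo Cfsg.Agent.Lib.Helper18.AschA89 Cfsg.Agent.Lib.Helper8.TW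

variable {F : Type*} [Field F] [Fintype F] {t m : ℕ}

lemma tens_sub_right (i : Fin (t + 1)) (b : Idx t m → F) (a a' : Fin m → F) :
    tens i b (a - a') = tens i b a - tens i b a' := by
  funext x
  simp only [tens, Pi.sub_apply]
  ring

/-- I6j (exact signature of `notes/S5641_I_leaves.lean`) -/
theorem I6j (hm : 3 ≤ m) (r₁ r₁' : RD (t + 1) m F) (hi : r₁'.i = r₁.i) (hy : r₁'.y = r₁.y)
    (hη : ¬ ∃ a : F, r₁'.η = a • r₁.η) (U : Submodule F (Idx (t + 1) m → F))
    (hWU : r₁.W ≤ U) (hUdim : Module.finrank F U = 2 * m ^ t)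
    (hthin : ∀ Y : Submodule F (Fin m → F), Module.finrank F Y ≤ 2 → ¬ U ≤ fib r₁.i Y)
    (h : GL (Idx (t + 1) m) F) (α' : Matrix (Fin m) (Fin m) F)
    (hh : (h : Matrix (Idx (t + 1) m) (Idx (t + 1) m) F) = slot m (t + 1) r₁.i α')
    (hT : conjG h r₁.grp = r₁'.grp) (hU : ∀ v, mv h v - v ∈ U) : False := by
  classical
  set i := r₁.i with hi_def
  set y := r₁.y with hy_def
  have hy0 : y ≠ 0 := r₁.hy
  have hWy : Wf i y ≤ U := hWU
  -- Step 1: `tens i b ((α' - 1) a₀) ∈ U`
  have h1 : ∀ (b : Idx t m → F) (a₀ : Fin m → F), tens i b ((α' - 1) *ᵥ a₀) ∈ U := by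
    intro b a₀
    have := hU (tens i b a₀)
    unfold mv at this
    rw [hh, Cfsg.Agent.Lib.Helper22.TWLeaf.slot_mulVec_tens, ← tens_sub_right] at this
    rwa [Matrix.sub_mulVec, Matrix.one_mulVec]
  -- Step 2: the range of `α' - 1` lies in `F y`
  have h2 : ∀ a₀ : Fin m → F, (α' - 1) *ᵥ a₀ ∈ Submodule.span F {y} := by
    intro a₀
    by_contra hcon
    set a₁ := (α' - 1) *ᵥ a₀ with ha₁
    have ha₁0 : a₁ ≠ 0 := by
      intro h0
      apply hcon
      rw [h0]
      exact Submodule.zero_mem _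
    set Y : Submodule F (Fin m → F) := Submodule.span F {y} ⊔ Submodule.span F {a₁} with hY
    have hWa : Wf i a₁ ≤ U := by
      intro v hv
      obtain ⟨b, rfl⟩ := (Cfsg.Agent.Lib.Helper22.TWLeaf.mem_Wf_iff_tens i a₁ ha₁0 v).mp hv
      exact h1 b a₀
    have hfibY : fib i Y ≤ U := by
      rw [hY, Cfsg.Agent.Lib.Helper26.TWLeaf.fib_sup]
      exact sup_le hWy hWa
    have hYle : finrank F Y ≤ 2 := by
      have := Submodule.finrank_add_le_finrank_add_finrank (Submodule.span F {y}) (Submodule.span F {a₁})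
      rw [finrank_span_singleton hy0, finrank_span_singleton ha₁0] at this
      exact this
    have hYge : 2 ≤ finrank F Y := by
      have hlt : Submodule.span F {y} < Y := by
        refine lt_of_le_of_ne le_sup_left ?_
        intro heq
        apply hcon
        rw [heq]
        exact Submodule.mem_sup_right (Submodule.mem_span_singleton_self a₁)
      have := Submodule.finrank_lt_finrank_of_lt hlt
      rw [finrank_span_singleton hy0] at this
      exact this
    have hfr : finrank F (fib i Y) = finrank F U := by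
      rw [Cfsg.Agent.Lib.Helper26.TWLeaf.finrank_fib, hUdim, Nat.add_sub_cancel]
      have : finrank F Y = 2 := le_antisymm hYle hYge
      rw [this, mul_comm]
    have heq : fib i Y = U := Submodule.eq_of_le_of_finrank_eq hfibY hfr
    exact hthin Y hYle (le_of_eq heq.symm)
  -- Step 3: `α' - 1 = vecMulVec y θ`
  have h3 : ∃ θ : Fin m → F, α' - 1 = Matrix.vecMulVec y θ := by
    have hc : ∀ j : Fin m, ∃ c : F, c • y = (α' - 1) *ᵥ Pi.single j 1 := fun j =>
      Submodule.mem_span_singleton.mp (h2 (Pi.single j 1))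
    choose θ hθ using hc
    refine ⟨θ, ?_⟩
    ext k j
    have := congrFun (hθ j) k
    rw [Matrix.mulVec_single_one, Matrix.col_apply, Pi.smul_apply, smul_eq_mul] at this
    rw [Matrix.vecMulVec_apply, ← this, mul_comm]
  obtain ⟨θ, hθ⟩ := h3
  have hα' : α' = 1 + Matrix.vecMulVec y θ := by rw [← hθ]; abel
  -- Step 4: the root groups
  have hmem : r₁'.elt 1 ∈ conjG h r₁.grp := by rw [hT]; exact r₁'.elt_mem_grp 1
  obtain ⟨x, ⟨c, rfl⟩, hx⟩ := mem_conjG.mp hmem
  have hx' : h * r₁.elt c = r₁'.elt 1 * h := by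
    rw [← hx]
    group
  have hmat := congrArg (fun g : GL (Idx (t + 1) m) F => (g : Matrix (Idx (t + 1) m) (Idx (t + 1) m) F)) hx'
  simp only [Units.val_mul, RD.elt_val, one_smul] at hmat
  rw [mul_add, mul_one, add_mul, one_mul, add_right_inj, hh] at hmat
  have hN1 : r₁.N = slot m (t + 1) i (Matrix.vecMulVec y r₁.η) := rfl
  have hN1' : r₁'.N = slot m (t + 1) i (Matrix.vecMulVec y r₁'.η) := by
    unfold RD.N rootN
    rw [hi, hy]
  rw [hN1, hN1', Matrix.mul_smul, slot_mul, slot_mul, ← slot_smul] at hmat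
  have hA := Cfsg.Agent.Lib.Helper6.TWLeaf.slot_injective i _ _ hmat
  -- compute both sides
  have hη'y : r₁'.η ⬝ᵥ y = 0 := by
    have := r₁'.h0
    rwa [hy] at this
  have e1 : α' * Matrix.vecMulVec y r₁.η = (1 + θ ⬝ᵥ y) • Matrix.vecMulVec y r₁.η := by
    rw [hα', add_mul, one_mul, Matrix.vecMulVec_mul_vecMulVec, add_smul, one_smul, Matrix.vecMulVec_smul]
  have e2 : Matrix.vecMulVec y r₁'.η * α' = Matrix.vecMulVec y r₁'.η := by
    rw [hα', mul_add, mul_one, Matrix.vecMulVec_mul_vecMulVec, hη'y, zero_smul]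
    have : Matrix.vecMulVec y (0 : Fin m → F) = 0 := by
      ext a b
      simp [Matrix.vecMulVec_apply]
    rw [this, add_zero]
  rw [e1, e2, smul_smul] at hA
  obtain ⟨k, hk⟩ : ∃ k, y k ≠ 0 := by
    by_contra hcon
    push Not at hcon
    exact hy0 (funext hcon)
  apply hη
  refine ⟨c * (1 + θ ⬝ᵥ y), ?_⟩
  funext j
  have := congrFun (congrFun hA k) j
  rw [Matrix.smul_apply, Matrix.vecMulVec_apply, Matrix.vecMulVec_apply, smul_eq_mul] at this
  rw [Pi.smul_apply, smul_eq_mul]
  have h5 : y k * (c * (1 + θ ⬝ᵥ y) * r₁.η j) = y k * r₁'.η j := by linear_combination this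
  exact (mul_left_cancel₀ hk h5).symm

end Cfsg.Agent.Lib.Helper28.TWLeaf
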