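import Mathlib
import Cfsg.Agent.Lib.Helper8.TWS2ALemA
import Cfsg.Agent.Lib.Helper13.TWU2AL2b
import Cfsg.Agent.Lib.Helper9.TWST3
import Cfsg.Agent.Lib.Helper23.TWG1

/-!
# S5668 (C7 symplectic; owner helper5) — STAGE II, CASE A (owner helper8): leaf (L2) `stable_TDS` (helper28)

Port of `Helper28.TWU2AMain.stable_TD` (S5672).  `wform_mul_zero_gen`: two matrices with the same weight `w ≠ 0`,
`w * w = 0`, at position `i` multiply to `0` (form-free version of helper13's `wform_mul_zero`); `stable_TDS`: the family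
`TDS X i y D w` (`y ≠ 0`) is an additive group stable under conjugation by `slot l Sp(A)`, `l ∉ D ∪ {i}`.
NB the hypothesis `hy0 : y ≠ 0` is NECESSARY (for `y = 0` the weight `N_y = 0` is vacuous and the family is not additive).
-/

set_option autoImplicit false
set_option linter.unusedSectionVars false
set_option linter.unusedVariables false

namespace Cfsg.Agent.Lib.Helper28.TWS2ALeaf
open Matrix Cfsg.Geo Cfsg.Agent.Lib.Helper18.AschA89 Cfsg.Agent.Lib.Helper8.TW
open Cfsg.Agent.Lib.Helper5.TWS Cfsg.Agent.Lib.Helper28.TWU2A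
open Cfsg.Agent.Lib.Helper25.SpT (sf sfv)
open Cfsg.Agent.Lib.Helper29.TWSOne Cfsg.Agent.Lib.Helper8.TWS2A

variable {F : Type*} [Field F] {t k : ℕ}

/-! ### closure properties of `WForm` -/

theorem wformS_zero (l : Fin t) (w : Matrix (Fin k) (Fin k) F) : WForm l w (0 : Matrix (Idx t k) (Idx t k) F) := by
  intro p p' a b
  simp

theorem wformS_add (l : Fin t) (w : Matrix (Fin k) (Fin k) F) (Ψ Ψ' : Matrix (Idx t k) (Idx t k) F)
    (h : WForm l w Ψ) (h' : WForm l w Ψ') : WForm l w (Ψ + Ψ') := by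
  intro p p' a b
  rw [Matrix.add_apply, Matrix.add_apply, add_mul, add_mul, h p p' a b, h' p p' a b]

theorem wformS_smul (l : Fin t) (w : Matrix (Fin k) (Fin k) F) (s : F) (Ψ : Matrix (Idx t k) (Idx t k) F)
    (h : WForm l w Ψ) : WForm l w (s • Ψ) := by
  intro p p' a b
  rw [Matrix.smul_apply, Matrix.smul_apply, smul_eq_mul, smul_eq_mul, mul_assoc, mul_assoc, h p p' a b]

theorem wformS_neg (l : Fin t) (w : Matrix (Fin k) (Fin k) F) (Ψ : Matrix (Idx t k) (Idx t k) F)
    (h : WForm l w Ψ) : WForm l w (-Ψ) := by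
  have := wformS_smul l w (-1) Ψ h
  rwa [neg_one_smul] at this

/-- a sum of `G x * h (x i)` with `G` independent of the `i`-th coordinate and `∑ h = 0` vanishes
(helper13's `sum_mul_line13`, without `Fintype F`) -/
theorem sum_mul_line28 (i : Fin t) (G : Idx t k → F) (hG : ∀ x c, G (Function.update x i c) = G x)
    (h : Fin k → F) (h0 : ∑ c, h c = 0) : ∑ x, G x * h (x i) = 0 := by
  classical
  let e := Equiv.funSplitAt i (Fin k)
  have he : ∀ (c : Fin k) (u : {j // j ≠ i} → Fin k), (e.symm (c, u)) i = c := by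
    intro c u
    simp [e, Equiv.funSplitAt, Equiv.piSplitAt]
  have hupd : ∀ (c c' : Fin k) (u : {j // j ≠ i} → Fin k),
      Function.update (e.symm (c, u)) i c' = e.symm (c', u) := by
    intro c c' u
    funext j
    by_cases hj : j = i
    · subst hj
      rw [Function.update_self, he]
    · rw [Function.update_of_ne hj]
      simp [e, Equiv.funSplitAt, Equiv.piSplitAt, hj]
  rw [← Equiv.sum_comp e.symm, Fintype.sum_prod_type, Finset.sum_comm]
  have : ∀ u : {j // j ≠ i} → Fin k, ∑ c, G (e.symm (c, u)) * h ((e.symm (c, u)) i) = 0 := by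
    intro u
    by_cases hk : Nonempty (Fin k)
    · obtain ⟨a₀⟩ := hk
      have h1 : ∀ c, G (e.symm (c, u)) * h ((e.symm (c, u)) i) = G (e.symm (a₀, u)) * h c := by
        intro c
        rw [he, ← hupd a₀ c u, hG]
      simp_rw [h1]
      rw [← Finset.mul_sum, h0, mul_zero]
    · rw [not_nonempty_iff] at hk
      exact Finset.sum_of_isEmpty _
  exact Finset.sum_eq_zero (fun u _ => this u)

/-- the normalised form of a weight `w` at position `i` -/
theorem wform_norm28 (i : Fin t) (w : Matrix (Fin k) (Fin k) F) (a₀ b₀ : Fin k) (Ψ : Matrix (Idx t k) (Idx t k) F)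
    (h : WForm i w Ψ) (x x' : Idx t k) :
    Ψ x x' * w a₀ b₀ = Ψ (Function.update x i a₀) (Function.update x' i b₀) * w (x i) (x' i) := by
  have := h (Function.update x i a₀) (Function.update x' i b₀) (x i) (x' i)
  rw [Function.update_self, Function.update_self, Function.update_idem,
    Function.update_idem, Function.update_eq_self, Function.update_eq_self] at this
  exact this

/-- two matrices with the same weight `w ≠ 0`, `w * w = 0`, at position `i` multiply to zero (form-free version of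
helper13's `wform_mul_zero`) -/
theorem wform_mul_zero_gen (i : Fin t) (w : Matrix (Fin k) (Fin k) F) (hw0 : w ≠ 0) (hww : w * w = 0)
    (Ψ Ψ' : Matrix (Idx t k) (Idx t k) F) (h : WForm i w Ψ) (h' : WForm i w Ψ') : Ψ * Ψ' = 0 := by
  classical
  obtain ⟨a₀, b₀, hn⟩ : ∃ a₀ b₀, w a₀ b₀ ≠ 0 := by
    by_contra hcon
    push Not at hcon
    exact hw0 (by ext a b; exact hcon a b)
  ext x x''
  rw [Matrix.zero_apply, Matrix.mul_apply]
  have hmul : (∑ x', Ψ x x' * Ψ' x' x'') * (w a₀ b₀ * w a₀ b₀) = 0 := by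
    rw [Finset.sum_mul]
    have hterm : ∀ x' : Idx t k, Ψ x x' * Ψ' x' x'' * (w a₀ b₀ * w a₀ b₀) =
        (Ψ (Function.update x i a₀) (Function.update x' i b₀) *
          Ψ' (Function.update x' i a₀) (Function.update x'' i b₀)) *
          (w (x i) (x' i) * w (x' i) (x'' i)) := by
      intro x'
      have e1 := wform_norm28 i w a₀ b₀ Ψ h x x'
      have e2 := wform_norm28 i w a₀ b₀ Ψ' h' x' x''
      calc Ψ x x' * Ψ' x' x'' * (w a₀ b₀ * w a₀ b₀)
          = (Ψ x x' * w a₀ b₀) * (Ψ' x' x'' * w a₀ b₀) := by ring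
        _ = _ := by rw [e1, e2]; ring
    simp_rw [hterm]
    apply sum_mul_line28 i
      (fun x' => Ψ (Function.update x i a₀) (Function.update x' i b₀) *
          Ψ' (Function.update x' i a₀) (Function.update x'' i b₀))
      _ (fun c => w (x i) c * w c (x'' i))
    · have := congrFun (congrFun hww (x i)) (x'' i)
      rw [Matrix.mul_apply] at this
      exact this
    · intro x' c
      simp only [Function.update_idem]
  exact (mul_eq_zero.mp hmul).resolve_right (mul_ne_zero hn hn)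

/-- `wform_mul_zero` for the weight `N_y`, `y ≠ 0` -/
theorem wform_mul_zeroS (hk : Even k) (i : Fin t) (y : Fin k → F) (hy0 : y ≠ 0) (Ψ Ψ' : Matrix (Idx t k) (Idx t k) F)
    (h : WForm i (Nz y) Ψ) (h' : WForm i (Nz y) Ψ') : Ψ * Ψ' = 0 :=
  wform_mul_zero_gen i (Nz y) (Nz_ne_zero hk hy0) (Nz_sq y) Ψ Ψ' h h'

/-- `WForm l w` is stable under `Ψ ↦ slot l' A * Ψ * slot l' B`, `l' ≠ l` (helper13's `wform_slot_mul`, without `Fintype F`) -/
theorem wform_slot_mul28 (l l' : Fin t) (hll : l' ≠ l) (w : Matrix (Fin k) (Fin k) F) (A B : Matrix (Fin k) (Fin k) F)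
    (Ψ : Matrix (Idx t k) (Idx t k) F) (h : WForm l w Ψ) : WForm l w (slot k t l' A * Ψ * slot k t l' B) := by
  intro p p' a b
  have key : ∀ x x' : Idx t k, (slot k t l' A * Ψ * slot k t l' B) x x' =
      ∑ c, ∑ d, A (x l') c * Ψ (Function.update x l' c) (Function.update x' l' d) * B d (x' l') := by
    intro x x'
    rw [mul_slot_apply8]
    simp only [slot_mul_apply8, Finset.sum_mul]
    exact Finset.sum_comm
  rw [key, key, Finset.sum_mul, Finset.sum_mul]
  apply Finset.sum_congr rfl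
  intro c _
  rw [Finset.sum_mul, Finset.sum_mul]
  apply Finset.sum_congr rfl
  intro d _
  rw [Function.update_of_ne hll, Function.update_of_ne hll]
  have h1 := h (Function.update p l' c) (Function.update p' l' d) a b
  rw [Function.update_of_ne hll.symm, Function.update_of_ne hll.symm] at h1
  rw [Function.update_comm hll.symm (f := p), Function.update_comm hll.symm (f := p')]
  calc A (p l') c * Ψ (Function.update (Function.update p l' c) l a) (Function.update (Function.update p' l' d) l b) * B d (p' l') *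
        w (p l) (p' l)
      = A (p l') c * (Ψ (Function.update (Function.update p l' c) l a) (Function.update (Function.update p' l' d) l b) *
        w (p l) (p' l)) * B d (p' l') := by ring
    _ = A (p l') c * (Ψ (Function.update p l' c) (Function.update p' l' d) * w a b) * B d (p' l') := by rw [h1]
    _ = _ := by ring

/-- `slot l g ∈ HS` for `g ∈ Sp(A)` -/
theorem slotGL_mem_HS28 (hk : Even k) (l : Fin t) (g : GL (Fin k) F) (hg : g ∈ GSA k F) : slotGL l g ∈ HS t k F :=
  ⟨Cfsg.Agent.Lib.Helper23.TWLeaf.slotGL_mem_G l g, Cfsg.Agent.Lib.Helper9.TWST.slotGL_mem_GSV hk l hg⟩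

/-- **(L2)** (with the necessary `hy0 : y ≠ 0`) -/
theorem stable_TDS (hk : Even k) (X : Subgroup (GL (Idx t k) F)) (hHX : HS t k F ≤ X) (i : Fin t) (y : Fin k → F)
    (hy0 : y ≠ 0) (D : Finset (Fin t)) (w : Fin t → Matrix (Fin k) (Fin k) F) (l : Fin t) (hli : l ≠ i) (hlD : l ∉ D) :
    StableAtS l (TDS X i y D w) := by
  refine ⟨?_, ?_, ?_⟩
  · rintro Ψ Ψ' ⟨⟨g, hgX, hg⟩, hWi, hWD⟩ ⟨⟨g', hg'X, hg'⟩, hWi', hWD'⟩
    refine ⟨⟨g * g', X.mul_mem hgX hg'X, ?_⟩, wformS_add _ _ _ _ hWi hWi',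
      fun l' hl' => wformS_add _ _ _ _ (hWD l' hl') (hWD' l' hl')⟩
    rw [Units.val_mul, hg, hg', add_mul, mul_add, mul_add, one_mul, mul_one, one_mul,
      wform_mul_zeroS hk i y hy0 Ψ Ψ' hWi hWi']
    abel
  · rintro Ψ ⟨⟨g, hgX, hg⟩, hWi, hWD⟩
    refine ⟨⟨g⁻¹, X.inv_mem hgX, ?_⟩, wformS_neg _ _ _ hWi, fun l' hl' => wformS_neg _ _ _ (hWD l' hl')⟩
    have hsq : Ψ * Ψ = 0 := wform_mul_zeroS hk i y hy0 Ψ Ψ hWi hWi
    have h1 : (g : Matrix (Idx t k) (Idx t k) F) * (1 + -Ψ) = 1 := by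
      rw [hg, add_mul, mul_add, mul_add, one_mul, mul_one, one_mul, mul_neg, hsq]
      abel
    calc ((g⁻¹ : GL (Idx t k) F) : Matrix (Idx t k) (Idx t k) F)
        = ((g⁻¹ : GL (Idx t k) F) : Matrix (Idx t k) (Idx t k) F) * ((g : Matrix (Idx t k) (Idx t k) F) * (1 + -Ψ)) := by
          rw [h1, mul_one]
      _ = 1 + -Ψ := by rw [← mul_assoc, ← Units.val_mul, inv_mul_cancel, Units.val_one, one_mul]
  · rintro g hg Ψ ⟨⟨x, hxX, hx⟩, hWi, hWD⟩
    have hgX : slotGL l g ∈ X := hHX (slotGL_mem_HS28 hk l g hg)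
    refine ⟨⟨slotGL l g * x * (slotGL l g)⁻¹, X.mul_mem (X.mul_mem hgX hxX) (X.inv_mem hgX), ?_⟩,
      wform_slot_mul28 i l hli _ _ _ Ψ hWi,
      fun l' hl' => wform_slot_mul28 l' l (fun h => hlD (h ▸ hl')) _ _ _ Ψ (hWD l' hl')⟩
    have hinv : (((slotGL l g)⁻¹ : GL (Idx t k) F) : Matrix (Idx t k) (Idx t k) F) =
        slot k t l ((g⁻¹ : GL (Fin k) F) : Matrix (Fin k) (Fin k) F) := rfl
    rw [Units.val_mul, Units.val_mul, hx, hinv, slotGL_val, mul_add, add_mul, mul_one, slot_mul,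
      ← Units.val_mul, mul_inv_cancel, Units.val_one, slot_one]

end Cfsg.Agent.Lib.Helper28.TWS2ALeaf
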