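import Mathlib
import Cfsg.Agent.Lib.Helper5.TWS.Defs
import Cfsg.Agent.Lib.Helper5.TWS.StageIDefs
import Cfsg.Agent.Lib.Helper26.TWFibA
import Cfsg.Agent.Lib.Helper26.TWFibB

/-!
# S5668 Stage I, block I4, packet (I5) (helper28): symplectic port of `Helper28.TWUI5`

`exists_maxCfgS` (I5-max), `L_eq_L0` (I5a), `exists_perp` (I5-y): exact signatures of `notes/S5668_I_leaves.lean`.  The form-free (I5b) `Wf_inf_Wf_same` and (I5c) `finrank_Wf_inf_Wf`
are `Cfsg.Agent.Lib.Helper28.TWULeaf.Wf_inf_Wf_same` / `.finrank_Wf_inf_Wf` (module `Helper28.TWUI5`), restated here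
as `Wf_inf_Wf_sameS` / `finrank_Wf_inf_WfS` so that the symplectic tree does not import the unitary layer.
-/

set_option autoImplicit false
set_option linter.unusedSectionVars false
set_option linter.unusedVariables false

namespace Cfsg.Agent.Lib.Helper28.TWSLeaf
open Matrix Cfsg.Geo Cfsg.Agent.Lib.Helper18.AschA89 Cfsg.Agent.Lib.Helper8.TW Cfsg.Agent.Lib.Helper5.TWS
open Cfsg.Agent.Lib.Helper25.SpT (sf Jm sfv)

variable {F : Type*} [Field F] [Fintype F] {t k : ℕ}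

/-- I5-max (S) -/
theorem exists_maxCfgS (X : Subgroup (GL (Idx t k) F))
    (h : ∃ g ∈ X, g ∉ Gstd t k F ∧ ∃ (r₂ : RD t k F), RS r₂ ∧ ∃ (j : Fin t) (z : Fin k → F), z ≠ 0 ∧
      Wf j z ⊓ img g r₂.W ≠ ⊥) :
    ∃ (g : GL (Idx t k) F) (r₂ : RD t k F) (j : Fin t) (z : Fin k → F), MaxCfgS X g r₂ j z := by
  classical
  let P : ℕ → Prop := fun n => ∃ g ∈ X, g ∉ Gstd t k F ∧ ∃ (r₂ : RD t k F), RS r₂ ∧
    ∃ (j : Fin t) (z : Fin k → F), z ≠ 0 ∧ Wf j z ⊓ img g r₂.W ≠ ⊥ ∧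
      Module.finrank F (Wf j z ⊓ img g r₂.W : Submodule F (Idx t k → F)) = n
  have hbd : ∀ n, P n → n ≤ Module.finrank F (Idx t k → F) := by
    rintro n ⟨g, _, _, r₂, _, j, z, _, _, rfl⟩
    exact Submodule.finrank_le _
  have hex : ∃ n, P n := by
    obtain ⟨g, hgX, hgG, r₂, hr₂, j, z, hz, hne⟩ := h
    exact ⟨_, g, hgX, hgG, r₂, hr₂, j, z, hz, hne, rfl⟩
  obtain ⟨n, hn, hmax⟩ : ∃ n, P n ∧ ∀ l, P l → l ≤ n := by
    refine ⟨Nat.findGreatest P (Module.finrank F (Idx t k → F)), ?_, ?_⟩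
    · obtain ⟨n, hn⟩ := hex
      exact Nat.findGreatest_spec (hbd n hn) hn
    · intro l hl
      exact Nat.le_findGreatest (hbd l hl) hl
  obtain ⟨g, hgX, hgG, r₂, hr₂, j, z, hz, hne, hfr⟩ := hn
  refine ⟨g, r₂, j, z, hgX, hgG, hr₂, hz, hne, ?_⟩
  intro g' hg'X hg'G r' hr' j' z' hz'
  by_cases hb : Wf j' z' ⊓ img g' r'.W = ⊥
  · rw [hb, finrank_bot]
    exact Nat.zero_le _
  · rw [hfr]
    exact hmax _ ⟨g', hg'X, hg'G, r', hr', j', z', hz', hb, rfl⟩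

/-- I5a (M) `L = L₀` -/
theorem L_eq_L0 {X : Subgroup (GL (Idx t k) F)} (c : CtxS X) (g : GL (Idx t k) F) (r₂ : RD t k F) (j : Fin t)
    (z : Fin k → F) (M : MaxCfgS X g r₂ j z) (r₁ r₃ : RD t k F) (hr₁ : RS r₁) (x : GL (Idx t k) F)
    (h1 : r₁.i = j) (hz : sf z r₁.y = 0) (K : KeyS g r₁ r₂ x r₃) :
    img g r₂.W ⊓ r₁.C = Wf j z ⊓ img g r₂.W ∧ Wf j z ⊓ img g r₂.W ≤ r₃.W := by
  -- `Wf j z ≤ C₁`
  have hWC : Wf j z ≤ r₁.C := by
    change Wf j z ≤ Cf r₁.i r₁.η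
    rw [h1, hr₁]
    apply Cfsg.Agent.Lib.Helper26.TWLeaf.fib_mono
    rw [Submodule.span_singleton_le_iff_mem, mem_kerF, Cfsg.Agent.Lib.Helper25.SpT.sfv_dot]
    exact hz
  have hle1 : Wf j z ⊓ img g r₂.W ≤ img g r₂.W ⊓ r₁.C :=
    le_inf inf_le_right (inf_le_left.trans hWC)
  have hle2 : img g r₂.W ⊓ r₁.C ≤ r₃.W ⊓ img g r₂.W := le_inf K.h2 inf_le_left
  have hfr : Module.finrank F (r₃.W ⊓ img g r₂.W : Submodule F (Idx t k → F)) ≤
      Module.finrank F (Wf j z ⊓ img g r₂.W : Submodule F (Idx t k → F)) :=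
    M.hmax g M.hgX M.hgG r₂ M.hr₂ r₃.i r₃.y r₃.hy
  have heq : Wf j z ⊓ img g r₂.W = r₃.W ⊓ img g r₂.W :=
    Submodule.eq_of_le_of_finrank_le (hle1.trans hle2) hfr
  refine ⟨le_antisymm ?_ hle1, ?_⟩
  · rw [heq]; exact hle2
  · rw [heq]; exact inf_le_left

/-- I5b (S) two different fibres at the same position meet trivially (form-free) -/
theorem Wf_inf_Wf_sameS (j : Fin t) (y z : Fin k → F) (hz : z ≠ 0) (h : ¬ ∃ a : F, y = a • z) : Wf j z ⊓ Wf j y = ⊥ := by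
  have hspan : (F ∙ z) ⊓ (F ∙ y) = (⊥ : Submodule F (Fin k → F)) := by
    rw [eq_bot_iff]
    rintro v ⟨hv1, hv2⟩
    rw [SetLike.mem_coe, Submodule.mem_span_singleton] at hv1 hv2
    obtain ⟨a, rfl⟩ := hv1
    obtain ⟨b, hb⟩ := hv2
    rw [Submodule.mem_bot]
    by_cases hb0 : b = 0
    · rw [← hb, hb0, zero_smul]
    · exfalso
      apply h
      refine ⟨b⁻¹ * a, ?_⟩
      rw [mul_smul, ← hb, smul_smul, inv_mul_cancel₀ hb0, one_smul]
  unfold Wf
  rw [← Cfsg.Agent.Lib.Helper26.TWLeaf.fib_inf, hspan, Cfsg.Agent.Lib.Helper26.TWLeaf.fib_bot]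

/-- I5c (S) box: fibres at different positions (form-free) -/
theorem finrank_Wf_inf_WfS (j j' : Fin t) (hjj : j ≠ j') (z z' : Fin k → F) (hz : z ≠ 0) (hz' : z' ≠ 0) :
    Module.finrank F (Wf j z ⊓ Wf j' z' : Submodule F (Idx t k → F)) = k ^ (t - 2) := by
  unfold Wf
  rw [Cfsg.Agent.Lib.Helper26.TWLeaf.finrank_fib_inf_fib j j' hjj, finrank_span_singleton hz,
    finrank_span_singleton hz', mul_one, mul_one]

/-- I5-y (S) `k ≥ 3`: some `y ⊥ z` outside `F z` -/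
theorem exists_perp (hk : Even k) (hk4 : 4 ≤ k) (z : Fin k → F) (hz0 : z ≠ 0) :
    ∃ y : Fin k → F, y ≠ 0 ∧ sf y z = 0 ∧ ¬ ∃ a : F, y = a • z := by
  classical
  -- the functional `a ↦ sf a z`
  let φ : (Fin k → F) →ₗ[F] F :=
    { toFun := fun a => sf a z
      map_add' := fun a b => Cfsg.Agent.Lib.Helper25.SpT.sf_add_left a b z
      map_smul' := fun c a => by
        rw [RingHom.id_apply, smul_eq_mul]
        exact Cfsg.Agent.Lib.Helper25.SpT.sf_smul_left c a z }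
  have hrn : Module.finrank F (LinearMap.range φ) + Module.finrank F (LinearMap.ker φ) = k := by
    rw [LinearMap.finrank_range_add_finrank_ker, Module.finrank_fintype_fun_eq_card, Fintype.card_fin]
  have hr1 : Module.finrank F (LinearMap.range φ) ≤ 1 := by
    have := Submodule.finrank_le (LinearMap.range φ)
    rwa [Module.finrank_self] at this
  have hker : 3 ≤ Module.finrank F (LinearMap.ker φ) := by omega
  by_contra hcon0
  have hcon : ∀ y : Fin k → F, y ≠ 0 → sf y z = 0 → ∃ a : F, y = a • z := by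
    intro y hy0 hy
    by_contra hna
    exact hcon0 ⟨y, hy0, hy, hna⟩
  have hle : LinearMap.ker φ ≤ F ∙ z := by
    intro y hy
    rw [LinearMap.mem_ker] at hy
    by_cases hy0 : y = 0
    · rw [hy0]; exact Submodule.zero_mem _
    · obtain ⟨a, ha⟩ := hcon y hy0 hy
      rw [ha]
      exact Submodule.smul_mem _ _ (Submodule.mem_span_singleton_self z)
  have h1 : Module.finrank F (LinearMap.ker φ) ≤ 1 := by
    have := Submodule.finrank_mono hle
    rwa [finrank_span_singleton hz0] at this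
  omega

end Cfsg.Agent.Lib.Helper28.TWSLeaf
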