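import Mathlib
import Cfsg.Agent.Lib.Helper5.TWS.Defs
import Cfsg.Agent.Lib.Helper5.TWS.StageIDefs
import Cfsg.Agent.Lib.Helper16.TWImg

/-!
# S5668 Stage I, block I4, packet FR (helper28): symplectic port of `Helper28.TWUIFRcore`

`fr1S_of_key` = FR1 with the key (I3S `keyS`) as a hypothesis; `fr2S` (FR2) with the exact signature of
`notes/S5668_I_leaves.lean` (owner helper5).  The exact `fr1S` is in `TWSIFR.lean` (needs helper17's `keyS`).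
-/

set_option autoImplicit false
set_option linter.unusedSectionVars false
set_option linter.unusedVariables false

namespace Cfsg.Agent.Lib.Helper28.TWSLeaf
open Matrix Cfsg.Geo Cfsg.Agent.Lib.Helper18.AschA89 Cfsg.Agent.Lib.Helper8.TW Cfsg.Agent.Lib.Helper5.TWS
open Cfsg.Agent.Lib.Helper25.SpT (sf Jm sfv)

variable {F : Type*} [Field F] [Fintype F] {t k : ℕ}

/-- FR1 with the key as a hypothesis -/
theorem fr1S_of_key {X : Subgroup (GL (Idx t k) F)} (c : CtxS X)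
    (hkey : ∀ (g : GL (Idx t k) F), g ∈ X → ∀ (r₁ r₂ : RD t k F), RS r₁ → RS r₂ →
      ∃ (x : GL (Idx t k) F) (r₃ : RD t k F), KeyS g r₁ r₂ x r₃)
    (hδ : ∀ g ∈ X, g ∉ Gstd t k F → ∀ (r₂ : RD t k F), RS r₂ → ∀ (j : Fin t) (z : Fin k → F), z ≠ 0 →
      Wf j z ⊓ img g r₂.W = ⊥)
    (g : GL (Idx t k) F) (hgX : g ∈ X) (hgG : g ∉ Gstd t k F) (r₂ : RD t k F) (hr₂ : RS r₂) (i : Fin t)
    (y : Fin k → F) (hy0 : y ≠ 0) : img g r₂.W ⊓ Cf i (sfv y) = ⊥ := by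
  obtain ⟨x, r₃, K⟩ := hkey g hgX (srd c.hk i y hy0) r₂ (srd_RS c.hk i y hy0) hr₂
  have h2 : img g r₂.W ⊓ Cf i (sfv y) ≤ r₃.W := K.h2
  have h3 : Wf r₃.i r₃.y ⊓ img g r₂.W = ⊥ := hδ g hgX hgG r₂ hr₂ r₃.i r₃.y r₃.hy
  rw [eq_bot_iff, ← h3]
  exact le_inf h2 inf_le_left

/-- FR2 (M) -/
theorem fr2S {X : Subgroup (GL (Idx t k) F)} (c : CtxS X)
    (hfr1 : ∀ g ∈ X, g ∉ Gstd t k F → ∀ (r₂ : RD t k F), RS r₂ → ∀ (i : Fin t) (y : Fin k → F), y ≠ 0 →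
      img g r₂.W ⊓ Cf i (sfv y) = ⊥)
    (g : GL (Idx t k) F) (hgX : g ∈ X) (hgG : g ∉ Gstd t k F) (r₂ : RD t k F) (hr₂ : RS r₂) (i : Fin t)
    (y : Fin k → F) (hy0 : y ≠ 0) : Wf i y ⊓ img g r₂.C = ⊥ := by
  have hginvG : g⁻¹ ∉ Gstd t k F := fun h => hgG (by simpa using (Gstd t k F).inv_mem h)
  have h1 := hfr1 g⁻¹ (X.inv_mem hgX) hginvG (srd c.hk i y hy0) (srd_RS c.hk i y hy0) r₂.i r₂.y r₂.hy
  have hC : Cf r₂.i (sfv r₂.y) = r₂.C := by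
    change _ = Cf r₂.i r₂.η
    rw [hr₂]
  rw [hC] at h1
  have hW : (srd c.hk i y hy0).W = Wf i y := rfl
  rw [hW] at h1
  have h2 : img g (img g⁻¹ (Wf i y) ⊓ r₂.C) = Wf i y ⊓ img g r₂.C := by
    rw [Cfsg.Agent.Lib.Helper16.TWLeaf.img_inf, ← Cfsg.Agent.Lib.Helper16.TWLeaf.img_mul, mul_inv_cancel,
      Cfsg.Agent.Lib.Helper16.TWLeaf.img_one]
  rw [← h2, h1]
  unfold img
  exact Submodule.map_bot _

end Cfsg.Agent.Lib.Helper28.TWSLeaf
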