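import Mathlib
import Cfsg.Agent.Lib.Helper5.TWU.Defs
import Cfsg.Agent.Lib.Helper5.TWU.StageIDefs
import Cfsg.Agent.Lib.Helper16.TWImg

/-!
# S5672 Stage I market, packet FR (helper28): the cores

`fr1U_of_key` = FR1 with the key (I3U) as a hypothesis; `fr2U` (FR2) with the exact signature of
`notes/S5672_I_leaves.lean` (owner helper5).  The exact `fr1U` is in `TWUIFR.lean` (needs helper23's `keyU`).
-/

set_option autoImplicit false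
set_option linter.unusedSectionVars false
set_option linter.unusedVariables false

namespace Cfsg.Agent.Lib.Helper28.TWULeaf
open Matrix Cfsg.Geo Cfsg.Agent.Lib.Helper18.AschA89 Cfsg.Agent.Lib.Helper8.TW Cfsg.Agent.Lib.Helper5.TWU
open Cfsg.Agent.Lib.Helper20.UT (hv)

variable {F : Type*} [Field F] [Fintype F] {t k q : ℕ}

/-- FR1 with the key as a hypothesis -/
theorem fr1U_of_key {X : Subgroup (GL (Idx t k) F)} (c : CtxU q X)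
    (hkey : ∀ (g : GL (Idx t k) F), g ∈ X → ∀ (r₁ r₂ : RD t k F), RU q r₁ → RU q r₂ →
      ∃ (x : GL (Idx t k) F) (r₃ : RD t k F), KeyU c.hF g r₁ r₂ x r₃)
    (hδ : ∀ g ∈ X, g ∉ Gstd t k F → ∀ (r₂ : RD t k F), RU q r₂ → ∀ (j : Fin t) (z : Fin k → F), z ≠ 0 → hv q z z = 0 →
      Wf j z ⊓ img g r₂.W = ⊥)
    (g : GL (Idx t k) F) (hgX : g ∈ X) (hgG : g ∉ Gstd t k F) (r₂ : RD t k F) (hr₂ : RU q r₂) (i : Fin t)
    (y : Fin k → F) (hy0 : y ≠ 0) (hy : hv q y y = 0) : img g r₂.W ⊓ Cf i (dag q y) = ⊥ := by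
  obtain ⟨x, r₃, K⟩ := hkey g hgX (urd q i y hy0 hy) r₂ (urd_RU q i y hy0 hy) hr₂
  have h2 : img g r₂.W ⊓ Cf i (dag q y) ≤ r₃.W := K.h2
  have h3 : Wf r₃.i r₃.y ⊓ img g r₂.W = ⊥ := hδ g hgX hgG r₂ hr₂ r₃.i r₃.y r₃.hy K.hr₃.1
  rw [eq_bot_iff, ← h3]
  exact le_inf h2 inf_le_left

/-- FR2 (M) -/
theorem fr2U {X : Subgroup (GL (Idx t k) F)} (c : CtxU q X)
    (hfr1 : ∀ g ∈ X, g ∉ Gstd t k F → ∀ (r₂ : RD t k F), RU q r₂ → ∀ (i : Fin t) (y : Fin k → F), y ≠ 0 → hv q y y = 0 →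
      img g r₂.W ⊓ Cf i (dag q y) = ⊥)
    (g : GL (Idx t k) F) (hgX : g ∈ X) (hgG : g ∉ Gstd t k F) (r₂ : RD t k F) (hr₂ : RU q r₂) (i : Fin t)
    (y : Fin k → F) (hy0 : y ≠ 0) (hy : hv q y y = 0) : Wf i y ⊓ img g r₂.C = ⊥ := by
  have hginvG : g⁻¹ ∉ Gstd t k F := fun h => hgG (by simpa using (Gstd t k F).inv_mem h)
  have h1 := hfr1 g⁻¹ (X.inv_mem hgX) hginvG (urd q i y hy0 hy) (urd_RU q i y hy0 hy) r₂.i r₂.y r₂.hy hr₂.1
  have hC : Cf r₂.i (dag q r₂.y) = r₂.C := by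
    change _ = Cf r₂.i r₂.η
    rw [hr₂.2]
  rw [hC] at h1
  have hW : (urd q i y hy0 hy).W = Wf i y := rfl
  rw [hW] at h1
  have h2 : img g (img g⁻¹ (Wf i y) ⊓ r₂.C) = Wf i y ⊓ img g r₂.C := by
    rw [Cfsg.Agent.Lib.Helper16.TWLeaf.img_inf, ← Cfsg.Agent.Lib.Helper16.TWLeaf.img_mul, mul_inv_cancel,
      Cfsg.Agent.Lib.Helper16.TWLeaf.img_one]
  rw [← h2, h1]
  unfold img
  exact Submodule.map_bot _

end Cfsg.Agent.Lib.Helper28.TWULeaf
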