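import Mathlib
import Cfsg.Agent.Lib.Helper5.TWU.Defs
import Cfsg.Agent.Lib.Helper16.TWRootB
import Cfsg.Agent.Lib.Helper26.TWFibA
import Cfsg.Agent.Lib.Helper4.SUMT

/-!
# S5672 Stage I market, leaf UT9 `weyl` (helper28)

The Weyl element `u_y(c) u_{y₃}(c') u_y(c)` of the hyperbolic plane `⟨y, y₃⟩` at position `i`; exact signature of
`notes/S5672_I_leaves.lean` (owner helper5).
-/

set_option autoImplicit false
set_option linter.unusedSectionVars false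
set_option linter.unusedVariables false

namespace Cfsg.Agent.Lib.Helper28.TWULeaf
open Matrix Cfsg.Geo Cfsg.Agent.Lib.Helper18.AschA89 Cfsg.Agent.Lib.Helper8.TW Cfsg.Agent.Lib.Helper5.TWU
open Cfsg.Agent.Lib.Helper20.UT (hv)

variable {F : Type*} [Field F] [Fintype F] {t k q : ℕ}

/-- a root element is `slotGL` of the unipotent matrix `1 + c y ηᵀ` -/
lemma weyl_elt_eq (r : RD t k F) (c : F) :
    r.elt c = slotGL r.i (unip (c • Matrix.vecMulVec r.y r.η)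
      (Cfsg.Agent.Lib.Helper16.TWLeaf.vmv_sq r.y r.η r.h0 c)) := by
  apply Units.ext
  rw [slotGL_val, unip_val, RD.elt_val, slot_add, slot_one, slot_smul]
  rfl

lemma weyl_slotGL_mul (i : Fin t) (α β : GL (Fin k) F) : slotGL i (α * β) = slotGL i α * slotGL i β := by
  apply Units.ext
  rw [Units.val_mul, slotGL_val, slotGL_val, slotGL_val, Units.val_mul, slot_mul]

/-- the action of `1 + c y y†` on `A` -/
lemma weyl_mulVec (y v : Fin k → F) (c : F) :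
    (1 + c • Matrix.vecMulVec y (dag q y)) *ᵥ v = v + (c * hv q v y) • y := by
  rw [Matrix.add_mulVec, Matrix.one_mulVec, Matrix.smul_mulVec, Matrix.vecMulVec_mulVec,
    ← Cfsg.Agent.Lib.Helper20.UT.hv_eq_dot, op_smul_eq_smul, smul_smul]

theorem weyl (hF : Fintype.card F = q ^ 2) (i : Fin t) (y y₃ : Fin k → F) (hy0 : y ≠ 0) (hy : hv q y y = 0) (hy₃0 : y₃ ≠ 0)
    (hy₃ : hv q y₃ y₃ = 0) (h : hv q y y₃ ≠ 0) :
    ∃ w ∈ ugrp hF (urd q i y hy0 hy) ⊔ ugrp hF (urd q i y₃ hy₃0 hy₃), w ∈ Gstd t k F ∧ img w (Wf i y₃) = Wf i y := by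
  classical
  have hq0 : q ≠ 0 := by
    rintro rfl
    have : 2 ≤ Fintype.card F := Fintype.one_lt_card
    omega
  obtain ⟨c, hc0, hc⟩ := Cfsg.Agent.Lib.Helper4.SUMLeaf.exists_skew hF
  set e : F := hv q y₃ y with he
  have hebar : hv q y y₃ = e ^ q := by rw [he, Cfsg.Agent.Lib.Helper20.UT.hv_conj hF]
  have he0 : e ≠ 0 := by
    intro h0
    apply h
    rw [hebar, h0, zero_pow hq0]
  have heq0 : e ^ q ≠ 0 := pow_ne_zero q he0
  set d : F := c * e * e ^ q with hd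
  have hd0 : d ≠ 0 := mul_ne_zero (mul_ne_zero hc0 he0) heq0
  have hdq : d ^ q = -d := by
    rw [hd, mul_pow, mul_pow, hc, Cfsg.Agent.Lib.Helper20.UT.pow_q_pow_q' hF]
    ring
  set c' : F := -d⁻¹ with hc'
  have hc'q : c' ^ q = -c' := by
    rw [hc', Cfsg.Agent.Lib.Helper20.UT.neg_pow_q hF, inv_pow, hdq, inv_neg, neg_neg]
  have hc'd : c' * d = -1 := by
    rw [hc', neg_mul, inv_mul_cancel₀ hd0]
  have hm1 : (urd q i y hy0 hy).elt c ∈ ugrp hF (urd q i y hy0 hy) ⊔ ugrp hF (urd q i y₃ hy₃0 hy₃) :=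
    Subgroup.mem_sup_left (elt_mem_ugrp hF _ hc)
  have hm3 : (urd q i y₃ hy₃0 hy₃).elt c' ∈ ugrp hF (urd q i y hy0 hy) ⊔ ugrp hF (urd q i y₃ hy₃0 hy₃) :=
    Subgroup.mem_sup_right (elt_mem_ugrp hF _ hc'q)
  refine ⟨(urd q i y hy0 hy).elt c * (urd q i y₃ hy₃0 hy₃).elt c' * (urd q i y hy0 hy).elt c,
    Subgroup.mul_mem _ (Subgroup.mul_mem _ hm1 hm3) hm1, ?_, ?_⟩
  · exact Subgroup.mul_mem _ (Subgroup.mul_mem _
      (Cfsg.Agent.Lib.Helper16.TWLeaf.RD_elt_mem_H (urd q i y hy0 hy) c).1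
      (Cfsg.Agent.Lib.Helper16.TWLeaf.RD_elt_mem_H (urd q i y₃ hy₃0 hy₃) c').1)
      (Cfsg.Agent.Lib.Helper16.TWLeaf.RD_elt_mem_H (urd q i y hy0 hy) c).1
  · -- the three factors as `slotGL i`
    obtain ⟨a₁, ha₁⟩ : ∃ a₁ : GL (Fin k) F, a₁ = unip (c • Matrix.vecMulVec y (dag q y))
        (Cfsg.Agent.Lib.Helper16.TWLeaf.vmv_sq y (dag q y) (urd q i y hy0 hy).h0 c) := ⟨_, rfl⟩
    obtain ⟨a₃, ha₃⟩ : ∃ a₃ : GL (Fin k) F, a₃ = unip (c' • Matrix.vecMulVec y₃ (dag q y₃))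
        (Cfsg.Agent.Lib.Helper16.TWLeaf.vmv_sq y₃ (dag q y₃) (urd q i y₃ hy₃0 hy₃).h0 c') := ⟨_, rfl⟩
    have hact1 : ∀ v, (a₁ : Matrix (Fin k) (Fin k) F) *ᵥ v = v + (c * hv q v y) • y := by
      intro v; rw [ha₁, unip_val, weyl_mulVec]
    have hact3 : ∀ v, (a₃ : Matrix (Fin k) (Fin k) F) *ᵥ v = v + (c' * hv q v y₃) • y₃ := by
      intro v; rw [ha₃, unip_val, weyl_mulVec]
    have h1 : (urd q i y hy0 hy).elt c = slotGL i a₁ := by
      rw [ha₁]; exact weyl_elt_eq (urd q i y hy0 hy) c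
    have h3 : (urd q i y₃ hy₃0 hy₃).elt c' = slotGL i a₃ := by
      rw [ha₃]; exact weyl_elt_eq (urd q i y₃ hy₃0 hy₃) c'
    rw [h1, h3, ← weyl_slotGL_mul, ← weyl_slotGL_mul]
    unfold Wf
    rw [Cfsg.Agent.Lib.Helper26.TWLeaf.img_slot_fib, Submodule.map_span, Set.image_singleton,
      Matrix.toLin'_apply]
    have s1 : (a₁ : Matrix (Fin k) (Fin k) F) *ᵥ y₃ = y₃ + (c * e) • y := by
      rw [hact1, ← he]
    have h5 : hv q (y₃ + (c * e) • y) y₃ = c * e * e ^ q := by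
      rw [Cfsg.Agent.Lib.Helper20.UT.hv_add_left, Cfsg.Agent.Lib.Helper20.UT.hv_smul_left, hy₃, hebar,
        zero_add]
    have s2 : (a₃ : Matrix (Fin k) (Fin k) F) *ᵥ (y₃ + (c * e) • y) = (c * e) • y := by
      rw [hact3, h5, ← hd, hc'd]
      module
    have s3 : (a₁ : Matrix (Fin k) (Fin k) F) *ᵥ ((c * e) • y) = (c * e) • y := by
      rw [hact1, Cfsg.Agent.Lib.Helper20.UT.hv_smul_left, hy, mul_zero, mul_zero, zero_smul, add_zero]
    have hval : ((a₁ * a₃ * a₁ : GL (Fin k) F) : Matrix (Fin k) (Fin k) F) *ᵥ y₃ = (c * e) • y := by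
      rw [Units.val_mul, Units.val_mul, ← Matrix.mulVec_mulVec, ← Matrix.mulVec_mulVec, s1, s2, s3]
    rw [hval]
    congr 1
    exact Submodule.span_singleton_smul_eq (IsUnit.mk0 _ (mul_ne_zero hc0 he0)) y

end Cfsg.Agent.Lib.Helper28.TWULeaf
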