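import Cfsg.Agent.Lib.Helper28.U6Vec
set_option autoImplicit false

/-!
# Generation of `SU(6, 2)` by transvections, in coded form

A subgroup of `SU(6, 2)` containing the transvections of some codes, from which every isotropic code is reached by
the coded transvections, is everything.
-/

namespace Cfsg.Agent.Lib.Helper28.U6Gen
open Cfsg.Agent.Lib.Helper28.U6F4 Cfsg.Agent.Lib.Helper28.U6Vec Cfsg.Agent.Lib.Helper5.SUGen
  Cfsg.Agent.Lib.Helper5.HermBridge

theorem toF4_eq_zero : ∀ a : Fin 4, toF4 a.val = 0 → a.val = 0 := by decide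

theorem hN_eq_zero_iff (x v : ℕ) : hN x v = 0 ↔ Cfsg.hermForm 6 F4 2 (dec x) (dec v) = 0 := by
  obtain ⟨e, l⟩ := toF4_hN x v
  rw [← e]
  constructor
  · intro h; rw [h]; rfl
  · intro h; exact toF4_eq_zero ⟨hN x v, l⟩ h

theorem dec_tvN' (x v : ℕ) (hx : hN x x = 0) : dec (tvN x v) = av (tv x) (dec v) := by
  rw [av_tv x hx, dec_tvN]

theorem hN_tvN (x v : ℕ) (hx : hN x x = 0) (hv : hN v v = 0) : hN (tvN x v) (tvN x v) = 0 := by
  rw [hN_eq_zero_iff, dec_tvN' x v hx, av_iso, ← hN_eq_zero_iff]
  exact hv

/-- conjugating a transvection by a transvection -/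
theorem tv_conj (x v : ℕ) (hx : hN x x = 0) (hv : hN v v = 0) :
    tv (tvN x v) = tv x * tv v * (tv x)⁻¹ := by
  apply av_ext
  intro y
  rw [av_tv _ (hN_tvN x v hx hv), av_mul, av_mul, av_tv v hv, av_add, av_smul, av_av_inv, dec_tvN' x v hx]
  have h3 : Cfsg.hermForm 6 F4 2 (av (tv x)⁻¹ y) (dec v) = Cfsg.hermForm 6 F4 2 y (av (tv x) (dec v)) := by
    have := av_iso (tv x) (av (tv x)⁻¹ y) (dec v)
    rw [av_av_inv] at this
    exact this.symm
  rw [h3]

theorem dec_zero : dec 0 = 0 := by
  funext i
  revert i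
  decide

theorem tv_zero : tv 0 = 1 := by
  apply av_ext
  intro y
  rw [av_tv 0 (by decide), dec_zero, smul_zero, add_zero, av_one]

/-- the check of a certificate, with sets of codes as bit masks: each step `(x, v, w)` says that `w` is the image
of the known code `v` under the transvection of the generator `x`; the result is the final set -/
def chkM (gM : ℕ) : List (ℕ × ℕ × ℕ) → ℕ → Option ℕ
  | [], K => some K
  | t :: cert, K =>
    if gM.testBit t.1 && K.testBit t.2.1 && (tvN t.1 t.2.1 == t.2.2) then chkM gM cert (K ||| 2 ^ t.2.2)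
    else none

theorem chkM_sound (P : ℕ → Prop) (gM : ℕ) (hstep : ∀ x, gM.testBit x = true → ∀ v, P v → P (tvN x v)) :
    ∀ (cert : List (ℕ × ℕ × ℕ)) (K K' : ℕ), (∀ k, K.testBit k = true → P k) → chkM gM cert K = some K' →
      ∀ k, K'.testBit k = true → P k := by
  intro cert
  induction cert with
  | nil =>
    intro K K' hK h k hk
    unfold chkM at h
    rw [Option.some.injEq] at h
    rw [← h] at hk
    exact hK k hk
  | cons t cert ih =>
    intro K K' hK h
    unfold chkM at h
    split_ifs at h with hc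
    simp only [Bool.and_eq_true, beq_iff_eq] at hc
    obtain ⟨⟨h1, h2⟩, h3⟩ := hc
    have hw : P t.2.2 := by
      rw [← h3]
      exact hstep _ h1 _ (hK _ h2)
    apply ih (K ||| 2 ^ t.2.2) K' _ h
    intro k hk
    rw [Nat.testBit_or, Bool.or_eq_true, Nat.testBit_two_pow, decide_eq_true_eq] at hk
    rcases hk with hk | rfl
    · exact hK k hk
    · exact hw

/-- the bit mask of the codes of a list with a property -/
def maskOf (p : ℕ → Bool) (l : List ℕ) (m : ℕ) : ℕ := l.foldl (fun m c => if p c then m ||| 2 ^ c else m) m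

theorem testBit_maskOf (p : ℕ → Bool) (l : List ℕ) (m c : ℕ) (hc : c ∈ l) (hp : p c = true) :
    (maskOf p l m).testBit c = true := by
  have mono : ∀ (l : List ℕ) (m : ℕ), m.testBit c = true → (maskOf p l m).testBit c = true := by
    intro l
    induction l with
    | nil => intro m hm; exact hm
    | cons a l ih =>
      intro m hm
      show (maskOf p l (if p a then m ||| 2 ^ a else m)).testBit c = true
      apply ih
      split_ifs
      · rw [Nat.testBit_or, hm, Bool.true_or]
      · exact hm
  induction l generalizing m with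
  | nil => simp at hc
  | cons a l ih =>
    show (maskOf p l (if p a then m ||| 2 ^ a else m)).testBit c = true
    rcases List.mem_cons.mp hc with rfl | hc
    · apply mono
      rw [if_pos hp, Nat.testBit_or, Nat.testBit_two_pow_self, Bool.or_true]
    · exact ih _ hc

/-- a subgroup containing the transvections of generating codes contains all coded transvections -/
theorem tv_mem_of_cert (J : Subgroup SU6) (gM : ℕ) (cert : List (ℕ × ℕ × ℕ))
    (hiso : ∀ x, gM.testBit x = true → hN x x = 0) (hgen : ∀ x, gM.testBit x = true → tv x ∈ J)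
    (hchk : chkM gM cert (gM ||| 2 ^ 0) = some (maskOf (fun c => hN c c == 0) (List.range 4096) 0)) :
    ∀ c, c < 4096 → hN c c = 0 → tv c ∈ J := by
  have key := chkM_sound (fun c => hN c c = 0 ∧ tv c ∈ J) gM (by
    intro x hx v hv
    refine ⟨hN_tvN x v (hiso x hx) hv.1, ?_⟩
    rw [tv_conj x v (hiso x hx) hv.1]
    exact J.mul_mem (J.mul_mem (hgen x hx) hv.2) (J.inv_mem (hgen x hx))) cert _ _ (by
    intro k hk
    rw [Nat.testBit_or, Bool.or_eq_true, Nat.testBit_two_pow, decide_eq_true_eq] at hk
    rcases hk with hk | rfl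
    · exact ⟨hiso k hk, hgen k hk⟩
    · exact ⟨by decide, by rw [tv_zero]; exact J.one_mem⟩) hchk
  intro c hc h0
  exact (key c (testBit_maskOf _ _ 0 c (List.mem_range.mpr hc) (by rw [h0]; rfl))).2

theorem sq_eq_self (c : F4) (h : c ^ 2 = -c) : c = 0 ∨ c = 1 := by
  apply sq_eq_self_iff
  rw [← pow_two, h, neg_eq]

/-- a subgroup containing all coded transvections is everything -/
theorem eq_top_of_tv_mem (J : Subgroup SU6) (h : ∀ c, c < 4096 → hN c c = 0 → tv c ∈ J) : J = ⊤ := by
  have hf := herm_unitary (n := 6) hF4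
  rw [eq_top_iff, ← closure_transvections_eq_top hF4 (by norm_num) (by norm_num), Subgroup.closure_le]
  rintro A ⟨v, c, hvv, hA⟩
  have hAx : ∀ x, av A x = x + (c * Cfsg.hermForm 6 F4 2 x v) • v := by
    intro x; unfold av; rw [hA, ut_mulVec]
  by_cases hdeg : v = 0 ∨ c = 0
  · have hA1 : A = 1 := by
      apply av_ext
      intro x
      rw [hAx, av_one]
      rcases hdeg with h | h
      · rw [h, smul_zero, add_zero]
      · rw [h, zero_mul, zero_smul, add_zero]
    rw [hA1]
    exact J.one_mem
  push Not at hdeg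
  obtain ⟨hv0, hc0⟩ := hdeg
  have hskew : frobQ hF4 c = -c := by
    obtain ⟨x, hx⟩ := (hf.nondegenerate v hv0).1
    have h1 := av_iso A x x
    rw [hAx, Cfsg.Agent.Lib.Helper5.UForm.u_expand hf, hvv, mul_zero, add_zero, hf.herm v x, map_mul] at h1
    have h2 : (frobQ hF4 c + c) * (Cfsg.hermForm 6 F4 2 x v *
        frobQ hF4 (Cfsg.hermForm 6 F4 2 x v)) = 0 := by linear_combination h1
    rcases mul_eq_zero.mp h2 with h | h
    · linear_combination h
    · exfalso
      rcases mul_eq_zero.mp h with h' | h'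
      · exact hx h'
      · exact hx ((map_eq_zero (frobQ hF4)).mp h')
  rw [frobQ_apply] at hskew
  have hc1 : c = 1 := by
    rcases sq_eq_self c hskew with h | h
    · exact absurd h hc0
    · exact h
  have hiso : hN (enc v) (enc v) = 0 := by
    rw [hN_eq_zero_iff, dec_enc]; exact hvv
  have hAt : A = tv (enc v) := by
    apply av_ext
    intro x
    rw [hAx, av_tv _ hiso, dec_enc, hc1]
  rw [SetLike.mem_coe, hAt]
  exact h _ (enc_lt v) hiso

end Cfsg.Agent.Lib.Helper28.U6Gen
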