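import Cfsg.Agent.Lib.Helper28.U6Bfs
import Cfsg.Agent.Lib.Helper28.U6Card
import Cfsg.Agent.Lib.Helper28.TCU6W0Link
import Cfsg.Agent.Lib.Helper28.TC2Subst
set_option autoImplicit false
set_option maxRecDepth 100000

/-!
# The homomorphism from the presented group on `a, c, …, i, u` onto `PSU(6, 2)`
-/

namespace Cfsg.Agent.Lib.Helper28.U6Pi
open Cfsg.Agent.Lib.Helper28.U6F4 Cfsg.Agent.Lib.Helper28.U6Vec Cfsg.Agent.Lib.Helper28.U6Gen Cfsg.Agent.Lib.Helper28.TC2Subst Cfsg.Agent.Lib.Helper28.TCU6W0Link
  Cfsg.Agent.Lib.Helper5.SUGen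

/-- the generators -/
abbrev Gen : Type := Cfsg.Agent.Lib.Helper28.TCU6W0Def.Gen
/-- the presented group -/
abbrev PC : Type := PresentedGroup rels

/-- the codes of the vectors of the generators -/
def vc : Gen → ℕ
  | .a => 0
  | .c => 2457
  | .d => 1280
  | .e => 2304
  | .f => 1360
  | .g => 153
  | .h => 2448
  | .i => 85
  | .u => 233

theorem vc_iso (x : Gen) : hN (vc x) (vc x) = 0 := by
  cases x <;> decide

/-- the check that a relator acts as a scalar -/
def relChk (L : List (Gen × Bool)) : Bool :=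
  L.all (fun t => t.2) && [1, 2, 3].any (fun cN =>
    (List.range 6).all (fun j => walkN (L.map (fun t => vc t.1)) (4 ^ j) == smN cN (4 ^ j)))

theorem relChk_all : ∀ L ∈ relWords, relChk L = true := by decide +kernel

/-- the images of the generators -/
noncomputable def fgen (x : Gen) : Cfsg.PSU 6 F4 2 := QuotientGroup.mk (tv (vc x))

theorem eq_map_of_all (L : List (Gen × Bool)) (h : L.all (fun t => t.2) = true) :
    L = (L.map Prod.fst).map (fun b => (b, true)) := by
  induction L with
  | nil => rfl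
  | cons t L ih =>
    rw [List.all_cons, Bool.and_eq_true] at h
    obtain ⟨x, b⟩ := t
    have hb : b = true := h.1
    subst hb
    rw [List.map_cons, List.map_cons, ← ih h.2]

theorem lift_eq_one (L : List (Gen × Bool)) (h : relChk L = true) :
    FreeGroup.lift fgen (FreeGroup.mk L) = 1 := by
  unfold relChk at h
  rw [Bool.and_eq_true, List.any_eq_true] at h
  obtain ⟨h1, cN, hcN, h2⟩ := h
  have hlt : cN < 4 := by
    simp only [List.mem_cons, List.not_mem_nil, or_false] at hcN
    omega
  rw [eq_map_of_all L h1, lift_mk_pos]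
  set ps : List ℕ := L.map (fun t => vc t.1) with hps
  have e1 : ((L.map Prod.fst).map fgen).prod =
      (QuotientGroup.mk ((ps.map tv).prod) : Cfsg.PSU 6 F4 2) := by
    have : (L.map Prod.fst).map fgen = (ps.map tv).map (QuotientGroup.mk' (Subgroup.center SU6)) := by
      rw [hps, List.map_map, List.map_map, List.map_map]
      rfl
    rw [this, ← map_list_prod]
    rfl
  rw [e1]
  apply mk_eq_one_of_scalar _ (toF4 cN)
  apply scalar_of_basis
  intro j
  rw [← dec_basis j, av_prod ps (by
    intro p hp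
    rw [hps, List.mem_map] at hp
    obtain ⟨t, _, rfl⟩ := hp
    exact vc_iso t.1), ← dec_smN cN _ hlt]
  have := List.all_eq_true.mp h2 j.val (List.mem_range.mpr j.2)
  rw [beq_iff_eq] at this
  rw [this]

/-- the homomorphism onto `PSU(6, 2)` -/
theorem exists_pi : ∃ π : PC →* Cfsg.PSU 6 F4 2, ∀ b, π (PresentedGroup.of b) = fgen b :=
  exists_hom_of_words rels fgen relWords (fun r hr => (link.hrels r).mp hr)
    (fun L hL => lift_eq_one L (relChk_all L hL))

theorem gens_eq : Cfsg.Agent.Lib.Helper28.U6Bfs.gens = [vc .c, vc .d, vc .e, vc .f, vc .g, vc .h, vc .i, vc .u] := by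
  decide

theorem pi_surjective (π : PC →* Cfsg.PSU 6 F4 2) (hπ : ∀ b, π (PresentedGroup.of b) = fgen b) :
    Function.Surjective π := by
  have hJ : (π.range).comap (QuotientGroup.mk' (Subgroup.center SU6)) = ⊤ := by
    apply Cfsg.Agent.Lib.Helper28.U6Bfs.eq_top_of_gens
    intro x hx
    rw [gens_eq] at hx
    have key : ∀ b : Gen, tv (vc b) ∈ (π.range).comap (QuotientGroup.mk' (Subgroup.center SU6)) :=
      fun b => ⟨PresentedGroup.of b, hπ b⟩
    simp only [List.mem_cons, List.not_mem_nil, or_false] at hx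
    rcases hx with rfl | rfl | rfl | rfl | rfl | rfl | rfl | rfl
    all_goals exact key _
  intro y
  obtain ⟨A, rfl⟩ := QuotientGroup.mk_surjective y
  have : A ∈ (π.range).comap (QuotientGroup.mk' (Subgroup.center SU6)) := by rw [hJ]; exact Subgroup.mem_top A
  exact this

end Cfsg.Agent.Lib.Helper28.U6Pi
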