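import Cfsg.Agent.Lib.Helper28.U6F4
import Cfsg.Agent.Lib.Helper5.PSUSimple
set_option autoImplicit false

/-!
# Coded vectors of the six-dimensional unitary space over the field with four elements

A vector of `F4^6` is a natural number with six digits in base 4.  The unitary transvection with centre `v` is
computed on codes by `tvN v`, and this is related to the elements of `Cfsg.SU 6 F4 2`.
-/

namespace Cfsg.Agent.Lib.Helper28.U6Vec
open Cfsg.Agent.Lib.Helper28.U6F4 Cfsg.Agent.Lib.Helper5.SUGen Cfsg.Agent.Lib.Helper5.HermBridge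

/-- the `c`-th digit in base 4 -/
def dq (x c : ℕ) : ℕ := x / 4 ^ c % 4

theorem dq_lt (x c : ℕ) : dq x c < 4 := Nat.mod_lt _ (by norm_num)

/-- decoding a vector -/
def dec (p : ℕ) : Fin 6 → F4 := fun i => toF4 (dq p i.val)

/-- the coded Hermitian product `Σ x_i v_i²` -/
def hN (x v : ℕ) : ℕ :=
  mul4 (dq x 0) (mul4 (dq v 0) (dq v 0)) ^^^ mul4 (dq x 1) (mul4 (dq v 1) (dq v 1)) ^^^
    mul4 (dq x 2) (mul4 (dq v 2) (dq v 2)) ^^^ mul4 (dq x 3) (mul4 (dq v 3) (dq v 3)) ^^^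
    mul4 (dq x 4) (mul4 (dq v 4) (dq v 4)) ^^^ mul4 (dq x 5) (mul4 (dq v 5) (dq v 5))

/-- digits to number -/
def pack (d0 d1 d2 d3 d4 d5 : ℕ) : ℕ := d0 + 4 * d1 + 16 * d2 + 64 * d3 + 256 * d4 + 1024 * d5

/-- the transvection `x ↦ x + h(x, v) v` on codes -/
def tvN (v x : ℕ) : ℕ :=
  pack (dq x 0 ^^^ mul4 (hN x v) (dq v 0)) (dq x 1 ^^^ mul4 (hN x v) (dq v 1))
    (dq x 2 ^^^ mul4 (hN x v) (dq v 2)) (dq x 3 ^^^ mul4 (hN x v) (dq v 3))
    (dq x 4 ^^^ mul4 (hN x v) (dq v 4)) (dq x 5 ^^^ mul4 (hN x v) (dq v 5))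

/-- scalar multiplication on codes -/
def smN (l p : ℕ) : ℕ :=
  pack (mul4 l (dq p 0)) (mul4 l (dq p 1)) (mul4 l (dq p 2)) (mul4 l (dq p 3)) (mul4 l (dq p 4))
    (mul4 l (dq p 5))

theorem dq_pack {d0 d1 d2 d3 d4 d5 : ℕ} (h0 : d0 < 4) (h1 : d1 < 4) (h2 : d2 < 4) (h3 : d3 < 4)
    (h4 : d4 < 4) (h5 : d5 < 4) :
    dq (pack d0 d1 d2 d3 d4 d5) 0 = d0 ∧ dq (pack d0 d1 d2 d3 d4 d5) 1 = d1 ∧
    dq (pack d0 d1 d2 d3 d4 d5) 2 = d2 ∧ dq (pack d0 d1 d2 d3 d4 d5) 3 = d3 ∧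
    dq (pack d0 d1 d2 d3 d4 d5) 4 = d4 ∧ dq (pack d0 d1 d2 d3 d4 d5) 5 = d5 := by
  unfold dq pack
  norm_num
  omega

theorem pack_lt {d0 d1 d2 d3 d4 d5 : ℕ} (h0 : d0 < 4) (h1 : d1 < 4) (h2 : d2 < 4) (h3 : d3 < 4)
    (h4 : d4 < 4) (h5 : d5 < 4) : pack d0 d1 d2 d3 d4 d5 < 4096 := by
  unfold pack; omega

theorem toF4_hN (x v : ℕ) :
    toF4 (hN x v) = Cfsg.hermForm 6 F4 2 (dec x) (dec v) ∧ hN x v < 4 := by
  have sq : ∀ j, toF4 (mul4 (dq v j) (dq v j)) = toF4 (dq v j) ^ 2 ∧ mul4 (dq v j) (dq v j) < 4 := by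
    intro j
    obtain ⟨e, l⟩ := toF4_mul4' _ _ (dq_lt v j) (dq_lt v j)
    exact ⟨by rw [e, pow_two], l⟩
  have tm : ∀ j, toF4 (mul4 (dq x j) (mul4 (dq v j) (dq v j))) = toF4 (dq x j) * toF4 (dq v j) ^ 2 ∧
      mul4 (dq x j) (mul4 (dq v j) (dq v j)) < 4 := by
    intro j
    obtain ⟨e, l⟩ := toF4_mul4' _ _ (dq_lt x j) (sq j).2
    exact ⟨by rw [e, (sq j).1], l⟩
  obtain ⟨x1, k1⟩ := toF4_xor' _ _ (tm 0).2 (tm 1).2
  obtain ⟨x2, k2⟩ := toF4_xor' _ _ k1 (tm 2).2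
  obtain ⟨x3, k3⟩ := toF4_xor' _ _ k2 (tm 3).2
  obtain ⟨x4, k4⟩ := toF4_xor' _ _ k3 (tm 4).2
  obtain ⟨x5, k5⟩ := toF4_xor' _ _ k4 (tm 5).2
  refine ⟨?_, k5⟩
  unfold hN Cfsg.hermForm
  rw [x5, x4, x3, x2, x1, (tm 0).1, (tm 1).1, (tm 2).1, (tm 3).1, (tm 4).1, (tm 5).1, Fin.sum_univ_six]
  rfl

theorem dec_apply (p : ℕ) (i : Fin 6) : dec p i = toF4 (dq p i.val) := rfl

theorem dec_tvN (v x : ℕ) :
    dec (tvN v x) = dec x + (1 * Cfsg.hermForm 6 F4 2 (dec x) (dec v)) • dec v := by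
  obtain ⟨eh, lh⟩ := toF4_hN x v
  have dg : ∀ j, toF4 (dq x j ^^^ mul4 (hN x v) (dq v j)) =
      toF4 (dq x j) + toF4 (hN x v) * toF4 (dq v j) ∧ dq x j ^^^ mul4 (hN x v) (dq v j) < 4 := by
    intro j
    obtain ⟨e, l⟩ := toF4_mul4' _ _ lh (dq_lt v j)
    obtain ⟨e2, l2⟩ := toF4_xor' _ _ (dq_lt x j) l
    exact ⟨by rw [e2, e], l2⟩
  obtain ⟨p0, p1, p2, p3, p4, p5⟩ := dq_pack (dg 0).2 (dg 1).2 (dg 2).2 (dg 3).2 (dg 4).2 (dg 5).2
  funext i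
  rw [Pi.add_apply, Pi.smul_apply, smul_eq_mul, one_mul, ← eh, dec_apply, dec_apply, dec_apply]
  unfold tvN
  fin_cases i
  · show toF4 (dq _ 0) = _; rw [p0, (dg 0).1]
  · show toF4 (dq _ 1) = _; rw [p1, (dg 1).1]
  · show toF4 (dq _ 2) = _; rw [p2, (dg 2).1]
  · show toF4 (dq _ 3) = _; rw [p3, (dg 3).1]
  · show toF4 (dq _ 4) = _; rw [p4, (dg 4).1]
  · show toF4 (dq _ 5) = _; rw [p5, (dg 5).1]

theorem dec_smN (l p : ℕ) (hl : l < 4) : dec (smN l p) = toF4 l • dec p := by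
  have dg : ∀ j, toF4 (mul4 l (dq p j)) = toF4 l * toF4 (dq p j) ∧ mul4 l (dq p j) < 4 :=
    fun j => toF4_mul4' _ _ hl (dq_lt p j)
  obtain ⟨p0, p1, p2, p3, p4, p5⟩ := dq_pack (dg 0).2 (dg 1).2 (dg 2).2 (dg 3).2 (dg 4).2 (dg 5).2
  funext i
  rw [Pi.smul_apply, smul_eq_mul, dec_apply, dec_apply]
  unfold smN
  fin_cases i
  · show toF4 (dq _ 0) = _; rw [p0, (dg 0).1]
  · show toF4 (dq _ 1) = _; rw [p1, (dg 1).1]
  · show toF4 (dq _ 2) = _; rw [p2, (dg 2).1]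
  · show toF4 (dq _ 3) = _; rw [p3, (dg 3).1]
  · show toF4 (dq _ 4) = _; rw [p4, (dg 4).1]
  · show toF4 (dq _ 5) = _; rw [p5, (dg 5).1]

/-- the code of a vector -/
def enc (y : Fin 6 → F4) : ℕ :=
  pack (y 0).v.val (y 1).v.val (y 2).v.val (y 3).v.val (y 4).v.val (y 5).v.val

theorem enc_lt (y : Fin 6 → F4) : enc y < 4096 :=
  pack_lt (y 0).v.2 (y 1).v.2 (y 2).v.2 (y 3).v.2 (y 4).v.2 (y 5).v.2

theorem dec_enc (y : Fin 6 → F4) : dec (enc y) = y := by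
  obtain ⟨p0, p1, p2, p3, p4, p5⟩ :=
    dq_pack (y 0).v.2 (y 1).v.2 (y 2).v.2 (y 3).v.2 (y 4).v.2 (y 5).v.2
  funext i
  rw [dec_apply]
  unfold enc
  fin_cases i
  · show toF4 (dq _ 0) = _; rw [p0, toF4_val]; rfl
  · show toF4 (dq _ 1) = _; rw [p1, toF4_val]; rfl
  · show toF4 (dq _ 2) = _; rw [p2, toF4_val]; rfl
  · show toF4 (dq _ 3) = _; rw [p3, toF4_val]; rfl
  · show toF4 (dq _ 4) = _; rw [p4, toF4_val]; rfl
  · show toF4 (dq _ 5) = _; rw [p5, toF4_val]; rfl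

theorem hF4 : Fintype.card F4 = 2 ^ 2 := by rw [card_F4]; norm_num

/-- the special unitary group -/
abbrev SU6 : Type := ↥(Cfsg.SU 6 F4 2)

theorem exists_t (p : ℕ) (hp : hN p p = 0) :
    ∃ A : SU6, ∀ y, av A y = y + (1 * Cfsg.hermForm 6 F4 2 y (dec p)) • dec p := by
  have hv : Cfsg.hermForm 6 F4 2 (dec p) (dec p) = 0 := by
    rw [← (toF4_hN p p).1, hp]; rfl
  have hc : frobQ hF4 (1 : F4) = -1 := by
    rw [frobQ_apply, one_pow]; decide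
  obtain ⟨A, hA⟩ := exists_tv hF4 hv hc
  exact ⟨A, fun y => by unfold av; rw [hA, ut_mulVec]⟩

/-- the transvection with centre the vector of code `p` -/
noncomputable def tv (p : ℕ) : SU6 :=
  if hp : hN p p = 0 then Classical.choose (exists_t p hp) else 1

theorem av_tv (p : ℕ) (hp : hN p p = 0) (y : Fin 6 → F4) :
    av (tv p) y = y + (1 * Cfsg.hermForm 6 F4 2 y (dec p)) • dec p := by
  unfold tv
  rw [dif_pos hp]
  exact Classical.choose_spec (exists_t p hp) y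

/-- a word of transvections on codes -/
def walkN (ps : List ℕ) (x : ℕ) : ℕ := ps.foldr tvN x

theorem av_prod (ps : List ℕ) (hps : ∀ p ∈ ps, hN p p = 0) (x : ℕ) :
    av ((ps.map tv).prod) (dec x) = dec (walkN ps x) := by
  induction ps with
  | nil => simp [walkN, av_one]
  | cons p ps ih =>
    rw [List.map_cons, List.prod_cons, av_mul, ih (fun q hq => hps q (List.mem_cons_of_mem _ hq)),
      av_tv p (hps p List.mem_cons_self)]
    show _ = dec (tvN p (walkN ps x))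
    rw [dec_tvN]

/-- an element acting as a scalar is trivial modulo the centre -/
theorem mk_eq_one_of_scalar (A : SU6) (c : F4) (h : ∀ y, av A y = c • y) :
    (QuotientGroup.mk A : Cfsg.PSU 6 F4 2) = 1 := by
  rw [QuotientGroup.eq_one_iff, Subgroup.mem_center_iff]
  intro B
  apply av_ext
  intro y
  rw [av_mul, av_mul, h, h, av_smul]

theorem dec_basis (j : Fin 6) : dec (4 ^ j.val) = Pi.single j 1 := by
  revert j; decide

/-- acting as a scalar on the basis vectors is enough -/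
theorem scalar_of_basis (A : SU6) (c : F4) (h : ∀ j : Fin 6, av A (Pi.single j 1) = c • Pi.single j 1)
    (y : Fin 6 → F4) : av A y = c • y := by
  have hM : ((A : Matrix.SpecialLinearGroup (Fin 6) F4) : Matrix (Fin 6) (Fin 6) F4) = c • 1 := by
    ext i j
    have := congrFun (h j) i
    unfold av at this
    rw [Matrix.mulVec_single_one] at this
    rw [Matrix.smul_apply, Matrix.one_apply]
    simp only [Matrix.col_apply, Pi.smul_apply, Pi.single_apply, smul_eq_mul] at this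
    rw [this, smul_eq_mul]
  unfold av
  rw [hM, Matrix.smul_mulVec, Matrix.one_mulVec]

end Cfsg.Agent.Lib.Helper28.U6Vec
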